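import Mathlib.CategoryTheory.Abelian.Projective.Resolution
import Mathlib.Algebra.Homology.ShortComplex.ModuleCat
import Mathlib.Algebra.Category.ModuleCat.Projective

set_option autoImplicit false
universe v u

namespace Groth.Agent.Lib.Helper10

open CategoryTheory Limits

section General

variable {C : Type u} [Category.{v} C] [Abelian C]

set_option backward.defeqAttrib.useBackward true in
set_option backward.isDefEq.respectTransparency false in
/-- A chain complex of projectives which is exact in positive degrees, together with an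
augmentation `K₀ ⟶ Z` which is a cokernel of `K₁ ⟶ K₀`, is a projective resolution of `Z`. -/
noncomputable def projectiveResolutionOfExact (Z : C) (K : ChainComplex C ℕ)
    (hK : ∀ n, Projective (K.X n))
    (π₀ : K.X 0 ⟶ Z) (w : K.d 1 0 ≫ π₀ = 0) (h₀ : (ShortComplex.mk _ _ w).Exact) (hπ : Epi π₀)
    (h : ∀ n, K.ExactAt (n + 1)) : ProjectiveResolution Z where
  complex := K
  projective := hK
  π := (ChainComplex.toSingle₀Equiv _ _).symm ⟨π₀, w⟩
  quasiIso := ⟨fun n => by
    cases n
    · rw [ChainComplex.quasiIsoAt₀_iff, ShortComplex.quasiIso_iff_of_zeros']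
      · refine (ShortComplex.exact_and_epi_g_iff_of_iso ?_).2 ⟨h₀, by dsimp; infer_instance⟩
        exact ShortComplex.isoMk (Iso.refl _) (Iso.refl _) (Iso.refl _)
          (by dsimp; simp) (by dsimp; simp)
      · exact K.shape _ _ (by simp)
      all_goals rfl
    · rw [quasiIsoAt_iff_exactAt']
      · apply h
      · apply ChainComplex.exactAt_succ_single_obj⟩

@[simp] lemma projectiveResolutionOfExact_complex (Z : C) (K : ChainComplex C ℕ)
    (hK : ∀ n, Projective (K.X n))
    (π₀ : K.X 0 ⟶ Z) (w : K.d 1 0 ≫ π₀ = 0) (h₀ : (ShortComplex.mk _ _ w).Exact) (hπ : Epi π₀)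
    (h : ∀ n, K.ExactAt (n + 1)) :
    (projectiveResolutionOfExact Z K hK π₀ w h₀ hπ h).complex = K := rfl

@[simp] lemma projectiveResolutionOfExact_π_f_zero (Z : C) (K : ChainComplex C ℕ)
    (hK : ∀ n, Projective (K.X n))
    (π₀ : K.X 0 ⟶ Z) (w : K.d 1 0 ≫ π₀ = 0) (h₀ : (ShortComplex.mk _ _ w).Exact) (hπ : Epi π₀)
    (h : ∀ n, K.ExactAt (n + 1)) :
    (projectiveResolutionOfExact Z K hK π₀ w h₀ hπ h).π.f 0 = π₀ := by
  simp [projectiveResolutionOfExact]

end General

section Splice

variable {C : Type u} [Category.{v} C] [Abelian C]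

/-- Objects of the spliced complex. -/
def spliceX (P₀ : C) (Q : ChainComplex C ℕ) : ℕ → C
  | 0 => P₀
  | n + 1 => Q.X n

/-- Differentials of the spliced complex. -/
def spliceD (P₀ : C) (Q : ChainComplex C ℕ) (j : Q.X 0 ⟶ P₀) :
    ∀ n, spliceX P₀ Q (n + 1) ⟶ spliceX P₀ Q n
  | 0 => j
  | n + 1 => Q.d (n + 1) n

lemma splice_sq (P₀ : C) (Q : ChainComplex C ℕ) (j : Q.X 0 ⟶ P₀) (hj : Q.d 1 0 ≫ j = 0) (n : ℕ) :
    spliceD P₀ Q j (n + 1) ≫ spliceD P₀ Q j n = 0 := by
  cases n with
  | zero => exact hj
  | succ n => exact Q.d_comp_d _ _ _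

/-- The spliced complex `⋯ ⟶ Q₁ ⟶ Q₀ ⟶ P₀`. -/
def spliceComplex (P₀ : C) (Q : ChainComplex C ℕ) (j : Q.X 0 ⟶ P₀) (hj : Q.d 1 0 ≫ j = 0) :
    ChainComplex C ℕ :=
  ChainComplex.of (spliceX P₀ Q) (spliceD P₀ Q j) (splice_sq P₀ Q j hj)

lemma spliceComplex_d_zero (P₀ : C) (Q : ChainComplex C ℕ) (j : Q.X 0 ⟶ P₀)
    (hj : Q.d 1 0 ≫ j = 0) : (spliceComplex P₀ Q j hj).d 1 0 = j :=
  ChainComplex.of_d (spliceX P₀ Q) (spliceD P₀ Q j) 0

lemma spliceComplex_d_succ (P₀ : C) (Q : ChainComplex C ℕ) (j : Q.X 0 ⟶ P₀)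
    (hj : Q.d 1 0 ≫ j = 0) (n : ℕ) : (spliceComplex P₀ Q j hj).d (n + 2) (n + 1) = Q.d (n + 1) n :=
  ChainComplex.of_d (spliceX P₀ Q) (spliceD P₀ Q j) (n + 1)

set_option backward.defeqAttrib.useBackward true in
set_option backward.isDefEq.respectTransparency false in
/-- Given a short exact sequence `0 ⟶ K ⟶ P₀ ⟶ Z ⟶ 0` with `P₀` projective and a projective
resolution `Qc ⟶ K` (in unbundled form), the spliced complex is a projective resolution of `Z`. -/
noncomputable def spliceResolution' {Z K P₀ : C} (hP₀ : Projective P₀) (i : K ⟶ P₀) (p : P₀ ⟶ Z)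
    (w : i ≫ p = 0) (hS : (ShortComplex.mk i p w).ShortExact)
    (Qc : ChainComplex C ℕ) (hQ : ∀ n, Projective (Qc.X n)) (q : Qc.X 0 ⟶ K)
    (wq : Qc.d 1 0 ≫ q = 0) (hq₀ : (ShortComplex.mk _ _ wq).Exact) (hq : Epi q)
    (hex : ∀ n, (ShortComplex.mk _ _ (Qc.d_comp_d (n + 2) (n + 1) n)).Exact) :
    ProjectiveResolution Z :=
  have hj : Qc.d 1 0 ≫ q ≫ i = 0 := by rw [← Category.assoc, wq, zero_comp]
  have h1 : (q ≫ i) ≫ p = 0 := by rw [Category.assoc, w, comp_zero]
  projectiveResolutionOfExact Z (spliceComplex P₀ Qc (q ≫ i) hj)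
    (fun n => by
      cases n with
      | zero => exact hP₀
      | succ n => exact hQ n)
    p (by rw [spliceComplex_d_zero]; exact h1)
    (by
      let α : ShortComplex.mk ((spliceComplex P₀ Qc (q ≫ i) hj).d 1 0) p
          (by rw [spliceComplex_d_zero]; exact h1) ⟶ ShortComplex.mk i p w :=
        { τ₁ := q
          τ₂ := 𝟙 _
          τ₃ := 𝟙 _
          comm₁₂ := by
            dsimp
            rw [spliceComplex_d_zero]
            exact (Category.comp_id _).symm
          comm₂₃ := by
            dsimp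
            exact (Category.id_comp _).trans (Category.comp_id _).symm }
      have : Epi α.τ₁ := hq
      have : IsIso α.τ₂ := by dsimp [α]; infer_instance
      have : Mono α.τ₃ := by dsimp [α]; infer_instance
      rw [ShortComplex.exact_iff_of_epi_of_isIso_of_mono α]
      exact hS.exact)
    hS.epi_g
    (fun n => by
      rw [HomologicalComplex.exactAt_iff' _ (n + 1 + 1) (n + 1) n (by simp) (by simp)]
      cases n with
      | zero =>
        have hmono : Mono i := hS.mono_f
        let α : ShortComplex.mk _ _ wq ⟶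
            HomologicalComplex.sc' (spliceComplex P₀ Qc (q ≫ i) hj) 2 1 0 :=
          { τ₁ := 𝟙 _
            τ₂ := 𝟙 _
            τ₃ := i
            comm₁₂ := by
              dsimp
              rw [spliceComplex_d_succ]
              exact (Category.id_comp _).trans (Category.comp_id _).symm
            comm₂₃ := by
              dsimp
              rw [spliceComplex_d_zero]
              exact (Category.id_comp _) }
        have : Epi α.τ₁ := by dsimp [α]; infer_instance
        have : IsIso α.τ₂ := by dsimp [α]; infer_instance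
        have : Mono α.τ₃ := hmono
        rw [← ShortComplex.exact_iff_of_epi_of_isIso_of_mono α]
        exact hq₀
      | succ n =>
        refine (ShortComplex.exact_iff_of_iso ?_).1 (hex n)
        refine ShortComplex.isoMk (Iso.refl _) (Iso.refl _) (Iso.refl _) ?_ ?_
        · dsimp
          rw [spliceComplex_d_succ]
          exact (Category.id_comp _).trans (Category.comp_id _).symm
        · dsimp
          rw [spliceComplex_d_succ]
          exact (Category.id_comp _).trans (Category.comp_id _).symm)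

set_option backward.isDefEq.respectTransparency false in
/-- Bundled version of `spliceResolution'`. -/
noncomputable def spliceResolution {Z K P₀ : C} (hP₀ : Projective P₀) (i : K ⟶ P₀) (p : P₀ ⟶ Z)
    (w : i ≫ p = 0) (hS : (ShortComplex.mk i p w).ShortExact) (Q : ProjectiveResolution K) :
    ProjectiveResolution Z :=
  spliceResolution' hP₀ i p w hS Q.complex Q.projective (Q.π.f 0) Q.complex_d_comp_π_f_zero
    Q.exact₀ inferInstance Q.exact_succ

lemma spliceResolution_complex {Z K P₀ : C} (hP₀ : Projective P₀) (i : K ⟶ P₀) (p : P₀ ⟶ Z)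
    (w : i ≫ p = 0) (hS : (ShortComplex.mk i p w).ShortExact) (Q : ProjectiveResolution K) :
    (spliceResolution hP₀ i p w hS Q).complex =
      spliceComplex P₀ Q.complex (Q.π.f 0 ≫ i)
        (by rw [← Category.assoc, Q.complex_d_comp_π_f_zero, zero_comp]) := rfl

end Splice

end Groth.Agent.Lib.Helper10
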