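import Mathlib
import Groth.Prelude.Def_Omega3
import Groth.Agent.Lib.Helper1.Thickening

/-!
# Universal first order thickenings: general lemmas

Solutions of lifting problems against a triple `(i : Z ⟶ Z', h' : Z' ⟶ X)`; local-to-global
principle on the test scheme; invariance under isomorphisms, open immersions of the base,
restriction to opens; uniqueness of universal thickenings.
-/

set_option autoImplicit false
universe u
open CategoryTheory CategoryTheory.Limits AlgebraicGeometry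

namespace Groth.Agent.Lib.Helper10.UnivThick

variable {Z Z' X : Scheme.{u}}

/-- `a'` solves the lifting problem `(j, b, a)` against the triple `(i, h')`. -/
def IsSol {T T' : Scheme.{u}} (i : Z ⟶ Z') (h' : Z' ⟶ X) (j : T ⟶ T') (b : T' ⟶ X) (a : T ⟶ Z)
    (a' : T' ⟶ Z') : Prop :=
  j ≫ a' = a ≫ i ∧ a' ≫ h' = b

theorem IsSol.restrict {T T' T₁ V : Scheme.{u}} {i : Z ⟶ Z'} {h' : Z' ⟶ X} {j : T ⟶ T'}
    {b : T' ⟶ X} {a : T ⟶ Z} {a' : T' ⟶ Z'} (hs : IsSol i h' j b a a') (c : V ⟶ T')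
    (j₁ : T₁ ⟶ V) (c₀ : T₁ ⟶ T) (w : j₁ ≫ c = c₀ ≫ j) :
    IsSol i h' j₁ (c ≫ b) (c₀ ≫ a) (c ≫ a') := by
  refine ⟨?_, ?_⟩
  · rw [← Category.assoc, w, Category.assoc, hs.1, Category.assoc]
  · rw [Category.assoc, hs.2]

theorem isUnivThickening_iff (h : Z ⟶ X) (i : Z ⟶ Z') (h' : Z' ⟶ X) :
    OmegaSh.IsUnivThickening h i h' ↔ MoreMor.IsFirstOrderThickening i ∧ i ≫ h' = h ∧
      ∀ (T T' : Scheme.{u}) (j : T ⟶ T') (b : T' ⟶ X) (a : T ⟶ Z),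
        MoreMor.IsFirstOrderThickening j → j ≫ b = a ≫ h → ∃! a' : T' ⟶ Z', IsSol i h' j b a a' :=
  Iff.rfl

section FOT

variable {T T' : Scheme.{u}} {j : T ⟶ T'}

theorem fot_surjective (hj : MoreMor.IsFirstOrderThickening j) : Function.Surjective j := by
  have := hj.1.2
  exact j.surjective

theorem fot_injective (hj : MoreMor.IsFirstOrderThickening j) : Function.Injective j := by
  have := hj.1.1
  exact j.isClosedEmbedding.injective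

/-- Opens of `T` and `T'` correspond for a first order thickening. -/
theorem fot_exists_opens (hj : MoreMor.IsFirstOrderThickening j) (W : T.Opens) :
    ∃ W' : T'.Opens, j ⁻¹ᵁ W' = W := by
  have := hj.1.1
  have hcl : IsClosed (j '' ((W : Set T)ᶜ)) :=
    j.isClosedEmbedding.isClosedMap _ W.isOpen.isClosed_compl
  refine ⟨⟨(j '' ((W : Set T)ᶜ))ᶜ, hcl.isOpen_compl⟩, ?_⟩
  ext x
  change j x ∈ (j '' ((W : Set T)ᶜ))ᶜ ↔ x ∈ W
  rw [Set.mem_compl_iff, (fot_injective hj).mem_set_image, Set.mem_compl_iff, not_not]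
  rfl

theorem fot_restrict (hj : MoreMor.IsFirstOrderThickening j) (W : T'.Opens) :
    MoreMor.IsFirstOrderThickening (j ∣_ W) :=
  Groth.Agent.Lib.Helper1.Thickening.isFirstOrderThickening_of_isPullback
    (isPullback_morphismRestrict j W) hj

theorem fot_of_iso {T₁ T₁' : Scheme.{u}} (hj : MoreMor.IsFirstOrderThickening j) (e₁ : T₁ ⟶ T)
    (e₂ : T₁' ⟶ T') [IsIso e₁] [IsIso e₂] (j₁ : T₁ ⟶ T₁') (w : j₁ ≫ e₂ = e₁ ≫ j) :
    MoreMor.IsFirstOrderThickening j₁ :=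
  Groth.Agent.Lib.Helper1.Thickening.isFirstOrderThickening_of_isPullback
    (IsPullback.of_vert_isIso ⟨w⟩) hj

end FOT

/-- Transport of unique solvability along isomorphisms of the test pair. -/
theorem existsUnique_sol_of_iso {T T' T₁ T₁' : Scheme.{u}} (i : Z ⟶ Z') (h' : Z' ⟶ X)
    (j : T ⟶ T') (b : T' ⟶ X) (a : T ⟶ Z) (e₁ : T₁ ≅ T) (e₂ : T₁' ≅ T') (j₁ : T₁ ⟶ T₁')
    (w : j₁ ≫ e₂.hom = e₁.hom ≫ j)
    (H : ∃! a₁ : T₁' ⟶ Z', IsSol i h' j₁ (e₂.hom ≫ b) (e₁.hom ≫ a) a₁) :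
    ∃! a' : T' ⟶ Z', IsSol i h' j b a a' := by
  obtain ⟨a₁, ha₁, hu⟩ := H
  have w' : j ≫ e₂.inv = e₁.inv ≫ j₁ := by
    rw [Iso.eq_inv_comp, ← Category.assoc, ← w, Category.assoc, Iso.hom_inv_id, Category.comp_id]
  refine ⟨e₂.inv ≫ a₁, ⟨?_, ?_⟩, ?_⟩
  · rw [← Category.assoc, w', Category.assoc, ha₁.1, Category.assoc, Iso.inv_hom_id_assoc]
  · rw [Category.assoc, ha₁.2, Iso.inv_hom_id_assoc]
  · intro a'' ha''
    rw [Iso.eq_inv_comp]
    exact hu _ (ha''.restrict e₂.hom j₁ e₁.hom w)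

/-- Local-to-global principle on the test scheme: if the restricted lifting problems over a basis of
opens of `T'` are uniquely solvable, so is the lifting problem. -/
theorem existsUnique_sol_of_isBasis {T T' : Scheme.{u}} (i : Z ⟶ Z') (h' : Z' ⟶ X) (j : T ⟶ T')
    (b : T' ⟶ X) (a : T ⟶ Z) (S : Set T'.Opens) (hS : TopologicalSpace.Opens.IsBasis S)
    (H : ∀ W ∈ S, ∃! a' : (W : Scheme.{u}) ⟶ Z',
      IsSol i h' (j ∣_ W) (W.ι ≫ b) ((j ⁻¹ᵁ W).ι ≫ a) a') :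
    ∃! a' : T' ⟶ Z', IsSol i h' j b a a' := by
  classical
  have hcov : TopologicalSpace.IsOpenCover (fun W : S => (W.1 : T'.Opens)) := by
    refine top_le_iff.mp fun x _ => ?_
    obtain ⟨W, hW, hxW, -⟩ := TopologicalSpace.Opens.isBasis_iff_nbhd.mp hS
      (show x ∈ (⊤ : T'.Opens) from trivial)
    exact TopologicalSpace.Opens.mem_iSup.mpr ⟨⟨W, hW⟩, hxW⟩
  let 𝒰 : T'.OpenCover := T'.openCoverOfIsOpenCover (fun W : S => W.1) hcov
  letI : Preorder 𝒰.I₀ := inferInstanceAs (Preorder S)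
  have hle : ∀ {W₁ W₂ : 𝒰.I₀}, W₁ ≤ W₂ ↔ (𝒰.f W₁).opensRange ≤ (𝒰.f W₂).opensRange := by
    intro W₁ W₂
    change W₁.1 ≤ W₂.1 ↔ (W₁.1.ι).opensRange ≤ (W₂.1.ι).opensRange
    rw [Scheme.Opens.opensRange_ι, Scheme.Opens.opensRange_ι]
  have hB : TopologicalSpace.Opens.IsBasis (Set.range fun W : 𝒰.I₀ => (𝒰.f W).opensRange) := by
    convert hS
    ext W
    constructor
    · rintro ⟨W₁, rfl⟩
      change (W₁.1.ι).opensRange ∈ S
      rw [Scheme.Opens.opensRange_ι]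
      exact W₁.2
    · intro hW
      refine ⟨⟨W, hW⟩, ?_⟩
      exact Scheme.Opens.opensRange_ι (X := T') W
  letI : 𝒰.LocallyDirected := Scheme.Cover.LocallyDirected.ofIsBasisOpensRange hle hB
  have htrans : ∀ {W₁ W₂ : 𝒰.I₀} (f : W₁ ⟶ W₂), 𝒰.trans f = T'.homOfLE (leOfHom f) := by
    intro W₁ W₂ f
    rfl
  -- local solutions
  let s : ∀ W : 𝒰.I₀, 𝒰.X W ⟶ Z' := fun W => (H W.1 W.2).exists.choose
  have hs : ∀ W : 𝒰.I₀, IsSol i h' (j ∣_ W.1) (W.1.ι ≫ b) ((j ⁻¹ᵁ W.1).ι ≫ a) (s W) :=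
    fun W => (H W.1 W.2).exists.choose_spec
  have hsu : ∀ (W : 𝒰.I₀) (y : (W.1 : Scheme.{u}) ⟶ Z'),
      IsSol i h' (j ∣_ W.1) (W.1.ι ≫ b) ((j ⁻¹ᵁ W.1).ι ≫ a) y → y = s W :=
    fun W y hy => (H W.1 W.2).unique hy (hs W)
  have hcompat : ∀ {W₁ W₂ : 𝒰.I₀} (f : W₁ ⟶ W₂), 𝒰.trans f ≫ s W₂ = s W₁ := by
    intro W₁ W₂ f
    apply hsu
    rw [htrans]
    have hle' : W₁.1 ≤ W₂.1 := leOfHom f
    have hpre : j ⁻¹ᵁ W₁.1 ≤ j ⁻¹ᵁ W₂.1 := fun x hx => hle' hx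
    have w : (j ∣_ W₁.1) ≫ T'.homOfLE hle' = T.homOfLE hpre ≫ (j ∣_ W₂.1) := by
      rw [← cancel_mono W₂.1.ι, Category.assoc, Category.assoc, Scheme.homOfLE_ι,
        morphismRestrict_ι, morphismRestrict_ι, Scheme.homOfLE_ι_assoc]
    have := (hs W₂).restrict (T'.homOfLE hle') (j ∣_ W₁.1) (T.homOfLE hpre) w
    rwa [Scheme.homOfLE_ι_assoc, Scheme.homOfLE_ι_assoc] at this
  let a' : T' ⟶ Z' := 𝒰.glueMorphismsOfLocallyDirected s hcompat
  have ha' : ∀ W : 𝒰.I₀, W.1.ι ≫ a' = s W := fun W =>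
    𝒰.map_glueMorphismsOfLocallyDirected s hcompat W
  refine ⟨a', ⟨?_, ?_⟩, ?_⟩
  · -- check on the cover of `T` by preimages
    have hcovT : TopologicalSpace.IsOpenCover (fun W : S => j ⁻¹ᵁ (W.1 : T'.Opens)) := by
      refine top_le_iff.mp fun x _ => ?_
      obtain ⟨W, hW, hxW, -⟩ := TopologicalSpace.Opens.isBasis_iff_nbhd.mp hS
        (show j x ∈ (⊤ : T'.Opens) from trivial)
      exact TopologicalSpace.Opens.mem_iSup.mpr ⟨⟨W, hW⟩, hxW⟩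
    refine Scheme.Cover.hom_ext (T.openCoverOfIsOpenCover _ hcovT) _ _ fun W => ?_
    change (j ⁻¹ᵁ W.1).ι ≫ j ≫ a' = (j ⁻¹ᵁ W.1).ι ≫ a ≫ i
    rw [← morphismRestrict_ι_assoc, ha' W, (hs W).1, Category.assoc]
  · refine Scheme.Cover.hom_ext 𝒰 _ _ fun W => ?_
    change W.1.ι ≫ a' ≫ h' = W.1.ι ≫ b
    rw [← Category.assoc, ha' W, (hs W).2]
  · intro a'' ha''
    refine Scheme.Cover.hom_ext 𝒰 _ _ fun W => ?_
    change W.1.ι ≫ a'' = W.1.ι ≫ a'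
    rw [ha' W]
    exact hsu W _ (ha''.restrict W.1.ι (j ∣_ W.1) (j ⁻¹ᵁ W.1).ι (morphismRestrict_ι j W.1))

end Groth.Agent.Lib.Helper10.UnivThick
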