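import Mathlib
import Groth.Agent.Lib.Helper10.UnivThick

/-!
# Universal first order thickenings: affine tests, open immersions, restriction, uniqueness
-/

set_option autoImplicit false
universe u
open CategoryTheory CategoryTheory.Limits AlgebraicGeometry

namespace Groth.Agent.Lib.Helper10.UnivThick

variable {Z Z' X : Scheme.{u}}

/-- It suffices to test the universal property on affine `T'`. -/
theorem isUnivThickening_of_affine (h : Z ⟶ X) (i : Z ⟶ Z') (h' : Z' ⟶ X)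
    (hi : MoreMor.IsFirstOrderThickening i) (hih : i ≫ h' = h)
    (H : ∀ (T T' : Scheme.{u}) (j : T ⟶ T') (b : T' ⟶ X) (a : T ⟶ Z), IsAffine T' →
      MoreMor.IsFirstOrderThickening j → j ≫ b = a ≫ h → ∃! a' : T' ⟶ Z', IsSol i h' j b a a') :
    OmegaSh.IsUnivThickening h i h' := by
  refine ⟨hi, hih, fun T T' j b a hj hjb => ?_⟩
  refine existsUnique_sol_of_isBasis i h' j b a T'.affineOpens T'.isBasis_affineOpens
    fun W hW => ?_
  refine H _ _ (j ∣_ W) (W.ι ≫ b) ((j ⁻¹ᵁ W).ι ≫ a) hW (fot_restrict hj W) ?_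
  rw [morphismRestrict_ι_assoc, hjb, Category.assoc]

/-- Enlarging the base along an open immersion. -/
theorem isUnivThickening_comp_openImmersion {U : Scheme.{u}} (h : Z ⟶ U) (i : Z ⟶ Z')
    (h' : Z' ⟶ U) (o : U ⟶ X) [IsOpenImmersion o] (hu : OmegaSh.IsUnivThickening h i h') :
    OmegaSh.IsUnivThickening (h ≫ o) i (h' ≫ o) := by
  obtain ⟨hi, hih, huu⟩ := hu
  refine ⟨hi, by rw [← Category.assoc, hih], fun T T' j b a hj hjb => ?_⟩
  have hrange : Set.range b ⊆ Set.range o := by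
    rintro _ ⟨y, rfl⟩
    obtain ⟨x, rfl⟩ := fot_surjective hj y
    have : b (j x) = o (h (a x)) := by
      rw [← Scheme.Hom.comp_apply, hjb]
      rfl
    rw [this]
    exact ⟨_, rfl⟩
  have hb0 : IsOpenImmersion.lift o b hrange ≫ o = b := IsOpenImmersion.lift_fac _ _ _
  have hw : j ≫ IsOpenImmersion.lift o b hrange = a ≫ h := by
    rw [← cancel_mono o, Category.assoc, hb0, hjb, Category.assoc]
  obtain ⟨a', ha', hu'⟩ := huu T T' j _ a hj hw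
  refine ⟨a', ⟨ha'.1, ?_⟩, ?_⟩
  · rw [← Category.assoc, ha'.2, hb0]
  · intro a'' ha''
    apply hu'
    refine ⟨ha''.1, ?_⟩
    rw [← cancel_mono o, Category.assoc, ha''.2, hb0]

/-- Precomposition with an isomorphism of the source. -/
theorem isUnivThickening_iso_comp {Z₁ : Scheme.{u}} (e : Z₁ ⟶ Z) [IsIso e] (h : Z ⟶ X)
    (i : Z ⟶ Z') (h' : Z' ⟶ X) (hu : OmegaSh.IsUnivThickening h i h') :
    OmegaSh.IsUnivThickening (e ≫ h) (e ≫ i) h' := by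
  obtain ⟨hi, hih, huu⟩ := hu
  refine ⟨fot_of_iso hi e (𝟙 Z') (e ≫ i) (by rw [Category.comp_id]),
    by rw [Category.assoc, hih], fun T T' j b a hj hjb => ?_⟩
  obtain ⟨a', ha', hu'⟩ := huu T T' j b (a ≫ e) hj (by rw [hjb, Category.assoc])
  refine ⟨a', ⟨by rw [ha'.1, Category.assoc], ha'.2⟩, ?_⟩
  intro a'' ha''
  exact hu' _ ⟨by rw [ha''.1, Category.assoc], ha''.2⟩

/-- Restriction of a universal thickening along an open immersion into the source. -/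
theorem exists_restrict (h : Z ⟶ X) (i : Z ⟶ Z') (h' : Z' ⟶ X)
    (hu : OmegaSh.IsUnivThickening h i h') {V₀ : Scheme.{u}} (o : V₀ ⟶ Z) [IsOpenImmersion o] :
    ∃ (V₀' : Scheme.{u}) (i₀ : V₀ ⟶ V₀') (o' : V₀' ⟶ Z'), IsOpenImmersion o' ∧
      i₀ ≫ o' = o ≫ i ∧ OmegaSh.IsUnivThickening (o ≫ h) i₀ (o' ≫ h') := by
  obtain ⟨hi, hih, huu⟩ := hu
  obtain ⟨O, hO⟩ := fot_exists_opens hi o.opensRange
  have hrange : Set.range (o ≫ i) ⊆ Set.range O.ι := by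
    rintro _ ⟨x, rfl⟩
    have hx : o x ∈ i ⁻¹ᵁ O := by
      rw [hO]
      exact ⟨x, rfl⟩
    rw [Scheme.Opens.range_ι]
    exact hx
  let i₀ : V₀ ⟶ (O : Scheme.{u}) := IsOpenImmersion.lift O.ι (o ≫ i) hrange
  have hi₀ : i₀ ≫ O.ι = o ≫ i := IsOpenImmersion.lift_fac _ _ _
  have hpb : IsPullback i₀ o O.ι i := by
    refine IsOpenImmersion.isPullback i₀ o O.ι i hi₀.symm ?_
    rw [Scheme.Opens.opensRange_ι, hO]
  have hfot : MoreMor.IsFirstOrderThickening i₀ :=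
    Groth.Agent.Lib.Helper1.Thickening.isFirstOrderThickening_of_isPullback hpb hi
  refine ⟨O, i₀, O.ι, inferInstance, hi₀, hfot, ?_, fun T T' t β α ht htβ => ?_⟩
  · rw [← Category.assoc, hi₀, Category.assoc, hih]
  · obtain ⟨γ, hγ, hγu⟩ := huu T T' t β (α ≫ o) ht (by rw [htβ, Category.assoc])
    have hrγ : Set.range γ ⊆ Set.range O.ι := by
      rintro _ ⟨y, rfl⟩
      obtain ⟨x, rfl⟩ := fot_surjective ht y
      have : γ (t x) = i (o (α x)) := by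
        rw [← Scheme.Hom.comp_apply, hγ.1]
        rfl
      rw [this, Scheme.Opens.range_ι]
      have hx : o (α x) ∈ i ⁻¹ᵁ O := by
        rw [hO]
        exact ⟨_, rfl⟩
      exact hx
    have hγ0 : IsOpenImmersion.lift O.ι γ hrγ ≫ O.ι = γ := IsOpenImmersion.lift_fac _ _ _
    refine ⟨IsOpenImmersion.lift O.ι γ hrγ, ⟨?_, ?_⟩, ?_⟩
    · rw [← cancel_mono O.ι, Category.assoc, hγ0, hγ.1, Category.assoc, Category.assoc, hi₀]
    · rw [← Category.assoc, hγ0, hγ.2]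
    · intro γ'' hγ''
      rw [← cancel_mono O.ι, hγ0]
      apply hγu
      refine ⟨?_, ?_⟩
      · rw [← Category.assoc, hγ''.1, Category.assoc, hi₀, Category.assoc]
      · rw [Category.assoc, hγ''.2]

/-- Two universal thickenings of the same morphism are uniquely isomorphic. -/
theorem exists_iso_of_isUnivThickening (h : Z ⟶ X) {Z₁ Z₂ : Scheme.{u}} (i₁ : Z ⟶ Z₁)
    (h₁ : Z₁ ⟶ X) (i₂ : Z ⟶ Z₂) (h₂ : Z₂ ⟶ X) (hu₁ : OmegaSh.IsUnivThickening h i₁ h₁)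
    (hu₂ : OmegaSh.IsUnivThickening h i₂ h₂) :
    ∃ e : Z₁ ≅ Z₂, i₁ ≫ e.hom = i₂ ∧ e.hom ≫ h₂ = h₁ := by
  obtain ⟨m₁₂, hm₁₂, -⟩ := hu₂.2.2 Z Z₁ i₁ h₁ (𝟙 Z) hu₁.1 (by rw [hu₁.2.1, Category.id_comp])
  obtain ⟨m₂₁, hm₂₁, -⟩ := hu₁.2.2 Z Z₂ i₂ h₂ (𝟙 Z) hu₂.1 (by rw [hu₂.2.1, Category.id_comp])
  obtain ⟨c₁, -, hc₁⟩ := hu₁.2.2 Z Z₁ i₁ h₁ (𝟙 Z) hu₁.1 (by rw [hu₁.2.1, Category.id_comp])
  obtain ⟨c₂, -, hc₂⟩ := hu₂.2.2 Z Z₂ i₂ h₂ (𝟙 Z) hu₂.1 (by rw [hu₂.2.1, Category.id_comp])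
  have h1 : i₁ ≫ m₁₂ = i₂ := by rw [hm₁₂.1, Category.id_comp]
  have h2 : i₂ ≫ m₂₁ = i₁ := by rw [hm₂₁.1, Category.id_comp]
  refine ⟨⟨m₁₂, m₂₁, ?_, ?_⟩, h1, hm₁₂.2⟩
  · rw [hc₁ (m₁₂ ≫ m₂₁) ⟨by rw [← Category.assoc, h1, h2, Category.id_comp],
      by rw [Category.assoc, hm₂₁.2, hm₁₂.2]⟩,
      hc₁ (𝟙 Z₁) ⟨by rw [Category.comp_id, Category.id_comp], Category.id_comp _⟩]
  · rw [hc₂ (m₂₁ ≫ m₁₂) ⟨by rw [← Category.assoc, h2, h1, Category.id_comp],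
      by rw [Category.assoc, hm₁₂.2, hm₂₁.2]⟩,
      hc₂ (𝟙 Z₂) ⟨by rw [Category.comp_id, Category.id_comp], Category.id_comp _⟩]

/-- The transition morphism between universal thickenings of two opens is an open immersion. -/
theorem isOpenImmersion_of_isSol (h : Z ⟶ X) {V W V' W' : Scheme.{u}} (oV : V ⟶ Z) (oW : W ⟶ Z)
    (o : V ⟶ W) [IsOpenImmersion o] (ho : o ≫ oW = oV) (iV : V ⟶ V') (hV' : V' ⟶ X)
    (iW : W ⟶ W') (hW' : W' ⟶ X) (huV : OmegaSh.IsUnivThickening (oV ≫ h) iV hV')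
    (huW : OmegaSh.IsUnivThickening (oW ≫ h) iW hW') (m : V' ⟶ W')
    (hm : IsSol iW hW' iV hV' o m) : IsOpenImmersion m := by
  obtain ⟨V₀', i₀, o', ho', hi₀, hu₀⟩ := exists_restrict (oW ≫ h) iW hW' huW o
  rw [← Category.assoc, ho] at hu₀
  obtain ⟨e, he1, he2⟩ := exists_iso_of_isUnivThickening (oV ≫ h) iV hV' i₀ (o' ≫ hW') huV hu₀
  have hsol : IsSol iW hW' iV hV' o (e.hom ≫ o') :=
    ⟨by rw [← Category.assoc, he1, hi₀], by rw [Category.assoc, he2]⟩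
  obtain ⟨c, -, hc⟩ := huW.2.2 V V' iV hV' o huV.1 (by rw [huV.2.1, ← ho, Category.assoc])
  rw [hc m hm, ← hc _ hsol]
  infer_instance

end Groth.Agent.Lib.Helper10.UnivThick
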