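import Mathlib
import Groth.Agent.Lib.Helper10.UnivThick2

/-!
# Universal first order thickenings: the affine case
-/

set_option autoImplicit false
universe u
open CategoryTheory CategoryTheory.Limits AlgebraicGeometry

namespace Groth.Agent.Lib.Helper10.UnivThick

/-- Ring-level universal thickening, rephrased for an arbitrary square-zero surjection `ρ : A → B`. -/
theorem ring_lift {R S S' : Type u} [CommRing R] [CommRing S] [CommRing S'] [Algebra R S]
    [Algebra R S'] (π : S' →ₐ[R] S) (hπ : OmegaSh.IsUnivThickeningRing R S S' π)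
    {A B : Type u} [CommRing A] [CommRing B] (ρ : A →+* B) (hρ : Function.Surjective ρ)
    (hker : RingHom.ker ρ ^ 2 = ⊥) (β : R →+* A) (α : S →+* B)
    (hc : ρ.comp β = α.comp (algebraMap R S)) :
    ∃! α' : S' →+* A, ρ.comp α' = α.comp π.toRingHom ∧ α'.comp (algebraMap R S') = β := by
  letI : Algebra R A := β.toAlgebra
  let e : A ⧸ RingHom.ker ρ ≃+* B := RingHom.quotientKerEquivOfSurjective hρ
  have he : ∀ x : A, e (Ideal.Quotient.mk _ x) = ρ x := fun x =>
    RingHom.quotientKerEquivOfSurjective_apply_mk hρ x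
  let a₀ : S →ₐ[R] A ⧸ RingHom.ker ρ :=
    { (e.symm.toRingHom.comp α) with
      commutes' := by
        intro r
        change e.symm (α (algebraMap R S r)) = Ideal.Quotient.mk _ (β r)
        rw [RingEquiv.symm_apply_eq, he]
        exact (congr($hc r)).symm }
  have ha₀ : ∀ s : S, e (a₀ s) = α s := fun s => e.apply_symm_apply _
  obtain ⟨a', ha', hu⟩ := hπ.2.2 A (RingHom.ker ρ) hker a₀
  have ha'' : ∀ s' : S', ρ (a' s') = α (π s') := by
    intro s'
    have := congr($ha' s')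
    change Ideal.Quotient.mk _ (a' s') = a₀ (π s') at this
    rw [← he, this, ha₀]
  refine ⟨a'.toRingHom, ⟨?_, ?_⟩, ?_⟩
  · ext s'
    exact ha'' s'
  · ext r
    exact a'.commutes r
  · rintro α'' ⟨h1, h2⟩
    let a'' : S' →ₐ[R] A :=
      { α'' with
        commutes' := by
          intro r
          exact congr($h2 r) }
    have : a'' = a' := by
      apply hu
      ext s'
      change Ideal.Quotient.mk _ (α'' s') = a₀ (π s')
      apply e.injective
      rw [he, ha₀]
      exact congr($h1 s')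
    ext s'
    exact congr($this s')

/-- A first order thickening `Spec B ⟶ Spec A` comes from a square-zero surjection. -/
theorem surjective_of_fot_SpecMap {A B : CommRingCat.{u}} (ρ : A ⟶ B)
    (h : MoreMor.IsFirstOrderThickening (Spec.map ρ)) :
    Function.Surjective ρ.hom ∧ RingHom.ker ρ.hom ^ 2 = ⊥ := by
  have hci := h.1.1
  have hnat := Scheme.ΓSpecIso_naturality ρ
  have hA : Function.Bijective (Scheme.ΓSpecIso A).hom :=
    ConcreteCategory.bijective_of_isIso (Scheme.ΓSpecIso A).hom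
  have hB : Function.Bijective (Scheme.ΓSpecIso B).hom :=
    ConcreteCategory.bijective_of_isIso (Scheme.ΓSpecIso B).hom
  have hcomm : ∀ x, ρ.hom ((Scheme.ΓSpecIso A).hom x) =
      (Scheme.ΓSpecIso B).hom ((Spec.map ρ).appTop x) := by
    intro x
    have := congr($hnat x)
    simp only [CommRingCat.comp_apply] at this
    exact this.symm
  constructor
  · intro y
    obtain ⟨y', rfl⟩ := hB.2 y
    obtain ⟨x', rfl⟩ := (IsClosedImmersion.isAffine_surjective_of_isAffine (Spec.map ρ)).2 y'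
    exact ⟨_, hcomm x'⟩
  · rw [pow_two, eq_bot_iff, Ideal.mul_le]
    intro x hx y hy
    obtain ⟨x', rfl⟩ := hA.2 x
    obtain ⟨y', rfl⟩ := hA.2 y
    have key : ∀ z', (Scheme.ΓSpecIso A).hom z' ∈ RingHom.ker ρ.hom →
        z' ∈ (Spec.map ρ).ker.ideal ⟨⊤, isAffineOpen_top _⟩ := by
      intro z' hz'
      rw [Scheme.Hom.ker_apply, RingHom.mem_ker]
      rw [RingHom.mem_ker, hcomm] at hz'
      exact hB.1 (hz'.trans (map_zero _).symm)
    have h1 : x' * y' ∈ ((Spec.map ρ).ker * (Spec.map ρ).ker).ideal ⟨⊤, isAffineOpen_top _⟩ := by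
      rw [Scheme.IdealSheafData.ideal_mul]
      exact Ideal.mul_mem_mul (key x' hx) (key y' hy)
    rw [h.2] at h1
    have h2 : x' * y' = 0 := h1
    rw [Ideal.mem_bot, ← map_mul, h2, map_zero]

/-- Unique solvability of lifting problems with literal `Spec` test objects. -/
theorem spec_sol {R S S' : CommRingCat.{u}} (φ : R ⟶ S) (ψ : R ⟶ S') (π : S' ⟶ S)
    (hring : ∀ {A B : CommRingCat.{u}} (ρ : A ⟶ B), Function.Surjective ρ.hom →
      RingHom.ker ρ.hom ^ 2 = ⊥ → ∀ (β : R ⟶ A) (α : S ⟶ B), β ≫ ρ = φ ≫ α →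
        ∃! α' : S' ⟶ A, α' ≫ ρ = π ≫ α ∧ ψ ≫ α' = β)
    {A B : CommRingCat.{u}} (ρ : A ⟶ B) (hρ : MoreMor.IsFirstOrderThickening (Spec.map ρ))
    (b : Spec A ⟶ Spec R) (a : Spec B ⟶ Spec S) (w : Spec.map ρ ≫ b = a ≫ Spec.map φ) :
    ∃! a' : Spec A ⟶ Spec S', IsSol (Spec.map π) (Spec.map ψ) (Spec.map ρ) b a a' := by
  obtain ⟨β, rfl⟩ := Spec.map_surjective b
  obtain ⟨α, rfl⟩ := Spec.map_surjective a
  rw [← Spec.map_comp, ← Spec.map_comp, Spec.map_inj] at w
  obtain ⟨hs, hk⟩ := surjective_of_fot_SpecMap ρ hρ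
  obtain ⟨α', hα', hu⟩ := hring ρ hs hk β α w
  refine ⟨Spec.map α', ⟨?_, ?_⟩, ?_⟩
  · rw [← Spec.map_comp, ← Spec.map_comp, hα'.1]
  · rw [← Spec.map_comp, hα'.2]
  · rintro a'' ⟨h1, h2⟩
    obtain ⟨α'', rfl⟩ := Spec.map_surjective a''
    rw [← Spec.map_comp, ← Spec.map_comp, Spec.map_inj] at h1
    rw [← Spec.map_comp, Spec.map_inj] at h2
    rw [hu α'' ⟨h1, h2⟩]

/-- The affine case: a ring-level universal thickening gives a scheme-level one. -/
theorem isUnivThickening_SpecMap {R S S' : CommRingCat.{u}} (φ : R ⟶ S) (ψ : R ⟶ S')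
    (π : S' ⟶ S) (hψπ : ψ ≫ π = φ) (hπs : Function.Surjective π.hom)
    (hπk : RingHom.ker π.hom ^ 2 = ⊥)
    (hring : ∀ {A B : CommRingCat.{u}} (ρ : A ⟶ B), Function.Surjective ρ.hom →
      RingHom.ker ρ.hom ^ 2 = ⊥ → ∀ (β : R ⟶ A) (α : S ⟶ B), β ≫ ρ = φ ≫ α →
        ∃! α' : S' ⟶ A, α' ≫ ρ = π ≫ α ∧ ψ ≫ α' = β) :
    OmegaSh.IsUnivThickening (Spec.map φ) (Spec.map π) (Spec.map ψ) := by
  refine isUnivThickening_of_affine _ _ _
    (Groth.Agent.Lib.Helper1.Thickening.isFirstOrderThickening_SpecMap π hπs hπk)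
    (by rw [← Spec.map_comp, hψπ]) fun T T' j b a hT' hj hjb => ?_
  have := hT'
  have hci := hj.1.1
  have hT : IsAffine T := isAffine_of_isAffineHom j
  let e₁ : Spec Γ(T, ⊤) ≅ T := T.isoSpec.symm
  let e₂ : Spec Γ(T', ⊤) ≅ T' := T'.isoSpec.symm
  obtain ⟨ρ, hρ⟩ := Spec.map_surjective (e₁.hom ≫ j ≫ e₂.inv)
  have w : Spec.map ρ ≫ e₂.hom = e₁.hom ≫ j := by
    rw [hρ, Category.assoc, Category.assoc, Iso.inv_hom_id, Category.comp_id]
  refine existsUnique_sol_of_iso _ _ j b a e₁ e₂ (Spec.map ρ) w ?_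
  refine spec_sol φ ψ π hring ρ (fot_of_iso hj e₁.hom e₂.hom (Spec.map ρ) w) _ _ ?_
  rw [← Category.assoc, w, Category.assoc, hjb, Category.assoc]

/-- Existence of a universal first order thickening in the affine case. -/
theorem exists_isUnivThickening_SpecMap {R S : CommRingCat.{u}} (φ : R ⟶ S)
    (hφ : φ.hom.FormallyUnramified) (hex : ∀ (R S : Type u) [CommRing R] [CommRing S]
      [Algebra R S] [Algebra.FormallyUnramified R S],
      ∃ (S' : Type u) (_ : CommRing S') (_ : Algebra R S') (π : S' →ₐ[R] S),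
        OmegaSh.IsUnivThickeningRing R S S' π) :
    ∃ (Z' : Scheme.{u}) (i : Spec S ⟶ Z') (h' : Z' ⟶ Spec R),
      OmegaSh.IsUnivThickening (Spec.map φ) i h' := by
  letI : Algebra R S := φ.hom.toAlgebra
  haveI : Algebra.FormallyUnramified R S := hφ
  obtain ⟨S', _, _, π, hπ⟩ := hex R S
  refine ⟨Spec (CommRingCat.of S'), Spec.map (CommRingCat.ofHom π.toRingHom),
    Spec.map (CommRingCat.ofHom (algebraMap R S')), ?_⟩
  refine isUnivThickening_SpecMap φ _ _ ?_ hπ.1 hπ.2.1 ?_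
  · ext r
    exact π.commutes r
  · intro A B ρ hs hk β α hc
    obtain ⟨α', hα', hu⟩ := ring_lift π hπ ρ.hom hs hk β.hom α.hom (by
      ext r
      exact congr($hc r))
    refine ⟨CommRingCat.ofHom α', ⟨?_, ?_⟩, ?_⟩
    · ext s'
      exact congr($(hα'.1) s')
    · ext r
      exact congr($(hα'.2) r)
    · rintro α'' ⟨h1, h2⟩
      have := hu α''.hom ⟨by ext s'; exact congr($h1 s'), by ext r; exact congr($h2 r)⟩
      ext s'
      exact congr($this s')

end Groth.Agent.Lib.Helper10.UnivThick
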