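import Mathlib

/-!
# Base change of sections along a finite projective algebra (helper10)

Ring-level tools: for a pushout square of commutative rings `R → A`, `R → B`, `A → C`, `B → C`
(so `C = A ⊗[R] B`), `C` is additively generated by products `a·b`, and every `R`-linear functional
`φ : B → R` induces an additive "coefficient" map `C → A`.
-/

set_option autoImplicit false

universe u

open CategoryTheory CategoryTheory.Limits

namespace Groth.Agent.Lib.Helper10.ProjBC

section ring

variable {R A B C : Type u} [CommRing R] [CommRing A] [CommRing B] [CommRing C]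
  (φRA : R →+* A) (φRB : R →+* B) (φAC : A →+* C) (φBC : B →+* C)

/-- In a pushout square, `C` is additively generated by the products `φAC a * φBC y`. -/
theorem mem_closure
    (hpo : IsPushout (CommRingCat.ofHom φRA) (CommRingCat.ofHom φRB) (CommRingCat.ofHom φAC)
      (CommRingCat.ofHom φBC)) (c : C) :
    c ∈ AddSubmonoid.closure (Set.range fun p : A × B => φAC p.1 * φBC p.2) := by
  letI : Algebra R A := φRA.toAlgebra
  letI : Algebra R B := φRB.toAlgebra
  letI : Algebra A C := φAC.toAlgebra
  letI : Algebra B C := φBC.toAlgebra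
  letI : Algebra R C := (φAC.comp φRA).toAlgebra
  haveI : IsScalarTower R A C := .of_algebraMap_eq' rfl
  haveI : IsScalarTower R B C := .of_algebraMap_eq' (congrArg CommRingCat.Hom.hom hpo.w)
  haveI : Algebra.IsPushout R A B C := CommRingCat.isPushout_iff_isPushout.mp hpo
  have hb : IsBaseChange A (IsScalarTower.toAlgHom R B C).toLinearMap := Algebra.IsPushout.out
  refine hb.inductionOn c _ (zero_mem _) (fun m => ?_) (fun s n hn => ?_)
    (fun n₁ n₂ h₁ h₂ => add_mem h₁ h₂)
  · apply AddSubmonoid.subset_closure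
    refine ⟨(1, m), ?_⟩
    show φAC 1 * φBC m = φBC m
    rw [map_one, one_mul]
  · induction hn using AddSubmonoid.closure_induction with
    | mem x hx =>
      obtain ⟨⟨a, y⟩, rfl⟩ := hx
      apply AddSubmonoid.subset_closure
      refine ⟨(s * a, y), ?_⟩
      show φAC (s * a) * φBC y = s • (φAC a * φBC y)
      rw [Algebra.smul_def, map_mul, mul_assoc]
      rfl
    | zero => rw [smul_zero]; exact zero_mem _
    | add x y _ _ hx hy => rw [smul_add]; exact add_mem hx hy

/-- Additive maps out of `C` agreeing on products agree. -/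
theorem addHom_ext
    (hpo : IsPushout (CommRingCat.ofHom φRA) (CommRingCat.ofHom φRB) (CommRingCat.ofHom φAC)
      (CommRingCat.ofHom φBC)) {M : Type*} [AddCommMonoid M] (κ₁ κ₂ : C →+ M)
    (h : ∀ a y, κ₁ (φAC a * φBC y) = κ₂ (φAC a * φBC y)) (c : C) : κ₁ c = κ₂ c := by
  have hc := mem_closure φRA φRB φAC φBC hpo c
  induction hc using AddSubmonoid.closure_induction with
  | mem x hx =>
    obtain ⟨⟨a, y⟩, rfl⟩ := hx
    exact h a y
  | zero => rw [map_zero, map_zero]
  | add x y _ _ hx hy => rw [map_add, map_add, hx, hy]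

/-- Every `R`-linear functional on `B` induces a coefficient map `C → A`. -/
theorem exists_coeff
    (hpo : IsPushout (CommRingCat.ofHom φRA) (CommRingCat.ofHom φRB) (CommRingCat.ofHom φAC)
      (CommRingCat.ofHom φBC))
    (φ : B →+ R) (hφ : ∀ (x : R) (y : B), φ (φRB x * y) = x * φ y) :
    ∃ κ : C →+ A, ∀ (a : A) (y : B), κ (φAC a * φBC y) = a * φRA (φ y) := by
  letI : Algebra R A := φRA.toAlgebra
  letI : Algebra R B := φRB.toAlgebra
  letI : Algebra A C := φAC.toAlgebra
  letI : Algebra B C := φBC.toAlgebra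
  letI : Algebra R C := (φAC.comp φRA).toAlgebra
  haveI : IsScalarTower R A C := .of_algebraMap_eq' rfl
  haveI : IsScalarTower R B C := .of_algebraMap_eq' (congrArg CommRingCat.Hom.hom hpo.w)
  haveI : Algebra.IsPushout R A B C := CommRingCat.isPushout_iff_isPushout.mp hpo
  have hb : IsBaseChange A (IsScalarTower.toAlgHom R B C).toLinearMap := Algebra.IsPushout.out
  let ψ : B →ₗ[R] A :=
    { toFun := fun y => φRA (φ y)
      map_add' := fun y z => by rw [map_add, map_add]
      map_smul' := fun x y => by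
        show φRA (φ (x • y)) = x • φRA (φ y)
        rw [Algebra.smul_def, Algebra.smul_def]
        show φRA (φ (φRB x * y)) = φRA x * φRA (φ y)
        rw [hφ, map_mul] }
  refine ⟨(hb.lift ψ).toAddMonoidHom, fun a y => ?_⟩
  show hb.lift ψ (φAC a * φBC y) = a * φRA (φ y)
  have h1 : φAC a * φBC y = a • (IsScalarTower.toAlgHom R B C).toLinearMap y := by
    rw [Algebra.smul_def]; rfl
  rw [h1, map_smul, hb.lift_eq]
  rfl

/-- The dual basis identity after base change. -/
theorem sum_coeff
    (hpo : IsPushout (CommRingCat.ofHom φRA) (CommRingCat.ofHom φRB) (CommRingCat.ofHom φAC)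
      (CommRingCat.ofHom φBC)) {n : ℕ} (b : Fin n → B) (φ : Fin n → (B →+ R))
    (hdual : ∀ y, y = ∑ i, φRB (φ i y) * b i)
    (κ : Fin n → (C →+ A)) (hκ : ∀ i a y, κ i (φAC a * φBC y) = a * φRA (φ i y)) (c : C) :
    c = ∑ i, φAC (κ i c) * φBC (b i) := by
  have hw : ∀ x, φAC (φRA x) = φBC (φRB x) := fun x =>
    congrArg (fun m => m.hom x) hpo.w
  let κ₂ : C →+ C := ∑ i, (AddMonoidHom.mulRight (φBC (b i))).comp
    (φAC.toAddMonoidHom.comp (κ i))
  have h2 : ∀ c, κ₂ c = ∑ i, φAC (κ i c) * φBC (b i) := fun c => by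
    simp only [κ₂, AddMonoidHom.finset_sum_apply]
    rfl
  rw [← h2]
  refine addHom_ext φRA φRB φAC φBC hpo (AddMonoidHom.id C) κ₂ (fun a y => ?_) c
  rw [h2]
  show φAC a * φBC y = _
  conv_lhs => rw [hdual y]
  rw [map_sum, Finset.mul_sum]
  refine Finset.sum_congr rfl fun i _ => ?_
  rw [hκ, map_mul, map_mul, hw, mul_assoc]

end ring

end Groth.Agent.Lib.Helper10.ProjBC
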