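import Mathlib
import Groth.Agent.Lib.Helper10.ProjBC

/-!
# Cartesian squares over a thickening: ring-level lemmas (helper10)

For a cartesian square `iX ≫ f' = f ≫ iY` with `iY` a surjective closed immersion, the sections
over affine opens form pushout squares of rings `A' → A`, `A' → B'`, `A → B`, `B' → B` with
`A' → A` surjective with nil kernel.  We collect the Nakayama-type consequences.
-/

set_option autoImplicit false

universe u

open AlgebraicGeometry CategoryTheory CategoryTheory.Limits TopologicalSpace Opposite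

namespace Groth.Agent.Lib.Helper10.Thick

section Ring

/-- Nakayama for nilpotent ideals: `N ⊔ I • ⊤ = ⊤` implies `N = ⊤`. -/
theorem eq_top_of_sup_smul_top {A M : Type*} [CommRing A] [AddCommGroup M] [Module A M]
    (I : Ideal A) (hI : IsNilpotent I) (N : Submodule A M) (h : ⊤ ≤ N ⊔ I • (⊤ : Submodule A M)) :
    N = ⊤ := by
  have key : ∀ k : ℕ, ⊤ ≤ N ⊔ (I ^ k) • (⊤ : Submodule A M) := by
    intro k
    induction k with
    | zero => simp
    | succ k ih =>
      calc (⊤ : Submodule A M) ≤ N ⊔ I • (⊤ : Submodule A M) := h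
        _ ≤ N ⊔ I • (N ⊔ (I ^ k) • (⊤ : Submodule A M)) :=
            sup_le_sup_left (Submodule.smul_mono le_rfl ih) N
        _ = N ⊔ (I • N ⊔ I • ((I ^ k) • (⊤ : Submodule A M))) := by rw [Submodule.smul_sup]
        _ ≤ N ⊔ (I ^ (k + 1)) • (⊤ : Submodule A M) := by
            refine sup_le le_sup_left (sup_le ?_ ?_)
            · exact le_trans Submodule.smul_le_right le_sup_left
            · rw [← Submodule.mul_smul, ← pow_succ']
              exact le_sup_right
  obtain ⟨n, hn⟩ := hI
  have := key n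
  rw [hn, Ideal.zero_eq_bot, Submodule.bot_smul, sup_bot_eq] at this
  exact top_le_iff.mp this

variable {A' A B' B : Type u} [CommRing A'] [CommRing A] [CommRing B'] [CommRing B]
  (φ : A' →+* A) (ψ : A' →+* B') (α : A →+* B) (β : B' →+* B)

/-- In a pushout square with `φ` surjective, the kernel of `β` is the extension of `ker φ`. -/
theorem ker_le_map_of_isPushout
    (hpo : IsPushout (CommRingCat.ofHom φ) (CommRingCat.ofHom ψ) (CommRingCat.ofHom α)
      (CommRingCat.ofHom β)) (hφ : Function.Surjective φ) :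
    RingHom.ker β ≤ (RingHom.ker φ).map ψ := by
  let J : Ideal B' := (RingHom.ker φ).map ψ
  let γ : A →+* B' ⧸ J := RingHom.liftOfSurjective φ hφ ⟨(Ideal.Quotient.mk J).comp ψ,
    fun x hx => by
      rw [RingHom.mem_ker, RingHom.comp_apply, Ideal.Quotient.eq_zero_iff_mem]
      exact Ideal.mem_map_of_mem ψ hx⟩
  have hγ : ∀ x, γ (φ x) = Ideal.Quotient.mk J (ψ x) := fun x =>
    RingHom.liftOfSurjective_comp_apply φ hφ _ x
  have hcomm : CommRingCat.ofHom φ ≫ CommRingCat.ofHom γ =
      CommRingCat.ofHom ψ ≫ CommRingCat.ofHom (Ideal.Quotient.mk J) := by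
    ext x
    exact hγ x
  let δ : CommRingCat.of B ⟶ CommRingCat.of (B' ⧸ J) := hpo.desc _ _ hcomm
  have hδβ : ∀ b, δ.hom (β b) = Ideal.Quotient.mk J b := fun b =>
    congrArg (fun m => m.hom b) (hpo.inr_desc _ _ hcomm)
  intro b hb
  rw [RingHom.mem_ker] at hb
  change b ∈ J
  rw [← Ideal.Quotient.eq_zero_iff_mem, ← hδβ, hb, map_zero]

/-- In a pushout square with `φ` surjective, `β` is surjective. -/
theorem surjective_of_isPushout
    (hpo : IsPushout (CommRingCat.ofHom φ) (CommRingCat.ofHom ψ) (CommRingCat.ofHom α)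
      (CommRingCat.ofHom β)) (hφ : Function.Surjective φ) : Function.Surjective β := by
  have hw : ∀ x, α (φ x) = β (ψ x) := fun x => congrArg (fun m => m.hom x) hpo.w
  intro c
  have hc := Groth.Agent.Lib.Helper10.ProjBC.mem_closure φ ψ α β hpo c
  induction hc using AddSubmonoid.closure_induction with
  | mem x hx =>
    obtain ⟨⟨a, b⟩, rfl⟩ := hx
    obtain ⟨a', rfl⟩ := hφ a
    exact ⟨ψ a' * b, by simp only [map_mul, hw]⟩
  | zero => exact ⟨0, map_zero _⟩
  | add x y _ _ hx hy =>
    obtain ⟨x', rfl⟩ := hx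
    obtain ⟨y', rfl⟩ := hy
    exact ⟨x' + y', map_add _ _ _⟩

/-- `b' - ψ a' ∈ I B'` whenever `β b' = α (φ a')`. -/
theorem sub_mem_of_isPushout
    (hpo : IsPushout (CommRingCat.ofHom φ) (CommRingCat.ofHom ψ) (CommRingCat.ofHom α)
      (CommRingCat.ofHom β)) (hφ : Function.Surjective φ) (b' : B') (a' : A')
    (h : β b' = α (φ a')) : b' - ψ a' ∈ (RingHom.ker φ).map ψ := by
  have hw : ∀ x, α (φ x) = β (ψ x) := fun x => congrArg (fun m => m.hom x) hpo.w
  apply ker_le_map_of_isPushout φ ψ α β hpo hφ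
  rw [RingHom.mem_ker, map_sub, h, hw, sub_self]

/-- The kernel of a ring map inducing a surjection on spectra is contained in the nilradical. -/
theorem ker_le_nilradical_of_comap_surjective
    (h : Function.Surjective (PrimeSpectrum.comap φ)) : RingHom.ker φ ≤ nilradical A' := by
  intro x hx
  rw [nilradical_eq_sInf, Ideal.mem_sInf]
  intro p hp
  obtain ⟨q, hq⟩ := h ⟨p, hp⟩
  have : x ∈ (PrimeSpectrum.comap φ q).asIdeal := by
    change φ x ∈ q.asIdeal
    rw [RingHom.mem_ker.mp hx]
    exact zero_mem _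
  rw [hq] at this
  exact this

theorem map_le_nilradical {I : Ideal A'} (hI : I ≤ nilradical A') : I.map ψ ≤ nilradical B' := by
  rw [Ideal.map_le_iff_le_comap]
  intro x hx
  have : IsNilpotent x := hI hx
  exact this.map ψ

theorem nilradical_le_jacobson_bot (R : Type*) [CommRing R] :
    nilradical R ≤ Ideal.jacobson (⊥ : Ideal R) := by
  rw [nilradical_eq_sInf, Ideal.jacobson]
  apply sInf_le_sInf
  intro p hp
  exact hp.2.isPrime

/-- The `A'`-submodule `I • ⊤` of `B'` is the extension of `I`. -/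
theorem mem_smul_top_of_mem_map (I : Ideal A') (b : B') (hb : b ∈ I.map ψ) :
    letI := ψ.toAlgebra
    b ∈ I • (⊤ : Submodule A' B') := by
  letI := ψ.toAlgebra
  rw [Ideal.smul_top_eq_map]
  exact hb

/-- Finite type lifts along a nilpotent thickening of the base. -/
theorem finiteType_of_isPushout_nilpotent
    (hpo : IsPushout (CommRingCat.ofHom φ) (CommRingCat.ofHom ψ) (CommRingCat.ofHom α)
      (CommRingCat.ofHom β)) (hφ : Function.Surjective φ) (hnil : IsNilpotent (RingHom.ker φ))
    (hα : α.FiniteType) : ψ.FiniteType := by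
  classical
  have hw : ∀ x, α (φ x) = β (ψ x) := fun x => congrArg (fun m => m.hom x) hpo.w
  have hβ := surjective_of_isPushout φ ψ α β hpo hφ
  letI : Algebra A' B' := ψ.toAlgebra
  letI : Algebra A B := α.toAlgebra
  haveI : Algebra.FiniteType A B := hα
  obtain ⟨S, hS⟩ := (Algebra.FiniteType.out : (⊤ : Subalgebra A B).FG)
  choose lift hlift using hβ
  let T : Finset B' := S.image lift
  let C : Subalgebra A' B' := Algebra.adjoin A' (T : Set B')
  -- β maps C onto B
  have hsurjC : ∀ b : B, ∃ c ∈ C, β c = b := by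
    intro b
    have hb : b ∈ Algebra.adjoin A (S : Set B) := by rw [hS]; trivial
    induction hb using Algebra.adjoin_induction with
    | mem x hx =>
      refine ⟨lift x, Algebra.subset_adjoin ?_, hlift x⟩
      exact Finset.mem_coe.mpr (Finset.mem_image_of_mem lift hx)
    | algebraMap a =>
      obtain ⟨a', rfl⟩ := hφ a
      exact ⟨algebraMap A' B' a', Subalgebra.algebraMap_mem _ _, (hw a').symm⟩
    | add x y _ _ hx hy =>
      obtain ⟨c1, h1, e1⟩ := hx
      obtain ⟨c2, h2, e2⟩ := hy
      exact ⟨c1 + c2, Subalgebra.add_mem _ h1 h2, by rw [map_add, e1, e2]⟩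
    | mul x y _ _ hx hy =>
      obtain ⟨c1, h1, e1⟩ := hx
      obtain ⟨c2, h2, e2⟩ := hy
      exact ⟨c1 * c2, Subalgebra.mul_mem _ h1 h2, by rw [map_mul, e1, e2]⟩
  have hC : Subalgebra.toSubmodule C = ⊤ := by
    apply eq_top_of_sup_smul_top (RingHom.ker φ) hnil
    intro b _
    obtain ⟨c, hc, hcb⟩ := hsurjC (β b)
    have hdiff : b - c ∈ (RingHom.ker φ).map ψ := by
      apply ker_le_map_of_isPushout φ ψ α β hpo hφ
      rw [RingHom.mem_ker, map_sub, hcb, sub_self]
    have hJ : b - c ∈ (RingHom.ker φ) • (⊤ : Submodule A' B') :=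
      mem_smul_top_of_mem_map ψ _ _ hdiff
    have : b = c + (b - c) := by ring
    rw [this]
    exact Submodule.add_mem_sup hc hJ
  change Algebra.FiniteType A' B'
  refine ⟨⟨T, ?_⟩⟩
  apply Subalgebra.toSubmodule_injective
  rw [hC]
  rfl

/-- Surjectivity lifts along a nil thickening of the base for finite maps. -/
theorem surjective_of_isPushout_nil
    (hpo : IsPushout (CommRingCat.ofHom φ) (CommRingCat.ofHom ψ) (CommRingCat.ofHom α)
      (CommRingCat.ofHom β)) (hφ : Function.Surjective φ)
    (hnil : RingHom.ker φ ≤ nilradical A') (hψ : ψ.Finite) (hα : Function.Surjective α) :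
    Function.Surjective ψ := by
  letI : Algebra A' B' := ψ.toAlgebra
  haveI : Module.Finite A' B' := hψ
  let N : Submodule A' B' := LinearMap.range (Algebra.linearMap A' B')
  have hN : (⊤ : Submodule A' B') ≤ N := by
    apply Submodule.le_of_le_smul_of_le_jacobson_bot (I := RingHom.ker φ) Module.Finite.fg_top
      (hnil.trans (nilradical_le_jacobson_bot A'))
    intro b _
    obtain ⟨a, ha⟩ := hα (β b)
    obtain ⟨a', rfl⟩ := hφ a
    have hdiff := sub_mem_of_isPushout φ ψ α β hpo hφ b a' ha.symm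
    have hJ : b - ψ a' ∈ (RingHom.ker φ) • (⊤ : Submodule A' B') :=
      mem_smul_top_of_mem_map ψ _ _ hdiff
    have : b = ψ a' + (b - ψ a') := by ring
    rw [this]
    exact Submodule.add_mem_sup ⟨a', rfl⟩ hJ
  intro b
  obtain ⟨a', ha'⟩ := hN (Submodule.mem_top : b ∈ ⊤)
  exact ⟨a', ha'⟩

end Ring

end Groth.Agent.Lib.Helper10.Thick
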