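import Mathlib
import Groth.Agent.Lib.Helper10.Thick

/-!
# Cartesian squares over a thickening: differentials and scheme-level pushouts (helper10)
-/

set_option autoImplicit false

universe u

open AlgebraicGeometry CategoryTheory CategoryTheory.Limits TopologicalSpace Opposite

namespace Groth.Agent.Lib.Helper10.Thick

section Module

open TensorProduct

/-- If `A ⊗[A'] M = 0` with `A' → A` surjective with kernel `I`, then `I M = M`. -/
theorem smul_top_eq_top_of_subsingleton_tensor {A' A M : Type*} [CommRing A'] [CommRing A]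
    [Algebra A' A] [AddCommGroup M] [Module A' M]
    (hφ : Function.Surjective (algebraMap A' A)) [Subsingleton (A ⊗[A'] M)] :
    (RingHom.ker (algebraMap A' A)) • (⊤ : Submodule A' M) = ⊤ := by
  have hsurj : Function.Surjective (Algebra.ofId A' A) := hφ
  let e₁ : (A' ⧸ RingHom.ker (Algebra.ofId A' A)) ≃ₐ[A'] A :=
    Ideal.quotientKerAlgEquivOfSurjective hsurj
  let e₂ : ((A' ⧸ RingHom.ker (Algebra.ofId A' A)) ⊗[A'] M) ≃ₗ[A'] A ⊗[A'] M :=
    TensorProduct.congr e₁.toLinearEquiv (LinearEquiv.refl A' M)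
  let e₃ := TensorProduct.quotTensorEquivQuotSMul M (RingHom.ker (Algebra.ofId A' A))
  have h4 : Subsingleton (M ⧸ (RingHom.ker (Algebra.ofId A' A)) • (⊤ : Submodule A' M)) :=
    (e₃.symm.trans e₂).injective.subsingleton
  exact Submodule.Quotient.subsingleton_iff.mp h4

end Module

section Ring

variable {A' A B' B : Type u} [CommRing A'] [CommRing A] [CommRing B'] [CommRing B]
  (φ : A' →+* A) (ψ : A' →+* B') (α : A →+* B) (β : B' →+* B)

/-- Formal unramifiedness lifts along a thickening of the base, when the thickening is nilpotent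
or the map is of finite type. -/
theorem formallyUnramified_of_isPushout
    (hpo : IsPushout (CommRingCat.ofHom φ) (CommRingCat.ofHom ψ) (CommRingCat.ofHom α)
      (CommRingCat.ofHom β)) (hφ : Function.Surjective φ)
    (hcase : IsNilpotent (RingHom.ker φ) ∨ (RingHom.ker φ ≤ nilradical A' ∧ ψ.FiniteType))
    (hα : α.FormallyUnramified) : ψ.FormallyUnramified := by
  letI : Algebra A' A := φ.toAlgebra
  letI : Algebra A' B' := ψ.toAlgebra
  letI : Algebra A B := α.toAlgebra
  letI : Algebra B' B := β.toAlgebra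
  letI : Algebra A' B := (α.comp φ).toAlgebra
  haveI : IsScalarTower A' A B := .of_algebraMap_eq' rfl
  haveI : IsScalarTower A' B' B := .of_algebraMap_eq' (congrArg CommRingCat.Hom.hom hpo.w)
  haveI : Algebra.IsPushout A' A B' B := CommRingCat.isPushout_iff_isPushout.mp hpo
  haveI : Algebra.FormallyUnramified A B := hα
  let e := KaehlerDifferential.tensorKaehlerEquivBase A' A B' B
  haveI : Subsingleton (TensorProduct A' A Ω[B'⁄A']) := e.injective.subsingleton
  have htop : (RingHom.ker φ) • (⊤ : Submodule A' Ω[B'⁄A']) = ⊤ :=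
    smul_top_eq_top_of_subsingleton_tensor (A' := A') (A := A) (M := Ω[B'⁄A']) hφ
  change Algebra.FormallyUnramified A' B'
  rw [Algebra.formallyUnramified_iff]
  rcases hcase with hnil | ⟨hnil, hft⟩
  · have h1 : (⊥ : Submodule A' Ω[B'⁄A']) = ⊤ :=
      eq_top_of_sup_smul_top (RingHom.ker φ) hnil ⊥ (by rw [htop]; exact le_sup_right)
    refine ⟨fun x y => ?_⟩
    have hx : x ∈ (⊥ : Submodule A' Ω[B'⁄A']) := by rw [h1]; trivial
    have hy : y ∈ (⊥ : Submodule A' Ω[B'⁄A']) := by rw [h1]; trivial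
    rw [Submodule.mem_bot] at hx hy
    rw [hx, hy]
  · haveI : Algebra.FiniteType A' B' := hft
    have hfg : (⊤ : Submodule B' Ω[B'⁄A']).FG := Module.Finite.fg_top
    have hle : (⊤ : Submodule B' Ω[B'⁄A']) ≤
        ((RingHom.ker φ).map ψ) • (⊤ : Submodule B' Ω[B'⁄A']) := by
      intro m _
      have hm : m ∈ (RingHom.ker φ) • (⊤ : Submodule A' Ω[B'⁄A']) := by rw [htop]; trivial
      refine Submodule.smul_induction_on hm (fun r hr n _ => ?_) (fun x y hx hy => ?_)
      · have : r • n = (ψ r) • n := by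
          rw [← algebraMap_smul B' r n]
          rfl
        rw [this]
        exact Submodule.smul_mem_smul (Ideal.mem_map_of_mem ψ hr) trivial
      · exact Submodule.add_mem _ hx hy
    have hjac : (RingHom.ker φ).map ψ ≤ Ideal.jacobson (⊥ : Ideal B') :=
      (map_le_nilradical ψ hnil).trans (nilradical_le_jacobson_bot B')
    have h1 := Submodule.eq_bot_of_le_smul_of_le_jacobson_bot _ _ hfg hle hjac
    refine ⟨fun x y => ?_⟩
    have hx : x ∈ (⊤ : Submodule B' Ω[B'⁄A']) := trivial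
    have hy : y ∈ (⊤ : Submodule B' Ω[B'⁄A']) := trivial
    rw [h1, Submodule.mem_bot] at hx hy
    rw [hx, hy]

end Ring

section Scheme

variable {X X' Y Y' : Scheme.{u}} {iX : X ⟶ X'} {iY : Y ⟶ Y'} {f : X ⟶ Y} {f' : X' ⟶ Y'}

theorem preimage_le (hc : IsPullback iX f f' iY) {U' : Y'.Opens} {V' : X'.Opens}
    (e : V' ≤ f' ⁻¹ᵁ U') : iX ⁻¹ᵁ V' ≤ f ⁻¹ᵁ (iY ⁻¹ᵁ U') := by
  rw [← Scheme.Hom.comp_preimage, ← hc.w, Scheme.Hom.comp_preimage]
  exact Scheme.Hom.preimage_mono iX e

/-- The pushout square of sections over affine opens for a cartesian square over an affine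
morphism `iY`. -/
theorem isPushout_sections (hc : IsPullback iX f f' iY) [IsAffineHom iY]
    {U' : Y'.Opens} (hU' : IsAffineOpen U') {V' : X'.Opens} (hV' : IsAffineOpen V')
    (e : V' ≤ f' ⁻¹ᵁ U') :
    IsPushout (iY.appLE U' (iY ⁻¹ᵁ U') le_rfl) (f'.appLE U' V' e)
      (f.appLE (iY ⁻¹ᵁ U') (iX ⁻¹ᵁ V') (preimage_le hc e))
      (iX.appLE V' (iX ⁻¹ᵁ V') le_rfl) := by
  have hUY : iX ⁻¹ᵁ V' = f ⁻¹ᵁ (iY ⁻¹ᵁ U') ⊓ iX ⁻¹ᵁ V' :=
    (inf_eq_right.mpr (preimage_le hc e)).symm
  have hiso := isIso_pushoutSection_of_isAffineOpen hc.flip (US := U') (UT := V')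
    (UX := iY ⁻¹ᵁ U') e le_rfl hUY hU' hV' (hU'.preimage iY)
  exact (isIso_pushoutSection_iff hc.flip (US := U') (UT := V')
    (UX := iY ⁻¹ᵁ U') e le_rfl hUY).mp hiso

/-- For a surjective closed immersion, the kernel on an affine open consists of nilpotents. -/
theorem ker_appLE_le_nilradical [IsClosedImmersion iY] [Surjective iY]
    {U' : Y'.Opens} (hU' : IsAffineOpen U') :
    RingHom.ker (iY.appLE U' (iY ⁻¹ᵁ U') le_rfl).hom ≤ nilradical Γ(Y', U') := by
  intro x hx
  rw [RingHom.mem_ker] at hx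
  change IsNilpotent x
  rw [Scheme.isNilpotent_iff_basicOpen_eq_bot_of_isCompact hU'.isCompact]
  ext y'
  simp only [Opens.coe_bot, Set.mem_empty_iff_false, iff_false]
  intro hy'
  obtain ⟨y, rfl⟩ := iY.surjective y'
  have h1 : y ∈ iY ⁻¹ᵁ (Y'.basicOpen x) := hy'
  rw [Scheme.preimage_basicOpen] at h1
  have h2 : (iY.app U').hom x = 0 := by
    rw [← Scheme.Hom.appLE_eq_app]
    exact hx
  rw [h2, Scheme.basicOpen_zero] at h1
  exact h1

theorem appLE_surjective [IsClosedImmersion iY]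
    {U' : Y'.Opens} (hU' : IsAffineOpen U') :
    Function.Surjective (iY.appLE U' (iY ⁻¹ᵁ U') le_rfl).hom := by
  rw [Scheme.Hom.appLE_eq_app]
  exact iY.app_surjective U' hU'

end Scheme

end Groth.Agent.Lib.Helper10.Thick
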