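import Mathlib
import Groth.Agent.Lib.Helper10.Thick
import Groth.Agent.Lib.Helper10.Thick2
import Groth.Agent.S0400

/-!
# Deformation of properties of morphisms along a finite order thickening of the base (helper10)

Ring level: `R' → A' → B'` with `B'` flat over `R'`, `I ⊆ R'` nilpotent, `A = A'/IA'`, `B = B'/IB'`.
Flatness, finite presentation, étaleness and smoothness of `A → B` lift to `A' → B'`.
-/

set_option autoImplicit false
set_option linter.style.haveILetI false

universe u

open CategoryTheory CategoryTheory.Limits TensorProduct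

namespace Groth.Agent.Lib.Helper10.Deform

section Module

/-- Nakayama for nilpotent ideals, submodule form: `N ≤ N₀ ⊔ I • N` implies `N ≤ N₀`. -/
theorem le_of_le_sup_smul {R M : Type*} [CommRing R] [AddCommGroup M] [Module R M]
    (I : Ideal R) (hI : IsNilpotent I) (N N0 : Submodule R M) (h : N ≤ N0 ⊔ I • N) : N ≤ N0 := by
  have key : ∀ k : ℕ, N ≤ N0 ⊔ (I ^ k) • N := by
    intro k
    induction k with
    | zero =>
      rw [pow_zero, Ideal.one_eq_top, Submodule.top_smul]
      exact le_sup_right
    | succ k ih =>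
      calc N ≤ N0 ⊔ I • N := h
        _ ≤ N0 ⊔ I • (N0 ⊔ (I ^ k) • N) := sup_le_sup_left (Submodule.smul_mono le_rfl ih) N0
        _ = N0 ⊔ (I • N0 ⊔ I • ((I ^ k) • N)) := by rw [Submodule.smul_sup]
        _ ≤ N0 ⊔ (I ^ (k + 1)) • N := by
            refine sup_le le_sup_left (sup_le ?_ ?_)
            · exact le_trans Submodule.smul_le_right le_sup_left
            · rw [← Submodule.mul_smul, ← pow_succ']
              exact le_sup_right
  obtain ⟨n, hn⟩ := hI
  have := key n
  rw [hn, Ideal.zero_eq_bot, Submodule.bot_smul, sup_bot_eq] at this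
  exact this

/-- If `g : P → Q` is a surjection onto a flat module, then `ker g ∩ I P = I (ker g)`. -/
theorem mem_smul_ker_of_flat {R P Q : Type*} [CommRing R] [AddCommGroup P] [Module R P]
    [AddCommGroup Q] [Module R Q] [Module.Flat R Q] (I : Ideal R) (g : P →ₗ[R] Q)
    (hg : Function.Surjective g) (k : P) (hk : g k = 0) (hkI : k ∈ I • (⊤ : Submodule R P)) :
    k ∈ I • LinearMap.ker g := by
  have hinj : Function.Injective ((LinearMap.ker g).subtype.lTensor (R ⧸ I)) :=
    LinearMap.lTensor_injective_of_exact_of_flat g hg (LinearMap.ker g).subtype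
      (LinearMap.ker g).injective_subtype (LinearMap.exact_subtype_ker_map g) (R ⧸ I)
  have h0 : ((Ideal.Quotient.mk I 1) ⊗ₜ[R] (⟨k, hk⟩ : LinearMap.ker g)) = 0 := by
    apply hinj
    rw [map_zero, LinearMap.lTensor_tmul, Submodule.subtype_apply]
    apply (TensorProduct.quotTensorEquivQuotSMul P I).injective
    rw [map_zero, TensorProduct.quotTensorEquivQuotSMul_mk_tmul, one_smul,
      Submodule.Quotient.mk_eq_zero]
    exact hkI
  have h1 : (⟨k, hk⟩ : LinearMap.ker g) ∈ I • (⊤ : Submodule R (LinearMap.ker g)) := by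
    have := congrArg (TensorProduct.quotTensorEquivQuotSMul (LinearMap.ker g) I) h0
    rw [map_zero, TensorProduct.quotTensorEquivQuotSMul_mk_tmul, one_smul,
      Submodule.Quotient.mk_eq_zero] at this
    exact this
  have h2 := Submodule.mem_map_of_mem (f := (LinearMap.ker g).subtype) h1
  rw [Submodule.map_smul'', Submodule.map_subtype_top] at h2
  exact h2

/-- Transport of flatness of a base change along an isomorphism of algebras. -/
theorem flat_tensor_of_algEquiv {A' Q A M : Type*} [CommRing A'] [CommRing Q] [CommRing A]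
    [Algebra A' Q] [Algebra A' A] (e : Q ≃ₐ[A'] A) [AddCommGroup M] [Module A' M]
    (h : Module.Flat A (A ⊗[A'] M)) : Module.Flat Q (Q ⊗[A'] M) := by
  letI : Algebra Q A := e.toAlgHom.toRingHom.toAlgebra
  haveI : IsScalarTower A' Q A := .of_algebraMap_eq (fun x => (e.commutes x).symm)
  let e' : Q ≃ₗ[Q] A := LinearEquiv.ofBijective (Algebra.linearMap Q A) e.bijective
  haveI : Module.Flat Q A := Module.Flat.of_linearEquiv e'.symm
  haveI : Module.Flat Q (A ⊗[A'] M) := Module.Flat.trans Q A (A ⊗[A'] M)
  exact Module.Flat.of_linearEquiv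
    (TensorProduct.AlgebraTensorModule.congr e' (LinearEquiv.refl A' M))

end Module

section Ring

variable {R' A' A B' B : Type u} [CommRing R'] [CommRing A'] [CommRing A] [CommRing B']
  [CommRing B]
  (a' : R' →+* A') (πA : A' →+* A) (b' : A' →+* B') (b : A →+* B) (πB : B' →+* B)

theorem isNilpotent_map {I : Ideal R'} (hI : IsNilpotent I) : IsNilpotent (I.map a') := by
  obtain ⟨n, hn⟩ := hI
  exact ⟨n, by rw [← Ideal.map_pow, hn, Ideal.zero_eq_bot, Ideal.map_bot]; rfl⟩

/-- Flatness lifts. -/
theorem flat_of_isPushout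
    (hAB : IsPushout (CommRingCat.ofHom πA) (CommRingCat.ofHom b') (CommRingCat.ofHom b)
      (CommRingCat.ofHom πB))
    (hπA : Function.Surjective πA) (I : Ideal R') (hI : IsNilpotent I)
    (hker : RingHom.ker πA = I.map a') (hflat : (b'.comp a').Flat) (hb : b.Flat) :
    b'.Flat := by
  letI : Algebra R' A' := a'.toAlgebra
  letI : Algebra A' B' := b'.toAlgebra
  letI : Algebra R' B' := (b'.comp a').toAlgebra
  haveI : IsScalarTower R' A' B' := .of_algebraMap_eq' rfl
  letI : Algebra A' A := πA.toAlgebra
  letI : Algebra A B := b.toAlgebra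
  letI : Algebra B' B := πB.toAlgebra
  letI : Algebra A' B := (b.comp πA).toAlgebra
  haveI : IsScalarTower A' A B := .of_algebraMap_eq' rfl
  haveI : IsScalarTower A' B' B := .of_algebraMap_eq' (congrArg CommRingCat.Hom.hom hAB.w)
  haveI : Algebra.IsPushout A' A B' B := CommRingCat.isPushout_iff_isPushout.mp hAB
  haveI : Module.Flat R' B' := hflat
  haveI : Module.Flat A B := hb
  change Module.Flat A' B'
  refine Groth.Agent.S0400.result (R := R') (S := A') (M := B') I hI ?_
  have hflatA : Module.Flat A (A ⊗[A'] B') :=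
    Module.Flat.of_linearEquiv (Algebra.IsPushout.equiv A' A B' B).toLinearEquiv
  have hsurj : Function.Surjective (Algebra.ofId A' A) := hπA
  have hker' : RingHom.ker (Algebra.ofId A' A) = I.map (algebraMap R' A') := hker
  let e0 : (A' ⧸ RingHom.ker (Algebra.ofId A' A)) ≃ₐ[A'] A :=
    Ideal.quotientKerAlgEquivOfSurjective hsurj
  let e1 : (A' ⧸ I.map (algebraMap R' A')) ≃ₐ[A'] A :=
    (Ideal.quotientEquivAlgOfEq A' hker'.symm).trans e0
  exact flat_tensor_of_algEquiv e1 hflatA

/-- Finite presentation lifts. -/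
theorem finitePresentation_of_isPushout
    (hAB : IsPushout (CommRingCat.ofHom πA) (CommRingCat.ofHom b') (CommRingCat.ofHom b)
      (CommRingCat.ofHom πB))
    (hπA : Function.Surjective πA) (I : Ideal R') (hI : IsNilpotent I)
    (hker : RingHom.ker πA = I.map a') (hflat : (b'.comp a').Flat) (hb : b.FinitePresentation) :
    b'.FinitePresentation := by
  classical
  have hw : ∀ x, b (πA x) = πB (b' x) := fun x => congrArg (fun m => m.hom x) hAB.w
  have hnilA : IsNilpotent (RingHom.ker πA) := by rw [hker]; exact isNilpotent_map a' hI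
  have hπB : Function.Surjective πB := Thick.surjective_of_isPushout πA b' b πB hAB hπA
  have hft : b'.FiniteType :=
    Thick.finiteType_of_isPushout_nilpotent πA b' b πB hAB hπA hnilA (RingHom.FiniteType.of_finitePresentation hb)
  letI : Algebra R' A' := a'.toAlgebra
  letI : Algebra A' B' := b'.toAlgebra
  letI : Algebra R' B' := (b'.comp a').toAlgebra
  haveI : IsScalarTower R' A' B' := .of_algebraMap_eq' rfl
  letI : Algebra A B := b.toAlgebra
  haveI : Module.Flat R' B' := hflat
  haveI : Algebra.FiniteType A' B' := hft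
  haveI : Algebra.FinitePresentation A B := hb
  obtain ⟨n, g₀, hg₀⟩ := Algebra.FiniteType.iff_quotient_mvPolynomial''.mp
    (inferInstance : Algebra.FiniteType A' B')
  change Algebra.FinitePresentation A' B'
  refine Algebra.FinitePresentation.of_surjective hg₀ ?_
  -- the reduction
  let μ : MvPolynomial (Fin n) A' →+* MvPolynomial (Fin n) A := MvPolynomial.map πA
  have hμ : Function.Surjective μ := MvPolynomial.map_surjective πA hπA
  have hkerμ : RingHom.ker μ = Ideal.map MvPolynomial.C (RingHom.ker πA) := MvPolynomial.ker_map πA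
  let gB : MvPolynomial (Fin n) A →ₐ[A] B :=
    MvPolynomial.aeval (fun i => πB (g₀ (MvPolynomial.X i)))
  have hgB : ∀ p, gB (μ p) = πB (g₀ p) := by
    intro p
    have : (gB : MvPolynomial (Fin n) A →+* B).comp μ = πB.comp (g₀ : MvPolynomial (Fin n) A' →+* B') := by
      apply MvPolynomial.ringHom_ext
      · intro x
        simp only [RingHom.comp_apply, μ, MvPolynomial.map_C]
        change gB (MvPolynomial.C (πA x)) = πB (g₀ (MvPolynomial.C x))
        rw [← MvPolynomial.algebraMap_eq, ← MvPolynomial.algebraMap_eq, AlgHom.commutes,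
          AlgHom.commutes]
        exact hw x
      · intro i
        simp only [RingHom.comp_apply, μ, MvPolynomial.map_X]
        change gB (MvPolynomial.X i) = πB (g₀ (MvPolynomial.X i))
        simp [gB]
    exact congrArg (fun m => m p) this
  have hgBsurj : Function.Surjective gB := by
    intro y
    obtain ⟨y', rfl⟩ := hπB y
    obtain ⟨p, rfl⟩ := hg₀ y'
    exact ⟨μ p, hgB p⟩
  have hKfg : (RingHom.ker gB.toRingHom).FG :=
    Algebra.FinitePresentation.ker_fG_of_surjective gB hgBsurj
  obtain ⟨T, hT⟩ := hKfg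
  -- the extension of `I` to the polynomial ring
  have hkerμ' : RingHom.ker μ = I.map (algebraMap R' (MvPolynomial (Fin n) A')) := by
    rw [hkerμ, hker, Ideal.map_map]
    rfl
  -- lifting generators
  have hlift : ∀ t : MvPolynomial (Fin n) A, ∃ t' : MvPolynomial (Fin n) A',
      t ∈ RingHom.ker gB.toRingHom → (μ t' = t ∧ g₀ t' = 0) := by
    intro t
    by_cases ht : t ∈ RingHom.ker gB.toRingHom
    · obtain ⟨t₁, rfl⟩ := hμ t
      have h1 : πB (g₀ t₁) = 0 := by rw [← hgB]; exact ht
      have h2 : g₀ t₁ ∈ (RingHom.ker πA).map b' :=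
        Thick.ker_le_map_of_isPushout πA b' b πB hAB hπA h1
      have h3 : (RingHom.ker πA).map b' =
          ((RingHom.ker πA).map MvPolynomial.C).map (g₀ : MvPolynomial (Fin n) A' →+* B') := by
        rw [Ideal.map_map]
        congr 1
        ext x
        simp only [RingHom.comp_apply]
        change b' x = g₀ (MvPolynomial.C x)
        rw [← MvPolynomial.algebraMap_eq, AlgHom.commutes]
        rfl
      rw [h3, Ideal.mem_map_iff_of_surjective (g₀ : MvPolynomial (Fin n) A' →+* B') hg₀] at h2
      obtain ⟨j, hj, hj'⟩ := h2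
      refine ⟨t₁ - j, fun _ => ⟨?_, ?_⟩⟩
      · rw [map_sub]
        have : μ j = 0 := by
          rw [← RingHom.mem_ker, hkerμ]; exact hj
        rw [this, sub_zero]
      · rw [map_sub]
        have : g₀ j = g₀ t₁ := hj'
        rw [this, sub_self]
    · exact ⟨0, fun h => absurd h ht⟩
  choose lift hlift using hlift
  let T' : Finset (MvPolynomial (Fin n) A') := T.image lift
  have hT'ker : Ideal.span (T' : Set (MvPolynomial (Fin n) A')) ≤ RingHom.ker g₀.toRingHom := by
    rw [Ideal.span_le]
    intro t' ht'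
    obtain ⟨t, ht, rfl⟩ := Finset.mem_image.mp ht'
    have htK : t ∈ RingHom.ker gB.toRingHom := by
      rw [← hT]; exact Ideal.subset_span ht
    exact (hlift t htK).2
  have hμT' : (Ideal.span (T' : Set (MvPolynomial (Fin n) A'))).map μ = RingHom.ker gB.toRingHom := by
    rw [Ideal.map_span, ← hT]
    congr 1
    ext t
    constructor
    · rintro ⟨t', ht', rfl⟩
      obtain ⟨t, ht, rfl⟩ := Finset.mem_image.mp ht'
      have htK : t ∈ RingHom.ker gB.toRingHom := by
        rw [← hT]; exact Ideal.subset_span ht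
      rw [(hlift t htK).1]
      exact ht
    · intro ht
      have htK : t ∈ RingHom.ker gB.toRingHom := by
        rw [← hT]; exact Ideal.subset_span ht
      exact ⟨lift t, Finset.mem_image.mpr ⟨t, ht, rfl⟩, (hlift t htK).1⟩
  -- Nakayama over R'
  let gR : MvPolynomial (Fin n) A' →ₗ[R'] B' := (g₀.restrictScalars R').toLinearMap
  have hgR : ∀ p, gR p = g₀ p := fun p => rfl
  let N0 : Submodule R' (MvPolynomial (Fin n) A') :=
    (Ideal.span (T' : Set (MvPolynomial (Fin n) A'))).restrictScalars R'
  have hle : LinearMap.ker gR ≤ N0 := by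
    apply le_of_le_sup_smul I hI
    intro k hk
    have hk0 : g₀ k = 0 := hk
    have h1 : μ k ∈ (Ideal.span (T' : Set (MvPolynomial (Fin n) A'))).map μ := by
      rw [hμT']
      change gB (μ k) = 0
      rw [hgB, hk0, map_zero]
    rw [Ideal.mem_map_iff_of_surjective _ hμ] at h1
    obtain ⟨k0, hk0mem, hk0μ⟩ := h1
    have hj : k - k0 ∈ RingHom.ker μ := by
      rw [RingHom.mem_ker, map_sub, hk0μ, sub_self]
    have hjI : k - k0 ∈ I • (⊤ : Submodule R' (MvPolynomial (Fin n) A')) := by
      rw [Ideal.smul_top_eq_map]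
      rw [hkerμ'] at hj
      exact hj
    have hj0 : gR (k - k0) = 0 := by
      rw [hgR, map_sub, hk0, zero_sub, neg_eq_zero]
      exact hT'ker hk0mem
    have hmem := mem_smul_ker_of_flat I gR hg₀ (k - k0) hj0 hjI
    have : k = k0 + (k - k0) := by ring
    rw [this]
    exact Submodule.add_mem_sup hk0mem hmem
  refine ⟨T', le_antisymm hT'ker ?_⟩
  intro k hk
  exact hle hk

/-- Étaleness lifts. -/
theorem etale_of_isPushout
    (hAB : IsPushout (CommRingCat.ofHom πA) (CommRingCat.ofHom b') (CommRingCat.ofHom b)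
      (CommRingCat.ofHom πB))
    (hπA : Function.Surjective πA) (I : Ideal R') (hI : IsNilpotent I)
    (hker : RingHom.ker πA = I.map a') (hflat : (b'.comp a').Flat) (hb : b.Etale) :
    b'.Etale := by
  rw [RingHom.Etale.iff_flat_and_formallyUnramified] at hb ⊢
  obtain ⟨h1, h2, h3⟩ := hb
  have hnilA : IsNilpotent (RingHom.ker πA) := by rw [hker]; exact isNilpotent_map a' hI
  exact ⟨flat_of_isPushout a' πA b' b πB hAB hπA I hI hker hflat h1,
    Thick.formallyUnramified_of_isPushout πA b' b πB hAB hπA (Or.inl hnilA) h2,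
    finitePresentation_of_isPushout a' πA b' b πB hAB hπA I hI hker hflat h3⟩

/-- Smoothness lifts. -/
theorem smooth_of_isPushout
    (hAB : IsPushout (CommRingCat.ofHom πA) (CommRingCat.ofHom b') (CommRingCat.ofHom b)
      (CommRingCat.ofHom πB))
    (hπA : Function.Surjective πA) (I : Ideal R') (hI : IsNilpotent I)
    (hker : RingHom.ker πA = I.map a') (hflat : (b'.comp a').Flat) (hb : b.Smooth) :
    b'.Smooth := by
  have hnilA : IsNilpotent (RingHom.ker πA) := by rw [hker]; exact isNilpotent_map a' hI
  have hbflat : b.Flat := by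
    algebraize [b]
    exact (inferInstance : Module.Flat A B)
  have hfl : b'.Flat := flat_of_isPushout a' πA b' b πB hAB hπA I hI hker hflat hbflat
  have hfp : b'.FinitePresentation :=
    finitePresentation_of_isPushout a' πA b' b πB hAB hπA I hI hker hflat hb.finitePresentation
  letI : Algebra A' B' := b'.toAlgebra
  letI : Algebra A' A := πA.toAlgebra
  letI : Algebra A B := b.toAlgebra
  letI : Algebra B' B := πB.toAlgebra
  letI : Algebra A' B := (b.comp πA).toAlgebra
  haveI : IsScalarTower A' A B := .of_algebraMap_eq' rfl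
  haveI : IsScalarTower A' B' B := .of_algebraMap_eq' (congrArg CommRingCat.Hom.hom hAB.w)
  haveI : Algebra.IsPushout A' A B' B := CommRingCat.isPushout_iff_isPushout.mp hAB
  haveI : Algebra.Smooth A B := hb
  haveI : Module.Flat A' B' := hfl
  haveI : Algebra.FinitePresentation A' B' := hfp
  change Algebra.Smooth A' B'
  apply Algebra.Smooth.of_formallySmooth_fiber
  intro p hp
  have hle : RingHom.ker πA ≤ RingHom.ker (algebraMap A' p.ResidueField) := by
    intro x hx
    rw [RingHom.mem_ker]
    obtain ⟨m, hm⟩ := hnilA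
    have hxm : x ^ m ∈ (RingHom.ker πA) ^ m := Ideal.pow_mem_pow hx m
    rw [hm] at hxm
    have hx0 : x ^ m = 0 := by simpa using hxm
    have : (algebraMap A' p.ResidueField x) ^ m = 0 := by rw [← map_pow, hx0, map_zero]
    exact IsNilpotent.eq_zero ⟨m, this⟩
  let φ : A →+* p.ResidueField :=
    RingHom.liftOfSurjective πA hπA ⟨algebraMap A' p.ResidueField, hle⟩
  letI : Algebra A p.ResidueField := φ.toAlgebra
  haveI : IsScalarTower A' A p.ResidueField := .of_algebraMap_eq (fun x =>
    (RingHom.liftOfSurjective_comp_apply πA hπA ⟨algebraMap A' p.ResidueField, hle⟩ x).symm)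
  haveI : Algebra.FormallySmooth p.ResidueField (p.ResidueField ⊗[A] B) := inferInstance
  let e1 : p.ResidueField ⊗[A] (A ⊗[A'] B') ≃ₐ[p.ResidueField] p.ResidueField ⊗[A'] B' :=
    Algebra.TensorProduct.cancelBaseChange A' A p.ResidueField p.ResidueField B'
  let e2 : p.ResidueField ⊗[A] (A ⊗[A'] B') ≃ₐ[p.ResidueField] p.ResidueField ⊗[A] B :=
    Algebra.TensorProduct.congr AlgEquiv.refl (Algebra.IsPushout.equiv A' A B' B)
  exact Algebra.FormallySmooth.of_equiv (e2.symm.trans e1)

end Ring

end Groth.Agent.Lib.Helper10.Deform
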