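import Mathlib
import Groth.Prelude.Def_MoreMor
import Groth.Agent.Lib.Helper10.Deform

/-!
# Deformation of properties of morphisms along a finite order thickening: scheme level (helper10)
-/

set_option autoImplicit false
set_option linter.style.haveILetI false

universe u

open AlgebraicGeometry CategoryTheory CategoryTheory.Limits TopologicalSpace

namespace Groth.Agent.Lib.Helper10.Deform

variable {X X' Y Y' S S' : Scheme.{u}} (iX : X ⟶ X') (iY : Y ⟶ Y') (iS : S ⟶ S')
    (f : X ⟶ Y) (f' : X' ⟶ Y') (g : Y ⟶ S) (g' : Y' ⟶ S')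

theorem isPullback_top (hcX : IsPullback iX (f ≫ g) (f' ≫ g') iS) (hcY : IsPullback iY g g' iS)
    (w : iX ≫ f' = f ≫ iY) : IsPullback iX f f' iY := IsPullback.of_bot hcX w hcY

/-- Generic lifting of a local property of ring maps along a finite order thickening of the base,
given the ring-level statement. -/
theorem lift_of_ringHomProperty (P : MorphismProperty Scheme.{u})
    (Q : ∀ {R S : Type u} [CommRing R] [CommRing S], (R →+* S) → Prop)
    [HasRingHomProperty P Q]
    (hQ : RingHom.StableUnderCompositionWithLocalizationAwaySource Q)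
    (hring : ∀ {R' A' A B' B : Type u} [CommRing R'] [CommRing A'] [CommRing A] [CommRing B']
      [CommRing B] (a' : R' →+* A') (πA : A' →+* A) (b' : A' →+* B') (b : A →+* B)
      (πB : B' →+* B),
      IsPushout (CommRingCat.ofHom πA) (CommRingCat.ofHom b') (CommRingCat.ofHom b)
        (CommRingCat.ofHom πB) →
      Function.Surjective πA → ∀ (I : Ideal R'), IsNilpotent I → RingHom.ker πA = I.map a' →
      (b'.comp a').Flat → Q b → Q b')
    (hS : MoreMor.IsFiniteOrderThickening iS) (hcX : IsPullback iX (f ≫ g) (f' ≫ g') iS)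
    (hcY : IsPullback iY g g' iS) (w : iX ≫ f' = f ≫ iY) [Flat (f' ≫ g')] (hf : P f) : P f' := by
  obtain ⟨⟨hcl, hsurj⟩, n, hn⟩ := hS
  haveI : IsClosedImmersion iS := hcl
  haveI : IsClosedImmersion iY :=
    MorphismProperty.of_isPullback (P := @IsClosedImmersion) hcY.flip hcl
  haveI : IsClosedImmersion iX :=
    MorphismProperty.of_isPullback (P := @IsClosedImmersion) hcX.flip hcl
  have hsq : IsPullback iX f f' iY := IsPullback.of_bot hcX w hcY
  rw [HasRingHomProperty.iff_exists_appLE (P := P) hQ]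
  intro x'
  obtain ⟨_, ⟨W', hW', rfl⟩, hxW', -⟩ := S'.isBasis_affineOpens.exists_subset_of_mem_open
    (Set.mem_univ (g' (f' x'))) isOpen_univ
  obtain ⟨_, ⟨U', hU', rfl⟩, hxU', hUW⟩ := Y'.isBasis_affineOpens.exists_subset_of_mem_open
    (show f' x' ∈ (g' ⁻¹ᵁ W' : Y'.Opens) from hxW') (g' ⁻¹ᵁ W').2
  obtain ⟨_, ⟨V', hV', rfl⟩, hxV', hVU⟩ := X'.isBasis_affineOpens.exists_subset_of_mem_open
    (show x' ∈ (f' ⁻¹ᵁ U' : X'.Opens) from hxU') (f' ⁻¹ᵁ U').2
  have e1 : U' ≤ g' ⁻¹ᵁ W' := hUW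
  have e : V' ≤ f' ⁻¹ᵁ U' := hVU
  have e2 : V' ≤ (f' ≫ g') ⁻¹ᵁ W' := fun z hz => e1 (e hz)
  refine ⟨⟨U', hU'⟩, ⟨V', hV'⟩, hxV', e, ?_⟩
  have hAB := Thick.isPushout_sections hsq hU' hV' e
  have hA := Thick.isPushout_sections hcY hW' hU' e1
  have hπR := Thick.appLE_surjective (iY := iS) hW'
  have hπA := Thick.appLE_surjective (iY := iY) hU'
  have hnil : IsNilpotent (RingHom.ker (iS.appLE W' (iS ⁻¹ᵁ W') le_rfl).hom) := by
    refine ⟨n, ?_⟩
    have h1 : (iS.ker ^ n).ideal ⟨W', hW'⟩ = (0 : S'.IdealSheafData).ideal ⟨W', hW'⟩ := by rw [hn]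
    rw [Scheme.IdealSheafData.ideal_pow] at h1
    have h2 : (iS.ker.ideal ^ n) ⟨W', hW'⟩ = (iS.ker.ideal ⟨W', hW'⟩) ^ n := rfl
    rw [h2, Scheme.Hom.ker_apply] at h1
    rw [Scheme.Hom.appLE_eq_app, h1]
    rfl
  have hwA : ∀ x, (g.appLE (iS ⁻¹ᵁ W') (iY ⁻¹ᵁ U') (Thick.preimage_le hcY e1)).hom
      ((iS.appLE W' (iS ⁻¹ᵁ W') le_rfl).hom x) =
      (iY.appLE U' (iY ⁻¹ᵁ U') le_rfl).hom ((g'.appLE W' U' e1).hom x) :=
    fun x => congrArg (fun m => m.hom x) hA.w
  have hker : RingHom.ker (iY.appLE U' (iY ⁻¹ᵁ U') le_rfl).hom =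
      (RingHom.ker (iS.appLE W' (iS ⁻¹ᵁ W') le_rfl).hom).map (g'.appLE W' U' e1).hom := by
    apply le_antisymm
    · exact Thick.ker_le_map_of_isPushout _ _ _ _ hA hπR
    · rw [Ideal.map_le_iff_le_comap]
      intro x hx
      rw [Ideal.mem_comap, RingHom.mem_ker, ← hwA, RingHom.mem_ker.mp hx, map_zero]
  have hcomp' : (f' ≫ g').appLE W' V' e2 = g'.appLE W' U' e1 ≫ f'.appLE U' V' e :=
    (Scheme.Hom.appLE_comp_appLE f' g' W' U' V' e1 e).symm
  have hflat : ((f'.appLE U' V' e).hom.comp (g'.appLE W' U' e1).hom).Flat := by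
    have h1 := HasRingHomProperty.appLE (P := @Flat) (f' ≫ g') inferInstance
      ⟨W', hW'⟩ ⟨V', hV'⟩ e2
    rw [hcomp', CommRingCat.hom_comp] at h1
    exact h1
  have hb := HasRingHomProperty.appLE (P := P) f hf ⟨_, hU'.preimage iY⟩ ⟨_, hV'.preimage iX⟩
    (Thick.preimage_le hsq e)
  exact hring (g'.appLE W' U' e1).hom (iY.appLE U' (iY ⁻¹ᵁ U') le_rfl).hom
    (f'.appLE U' V' e).hom (f.appLE (iY ⁻¹ᵁ U') (iX ⁻¹ᵁ V') (Thick.preimage_le hsq e)).hom
    (iX.appLE V' (iX ⁻¹ᵁ V') le_rfl).hom hAB hπA _ hnil hker hflat hb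

theorem flat_lift (hS : MoreMor.IsFiniteOrderThickening iS)
    (hcX : IsPullback iX (f ≫ g) (f' ≫ g') iS)
    (hcY : IsPullback iY g g' iS) (w : iX ≫ f' = f ≫ iY) [Flat (f' ≫ g')] (hf : Flat f) :
    Flat f' :=
  lift_of_ringHomProperty iX iY iS f f' g g' @Flat RingHom.Flat
    (RingHom.Flat.stableUnderComposition.stableUnderCompositionWithLocalizationAway
      RingHom.Flat.holdsForLocalizationAway).1
    (fun a' πA b' b πB hAB hπA I hI hker hflat hb =>
      flat_of_isPushout a' πA b' b πB hAB hπA I hI hker hflat hb) hS hcX hcY w hf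

theorem lfp_lift (hS : MoreMor.IsFiniteOrderThickening iS)
    (hcX : IsPullback iX (f ≫ g) (f' ≫ g') iS)
    (hcY : IsPullback iY g g' iS) (w : iX ≫ f' = f ≫ iY) [Flat (f' ≫ g')]
    (hf : LocallyOfFinitePresentation f) : LocallyOfFinitePresentation f' :=
  lift_of_ringHomProperty iX iY iS f f' g g' @LocallyOfFinitePresentation
    RingHom.FinitePresentation
    (RingHom.finitePresentation_stableUnderComposition.stableUnderCompositionWithLocalizationAway
      RingHom.finitePresentation_holdsForLocalizationAway).1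
    (fun a' πA b' b πB hAB hπA I hI hker hflat hb =>
      finitePresentation_of_isPushout a' πA b' b πB hAB hπA I hI hker hflat hb) hS hcX hcY w hf

theorem smooth_lift (hS : MoreMor.IsFiniteOrderThickening iS)
    (hcX : IsPullback iX (f ≫ g) (f' ≫ g') iS)
    (hcY : IsPullback iY g g' iS) (w : iX ≫ f' = f ≫ iY) [Flat (f' ≫ g')]
    (hf : Smooth f) : Smooth f' :=
  lift_of_ringHomProperty iX iY iS f f' g g' @Smooth RingHom.Smooth
    (RingHom.Smooth.stableUnderComposition.stableUnderCompositionWithLocalizationAway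
      RingHom.Smooth.holdsForLocalizationAway).1
    (fun a' πA b' b πB hAB hπA I hI hker hflat hb =>
      smooth_of_isPushout a' πA b' b πB hAB hπA I hI hker hflat hb) hS hcX hcY w hf

theorem etale_holdsForLocalizationAway : RingHom.HoldsForLocalizationAway RingHom.Etale := by
  intro R S _ _ _ r _
  rw [RingHom.etale_algebraMap]
  exact Algebra.Etale.of_isLocalizationAway r

theorem etale_lift (hS : MoreMor.IsFiniteOrderThickening iS)
    (hcX : IsPullback iX (f ≫ g) (f' ≫ g') iS)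
    (hcY : IsPullback iY g g' iS) (w : iX ≫ f' = f ≫ iY) [Flat (f' ≫ g')]
    (hf : Etale f) : Etale f' :=
  lift_of_ringHomProperty iX iY iS f f' g g' @Etale RingHom.Etale
    (RingHom.Etale.stableUnderComposition.stableUnderCompositionWithLocalizationAway
      etale_holdsForLocalizationAway).1
    (fun a' πA b' b πB hAB hπA I hI hker hflat hb =>
      etale_of_isPushout a' πA b' b πB hAB hπA I hI hker hflat hb) hS hcX hcY w hf

end Groth.Agent.Lib.Helper10.Deform
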