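import Groth.Agent.Lib.Helper29.QCohPullback
import Groth.Prelude.Def_FlatMod2
import Groth.Agent.Lib.Helper29.QCohTensor
import Mathlib.RingTheory.Flat.FaithfullyFlat.Algebra

/-!
# Stalks of inverse images of quasi-coherent modules

`(f^* F)_x ≃ O_{X,x} ⊗_{O_{Y,f x}} F_{f x}` as `O_{X,x}`-modules, for `F` quasi-coherent.
-/

universe u
open CategoryTheory CategoryTheory.Limits AlgebraicGeometry Opposite TopologicalSpace
open scoped TensorProduct

namespace Groth.Agent.Lib.Helper10.PullbackStalk

open Groth.Agent.Lib.Helper29.QCoh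

section Algebra

variable {B A Bq Ap : Type*} [CommRing B] [CommRing A] [CommRing Bq] [CommRing Ap]
  [Algebra B A] [Algebra B Bq] [Algebra A Ap] [Algebra Bq Ap] [Algebra B Ap]
  [IsScalarTower B A Ap] [IsScalarTower B Bq Ap]
  {M Mq T Tp : Type*} [AddCommGroup M] [Module B M] [AddCommGroup Mq] [Module B Mq] [Module Bq Mq]
  [IsScalarTower B Bq Mq] [AddCommGroup T] [Module A T] [AddCommGroup Tp] [Module A Tp]
  [Module Ap Tp] [IsScalarTower A Ap Tp]

/-- Localization of a base change is the base change of the localization. -/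
noncomputable def localizedBaseChangeEquiv (S : Submonoid B) [IsLocalization S Bq] (g : M →ₗ[B] Mq)
    [IsLocalizedModule S g] (S' : Submonoid A) [IsLocalization S' Ap] (h : T →ₗ[A] Tp)
    [IsLocalizedModule S' h] (e : T ≃ₗ[A] A ⊗[B] M) : Tp ≃ₗ[Ap] Ap ⊗[Bq] Mq :=
  (IsLocalizedModule.isBaseChange S' Ap h).equiv.symm ≪≫ₗ
    TensorProduct.AlgebraTensorModule.congr (LinearEquiv.refl Ap Ap) e ≪≫ₗ
    TensorProduct.AlgebraTensorModule.cancelBaseChange B A Ap Ap M ≪≫ₗ
    (TensorProduct.AlgebraTensorModule.cancelBaseChange B Bq Ap Ap M).symm ≪≫ₗ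
    TensorProduct.AlgebraTensorModule.congr (LinearEquiv.refl Ap Ap)
      (IsLocalizedModule.isBaseChange S Bq g).equiv

end Algebra

section FlatTensor

variable (A B C N : Type*) [CommRing A] [CommRing B] [CommRing C] [Algebra A B] [Algebra B C]
  [Algebra A C] [IsScalarTower A B C] [AddCommGroup N] [Module A N] [Module B N]
  [IsScalarTower A B N]

theorem lTensor_tensor_injective_iff (I : Ideal A) :
    Function.Injective (LinearMap.lTensor (C ⊗[B] N) I.subtype) ↔
      Function.Injective (LinearMap.lTensor C
        (TensorProduct.AlgebraTensorModule.lTensor B N I.subtype)) := by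
  let e1 := TensorProduct.AlgebraTensorModule.assoc A B B C N I
  let e2 := TensorProduct.AlgebraTensorModule.assoc A B B C N A
  have hcomm : ∀ t, e2 (LinearMap.lTensor (C ⊗[B] N) I.subtype t) =
      LinearMap.lTensor C (TensorProduct.AlgebraTensorModule.lTensor B N I.subtype) (e1 t) := by
    intro t
    induction t using TensorProduct.induction_on with
    | zero => simp
    | add a b ha hb => simp only [map_add, ha, hb]
    | tmul s i =>
      induction s using TensorProduct.induction_on with
      | zero => simp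
      | add a b ha hb => simp only [TensorProduct.add_tmul, map_add, ha, hb]
      | tmul c n => simp [e1, e2]
  constructor
  · intro h a b hab
    apply e1.symm.injective
    apply h
    apply e2.injective
    rw [hcomm, hcomm, e1.apply_symm_apply, e1.apply_symm_apply, hab]
  · intro h a b hab
    apply e1.injective
    apply h
    rw [← hcomm, ← hcomm, hab]

/-- `C ⊗_B N` is flat over `A` when `C` is flat over `B` and `N` is flat over `A`. -/
theorem flat_tensor_of_flat [Module.Flat B C] [Module.Flat A N] : Module.Flat A (C ⊗[B] N) := by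
  rw [Module.Flat.iff_lTensor_injective']
  intro I
  rw [lTensor_tensor_injective_iff]
  apply Module.Flat.lTensor_preserves_injective_linearMap
  exact Module.Flat.lTensor_preserves_injective_linearMap (M := N) I.subtype Subtype.val_injective

/-- If `C` is faithfully flat over `B` and `C ⊗_B N` is flat over `A`, then `N` is flat over `A`. -/
theorem flat_of_flat_tensor_of_faithfullyFlat [Module.FaithfullyFlat B C]
    [Module.Flat A (C ⊗[B] N)] : Module.Flat A N := by
  rw [Module.Flat.iff_lTensor_injective']
  intro I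
  have h1 : Function.Injective (LinearMap.lTensor (C ⊗[B] N) I.subtype) :=
    Module.Flat.lTensor_preserves_injective_linearMap I.subtype Subtype.val_injective
  rw [lTensor_tensor_injective_iff] at h1
  exact (Module.FaithfullyFlat.lTensor_injective_iff_injective B C _).mp h1

end FlatTensor

variable {X Y : Scheme.{u}}

/-- The stalk of `f^* F` at `x` is `O_{X,x} ⊗_{O_{Y,f x}} F_{f x}`. -/
theorem nonempty_stalk_pullback_equiv (f : X ⟶ Y) (F : Y.Modules) [F.IsQuasicoherent] (x : X) :
    letI := (f.stalkMap x).hom.toAlgebra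
    Nonempty (((Scheme.Modules.pullback f).obj F).presheaf.stalk x ≃ₗ[X.presheaf.stalk x]
      (X.presheaf.stalk x) ⊗[Y.presheaf.stalk (f.base x)] (F.presheaf.stalk (f.base x))) := by
  obtain ⟨U, V, hU, hV, hxU, hUV⟩ := exists_affine_pair f x
  have hyV : f.base x ∈ V := hUV hxU
  let _ : Algebra Γ(Y, V) Γ(X, U) := (f.appLE V U hUV).hom.toAlgebra
  let _ : Algebra Γ(X, U) (X.presheaf.stalk x) :=
    TopCat.Presheaf.algebra_section_stalk X.presheaf ⟨x, hxU⟩
  let _ : Algebra Γ(Y, V) (Y.presheaf.stalk (f.base x)) :=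
    TopCat.Presheaf.algebra_section_stalk Y.presheaf ⟨f.base x, hyV⟩
  let _ : Algebra (Y.presheaf.stalk (f.base x)) (X.presheaf.stalk x) :=
    (f.stalkMap x).hom.toAlgebra
  let _ : Algebra Γ(Y, V) (X.presheaf.stalk x) :=
    ((X.presheaf.germ U x hxU).hom.comp (f.appLE V U hUV).hom).toAlgebra
  have : IsScalarTower Γ(Y, V) Γ(X, U) (X.presheaf.stalk x) :=
    IsScalarTower.of_algebraMap_eq fun b => rfl
  have : IsScalarTower Γ(Y, V) (Y.presheaf.stalk (f.base x)) (X.presheaf.stalk x) := by
    refine IsScalarTower.of_algebraMap_eq fun b => ?_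
    change (X.presheaf.germ U x hxU).hom ((f.appLE V U hUV).hom b) =
      (f.stalkMap x).hom ((Y.presheaf.germ V (f.base x) hyV).hom b)
    rw [Scheme.Hom.appLE]
    have h1 := Scheme.Hom.germ_stalkMap_apply f V x hyV b
    rw [h1]
    change _ = (X.presheaf.germ (f ⁻¹ᵁ V) x hyV).hom ((f.app V).hom b)
    exact (X.presheaf.germ_res_apply (homOfLE hUV) x hxU ((f.app V).hom b))
  have hlocX := hU.isLocalization_stalk ⟨x, hxU⟩
  have hlocY := hV.isLocalization_stalk ⟨f.base x, hyV⟩
  let _ := stalkModule F V (f.base x) hyV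
  have : IsScalarTower Γ(Y, V) (Y.presheaf.stalk (f.base x)) (F.presheaf.stalk (f.base x)) :=
    IsScalarTower.of_algebraMap_smul fun a m => rfl
  have hg := isLocalizedModule_germ F hV (f.base x) hyV
  let _ := stalkModule ((Scheme.Modules.pullback f).obj F) U x hxU
  have : IsScalarTower Γ(X, U) (X.presheaf.stalk x)
      (((Scheme.Modules.pullback f).obj F).presheaf.stalk x) :=
    IsScalarTower.of_algebraMap_smul fun a m => rfl
  have hh := isLocalizedModule_germ ((Scheme.Modules.pullback f).obj F) hU x hxU
  exact ⟨localizedBaseChangeEquiv (hV.primeIdealOf ⟨f.base x, hyV⟩).asIdeal.primeCompl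
    (germₗ F V (f.base x) hyV) (hU.primeIdealOf ⟨x, hxU⟩).asIdeal.primeCompl
    (germₗ ((Scheme.Modules.pullback f).obj F) U x hxU) (pullbackSectionsEquiv f F hU hV hUV)⟩

/-- Flatness of `(f^* G)_x` over `O_{Z, g (f x)}` versus flatness of `G_{f x}`, for `f` flat at `x`. -/
theorem isFlatOverAt_pullback_iff {X Y Z : Scheme.{u}} (f : X ⟶ Y) (g : Y ⟶ Z)
    (G : Y.Modules) [G.IsQuasicoherent] (x : X) (hflat : (f.stalkMap x).hom.Flat) :
    FlatMod.IsFlatOverAt (f ≫ g) ((Scheme.Modules.pullback f).obj G) x ↔
      FlatMod.IsFlatOverAt g G (f.base x) := by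
  let _ : Algebra (Z.presheaf.stalk ((f ≫ g).base x)) (Y.presheaf.stalk (f.base x)) :=
    (g.stalkMap (f.base x)).hom.toAlgebra
  let _ : Algebra (Y.presheaf.stalk (f.base x)) (X.presheaf.stalk x) :=
    (f.stalkMap x).hom.toAlgebra
  let _ : Algebra (Z.presheaf.stalk ((f ≫ g).base x)) (X.presheaf.stalk x) :=
    ((f ≫ g).stalkMap x).hom.toAlgebra
  have : IsScalarTower (Z.presheaf.stalk ((f ≫ g).base x)) (Y.presheaf.stalk (f.base x))
      (X.presheaf.stalk x) := by
    refine IsScalarTower.of_algebraMap_eq fun a => ?_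
    change ((f ≫ g).stalkMap x).hom a = (f.stalkMap x).hom ((g.stalkMap (f.base x)).hom a)
    rw [Scheme.Hom.stalkMap_comp]
    rfl
  let _ : Module (Z.presheaf.stalk ((f ≫ g).base x)) (G.presheaf.stalk (f.base x)) :=
    FlatMod.moduleStalkOver g G (f.base x)
  have : IsScalarTower (Z.presheaf.stalk ((f ≫ g).base x)) (Y.presheaf.stalk (f.base x))
      (G.presheaf.stalk (f.base x)) :=
    IsScalarTower.of_algebraMap_smul fun a m => rfl
  let _ : Module (Z.presheaf.stalk ((f ≫ g).base x))
      (((Scheme.Modules.pullback f).obj G).presheaf.stalk x) :=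
    FlatMod.moduleStalkOver (f ≫ g) ((Scheme.Modules.pullback f).obj G) x
  have : IsScalarTower (Z.presheaf.stalk ((f ≫ g).base x)) (X.presheaf.stalk x)
      (((Scheme.Modules.pullback f).obj G).presheaf.stalk x) :=
    IsScalarTower.of_algebraMap_smul fun a m => rfl
  obtain ⟨e⟩ := nonempty_stalk_pullback_equiv f G x
  let e' := e.restrictScalars (Z.presheaf.stalk ((f ≫ g).base x))
  have hfl : Module.Flat (Y.presheaf.stalk (f.base x)) (X.presheaf.stalk x) :=
    hflat
  have hloc : IsLocalHom (algebraMap (Y.presheaf.stalk (f.base x)) (X.presheaf.stalk x)) :=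
    inferInstanceAs (IsLocalHom (f.stalkMap x).hom)
  have hff : Module.FaithfullyFlat (Y.presheaf.stalk (f.base x)) (X.presheaf.stalk x) :=
    Module.FaithfullyFlat.of_flat_of_isLocalHom
  change Module.Flat (Z.presheaf.stalk ((f ≫ g).base x))
      (((Scheme.Modules.pullback f).obj G).presheaf.stalk x) ↔
    Module.Flat (Z.presheaf.stalk ((f ≫ g).base x)) (G.presheaf.stalk (f.base x))
  constructor
  · intro h
    have : Module.Flat (Z.presheaf.stalk ((f ≫ g).base x))
        ((X.presheaf.stalk x) ⊗[Y.presheaf.stalk (f.base x)] (G.presheaf.stalk (f.base x))) :=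
      Module.Flat.of_linearEquiv e'.symm
    exact flat_of_flat_tensor_of_faithfullyFlat (Z.presheaf.stalk ((f ≫ g).base x))
      (Y.presheaf.stalk (f.base x)) (X.presheaf.stalk x) (G.presheaf.stalk (f.base x))
  · intro h
    have : Module.Flat (Z.presheaf.stalk ((f ≫ g).base x))
        ((X.presheaf.stalk x) ⊗[Y.presheaf.stalk (f.base x)] (G.presheaf.stalk (f.base x))) :=
      flat_tensor_of_flat (Z.presheaf.stalk ((f ≫ g).base x))
        (Y.presheaf.stalk (f.base x)) (X.presheaf.stalk x) (G.presheaf.stalk (f.base x))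
    exact Module.Flat.of_linearEquiv e'


section FlatTensorModule

variable (A B P N : Type*) [CommRing A] [CommRing B] [Algebra A B]
  [AddCommGroup P] [Module A P] [Module B P] [IsScalarTower A B P]
  [AddCommGroup N] [Module A N] [Module B N] [IsScalarTower A B N]

theorem lTensor_tensor_injective_iff' (I : Ideal A) :
    Function.Injective (LinearMap.lTensor (P ⊗[B] N) I.subtype) ↔
      Function.Injective (LinearMap.lTensor P
        (TensorProduct.AlgebraTensorModule.lTensor B N I.subtype)) := by
  let e1 := TensorProduct.AlgebraTensorModule.assoc A B B P N I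
  let e2 := TensorProduct.AlgebraTensorModule.assoc A B B P N A
  have hcomm : ∀ t, e2 (LinearMap.lTensor (P ⊗[B] N) I.subtype t) =
      LinearMap.lTensor P (TensorProduct.AlgebraTensorModule.lTensor B N I.subtype) (e1 t) := by
    intro t
    induction t using TensorProduct.induction_on with
    | zero => simp
    | add a b ha hb => simp only [map_add, ha, hb]
    | tmul s i =>
      induction s using TensorProduct.induction_on with
      | zero => simp
      | add a b ha hb => simp only [TensorProduct.add_tmul, map_add, ha, hb]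
      | tmul c n => simp [e1, e2]
  constructor
  · intro h a b hab
    apply e1.symm.injective
    apply h
    apply e2.injective
    rw [hcomm, hcomm, e1.apply_symm_apply, e1.apply_symm_apply, hab]
  · intro h a b hab
    apply e1.injective
    apply h
    rw [← hcomm, ← hcomm, hab]

/-- `P ⊗_B N` is flat over `A` when `P` is flat over `B` and `N` is flat over `A`. -/
theorem flat_tensor_of_flat' [Module.Flat B P] [Module.Flat A N] : Module.Flat A (P ⊗[B] N) := by
  rw [Module.Flat.iff_lTensor_injective']
  intro I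
  rw [lTensor_tensor_injective_iff']
  apply Module.Flat.lTensor_preserves_injective_linearMap
  exact Module.Flat.lTensor_preserves_injective_linearMap (M := N) I.subtype Subtype.val_injective

/-- If `P` is faithfully flat over `B` and `P ⊗_B N` is flat over `A`, then `N` is flat over `A`. -/
theorem flat_of_flat_tensor_of_faithfullyFlat' [Module.FaithfullyFlat B P]
    [Module.Flat A (P ⊗[B] N)] : Module.Flat A N := by
  rw [Module.Flat.iff_lTensor_injective']
  intro I
  have h1 : Function.Injective (LinearMap.lTensor (P ⊗[B] N) I.subtype) :=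
    Module.Flat.lTensor_preserves_injective_linearMap I.subtype Subtype.val_injective
  rw [lTensor_tensor_injective_iff'] at h1
  exact (Module.FaithfullyFlat.lTensor_injective_iff_injective B P _).mp h1

end FlatTensorModule

/-- The stalk of a tensor product of quasi-coherent modules is the tensor product of the stalks. -/
theorem nonempty_stalk_tensorMod_equiv {X : Scheme.{u}} (M N : X.Modules) [M.IsQuasicoherent]
    [N.IsQuasicoherent] (x : X) :
    Nonempty ((CohB1.tensorMod M N).presheaf.stalk x ≃ₗ[X.presheaf.stalk x]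
      (M.presheaf.stalk x) ⊗[X.presheaf.stalk x] (N.presheaf.stalk x)) := by
  obtain ⟨U, hU, hxU, -⟩ := exists_isAffineOpen_mem_and_subset (x := x) (U := (⊤ : X.Opens)) trivial
  let _ : Algebra Γ(X, U) (X.presheaf.stalk x) :=
    TopCat.Presheaf.algebra_section_stalk X.presheaf ⟨x, hxU⟩
  have hloc := hU.isLocalization_stalk ⟨x, hxU⟩
  let _ := stalkModule M U x hxU
  have : IsScalarTower Γ(X, U) (X.presheaf.stalk x) (M.presheaf.stalk x) :=
    IsScalarTower.of_algebraMap_smul fun a m => rfl
  have hM := isLocalizedModule_germ M hU x hxU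
  let _ := stalkModule N U x hxU
  have : IsScalarTower Γ(X, U) (X.presheaf.stalk x) (N.presheaf.stalk x) :=
    IsScalarTower.of_algebraMap_smul fun a m => rfl
  have hN := isLocalizedModule_germ N hU x hxU
  have : (CohB1.tensorMod M N).IsQuasicoherent := inferInstance
  let _ := stalkModule (CohB1.tensorMod M N) U x hxU
  have : IsScalarTower Γ(X, U) (X.presheaf.stalk x) ((CohB1.tensorMod M N).presheaf.stalk x) :=
    IsScalarTower.of_algebraMap_smul fun a m => rfl
  have hT := isLocalizedModule_germ (CohB1.tensorMod M N) hU x hxU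
  exact ⟨(IsLocalizedModule.isBaseChange (hU.primeIdealOf ⟨x, hxU⟩).asIdeal.primeCompl
      (X.presheaf.stalk x) (germₗ (CohB1.tensorMod M N) U x hxU)).equiv.symm ≪≫ₗ
    TensorProduct.AlgebraTensorModule.congr (LinearEquiv.refl _ _)
      (tensorSectionsEquiv M N hU).symm ≪≫ₗ
    TensorProduct.AlgebraTensorModule.distribBaseChange Γ(X, U) (X.presheaf.stalk x) Γ(M, U)
      Γ(N, U) ≪≫ₗ
    TensorProduct.congr
      (IsLocalizedModule.isBaseChange (hU.primeIdealOf ⟨x, hxU⟩).asIdeal.primeCompl
        (X.presheaf.stalk x) (germₗ M U x hxU)).equiv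
      (IsLocalizedModule.isBaseChange (hU.primeIdealOf ⟨x, hxU⟩).asIdeal.primeCompl
        (X.presheaf.stalk x) (germₗ N U x hxU)).equiv⟩


end Groth.Agent.Lib.Helper10.PullbackStalk
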