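import Mathlib.AlgebraicGeometry.Morphisms.Flat
import Mathlib.AlgebraicGeometry.Stalk
import Mathlib.AlgebraicGeometry.Pullbacks
import Mathlib.RingTheory.IsTensorProduct
import Groth.Agent.Lib.Helper10.PullbackStalk

/-!
# The local ring of a fibre product is flat over the tensor product of the local rings

For a cartesian square `X' = X ×_S S'` and a point `x'` of `X'`, the canonical ring map
`O_{S',s'} ⊗_{O_{S,s}} O_{X,x} → O_{X',x'}` is flat.
-/

universe u
open CategoryTheory CategoryTheory.Limits AlgebraicGeometry Opposite TopologicalSpace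
open scoped TensorProduct

namespace Groth.Agent.Lib.Helper10.FibreProductStalk

/-- The canonical morphism `Spec O_{X,x} ⟶ X` is flat. -/
theorem flat_fromSpecStalk (X : Scheme.{u}) (x : X) : Flat (X.fromSpecStalk x) := by
  obtain ⟨U, hU, hxU, -⟩ := exists_isAffineOpen_mem_and_subset (x := x) (U := (⊤ : X.Opens)) trivial
  rw [← hU.fromSpecStalk_eq_fromSpecStalk hxU, IsAffineOpen.fromSpecStalk]
  have : Flat (Spec.map (X.presheaf.germ U x hxU)) := by
    rw [Flat.SpecMap_iff]
    let _ : Algebra Γ(X, U) (X.presheaf.stalk x) :=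
      TopCat.Presheaf.algebra_section_stalk X.presheaf ⟨x, hxU⟩
    have hloc := hU.isLocalization_stalk ⟨x, hxU⟩
    exact IsLocalization.flat (X.presheaf.stalk x) (hU.primeIdealOf ⟨x, hxU⟩).asIdeal.primeCompl
  infer_instance

variable {X S X' S' : Scheme.{u}} {f : X ⟶ S} {f' : X' ⟶ S'} {g' : X' ⟶ X} {g : S' ⟶ S}

theorem base_eq (hc : IsPullback g' f' f g) (x' : X') :
    f.base (g'.base x') = g.base (f'.base x') :=
  congrArg (fun φ : X' ⟶ S => φ.base x') hc.w

/-- The ring map `O_{S, f (g' x')} ⟶ O_{S', f' x'}` induced by `g`, for a commutative square. -/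
noncomputable def baseStalkMap (hc : IsPullback g' f' f g) (x' : X') :
    S.presheaf.stalk (f.base (g'.base x')) ⟶ S'.presheaf.stalk (f'.base x') :=
  (S.presheaf.stalkCongr (.of_eq (base_eq hc x'))).hom ≫ g.stalkMap (f'.base x')

theorem stalkMap_comp_eq (hc : IsPullback g' f' f g) (x' : X') :
    f.stalkMap (g'.base x') ≫ g'.stalkMap x' = baseStalkMap hc x' ≫ f'.stalkMap x' := by
  have h1 := Scheme.Hom.stalkMap_comp g' f x'
  have h2 := Scheme.Hom.stalkMap_comp f' g x'
  have h3 := Scheme.Hom.stalkMap_congr_hom (g' ≫ f) (f' ≫ g) hc.w x'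
  have h4 : (g' ≫ f).stalkMap x' = (S.presheaf.stalkCongr (.of_eq (base_eq hc x'))).hom ≫
      (f' ≫ g).stalkMap x' := h3
  rw [← h1, h4, h2, baseStalkMap, Category.assoc]

theorem SpecMap_baseStalkMap_fromSpecStalk (hc : IsPullback g' f' f g) (x' : X') :
    Spec.map (baseStalkMap hc x') ≫ S.fromSpecStalk (f.base (g'.base x')) =
      S'.fromSpecStalk (f'.base x') ≫ g := by
  rw [baseStalkMap, Spec.map_comp, Category.assoc]
  have h1 : Spec.map (S.presheaf.stalkCongr (.of_eq (base_eq hc x'))).hom ≫
      S.fromSpecStalk (f.base (g'.base x')) = S.fromSpecStalk (g.base (f'.base x')) :=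
    Scheme.SpecMap_stalkSpecializes_fromSpecStalk (Inseparable.of_eq (base_eq hc x')).ge
  rw [h1]
  exact Scheme.SpecMap_stalkMap_fromSpecStalk g


/-- Abstract form: a flat morphism `Spec B' ⟶ X'` into a fibre product which factors through the
fibre product of monomorphisms `Spec B ⟶ X`, `Spec A' ⟶ S'` over `Spec A ⟶ S` induces a flat
morphism `Spec B' ⟶ Spec A' ×_{Spec A} Spec B`. -/
theorem flat_lift_of_mono (hc : IsPullback g' f' f g) {A A' B B' : CommRingCat.{u}}
    (a' : A ⟶ A') (b : A ⟶ B) (c : B ⟶ B') (d : A' ⟶ B')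
    (iA : Spec A ⟶ S) (iA' : Spec A' ⟶ S') (iB : Spec B ⟶ X) (iB' : Spec B' ⟶ X')
    [Mono iA'] [Mono iB] [Flat iB']
    (h1 : Spec.map b ≫ iA = iB ≫ f) (h2 : Spec.map a' ≫ iA = iA' ≫ g)
    (h3 : Spec.map c ≫ iB = iB' ≫ g') (h4 : Spec.map d ≫ iA' = iB' ≫ f')
    (hkc : Spec.map d ≫ Spec.map a' = Spec.map c ≫ Spec.map b) :
    Flat (pullback.lift (Spec.map d) (Spec.map c) hkc) := by
  have hcompat : (pullback.snd (Spec.map a') (Spec.map b) ≫ iB) ≫ f =
      (pullback.fst (Spec.map a') (Spec.map b) ≫ iA') ≫ g := by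
    rw [Category.assoc, Category.assoc, ← h1, ← h2, ← Category.assoc, ← Category.assoc,
      pullback.condition]
  obtain ⟨j, hj1, hj2⟩ : ∃ j : pullback (Spec.map a') (Spec.map b) ⟶ X',
      j ≫ g' = pullback.snd _ _ ≫ iB ∧ j ≫ f' = pullback.fst _ _ ≫ iA' :=
    ⟨hc.lift _ _ hcompat, hc.lift_fst _ _ _, hc.lift_snd _ _ _⟩
  have hjmono : Mono j := by
    refine ⟨fun p q hpq => ?_⟩
    apply pullback.hom_ext
    · have h := congrArg (· ≫ f') hpq
      simp only [Category.assoc, hj2] at h
      rw [← Category.assoc, ← Category.assoc] at h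
      exact (cancel_mono _).mp h
    · have h := congrArg (· ≫ g') hpq
      simp only [Category.assoc, hj1] at h
      rw [← Category.assoc, ← Category.assoc] at h
      exact (cancel_mono _).mp h
  obtain ⟨k, hk1, hk2, hkdef⟩ : ∃ k : Spec B' ⟶ pullback (Spec.map a') (Spec.map b),
      k ≫ pullback.fst _ _ = Spec.map d ∧ k ≫ pullback.snd _ _ = Spec.map c ∧
      k = pullback.lift (Spec.map d) (Spec.map c) hkc :=
    ⟨pullback.lift (Spec.map d) (Spec.map c) hkc, pullback.lift_fst _ _ _,
      pullback.lift_snd _ _ _, rfl⟩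
  rw [← hkdef]
  have hk : k ≫ j = iB' := by
    apply hc.hom_ext
    · rw [Category.assoc, hj1, ← Category.assoc, hk2, h3]
    · rw [Category.assoc, hj2, ← Category.assoc, hk1, h4]
  have hpb : IsPullback (𝟙 _) k iB' j := by
    refine ⟨⟨by rw [Category.id_comp, hk]⟩, ⟨PullbackCone.IsLimit.mk _ (fun s => s.fst) ?_ ?_ ?_⟩⟩
    · intro s; exact Category.comp_id _
    · intro s
      apply (cancel_mono j).mp
      rw [Category.assoc, hk]
      exact s.condition
    · intro s m hm _
      rw [← hm]; exact (Category.comp_id _).symm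
  exact MorphismProperty.of_isPullback hpb ‹Flat iB'›

/-- **The local ring of a fibre product is flat over the tensor product of the local rings.**
Any ring map `O_{S',s'} ⊗_{O_{S,s}} O_{X,x} → O_{X',x'}` restricting to the stalk maps of the two
projections is flat. -/
theorem flat_of_comp_include (hc : IsPullback g' f' f g) (x' : X') :
    letI : Algebra (S.presheaf.stalk (f.base (g'.base x'))) (X.presheaf.stalk (g'.base x')) :=
      (f.stalkMap (g'.base x')).hom.toAlgebra
    letI : Algebra (S.presheaf.stalk (f.base (g'.base x'))) (S'.presheaf.stalk (f'.base x')) :=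
      (baseStalkMap hc x').hom.toAlgebra
    ∀ (φ : (S'.presheaf.stalk (f'.base x')) ⊗[S.presheaf.stalk (f.base (g'.base x'))]
        (X.presheaf.stalk (g'.base x')) →+* X'.presheaf.stalk x'),
      (∀ a, φ (a ⊗ₜ 1) = (f'.stalkMap x').hom a) →
      (∀ b, φ (1 ⊗ₜ b) = (g'.stalkMap x').hom b) → φ.Flat := by
  let _ : Algebra (S.presheaf.stalk (f.base (g'.base x'))) (X.presheaf.stalk (g'.base x')) :=
    (f.stalkMap (g'.base x')).hom.toAlgebra
  let _ : Algebra (S.presheaf.stalk (f.base (g'.base x'))) (S'.presheaf.stalk (f'.base x')) :=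
    (baseStalkMap hc x').hom.toAlgebra
  intro φ hφ1' hφ2'
  have hφ1 : φ.comp Algebra.TensorProduct.includeLeftRingHom = (f'.stalkMap x').hom :=
    RingHom.ext hφ1'
  have hφ2 : φ.comp (RingHomClass.toRingHom Algebra.TensorProduct.includeRight) =
      (g'.stalkMap x').hom := RingHom.ext hφ2'
  have := flat_fromSpecStalk X' x'
  have hkc : Spec.map (f'.stalkMap x') ≫ Spec.map (baseStalkMap hc x') =
      Spec.map (g'.stalkMap x') ≫ Spec.map (f.stalkMap (g'.base x')) := by
    rw [← Spec.map_comp, ← Spec.map_comp, stalkMap_comp_eq hc x']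
  have hflat := flat_lift_of_mono hc (baseStalkMap hc x') (f.stalkMap (g'.base x'))
    (g'.stalkMap x') (f'.stalkMap x')
    (S.fromSpecStalk _) (S'.fromSpecStalk _) (X.fromSpecStalk _) (X'.fromSpecStalk x')
    (Scheme.SpecMap_stalkMap_fromSpecStalk f) (SpecMap_baseStalkMap_fromSpecStalk hc x')
    (Scheme.SpecMap_stalkMap_fromSpecStalk g') (Scheme.SpecMap_stalkMap_fromSpecStalk f') hkc
  have hkφ : pullback.lift (Spec.map (f'.stalkMap x')) (Spec.map (g'.stalkMap x')) hkc =
      Spec.map (CommRingCat.ofHom φ) ≫ (pullbackSpecIso (S.presheaf.stalk (f.base (g'.base x')))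
        (S'.presheaf.stalk (f'.base x')) (X.presheaf.stalk (g'.base x'))).inv := by
    apply pullback.hom_ext
    · rw [pullback.lift_fst, Category.assoc]
      erw [pullbackSpecIso_inv_fst]
      rw [← Spec.map_comp, ← CommRingCat.ofHom_comp, hφ1]
      rfl
    · rw [pullback.lift_snd, Category.assoc]
      erw [pullbackSpecIso_inv_snd]
      rw [← Spec.map_comp, ← CommRingCat.ofHom_comp, hφ2]
      rfl
  have h2 : Flat (Spec.map (CommRingCat.ofHom φ)) := by
    have : Spec.map (CommRingCat.ofHom φ) = (Spec.map (CommRingCat.ofHom φ) ≫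
        (pullbackSpecIso (S.presheaf.stalk (f.base (g'.base x')))
        (S'.presheaf.stalk (f'.base x')) (X.presheaf.stalk (g'.base x'))).inv) ≫
        (pullbackSpecIso _ _ _).hom := by
      rw [Category.assoc, Iso.inv_hom_id, Category.comp_id]
    rw [this, ← hkφ]
    infer_instance
  exact Flat.SpecMap_iff.mp h2

section Alg

attribute [local instance] Algebra.TensorProduct.rightAlgebra

variable (A A' B B' N : Type*) [CommRing A] [CommRing A'] [CommRing B] [CommRing B']
  [Algebra A A'] [Algebra A B] [Algebra B B'] [Algebra A' B'] [Algebra A B']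
  [IsScalarTower A B B'] [IsScalarTower A A' B']
  [AddCommGroup N] [Module A N] [Module B N] [IsScalarTower A B N]

/-- If `A' ⊗_A B → B'` is flat and `N` is a `B`-module flat over `A`, then `B' ⊗_B N` is flat
over `A'`. -/
theorem flat_baseChange_of_flat_productMap
    (hφ : (Algebra.TensorProduct.productMap (IsScalarTower.toAlgHom A A' B')
      (IsScalarTower.toAlgHom A B B')).toRingHom.Flat) [Module.Flat A N] :
    Module.Flat A' (B' ⊗[B] N) := by
  let φ := (Algebra.TensorProduct.productMap (IsScalarTower.toAlgHom A A' B')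
      (IsScalarTower.toAlgHom A B B')).toRingHom
  let _ : Algebra (A' ⊗[A] B) B' := φ.toAlgebra
  have : IsScalarTower B (A' ⊗[A] B) B' := by
    refine IsScalarTower.of_algebraMap_eq fun b => ?_
    change algebraMap B B' b = φ (1 ⊗ₜ b)
    simp [φ]
  have : IsScalarTower A' (A' ⊗[A] B) B' := by
    refine IsScalarTower.of_algebraMap_eq fun a => ?_
    change algebraMap A' B' a = φ (a ⊗ₜ 1)
    simp [φ]
  have hfl : Module.Flat (A' ⊗[A] B) B' := hφ
  let e1 := Algebra.IsPushout.cancelBaseChange A A' B (A' ⊗[A] B) N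
  have h1 : Module.Flat A' ((A' ⊗[A] B) ⊗[B] N) := Module.Flat.of_linearEquiv e1
  have h2 : Module.Flat A' (B' ⊗[A' ⊗[A] B] ((A' ⊗[A] B) ⊗[B] N)) :=
    Groth.Agent.Lib.Helper10.PullbackStalk.flat_tensor_of_flat A' (A' ⊗[A] B) B'
      ((A' ⊗[A] B) ⊗[B] N)
  let e2 := TensorProduct.AlgebraTensorModule.cancelBaseChange B (A' ⊗[A] B) B' B' N
  exact Module.Flat.of_linearEquiv (e2.restrictScalars A').symm


/-- Converse: if `A → A'` is flat, `A' ⊗_A B → B'` is flat, `B → B'` is local and `B' ⊗_B N` is flat
over `A'`, then `N` is flat over `A`. -/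
theorem flat_of_flat_baseChange_of_flat_productMap
    (hφ : (Algebra.TensorProduct.productMap (IsScalarTower.toAlgHom A A' B')
      (IsScalarTower.toAlgHom A B B')).toRingHom.Flat) [Module.Flat A A']
    [IsLocalRing B] [IsLocalRing B'] [IsLocalHom (algebraMap B B')]
    [Module.Flat A' (B' ⊗[B] N)] : Module.Flat A N := by
  let φ := (Algebra.TensorProduct.productMap (IsScalarTower.toAlgHom A A' B')
      (IsScalarTower.toAlgHom A B B')).toRingHom
  let _ : Algebra (A' ⊗[A] B) B' := φ.toAlgebra
  have : IsScalarTower B (A' ⊗[A] B) B' := by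
    refine IsScalarTower.of_algebraMap_eq fun b => ?_
    change algebraMap B B' b = φ (1 ⊗ₜ b)
    simp [φ]
  have hfl : Module.Flat (A' ⊗[A] B) B' := hφ
  have hBR : Module.Flat B (A' ⊗[A] B) :=
    Module.Flat.isBaseChange A B A' (A' ⊗[A] B)
      (Algebra.IsPushout.out (R := A) (S := B) (R' := A') (S' := A' ⊗[A] B))
  have hBB' : Module.Flat B B' := Module.Flat.trans B (A' ⊗[A] B) B'
  have hff : Module.FaithfullyFlat B B' := Module.FaithfullyFlat.of_flat_of_isLocalHom
  have : Module.Flat A (B' ⊗[B] N) := Module.Flat.trans A A' (B' ⊗[B] N)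
  exact Groth.Agent.Lib.Helper10.PullbackStalk.flat_of_flat_tensor_of_faithfullyFlat A B B' N

end Alg


section Modules

open Groth.Agent.Lib.Helper10.PullbackStalk

variable (x' : X') (F : X.Modules) [F.IsQuasicoherent]

/-- Flatness of a module over the base is stable under base change (pointwise form). -/
theorem isFlatOverAt_baseChange (hc : IsPullback g' f' f g)
    (h : FlatMod.IsFlatOverAt f F (g'.base x')) :
    FlatMod.IsFlatOverAt f' ((Scheme.Modules.pullback g').obj F) x' := by
  let _ : Algebra (S.presheaf.stalk (f.base (g'.base x'))) (X.presheaf.stalk (g'.base x')) :=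
    (f.stalkMap (g'.base x')).hom.toAlgebra
  let _ : Algebra (S.presheaf.stalk (f.base (g'.base x'))) (S'.presheaf.stalk (f'.base x')) :=
    (baseStalkMap hc x').hom.toAlgebra
  let _ : Algebra (X.presheaf.stalk (g'.base x')) (X'.presheaf.stalk x') :=
    (g'.stalkMap x').hom.toAlgebra
  let _ : Algebra (S'.presheaf.stalk (f'.base x')) (X'.presheaf.stalk x') :=
    (f'.stalkMap x').hom.toAlgebra
  let _ : Algebra (S.presheaf.stalk (f.base (g'.base x'))) (X'.presheaf.stalk x') :=
    (f.stalkMap (g'.base x') ≫ g'.stalkMap x').hom.toAlgebra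
  have : IsScalarTower (S.presheaf.stalk (f.base (g'.base x'))) (X.presheaf.stalk (g'.base x'))
      (X'.presheaf.stalk x') := IsScalarTower.of_algebraMap_eq fun a => rfl
  have : IsScalarTower (S.presheaf.stalk (f.base (g'.base x'))) (S'.presheaf.stalk (f'.base x'))
      (X'.presheaf.stalk x') := by
    refine IsScalarTower.of_algebraMap_eq fun a => ?_
    change (f.stalkMap (g'.base x') ≫ g'.stalkMap x').hom a =
      (baseStalkMap hc x' ≫ f'.stalkMap x').hom a
    rw [stalkMap_comp_eq hc x']
  let _ : Module (S.presheaf.stalk (f.base (g'.base x'))) (F.presheaf.stalk (g'.base x')) :=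
    FlatMod.moduleStalkOver f F (g'.base x')
  have : IsScalarTower (S.presheaf.stalk (f.base (g'.base x'))) (X.presheaf.stalk (g'.base x'))
      (F.presheaf.stalk (g'.base x')) := IsScalarTower.of_algebraMap_smul fun a m => rfl
  let _ : Module (S'.presheaf.stalk (f'.base x'))
      (((Scheme.Modules.pullback g').obj F).presheaf.stalk x') :=
    FlatMod.moduleStalkOver f' ((Scheme.Modules.pullback g').obj F) x'
  have : IsScalarTower (S'.presheaf.stalk (f'.base x')) (X'.presheaf.stalk x')
      (((Scheme.Modules.pullback g').obj F).presheaf.stalk x') :=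
    IsScalarTower.of_algebraMap_smul fun a m => rfl
  have hN : Module.Flat (S.presheaf.stalk (f.base (g'.base x'))) (F.presheaf.stalk (g'.base x')) := h
  have hφ := flat_of_comp_include hc x'
    (Algebra.TensorProduct.productMap
      (IsScalarTower.toAlgHom (S.presheaf.stalk (f.base (g'.base x')))
        (S'.presheaf.stalk (f'.base x')) (X'.presheaf.stalk x'))
      (IsScalarTower.toAlgHom (S.presheaf.stalk (f.base (g'.base x')))
        (X.presheaf.stalk (g'.base x')) (X'.presheaf.stalk x'))).toRingHom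
    (fun a => by simp; rfl) (fun b => by simp; rfl)
  have hfl := flat_baseChange_of_flat_productMap (S.presheaf.stalk (f.base (g'.base x')))
    (S'.presheaf.stalk (f'.base x')) (X.presheaf.stalk (g'.base x')) (X'.presheaf.stalk x')
    (F.presheaf.stalk (g'.base x')) hφ
  obtain ⟨e⟩ := nonempty_stalk_pullback_equiv g' F x'
  exact Module.Flat.of_linearEquiv (e.restrictScalars (S'.presheaf.stalk (f'.base x')))

/-- Converse of `isFlatOverAt_baseChange` when the base change morphism is flat at the image
point. -/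
theorem isFlatOverAt_of_baseChange (hc : IsPullback g' f' f g)
    (hg : (g.stalkMap (f'.base x')).hom.Flat)
    (h : FlatMod.IsFlatOverAt f' ((Scheme.Modules.pullback g').obj F) x') :
    FlatMod.IsFlatOverAt f F (g'.base x') := by
  let _ : Algebra (S.presheaf.stalk (f.base (g'.base x'))) (X.presheaf.stalk (g'.base x')) :=
    (f.stalkMap (g'.base x')).hom.toAlgebra
  let _ : Algebra (S.presheaf.stalk (f.base (g'.base x'))) (S'.presheaf.stalk (f'.base x')) :=
    (baseStalkMap hc x').hom.toAlgebra
  let _ : Algebra (X.presheaf.stalk (g'.base x')) (X'.presheaf.stalk x') :=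
    (g'.stalkMap x').hom.toAlgebra
  let _ : Algebra (S'.presheaf.stalk (f'.base x')) (X'.presheaf.stalk x') :=
    (f'.stalkMap x').hom.toAlgebra
  let _ : Algebra (S.presheaf.stalk (f.base (g'.base x'))) (X'.presheaf.stalk x') :=
    (f.stalkMap (g'.base x') ≫ g'.stalkMap x').hom.toAlgebra
  have : IsScalarTower (S.presheaf.stalk (f.base (g'.base x'))) (X.presheaf.stalk (g'.base x'))
      (X'.presheaf.stalk x') := IsScalarTower.of_algebraMap_eq fun a => rfl
  have : IsScalarTower (S.presheaf.stalk (f.base (g'.base x'))) (S'.presheaf.stalk (f'.base x'))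
      (X'.presheaf.stalk x') := by
    refine IsScalarTower.of_algebraMap_eq fun a => ?_
    change (f.stalkMap (g'.base x') ≫ g'.stalkMap x').hom a =
      (baseStalkMap hc x' ≫ f'.stalkMap x').hom a
    rw [stalkMap_comp_eq hc x']
  let _ : Module (S.presheaf.stalk (f.base (g'.base x'))) (F.presheaf.stalk (g'.base x')) :=
    FlatMod.moduleStalkOver f F (g'.base x')
  have : IsScalarTower (S.presheaf.stalk (f.base (g'.base x'))) (X.presheaf.stalk (g'.base x'))
      (F.presheaf.stalk (g'.base x')) := IsScalarTower.of_algebraMap_smul fun a m => rfl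
  let _ : Module (S'.presheaf.stalk (f'.base x'))
      (((Scheme.Modules.pullback g').obj F).presheaf.stalk x') :=
    FlatMod.moduleStalkOver f' ((Scheme.Modules.pullback g').obj F) x'
  have : IsScalarTower (S'.presheaf.stalk (f'.base x')) (X'.presheaf.stalk x')
      (((Scheme.Modules.pullback g').obj F).presheaf.stalk x') :=
    IsScalarTower.of_algebraMap_smul fun a m => rfl
  have hAA' : Module.Flat (S.presheaf.stalk (f.base (g'.base x'))) (S'.presheaf.stalk (f'.base x')) := by
    change (baseStalkMap hc x').hom.Flat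
    rw [baseStalkMap, CommRingCat.hom_comp]
    refine RingHom.Flat.comp (RingHom.Flat.of_bijective ?_) hg
    exact ConcreteCategory.bijective_of_isIso
      (S.presheaf.stalkCongr (.of_eq (base_eq hc x'))).hom
  have hloc : IsLocalHom (algebraMap (X.presheaf.stalk (g'.base x')) (X'.presheaf.stalk x')) :=
    inferInstanceAs (IsLocalHom (g'.stalkMap x').hom)
  have hφ := flat_of_comp_include hc x'
    (Algebra.TensorProduct.productMap
      (IsScalarTower.toAlgHom (S.presheaf.stalk (f.base (g'.base x')))
        (S'.presheaf.stalk (f'.base x')) (X'.presheaf.stalk x'))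
      (IsScalarTower.toAlgHom (S.presheaf.stalk (f.base (g'.base x')))
        (X.presheaf.stalk (g'.base x')) (X'.presheaf.stalk x'))).toRingHom
    (fun a => by simp; rfl) (fun b => by simp; rfl)
  obtain ⟨e⟩ := nonempty_stalk_pullback_equiv g' F x'
  have hN' : Module.Flat (S'.presheaf.stalk (f'.base x'))
      (((Scheme.Modules.pullback g').obj F).presheaf.stalk x') := h
  have : Module.Flat (S'.presheaf.stalk (f'.base x'))
      ((X'.presheaf.stalk x') ⊗[X.presheaf.stalk (g'.base x')] (F.presheaf.stalk (g'.base x'))) :=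
    Module.Flat.of_linearEquiv (e.restrictScalars (S'.presheaf.stalk (f'.base x'))).symm
  exact flat_of_flat_baseChange_of_flat_productMap (S.presheaf.stalk (f.base (g'.base x')))
    (S'.presheaf.stalk (f'.base x')) (X.presheaf.stalk (g'.base x')) (X'.presheaf.stalk x')
    (F.presheaf.stalk (g'.base x')) hφ

end Modules

end Groth.Agent.Lib.Helper10.FibreProductStalk
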