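import Groth.Prelude.Def_Exal2
import Groth.Prelude.Def_Exal3
import Mathlib.RingTheory.Smooth.Kaehler
import Mathlib.RingTheory.Smooth.Basic
import Mathlib.RingTheory.Kaehler.JacobiZariski
import Mathlib.Algebra.Module.Injective

/-!
# Helper lemmas on `Exal.Ext` (helper10)
-/

set_option autoImplicit false
universe u u' v

namespace Groth.Agent.Lib.Helper10.ExalLib

section Basic

variable {A : Type u} {B L : Type v} [CommRing A] [CommRing B] [Algebra A B] [AddCommGroup L] [Module B L]

lemma proj_incl (X : Exal.Ext A B L) (m : L) : X.proj (X.incl m) = 0 :=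
  (X.isExtension.exact _).2 ⟨m, rfl⟩

lemma incl_mul_incl (X : Exal.Ext A B L) (m m' : L) : X.incl m * X.incl m' = 0 := by
  rw [X.isExtension.mul_incl, proj_incl, zero_smul, map_zero]

lemma kerLift_incl (X : Exal.Ext A B L) (m : L) (h : X.proj (X.incl m) = 0) :
    X.kerLift (X.incl m) h = m :=
  X.isExtension.incl_injective (X.incl_kerLift _ _)

end Basic

section Conormal

variable {B : Type u} [CommRing B] (J : Ideal B)
    {M : Type u} [AddCommGroup M] [Module (B ⧸ J) M] [Module B M] [IsScalarTower B (B ⧸ J) M]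

omit [Module B M] [IsScalarTower B (B ⧸ J) M] in
lemma exists_repr (X : Exal.Ext B (B ⧸ J) M) (x : X.E) :
    ∃ (b : B) (m : M), x = algebraMap B X.E b + X.incl m := by
  obtain ⟨b, hb⟩ := Ideal.Quotient.mk_surjective (X.proj x)
  have h0 : X.proj (x - algebraMap B X.E b) = 0 := by
    rw [map_sub, AlgHom.commutes, Ideal.Quotient.algebraMap_eq, hb, sub_self]
  obtain ⟨m, hm⟩ := (X.isExtension.exact _).1 h0
  exact ⟨b, m, by rw [hm]; ring⟩

lemma algebraMap_eq_incl (X : Exal.Ext B (B ⧸ J) M) (b : J) :
    algebraMap B X.E b = X.incl (X.conormalMap J (J.toCotangent b)) := by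
  change _ = X.incl (X.kerLift (algebraMap B X.E b) (X.proj_algebraMap_eq_zero J b))
  rw [Exal.Ext.incl_kerLift]

lemma key (X Y : Exal.Ext B (B ⧸ J) M) (h : X.conormalMap J = Y.conormalMap J) (b : B) (m : M)
    (h0 : algebraMap B X.E b + X.incl m = 0) : algebraMap B Y.E b + Y.incl m = 0 := by
  have hb : b ∈ J := by
    have := congrArg X.proj h0
    rw [map_add, proj_incl, add_zero, AlgHom.commutes, map_zero, Ideal.Quotient.algebraMap_eq,
      Ideal.Quotient.eq_zero_iff_mem] at this
    exact this
  have e1 := algebraMap_eq_incl J X ⟨b, hb⟩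
  have e2 := algebraMap_eq_incl J Y ⟨b, hb⟩
  simp only at e1 e2
  rw [e1, ← map_add] at h0
  have := X.isExtension.incl_injective (h0.trans (map_zero _).symm)
  rw [e2, ← map_add, ← h, this, map_zero]

lemma key' (X Y : Exal.Ext B (B ⧸ J) M) (h : X.conormalMap J = Y.conormalMap J) (b b' : B) (m m' : M)
    (h0 : algebraMap B X.E b + X.incl m = algebraMap B X.E b' + X.incl m') :
    algebraMap B Y.E b + Y.incl m = algebraMap B Y.E b' + Y.incl m' := by
  have := key J X Y h (b - b') (m - m') (by
    rw [map_sub, map_sub]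
    linear_combination h0)
  rw [map_sub, map_sub] at this
  linear_combination this

/-- The comparison function between two extensions with the same conormal map. -/
noncomputable def cmpFun (X Y : Exal.Ext B (B ⧸ J) M) (x : X.E) : Y.E :=
  algebraMap B Y.E (exists_repr J X x).choose + Y.incl (exists_repr J X x).choose_spec.choose

lemma cmpFun_eq (X Y : Exal.Ext B (B ⧸ J) M) (h : X.conormalMap J = Y.conormalMap J) (b : B) (m : M) :
    cmpFun J X Y (algebraMap B X.E b + X.incl m) = algebraMap B Y.E b + Y.incl m := by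
  refine key' J X Y h _ _ _ _ ?_
  exact (exists_repr J X (algebraMap B X.E b + X.incl m)).choose_spec.choose_spec.symm

omit [Module B M] [IsScalarTower B (B ⧸ J) M] in
lemma mul_repr (X : Exal.Ext B (B ⧸ J) M) (b b' : B) (m m' : M) :
    (algebraMap B X.E b + X.incl m) * (algebraMap B X.E b' + X.incl m') =
      algebraMap B X.E (b * b') +
        X.incl (Ideal.Quotient.mk J b • m' + Ideal.Quotient.mk J b' • m) := by
  have e1 : algebraMap B X.E b * X.incl m' = X.incl (Ideal.Quotient.mk J b • m') := by
    rw [X.isExtension.mul_incl, AlgHom.commutes, Ideal.Quotient.algebraMap_eq]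
  have e2 : algebraMap B X.E b' * X.incl m = X.incl (Ideal.Quotient.mk J b' • m) := by
    rw [X.isExtension.mul_incl, AlgHom.commutes, Ideal.Quotient.algebraMap_eq]
  rw [map_mul, map_add, ← e1, ← e2]
  linear_combination incl_mul_incl X m m'

/-- The comparison algebra map. -/
noncomputable def cmpHom (X Y : Exal.Ext B (B ⧸ J) M) (h : X.conormalMap J = Y.conormalMap J) :
    X.E →ₐ[B] Y.E where
  toFun := cmpFun J X Y
  map_one' := by
    have := cmpFun_eq J X Y h 1 0
    simpa using this
  map_zero' := by
    have := cmpFun_eq J X Y h 0 0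
    simpa using this
  map_mul' x y := by
    obtain ⟨b, m, rfl⟩ := exists_repr J X x
    obtain ⟨b', m', rfl⟩ := exists_repr J X y
    rw [mul_repr, cmpFun_eq J X Y h, cmpFun_eq J X Y h, cmpFun_eq J X Y h, mul_repr]
  map_add' x y := by
    obtain ⟨b, m, rfl⟩ := exists_repr J X x
    obtain ⟨b', m', rfl⟩ := exists_repr J X y
    have e : algebraMap B X.E b + X.incl m + (algebraMap B X.E b' + X.incl m') =
        algebraMap B X.E (b + b') + X.incl (m + m') := by
      rw [map_add, map_add]; ring
    rw [e, cmpFun_eq J X Y h, cmpFun_eq J X Y h, cmpFun_eq J X Y h, map_add, map_add]; ring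
  commutes' b := by
    have := cmpFun_eq J X Y h b 0
    simpa using this

lemma cmpHom_apply (X Y : Exal.Ext B (B ⧸ J) M) (h : X.conormalMap J = Y.conormalMap J) (b : B) (m : M) :
    cmpHom J X Y h (algebraMap B X.E b + X.incl m) = algebraMap B Y.E b + Y.incl m :=
  cmpFun_eq J X Y h b m

/-- Extensions of `B ⧸ J` with the same conormal map are equivalent. -/
noncomputable def equivOfConormalMapEq (X Y : Exal.Ext B (B ⧸ J) M) (h : X.conormalMap J = Y.conormalMap J) :
    X.Equiv Y where
  toAlgEquiv := AlgEquiv.ofAlgHom (cmpHom J X Y h) (cmpHom J Y X h.symm)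
    (by
      ext y
      obtain ⟨b, m, rfl⟩ := exists_repr J Y y
      simp only [AlgHom.coe_comp, Function.comp_apply, AlgHom.coe_id, id_eq]
      rw [cmpHom_apply, cmpHom_apply])
    (by
      ext x
      obtain ⟨b, m, rfl⟩ := exists_repr J X x
      simp only [AlgHom.coe_comp, Function.comp_apply, AlgHom.coe_id, id_eq]
      rw [cmpHom_apply, cmpHom_apply])
  proj_apply x := by
    obtain ⟨b, m, rfl⟩ := exists_repr J X x
    change Y.proj (cmpHom J X Y h _) = _
    rw [cmpHom_apply, map_add, map_add, proj_incl, proj_incl, AlgHom.commutes, AlgHom.commutes]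
  apply_incl m := by
    change cmpHom J X Y h _ = _
    have := cmpHom_apply J X Y h 0 m
    simpa using this

end Conormal

section Realize

attribute [local instance] Exal.opModule Exal.isCentralScalar_opModule

variable {B : Type u} [CommRing B] (J : Ideal B)
    {M : Type u} [AddCommGroup M] [Module (B ⧸ J) M] [Module B M] [IsScalarTower B (B ⧸ J) M]

omit [Module B M] [IsScalarTower B (B ⧸ J) M] in
include J in
lemma smul_eq_zero_of_mem [Module B M] [IsScalarTower B (B ⧸ J) M] {b : B} (hb : b ∈ J) (m : M) : b • m = 0 := by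
  rw [← IsScalarTower.algebraMap_smul (B ⧸ J) b m, Ideal.Quotient.algebraMap_eq,
    Ideal.Quotient.eq_zero_iff_mem.2 hb, zero_smul]

/-- The ideal `{(b, -w b̄) : b ∈ J}` of `B ⊕ M`. -/
def relIdeal (w : J.Cotangent →ₗ[B] M) : Ideal (TrivSqZeroExt B M) where
  carrier := {t | ∃ b : J, t = TrivSqZeroExt.inl (b : B) - TrivSqZeroExt.inr (w (J.toCotangent b))}
  add_mem' := by
    rintro _ _ ⟨b, rfl⟩ ⟨b', rfl⟩
    refine ⟨b + b', ?_⟩
    rw [map_add, map_add, TrivSqZeroExt.inr_add, Submodule.coe_add, TrivSqZeroExt.inl_add]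
    abel
  zero_mem' := ⟨0, by simp⟩
  smul_mem' c t := by
    rintro ⟨b, rfl⟩
    refine ⟨c.fst • b, ?_⟩
    refine TrivSqZeroExt.ext ?_ ?_
    · simp
    · simp only [smul_eq_mul, TrivSqZeroExt.snd_mul, TrivSqZeroExt.fst_sub, TrivSqZeroExt.fst_inl,
        TrivSqZeroExt.fst_inr, sub_zero, TrivSqZeroExt.snd_sub, TrivSqZeroExt.snd_inl,
        TrivSqZeroExt.snd_inr, zero_sub, smul_neg, map_smul, Submodule.coe_smul]
      rw [op_smul_eq_smul, smul_eq_zero_of_mem J b.2, add_zero]

lemma mem_relIdeal (w : J.Cotangent →ₗ[B] M) (t : TrivSqZeroExt B M) :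
    t ∈ relIdeal J w ↔ ∃ b : J, t = TrivSqZeroExt.inl (b : B) - TrivSqZeroExt.inr (w (J.toCotangent b)) :=
  Iff.rfl

/-- The projection of the realizing extension. -/
noncomputable def realizeProj (w : J.Cotangent →ₗ[B] M) : (TrivSqZeroExt B M ⧸ relIdeal J w) →ₐ[B] B ⧸ J :=
  Ideal.Quotient.liftₐ (relIdeal J w)
    ((Ideal.Quotient.mkₐ B J).comp (TrivSqZeroExt.fstHom B B M)) (by
      rintro t ⟨b, rfl⟩
      simp [Ideal.Quotient.eq_zero_iff_mem])

lemma realizeProj_mk (w : J.Cotangent →ₗ[B] M) (t : TrivSqZeroExt B M) :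
    realizeProj J w (Ideal.Quotient.mk _ t) = Ideal.Quotient.mk J t.fst := rfl

/-- The extension realizing a given conormal map. -/
noncomputable def realize (w : J.Cotangent →ₗ[B] M) : Exal.Ext B (B ⧸ J) M where
  E := TrivSqZeroExt B M ⧸ relIdeal J w
  proj := realizeProj J w
  incl := (Ideal.Quotient.mk (relIdeal J w) : _ →+* _).toAddMonoidHom.comp
    (TrivSqZeroExt.inrHom B M).toAddMonoidHom
  isExtension :=
    { proj_surjective := fun c => by
        obtain ⟨b, rfl⟩ := Ideal.Quotient.mk_surjective c
        exact ⟨Ideal.Quotient.mk _ (TrivSqZeroExt.inl b), by rw [realizeProj_mk, TrivSqZeroExt.fst_inl]⟩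
      incl_injective := by
        rw [injective_iff_map_eq_zero]
        intro m hm
        change Ideal.Quotient.mk _ (TrivSqZeroExt.inr m) = 0 at hm
        rw [Ideal.Quotient.eq_zero_iff_mem] at hm
        obtain ⟨b, hb⟩ := hm
        have h1 := congrArg TrivSqZeroExt.fst hb
        have h2 := congrArg TrivSqZeroExt.snd hb
        simp at h1 h2
        have : b = 0 := Subtype.ext h1.symm
        rw [h2, this, map_zero, map_zero, neg_zero]
      exact := fun x => by
        obtain ⟨t, rfl⟩ := Ideal.Quotient.mk_surjective x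
        constructor
        · intro h
          have hb : t.fst ∈ J := by
            rwa [realizeProj_mk, Ideal.Quotient.eq_zero_iff_mem] at h
          refine ⟨t.snd + w (J.toCotangent ⟨t.fst, hb⟩), ?_⟩
          change Ideal.Quotient.mk _ (TrivSqZeroExt.inr _) = _
          rw [eq_comm, ← sub_eq_zero, ← map_sub, Ideal.Quotient.eq_zero_iff_mem]
          refine ⟨⟨t.fst, hb⟩, ?_⟩
          refine TrivSqZeroExt.ext ?_ ?_ <;> simp
        · rintro ⟨m, hm⟩
          rw [← hm]
          change realizeProj J w (Ideal.Quotient.mk _ (TrivSqZeroExt.inr m)) = 0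
          rw [realizeProj_mk, TrivSqZeroExt.fst_inr, map_zero]
      mul_incl := fun x z => by
        obtain ⟨t, rfl⟩ := Ideal.Quotient.mk_surjective x
        change Ideal.Quotient.mk _ t * Ideal.Quotient.mk _ (TrivSqZeroExt.inr z) =
          Ideal.Quotient.mk _ (TrivSqZeroExt.inr _)
        rw [← map_mul]
        congr 1
        refine TrivSqZeroExt.ext ?_ ?_
        · simp
        · simp only [TrivSqZeroExt.snd_mul, TrivSqZeroExt.snd_inr, TrivSqZeroExt.fst_inr,
            MulOpposite.op_zero, zero_smul, add_zero]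
          change _ = Ideal.Quotient.mk J t.fst • z
          rw [← Ideal.Quotient.algebraMap_eq, IsScalarTower.algebraMap_smul] }

lemma realize_conormalMap (w : J.Cotangent →ₗ[B] M) : (realize J w).conormalMap J = w := by
  apply LinearMap.ext
  intro z
  obtain ⟨b, rfl⟩ := J.toCotangent_surjective z
  apply (realize J w).isExtension.incl_injective
  rw [← algebraMap_eq_incl]
  change Ideal.Quotient.mk _ (TrivSqZeroExt.inl (b : B)) = Ideal.Quotient.mk _ (TrivSqZeroExt.inr _)
  rw [← sub_eq_zero, ← map_sub, Ideal.Quotient.eq_zero_iff_mem]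
  exact ⟨b, rfl⟩

end Realize

section SecDer

variable {A : Type u} {B L : Type v} [CommRing A] [CommRing B] [Algebra A B] [AddCommGroup L] [Module B L]
variable (X : Exal.Ext A B L) (σ : B →+* X.E) (hσ : ∀ b, X.proj (σ b) = b)

/-- The "derivation" `x ↦ x - σ (p x)` of the middle ring into `L` attached to a ring section. -/
noncomputable def secDer (x : X.E) : L :=
  X.kerLift (x - σ (X.proj x)) (by rw [map_sub, hσ, sub_self])

lemma incl_secDer (x : X.E) : X.incl (secDer X σ hσ x) = x - σ (X.proj x) :=
  X.incl_kerLift _ _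

lemma secDer_add (x y : X.E) : secDer X σ hσ (x + y) = secDer X σ hσ x + secDer X σ hσ y := by
  apply X.isExtension.incl_injective
  rw [map_add, incl_secDer, incl_secDer, incl_secDer, map_add, map_add]
  ring

lemma secDer_mul (x y : X.E) :
    secDer X σ hσ (x * y) = X.proj x • secDer X σ hσ y + X.proj y • secDer X σ hσ x := by
  apply X.isExtension.incl_injective
  rw [map_add, ← X.isExtension.mul_incl, ← X.isExtension.mul_incl, incl_secDer, incl_secDer, incl_secDer,
    map_mul, map_mul]
  have := incl_mul_incl X (secDer X σ hσ x) (secDer X σ hσ y)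
  rw [incl_secDer, incl_secDer] at this
  linear_combination (-1 : X.E) * this

lemma secDer_incl (z : L) : secDer X σ hσ (X.incl z) = z := by
  apply X.isExtension.incl_injective
  rw [incl_secDer, proj_incl, map_zero, sub_zero]

lemma secDer_sec (b : B) : secDer X σ hσ (σ b) = 0 := by
  apply X.isExtension.incl_injective
  rw [incl_secDer, hσ, sub_self, map_zero]

lemma eq_sec_add_incl (x : X.E) : x = σ (X.proj x) + X.incl (secDer X σ hσ x) := by
  rw [incl_secDer]; ring

end SecDer

section OfDer

attribute [local instance] Exal.opModule Exal.isCentralScalar_opModule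

variable {A : Type u} {B C L : Type v} [CommRing A] [CommRing B] [CommRing C]
    [Algebra A B] [Algebra B C] [Algebra A C] [IsScalarTower A B C]
    [AddCommGroup L] [Module C L] [Module B L] [IsScalarTower B C L] [Module A L] [IsScalarTower A B L]

/-- An `A`-algebra section into the restricted carrier, as a ring map into the middle ring. -/
def secRing (X : Exal.Ext B C L) (s : C →ₐ[A] X.RestrictCarrier A) : C →+* X.E :=
  show C →+* X.RestrictCarrier A from s.toRingHom

omit [IsScalarTower A B C] [Module B L] [IsScalarTower B C L] [Module A L] [IsScalarTower A B L] in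
lemma secRing_apply (X : Exal.Ext B C L) (s : C →ₐ[A] X.RestrictCarrier A) (c : C) :
    secRing X s c = s c := rfl

/-- the derivation attached to an `A`-algebra section of a `B`-extension. -/
noncomputable def derOfSection (X : Exal.Ext B C L) (s : C →ₐ[A] X.RestrictCarrier A)
    (hs : ∀ c, X.proj (secRing X s c) = c) : Derivation A B L :=
  Derivation.mk'
    { toFun := fun b => secDer X (secRing X s) hs (algebraMap B X.E b)
      map_add' := fun b b' => by rw [map_add, secDer_add]
      map_smul' := fun a b => by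
        have e0 : secDer X (secRing X s) hs (algebraMap B X.E (algebraMap A B a)) = 0 := by
          have := secDer_sec X (secRing X s) hs (algebraMap A C a)
          rwa [show (secRing X s) (algebraMap A C a) = algebraMap B X.E (algebraMap A B a) from
            s.commutes a] at this
        rw [Algebra.smul_def, map_mul, secDer_mul, e0, smul_zero, add_zero, AlgHom.commutes,
          RingHom.id_apply, algebraMap_smul, algebraMap_smul] }
    (fun b b' => by
      change secDer X (secRing X s) hs (algebraMap B X.E (b * b')) =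
        b • secDer X (secRing X s) hs (algebraMap B X.E b') +
          b' • secDer X (secRing X s) hs (algebraMap B X.E b)
      rw [map_mul, secDer_mul, AlgHom.commutes, AlgHom.commutes, algebraMap_smul, algebraMap_smul])

omit [IsScalarTower A B C] in
lemma derOfSection_apply (X : Exal.Ext B C L) (s : C →ₐ[A] X.RestrictCarrier A)
    (hs : ∀ c, X.proj (secRing X s c) = c) (b : B) :
    derOfSection X s hs b = secDer X (secRing X s) hs (algebraMap B X.E b) := rfl

/-- The algebra map from an `A`-trivial `B`-extension to the extension of its derivation. -/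
noncomputable def toOfDer (X : Exal.Ext B C L) (s : C →ₐ[A] X.RestrictCarrier A)
    (hs : ∀ c, X.proj (secRing X s c) = c) :
    X.E →ₐ[B] (Exal.Ext.ofDerivation (C := C) (derOfSection X s hs)).E where
  toFun x := (TrivSqZeroExt.inl (X.proj x) + TrivSqZeroExt.inr (secDer X (secRing X s) hs x) :
    TrivSqZeroExt C L)
  map_one' := by
    have : secDer X (secRing X s) hs 1 = 0 := by
      have := secDer_sec X (secRing X s) hs 1
      rwa [map_one] at this
    rw [this, map_one, TrivSqZeroExt.inr_zero, add_zero]; rfl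
  map_zero' := by
    have : secDer X (secRing X s) hs 0 = 0 := by
      have := secDer_sec X (secRing X s) hs 0
      rwa [map_zero] at this
    rw [this, map_zero, TrivSqZeroExt.inr_zero, add_zero]; rfl
  map_add' x y := by
    rw [map_add, secDer_add, TrivSqZeroExt.inl_add, TrivSqZeroExt.inr_add]
    change _ = ((_ + _ : TrivSqZeroExt C L) + (_ + _ : TrivSqZeroExt C L) : TrivSqZeroExt C L)
    abel
  map_mul' x y := by
    change _ = ((_ + _ : TrivSqZeroExt C L) * (_ + _ : TrivSqZeroExt C L) : TrivSqZeroExt C L)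
    rw [map_mul, secDer_mul]
    refine TrivSqZeroExt.ext ?_ ?_
    · simp
    · simp [op_smul_eq_smul]
  commutes' b := by
    change _ = (TrivSqZeroExt.inl (algebraMap B C b) + TrivSqZeroExt.inr (derOfSection X s hs b) :
      TrivSqZeroExt C L)
    rw [AlgHom.commutes, derOfSection_apply]

omit [IsScalarTower A B C] in
lemma toOfDer_apply (X : Exal.Ext B C L) (s : C →ₐ[A] X.RestrictCarrier A)
    (hs : ∀ c, X.proj (secRing X s c) = c) (x : X.E) :
    toOfDer X s hs x = (TrivSqZeroExt.inl (X.proj x) +
      TrivSqZeroExt.inr (secDer X (secRing X s) hs x) : TrivSqZeroExt C L) := rfl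

omit [IsScalarTower A B C] in
lemma toOfDer_bijective (X : Exal.Ext B C L) (s : C →ₐ[A] X.RestrictCarrier A)
    (hs : ∀ c, X.proj (secRing X s c) = c) : Function.Bijective (toOfDer X s hs) := by
  constructor
  · rw [injective_iff_map_eq_zero]
    intro x hx
    rw [toOfDer_apply] at hx
    replace hx : (TrivSqZeroExt.inl (X.proj x) + TrivSqZeroExt.inr (secDer X (secRing X s) hs x) :
      TrivSqZeroExt C L) = (0 : TrivSqZeroExt C L) := hx
    have h1 := congrArg TrivSqZeroExt.fst hx
    have h2 := congrArg TrivSqZeroExt.snd hx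
    simp only [TrivSqZeroExt.fst_add, TrivSqZeroExt.fst_inl, TrivSqZeroExt.fst_inr, add_zero,
      TrivSqZeroExt.fst_zero, TrivSqZeroExt.snd_add, TrivSqZeroExt.snd_inl, TrivSqZeroExt.snd_inr,
      zero_add, TrivSqZeroExt.snd_zero] at h1 h2
    rw [eq_sec_add_incl X (secRing X s) hs x, h1, h2, map_zero, map_zero, add_zero]
  · intro t
    refine ⟨(secRing X s) (TrivSqZeroExt.fst t) + X.incl (TrivSqZeroExt.snd t), ?_⟩
    rw [toOfDer_apply, map_add, proj_incl, add_zero, secDer_add, secDer_sec, zero_add, secDer_incl]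
    refine TrivSqZeroExt.ext ?_ ?_
    · simp only [TrivSqZeroExt.fst_add, TrivSqZeroExt.fst_inl, TrivSqZeroExt.fst_inr, add_zero]
      exact hs _
    · simp

/-- An `A`-trivial `B`-extension is equivalent to the extension of its derivation. -/
noncomputable def equivOfDer (X : Exal.Ext B C L) (s : C →ₐ[A] X.RestrictCarrier A)
    (hs : ∀ c, X.proj (secRing X s c) = c) :
    X.Equiv (Exal.Ext.ofDerivation (C := C) (derOfSection X s hs)) where
  toAlgEquiv := AlgEquiv.ofBijective (toOfDer X s hs) (toOfDer_bijective X s hs)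
  proj_apply x := by
    change TrivSqZeroExt.fst (toOfDer X s hs x) = _
    rw [toOfDer_apply]; simp
  apply_incl z := by
    change toOfDer X s hs (X.incl z) = (TrivSqZeroExt.inr z : TrivSqZeroExt C L)
    rw [toOfDer_apply, proj_incl, secDer_incl, TrivSqZeroExt.inl_zero, zero_add]

omit [IsScalarTower A B L] in
/-- The extension attached to a derivation is trivial over `A`. -/
lemma ofDerivation_isTrivialOver (D : Derivation A B L) :
    (Exal.Ext.ofDerivation (C := C) D).IsTrivialOver A := by
  refine ⟨{ toFun := fun c => (TrivSqZeroExt.inl c : TrivSqZeroExt C L)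
            map_one' := rfl, map_mul' := fun c c' => TrivSqZeroExt.inl_mul L c c', map_zero' := rfl
            map_add' := fun c c' => TrivSqZeroExt.inl_add L c c', commutes' := ?_ }, fun c => rfl⟩
  intro a
  change _ = (TrivSqZeroExt.inl (algebraMap B C (algebraMap A B a)) +
    TrivSqZeroExt.inr (D (algebraMap A B a)) : TrivSqZeroExt C L)
  rw [Derivation.map_algebraMap, TrivSqZeroExt.inr_zero, add_zero, ← IsScalarTower.algebraMap_apply]

end OfDer

section Transport

variable {A : Type u} {B L : Type v} [CommRing A] [CommRing B] [Algebra A B] [AddCommGroup L] [Module B L]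

lemma isTrivialOver_of_equiv (A' : Type*) [CommRing A'] [Algebra A' A] [Algebra A' B] [IsScalarTower A' A B]
    {X Y : Exal.Ext A B L} (e : X.Equiv Y) (h : Y.IsTrivialOver A') : X.IsTrivialOver A' := by
  obtain ⟨s, hs⟩ := h
  refine ⟨{ toFun := fun b => e.toAlgEquiv.symm (s b)
            map_one' := ?_, map_mul' := ?_, map_zero' := ?_, map_add' := ?_, commutes' := ?_ }, ?_⟩
  · rw [map_one]; exact map_one e.toAlgEquiv.symm
  · intro b b'; rw [map_mul]; exact map_mul e.toAlgEquiv.symm _ _
  · rw [map_zero]; exact map_zero e.toAlgEquiv.symm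
  · intro b b'; rw [map_add]; exact map_add e.toAlgEquiv.symm _ _
  · intro a
    rw [s.commutes]
    exact e.toAlgEquiv.symm.commutes (algebraMap A' A a)
  · intro b
    exact (e.symm.proj_apply (s b)).trans (hs b)

lemma isTrivial_of_equiv {X Y : Exal.Ext A B L} (e : X.Equiv Y) (h : Y.IsTrivial) : X.IsTrivial := by
  obtain ⟨s, hs⟩ := h
  exact ⟨(e.toAlgEquiv.symm : Y.E →ₐ[A] X.E).comp s, fun b => (e.symm.proj_apply (s b)).trans (hs b)⟩

end Transport

section KerExt

variable {A : Type u} {B E : Type v} [CommRing A] [CommRing B] [CommRing E] [Algebra A B] [Algebra A E]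
  (p : E →ₐ[A] B) (hp : Function.Surjective p) (hsq : ∀ x y : E, p x = 0 → p y = 0 → x * y = 0)

/-- The action of `B` on the kernel of a surjection `E → B` with square-zero kernel. -/
@[reducible] noncomputable def kerSMul : SMul B (RingHom.ker p) := ⟨fun b k => (hp b).choose • k⟩

include hsq in
lemma kerSMul_eq (e : E) (k : RingHom.ker p) :
    (letI := kerSMul p hp; p e • k) = e • k := by
  apply Subtype.ext
  change (hp (p e)).choose * (k : E) = e * k
  have h1 : p ((hp (p e)).choose - e) = 0 := by rw [map_sub, (hp (p e)).choose_spec, sub_self]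
  have h2 : p (k : E) = 0 := k.2
  have := hsq _ _ h1 h2
  linear_combination this

/-- The `B`-module structure on the kernel. -/
@[reducible] noncomputable def kerModule : Module B (RingHom.ker p) :=
  letI := kerSMul p hp
  Function.Surjective.moduleLeft (p : E →+* B) hp (kerSMul_eq p hp hsq)

lemma kerModule_smul (e : E) (k : RingHom.ker p) :
    (letI := kerModule p hp hsq; p e • k) = e • k := kerSMul_eq p hp hsq e k

/-- The extension defined by a surjection with square-zero kernel. -/
noncomputable def kerExt : @Exal.Ext A B (RingHom.ker p) _ _ _ _ (kerModule p hp hsq) :=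
  letI := kerModule p hp hsq
  { E := E
    proj := p
    incl := (RingHom.ker p).subtype.toAddMonoidHom
    isExtension :=
      { proj_surjective := hp
        incl_injective := Subtype.val_injective
        exact := fun x => ⟨fun h => ⟨⟨x, h⟩, rfl⟩, by rintro ⟨k, rfl⟩; exact k.2⟩
        mul_incl := fun x z => by
          change x * (z : E) = ((p x • z : RingHom.ker p) : E)
          rw [kerModule_smul p hp hsq]
          rfl } }

end KerExt

section CharHom

open TensorProduct KaehlerDifferential

variable (A : Type u) {B C L : Type v} [CommRing A] [CommRing B] [CommRing C] [Algebra A B] [Algebra B C]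
  [Algebra A C] [IsScalarTower A B C] [AddCommGroup L] [Module C L] (X : Exal.Ext B C L)

omit [Algebra A C] [IsScalarTower A B C] in
lemma algebraMap_charCarrier (x : X.CharCarrier A) : algebraMap (X.CharCarrier A) C x = X.proj x := rfl

omit [Algebra A C] [IsScalarTower A B C] in
lemma ker_sq_eq_bot : (RingHom.ker (algebraMap (X.CharCarrier A) C)) ^ 2 = ⊥ := by
  rw [eq_bot_iff, pow_two, Ideal.mul_le]
  intro x hx y hy
  obtain ⟨m, rfl⟩ := (X.isExtension.exact x).1 hx
  obtain ⟨m', rfl⟩ := (X.isExtension.exact y).1 hy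
  exact incl_mul_incl X m m'

omit [Algebra A C] [IsScalarTower A B C] in
lemma inclC_mem_ker (z : L) : X.inclC A z ∈ RingHom.ker (algebraMap (X.CharCarrier A) C) :=
  proj_incl X z

omit [Algebra A C] [IsScalarTower A B C] in
lemma deltaL_eq_kerToTensor (z : L) :
    X.deltaL A z = kerToTensor A (X.CharCarrier A) C ⟨X.inclC A z, inclC_mem_ker A X z⟩ := rfl

lemma kerToTensor_injective (hX : X.IsTrivialOver A) :
    Function.Injective (kerToTensor A (X.CharCarrier A) C) := by
  obtain ⟨s, hs⟩ := hX
  let g : C →ₐ[A] X.CharCarrier A :=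
    { toFun := fun c => s c
      map_one' := map_one s
      map_mul' := map_mul s
      map_zero' := map_zero s
      map_add' := map_add s
      commutes' := fun a => s.commutes a }
  have hg : (IsScalarTower.toAlgHom A (X.CharCarrier A) C).comp g = AlgHom.id A C := by
    ext c
    exact hs c
  have := retractionOfSectionOfKerSqZero_comp_kerToTensor g (ker_sq_eq_bot A X) hg
  intro x y hxy
  have h2 := congrArg (retractionOfSectionOfKerSqZero g (ker_sq_eq_bot A X) hg) hxy
  rw [← LinearMap.comp_apply, ← LinearMap.comp_apply, this] at h2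
  exact h2

lemma deltaL_injective (hX : X.IsTrivialOver A) : Function.Injective (X.deltaL A) := by
  intro z z' h
  rw [deltaL_eq_kerToTensor, deltaL_eq_kerToTensor] at h
  have := kerToTensor_injective A X hX h
  exact X.isExtension.incl_injective (congrArg Subtype.val this)

omit [Algebra A C] [IsScalarTower A B C] in
lemma deltaL_smul (c : C) (z : L) : X.deltaL A (c • z) = c • X.deltaL A z := by
  obtain ⟨x, rfl⟩ : ∃ x : X.CharCarrier A, algebraMap (X.CharCarrier A) C x = c :=
    X.isExtension.proj_surjective c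
  have e0 : X.inclC A (algebraMap (X.CharCarrier A) C x • z) = x * X.inclC A z :=
    (X.isExtension.mul_incl x z).symm
  change (1 : C) ⊗ₜ[X.CharCarrier A] D A (X.CharCarrier A) (X.inclC A (algebraMap (X.CharCarrier A) C x • z)) =
    algebraMap (X.CharCarrier A) C x • ((1 : C) ⊗ₜ[X.CharCarrier A] D A (X.CharCarrier A) (X.inclC A z))
  rw [e0, Derivation.leibniz, tmul_add, ← smul_tmul, ← smul_tmul, Algebra.smul_def, Algebra.smul_def,
    mul_one, mul_one, RingHom.mem_ker.1 (inclC_mem_ker A X z), zero_tmul, add_zero, smul_tmul', smul_eq_mul,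
    mul_one]

/-- `deltaL` as a `C`-linear map. -/
noncomputable def deltaLin : L →ₗ[C] C ⊗[X.CharCarrier A] Ω[X.CharCarrier A⁄A] where
  toFun := X.deltaL A
  map_add' := map_add _
  map_smul' := deltaL_smul A X

omit [Algebra A C] [IsScalarTower A B C] in
lemma baseChangeToMiddle_tmul (c : C) (ω : Ω[B⁄A]) :
    X.baseChangeToMiddle A (c ⊗ₜ[B] ω) =
      c ⊗ₜ[X.CharCarrier A] KaehlerDifferential.map A A B (X.CharCarrier A) ω := rfl

omit [Algebra A C] [IsScalarTower A B C] in
lemma baseChangeToMiddle_smul (c : C) (t : C ⊗[B] Ω[B⁄A]) :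
    X.baseChangeToMiddle A (c • t) = c • X.baseChangeToMiddle A t := by
  induction t using TensorProduct.induction_on with
  | zero => rw [smul_zero, map_zero, smul_zero]
  | tmul c' ω => rw [smul_tmul', baseChangeToMiddle_tmul, baseChangeToMiddle_tmul, smul_tmul']
  | add x y hx hy => rw [smul_add, map_add, hx, hy, map_add, smul_add]

/-- `baseChangeToMiddle` as a `C`-linear map. -/
noncomputable def bcmLin : C ⊗[B] Ω[B⁄A] →ₗ[C] C ⊗[X.CharCarrier A] Ω[X.CharCarrier A⁄A] where
  toFun := X.baseChangeToMiddle A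
  map_add' := map_add _
  map_smul' := baseChangeToMiddle_smul A X

lemma mapBaseChange_baseChangeToMiddle (t : C ⊗[B] Ω[B⁄A]) :
    mapBaseChange A (X.CharCarrier A) C (X.baseChangeToMiddle A t) = mapBaseChange A B C t := by
  induction t using TensorProduct.induction_on with
  | zero => rw [map_zero, map_zero, map_zero]
  | tmul c ω =>
    rw [baseChangeToMiddle_tmul, mapBaseChange_tmul, mapBaseChange_tmul]
    congr 1
    have : ω ∈ Submodule.span B (Set.range (D A B)) := by
      rw [KaehlerDifferential.span_range_derivation]; trivial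
    induction this using Submodule.span_induction with
    | mem ω h =>
      obtain ⟨b, rfl⟩ := h
      rw [map_D, map_D, map_D, ← IsScalarTower.algebraMap_apply]
    | zero => rw [map_zero, map_zero, map_zero]
    | add x y _ _ hx hy => rw [map_add, map_add, map_add, hx, hy]
    | smul b x _ hx =>
      rw [map_smul (KaehlerDifferential.map A A B (X.CharCarrier A)), LinearMap.map_smul_of_tower, hx,
        map_smul]
  | add x y hx hy => rw [map_add, map_add, map_add, hx, hy]

lemma exists_deltaL_eq (z : EGA41.imperfection A B C) :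
    ∃ l : L, X.deltaL A l = X.baseChangeToMiddle A (z : C ⊗[B] Ω[B⁄A]) := by
  have hz : mapBaseChange A B C (z : C ⊗[B] Ω[B⁄A]) = 0 := z.2
  rw [← mapBaseChange_baseChangeToMiddle A X] at hz
  have hsurj : Function.Surjective (algebraMap (X.CharCarrier A) C) := X.isExtension.proj_surjective
  obtain ⟨k, hk⟩ := (exact_kerCotangentToTensor_mapBaseChange A (X.CharCarrier A) C hsurj _).1 hz
  obtain ⟨k, rfl⟩ := Ideal.toCotangent_surjective _ k
  obtain ⟨l, hl⟩ := (X.isExtension.exact k.1).1 k.2
  refine ⟨l, ?_⟩
  rw [← hk, kerCotangentToTensor_toCotangent]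
  change (1 : C) ⊗ₜ[X.CharCarrier A] D A (X.CharCarrier A) (X.incl l) = _
  rw [hl]

lemma deltaLin_injective (hX : X.IsTrivialOver A) : Function.Injective (deltaLin A X) :=
  deltaL_injective A X hX

/-- The characteristic homomorphism of an `A`-trivial extension. -/
noncomputable def charHom (hX : X.IsTrivialOver A) : EGA41.imperfection A B C →ₗ[C] L :=
  (LinearEquiv.ofInjective (deltaLin A X) (deltaLin_injective A X hX)).symm.toLinearMap.comp
    (LinearMap.codRestrict (LinearMap.range (deltaLin A X))
      ((bcmLin A X).comp (EGA41.imperfection A B C).subtype) (fun z => by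
        obtain ⟨l, hl⟩ := exists_deltaL_eq A X z
        exact ⟨l, hl⟩))

lemma isCharHom_charHom (hX : X.IsTrivialOver A) : X.IsCharHom A (charHom A X hX) := by
  intro z
  change deltaLin A X ((LinearEquiv.ofInjective (deltaLin A X) (deltaLin_injective A X hX)).symm _) = _
  rw [LinearEquiv.ofInjective_symm_apply]
  rfl

lemma isCharHom_unique (hX : X.IsTrivialOver A) (χ χ' : EGA41.imperfection A B C →ₗ[C] L)
    (h : X.IsCharHom A χ) (h' : X.IsCharHom A χ') : χ = χ' := by
  ext z
  exact deltaL_injective A X hX ((h z).trans (h' z).symm)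

end CharHom

section Inj

open TensorProduct KaehlerDifferential

variable (A : Type u) {B C L : Type v} [CommRing A] [CommRing B] [CommRing C] [Algebra A B] [Algebra B C]
  [Algebra A C] [IsScalarTower A B C] [AddCommGroup L] [Module C L]
  [Module B L] [IsScalarTower B C L] [Module A L] [IsScalarTower A B L]

/-- The `C`-linear map `C ⊗_B Ω_{B/A} → L` induced by a derivation. -/
noncomputable def derLift (D : Derivation A B L) : C ⊗[B] Ω[B⁄A] →ₗ[C] L :=
  D.liftKaehlerDifferential.liftBaseChange C

omit [IsScalarTower A B C] [Algebra A C] in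
lemma derLift_tmul_D (D : Derivation A B L) (c : C) (b : B) :
    derLift A D (c ⊗ₜ[B] KaehlerDifferential.D A B b) = c • D b := by
  rw [derLift, LinearMap.liftBaseChange_tmul, Derivation.liftKaehlerDifferential_comp_D]

/-- The section as an algebra map into the `CharCarrier`. -/
def secChar (X : Exal.Ext B C L) (s : C →ₐ[A] X.RestrictCarrier A) : C →ₐ[A] X.CharCarrier A :=
  { toFun := fun c => s c
    map_one' := map_one s
    map_mul' := map_mul s
    map_zero' := map_zero s
    map_add' := map_add s
    commutes' := fun a => s.commutes a }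

omit [Module B L] [IsScalarTower B C L] [Module A L] [IsScalarTower A B L] in
lemma secChar_comp (X : Exal.Ext B C L) (s : C →ₐ[A] X.RestrictCarrier A)
    (hs : ∀ c, X.proj (secRing X s c) = c) :
    (IsScalarTower.toAlgHom A (X.CharCarrier A) C).comp (secChar A X s) = AlgHom.id A C := by
  ext c
  exact hs c

lemma retraction_bcm (X : Exal.Ext B C L) (s : C →ₐ[A] X.RestrictCarrier A)
    (hs : ∀ c, X.proj (secRing X s c) = c) (t : C ⊗[B] Ω[B⁄A]) :
    ((retractionOfSectionOfKerSqZero (secChar A X s) (ker_sq_eq_bot A X) (secChar_comp A X s hs)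
      (X.baseChangeToMiddle A t) : RingHom.ker (algebraMap (X.CharCarrier A) C)) : X.CharCarrier A) =
      X.incl (derLift A (derOfSection X s hs) t) := by
  induction t using TensorProduct.induction_on with
  | zero => rw [map_zero, map_zero, map_zero, map_zero]; rfl
  | add x y hx hy => rw [map_add, map_add, map_add, map_add, Submodule.coe_add, hx, hy]; rfl
  | tmul c ω =>
    have hω : ω ∈ Submodule.span B (Set.range (KaehlerDifferential.D A B)) := by
      rw [KaehlerDifferential.span_range_derivation]; trivial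
    induction hω using Submodule.span_induction generalizing c with
    | mem ω h =>
      obtain ⟨b, rfl⟩ := h
      rw [baseChangeToMiddle_tmul, KaehlerDifferential.map_D, retractionOfSectionOfKerSqZero_tmul_D,
        derLift_tmul_D, derOfSection_apply]
      have e1 : X.incl (c • secDer X (secRing X s) hs (algebraMap B X.E b)) =
          secRing X s c * X.incl (secDer X (secRing X s) hs (algebraMap B X.E b)) := by
        rw [X.isExtension.mul_incl, hs]
      rw [e1, incl_secDer]
      change secRing X s c * algebraMap B X.E b -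
        secRing X s c * secRing X s (X.proj (algebraMap B X.E b)) = _
      ring
    | zero => rw [tmul_zero, map_zero, map_zero, map_zero, map_zero]; rfl
    | add x y _ _ hx hy =>
      rw [tmul_add, map_add, map_add, map_add, map_add, Submodule.coe_add, hx, hy]; rfl
    | smul b x _ hx =>
      rw [← smul_tmul]
      exact hx (b • c)

lemma charHom_eq_derLift (X : Exal.Ext B C L) (s : C →ₐ[A] X.RestrictCarrier A)
    (hs : ∀ c, X.proj (secRing X s c) = c) (χ : EGA41.imperfection A B C →ₗ[C] L)
    (hχ : X.IsCharHom A χ) (z : EGA41.imperfection A B C) :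
    χ z = derLift A (derOfSection X s hs) (z : C ⊗[B] Ω[B⁄A]) := by
  apply X.isExtension.incl_injective
  rw [← retraction_bcm A X s hs, ← hχ z, deltaL_eq_kerToTensor]
  have := retractionOfSectionOfKerSqZero_comp_kerToTensor (secChar A X s) (ker_sq_eq_bot A X)
    (secChar_comp A X s hs)
  have h2 := LinearMap.congr_fun this ⟨X.inclC A (χ z), inclC_mem_ker A X (χ z)⟩
  rw [LinearMap.comp_apply] at h2
  rw [h2]
  rfl

end Inj

section Inj2

open TensorProduct KaehlerDifferential

attribute [local instance] Exal.opModule Exal.isCentralScalar_opModule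

variable (A : Type u) {B C L : Type v} [CommRing A] [CommRing B] [CommRing C] [Algebra A B] [Algebra B C]
  [Algebra A C] [IsScalarTower A B C] [AddCommGroup L] [Module C L]
  [Module B L] [IsScalarTower B C L] [Module A L] [IsScalarTower A B L]

omit [Algebra A B] [Algebra B C] [IsScalarTower A B C] [Module B L] [IsScalarTower B C L] [IsScalarTower A B L] in
/-- Translating by a derivation of `C`, as a ring endomorphism of `C ⊕ L`. -/
noncomputable def translateHom (T : Derivation A C L) : TrivSqZeroExt C L →+* TrivSqZeroExt C L where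
  toFun t := TrivSqZeroExt.inl (TrivSqZeroExt.fst t) +
    TrivSqZeroExt.inr (TrivSqZeroExt.snd t - T (TrivSqZeroExt.fst t))
  map_one' := by
    refine TrivSqZeroExt.ext ?_ ?_ <;> simp
  map_zero' := by
    refine TrivSqZeroExt.ext ?_ ?_ <;> simp
  map_add' t t' := by
    refine TrivSqZeroExt.ext ?_ ?_
    · simp
    · simp only [TrivSqZeroExt.fst_add, map_add, TrivSqZeroExt.snd_add, TrivSqZeroExt.snd_inl,
        TrivSqZeroExt.snd_inr, zero_add]
      abel
  map_mul' t t' := by
    refine TrivSqZeroExt.ext ?_ ?_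
    · simp
    · simp only [TrivSqZeroExt.fst_mul, TrivSqZeroExt.snd_mul, Derivation.leibniz, TrivSqZeroExt.snd_add,
        TrivSqZeroExt.snd_inl, TrivSqZeroExt.snd_inr, zero_add, TrivSqZeroExt.fst_add,
        TrivSqZeroExt.fst_inl, TrivSqZeroExt.fst_inr, add_zero, smul_sub, op_smul_eq_smul]
      abel

/-- Translating by a derivation of `C`: the algebra map between the extensions of two derivations of `B`
differing by a derivation of `C`. -/
noncomputable def ofDerivationHom (D D' : Derivation A B L) (T : Derivation A C L)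
    (h : ∀ b, D b = D' b + T (algebraMap B C b)) :
    (Exal.Ext.ofDerivation (C := C) D).E →ₐ[B] (Exal.Ext.ofDerivation (C := C) D').E where
  toFun t := translateHom A T t
  map_one' := map_one (translateHom A T)
  map_zero' := map_zero (translateHom A T)
  map_add' := map_add (translateHom A T)
  map_mul' := map_mul (translateHom A T)
  commutes' b := by
    change translateHom A T
        (TrivSqZeroExt.inl (algebraMap B C b) + TrivSqZeroExt.inr (D b) : TrivSqZeroExt C L) =
      (TrivSqZeroExt.inl (algebraMap B C b) + TrivSqZeroExt.inr (D' b) : TrivSqZeroExt C L)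
    refine TrivSqZeroExt.ext ?_ ?_
    · simp [translateHom]
    · simp [translateHom, h b]

omit [IsScalarTower A B C] [IsScalarTower A B L] in
lemma ofDerivationHom_apply (D D' : Derivation A B L) (T : Derivation A C L)
    (h : ∀ b, D b = D' b + T (algebraMap B C b)) (t : TrivSqZeroExt C L) :
    ofDerivationHom A D D' T h t = (TrivSqZeroExt.inl (TrivSqZeroExt.fst t) +
      TrivSqZeroExt.inr (TrivSqZeroExt.snd t - T (TrivSqZeroExt.fst t)) : TrivSqZeroExt C L) := rfl

/-- Two derivations of `B` differing by a derivation of `C` give equivalent extensions. -/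
noncomputable def ofDerivationEquiv (D D' : Derivation A B L) (T : Derivation A C L)
    (h : ∀ b, D b = D' b + T (algebraMap B C b)) :
    (Exal.Ext.ofDerivation (C := C) D).Equiv (Exal.Ext.ofDerivation (C := C) D') where
  toAlgEquiv := AlgEquiv.ofBijective (ofDerivationHom A D D' T h) (by
    constructor
    · rw [injective_iff_map_eq_zero]
      intro t ht
      have ht' : (TrivSqZeroExt.inl (TrivSqZeroExt.fst t) +
        TrivSqZeroExt.inr (TrivSqZeroExt.snd t - T (TrivSqZeroExt.fst t)) : TrivSqZeroExt C L) =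
          (0 : TrivSqZeroExt C L) := ht
      have h1 := congrArg TrivSqZeroExt.fst ht'
      have h2 := congrArg TrivSqZeroExt.snd ht'
      simp only [TrivSqZeroExt.fst_add, TrivSqZeroExt.fst_inl, TrivSqZeroExt.fst_inr, add_zero,
        TrivSqZeroExt.fst_zero, TrivSqZeroExt.snd_add, TrivSqZeroExt.snd_inl, TrivSqZeroExt.snd_inr,
        zero_add, TrivSqZeroExt.snd_zero] at h1 h2
      rw [h1, map_zero, sub_zero] at h2
      exact TrivSqZeroExt.ext h1 h2
    · intro t
      refine ⟨(TrivSqZeroExt.inl (TrivSqZeroExt.fst t) +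
        TrivSqZeroExt.inr (TrivSqZeroExt.snd t + T (TrivSqZeroExt.fst t)) : TrivSqZeroExt C L), ?_⟩
      rw [ofDerivationHom_apply]
      refine TrivSqZeroExt.ext ?_ ?_ <;> simp)
  proj_apply t := by
    change TrivSqZeroExt.fst (TrivSqZeroExt.inl (TrivSqZeroExt.fst t) +
      TrivSqZeroExt.inr (TrivSqZeroExt.snd t - T (TrivSqZeroExt.fst t)) : TrivSqZeroExt C L) =
        TrivSqZeroExt.fst t
    simp
  apply_incl z := by
    change ofDerivationHom A D D' T h (TrivSqZeroExt.inr z : TrivSqZeroExt C L) =
      (TrivSqZeroExt.inr z : TrivSqZeroExt C L)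
    rw [ofDerivationHom_apply]
    refine TrivSqZeroExt.ext ?_ ?_ <;> simp

omit [Module B L] [IsScalarTower B C L] [Module A L] [IsScalarTower A B L] in
/-- Extending a linear map vanishing on the imperfection module to `Ω_{C/A}`. -/
lemma exists_extension
    (h : Module.Injective C L ∨
      ∃ s : Ω[C⁄B] →ₗ[C] Ω[C⁄A], ∀ ω : Ω[C⁄B], KaehlerDifferential.map A B C C (s ω) = ω)
    (Dt : C ⊗[B] Ω[B⁄A] →ₗ[C] L) (hDt : ∀ z ∈ EGA41.imperfection A B C, Dt z = 0) :
    ∃ ψ : Ω[C⁄A] →ₗ[C] L, ∀ t, ψ (mapBaseChange A B C t) = Dt t := by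
  let f := mapBaseChange A B C
  let f' : (C ⊗[B] Ω[B⁄A] ⧸ LinearMap.ker f) →ₗ[C] Ω[C⁄A] := (LinearMap.ker f).liftQ f le_rfl
  have hinj : Function.Injective f' :=
    LinearMap.ker_eq_bot.1 (Submodule.ker_liftQ_eq_bot _ _ _ le_rfl)
  let g : (C ⊗[B] Ω[B⁄A] ⧸ LinearMap.ker f) →ₗ[C] L := (LinearMap.ker f).liftQ Dt hDt
  have hf' : ∀ t, f' (Submodule.Quotient.mk t) = f t := fun t => rfl
  have hg : ∀ t, g (Submodule.Quotient.mk t) = Dt t := fun t => rfl
  rcases h with h | ⟨s, hs⟩
  · obtain ⟨ψ, hψ⟩ := h.out f' hinj g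
    exact ⟨ψ, fun t => by rw [← hg, ← hψ, hf']⟩
  · have hmem : ∀ ω : Ω[C⁄A], ω - s (KaehlerDifferential.map A B C C ω) ∈ LinearMap.range f' := by
      intro ω
      have h0 : KaehlerDifferential.map A B C C (ω - s (KaehlerDifferential.map A B C C ω)) = 0 := by
        rw [map_sub, hs, sub_self]
      obtain ⟨t, ht⟩ := (exact_mapBaseChange_map A B C _).1 h0
      exact ⟨Submodule.Quotient.mk t, ht⟩
    let π : Ω[C⁄A] →ₗ[C] LinearMap.range f' :=
      LinearMap.codRestrict _ (LinearMap.id - s.comp ((KaehlerDifferential.map A B C C).restrictScalars C))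
        hmem
    refine ⟨g.comp ((LinearEquiv.ofInjective f' hinj).symm.toLinearMap.comp π), fun t => ?_⟩
    have h1 : KaehlerDifferential.map A B C C (f t) = 0 :=
      (exact_mapBaseChange_map A B C _).2 ⟨t, rfl⟩
    have h2 : π (f t) = LinearEquiv.ofInjective f' hinj (Submodule.Quotient.mk t) := by
      apply Subtype.ext
      change f t - s (KaehlerDifferential.map A B C C (f t)) = f' (Submodule.Quotient.mk t)
      rw [h1, map_zero, sub_zero, hf']
    change g ((LinearEquiv.ofInjective f' hinj).symm (π (f t))) = Dt t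
    rw [h2, LinearEquiv.symm_apply_apply, hg]

end Inj2

section Surj

open TensorProduct KaehlerDifferential

attribute [local instance] Exal.opModule Exal.isCentralScalar_opModule

variable (A : Type u) {B C L : Type v} [CommRing A] [CommRing B] [CommRing C] [Algebra A B] [Algebra B C]
  [Algebra A C] [IsScalarTower A B C] [AddCommGroup L] [Module C L]
  [Module B L] [IsScalarTower B C L] [Module A L] [IsScalarTower A B L]

omit [Algebra A C] [IsScalarTower A B C] in
/-- Every `C`-linear map `C ⊗_B Ω_{B/A} → L` comes from a derivation. -/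
lemma exists_der_of_lin (Dt : C ⊗[B] Ω[B⁄A] →ₗ[C] L) : ∃ D : Derivation A B L, derLift A D = Dt := by
  let f : Ω[B⁄A] →ₗ[B] L := (LinearMap.liftBaseChangeEquiv C).symm Dt
  refine ⟨f.compDer (KaehlerDifferential.D A B), ?_⟩
  have h1 : (f.compDer (KaehlerDifferential.D A B)).liftKaehlerDifferential = f :=
    (KaehlerDifferential.linearMapEquivDerivation A B).left_inv f
  rw [derLift, h1]
  exact (LinearMap.liftBaseChangeEquiv C).apply_symm_apply Dt

/-- The canonical `A`-algebra section of the extension of a derivation. -/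
noncomputable def ofDerivationSection (D : Derivation A B L) :
    C →ₐ[A] (Exal.Ext.ofDerivation (C := C) D).RestrictCarrier A :=
  { toFun := fun c => (TrivSqZeroExt.inl c : TrivSqZeroExt C L)
    map_one' := rfl
    map_mul' := fun c c' => TrivSqZeroExt.inl_mul L c c'
    map_zero' := rfl
    map_add' := fun c c' => TrivSqZeroExt.inl_add L c c'
    commutes' := fun a => by
      change _ = (TrivSqZeroExt.inl (algebraMap B C (algebraMap A B a)) +
        TrivSqZeroExt.inr (D (algebraMap A B a)) : TrivSqZeroExt C L)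
      rw [Derivation.map_algebraMap, TrivSqZeroExt.inr_zero, add_zero, ← IsScalarTower.algebraMap_apply] }

omit [IsScalarTower A B L] in
lemma ofDerivationSection_proj (D : Derivation A B L) (c : C) :
    (Exal.Ext.ofDerivation (C := C) D).proj
      (secRing (Exal.Ext.ofDerivation (C := C) D) (ofDerivationSection A D) c) = c := rfl

lemma derOfSection_ofDerivation (D : Derivation A B L) :
    derOfSection (Exal.Ext.ofDerivation (C := C) D) (ofDerivationSection A D)
      (ofDerivationSection_proj A D) = D := by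
  ext b
  apply (Exal.Ext.ofDerivation (C := C) D).isExtension.incl_injective
  rw [derOfSection_apply, incl_secDer]
  change ((TrivSqZeroExt.inl (algebraMap B C b) + TrivSqZeroExt.inr (D b) : TrivSqZeroExt C L) -
    TrivSqZeroExt.inl (TrivSqZeroExt.fst
      (TrivSqZeroExt.inl (algebraMap B C b) + TrivSqZeroExt.inr (D b) : TrivSqZeroExt C L)) :
        TrivSqZeroExt C L) = (TrivSqZeroExt.inr (D b) : TrivSqZeroExt C L)
  refine TrivSqZeroExt.ext ?_ ?_ <;> simp

/-- The characteristic homomorphism of the extension of a derivation is the restriction of its lift. -/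
lemma isCharHom_ofDerivation (D : Derivation A B L) (χ : EGA41.imperfection A B C →ₗ[C] L)
    (h : ∀ z : EGA41.imperfection A B C, χ z = derLift A D (z : C ⊗[B] Ω[B⁄A])) :
    (Exal.Ext.ofDerivation (C := C) D).IsCharHom A χ := by
  have hX : (Exal.Ext.ofDerivation (C := C) D).IsTrivialOver A :=
    ⟨ofDerivationSection A D, ofDerivationSection_proj A D⟩
  have h1 := isCharHom_charHom A _ hX
  have h2 : charHom A _ hX = χ := by
    ext z
    rw [charHom_eq_derLift A _ (ofDerivationSection A D) (ofDerivationSection_proj A D) _ h1 z,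
      derOfSection_ofDerivation, h]
  rwa [h2] at h1

end Surj

section Smooth

open TensorProduct KaehlerDifferential

variable (A : Type u) {B C L : Type v} [CommRing A] [CommRing B] [CommRing C] [Algebra A B] [Algebra B C]
  [Algebra A C] [IsScalarTower A B C] [AddCommGroup L] [Module C L]

/-- Over a formally smooth base-to-target, every extension is trivial over the base. -/
lemma isTrivialOver_of_formallySmooth [Algebra.FormallySmooth A C] (X : Exal.Ext B C L) :
    X.IsTrivialOver A := by
  let g : X.RestrictCarrier A →ₐ[A] C := (X.restrictBase A).proj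
  have hg : Function.Surjective g := X.isExtension.proj_surjective
  have hg' : IsNilpotent (RingHom.ker (g : X.RestrictCarrier A →+* C)) := by
    refine ⟨2, ?_⟩
    rw [Ideal.zero_eq_bot, eq_bot_iff, pow_two, Ideal.mul_le]
    intro x hx y hy
    obtain ⟨m, rfl⟩ := (X.isExtension.exact x).1 hx
    obtain ⟨m', rfl⟩ := (X.isExtension.exact y).1 hy
    exact incl_mul_incl X m m'
  refine ⟨Algebra.FormallySmooth.liftOfSurjective (AlgHom.id A C) g hg hg', fun c => ?_⟩
  exact Algebra.FormallySmooth.liftOfSurjective_apply (AlgHom.id A C) g hg hg' c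

/-- If `Ω_{C/B}` is projective then `Ω_{C/A} → Ω_{C/B}` has a right inverse. -/
lemma exists_section_map [Module.Projective C Ω[C⁄B]] :
    ∃ s : Ω[C⁄B] →ₗ[C] Ω[C⁄A], ∀ ω : Ω[C⁄B], KaehlerDifferential.map A B C C (s ω) = ω := by
  obtain ⟨s, hs⟩ := Module.projective_lifting_property (KaehlerDifferential.map A B C C) LinearMap.id
    (KaehlerDifferential.map_surjective A B C)
  exact ⟨s, fun ω => LinearMap.congr_fun hs ω⟩

omit [Algebra A B] [Algebra B C] [Algebra A C] [IsScalarTower A B C] in
/-- Abstract splitting: for an exact `T → M → N` with `M` projective and `M → N` split, the kernel of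
`T → M` is a direct summand of `T`. -/
lemma exists_retraction_ker_of_exact {R : Type*} [CommRing R] {T M N : Type*} [AddCommGroup T]
    [AddCommGroup M] [AddCommGroup N] [Module R T] [Module R M] [Module R N] [Module.Projective R M]
    (f : T →ₗ[R] M) (g : M →ₗ[R] N) (hfg : Function.Exact f g) (s : N →ₗ[R] M)
    (hs : ∀ n, g (s n) = n) :
    ∃ r : T →ₗ[R] LinearMap.ker f, ∀ z : LinearMap.ker f, r z = z := by
  let I := LinearMap.range f
  have hmem : ∀ ω : M, ω - s (g ω) ∈ I := by
    intro ω
    have h0 : g (ω - s (g ω)) = 0 := by rw [map_sub, hs, sub_self]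
    exact (hfg _).1 h0
  let π' : M →ₗ[R] I := LinearMap.codRestrict I (LinearMap.id - s.comp g) hmem
  have hπ' : π'.comp I.subtype = LinearMap.id := by
    ext ι
    change (ι : M) - s (g ι) = ι
    have : g (ι : M) = 0 := (hfg _).2 ι.2
    rw [this, map_zero, sub_zero]
  haveI : Module.Projective R I := Module.Projective.of_split I.subtype π' hπ'
  let f' : T →ₗ[R] I := f.rangeRestrict
  obtain ⟨σ, hσ⟩ := Module.projective_lifting_property f' LinearMap.id f.surjective_rangeRestrict
  have hσ' : ∀ y : I, f (σ y) = y := fun y => congrArg Subtype.val (LinearMap.congr_fun hσ y)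
  have hmem2 : ∀ t : T, t - σ (f' t) ∈ LinearMap.ker f := by
    intro t
    change f (t - σ (f' t)) = 0
    rw [map_sub, hσ']
    exact sub_self (f t)
  refine ⟨LinearMap.codRestrict _ (LinearMap.id - σ.comp f') hmem2, fun z => ?_⟩
  apply Subtype.ext
  have h0 : f' z = 0 := Subtype.ext z.2
  have h1 : ∀ t : T, ((LinearMap.codRestrict _ (LinearMap.id - σ.comp f') hmem2 t :
      LinearMap.ker f) : T) = t - σ (f' t) := fun t => rfl
  rw [h1, h0, map_zero, sub_zero]

/-- If `Ω_{C/A}` is projective and `Ω_{C/A} → Ω_{C/B}` splits, the imperfection module is a direct summand. -/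
lemma exists_retraction_imperfection [Module.Projective C Ω[C⁄A]]
    (s : Ω[C⁄B] →ₗ[C] Ω[C⁄A]) (hs : ∀ ω : Ω[C⁄B], KaehlerDifferential.map A B C C (s ω) = ω) :
    ∃ r : C ⊗[B] Ω[B⁄A] →ₗ[C] ↥(EGA41.imperfection A B C),
      ∀ z : ↥(EGA41.imperfection A B C), r z = z :=
  exists_retraction_ker_of_exact (mapBaseChange A B C) (KaehlerDifferential.map A B C C)
    (exact_mapBaseChange_map A B C) s hs

end Smooth

section Twist

attribute [local instance] Exal.opModule Exal.isCentralScalar_opModule

variable {A : Type u'} {C L : Type v} [CommRing A] [CommRing C] [Algebra A C] [AddCommGroup L] [Module C L]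

/-- The ring map `a ↦ (a, d a)` into `C ⊕ L` attached to an additive map satisfying the Leibniz rule. -/
noncomputable def twistHom (d : A →+ L)
    (hd : ∀ a a', d (a * a') = algebraMap A C a • d a' + algebraMap A C a' • d a) :
    A →+* TrivSqZeroExt C L where
  toFun a := TrivSqZeroExt.inl (algebraMap A C a) + TrivSqZeroExt.inr (d a)
  map_one' := by
    have h1 : d 1 = 0 := by
      have := hd 1 1
      rw [mul_one, RingHom.map_one, one_smul] at this
      exact (add_eq_left.1 this.symm)
    rw [h1, map_one, TrivSqZeroExt.inr_zero, add_zero, TrivSqZeroExt.inl_one]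
  map_mul' a a' := by
    refine TrivSqZeroExt.ext ?_ ?_
    · simp
    · simp only [TrivSqZeroExt.snd_add, TrivSqZeroExt.snd_inl, TrivSqZeroExt.snd_inr, zero_add,
        TrivSqZeroExt.snd_mul, TrivSqZeroExt.fst_add, TrivSqZeroExt.fst_inl, TrivSqZeroExt.fst_inr,
        add_zero, op_smul_eq_smul, hd]
  map_zero' := by
    rw [map_zero, map_zero, TrivSqZeroExt.inl_zero, TrivSqZeroExt.inr_zero, add_zero]
  map_add' a a' := by
    rw [map_add, map_add, TrivSqZeroExt.inl_add, TrivSqZeroExt.inr_add]
    abel

/-- The carrier `C ⊕ L` of the twisted extension, with its own name for the algebra instance. -/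
@[nolint unusedArguments]
def TwistCarrier (d : A →+ L)
    (_hd : ∀ a a', d (a * a') = algebraMap A C a • d a' + algebraMap A C a' • d a) : Type v :=
  TrivSqZeroExt C L

instance (d : A →+ L) (hd : ∀ a a', d (a * a') = algebraMap A C a • d a' + algebraMap A C a' • d a) :
    CommRing (TwistCarrier d hd) := inferInstanceAs (CommRing (TrivSqZeroExt C L))

noncomputable instance (d : A →+ L)
    (hd : ∀ a a', d (a * a') = algebraMap A C a • d a' + algebraMap A C a' • d a) :
    Algebra A (TwistCarrier d hd) := (twistHom d hd : A →+* TwistCarrier d hd).toAlgebra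

/-- The extension `C ⊕ L` with `A`-algebra structure `a ↦ (a, d a)`. -/
noncomputable def twistExt (d : A →+ L)
    (hd : ∀ a a', d (a * a') = algebraMap A C a • d a' + algebraMap A C a' • d a) : Exal.Ext A C L where
  E := TwistCarrier d hd
  proj :=
    { toFun := fun x => TrivSqZeroExt.fst x
      map_one' := TrivSqZeroExt.fst_one
      map_mul' := TrivSqZeroExt.fst_mul
      map_zero' := TrivSqZeroExt.fst_zero
      map_add' := TrivSqZeroExt.fst_add
      commutes' := fun x => by
        change TrivSqZeroExt.fst (TrivSqZeroExt.inl (algebraMap A C x) + TrivSqZeroExt.inr (d x)) = _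
        rw [TrivSqZeroExt.fst_add, TrivSqZeroExt.fst_inl, TrivSqZeroExt.fst_inr, add_zero] }
  incl := (TrivSqZeroExt.inrHom C L).toAddMonoidHom
  isExtension :=
    { proj_surjective := fun c => ⟨TrivSqZeroExt.inl c, rfl⟩
      incl_injective := TrivSqZeroExt.inr_injective
      exact := fun x => by
        constructor
        · intro hx
          exact ⟨TrivSqZeroExt.snd x, TrivSqZeroExt.ext hx.symm rfl⟩
        · rintro ⟨z, rfl⟩
          rfl
      mul_incl := fun x z => by
        refine TrivSqZeroExt.ext ?_ ?_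
        · change TrivSqZeroExt.fst x * 0 = 0
          exact mul_zero _
        · change TrivSqZeroExt.fst x • z + MulOpposite.op (0 : C) • TrivSqZeroExt.snd x = TrivSqZeroExt.fst x • z
          rw [MulOpposite.op_zero, zero_smul, add_zero] }

lemma twistExt_algebraMap (d : A →+ L)
    (hd : ∀ a a', d (a * a') = algebraMap A C a • d a' + algebraMap A C a' • d a) (a : A) :
    algebraMap A (twistExt d hd).E a =
      (TrivSqZeroExt.inl (algebraMap A C a) + TrivSqZeroExt.inr (d a) : TrivSqZeroExt C L) := rfl

/-- The twisted extension is trivial over any `Λ` killed by `d`. -/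
lemma twistExt_isTrivialOver (Λ : Type u) [CommRing Λ] [Algebra Λ A] [Algebra Λ C] [IsScalarTower Λ A C]
    (d : A →+ L) (hd : ∀ a a', d (a * a') = algebraMap A C a • d a' + algebraMap A C a' • d a)
    (hΛ : ∀ l : Λ, d (algebraMap Λ A l) = 0) : (twistExt d hd).IsTrivialOver Λ := by
  refine ⟨{ toFun := fun c => (TrivSqZeroExt.inl c : TrivSqZeroExt C L)
            map_one' := rfl, map_mul' := fun c c' => TrivSqZeroExt.inl_mul L c c', map_zero' := rfl
            map_add' := fun c c' => TrivSqZeroExt.inl_add L c c', commutes' := ?_ }, fun c => rfl⟩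
  intro l
  change _ = (TrivSqZeroExt.inl (algebraMap A C (algebraMap Λ A l)) +
    TrivSqZeroExt.inr (d (algebraMap Λ A l)) : TrivSqZeroExt C L)
  rw [hΛ, TrivSqZeroExt.inr_zero, add_zero, ← IsScalarTower.algebraMap_apply]

end Twist

section PullbackTwist

attribute [local instance] Exal.opModule Exal.isCentralScalar_opModule

variable {A : Type u'} {B C L : Type v}
    [CommRing A] [CommRing B] [CommRing C]
    [Algebra A B] [Algebra B C] [Algebra A C] [IsScalarTower A B C]
    [AddCommGroup L] [Module C L] [Module B L] [IsScalarTower B C L]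

/-- The additive map `a ↦ secDer (algebraMap a)`. -/
noncomputable def secDerBase (Y : Exal.Ext A B L) (σ : B →+* Y.E) (hσ : ∀ b, Y.proj (σ b) = b) : A →+ L where
  toFun a := secDer Y σ hσ (algebraMap A Y.E a)
  map_zero' := by
    have := secDer_sec Y σ hσ 0
    rwa [map_zero, ← map_zero (algebraMap A Y.E)] at this
  map_add' a a' := by rw [map_add, secDer_add]

lemma secDerBase_mul (Y : Exal.Ext A B L) (σ : B →+* Y.E) (hσ : ∀ b, Y.proj (σ b) = b) (a a' : A) :
    secDerBase Y σ hσ (a * a') =
      algebraMap A C a • secDerBase Y σ hσ a' + algebraMap A C a' • secDerBase Y σ hσ a := by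
  change secDer Y σ hσ (algebraMap A Y.E (a * a')) =
    algebraMap A C a • secDer Y σ hσ (algebraMap A Y.E a') +
      algebraMap A C a' • secDer Y σ hσ (algebraMap A Y.E a)
  rw [map_mul, secDer_mul, AlgHom.commutes, AlgHom.commutes, IsScalarTower.algebraMap_apply A B C,
    IsScalarTower.algebraMap_apply A B C, algebraMap_smul C, algebraMap_smul C]

/-- The comparison map from the pullback of the twisted extension to `Y`. -/
noncomputable def pullbackTwistHom (Y : Exal.Ext A B L) (σ : B →+* Y.E) (hσ : ∀ b, Y.proj (σ b) = b) :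
    ((twistExt (C := C) (secDerBase Y σ hσ) (secDerBase_mul Y σ hσ)).pullback B).E →ₐ[A] Y.E where
  toFun x := σ x.1.2 + Y.incl (TrivSqZeroExt.snd (show TrivSqZeroExt C L from x.1.1))
  map_one' := by
    change σ 1 + Y.incl (TrivSqZeroExt.snd (1 : TrivSqZeroExt C L)) = 1
    rw [map_one, TrivSqZeroExt.snd_one, map_zero, add_zero]
  map_zero' := by
    change σ 0 + Y.incl (TrivSqZeroExt.snd (0 : TrivSqZeroExt C L)) = 0
    rw [map_zero, TrivSqZeroExt.snd_zero, map_zero, add_zero]
  map_add' x y := by
    change σ (x.1.2 + y.1.2) + Y.incl (TrivSqZeroExt.snd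
      ((show TrivSqZeroExt C L from x.1.1) + (show TrivSqZeroExt C L from y.1.1))) = _
    rw [map_add, TrivSqZeroExt.snd_add, map_add]
    abel
  map_mul' x y := by
    have hx : TrivSqZeroExt.fst (show TrivSqZeroExt C L from x.1.1) = algebraMap B C x.1.2 := x.2
    have hy : TrivSqZeroExt.fst (show TrivSqZeroExt C L from y.1.1) = algebraMap B C y.1.2 := y.2
    change σ (x.1.2 * y.1.2) + Y.incl (TrivSqZeroExt.snd
      ((show TrivSqZeroExt C L from x.1.1) * (show TrivSqZeroExt C L from y.1.1))) =
      (σ x.1.2 + Y.incl (TrivSqZeroExt.snd (show TrivSqZeroExt C L from x.1.1))) *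
        (σ y.1.2 + Y.incl (TrivSqZeroExt.snd (show TrivSqZeroExt C L from y.1.1)))
    rw [TrivSqZeroExt.snd_mul, op_smul_eq_smul, hx, hy, algebraMap_smul, algebraMap_smul, map_mul, map_add]
    have e1 : ∀ (b : B) (l : L), Y.incl (b • l) = σ b * Y.incl l := by
      intro b l
      rw [Y.isExtension.mul_incl, hσ]
    rw [e1, e1]
    linear_combination (-1 : Y.E) * incl_mul_incl Y
      (TrivSqZeroExt.snd (show TrivSqZeroExt C L from x.1.1))
      (TrivSqZeroExt.snd (show TrivSqZeroExt C L from y.1.1))
  commutes' a := by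
    change σ (algebraMap A B a) + Y.incl (TrivSqZeroExt.snd
      (TrivSqZeroExt.inl (algebraMap A C a) + TrivSqZeroExt.inr (secDerBase Y σ hσ a) :
        TrivSqZeroExt C L)) = algebraMap A Y.E a
    rw [TrivSqZeroExt.snd_add, TrivSqZeroExt.snd_inl, TrivSqZeroExt.snd_inr, zero_add]
    change σ (algebraMap A B a) + Y.incl (secDer Y σ hσ (algebraMap A Y.E a)) = algebraMap A Y.E a
    rw [incl_secDer, AlgHom.commutes]
    ring

lemma pullbackTwistHom_apply (Y : Exal.Ext A B L) (σ : B →+* Y.E) (hσ : ∀ b, Y.proj (σ b) = b)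
    (x : ((twistExt (C := C) (secDerBase Y σ hσ) (secDerBase_mul Y σ hσ)).pullback B).E) :
    pullbackTwistHom (C := C) Y σ hσ x =
      σ x.1.2 + Y.incl (TrivSqZeroExt.snd (show TrivSqZeroExt C L from x.1.1)) := rfl

lemma pullbackTwistHom_bijective (Y : Exal.Ext A B L) (σ : B →+* Y.E) (hσ : ∀ b, Y.proj (σ b) = b) :
    Function.Bijective (pullbackTwistHom (C := C) Y σ hσ) := by
  constructor
  · rw [injective_iff_map_eq_zero]
    intro x hx
    rw [pullbackTwistHom_apply] at hx
    have hx1 : TrivSqZeroExt.fst (show TrivSqZeroExt C L from x.1.1) = algebraMap B C x.1.2 := x.2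
    have h1 : x.1.2 = 0 := by
      have := congrArg Y.proj hx
      rwa [map_add, hσ, proj_incl, add_zero, map_zero] at this
    rw [h1, map_zero, zero_add] at hx
    have h2 : TrivSqZeroExt.snd (show TrivSqZeroExt C L from x.1.1) = 0 :=
      Y.isExtension.incl_injective (hx.trans (map_zero _).symm)
    rw [h1, map_zero] at hx1
    apply Subtype.ext
    refine Prod.ext ?_ h1
    exact TrivSqZeroExt.ext hx1 h2
  · intro y
    let e : (twistExt (C := C) (secDerBase Y σ hσ) (secDerBase_mul Y σ hσ)).E :=
      show TrivSqZeroExt C L from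
        TrivSqZeroExt.inl (algebraMap B C (Y.proj y)) + TrivSqZeroExt.inr (secDer Y σ hσ y)
    have hmem : (e, Y.proj y) ∈
        (twistExt (C := C) (secDerBase Y σ hσ) (secDerBase_mul Y σ hσ)).fiberProd B := by
      change TrivSqZeroExt.fst (TrivSqZeroExt.inl (algebraMap B C (Y.proj y)) +
        TrivSqZeroExt.inr (secDer Y σ hσ y) : TrivSqZeroExt C L) = algebraMap B C (Y.proj y)
      simp
    refine ⟨⟨(e, Y.proj y), hmem⟩, ?_⟩
    change σ (Y.proj y) + Y.incl (TrivSqZeroExt.snd (TrivSqZeroExt.inl (algebraMap B C (Y.proj y)) +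
        TrivSqZeroExt.inr (secDer Y σ hσ y) : TrivSqZeroExt C L)) = y
    rw [TrivSqZeroExt.snd_add, TrivSqZeroExt.snd_inl, TrivSqZeroExt.snd_inr, zero_add,
      ← eq_sec_add_incl]

/-- The pullback of the twisted extension is equivalent to `Y`. -/
noncomputable def pullbackTwistEquiv (Y : Exal.Ext A B L) (σ : B →+* Y.E) (hσ : ∀ b, Y.proj (σ b) = b) :
    ((twistExt (C := C) (secDerBase Y σ hσ) (secDerBase_mul Y σ hσ)).pullback B).Equiv Y where
  toAlgEquiv := AlgEquiv.ofBijective (pullbackTwistHom (C := C) Y σ hσ)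
    (pullbackTwistHom_bijective (C := C) Y σ hσ)
  proj_apply x := by
    change Y.proj (pullbackTwistHom (C := C) Y σ hσ x) = x.1.2
    rw [pullbackTwistHom_apply, map_add, hσ, proj_incl, add_zero]
  apply_incl z := by
    change pullbackTwistHom (C := C) Y σ hσ _ = _
    rw [pullbackTwistHom_apply]
    change σ 0 + Y.incl (TrivSqZeroExt.snd (TrivSqZeroExt.inr z : TrivSqZeroExt C L)) = _
    rw [map_zero, zero_add, TrivSqZeroExt.snd_inr]

end PullbackTwist

section MapMap

open TensorProduct KaehlerDifferential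

/-- Functoriality of `KaehlerDifferential.map` along a tower `A → B → C` over a fixed base. -/
lemma kaehler_map_map (R : Type*) {A B C : Type*} [CommRing R] [CommRing A] [CommRing B] [CommRing C]
    [Algebra R A] [Algebra R B] [Algebra R C] [Algebra A B] [Algebra B C] [Algebra A C]
    [IsScalarTower R A B] [IsScalarTower R B C] [IsScalarTower R A C] [IsScalarTower A B C]
    (ω : Ω[A⁄R]) :
    KaehlerDifferential.map R R B C (KaehlerDifferential.map R R A B ω) =
      KaehlerDifferential.map R R A C ω := by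
  have : ω ∈ Submodule.span A (Set.range (D R A)) := by
    rw [KaehlerDifferential.span_range_derivation]; trivial
  induction this using Submodule.span_induction with
  | mem ω h =>
    obtain ⟨b, rfl⟩ := h
    rw [map_D, map_D, map_D, ← IsScalarTower.algebraMap_apply]
  | zero => rw [map_zero, map_zero, map_zero]
  | add x y _ _ hx hy => rw [map_add, map_add, map_add, hx, hy]
  | smul b x _ hx =>
    rw [map_smul (KaehlerDifferential.map R R A B), LinearMap.map_smul_of_tower, hx, map_smul]

end MapMap

section Infinitesimal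

open TensorProduct KaehlerDifferential

variable {Λ : Type u} {A B : Type v} [CommRing Λ] [CommRing A] [CommRing B] [Algebra Λ A] [Algebra Λ B]
  [Algebra A B] [IsScalarTower Λ A B] (K : Ideal B)

instance instTowerCotangent : IsScalarTower A (B ⧸ K) K.Cotangent :=
  IsScalarTower.of_algebraMap_smul fun a l => by
    rw [IsScalarTower.algebraMap_apply A B (B ⧸ K), algebraMap_smul, algebraMap_smul]

/-- The map `C ⊗_A Ω_{A/Λ} → C ⊗_B Ω_{B/Λ}` for `C = B ⧸ K`, in the form used by the statements. -/
noncomputable def betaLin : (B ⧸ K) ⊗[A] Ω[A⁄Λ] →ₗ[B ⧸ K] (B ⧸ K) ⊗[B] Ω[B⁄Λ] :=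
  ((mapBaseChange Λ A B).baseChange (B ⧸ K)).comp
    (AlgebraTensorModule.cancelBaseChange A B (B ⧸ K) (B ⧸ K) Ω[A⁄Λ]).symm.toLinearMap

lemma betaLin_apply (t : (B ⧸ K) ⊗[A] Ω[A⁄Λ]) :
    betaLin K t = ((mapBaseChange Λ A B).baseChange (B ⧸ K))
      ((AlgebraTensorModule.cancelBaseChange A B (B ⧸ K) (B ⧸ K) Ω[A⁄Λ]).symm t) := rfl

lemma betaLin_tmul (c : B ⧸ K) (ω : Ω[A⁄Λ]) :
    betaLin K (c ⊗ₜ[A] ω) = c ⊗ₜ[B] KaehlerDifferential.map Λ Λ A B ω := by
  rw [betaLin_apply, AlgebraTensorModule.cancelBaseChange_symm_tmul, LinearMap.baseChange_tmul,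
    mapBaseChange_tmul, one_smul]

lemma mapBaseChange_betaLin (t : (B ⧸ K) ⊗[A] Ω[A⁄Λ]) :
    mapBaseChange Λ B (B ⧸ K) (betaLin K t) = mapBaseChange Λ A (B ⧸ K) t := by
  induction t using TensorProduct.induction_on with
  | zero => rw [map_zero, map_zero, map_zero]
  | tmul c ω => rw [betaLin_tmul, mapBaseChange_tmul, mapBaseChange_tmul, kaehler_map_map]
  | add x y hx hy => rw [map_add, map_add, map_add, hx, hy]

lemma baseChange_map_betaLin (t : (B ⧸ K) ⊗[A] Ω[A⁄Λ]) :
    ((KaehlerDifferential.map Λ A B B).baseChange (B ⧸ K)) (betaLin K t) = 0 := by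
  induction t using TensorProduct.induction_on with
  | zero => rw [map_zero, map_zero]
  | tmul c ω =>
    rw [betaLin_tmul, LinearMap.baseChange_tmul]
    have : KaehlerDifferential.map Λ A B B (KaehlerDifferential.map Λ Λ A B ω) = 0 := by
      have h1 : KaehlerDifferential.map Λ Λ A B ω = mapBaseChange Λ A B ((1 : B) ⊗ₜ[A] ω) := by
        rw [mapBaseChange_tmul, one_smul]
      rw [h1]
      exact (exact_mapBaseChange_map Λ A B (mapBaseChange Λ A B ((1 : B) ⊗ₜ[A] ω))).2 ⟨_, rfl⟩
    rw [this, tmul_zero]
  | add x y hx hy => rw [map_add, map_add, hx, hy, add_zero]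

lemma exists_betaLin_eq (t' : (B ⧸ K) ⊗[B] Ω[B⁄Λ])
    (h : ((KaehlerDifferential.map Λ A B B).baseChange (B ⧸ K)) t' = 0) :
    ∃ t : (B ⧸ K) ⊗[A] Ω[A⁄Λ], betaLin K t = t' := by
  have hex := lTensor_exact (B ⧸ K) (exact_mapBaseChange_map Λ A B)
    (KaehlerDifferential.map_surjective Λ A B)
  rw [LinearMap.baseChange_eq_ltensor] at h
  obtain ⟨u, hu⟩ := (hex t').1 h
  refine ⟨AlgebraTensorModule.cancelBaseChange A B (B ⧸ K) (B ⧸ K) Ω[A⁄Λ] u, ?_⟩
  rw [betaLin_apply, LinearEquiv.symm_apply_apply, LinearMap.baseChange_eq_ltensor]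
  exact hu

end Infinitesimal

section Infinitesimal2

open TensorProduct KaehlerDifferential

variable {Λ : Type u} {A B : Type v} [CommRing Λ] [CommRing A] [CommRing B] [Algebra Λ A] [Algebra Λ B]
  [Algebra A B] [IsScalarTower Λ A B] (K : Ideal B)

/-- A `Λ`-section of `B ⧸ K² → B ⧸ K` for the `A`-algebra structure is one for the `B`-algebra structure. -/
noncomputable def sec₀ (s : (B ⧸ K) →ₐ[Λ] ((Exal.Ext.infinitesimal K).restrictBase A).RestrictCarrier Λ) :
    (B ⧸ K) →ₐ[Λ] (Exal.Ext.infinitesimal K).RestrictCarrier Λ :=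
  { toFun := fun c => s c
    map_one' := map_one s
    map_mul' := map_mul s
    map_zero' := map_zero s
    map_add' := map_add s
    commutes' := fun l => by
      refine (s.commutes l).trans ?_
      change algebraMap A (B ⧸ K ^ 2) (algebraMap Λ A l) =
        algebraMap B (B ⧸ K ^ 2) (algebraMap Λ B l)
      rw [← IsScalarTower.algebraMap_apply, ← IsScalarTower.algebraMap_apply] }

variable (s : (B ⧸ K) →ₐ[Λ] ((Exal.Ext.infinitesimal K).restrictBase A).RestrictCarrier Λ)
  (hs : ∀ c, ((Exal.Ext.infinitesimal K).restrictBase A).proj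
    (secRing ((Exal.Ext.infinitesimal K).restrictBase A) s c) = c)

include hs in
lemma hs₀ (c : B ⧸ K) :
    (Exal.Ext.infinitesimal K).proj (secRing (Exal.Ext.infinitesimal K) (sec₀ K s) c) = c := hs c

lemma derA_eq_derB (a : A) :
    derOfSection ((Exal.Ext.infinitesimal K).restrictBase A) s hs a =
      derOfSection (Exal.Ext.infinitesimal K) (sec₀ K s) (hs₀ K s hs) (algebraMap A B a) := by
  apply (Exal.Ext.infinitesimal K).isExtension.incl_injective
  rw [derOfSection_apply, derOfSection_apply, incl_secDer]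
  exact incl_secDer ((Exal.Ext.infinitesimal K).restrictBase A) _ hs _

lemma derLift_derA (t : (B ⧸ K) ⊗[A] Ω[A⁄Λ]) :
    derLift Λ (derOfSection ((Exal.Ext.infinitesimal K).restrictBase A) s hs) t =
      derLift Λ (derOfSection (Exal.Ext.infinitesimal K) (sec₀ K s) (hs₀ K s hs)) (betaLin K t) := by
  induction t using TensorProduct.induction_on with
  | zero => rw [map_zero, map_zero, map_zero]
  | add x y hx hy => rw [map_add, map_add, map_add, hx, hy]
  | tmul c ω =>
    have hω : ω ∈ Submodule.span A (Set.range (KaehlerDifferential.D Λ A)) := by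
      rw [KaehlerDifferential.span_range_derivation]; trivial
    induction hω using Submodule.span_induction generalizing c with
    | mem ω h =>
      obtain ⟨a, rfl⟩ := h
      rw [betaLin_tmul, map_D, derLift_tmul_D, derLift_tmul_D, derA_eq_derB]
    | zero => rw [tmul_zero, map_zero, map_zero, map_zero]
    | add x y _ _ hx hy => rw [tmul_add, map_add, map_add, map_add, hx, hy]
    | smul a x _ hx =>
      rw [← smul_tmul]
      exact hx (a • c)

lemma derLift_derB_one_tmul (k : K) :
    derLift Λ (derOfSection (Exal.Ext.infinitesimal K) (sec₀ K s) (hs₀ K s hs))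
      ((1 : B ⧸ K) ⊗ₜ[B] KaehlerDifferential.D Λ B (k : B)) = K.toCotangent k := by
  rw [derLift_tmul_D, one_smul, derOfSection_apply]
  apply (Exal.Ext.infinitesimal K).isExtension.incl_injective
  rw [incl_secDer]
  have h0 : (Exal.Ext.infinitesimal K).proj (algebraMap B (Exal.Ext.infinitesimal K).E (k : B)) = 0 :=
    Exal.Ext.proj_algebraMap_eq_zero K _ k
  rw [h0, map_zero, sub_zero]
  exact (Ideal.toCotangent_to_quotient_square K k).symm

omit [Algebra Λ A] [Algebra A B] [IsScalarTower Λ A B] in
lemma exists_one_tmul_D_eq (t' : (B ⧸ K) ⊗[B] Ω[B⁄Λ])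
    (h : mapBaseChange Λ B (B ⧸ K) t' = 0) :
    ∃ k : K, (1 : B ⧸ K) ⊗ₜ[B] KaehlerDifferential.D Λ B (k : B) = t' := by
  have hI : RingHom.ker (algebraMap B (B ⧸ K)) = K := by
    rw [Ideal.Quotient.algebraMap_eq]; exact Ideal.mk_ker
  have hsurj : Function.Surjective (algebraMap B (B ⧸ K)) := Ideal.Quotient.mk_surjective
  obtain ⟨k, hk⟩ :=
    (KaehlerDifferential.exact_kerCotangentToTensor_mapBaseChange Λ B (B ⧸ K) hsurj _).1 h
  obtain ⟨k, rfl⟩ := Ideal.toCotangent_surjective _ k
  have hkK : (k : B) ∈ K := (SetLike.ext_iff.1 hI _).1 k.2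
  refine ⟨⟨k, hkK⟩, ?_⟩
  rw [← hk, KaehlerDifferential.kerCotangentToTensor_toCotangent]

end Infinitesimal2

section Infinitesimal3

open TensorProduct KaehlerDifferential

variable {Λ : Type u} {A B : Type v} [CommRing Λ] [CommRing A] [CommRing B] [Algebra Λ A] [Algebra Λ B]
  [Algebra A B] [IsScalarTower Λ A B] (K : Ideal B)
  (s : (B ⧸ K) →ₐ[Λ] ((Exal.Ext.infinitesimal K).restrictBase A).RestrictCarrier Λ)
  (hs : ∀ c, ((Exal.Ext.infinitesimal K).restrictBase A).proj
    (secRing ((Exal.Ext.infinitesimal K).restrictBase A) s c) = c)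
  (χ : ↥(EGA41.imperfection Λ A (B ⧸ K)) →ₗ[B ⧸ K] K.Cotangent)
  (hχ : ((Exal.Ext.infinitesimal K).restrictBase A).IsCharHom Λ χ)

include hχ in
/-- `χ z` is the image of `β z` under the retraction attached to the section. -/
lemma chi_eq_derLift_beta (z : ↥(EGA41.imperfection Λ A (B ⧸ K))) :
    χ z = derLift Λ (derOfSection (Exal.Ext.infinitesimal K) (sec₀ K s) (hs₀ K s hs))
      (betaLin K (z : (B ⧸ K) ⊗[A] Ω[A⁄Λ])) := by
  rw [← derLift_derA]
  exact charHom_eq_derLift Λ _ s hs χ hχ z

include hχ s hs in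
/-- `β z = 1 ⊗ d k` with `k̄ = χ z`. -/
lemma beta_eq_one_tmul (z : ↥(EGA41.imperfection Λ A (B ⧸ K))) :
    ∃ k : K, (1 : B ⧸ K) ⊗ₜ[B] KaehlerDifferential.D Λ B (k : B) =
      betaLin K (z : (B ⧸ K) ⊗[A] Ω[A⁄Λ]) ∧ χ z = K.toCotangent k := by
  have hz : mapBaseChange Λ A (B ⧸ K) (z : (B ⧸ K) ⊗[A] Ω[A⁄Λ]) = 0 := z.2
  rw [← mapBaseChange_betaLin] at hz
  obtain ⟨k, hk⟩ := exists_one_tmul_D_eq K _ hz
  refine ⟨k, hk, ?_⟩
  rw [chi_eq_derLift_beta K s hs χ hχ z, ← hk, derLift_derB_one_tmul K s hs]

include hχ s hs in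
theorem chi_eq_zero_iff (z : ↥(EGA41.imperfection Λ A (B ⧸ K))) :
    χ z = 0 ↔ betaLin K (z : (B ⧸ K) ⊗[A] Ω[A⁄Λ]) = 0 := by
  obtain ⟨k, hk, hk'⟩ := beta_eq_one_tmul K s hs χ hχ z
  constructor
  · intro h
    rw [hk', Ideal.toCotangent_eq_zero] at h
    rw [← hk]
    -- `1 ⊗ d k = 0` for `k ∈ K²`
    have hI : RingHom.ker (algebraMap B (B ⧸ K)) = K := by
      rw [Ideal.Quotient.algebraMap_eq]; exact Ideal.mk_ker
    have hk2 : (k : B) ∈ RingHom.ker (algebraMap B (B ⧸ K)) := (SetLike.ext_iff.1 hI _).2 k.2
    have e2 : RingHom.ker (algebraMap B (B ⧸ K)) ^ 2 = K ^ 2 := by rw [hI]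
    have h0 : (RingHom.ker (algebraMap B (B ⧸ K))).toCotangent ⟨k, hk2⟩ = 0 := by
      rw [Ideal.toCotangent_eq_zero]
      exact (SetLike.ext_iff.1 e2 _).2 h
    have := KaehlerDifferential.kerCotangentToTensor_toCotangent Λ B (B ⧸ K) ⟨k, hk2⟩
    rw [h0, map_zero] at this
    exact this.symm
  · intro h
    rw [chi_eq_derLift_beta K s hs χ hχ z, h, map_zero]

include hχ s hs in
theorem mem_range_chi_iff (x : B) (hx : x ∈ K) :
    K.toCotangent ⟨x, hx⟩ ∈ LinearMap.range χ ↔
      (1 : B ⧸ K) ⊗ₜ[B] KaehlerDifferential.D A B x = (0 : (B ⧸ K) ⊗[B] Ω[B⁄A]) := by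
  have hmapD : ((KaehlerDifferential.map Λ A B B).baseChange (B ⧸ K))
      ((1 : B ⧸ K) ⊗ₜ[B] KaehlerDifferential.D Λ B x) =
        (1 : B ⧸ K) ⊗ₜ[B] KaehlerDifferential.D A B x := by
    rw [LinearMap.baseChange_tmul, map_D]
    rfl
  constructor
  · rintro ⟨z, hz⟩
    obtain ⟨k, hk, hk'⟩ := beta_eq_one_tmul K s hs χ hχ z
    rw [hz] at hk'
    -- `1 ⊗ d x = 1 ⊗ d k` in `C ⊗ Ω_{B/Λ}` since `x - k ∈ K²`
    have h1 := derLift_derB_one_tmul K s hs ⟨x, hx⟩
    have h2 := derLift_derB_one_tmul K s hs k
    -- use: 1 ⊗ d(x - k) = 0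
    have hxk : (x - (k : B)) ∈ K ^ 2 := by
      have : K.toCotangent (⟨x, hx⟩ - k) = 0 := by rw [map_sub, hk', sub_self]
      rwa [Ideal.toCotangent_eq_zero] at this
    have hI : RingHom.ker (algebraMap B (B ⧸ K)) = K := by
      rw [Ideal.Quotient.algebraMap_eq]; exact Ideal.mk_ker
    have hk2 : (x - (k : B)) ∈ RingHom.ker (algebraMap B (B ⧸ K)) :=
      (SetLike.ext_iff.1 hI _).2 (K.sub_mem hx k.2)
    have e2 : RingHom.ker (algebraMap B (B ⧸ K)) ^ 2 = K ^ 2 := by rw [hI]
    have h0 : (RingHom.ker (algebraMap B (B ⧸ K))).toCotangent ⟨x - k, hk2⟩ = 0 := by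
      rw [Ideal.toCotangent_eq_zero]
      exact (SetLike.ext_iff.1 e2 _).2 hxk
    have h3 := KaehlerDifferential.kerCotangentToTensor_toCotangent Λ B (B ⧸ K) ⟨x - k, hk2⟩
    rw [h0, map_zero] at h3
    have h4 : (1 : B ⧸ K) ⊗ₜ[B] KaehlerDifferential.D Λ B x =
        (1 : B ⧸ K) ⊗ₜ[B] KaehlerDifferential.D Λ B (k : B) := by
      have : KaehlerDifferential.D Λ B x =
          KaehlerDifferential.D Λ B (x - k) + KaehlerDifferential.D Λ B (k : B) := by
        rw [← map_add, sub_add_cancel]
      rw [this, tmul_add, ← h3, zero_add]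
    rw [← hmapD, h4, hk, baseChange_map_betaLin]
  · intro h
    rw [← hmapD] at h
    obtain ⟨t, ht⟩ := exists_betaLin_eq (A := A) K _ h
    have htΥ : t ∈ EGA41.imperfection Λ A (B ⧸ K) := by
      change mapBaseChange Λ A (B ⧸ K) t = 0
      rw [← mapBaseChange_betaLin, ht, mapBaseChange_tmul, map_D, one_smul,
        Ideal.Quotient.algebraMap_eq, Ideal.Quotient.eq_zero_iff_mem.2 hx, map_zero]
    refine ⟨⟨t, htΥ⟩, ?_⟩
    rw [chi_eq_derLift_beta K s hs χ hχ ⟨t, htΥ⟩]
    change derLift Λ _ (betaLin K t) = _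
    rw [ht]
    exact derLift_derB_one_tmul K s hs ⟨x, hx⟩

end Infinitesimal3

section SmoothInj

open TensorProduct KaehlerDifferential

/-- Abstract: an injective map with exact continuation to a projective module via a surjection has a retraction. -/
lemma exists_retraction_of_exact_projective {R : Type*} [CommRing R] {M N P : Type*} [AddCommGroup M]
    [AddCommGroup N] [AddCommGroup P] [Module R M] [Module R N] [Module R P] [Module.Projective R P]
    (f : M →ₗ[R] N) (g : N →ₗ[R] P) (hf : Function.Injective f) (hfg : Function.Exact f g)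
    (hg : Function.Surjective g) : ∃ r : N →ₗ[R] M, ∀ m, r (f m) = m := by
  obtain ⟨σ, hσ⟩ := Module.projective_lifting_property g LinearMap.id hg
  have hσ' : ∀ p, g (σ p) = p := fun p => LinearMap.congr_fun hσ p
  have hmem : ∀ n : N, n - σ (g n) ∈ LinearMap.range f := by
    intro n
    have h0 : g (n - σ (g n)) = 0 := by rw [map_sub, hσ', sub_self]
    exact (hfg _).1 h0
  let π : N →ₗ[R] LinearMap.range f := LinearMap.codRestrict _ (LinearMap.id - σ.comp g) hmem
  refine ⟨(LinearEquiv.ofInjective f hf).symm.toLinearMap.comp π, fun m => ?_⟩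
  have h1 : g (f m) = 0 := (hfg _).2 ⟨m, rfl⟩
  have h2 : π (f m) = LinearEquiv.ofInjective f hf m := by
    apply Subtype.ext
    change f m - σ (g (f m)) = f m
    rw [h1, map_zero, sub_zero]
  change (LinearEquiv.ofInjective f hf).symm (π (f m)) = m
  rw [h2, LinearEquiv.symm_apply_apply]

variable {Λ : Type u} {A B : Type v} [CommRing Λ] [CommRing A] [CommRing B] [Algebra Λ A] [Algebra Λ B]
  [Algebra A B] [IsScalarTower Λ A B]

lemma mapBaseChange_injective_of_formallySmooth [Algebra.FormallySmooth A B] :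
    Function.Injective (mapBaseChange Λ A B) := by
  rw [injective_iff_map_eq_zero]
  intro t ht
  obtain ⟨h, rfl⟩ := (Algebra.H1Cotangent.exact_δ_mapBaseChange Λ A B t).1 ht
  rw [Subsingleton.elim h 0, map_zero]

lemma betaLin_injective_of_formallySmooth [Algebra.FormallySmooth A B] (K : Ideal B) :
    Function.Injective (betaLin (Λ := Λ) (A := A) K) := by
  obtain ⟨r, hr⟩ := exists_retraction_of_exact_projective (mapBaseChange Λ A B)
    (KaehlerDifferential.map Λ A B B) mapBaseChange_injective_of_formallySmooth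
    (exact_mapBaseChange_map Λ A B) (KaehlerDifferential.map_surjective Λ A B)
  have hcomp : r.comp (mapBaseChange Λ A B) = LinearMap.id := LinearMap.ext hr
  have h2 : (r.baseChange (B ⧸ K)).comp ((mapBaseChange Λ A B).baseChange (B ⧸ K)) = LinearMap.id := by
    rw [← LinearMap.baseChange_comp, hcomp, LinearMap.baseChange_id]
  intro t t' h
  rw [betaLin_apply, betaLin_apply] at h
  have h3 := congrArg (r.baseChange (B ⧸ K)) h
  rw [← LinearMap.comp_apply, ← LinearMap.comp_apply, h2] at h3
  exact (AlgebraTensorModule.cancelBaseChange A B (B ⧸ K) (B ⧸ K) Ω[A⁄Λ]).symm.injective h3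

end SmoothInj

end Groth.Agent.Lib.Helper10.ExalLib
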