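import Groth.Agent.S0082
import Mathlib.AlgebraicGeometry.Morphisms.AffineAnd

set_option autoImplicit false
open CategoryTheory CategoryTheory.Limits AlgebraicGeometry Opposite
universe u

namespace Groth.Agent.Lib.Helper10

/-- Variant of `HasAffineProperty.descendsAlong_of_affineAnd` for fpqc covers, using descent of
affine morphisms along quasi-compact faithfully flat morphisms. -/
lemma descendsAlong_fpqc_of_affineAnd (P : MorphismProperty Scheme.{u})
    [P.IsStableUnderBaseChange]
    (Q : ∀ {R S : Type u} [CommRing R] [CommRing S], (R →+* S) → Prop)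
    (hP : HasAffineProperty P (affineAnd Q))
    (hQ : RingHom.RespectsIso Q) (hQQ' : RingHom.CodescendsAlong Q RingHom.FaithfullyFlat) :
    P.DescendsAlong (@Surjective ⊓ @Flat ⊓ @QuasiCompact) := by
  have haff := Groth.Agent.S0082.result.{u}
  refine IsZariskiLocalAtTarget.descendsAlong_inf_quasiCompact _ _ ?_ ?_
  · rw [inf_comm]
    exact inf_le_inf le_rfl (IsLocalIso.le_of_isZariskiLocalAtSource _)
  introv h hf
  have : IsAffine Y := by
    convert! isAffine_of_isAffineHom g
    exact MorphismProperty.of_pullback_fst_of_descendsAlong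
      (Q := (@Surjective ⊓ @Flat ⊓ @QuasiCompact : MorphismProperty Scheme.{u}))
      ⟨h, inferInstance⟩ <|
      AlgebraicGeometry.HasAffineProperty.affineAnd_le_isAffineHom P inferInstance _ hf
  wlog hY : ∃ S, Y = Spec S generalizing Y
  · rw [← P.cancel_left_of_respectsIso Y.isoSpec.inv]
    have heq : pullback.fst (Spec.map φ) (Y.isoSpec.inv ≫ g) =
        pullback.map _ _ _ _ (𝟙 _) (Y.isoSpec.inv) (𝟙 _) (by simp) (by simp) ≫
          pullback.fst (Spec.map φ) g := (pullback.lift_fst _ _ _).symm
    refine this _ ?_ inferInstance ⟨_, rfl⟩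
    rwa [heq, P.cancel_left_of_respectsIso]
  obtain ⟨Y, rfl⟩ := hY
  apply of_pullback_fst_Spec_of_codescendsAlong _ _ hQQ' ?_ ?_ h hf
  · intro R S f hf
    rw [RingHom.FaithfullyFlat.iff_flat_and_comap_surjective]
    have := hf.1
    refine ⟨?_, (Spec.map f).surjective⟩
    have := hf.2
    rwa [HasRingHomProperty.Spec_iff (P := @Flat)] at this
  · simp [HasAffineProperty.SpecMap_iff_of_affineAnd hP hQ]

end Groth.Agent.Lib.Helper10
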