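import Mathlib
import Groth.Agent.Lib.Helper25.BlowUpReg

/-!
# Relative effective Cartier divisors: affine-local flatness of closed subschemes

* `flat_left_of_exact`, `flat_mid_of_exact`: flatness in short exact sequences.
* `ringHom_flat_quot_mul`, `ringHom_flat_quot_of_mul`: `B/(ab)` flat iff ... (for `a` a nonzerodivisor).
* `flat_of_flat_quot_nzd`: Noetherian local `B`, `h ∈ 𝔪` nonzerodivisor, `B/h` flat over `A` ⇒ `B` flat.
* `flat_quotient_of_flat`, `flat_of_forall`: `Flat (I.subschemeι ≫ f)` in terms of affine opens.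
* `exists_common_affine`: simultaneous principal charts.
* `ker_stalkMap_subschemeι`: the kernel of the stalk map of a principal closed subscheme.
-/

set_option autoImplicit false
universe u
open CategoryTheory CategoryTheory.Limits AlgebraicGeometry TopologicalSpace TensorProduct

namespace Groth.Agent.Lib.Helper10.RelCartier

section ses

variable {A : Type*} [CommRing A]
  {X₁ X₂ X₃ : Type*} [AddCommGroup X₁] [Module A X₁] [AddCommGroup X₂] [Module A X₂]
  [AddCommGroup X₃] [Module A X₃]
  (ι : X₁ →ₗ[A] X₂) (π : X₂ →ₗ[A] X₃)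

/-- The kernel of a surjection of flat modules is flat. -/
theorem flat_left_of_exact (hι : Function.Injective ι) (hπ : Function.Surjective π)
    (hex : Function.Exact ι π) [Module.Flat A X₂] [Module.Flat A X₃] : Module.Flat A X₁ := by
  rw [Module.Flat.iff_rTensor_injective']
  intro I
  have h1 : Function.Injective (ι.lTensor I) :=
    LinearMap.lTensor_injective_of_exact_of_flat π hπ ι hι hex I
  have h2 : Function.Injective (LinearMap.rTensor X₂ I.subtype) :=
    Module.Flat.iff_rTensor_injective'.1 inferInstance I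
  have h3 : (ι.lTensor A) ∘ₗ (LinearMap.rTensor X₁ I.subtype) =
      (LinearMap.rTensor X₂ I.subtype) ∘ₗ (ι.lTensor I) := by
    rw [LinearMap.lTensor_comp_rTensor, LinearMap.rTensor_comp_lTensor]
  have h4 : Function.Injective ((ι.lTensor A) ∘ₗ (LinearMap.rTensor X₁ I.subtype)) := by
    rw [h3]
    exact h2.comp h1
  exact Function.Injective.of_comp h4

/-- An extension of a flat module by a flat module is flat. -/
theorem flat_mid_of_exact (hι : Function.Injective ι) (hπ : Function.Surjective π)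
    (hex : Function.Exact ι π) [Module.Flat A X₁] [Module.Flat A X₃] : Module.Flat A X₂ := by
  rw [Module.Flat.iff_rTensor_injective']
  intro I
  have e1 : Function.Exact (ι.lTensor I) (π.lTensor I) := lTensor_exact I hex hπ
  have h1 : Function.Injective (LinearMap.rTensor X₁ I.subtype) :=
    Module.Flat.iff_rTensor_injective'.1 inferInstance I
  have h3 : Function.Injective (LinearMap.rTensor X₃ I.subtype) :=
    Module.Flat.iff_rTensor_injective'.1 inferInstance I
  have hA : Function.Injective (ι.lTensor A) :=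
    Module.Flat.lTensor_preserves_injective_linearMap ι hι
  have c3 : (π.lTensor A) ∘ₗ (LinearMap.rTensor X₂ I.subtype) =
      (LinearMap.rTensor X₃ I.subtype) ∘ₗ (π.lTensor I) := by
    rw [LinearMap.lTensor_comp_rTensor, LinearMap.rTensor_comp_lTensor]
  have c1 : (ι.lTensor A) ∘ₗ (LinearMap.rTensor X₁ I.subtype) =
      (LinearMap.rTensor X₂ I.subtype) ∘ₗ (ι.lTensor I) := by
    rw [LinearMap.lTensor_comp_rTensor, LinearMap.rTensor_comp_lTensor]
  rw [injective_iff_map_eq_zero]
  intro x hx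
  have hx3 : (π.lTensor I) x = 0 := by
    apply h3
    rw [map_zero, ← LinearMap.comp_apply, ← c3, LinearMap.comp_apply, hx, map_zero]
  obtain ⟨y, rfl⟩ := (e1 x).mp hx3
  have hy : (LinearMap.rTensor X₁ I.subtype) y = 0 := by
    apply hA
    rw [map_zero, ← LinearMap.comp_apply, c1, LinearMap.comp_apply, hx]
  rw [h1 (hy.trans (map_zero _).symm), map_zero]

end ses

section quot

variable {R B : Type u} [CommRing R] [CommRing B] [Algebra R B] (a b : B)

/-- Multiplication by `a` as a map `B/(b) → B/(ab)`. -/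
noncomputable def mulMap : (B ⧸ Ideal.span {b}) →ₗ[B] (B ⧸ Ideal.span {a * b}) :=
  Submodule.mapQ (Ideal.span {b}) (Ideal.span {a * b}) (LinearMap.mulLeft B a) (by
    intro x hx
    obtain ⟨c, rfl⟩ := Ideal.mem_span_singleton'.mp hx
    simp only [Submodule.mem_comap, LinearMap.mulLeft_apply]
    exact Ideal.mem_span_singleton'.mpr ⟨c, by ring⟩)

/-- The projection `B/(ab) → B/(a)`. -/
noncomputable def projMap : (B ⧸ Ideal.span {a * b}) →ₗ[B] (B ⧸ Ideal.span {a}) :=
  Submodule.mapQ (Ideal.span {a * b}) (Ideal.span {a}) LinearMap.id (by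
    intro x hx
    obtain ⟨c, rfl⟩ := Ideal.mem_span_singleton'.mp hx
    simp only [Submodule.mem_comap, LinearMap.id_apply]
    exact Ideal.mem_span_singleton'.mpr ⟨c * b, by ring⟩)

theorem mulMap_mk (x : B) :
    mulMap a b (Submodule.Quotient.mk x) = Submodule.Quotient.mk (a * x) := rfl

theorem projMap_mk (x : B) :
    projMap a b (Submodule.Quotient.mk x) = Submodule.Quotient.mk x := rfl

theorem projMap_surjective : Function.Surjective (projMap a b) := by
  intro y
  obtain ⟨x, rfl⟩ := Submodule.Quotient.mk_surjective _ y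
  exact ⟨Submodule.Quotient.mk x, rfl⟩

theorem mulMap_injective (ha : a ∈ nonZeroDivisors B) : Function.Injective (mulMap a b) := by
  rw [injective_iff_map_eq_zero]
  intro y hy
  obtain ⟨x, rfl⟩ := Submodule.Quotient.mk_surjective _ y
  rw [mulMap_mk, Submodule.Quotient.mk_eq_zero] at hy
  obtain ⟨c, hc⟩ := Ideal.mem_span_singleton'.mp hy
  rw [Submodule.Quotient.mk_eq_zero]
  refine Ideal.mem_span_singleton'.mpr ⟨c, ?_⟩
  have h0 : a * (c * b - x) = 0 := by
    have : a * (c * b - x) = c * (a * b) - a * x := by ring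
    rw [this, hc, sub_self]
  have := (mem_nonZeroDivisors_iff.mp ha).1 _ h0
  exact sub_eq_zero.mp this

theorem exact_mulMap_projMap : Function.Exact (mulMap a b) (projMap a b) := by
  intro y
  obtain ⟨x, rfl⟩ := Submodule.Quotient.mk_surjective _ y
  rw [projMap_mk, Submodule.Quotient.mk_eq_zero]
  constructor
  · intro hx
    obtain ⟨c, rfl⟩ := Ideal.mem_span_singleton'.mp hx
    exact ⟨Submodule.Quotient.mk c, (mulMap_mk a b c).trans (congrArg _ (mul_comm a c))⟩
  · rintro ⟨z, hz⟩
    obtain ⟨w, rfl⟩ := Submodule.Quotient.mk_surjective _ z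
    rw [mulMap_mk, Submodule.Quotient.eq] at hz
    obtain ⟨c, hc⟩ := Ideal.mem_span_singleton'.mp hz
    refine Ideal.mem_span_singleton'.mpr ⟨w - c * b, ?_⟩
    have : x = a * w - c * (a * b) := by rw [hc]; ring
    rw [this]; ring

/-- `B/(a)`, `B/(b)` flat ⇒ `B/(ab)` flat, for `a` a nonzerodivisor. -/
theorem flat_quot_mul (ha : a ∈ nonZeroDivisors B) [Module.Flat R (B ⧸ Ideal.span {a})]
    [Module.Flat R (B ⧸ Ideal.span {b})] : Module.Flat R (B ⧸ Ideal.span {a * b}) :=
  flat_mid_of_exact ((mulMap a b).restrictScalars R) ((projMap a b).restrictScalars R)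
    (mulMap_injective a b ha) (projMap_surjective a b) (exact_mulMap_projMap a b)

/-- `B/(ab)`, `B/(a)` flat ⇒ `B/(b)` flat, for `a` a nonzerodivisor. -/
theorem flat_quot_of_mul (ha : a ∈ nonZeroDivisors B) [Module.Flat R (B ⧸ Ideal.span {a * b})]
    [Module.Flat R (B ⧸ Ideal.span {a})] : Module.Flat R (B ⧸ Ideal.span {b}) :=
  flat_left_of_exact ((mulMap a b).restrictScalars R) ((projMap a b).restrictScalars R)
    (mulMap_injective a b ha) (projMap_surjective a b) (exact_mulMap_projMap a b)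

end quot

section ringHom

variable {R B : Type u} [CommRing R] [CommRing B]

theorem ringHom_flat_quot_mul (φ : R →+* B) (a b : B) (ha : a ∈ nonZeroDivisors B)
    (h1 : ((Ideal.Quotient.mk (Ideal.span {a})).comp φ).Flat)
    (h2 : ((Ideal.Quotient.mk (Ideal.span {b})).comp φ).Flat) :
    ((Ideal.Quotient.mk (Ideal.span {a * b})).comp φ).Flat := by
  letI := φ.toAlgebra
  have e : ∀ I : Ideal B, (Ideal.Quotient.mk I).comp φ = algebraMap R (B ⧸ I) := fun I => rfl
  rw [e, RingHom.flat_algebraMap_iff] at h1 h2 ⊢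
  exact flat_quot_mul a b ha

theorem ringHom_flat_quot_of_mul (φ : R →+* B) (a b : B) (ha : a ∈ nonZeroDivisors B)
    (h12 : ((Ideal.Quotient.mk (Ideal.span {a * b})).comp φ).Flat)
    (h1 : ((Ideal.Quotient.mk (Ideal.span {a})).comp φ).Flat) :
    ((Ideal.Quotient.mk (Ideal.span {b})).comp φ).Flat := by
  letI := φ.toAlgebra
  have e : ∀ I : Ideal B, (Ideal.Quotient.mk I).comp φ = algebraMap R (B ⧸ I) := fun I => rfl
  rw [e, RingHom.flat_algebraMap_iff] at h1 h12 ⊢
  exact flat_quot_of_mul a b ha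

end ringHom


section nakayama

variable {A B : Type u} [CommRing A] [CommRing B]

/-- Let `B` be a Noetherian local ring, `h ∈ 𝔪_B` a nonzerodivisor and `A → B` a ring map with `B/hB`
flat over `A`. Then `B` is flat over `A`. -/
theorem flat_of_flat_quot_nzd [IsLocalRing B] [IsNoetherianRing B] (φ : A →+* B) (h : B)
    (hm : h ∈ IsLocalRing.maximalIdeal B) (hnzd : h ∈ nonZeroDivisors B)
    (hq : ((Ideal.Quotient.mk (Ideal.span {h})).comp φ).Flat) : φ.Flat := by
  letI := φ.toAlgebra
  have e : (Ideal.Quotient.mk (Ideal.span {h})).comp φ = algebraMap A (B ⧸ Ideal.span {h}) := rfl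
  rw [e, RingHom.flat_algebraMap_iff] at hq
  change Module.Flat A B
  rw [Module.Flat.iff_lTensor_injective]
  intro I hI
  let g : B ⊗[A] I →ₗ[B] B ⊗[A] A := AlgebraTensorModule.lTensor B B I.subtype
  have hg : ∀ z, g z = (LinearMap.lTensor B I.subtype) z := fun z => rfl
  let N : Submodule B (B ⊗[A] I) := LinearMap.ker g
  haveI : Module.Finite A I := Module.Finite.iff_fg.mpr hI
  have hNfg : N.FG := IsNoetherian.noetherian N
  let q : B →ₗ[A] B ⧸ Ideal.span {h} := (Submodule.mkQ (Ideal.span {h})).restrictScalars A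
  let m : B →ₗ[A] B := (LinearMap.mulLeft B h).restrictScalars A
  have hex : Function.Exact m q := by
    intro y
    constructor
    · intro hy
      have hy' : y ∈ Ideal.span {h} := (Submodule.Quotient.mk_eq_zero _).mp hy
      obtain ⟨c, rfl⟩ := Ideal.mem_span_singleton'.mp hy'
      exact ⟨c, mul_comm h c⟩
    · rintro ⟨c, rfl⟩
      exact (Submodule.Quotient.mk_eq_zero _).mpr
        (Ideal.mem_span_singleton'.mpr ⟨c, mul_comm c h⟩)
  have hq_surj : Function.Surjective q := by
    intro y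
    obtain ⟨x, rfl⟩ := Submodule.Quotient.mk_surjective _ y
    exact ⟨x, rfl⟩
  have hex' : Function.Exact (m.rTensor I) (q.rTensor I) := rTensor_exact I hex hq_surj
  have hsm : ∀ z : B ⊗[A] I, (m.rTensor I) z = h • z := by
    intro z
    induction z using TensorProduct.induction_on with
    | zero => simp
    | tmul b i =>
      rw [LinearMap.rTensor_tmul, TensorProduct.smul_tmul']
      rfl
    | add z w hz hw => rw [map_add, hz, hw, smul_add]
  have key : N ≤ Ideal.span {h} • N := by
    intro n hn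
    have hn0 : (LinearMap.lTensor B I.subtype) n = 0 := hn
    have h0 : (q.rTensor I) n = 0 := by
      have inj : Function.Injective (LinearMap.lTensor (B ⧸ Ideal.span {h}) I.subtype) :=
        Module.Flat.lTensor_preserves_injective_linearMap _ Subtype.val_injective
      apply inj
      rw [map_zero, ← LinearMap.comp_apply, LinearMap.lTensor_comp_rTensor,
        ← LinearMap.rTensor_comp_lTensor, LinearMap.comp_apply, hn0, map_zero]
    obtain ⟨n', hn'⟩ := (hex' n).mp h0
    rw [hsm] at hn'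
    have hn'N : n' ∈ N := by
      change g n' = 0
      have h1 : h • g n' = 0 := by
        rw [← map_smul, hn']
        exact hn
      let e2 : B ⊗[A] A ≃ₗ[B] B := AlgebraTensorModule.rid A B B
      apply e2.injective
      rw [map_zero]
      have h2 : h * e2 (g n') = 0 := by
        have := congrArg e2 h1
        rwa [map_smul, map_zero, smul_eq_mul] at this
      exact (mem_nonZeroDivisors_iff.mp hnzd).1 _ h2
    rw [← hn']
    exact Submodule.smul_mem_smul (Ideal.mem_span_singleton_self h) hn'N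
  have hbot : N = ⊥ := Submodule.eq_bot_of_le_smul_of_le_jacobson_bot (Ideal.span {h}) N hNfg key (by
    rw [IsLocalRing.jacobson_eq_maximalIdeal ⊥ bot_ne_top]
    exact (Ideal.span_singleton_le_iff_mem _).mpr hm)
  rw [injective_iff_map_eq_zero]
  intro z hz
  have : z ∈ N := hz
  rw [hbot] at this
  exact this

end nakayama

section scheme

variable {X S : Scheme.{u}} (f : X ⟶ S) (I : X.IdealSheafData)

theorem appLE_subschemeι_comp (V : S.Opens) (U : X.affineOpens) (e : U.1 ≤ f ⁻¹ᵁ V)
    (e' : I.subschemeι ⁻¹ᵁ U.1 ≤ (I.subschemeι ≫ f) ⁻¹ᵁ V) :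
    (I.subschemeι ≫ f).appLE V (I.subschemeι ⁻¹ᵁ U.1) e' =
      f.appLE V U.1 e ≫ CommRingCat.ofHom (Ideal.Quotient.mk (I.ideal U)) ≫
        (I.subschemeObjIso U).inv := by
  rw [← I.subschemeι_app U, Scheme.Hom.app_eq_appLE, Scheme.Hom.appLE_comp_appLE]

/-- If `D → S` is flat then `Γ(X,U)/I(U)` is flat over `Γ(S,V)` for affine opens `U ⊆ f⁻¹V`. -/
theorem flat_quotient_of_flat [Flat (I.subschemeι ≫ f)] (V : S.affineOpens) (U : X.affineOpens)
    (e : U.1 ≤ f ⁻¹ᵁ V.1) (J : Ideal Γ(X, U.1)) (hJ : I.ideal U = J) :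
    ((Ideal.Quotient.mk J).comp (f.appLE V.1 U.1 e).hom).Flat := by
  subst hJ
  have e' : I.subschemeι ⁻¹ᵁ U.1 ≤ (I.subschemeι ≫ f) ⁻¹ᵁ V.1 := fun d hd => e hd
  have hU' : IsAffineOpen (I.subschemeι ⁻¹ᵁ U.1) := (show IsAffineOpen U.1 from U.2).preimage _
  have h := HasRingHomProperty.appLE (P := @Flat) (f := I.subschemeι ≫ f) inferInstance V
    ⟨_, hU'⟩ e'
  rw [appLE_subschemeι_comp f I V.1 U e e'] at h
  have h2 := RingHom.Flat.comp h (RingHom.Flat.of_bijective
    (f := (I.subschemeObjIso U).hom.hom) (ConcreteCategory.bijective_of_isIso _))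
  have h3 : (f.appLE V.1 U.1 e ≫ CommRingCat.ofHom (Ideal.Quotient.mk (I.ideal U)) ≫
      (I.subschemeObjIso U).inv) ≫ (I.subschemeObjIso U).hom =
      f.appLE V.1 U.1 e ≫ CommRingCat.ofHom (Ideal.Quotient.mk (I.ideal U)) := by
    simp
  have h4 := congrArg CommRingCat.Hom.hom h3
  rw [CommRingCat.hom_comp] at h4
  rw [h4] at h2
  exact h2

/-- `D → S` is flat as soon as around every point of `D` some affine chart has flat quotient. -/
theorem flat_of_forall
    (H : ∀ x ∈ I.support, ∃ (V : S.affineOpens) (U : X.affineOpens) (_ : x ∈ U.1)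
      (e : U.1 ≤ f ⁻¹ᵁ V.1) (J : Ideal Γ(X, U.1)) (_ : I.ideal U = J),
      ((Ideal.Quotient.mk J).comp (f.appLE V.1 U.1 e).hom).Flat) :
    Flat (I.subschemeι ≫ f) := by
  rw [HasRingHomProperty.iff_exists_appLE (P := @Flat)
    (RingHom.Flat.stableUnderComposition.stableUnderCompositionWithLocalizationAway
      RingHom.Flat.holdsForLocalizationAway).1]
  intro d
  have hd : I.subschemeι d ∈ I.support := by
    have : I.subschemeι d ∈ Set.range I.subschemeι := ⟨d, rfl⟩
    rw [I.range_subschemeι] at this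
    exact this
  obtain ⟨V, U, hxU, e, J, hJ, h⟩ := H (I.subschemeι d) hd
  subst hJ
  have e' : I.subschemeι ⁻¹ᵁ U.1 ≤ (I.subschemeι ≫ f) ⁻¹ᵁ V.1 := fun y hy => e hy
  refine ⟨V, ⟨I.subschemeι ⁻¹ᵁ U.1, (show IsAffineOpen U.1 from U.2).preimage I.subschemeι⟩,
    hxU, e', ?_⟩
  change (CommRingCat.Hom.hom
    (Scheme.Hom.appLE (I.subschemeι ≫ f) V.1 (I.subschemeι ⁻¹ᵁ U.1) e')).Flat
  rw [appLE_subschemeι_comp f I V.1 U e e']
  have h2 := RingHom.Flat.comp h (RingHom.Flat.of_bijective
    (f := (I.subschemeObjIso U).inv.hom) (ConcreteCategory.bijective_of_isIso _))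
  simp only [CommRingCat.hom_comp, CommRingCat.hom_ofHom, RingHom.comp_assoc]
  exact h2

/-- Simultaneous principal charts for two effective Cartier ideals, inside the preimage of an affine
open of the base. -/
theorem exists_common_affine (I₁ I₂ : X.IdealSheafData) (h₁ : BlowUp.IsEffCartierIdeal I₁)
    (h₂ : BlowUp.IsEffCartierIdeal I₂) (x : X) :
    ∃ (V : S.affineOpens) (U : X.affineOpens) (_ : x ∈ U.1) (_ : U.1 ≤ f ⁻¹ᵁ V.1)
      (a b : Γ(X, U.1)), a ∈ nonZeroDivisors Γ(X, U.1) ∧ b ∈ nonZeroDivisors Γ(X, U.1) ∧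
      I₁.ideal U = Ideal.span {a} ∧ I₂.ideal U = Ideal.span {b} := by
  obtain ⟨_, ⟨V, hV, rfl⟩, hxV, -⟩ :=
    S.isBasis_affineOpens.exists_subset_of_mem_open (Set.mem_univ (f x)) isOpen_univ
  obtain ⟨U₁, a₁, hxU₁, hU₁V, ha₁, hI₁⟩ :=
    Groth.Agent.Lib.Helper25.BlowUpUP.exists_affine_principal_le I₁ h₁ x (f ⁻¹ᵁ V) hxV
  obtain ⟨U, b, hxU, hUU₁, hb, hI₂⟩ :=
    Groth.Agent.Lib.Helper25.BlowUpUP.exists_affine_principal_le I₂ h₂ x U₁.1 hxU₁
  obtain ⟨ha, hI₁'⟩ := Groth.Agent.Lib.Helper25.BlowUpUP.principal_of_le I₁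
    (show U ≤ U₁ from hUU₁) a₁ ha₁ hI₁
  exact ⟨⟨V, hV⟩, U, hxU, hUU₁.trans hU₁V, _, b, ha, hb, hI₁', hI₂⟩

end scheme

end Groth.Agent.Lib.Helper10.RelCartier
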