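import Mathlib
import Groth.Agent.Lib.Helper10.RelCartier
import Groth.Agent.Lib.Helper1.IdealSheafComap

/-!
# Base change of relative effective Cartier divisors

* `map_mem_nonZeroDivisors_of_isPushout`: if `B/h` is flat over `A` and `h` is a nonzerodivisor of `B`
  then the image of `h` in `B ⊗[A] A'` is a nonzerodivisor.
* `isEffCartierIdeal_comap_fst`: the inverse image of a relative effective Cartier divisor under a
  base change is an effective Cartier divisor.
-/

set_option autoImplicit false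
universe u
open CategoryTheory CategoryTheory.Limits AlgebraicGeometry TopologicalSpace TensorProduct

namespace Groth.Agent.Lib.Helper10.RelCartier

section ring

theorem map_mem_nonZeroDivisors_of_isPushout {A B : Type u} (A' : Type u) {C : Type u}
    [CommRing A] [CommRing B] [CommRing A'] [CommRing C]
    [Algebra A B] [Algebra A A'] [Algebra B C] [Algebra A' C] [Algebra A C]
    [IsScalarTower A B C] [IsScalarTower A A' C] [Algebra.IsPushout A B A' C]
    (h : B) (hnzd : h ∈ nonZeroDivisors B)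
    [Module.Flat A (B ⧸ Ideal.span {h})] : algebraMap B C h ∈ nonZeroDivisors C := by
  let q : B →ₗ[A] B ⧸ Ideal.span {h} := (Submodule.mkQ (Ideal.span {h})).restrictScalars A
  let m : B →ₗ[A] B := (LinearMap.mulLeft B h).restrictScalars A
  have hex : Function.Exact m q := by
    intro y
    constructor
    · intro hy
      have hy' : y ∈ Ideal.span {h} := (Submodule.Quotient.mk_eq_zero _).mp hy
      obtain ⟨c, rfl⟩ := Ideal.mem_span_singleton'.mp hy'
      exact ⟨c, mul_comm h c⟩
    · rintro ⟨c, rfl⟩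
      exact (Submodule.Quotient.mk_eq_zero _).mpr
        (Ideal.mem_span_singleton'.mpr ⟨c, mul_comm c h⟩)
  have hq_surj : Function.Surjective q := by
    intro y
    obtain ⟨x, rfl⟩ := Submodule.Quotient.mk_surjective _ y
    exact ⟨x, rfl⟩
  have hm_inj : Function.Injective m := by
    intro x y hxy
    have h0 : h * (x - y) = 0 := by
      rw [mul_sub, sub_eq_zero]
      exact hxy
    exact sub_eq_zero.mp ((mem_nonZeroDivisors_iff.mp hnzd).1 _ h0)
  have hinj : Function.Injective (m.rTensor A') := by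
    rw [← LinearMap.lTensor_inj_iff_rTensor_inj]
    exact LinearMap.lTensor_injective_of_exact_of_flat q hq_surj m hm_inj hex A'
  have hsm : ∀ z : B ⊗[A] A', (m.rTensor A') z = h • z := by
    intro z
    induction z using TensorProduct.induction_on with
    | zero => simp
    | tmul b i =>
      rw [LinearMap.rTensor_tmul, TensorProduct.smul_tmul']
      rfl
    | add z w hz hw => rw [map_add, hz, hw, smul_add]
  let e : B ⊗[A] A' ≃ₐ[B] C := Algebra.IsPushout.equiv A B A' C
  rw [mem_nonZeroDivisors_iff]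
  have key : ∀ c : C, algebraMap B C h * c = 0 → c = 0 := by
    intro c hc
    obtain ⟨t, rfl⟩ := e.surjective c
    have h1 : e (h • t) = 0 := by
      rw [map_smul, Algebra.smul_def]
      exact hc
    have h2 : h • t = 0 := by
      apply e.injective
      rw [h1, map_zero]
    rw [← hsm] at h2
    have h3 : t = 0 := hinj (h2.trans (map_zero _).symm)
    rw [h3, map_zero]
  exact ⟨key, fun c hc => key c (by rw [mul_comm]; exact hc)⟩

end ring

section scheme

variable {X S S' : Scheme.{u}}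

/-- The inverse image of a relative effective Cartier divisor under base change is an effective
Cartier divisor. -/
theorem isEffCartierIdeal_comap_fst (f : X ⟶ S) (D : X.IdealSheafData)
    (hD : BlowUp.IsEffCartierIdeal D) [Flat (D.subschemeι ≫ f)] (g : S' ⟶ S) :
    BlowUp.IsEffCartierIdeal (D.comap (pullback.fst f g)) := by
  intro x'
  have H : IsPullback (pullback.fst f g) (pullback.snd f g) f g := IsPullback.of_hasPullback f g
  obtain ⟨_, ⟨V, hV, rfl⟩, hxV, -⟩ := S.isBasis_affineOpens.exists_subset_of_mem_open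
    (Set.mem_univ (f (pullback.fst f g x'))) isOpen_univ
  have hq : g (pullback.snd f g x') = f (pullback.fst f g x') := by
    rw [← Scheme.Hom.comp_apply, ← Scheme.Hom.comp_apply, pullback.condition]
  obtain ⟨_, ⟨V', hV', rfl⟩, hxV', hV'V⟩ := S'.isBasis_affineOpens.exists_subset_of_mem_open
    (show pullback.snd f g x' ∈ (g ⁻¹ᵁ V : Set S') by
      change g (pullback.snd f g x') ∈ V
      rw [hq]
      exact hxV) (g ⁻¹ᵁ V).2
  obtain ⟨U, h₀, hxU, hUV, hnzd, hI⟩ :=
    Groth.Agent.Lib.Helper25.BlowUpUP.exists_affine_principal_le D hD (pullback.fst f g x')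
      (f ⁻¹ᵁ V) hxV
  have hV'V' : V' ≤ g ⁻¹ᵁ V := hV'V
  have hUV' : U.1 ≤ f ⁻¹ᵁ V := hUV
  have hW : IsAffineOpen (pullback.fst f g ⁻¹ᵁ U.1 ⊓ pullback.snd f g ⁻¹ᵁ V') := by
    have : IsAffine _ := hV
    have : IsAffine _ := hV'
    have : IsAffine _ := U.2
    exact .of_isIso (Scheme.Hom.isPullback_resLE H hV'V' hUV' rfl).isoPullback.hom
  have hiso : IsIso (pushoutSection H hV'V' hUV' rfl) :=
    isIso_pushoutSection_of_isAffineOpen H hV'V' hUV' rfl hV hV' U.2
  have hPO := (isIso_pushoutSection_iff H hV'V' hUV' rfl).mp hiso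
  refine ⟨⟨_, hW⟩, ⟨hxU, hxV'⟩,
    ((pullback.fst f g).appLE U.1 (pullback.fst f g ⁻¹ᵁ U.1 ⊓ pullback.snd f g ⁻¹ᵁ V')
      inf_le_left).hom h₀, ?_, ?_⟩
  · letI : Algebra Γ(S, V) Γ(X, U.1) := (f.appLE V U.1 hUV').hom.toAlgebra
    letI : Algebra Γ(S, V) Γ(S', V') := (g.appLE V V' hV'V').hom.toAlgebra
    letI : Algebra Γ(X, U.1) Γ(pullback f g, pullback.fst f g ⁻¹ᵁ U.1 ⊓ pullback.snd f g ⁻¹ᵁ V') :=
      ((pullback.fst f g).appLE U.1 _ inf_le_left).hom.toAlgebra
    letI : Algebra Γ(S', V') Γ(pullback f g, pullback.fst f g ⁻¹ᵁ U.1 ⊓ pullback.snd f g ⁻¹ᵁ V') :=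
      ((pullback.snd f g).appLE V' _ inf_le_right).hom.toAlgebra
    letI : Algebra Γ(S, V) Γ(pullback f g, pullback.fst f g ⁻¹ᵁ U.1 ⊓ pullback.snd f g ⁻¹ᵁ V') :=
      (f.appLE V U.1 hUV' ≫ (pullback.fst f g).appLE U.1 _ inf_le_left).hom.toAlgebra
    haveI : IsScalarTower Γ(S, V) Γ(X, U.1)
        Γ(pullback f g, pullback.fst f g ⁻¹ᵁ U.1 ⊓ pullback.snd f g ⁻¹ᵁ V') :=
      .of_algebraMap_eq' rfl
    haveI : IsScalarTower Γ(S, V) Γ(S', V')
        Γ(pullback f g, pullback.fst f g ⁻¹ᵁ U.1 ⊓ pullback.snd f g ⁻¹ᵁ V') :=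
      .of_algebraMap_eq' (congrArg CommRingCat.Hom.hom hPO.w)
    haveI : Algebra.IsPushout Γ(S, V) Γ(X, U.1) Γ(S', V')
        Γ(pullback f g, pullback.fst f g ⁻¹ᵁ U.1 ⊓ pullback.snd f g ⁻¹ᵁ V') :=
      CommRingCat.isPushout_iff_isPushout.mp hPO
    have hfl := flat_quotient_of_flat f D ⟨V, hV⟩ U hUV' _ hI
    have e : (Ideal.Quotient.mk (Ideal.span {h₀})).comp (f.appLE V U.1 hUV').hom =
        algebraMap Γ(S, V) (Γ(X, U.1) ⧸ Ideal.span {h₀}) := rfl
    rw [e, RingHom.flat_algebraMap_iff] at hfl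
    exact map_mem_nonZeroDivisors_of_isPushout (A := Γ(S, V)) Γ(S', V') h₀ hnzd
  · rw [Groth.Agent.Lib.Helper1.ideal_comap D (pullback.fst f g) ⟨_, hW⟩ U inf_le_left, hI,
      Ideal.map_span, Set.image_singleton]

end scheme

end Groth.Agent.Lib.Helper10.RelCartier
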