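import Mathlib
import Groth.Prelude.Def_FEt

/-!
# Descending sections of étale morphisms (graph trick for finite étale covers)

* `isOpenImmersion_of_section`: a section of an étale morphism is an open immersion.
* `isIso_of_isPullback_of_surjective`: an étale morphism which becomes an isomorphism after a
  surjective base change is an isomorphism.
* `exists_section_of_opens`: descent of a section along a surjective morphism, given an open subset
  whose preimage is the range of the pulled-back section.
-/

set_option autoImplicit false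
universe u
open CategoryTheory CategoryTheory.Limits AlgebraicGeometry TopologicalSpace MorphismProperty

namespace Groth.Agent.Lib.Helper10.FEtGraph

/-- A section of an étale morphism is an open immersion. -/
theorem isOpenImmersion_of_section {P Q : Scheme.{u}} (s : Q ⟶ P) (p : P ⟶ Q) [Etale p]
    (h : s ≫ p = 𝟙 Q) : IsOpenImmersion s := by
  haveI : Etale (s ≫ p) := by rw [h]; infer_instance
  haveI : Etale s := Etale.of_comp s p
  haveI : Mono s := mono_of_mono_fac h
  exact IsOpenImmersion.of_flat_of_mono s

instance : DescendsAlong @Surjective @Surjective where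
  of_isPullback {A X Y Z fst snd f g} h hf hfst := by
    refine ⟨fun z => ?_⟩
    obtain ⟨x, rfl⟩ := hf.surj z
    obtain ⟨a, rfl⟩ := hfst.surj x
    refine ⟨snd a, ?_⟩
    rw [← Scheme.Hom.comp_apply, ← h.w, Scheme.Hom.comp_apply]

set_option backward.isDefEq.respectTransparency.types false in
instance : DescendsAlong @UniversallyInjective @Surjective := by
  rw [universallyInjective_eq_diagonal]
  infer_instance

/-- An étale morphism which becomes an isomorphism after a surjective base change is an
isomorphism. -/
theorem isIso_of_isPullback_of_surjective {T A A' T' : Scheme.{u}} (q : T ⟶ A) [Etale q]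
    (π : A' ⟶ A) [Surjective π] (q' : T' ⟶ A') (r : T' ⟶ T) (hsq : IsPullback q' r π q)
    [IsIso q'] : IsIso q := by
  have hq_ui : UniversallyInjective q :=
    of_isPullback_of_descendsAlong (P := @UniversallyInjective) (Q := @Surjective) hsq
      inferInstance inferInstance
  have hq_surj : Surjective q :=
    of_isPullback_of_descendsAlong (P := @Surjective) (Q := @Surjective) hsq
      inferInstance inferInstance
  haveI : IsIso (pullback.diagonal q) := by
    haveI : Surjective (pullback.diagonal q) := (UniversallyInjective.iff_diagonal q).mp hq_ui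
    apply isIso_of_isOpenImmersion_of_opensRange_eq_top
    ext x
    simpa using (pullback.diagonal q).surjective x
  haveI : Mono q := (pullback.isIso_diagonal_iff q).mp inferInstance
  haveI : IsOpenImmersion q := IsOpenImmersion.of_flat_of_mono q
  apply isIso_of_isOpenImmersion_of_opensRange_eq_top
  ext x
  simpa using q.surjective x

/-- Descent of sections: let `b : B ⟶ S` be étale, `π : A' ⟶ A` surjective and `γ : A' ⟶ A ×_S B` a
morphism over `A`. If some open `T` of `A ×_S B` pulls back to the range of the section of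
`(A ×_S B) ×_A A' ⟶ A'` induced by `γ`, then `γ` descends to a section `σ` of `A ×_S B ⟶ A`. -/
theorem exists_section_of_opens {S A B A' : Scheme.{u}} (a : A ⟶ S) (b : B ⟶ S) [Etale b]
    (π : A' ⟶ A) [Surjective π] (γ : A' ⟶ pullback a b) (hγ : γ ≫ pullback.fst a b = π)
    (T : (pullback a b).Opens)
    (hT : ((pullback.fst (pullback.fst a b) π) ⁻¹ᵁ T : Set ↥(pullback (pullback.fst a b) π)) =
      Set.range (pullback.lift γ (𝟙 A') (by rw [hγ, Category.id_comp]) :
        A' ⟶ pullback (pullback.fst a b) π)) :
    ∃ σ : A ⟶ pullback a b, σ ≫ pullback.fst a b = 𝟙 A ∧ π ≫ σ = γ := by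
  let s' : A' ⟶ pullback (pullback.fst a b) π :=
    pullback.lift γ (𝟙 A') (by rw [hγ, Category.id_comp])
  have hs' : s' ≫ pullback.snd (pullback.fst a b) π = 𝟙 A' := pullback.lift_snd _ _ _
  have hs'1 : s' ≫ pullback.fst (pullback.fst a b) π = γ := pullback.lift_fst _ _ _
  haveI : IsOpenImmersion s' := isOpenImmersion_of_section s' _ hs'
  let F := pullback.fst (pullback.fst a b) π
  let e := IsOpenImmersion.isoOfRangeEq s' (F ⁻¹ᵁ T).ι (by
    rw [Scheme.Opens.range_ι]; exact hT.symm)
  have he : e.hom ≫ (F ⁻¹ᵁ T).ι = s' := IsOpenImmersion.isoOfRangeEq_hom_fac _ _ _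
  have hx : (F ⁻¹ᵁ T).ι ≫ pullback.snd (pullback.fst a b) π = e.inv := by
    rw [← cancel_epi e.hom, ← Category.assoc, he, hs', e.hom_inv_id]
  haveI hiso : IsIso ((F ⁻¹ᵁ T).ι ≫ pullback.snd (pullback.fst a b) π) := by
    rw [hx]; infer_instance
  have hsq : IsPullback ((F ⁻¹ᵁ T).ι ≫ pullback.snd (pullback.fst a b) π) (F ∣_ T) π
      (T.ι ≫ pullback.fst a b) :=
    ((isPullback_morphismRestrict F T).paste_vert
      (IsPullback.of_hasPullback (pullback.fst a b) π)).flip
  haveI : IsIso (T.ι ≫ pullback.fst a b) :=
    isIso_of_isPullback_of_surjective (T.ι ≫ pullback.fst a b) π _ _ hsq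
  refine ⟨inv (T.ι ≫ pullback.fst a b) ≫ T.ι, ?_, ?_⟩
  · rw [Category.assoc, IsIso.inv_hom_id]
  · have h1 : γ = (e.hom ≫ (F ∣_ T)) ≫ T.ι := by
      rw [Category.assoc, morphismRestrict_ι, ← Category.assoc, he, hs'1]
    have h2 : (e.hom ≫ (F ∣_ T)) ≫ (T.ι ≫ pullback.fst a b) = π := by
      rw [← Category.assoc, ← h1, hγ]
    calc π ≫ inv (T.ι ≫ pullback.fst a b) ≫ T.ι
        = ((e.hom ≫ (F ∣_ T)) ≫ (T.ι ≫ pullback.fst a b)) ≫
            inv (T.ι ≫ pullback.fst a b) ≫ T.ι :=
          congrArg (· ≫ (inv (T.ι ≫ pullback.fst a b) ≫ T.ι)) h2.symm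
      _ = (e.hom ≫ (F ∣_ T)) ≫ T.ι := by rw [Category.assoc, IsIso.hom_inv_id_assoc]
      _ = γ := h1.symm

end Groth.Agent.Lib.Helper10.FEtGraph
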