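import Mathlib

/-!
# Flatness at a point: base change and flat descent
-/

set_option autoImplicit false
set_option backward.isDefEq.respectTransparency.types false
set_option maxHeartbeats 4000000
set_option synthInstance.maxHeartbeats 400000
universe u
open CategoryTheory CategoryTheory.Limits AlgebraicGeometry TensorProduct

namespace Groth.Agent.Lib.Helper10.FlatPt

section Ring

/-- flatness descends along a faithfully flat extension of the target. -/
theorem flat_of_comp_of_faithfullyFlat {R B B' : Type u} [CommRing R] [CommRing B] [CommRing B']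
    (φ : R →+* B) (ψ : B →+* B') (hψ : ψ.FaithfullyFlat) (h : (ψ.comp φ).Flat) : φ.Flat := by
  algebraize [φ, ψ, ψ.comp φ]
  haveI : Module.FaithfullyFlat B B' := hψ
  haveI : Module.Flat R B' := h
  change Module.Flat R B
  rw [Module.Flat.iff_lTensor_preserves_injective_linearMap]
  intro N P _ _ _ _ f hf
  let g : B ⊗[R] N →ₗ[B] B ⊗[R] P := f.baseChange B
  have hg : (g : B ⊗[R] N → B ⊗[R] P) = f.lTensor B := by
    funext z
    rfl
  rw [← hg, ← Module.FaithfullyFlat.lTensor_injective_iff_injective B B']
  let eN := TensorProduct.AlgebraTensorModule.cancelBaseChange R B B' B' N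
  let eP := TensorProduct.AlgebraTensorModule.cancelBaseChange R B B' B' P
  have hsq : ∀ z, eP (g.lTensor B' z) = f.lTensor B' (eN z) := by
    intro z
    induction z using TensorProduct.induction_on with
    | zero => simp
    | add x y hx hy => rw [map_add, map_add, map_add, map_add, hx, hy]
    | tmul b' w =>
      induction w using TensorProduct.induction_on with
      | zero => simp
      | add x y hx hy =>
        rw [TensorProduct.tmul_add, map_add, map_add, map_add, map_add, hx, hy]
      | tmul b n =>
        simp [eN, eP, g]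
  have hinj : Function.Injective (f.lTensor B') :=
    Module.Flat.lTensor_preserves_injective_linearMap f hf
  intro z₁ z₂ hz
  apply eN.injective
  apply hinj
  rw [← hsq, ← hsq, hz]

end Ring

section Scheme

variable {X Y : Scheme.{u}} (f : X ⟶ Y)

instance flat_fromSpecStalk (x : X) : Flat (X.fromSpecStalk x) := by
  obtain ⟨_, ⟨U, hU, rfl⟩, hxU, -⟩ :=
    X.isBasis_affineOpens.exists_subset_of_mem_open (Set.mem_univ x) isOpen_univ
  rw [← hU.fromSpecStalk_eq_fromSpecStalk hxU, IsAffineOpen.fromSpecStalk]
  haveI : Flat (Spec.map (X.presheaf.germ U x hxU)) := by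
    rw [Flat.SpecMap_iff]
    haveI := hU.isLocalization_stalk ⟨x, hxU⟩
    letI : Algebra Γ(X, U) (X.presheaf.stalk x) := (X.presheaf.germ U x hxU).hom.toAlgebra
    have : Module.Flat Γ(X, U) (X.presheaf.stalk x) :=
      IsLocalization.flat _ (hU.primeIdealOf ⟨x, hxU⟩).asIdeal.primeCompl
    exact this
  infer_instance

/-- flatness at a point, as flatness of a morphism. -/
theorem flatAt_iff (x : X) : (f.stalkMap x).hom.Flat ↔ Flat (X.fromSpecStalk x ≫ f) := by
  constructor
  · intro h
    rw [← Scheme.SpecMap_stalkMap_fromSpecStalk]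
    haveI : Flat (Spec.map (f.stalkMap x)) := Flat.SpecMap_iff.mpr h
    infer_instance
  · intro h
    rw [← Scheme.SpecMap_stalkMap_fromSpecStalk] at h
    have sq : IsPullback (𝟙 _) (Spec.map (f.stalkMap x))
        (Spec.map (f.stalkMap x) ≫ Y.fromSpecStalk (f x)) (Y.fromSpecStalk (f x)) :=
      IsPullback.of_horiz_isIso_mono ⟨by simp⟩
    have h2 : Flat (Spec.map (f.stalkMap x)) :=
      MorphismProperty.of_isPullback (P := @Flat) sq h
    exact Flat.SpecMap_iff.mp h2

variable {X' Y' : Scheme.{u}} {p : X' ⟶ X} {f' : X' ⟶ Y'} {f} {q : Y' ⟶ Y}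

/-- **base change** of flatness at a point. -/
theorem flatAt_of_isPullback (hsq : IsPullback p f' f q) (x' : X')
    (h : (f.stalkMap (p x')).hom.Flat) : (f'.stalkMap x').hom.Flat := by
  rw [flatAt_iff] at h ⊢
  let jx := X.fromSpecStalk (p x')
  let jx' := X'.fromSpecStalk x'
  let k : Spec (X'.presheaf.stalk x') ⟶ Spec (X.presheaf.stalk (p x')) := Spec.map (p.stalkMap x')
  have hk : k ≫ jx = jx' ≫ p := Scheme.SpecMap_stalkMap_fromSpecStalk p
  haveI := h
  let P := pullback (jx ≫ f) q
  let t : Spec (X'.presheaf.stalk x') ⟶ P := pullback.lift k (jx' ≫ f') (by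
    rw [← Category.assoc, hk, Category.assoc, hsq.w, Category.assoc])
  have ht2 : t ≫ pullback.snd (jx ≫ f) q = jx' ≫ f' := pullback.lift_snd _ _ _
  have ht1 : t ≫ pullback.fst (jx ≫ f) q = k := pullback.lift_fst _ _ _
  let i : P ⟶ X' := hsq.lift (pullback.fst (jx ≫ f) q ≫ jx) (pullback.snd (jx ≫ f) q) (by
    rw [Category.assoc]
    exact pullback.condition)
  have hi1 : i ≫ p = pullback.fst (jx ≫ f) q ≫ jx := hsq.lift_fst _ _ _
  have hi2 : i ≫ f' = pullback.snd (jx ≫ f) q := hsq.lift_snd _ _ _
  haveI : Mono i := by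
    refine ⟨fun a b hab => ?_⟩
    apply pullback.hom_ext
    · have h1 := congrArg (fun m => m ≫ p) hab
      simp only [Category.assoc, hi1] at h1
      rw [← Category.assoc, ← Category.assoc] at h1
      exact (cancel_mono jx).mp h1
    · have h1 := congrArg (fun m => m ≫ f') hab
      simp only [Category.assoc, hi2] at h1
      exact h1
  have hti : t ≫ i = jx' := by
    apply hsq.hom_ext
    · rw [Category.assoc, hi1, ← Category.assoc, ht1, hk]
    · rw [Category.assoc, hi2, ht2]
  have sq2 : IsPullback (𝟙 _) t jx' i := by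
    have : IsPullback (𝟙 _) t (t ≫ i) i := IsPullback.of_horiz_isIso_mono ⟨by simp⟩
    rwa [hti] at this
  have hflat_t : Flat t := MorphismProperty.of_isPullback (P := @Flat) sq2 inferInstance
  haveI := hflat_t
  rw [← ht2]
  infer_instance

/-- **flat descent** of flatness at a point. -/
theorem flatAt_descent (hsq : IsPullback p f' f q) [Flat q] (x' : X')
    (h : (f'.stalkMap x').hom.Flat) : (f.stalkMap (p x')).hom.Flat := by
  haveI : Flat p := MorphismProperty.of_isPullback (P := @Flat) hsq.flip inferInstance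
  have h1 : Flat (X'.fromSpecStalk x' ≫ (p ≫ f)) := by
    rw [hsq.w, ← Category.assoc]
    haveI := (flatAt_iff f' x').mp h
    infer_instance
  have h2 : ((p ≫ f).stalkMap x').hom.Flat := (flatAt_iff (p ≫ f) x').mpr h1
  rw [Scheme.Hom.stalkMap_comp] at h2
  have h3 : (p.stalkMap x').hom.Flat := Flat.stalkMap p x'
  have h4 : (p.stalkMap x').hom.FaithfullyFlat := by
    letI : Algebra (X.presheaf.stalk (p x')) (X'.presheaf.stalk x') := (p.stalkMap x').hom.toAlgebra
    haveI : Module.Flat (X.presheaf.stalk (p x')) (X'.presheaf.stalk x') := h3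
    haveI : IsLocalHom (algebraMap (X.presheaf.stalk (p x')) (X'.presheaf.stalk x')) :=
      inferInstanceAs (IsLocalHom (p.stalkMap x').hom)
    exact Module.FaithfullyFlat.of_flat_of_isLocalHom
  exact flat_of_comp_of_faithfullyFlat _ _ h4 h2

end Scheme

end Groth.Agent.Lib.Helper10.FlatPt
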