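import Mathlib

/-!
# Translation by non-rational points in group schemes over a field
-/

set_option autoImplicit false
set_option backward.isDefEq.respectTransparency.types false
set_option maxHeartbeats 4000000
set_option synthInstance.maxHeartbeats 400000
universe u
open CategoryTheory CategoryTheory.Limits AlgebraicGeometry MonoidalCategory
  CartesianMonoidalCategory MonObj GrpObj

namespace Groth.Agent.Lib.Helper10.GrpTranslate

section Transl

variable {B : Scheme.{u}} {G : Over B} [GrpObj G] {T : Over B}

/-- left translation by a `T`-point of `G`, as an endomorphism of `T ⊗ G`. -/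
noncomputable def transl (z : T ⟶ G) : T ⊗ G ⟶ T ⊗ G :=
  lift (fst T G) ((fst T G ≫ z) * snd T G)

@[simp] theorem transl_fst (z : T ⟶ G) : transl z ≫ fst T G = fst T G := lift_fst _ _

@[simp] theorem transl_snd (z : T ⟶ G) : transl z ≫ snd T G = (fst T G ≫ z) * snd T G :=
  lift_snd _ _

theorem transl_comp (z z' : T ⟶ G) : transl z ≫ transl z' = transl (z' * z) := by
  apply CartesianMonoidalCategory.hom_ext
  · rw [Category.assoc, transl_fst, transl_fst, transl_fst]
  · rw [Category.assoc, transl_snd, MonObj.comp_mul, ← Category.assoc, transl_fst, transl_snd,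
      transl_snd, MonObj.comp_mul, _root_.mul_assoc]

theorem transl_one : transl (1 : T ⟶ G) = 𝟙 (T ⊗ G) := by
  apply CartesianMonoidalCategory.hom_ext
  · rw [transl_fst, Category.id_comp]
  · rw [transl_snd, MonObj.comp_one, _root_.one_mul, Category.id_comp]

instance (z : T ⟶ G) : IsIso (transl z) :=
  ⟨⟨transl z⁻¹, by rw [transl_comp, inv_mul_cancel, transl_one],
    by rw [transl_comp, mul_inv_cancel, transl_one]⟩⟩

end Transl

section Field

variable {K : Type u} [Field K] {H G T : Over (Spec (CommRingCat.of K))} [GrpObj H] [GrpObj G]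

/-- the "translate of the image of `ψ` by `z`". -/
noncomputable def translMap (ψ : H ⟶ G) (z : T ⟶ G) : T ⊗ H ⟶ G :=
  (fst T H ≫ z) * (snd T H ≫ ψ)

theorem translMap_eq (ψ : H ⟶ G) (z : T ⟶ G) :
    translMap ψ z = (T ◁ ψ) ≫ transl z ≫ snd T G := by
  rw [transl_snd, MonObj.comp_mul, ← Category.assoc, whiskerLeft_fst, whiskerLeft_snd]
  rfl

theorem range_whiskerLeft (ψ : H ⟶ G) :
    Set.range (T ◁ ψ).left = (snd T G).left ⁻¹' Set.range ψ.left := by
  have h1 : (T ◁ ψ).left = pullback.map T.hom H.hom T.hom G.hom (𝟙 _) ψ.left (𝟙 _)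
      (by simp) (by simp) := rfl
  rw [h1, Scheme.Pullback.range_map]
  have h2 : Set.range (𝟙 T.left : T.left ⟶ T.left) = Set.univ := by
    ext x
    simp
  rw [h2, Set.preimage_univ, Set.univ_inter]
  rfl

/-- if the image of `ψ` is open, so is its translate by any point. -/
theorem isOpen_range_translMap (ψ : H ⟶ G) (hU : IsOpen (Set.range ψ.left)) (z : T ⟶ G) :
    IsOpen (Set.range (translMap ψ z).left) := by
  have h1 : Set.range (translMap ψ z).left =
      (snd T G).left '' ((transl z).left '' Set.range (T ◁ ψ).left) := by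
    rw [translMap_eq]
    ext x
    simp only [Over.comp_left, Scheme.Hom.comp_base, TopCat.coe_comp, Set.mem_range,
      Function.comp_apply, Set.mem_image, exists_exists_eq_and]
  rw [h1, range_whiskerLeft]
  haveI : UniversallyOpen T.hom := inferInstance
  haveI : UniversallyOpen (snd T G).left := by
    rw [Over.snd_left]
    infer_instance
  haveI : IsIso (transl z).left := inferInstanceAs (IsIso ((Over.forget _).map (transl z)))
  apply (snd T G).left.isOpenMap
  apply (transl z).left.isOpenEmbedding.isOpenMap
  exact hU.preimage (snd T G).left.continuous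

/-- if the translate by `z` of the image of `ψ` meets the image of `ψ`, then some point of `z`
lies in the image of `ψ`. -/
theorem exists_mem_range_of_translMap (ψ : H ⟶ G) [IsMonHom ψ] (z : T ⟶ G) (w : (T ⊗ H).left)
    (hw : (translMap ψ z).left w ∈ Set.range ψ.left) :
    ∃ t : T.left, z.left t ∈ Set.range ψ.left := by
  obtain ⟨y, hy⟩ := hw
  obtain ⟨q, -, -⟩ := Scheme.Pullback.exists_preimage_pullback (f := (translMap ψ z).left)
    (g := ψ.left) w y hy.symm
  let P : Over (Spec (CommRingCat.of K)) :=
    Over.mk (pullback.fst (translMap ψ z).left ψ.left ≫ (T ⊗ H).hom)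
  let a : P ⟶ T ⊗ H := Over.homMk (pullback.fst (translMap ψ z).left ψ.left) rfl
  have hb : pullback.snd (translMap ψ z).left ψ.left ≫ H.hom = P.hom := by
    change _ = pullback.fst (translMap ψ z).left ψ.left ≫ (T ⊗ H).hom
    rw [← Over.w ψ, ← Category.assoc, ← pullback.condition, Category.assoc, Over.w (translMap ψ z)]
  let b : P ⟶ H := Over.homMk (pullback.snd (translMap ψ z).left ψ.left) hb
  have hab : a ≫ translMap ψ z = b ≫ ψ := Over.OverMorphism.ext pullback.condition
  have h1 : ((a ≫ fst T H) ≫ z) * ((a ≫ snd T H) ≫ ψ) = b ≫ ψ := by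
    rw [← hab, translMap, MonObj.comp_mul, Category.assoc, Category.assoc]
  have h2 : (a ≫ fst T H) ≫ z = (b * (a ≫ snd T H)⁻¹) ≫ ψ := by
    rw [MonObj.mul_comp, GrpObj.inv_comp, ← h1]
    group
  refine ⟨(a ≫ fst T H).left q, ⟨(b * (a ≫ snd T H)⁻¹).left q, ?_⟩⟩
  have h3 := congrArg (fun f => f.left q) h2
  exact h3.symm

end Field

section Closure

variable {K : Type u} [Field K] {H G T : Over (Spec (CommRingCat.of K))} [GrpObj H] [GrpObj G]

/-- the translate by `z` of the preimage of an open subset is open. -/
theorem isOpen_translate (z : T ⟶ G) (V : Set G.left) (hV : IsOpen V) :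
    IsOpen ((snd T G).left '' ((transl z).left '' ((snd T G).left ⁻¹' V))) := by
  haveI : UniversallyOpen T.hom := inferInstance
  haveI : UniversallyOpen (snd T G).left := by
    rw [Over.snd_left]
    infer_instance
  haveI : IsIso (transl z).left := inferInstanceAs (IsIso ((Over.forget _).map (transl z)))
  apply (snd T G).left.isOpenMap
  apply (transl z).left.isOpenEmbedding.isOpenMap
  exact hV.preimage (snd T G).left.continuous

variable (i : H ⟶ G) [IsMonHom i]

/-- `U · U ⊆ U` for the image `U` of a homomorphism. -/
theorem mul_mem_range (w : (G ⊗ H).left) (hw : (fst G H).left w ∈ Set.range i.left) :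
    (fst G H * (snd G H ≫ i)).left w ∈ Set.range i.left := by
  obtain ⟨y, hy⟩ := hw
  obtain ⟨q, hq, -⟩ := Scheme.Pullback.exists_preimage_pullback (f := (fst G H).left)
    (g := i.left) w y hy.symm
  let P : Over (Spec (CommRingCat.of K)) :=
    Over.mk (pullback.fst (fst G H).left i.left ≫ (G ⊗ H).hom)
  let a : P ⟶ G ⊗ H := Over.homMk (pullback.fst (fst G H).left i.left) rfl
  have hb : pullback.snd (fst G H).left i.left ≫ H.hom = P.hom := by
    change _ = pullback.fst (fst G H).left i.left ≫ (G ⊗ H).hom
    rw [← Over.w i, ← Category.assoc, ← pullback.condition, Category.assoc, Over.w (fst G H)]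
  let b : P ⟶ H := Over.homMk (pullback.snd (fst G H).left i.left) hb
  have hab : a ≫ fst G H = b ≫ i := Over.OverMorphism.ext pullback.condition
  have h1 : a ≫ (fst G H * (snd G H ≫ i)) = (b * (a ≫ snd G H)) ≫ i := by
    rw [MonObj.comp_mul, hab, MonObj.mul_comp, Category.assoc]
  refine ⟨(b * (a ≫ snd G H)).left q, ?_⟩
  have h3 := congrArg (fun f => f.left q) h1
  rw [← hq]
  exact h3.symm

/-- `C · U ⊆ C` for the closure `C` of the image `U` of a homomorphism. -/
theorem closure_mul_range (w : (G ⊗ H).left)
    (hw : (fst G H).left w ∈ closure (Set.range i.left)) :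
    (fst G H * (snd G H ≫ i)).left w ∈ closure (Set.range i.left) := by
  let σ : G ⊗ H ⟶ G ⊗ H := lift (fst G H * (snd G H ≫ i)) (snd G H)
  have hσ : σ ≫ fst G H = fst G H * (snd G H ≫ i) := lift_fst _ _
  haveI : UniversallyOpen H.hom := inferInstance
  haveI : UniversallyOpen (fst G H).left := by
    rw [Over.fst_left]
    infer_instance
  have hpre := (fst G H).left.isOpenMap.preimage_closure_eq_closure_preimage
    (fst G H).left.continuous (Set.range i.left)
  have hw' : w ∈ closure ((fst G H).left ⁻¹' Set.range i.left) := by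
    rw [← hpre]
    exact hw
  have h1 : σ.left w ∈ closure (σ.left '' ((fst G H).left ⁻¹' Set.range i.left)) :=
    image_closure_subset_closure_image σ.left.continuous ⟨w, hw', rfl⟩
  have h2 : σ.left '' ((fst G H).left ⁻¹' Set.range i.left) ⊆
      (fst G H).left ⁻¹' Set.range i.left := by
    rintro _ ⟨w', hw'', rfl⟩
    have h3 := mul_mem_range i w' hw''
    rw [← hσ] at h3
    exact h3
  have h4 := closure_mono h2 h1
  rw [← hpre] at h4
  have h5 : (fst G H).left (σ.left w) = (σ ≫ fst G H).left w := rfl
  have h6 : (fst G H).left (σ.left w) ∈ closure (Set.range i.left) := h4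
  rw [h5, hσ] at h6
  exact h6

/-- the translate of `U` by a point of `C` lies in `C`. -/
theorem range_translMap_subset_closure (z : T ⟶ G)
    (hz : ∀ t : T.left, z.left t ∈ closure (Set.range i.left)) :
    Set.range (translMap i z).left ⊆ closure (Set.range i.left) := by
  rintro _ ⟨w', rfl⟩
  have h1 : translMap i z = (z ▷ H) ≫ (fst G H * (snd G H ≫ i)) := by
    rw [MonObj.comp_mul, ← Category.assoc, whiskerRight_fst, whiskerRight_snd]
    rfl
  rw [h1]
  change (fst G H * (snd G H ≫ i)).left ((z ▷ H).left w') ∈ closure (Set.range i.left)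
  apply closure_mul_range
  have h2 : (fst G H).left ((z ▷ H).left w') = ((z ▷ H) ≫ fst G H).left w' := rfl
  rw [h2, whiskerRight_fst]
  exact hz _

/-- the inverse preserves `C`. -/
theorem inv_mem_closure (g : G.left) (hg : g ∈ closure (Set.range i.left)) :
    (ι[G]).left g ∈ closure (Set.range i.left) := by
  have h1 : Set.range i.left ⊆ (ι[G]).left ⁻¹' closure (Set.range i.left) := by
    rintro _ ⟨y, rfl⟩
    apply subset_closure
    refine ⟨(ι[H]).left y, ?_⟩
    have h2 := congrArg (fun f => f.left y) (GrpObj.inv_hom i)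
    exact h2
  exact closure_minimal h1 (isClosed_closure.preimage (ι[G]).left.continuous) hg

/-- translation by a point of `C` preserves `C`. -/
theorem transl_mem_closure (y : T ⟶ G)
    (hy : ∀ t : T.left, y.left t ∈ closure (Set.range i.left)) (w : (T ⊗ G).left)
    (hw : (snd T G).left w ∈ closure (Set.range i.left)) :
    (snd T G).left ((transl y).left w) ∈ closure (Set.range i.left) := by
  haveI : UniversallyOpen T.hom := inferInstance
  haveI : UniversallyOpen (snd T G).left := by
    rw [Over.snd_left]
    infer_instance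
  have hpre := (snd T G).left.isOpenMap.preimage_closure_eq_closure_preimage
    (snd T G).left.continuous (Set.range i.left)
  have hw' : w ∈ closure ((snd T G).left ⁻¹' Set.range i.left) := by
    rw [← hpre]
    exact hw
  have h1 : (transl y).left w ∈
      closure ((transl y).left '' ((snd T G).left ⁻¹' Set.range i.left)) :=
    image_closure_subset_closure_image (transl y).left.continuous ⟨w, hw', rfl⟩
  have h2 : (transl y).left '' ((snd T G).left ⁻¹' Set.range i.left) ⊆
      (snd T G).left ⁻¹' closure (Set.range i.left) := by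
    rintro _ ⟨w₀, hw₀, rfl⟩
    rw [← range_whiskerLeft] at hw₀
    obtain ⟨w', rfl⟩ := hw₀
    apply range_translMap_subset_closure i y hy
    refine ⟨w', ?_⟩
    rw [translMap_eq]
    rfl
  exact closure_minimal h2 (isClosed_closure.preimage (snd T G).left.continuous) h1

/-- **a homomorphism of group schemes over a field with locally closed image has closed image.** -/
theorem isClosed_range_of_isLocallyClosed (hlc : IsLocallyClosed (Set.range i.left)) :
    IsClosed (Set.range i.left) := by
  rw [← closure_subset_iff_isClosed]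
  intro x hxC
  by_contra hxU
  have hVo : IsOpen (coborder (Set.range i.left)) := hlc.isOpen_coborder
  have hUV : Set.range i.left ⊆ coborder (Set.range i.left) := subset_coborder
  have hCV : closure (Set.range i.left) ∩ coborder (Set.range i.left) = Set.range i.left :=
    closure_inter_coborder
  let T : Over (Spec (CommRingCat.of K)) := Over.mk (G.left.fromSpecResidueField x ≫ G.hom)
  let zt : T ⟶ G := Over.homMk (G.left.fromSpecResidueField x) rfl
  have hzt : ∀ t : T.left, zt.left t = x := by
    intro t
    have h1 : zt.left t ∈ Set.range (G.left.fromSpecResidueField x) := ⟨t, rfl⟩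
    rw [Scheme.range_fromSpecResidueField] at h1
    exact h1
  have hy : ∀ t : T.left, (zt⁻¹).left t ∈ closure (Set.range i.left) := by
    intro t
    have h1 : (zt⁻¹).left t = (ι[G]).left (zt.left t) := rfl
    rw [h1, hzt]
    exact inv_mem_closure i x hxC
  -- the open neighbourhood `x · V`
  have hWo := isOpen_translate zt (coborder (Set.range i.left)) hVo
  obtain ⟨t⟩ : Nonempty T.left :=
    (inferInstance : Nonempty (PrimeSpectrum (G.left.residueField x)))
  have hxW : x ∈ (snd T G).left '' ((transl zt).left ''
      ((snd T G).left ⁻¹' coborder (Set.range i.left))) := by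
    let s : T ⟶ T ⊗ G := lift (𝟙 T) (toUnit T ≫ η[G])
    refine ⟨(transl zt).left (s.left t), ⟨s.left t, ?_, rfl⟩, ?_⟩
    · apply hUV
      refine ⟨(toUnit T ≫ η[H]).left t, ?_⟩
      have h1 : (toUnit T ≫ η[H]) ≫ i = s ≫ snd T G := by
        rw [lift_snd, Category.assoc, IsMonHom.one_hom]
      exact congrArg (fun f => f.left t) h1
    · have h1 : s ≫ transl zt ≫ snd T G = zt := by
        rw [transl_snd, MonObj.comp_mul, ← Category.assoc, lift_fst, lift_snd, Category.id_comp,
          ← Hom.one_def, _root_.mul_one]
      exact (congrArg (fun f => f.left t) h1).trans (hzt t)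
  obtain ⟨u, ⟨_, ⟨w, hwV, rfl⟩, rfl⟩, huU⟩ := mem_closure_iff.mp hxC _ hWo hxW
  -- `p w ∈ C`
  have h1 := transl_mem_closure i (zt⁻¹) hy ((transl zt).left w) (subset_closure huU)
  have h2 : (transl zt⁻¹).left ((transl zt).left w) = w := by
    have h3 : transl zt ≫ transl zt⁻¹ = 𝟙 _ := by
      rw [transl_comp, inv_mul_cancel, transl_one]
    exact congrArg (fun f => f.left w) h3
  rw [h2] at h1
  have h4 : (snd T G).left w ∈ Set.range i.left := by
    rw [← hCV]
    exact ⟨h1, hwV⟩
  rw [← Set.mem_preimage, ← range_whiskerLeft] at h4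
  obtain ⟨w', rfl⟩ := h4
  have h5 : (translMap i zt).left w' ∈ Set.range i.left := by
    rw [translMap_eq]
    exact huU
  obtain ⟨t', ht'⟩ := exists_mem_range_of_translMap i zt w' h5
  rw [hzt] at ht'
  exact hxU ht'

end Closure

end Groth.Agent.Lib.Helper10.GrpTranslate
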