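import Mathlib
import Groth.Prelude.Def_AlgGrp
import Groth.Agent.Lib.Helper1.GrpAct
import Groth.Agent.Lib.Helper10.GrpTranslate

/-!
# Homogeneous spaces under group schemes over a field (SGA3 VI_A 2.6), part 1:
point calculus for actions, relative orbit maps, pullback squares
-/

set_option autoImplicit false
set_option backward.isDefEq.respectTransparency.types false
set_option maxHeartbeats 4000000
set_option synthInstance.maxHeartbeats 400000

universe u

open CategoryTheory CategoryTheory.Limits AlgebraicGeometry MonoidalCategory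
  CartesianMonoidalCategory MonObj GrpObj

namespace Groth.Agent.Lib.Helper10.HomSp

open Groth.Agent.Lib.Helper10.GrpTranslate

section Cat

variable {C : Type*} [Category C]

/-- a square is a pullback as soon as generalized points lift uniquely. -/
theorem isPullback_of_lift {P X Y Z : C} (p₁ : P ⟶ X) (p₂ : P ⟶ Y) (f : X ⟶ Z) (g : Y ⟶ Z)
    (w : p₁ ≫ f = p₂ ≫ g)
    (l : ∀ {W : C} (α : W ⟶ X) (β : W ⟶ Y), α ≫ f = β ≫ g → (W ⟶ P))
    (h1 : ∀ {W : C} (α : W ⟶ X) (β : W ⟶ Y) (h : α ≫ f = β ≫ g), l α β h ≫ p₁ = α)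
    (h2 : ∀ {W : C} (α : W ⟶ X) (β : W ⟶ Y) (h : α ≫ f = β ≫ g), l α β h ≫ p₂ = β)
    (hu : ∀ {W : C} (m m' : W ⟶ P), m ≫ p₁ = m' ≫ p₁ → m ≫ p₂ = m' ≫ p₂ → m = m') :
    IsPullback p₁ p₂ f g :=
  ⟨⟨w⟩, ⟨PullbackCone.IsLimit.mk _ (fun s => l s.fst s.snd s.condition)
    (fun s => h1 _ _ _) (fun s => h2 _ _ _)
    (fun s m e1 e2 => hu _ _ (e1.trans (h1 _ _ _).symm) (e2.trans (h2 _ _ _).symm))⟩⟩

variable [CartesianMonoidalCategory C]

theorem isPullback_whiskerRight_fst {T₁ T : C} (f : T₁ ⟶ T) (A : C) :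
    IsPullback (f ▷ A) (fst T₁ A) (fst T A) f :=
  isPullback_of_lift _ _ _ _ (by simp)
    (fun α β _ => lift β (α ≫ snd T A))
    (fun α β h => by
      apply CartesianMonoidalCategory.hom_ext
      · simp [h]
      · simp)
    (fun α β h => by simp)
    (fun m m' e1 e2 => by
      apply CartesianMonoidalCategory.hom_ext
      · exact e2
      · have := congrArg (fun φ => φ ≫ snd T A) e1
        simpa using this)

theorem isPullback_whiskerLeft_snd (T : C) {A A' : C} (f : A ⟶ A') :
    IsPullback (T ◁ f) (snd T A) (snd T A') f :=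
  isPullback_of_lift _ _ _ _ (by simp)
    (fun α β _ => lift (α ≫ fst T A') β)
    (fun α β h => by
      apply CartesianMonoidalCategory.hom_ext
      · simp
      · simp [h])
    (fun α β h => by simp)
    (fun m m' e1 e2 => by
      apply CartesianMonoidalCategory.hom_ext
      · have := congrArg (fun φ => φ ≫ fst T A') e1
        simpa using this
      · exact e2)

end Cat

section Act

variable {B : Scheme.{u}} {G X : Over B} [GrpObj G] (a : AlgGrp.Action G X)

/-- the action on `T`-points. -/
noncomputable def smul {T : Over B} (g : T ⟶ G) (x : T ⟶ X) : T ⟶ X := lift g x ≫ a.act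

theorem one_smul {T : Over B} (x : T ⟶ X) : smul a (1 : T ⟶ G) x = x :=
  Groth.Agent.Lib.Helper1.GrpAct.one_smul' a.act a.one_act x

theorem mul_smul {T : Over B} (g h : T ⟶ G) (x : T ⟶ X) :
    smul a (g * h) x = smul a g (smul a h x) :=
  Groth.Agent.Lib.Helper1.GrpAct.mul_smul' a.act a.mul_act g h x

theorem comp_smul {T T' : Over B} (t : T' ⟶ T) (g : T ⟶ G) (x : T ⟶ X) :
    t ≫ smul a g x = smul a (t ≫ g) (t ≫ x) := by
  unfold smul
  rw [← Category.assoc, comp_lift]

theorem smul_fst_snd : smul a (fst G X) (snd G X) = a.act := by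
  unfold smul
  rw [lift_fst_snd, Category.id_comp]

theorem inv_smul_smul {T : Over B} (g : T ⟶ G) (x : T ⟶ X) :
    smul a g⁻¹ (smul a g x) = x := by
  rw [← mul_smul, inv_mul_cancel, one_smul]

theorem smul_inv_smul {T : Over B} (g : T ⟶ G) (x : T ⟶ X) :
    smul a g (smul a g⁻¹ x) = x := by
  rw [← mul_smul, mul_inv_cancel, one_smul]

variable {T T₁ : Over B}

/-- the action of a `T`-point of `G` on `T ⊗ X`. -/
noncomputable def actT (g : T ⟶ G) : T ⊗ X ⟶ T ⊗ X :=
  lift (fst T X) (smul a (fst T X ≫ g) (snd T X))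

@[simp] theorem actT_fst (g : T ⟶ G) : actT a g ≫ fst T X = fst T X := lift_fst _ _

theorem actT_snd (g : T ⟶ G) : actT a g ≫ snd T X = smul a (fst T X ≫ g) (snd T X) :=
  lift_snd _ _

theorem actT_comp (g h : T ⟶ G) : actT a g ≫ actT a h = actT a (h * g) := by
  apply CartesianMonoidalCategory.hom_ext
  · rw [Category.assoc, actT_fst, actT_fst, actT_fst]
  · rw [Category.assoc, actT_snd, comp_smul, ← Category.assoc, actT_fst, actT_snd, actT_snd,
      ← mul_smul, MonObj.comp_mul]

theorem actT_one : actT a (1 : T ⟶ G) = 𝟙 (T ⊗ X) := by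
  apply CartesianMonoidalCategory.hom_ext
  · rw [actT_fst, Category.id_comp]
  · rw [actT_snd, MonObj.comp_one, one_smul, Category.id_comp]

instance (g : T ⟶ G) : IsIso (actT a g) :=
  ⟨⟨actT a g⁻¹, by rw [actT_comp, inv_mul_cancel, actT_one],
    by rw [actT_comp, mul_inv_cancel, actT_one]⟩⟩

theorem actT_snd_eq (g : T ⟶ G) : actT a g ≫ snd T X = (g ▷ X) ≫ a.act := by
  have h : lift (fst T X ≫ g) (snd T X) = g ▷ X := by
    apply CartesianMonoidalCategory.hom_ext <;> simp
  rw [actT_snd]
  unfold smul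
  rw [h]

/-- the orbit map of a `T`-point of `X`. -/
noncomputable def orb (y : T ⟶ X) : T ⊗ G ⟶ T ⊗ X :=
  lift (fst T G) (smul a (snd T G) (fst T G ≫ y))

@[simp] theorem orb_fst (y : T ⟶ X) : orb a y ≫ fst T X = fst T G := lift_fst _ _

theorem orb_snd (y : T ⟶ X) : orb a y ≫ snd T X = smul a (snd T G) (fst T G ≫ y) :=
  lift_snd _ _

theorem lift_orb {W : Over B} (p : W ⟶ T) (g : W ⟶ G) (y : T ⟶ X) :
    lift p g ≫ orb a y = lift p (smul a g (p ≫ y)) := by
  apply CartesianMonoidalCategory.hom_ext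
  · rw [Category.assoc, orb_fst, lift_fst, lift_fst]
  · rw [Category.assoc, orb_snd, comp_smul, lift_snd, lift_snd, ← Category.assoc, lift_fst]

/-- `transl z ≫ orb y = orb y ≫ actT z`. -/
theorem transl_orb (z : T ⟶ G) (y : T ⟶ X) : transl z ≫ orb a y = orb a y ≫ actT a z := by
  apply CartesianMonoidalCategory.hom_ext
  · rw [Category.assoc, Category.assoc, orb_fst, actT_fst, transl_fst, orb_fst]
  · rw [Category.assoc, Category.assoc, orb_snd, actT_snd, comp_smul, comp_smul, transl_snd,
      ← Category.assoc, transl_fst, mul_smul, ← Category.assoc, orb_fst, orb_snd]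

/-- naturality of the orbit map in `T`. -/
theorem orb_whiskerRight (f : T₁ ⟶ T) (y : T ⟶ X) :
    orb a (f ≫ y) ≫ (f ▷ X) = (f ▷ G) ≫ orb a y := by
  apply CartesianMonoidalCategory.hom_ext
  · rw [Category.assoc, Category.assoc, whiskerRight_fst, orb_fst, ← Category.assoc, orb_fst,
      whiskerRight_fst]
  · rw [Category.assoc, Category.assoc, whiskerRight_snd, orb_snd, orb_snd, comp_smul,
      whiskerRight_snd, ← Category.assoc (f ▷ G), whiskerRight_fst, Category.assoc]

/-- the orbit maps for `T₁ → T` form a pullback square. -/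
theorem isPullback_orb (f : T₁ ⟶ T) (y : T ⟶ X) :
    IsPullback (f ▷ G) (orb a (f ≫ y)) (orb a y) (f ▷ X) := by
  have h1 : IsPullback (orb a (f ≫ y) ≫ fst T₁ X) (f ▷ G) f (orb a y ≫ fst T X) := by
    rw [orb_fst, orb_fst]
    exact (isPullback_whiskerRight_fst f G).flip
  exact (IsPullback.of_right h1 (orb_whiskerRight a f y) (isPullback_whiskerRight_fst f X).flip).flip

/-- the orbit map of a `T`-point is a base change of `(g, x) ↦ (g x, x)`. -/
theorem isPullback_orb_shear (y : T ⟶ X) :
    IsPullback (orb a y) (lift (snd T G) (fst T G ≫ y)) (lift (snd T X) (fst T X ≫ y))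
      (lift a.act (snd G X)) := by
  refine isPullback_of_lift _ _ _ _ ?_
    (fun α β _ => lift (α ≫ fst T X) (β ≫ fst G X)) ?_ ?_ ?_
  · apply CartesianMonoidalCategory.hom_ext
    · rw [Category.assoc, Category.assoc, lift_fst, lift_fst, orb_snd]
      unfold smul
      rfl
    · rw [Category.assoc, Category.assoc, lift_snd, lift_snd, ← Category.assoc, orb_fst,
        lift_snd]
  · intro W α β h
    have c1 : α ≫ snd T X = β ≫ a.act := by
      have := congrArg (fun φ => φ ≫ fst X X) h
      simpa using this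
    have c2 : α ≫ fst T X ≫ y = β ≫ snd G X := by
      have := congrArg (fun φ => φ ≫ snd X X) h
      simpa using this
    rw [lift_orb]
    apply CartesianMonoidalCategory.hom_ext
    · rw [lift_fst]
    · rw [lift_snd, Category.assoc, c2, ← comp_smul, smul_fst_snd, c1]
  · intro W α β h
    have c2 : α ≫ fst T X ≫ y = β ≫ snd G X := by
      have := congrArg (fun φ => φ ≫ snd X X) h
      simpa using this
    apply CartesianMonoidalCategory.hom_ext
    · rw [Category.assoc, lift_fst, lift_snd]
    · rw [Category.assoc, lift_snd, ← Category.assoc, lift_fst, Category.assoc, c2]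
  · intro W m m' e1 e2
    apply CartesianMonoidalCategory.hom_ext
    · have := congrArg (fun φ => φ ≫ fst T X) e1
      simpa using this
    · have := congrArg (fun φ => φ ≫ fst G X) e2
      simpa using this

/-- the action of `G` on `T ⊗ X` through the second factor. -/
noncomputable def actR (T : Over B) : G ⊗ (T ⊗ X) ⟶ T ⊗ X :=
  lift (snd G (T ⊗ X) ≫ fst T X) (smul a (fst G (T ⊗ X)) (snd G (T ⊗ X) ≫ snd T X))

theorem actR_unit (T : Over B) :
    lift (toUnit (T ⊗ X) ≫ η[G]) (𝟙 (T ⊗ X)) ≫ actR a T = 𝟙 (T ⊗ X) := by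
  unfold actR
  apply CartesianMonoidalCategory.hom_ext
  · rw [Category.assoc, lift_fst, ← Category.assoc, lift_snd, Category.id_comp]
  · rw [Category.assoc, lift_snd, comp_smul, lift_fst, ← Category.assoc, lift_snd,
      Category.id_comp, ← Hom.one_def, one_smul]

theorem orb_eq_actR (y : T ⟶ X) :
    orb a y = lift (snd T G) (fst T G ≫ lift (𝟙 T) y) ≫ actR a T := by
  unfold actR
  apply CartesianMonoidalCategory.hom_ext
  · rw [Category.assoc, lift_fst, ← Category.assoc, lift_snd, Category.assoc, lift_fst,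
      Category.comp_id, orb_fst]
  · rw [Category.assoc, lift_snd, comp_smul, lift_fst, ← Category.assoc, lift_snd,
      Category.assoc, lift_snd, orb_snd]

end Act

end Groth.Agent.Lib.Helper10.HomSp
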