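import Mathlib

/-!
# Clopen loci of fpqc-local properties of base changes

An abstract statement: if a property `Pr g` of morphisms `g : T ⟶ S` is stable under
precomposition, descends along flat surjective quasi-compact morphisms and is Zariski local on
`T`, and if fpqc locally on `S` it is "locally constant", then the locus of points `s` with
`Pr (Spec κ(s) ⟶ S)` is open and closed and `Pr` holds for its inclusion.
-/

set_option autoImplicit false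
set_option backward.isDefEq.respectTransparency.types false
set_option maxHeartbeats 4000000
set_option synthInstance.maxHeartbeats 400000
universe u
open CategoryTheory CategoryTheory.Limits AlgebraicGeometry

namespace Groth.Agent.Lib.Helper10.FpqcLocus

/-- refinement of an fpqc covering over an affine open by a single flat surjective quasi-compact
morphism. -/
theorem exists_fpqc_refinement {S₀ S' : Scheme.{u}} (c : S' ⟶ S₀) [Flat c]
    (hfpqc : ∀ V : S₀.Opens, IsAffineOpen V → ∃ W : S'.Opens, IsCompact (W : Set S') ∧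
      c.base '' (W : Set S') = (V : Set S₀))
    (V₀ : S₀.Opens) (hV₀ : IsAffineOpen V₀) :
    ∃ (Sg : Scheme.{u}) (σ : Sg ⟶ S') (c₀ : Sg ⟶ V₀.toScheme), c₀ ≫ V₀.ι = σ ≫ c ∧ Flat c₀ ∧
      Surjective c₀ ∧ QuasiCompact c₀ := by
  haveI : IsAffine V₀.toScheme := hV₀
  obtain ⟨W, hWc, hWim⟩ := hfpqc V₀ hV₀
  obtain ⟨s, hsfin, hWs⟩ := isCompact_iff_finite_and_eq_biUnion_affineOpens.1 hWc
  haveI : Finite s := hsfin
  let g : s → Scheme.{u} := fun k => (k.1.1 : Scheme.{u})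
  haveI : ∀ k, IsAffine (g k) := fun k => k.1.2
  let σ : ∐ g ⟶ S' := Sigma.desc fun k => k.1.1.ι
  have hkW : ∀ k : s, k.1.1 ≤ W := by
    intro k
    rw [hWs]
    exact le_iSup₂_of_le k.1 k.2 le_rfl
  have hrange : ∀ k : s, Set.range (k.1.1.ι ≫ c) ⊆ Set.range V₀.ι := by
    rintro k _ ⟨z, rfl⟩
    rw [Scheme.Opens.range_ι, ← hWim]
    exact ⟨k.1.1.ι z, hkW k z.2, rfl⟩
  let c₀ : ∐ g ⟶ V₀.toScheme :=
    Sigma.desc fun k => IsOpenImmersion.lift V₀.ι (k.1.1.ι ≫ c) (hrange k)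
  have hc₀ : c₀ ≫ V₀.ι = σ ≫ c := by
    refine Sigma.hom_ext _ _ (fun k => ?_)
    simp only [c₀, σ, Sigma.ι_desc_assoc, IsOpenImmersion.lift_fac]
  haveI : Flat c₀ := by
    refine IsZariskiLocalAtSource.sigmaDesc (fun k => ?_)
    refine MorphismProperty.of_postcomp (W := @Flat) (W' := @IsOpenImmersion) _ V₀.ι
      inferInstance ?_
    rw [IsOpenImmersion.lift_fac]
    infer_instance
  haveI : Surjective c₀ := by
    refine ⟨fun v => ?_⟩
    have hv : V₀.ι v ∈ c.base '' (W : Set S') := by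
      rw [hWim]
      exact v.2
    obtain ⟨w, hwW, hw⟩ := hv
    have hw' : w ∈ ⨆ i ∈ s, (i : S'.Opens) := hWs ▸ hwW
    simp only [TopologicalSpace.Opens.mem_iSup] at hw'
    obtain ⟨k, hk, hwk⟩ := hw'
    let s'' : ↥(∐ g) := Sigma.ι g ⟨k, hk⟩ ⟨w, hwk⟩
    have hs'' : σ s'' = w := by
      change (Sigma.ι g ⟨k, hk⟩ ≫ σ) ⟨w, hwk⟩ = w
      simp only [σ, Sigma.ι_desc]
      rfl
    refine ⟨s'', ?_⟩
    apply V₀.ι.isOpenEmbedding.injective
    change (c₀ ≫ V₀.ι) s'' = V₀.ι v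
    rw [hc₀]
    change c (σ s'') = V₀.ι v
    rw [hs'', hw]
  exact ⟨∐ g, σ, c₀, hc₀, inferInstance, inferInstance, inferInstance⟩

/-- an fpqc covering is a topological quotient map (in the sense needed here). -/
theorem isOpen_of_isOpen_preimage {S₀ S' : Scheme.{u}} (c : S' ⟶ S₀) [Flat c]
    (hfpqc : ∀ V : S₀.Opens, IsAffineOpen V → ∃ W : S'.Opens, IsCompact (W : Set S') ∧
      c.base '' (W : Set S') = (V : Set S₀))
    (Z : Set S₀) (hZ : IsOpen (c.base ⁻¹' Z)) : IsOpen Z := by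
  rw [isOpen_iff_forall_mem_open]
  intro x hx
  obtain ⟨(V₀ : S₀.Opens), hV₀, hxV₀, -⟩ :=
    TopologicalSpace.Opens.isBasis_iff_nbhd.mp S₀.isBasis_affineOpens
      (TopologicalSpace.Opens.mem_top x)
  obtain ⟨Sg, σ, c₀, hc₀, hfl, hsurj, hqc⟩ := exists_fpqc_refinement c hfpqc V₀ hV₀
  have hq : Topology.IsQuotientMap c₀.base := Flat.isQuotientMap_of_surjective c₀
  have h1 : IsOpen (c₀.base ⁻¹' (V₀.ι.base ⁻¹' Z)) := by
    have : c₀.base ⁻¹' (V₀.ι.base ⁻¹' Z) = σ.base ⁻¹' (c.base ⁻¹' Z) := by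
      ext z
      change (c₀ ≫ V₀.ι) z ∈ Z ↔ (σ ≫ c) z ∈ Z
      rw [hc₀]
    rw [this]
    exact hZ.preimage σ.continuous
  have h2 : IsOpen (V₀.ι.base ⁻¹' Z) := hq.isOpen_preimage.mp h1
  refine ⟨V₀.ι.base '' (V₀.ι.base ⁻¹' Z), ?_, V₀.ι.isOpenEmbedding.isOpenMap _ h2,
    ⟨⟨x, hxV₀⟩, hx, rfl⟩⟩
  rintro _ ⟨z, hz, rfl⟩
  exact hz

/-- `Spec` of a homomorphism of fields is flat, surjective and quasi-compact. -/
theorem fieldHom_props {K L : CommRingCat.{u}} (hK : IsField K) (hL : IsField L) (φ : K ⟶ L) :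
    Flat (Spec.map φ) ∧ Surjective (Spec.map φ) ∧ QuasiCompact (Spec.map φ) := by
  refine ⟨?_, ?_, inferInstance⟩
  · rw [HasRingHomProperty.Spec_iff (P := @Flat)]
    letI : Field K := hK.toField
    algebraize [φ.hom]
    change (algebraMap K L).Flat
    rw [RingHom.flat_algebraMap_iff]
    infer_instance
  · refine ⟨fun y => ?_⟩
    haveI : Nontrivial L := hL.nontrivial
    obtain ⟨x⟩ : Nonempty (PrimeSpectrum L) := inferInstance
    refine ⟨x, ?_⟩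
    have hbot : ∀ y : PrimeSpectrum K, y.asIdeal = ⊥ := by
      intro y
      rw [eq_bot_iff]
      intro a ha
      by_contra ha0
      obtain ⟨b, hb⟩ := hK.mul_inv_cancel (show a ≠ 0 from ha0)
      exact y.isPrime.ne_top ((Ideal.eq_top_iff_one _).mpr (hb ▸ y.asIdeal.mul_mem_right b ha))
    have hy : ∀ y y' : PrimeSpectrum K, y = y' := by
      intro y y'
      ext1
      rw [hbot y, hbot y']
    exact hy _ _

variable {S : Scheme.{u}}

/-- the axioms on a property of morphisms into `S`. -/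
structure IsLocalBC (Pr : ∀ ⦃T : Scheme.{u}⦄, (T ⟶ S) → Prop) : Prop where
  comp : ∀ ⦃T T' : Scheme.{u}⦄ (b : T' ⟶ T) (g : T ⟶ S), Pr g → Pr (b ≫ g)
  descent : ∀ ⦃T T' : Scheme.{u}⦄ (r : T' ⟶ T) (g : T ⟶ S), Flat r → Surjective r →
    QuasiCompact r → Pr (r ≫ g) → Pr g
  loc : ∀ ⦃T : Scheme.{u}⦄ (g : T ⟶ S), (∀ z : T, ∃ (Z : Scheme.{u}) (i : Z ⟶ T),
    IsOpenImmersion i ∧ z ∈ Set.range i ∧ Pr (i ≫ g)) → Pr g

variable {Pr : ∀ ⦃T : Scheme.{u}⦄, (T ⟶ S) → Prop}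

/-- if `Pr` holds over `T` it holds at the points of `T`. -/
theorem IsLocalBC.at_point (hPr : IsLocalBC Pr) {T : Scheme.{u}} (g : T ⟶ S) (hg : Pr g) (t : T) :
    Pr (S.fromSpecResidueField (g t)) := by
  have h1 : Pr (T.fromSpecResidueField t ≫ g) := hPr.comp _ _ hg
  rw [← Scheme.Hom.SpecMap_residueFieldMap_fromSpecResidueField g t] at h1
  obtain ⟨hfl, hsurj, hqc⟩ := fieldHom_props (Field.toIsField _) (Field.toIsField _)
    (g.residueFieldMap t)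
  exact hPr.descent _ _ hfl hsurj hqc h1

/-- **the locus where a locally constant fpqc-local property holds is open and closed.** -/
theorem clopen_locus (hPr : IsLocalBC Pr) {S' : Scheme.{u}} (c : S' ⟶ S) [Flat c]
    (hfpqc : ∀ V : S.Opens, IsAffineOpen V → ∃ W : S'.Opens, IsCompact (W : Set S') ∧
      c.base '' (W : Set S') = (V : Set S))
    (hloc : ∀ t : S', ∃ W : S'.Opens, t ∈ W ∧
      (Pr (W.ι ≫ c) ∨ ∀ w ∈ W, ¬ Pr (S.fromSpecResidueField (c w)))) :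
    ∃ U : S.Opens, IsClosed (U : Set S) ∧ (∀ s, s ∈ U ↔ Pr (S.fromSpecResidueField s)) ∧
      Pr U.ι := by
  let E : Set S := {s | Pr (S.fromSpecResidueField s)}
  have hA : ∀ W : S'.Opens, Pr (W.ι ≫ c) → ∀ w ∈ W, c w ∈ E := by
    intro W hW w hw
    exact hPr.at_point (W.ι ≫ c) hW ⟨w, hw⟩
  have hE1 : IsOpen (c.base ⁻¹' E) := by
    rw [isOpen_iff_forall_mem_open]
    intro t ht
    obtain ⟨W, htW, hW | hW⟩ := hloc t
    · exact ⟨W, fun w hw => hA W hW w hw, W.2, htW⟩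
    · exact absurd ht (hW t htW)
  have hE2 : IsOpen (c.base ⁻¹' Eᶜ) := by
    rw [isOpen_iff_forall_mem_open]
    intro t ht
    obtain ⟨W, htW, hW | hW⟩ := hloc t
    · exact absurd (hA W hW t htW) ht
    · exact ⟨W, fun w hw => hW w hw, W.2, htW⟩
  have hEo : IsOpen E := isOpen_of_isOpen_preimage c hfpqc E hE1
  have hEc : IsClosed E := ⟨isOpen_of_isOpen_preimage c hfpqc Eᶜ hE2⟩
  refine ⟨⟨E, hEo⟩, hEc, fun s => Iff.rfl, ?_⟩
  let U : S.Opens := ⟨E, hEo⟩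
  refine hPr.loc U.ι (fun z => ?_)
  obtain ⟨(V₀ : S.Opens), hV₀, hzV₀, hV₀U⟩ :=
    TopologicalSpace.Opens.isBasis_iff_nbhd.mp S.isBasis_affineOpens (show z.1 ∈ U from z.2)
  refine ⟨V₀.toScheme, S.homOfLE hV₀U, inferInstance, ⟨⟨z.1, hzV₀⟩, ?_⟩, ?_⟩
  · apply U.ι.isOpenEmbedding.injective
    change (S.homOfLE hV₀U ≫ U.ι) ⟨z.1, hzV₀⟩ = U.ι z
    rw [Scheme.homOfLE_ι]
    rfl
  rw [Scheme.homOfLE_ι]
  obtain ⟨Sg, σ, c₀, hc₀, hfl, hsurj, hqc⟩ := exists_fpqc_refinement c hfpqc V₀ hV₀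
  refine hPr.descent c₀ V₀.ι hfl hsurj hqc ?_
  rw [hc₀]
  refine hPr.loc (σ ≫ c) (fun z' => ?_)
  have hcz : c (σ z') ∈ E := by
    have : c (σ z') = V₀.ι (c₀ z') := by
      change (σ ≫ c) z' = (c₀ ≫ V₀.ι) z'
      rw [hc₀]
    rw [this]
    exact hV₀U (c₀ z').2
  obtain ⟨W, htW, hW | hW⟩ := hloc (σ z')
  · refine ⟨(σ ⁻¹ᵁ W).toScheme, (σ ⁻¹ᵁ W).ι, inferInstance, ⟨⟨z', htW⟩, rfl⟩, ?_⟩
    have hr : Set.range ((σ ⁻¹ᵁ W).ι ≫ σ) ⊆ Set.range W.ι := by
      rintro _ ⟨y, rfl⟩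
      rw [Scheme.Opens.range_ι]
      exact y.2
    have hb : IsOpenImmersion.lift W.ι ((σ ⁻¹ᵁ W).ι ≫ σ) hr ≫ W.ι = (σ ⁻¹ᵁ W).ι ≫ σ :=
      IsOpenImmersion.lift_fac _ _ _
    rw [← Category.assoc, ← hb, Category.assoc]
    exact hPr.comp _ _ hW
  · exact absurd hcz (hW _ htW)

end Groth.Agent.Lib.Helper10.FpqcLocus
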