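import Mathlib
import Groth.Agent.Lib.Helper21.GaPts

/-!
# Base change of the scheme of homomorphisms
-/

set_option autoImplicit false
set_option backward.isDefEq.respectTransparency.types false
set_option maxHeartbeats 4000000
set_option synthInstance.maxHeartbeats 400000
universe u
open CategoryTheory CategoryTheory.Limits AlgebraicGeometry MonoidalCategory
  CartesianMonoidalCategory MonObj GrpObj

namespace Groth.Agent.Lib.Helper10.HomFamBC

open Groth.Agent.Lib.Helper21.GaPts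

/-- `φ : G ⊗ T ⟶ H` is a family of homomorphisms. -/
def IsHomFam {B : Scheme.{u}} {G H T : Over B} [GrpObj G] [GrpObj H] (φ : G ⊗ T ⟶ H) : Prop :=
  ∀ (X : Over B) (a b : X ⟶ G) (t : X ⟶ T), lift (a * b) t ≫ φ = (lift a t ≫ φ) * (lift b t ≫ φ)

theorem IsHomFam.whisker {B : Scheme.{u}} {G H T T' : Over B} [GrpObj G] [GrpObj H]
    {φ : G ⊗ T ⟶ H} (hφ : IsHomFam φ) (v : T' ⟶ T) : IsHomFam ((G ◁ v) ≫ φ) := by
  intro X a b t
  simp only [← Category.assoc, lift_whiskerLeft]
  exact hφ X a b (t ≫ v)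

variable {S U : Scheme.{u}} (g : U ⟶ S)

section Transpose

/-- the transpose of a point of the base change. -/
noncomputable def tr {X : Over U} {Y : Over S} (x : X ⟶ Red.bc g Y) : (Over.map g).obj X ⟶ Y :=
  Over.homMk (x.left ≫ pullback.fst Y.hom g) (by
    have h := Over.w x
    change x.left ≫ pullback.snd Y.hom g = X.hom at h
    change (x.left ≫ pullback.fst Y.hom g) ≫ Y.hom = X.hom ≫ g
    rw [Category.assoc, pullback.condition, ← Category.assoc, h])

noncomputable def trInv {X : Over U} {Y : Over S} (y : (Over.map g).obj X ⟶ Y) : X ⟶ Red.bc g Y :=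
  Over.homMk (pullback.lift y.left X.hom (Over.w y)) (pullback.lift_snd _ _ _)

@[simp] theorem tr_left {X : Over U} {Y : Over S} (x : X ⟶ Red.bc g Y) :
    (tr g x).left = x.left ≫ pullback.fst Y.hom g := rfl

theorem tr_trInv {X : Over U} {Y : Over S} (y : (Over.map g).obj X ⟶ Y) : tr g (trInv g y) = y := by
  apply Over.OverMorphism.ext
  exact pullback.lift_fst _ _ _

theorem trInv_tr {X : Over U} {Y : Over S} (x : X ⟶ Red.bc g Y) : trInv g (tr g x) = x := by
  apply Over.OverMorphism.ext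
  apply pullback.hom_ext
  · exact pullback.lift_fst _ _ _
  · have h := Over.w x
    change x.left ≫ pullback.snd Y.hom g = X.hom at h
    rw [h]
    exact pullback.lift_snd _ _ _

theorem tr_injective {X : Over U} {Y : Over S} {x x' : X ⟶ Red.bc g Y} (h : tr g x = tr g x') :
    x = x' := by
  rw [← trInv_tr g x, ← trInv_tr g x', h]

theorem tr_comp {X X' : Over U} {Y : Over S} (h : X' ⟶ X) (x : X ⟶ Red.bc g Y) :
    tr g (h ≫ x) = (Over.map g).map h ≫ tr g x := by
  apply Over.OverMorphism.ext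
  simp [Category.assoc]

theorem tr_comp_map {X : Over U} {Y Y' : Over S} (x : X ⟶ Red.bc g Y) (k : Y ⟶ Y') :
    tr g (x ≫ (Over.pullback g).map k) = tr g x ≫ k := by
  apply Over.OverMorphism.ext
  change (x.left ≫ ((Over.pullback g).map k).left) ≫ pullback.fst Y'.hom g =
    (x.left ≫ pullback.fst Y.hom g) ≫ k.left
  rw [Category.assoc, Category.assoc]
  congr 1
  exact pullback.lift_fst _ _ _

theorem tr_mul {X : Over U} {G : Over S} [GrpObj G] (x y : X ⟶ Red.bc g G) :
    tr g (x * y) = tr g x * tr g y := by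
  apply Over.OverMorphism.ext
  rw [tr_left, bc_mul_left_fst, Hom.mul_def (tr g x) (tr g y), Over.comp_left, Over.lift_left]
  rfl

end Transpose

section Kappa

variable (G : Over S) (T : Over U)

/-- the comparison `(G_U ×_U T) ⟶ G ×_S T`. -/
noncomputable def kap : (Over.map g).obj (Red.bc g G ⊗ T) ⟶ G ⊗ (Over.map g).obj T :=
  lift (tr g (fst (Red.bc g G) T)) ((Over.map g).map (snd (Red.bc g G) T))

theorem kap_fst : kap g G T ≫ fst _ _ = tr g (fst (Red.bc g G) T) := lift_fst _ _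

theorem kap_snd : kap g G T ≫ snd _ _ = (Over.map g).map (snd (Red.bc g G) T) := lift_snd _ _

noncomputable def kapInvLeft : pullback G.hom (T.hom ≫ g) ⟶ pullback (pullback.snd G.hom g) T.hom :=
  pullback.lift
    (pullback.lift (pullback.fst G.hom (T.hom ≫ g)) (pullback.snd G.hom (T.hom ≫ g) ≫ T.hom)
      (by rw [pullback.condition, Category.assoc]))
    (pullback.snd G.hom (T.hom ≫ g)) (pullback.lift_snd _ _ _)

noncomputable def kapInv : G ⊗ (Over.map g).obj T ⟶ (Over.map g).obj (Red.bc g G ⊗ T) :=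
  Over.homMk (kapInvLeft g G T) (by
    change kapInvLeft g G T ≫ (pullback.fst (pullback.snd G.hom g) T.hom ≫ pullback.snd G.hom g) ≫ g =
      pullback.fst G.hom (T.hom ≫ g) ≫ G.hom
    rw [kapInvLeft, ← Category.assoc, ← Category.assoc, pullback.lift_fst, pullback.lift_snd,
      Category.assoc, pullback.condition])

theorem kap_left_fst : (kap g G T).left ≫ pullback.fst G.hom (T.hom ≫ g) =
    pullback.fst (pullback.snd G.hom g) T.hom ≫ pullback.fst G.hom g := by
  have := congrArg (fun m => m.left) (kap_fst g G T)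
  exact this

theorem kap_left_snd : (kap g G T).left ≫ pullback.snd G.hom (T.hom ≫ g) =
    pullback.snd (pullback.snd G.hom g) T.hom := by
  have := congrArg (fun m => m.left) (kap_snd g G T)
  exact this

theorem kapInv_kap : kapInv g G T ≫ kap g G T = 𝟙 _ := by
  apply Over.OverMorphism.ext
  change kapInvLeft g G T ≫ (kap g G T).left = 𝟙 (pullback G.hom (T.hom ≫ g))
  refine pullback.hom_ext (f := G.hom) (g := T.hom ≫ g) ?_ ?_
  · have h1 : (kapInvLeft g G T ≫ (kap g G T).left) ≫ pullback.fst G.hom (T.hom ≫ g) =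
        kapInvLeft g G T ≫ pullback.fst (pullback.snd G.hom g) T.hom ≫ pullback.fst G.hom g := by
      rw [Category.assoc, kap_left_fst]
    rw [h1, kapInvLeft, ← Category.assoc, pullback.lift_fst, pullback.lift_fst]
    exact (Category.id_comp _).symm
  · have h1 : (kapInvLeft g G T ≫ (kap g G T).left) ≫ pullback.snd G.hom (T.hom ≫ g) =
        kapInvLeft g G T ≫ pullback.snd (pullback.snd G.hom g) T.hom := by
      rw [Category.assoc, kap_left_snd]
    rw [h1, kapInvLeft, pullback.lift_snd]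
    exact (Category.id_comp _).symm

theorem kap_kapInv : kap g G T ≫ kapInv g G T = 𝟙 _ := by
  apply Over.OverMorphism.ext
  change (kap g G T).left ≫ kapInvLeft g G T = 𝟙 (pullback (pullback.snd G.hom g) T.hom)
  refine pullback.hom_ext (f := pullback.snd G.hom g) (g := T.hom) ?_ ?_
  · refine pullback.hom_ext (f := G.hom) (g := g) ?_ ?_
    · have h1 : (((kap g G T).left ≫ kapInvLeft g G T) ≫ pullback.fst (pullback.snd G.hom g) T.hom) ≫
          pullback.fst G.hom g = (kap g G T).left ≫ pullback.fst G.hom (T.hom ≫ g) := by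
        rw [Category.assoc, Category.assoc, kapInvLeft, pullback.lift_fst_assoc, pullback.lift_fst]
      rw [h1, kap_left_fst]
      exact (congrArg (· ≫ pullback.fst G.hom g) (Category.id_comp _)).symm
    · have h1 : (((kap g G T).left ≫ kapInvLeft g G T) ≫ pullback.fst (pullback.snd G.hom g) T.hom) ≫
          pullback.snd G.hom g = ((kap g G T).left ≫ pullback.snd G.hom (T.hom ≫ g)) ≫ T.hom := by
        rw [Category.assoc, Category.assoc, kapInvLeft, pullback.lift_fst_assoc, pullback.lift_snd,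
          Category.assoc]
      rw [h1, kap_left_snd, ← pullback.condition]
      exact (congrArg (· ≫ pullback.snd G.hom g) (Category.id_comp _)).symm
  · have h1 : ((kap g G T).left ≫ kapInvLeft g G T) ≫ pullback.snd (pullback.snd G.hom g) T.hom =
        (kap g G T).left ≫ pullback.snd G.hom (T.hom ≫ g) := by
      rw [Category.assoc, kapInvLeft, pullback.lift_snd]
    rw [h1, kap_left_snd]
    exact (Category.id_comp _).symm

variable {G T}

theorem map_lift_kap {X : Over U} (a : X ⟶ Red.bc g G) (t : X ⟶ T) :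
    (Over.map g).map (lift a t) ≫ kap g G T = lift (tr g a) ((Over.map g).map t) := by
  apply CartesianMonoidalCategory.hom_ext
  · rw [Category.assoc, kap_fst, ← tr_comp, lift_fst, lift_fst]
  · rw [Category.assoc, kap_snd, ← Functor.map_comp, lift_snd, lift_snd]

theorem map_whisker_kap {T' : Over U} (v : T' ⟶ T) :
    (Over.map g).map (Red.bc g G ◁ v) ≫ kap g G T = kap g G T' ≫ (G ◁ (Over.map g).map v) := by
  apply CartesianMonoidalCategory.hom_ext
  · rw [Category.assoc, kap_fst, ← tr_comp, whiskerLeft_fst, Category.assoc, whiskerLeft_fst,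
      kap_fst]
  · rw [Category.assoc, kap_snd, ← Functor.map_comp, whiskerLeft_snd, Category.assoc,
      whiskerLeft_snd, ← Category.assoc, kap_snd, Functor.map_comp]

end Kappa

section Translate

variable {G H : Over S} [GrpObj G] [GrpObj H] {T : Over U}

/-- from families over `S` to families over `U`. -/
noncomputable def toU (Φ : G ⊗ (Over.map g).obj T ⟶ H) : Red.bc g G ⊗ T ⟶ Red.bc g H :=
  trInv g (kap g G T ≫ Φ)

/-- from families over `U` to families over `S`. -/
noncomputable def toS (φ : Red.bc g G ⊗ T ⟶ Red.bc g H) : G ⊗ (Over.map g).obj T ⟶ H :=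
  kapInv g G T ≫ tr g φ

theorem tr_toU (Φ : G ⊗ (Over.map g).obj T ⟶ H) : tr g (toU g Φ) = kap g G T ≫ Φ := tr_trInv g _

theorem toU_toS (φ : Red.bc g G ⊗ T ⟶ Red.bc g H) : toU g (toS g φ) = φ := by
  apply tr_injective g
  rw [tr_toU, toS, ← Category.assoc, kap_kapInv, Category.id_comp]

theorem toS_toU (Φ : G ⊗ (Over.map g).obj T ⟶ H) : toS g (toU g Φ) = Φ := by
  rw [toS, tr_toU, ← Category.assoc, kapInv_kap, Category.id_comp]

theorem tr_lift_toU (Φ : G ⊗ (Over.map g).obj T ⟶ H) {X : Over U} (a : X ⟶ Red.bc g G)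
    (t : X ⟶ T) : tr g (lift a t ≫ toU g Φ) = lift (tr g a) ((Over.map g).map t) ≫ Φ := by
  rw [tr_comp, tr_toU, ← Category.assoc, map_lift_kap]

theorem isHomFam_toU {Φ : G ⊗ (Over.map g).obj T ⟶ H} (hΦ : IsHomFam Φ) : IsHomFam (toU g Φ) := by
  intro X a b t
  apply tr_injective g
  rw [tr_mul, tr_lift_toU, tr_lift_toU, tr_lift_toU, tr_mul]
  exact hΦ _ _ _ _

theorem isHomFam_toS {φ : Red.bc g G ⊗ T ⟶ Red.bc g H} (hφ : IsHomFam φ) : IsHomFam (toS g φ) := by
  intro X' a b t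
  let X : Over U := Over.mk (t.left ≫ T.hom)
  have hw : t.left ≫ T.hom ≫ g = X'.hom := Over.w t
  let e : X' ≅ (Over.map g).obj X := Over.isoMk (Iso.refl X'.left) (by
    change 𝟙 _ ≫ (t.left ≫ T.hom) ≫ g = X'.hom
    rw [Category.id_comp, Category.assoc, hw])
  let t' : X ⟶ T := Over.homMk t.left rfl
  have het : e.hom ≫ (Over.map g).map t' = t := by
    apply Over.OverMorphism.ext
    change 𝟙 _ ≫ t.left = t.left
    rw [Category.id_comp]
  have key : ∀ c : X' ⟶ G, lift c t ≫ toS g φ =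
      e.hom ≫ tr g (lift (trInv g (e.inv ≫ c)) t' ≫ φ) := by
    intro c
    have h1 : lift c t = e.hom ≫ lift (tr g (trInv g (e.inv ≫ c))) ((Over.map g).map t') := by
      rw [tr_trInv, comp_lift, het, ← Category.assoc, e.hom_inv_id, Category.id_comp]
    rw [h1, ← map_lift_kap, toS, Category.assoc, Category.assoc, ← Category.assoc (kap g G T),
      kap_kapInv, Category.id_comp, ← tr_comp]
  have hmul : trInv g (e.inv ≫ (a * b)) = trInv g (e.inv ≫ a) * trInv g (e.inv ≫ b) := by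
    apply tr_injective g
    rw [tr_mul, tr_trInv, tr_trInv, tr_trInv, MonObj.comp_mul]
  rw [key, key, key, hmul, hφ, tr_mul, MonObj.comp_mul]

theorem toU_whisker (Φ : G ⊗ (Over.map g).obj T ⟶ H) {T' : Over U} (v : T' ⟶ T) :
    toU g ((G ◁ (Over.map g).map v) ≫ Φ) = (Red.bc g G ◁ v) ≫ toU g Φ := by
  apply tr_injective g
  rw [tr_toU, tr_comp, tr_toU, ← Category.assoc, ← Category.assoc, map_whisker_kap]

end Translate

section Represent

variable {G H A : Over S} [GrpObj G] [GrpObj H]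

/-- **Base change of the scheme of homomorphisms.** -/
theorem represents_bc (υ : G ⊗ A ⟶ H) (hυ : IsHomFam υ)
    (huniv : ∀ (T : Over S) (Φ : G ⊗ T ⟶ H), IsHomFam Φ → ∃! w : T ⟶ A, (G ◁ w) ≫ υ = Φ) :
    ∃ υ' : Red.bc g G ⊗ Red.bc g A ⟶ Red.bc g H, IsHomFam υ' ∧
      ∀ (T : Over U) (φ : Red.bc g G ⊗ T ⟶ Red.bc g H), IsHomFam φ →
        ∃! v : T ⟶ Red.bc g A, (Red.bc g G ◁ v) ≫ υ' = φ := by
  let ε : (Over.map g).obj (Red.bc g A) ⟶ A := tr g (𝟙 (Red.bc g A))
  refine ⟨toU g ((G ◁ ε) ≫ υ), isHomFam_toU g (hυ.whisker ε), ?_⟩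
  have key : ∀ {T : Over U} (v : T ⟶ Red.bc g A),
      (Red.bc g G ◁ v) ≫ toU g ((G ◁ ε) ≫ υ) = toU g ((G ◁ tr g v) ≫ υ) := by
    intro T v
    rw [← toU_whisker, ← Category.assoc, ← MonoidalCategory.whiskerLeft_comp, ← tr_comp,
      Category.comp_id]
  intro T φ hφ
  obtain ⟨w, hw, hwu⟩ := huniv _ (toS g φ) (isHomFam_toS g hφ)
  have hw' : (G ◁ w) ≫ υ = toS g φ := hw
  refine ⟨trInv g w, ?_, ?_⟩
  · change (Red.bc g G ◁ trInv g w) ≫ toU g ((G ◁ ε) ≫ υ) = φ
    rw [key, tr_trInv, hw', toU_toS]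
  · intro v hv
    have hv' : (Red.bc g G ◁ v) ≫ toU g ((G ◁ ε) ≫ υ) = φ := hv
    rw [key] at hv'
    have h2 : (G ◁ tr g v) ≫ υ = toS g φ := by
      rw [← hv', toS_toU]
    have h3 := hwu (tr g v) h2
    rw [← h3, trInv_tr]

end Represent

section Iso

variable {B : Scheme.{u}} {G₁ G₂ H₁ H₂ A : Over B} [GrpObj G₁] [GrpObj G₂] [GrpObj H₁] [GrpObj H₂]

/-- **Transport of the scheme of homomorphisms along isomorphisms of groups.** -/
theorem represents_iso (eG : G₁ ≅ G₂) [IsMonHom eG.hom] (eH : H₁ ≅ H₂) [IsMonHom eH.hom]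
    (υ : G₁ ⊗ A ⟶ H₁) (hυ : IsHomFam υ)
    (huniv : ∀ (T : Over B) (Φ : G₁ ⊗ T ⟶ H₁), IsHomFam Φ → ∃! w : T ⟶ A, (G₁ ◁ w) ≫ υ = Φ) :
    ∃ υ' : G₂ ⊗ A ⟶ H₂, IsHomFam υ' ∧
      ∀ (T : Over B) (φ : G₂ ⊗ T ⟶ H₂), IsHomFam φ → ∃! v : T ⟶ A, (G₂ ◁ v) ≫ υ' = φ := by
  haveI : IsMonHom eG.inv := inferInstance
  haveI : IsMonHom eH.inv := inferInstance
  have htrans : ∀ {T : Over B} (Φ : G₁ ⊗ T ⟶ H₁), IsHomFam Φ →
      IsHomFam ((eG.inv ▷ T) ≫ Φ ≫ eH.hom) := by
    intro T Φ hΦ X a b t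
    simp only [← Category.assoc, lift_whiskerRight]
    rw [MonObj.mul_comp a b eG.inv, hΦ, MonObj.mul_comp]
  have htrans' : ∀ {T : Over B} (φ : G₂ ⊗ T ⟶ H₂), IsHomFam φ →
      IsHomFam ((eG.hom ▷ T) ≫ φ ≫ eH.inv) := by
    intro T φ hφ X a b t
    simp only [← Category.assoc, lift_whiskerRight]
    rw [MonObj.mul_comp a b eG.hom, hφ, MonObj.mul_comp]
  have hcomm : ∀ {T : Over B} (v : T ⟶ A),
      (G₂ ◁ v) ≫ (eG.inv ▷ A) ≫ υ ≫ eH.hom = (eG.inv ▷ T) ≫ ((G₁ ◁ v) ≫ υ) ≫ eH.hom := by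
    intro T v
    simp only [← Category.assoc]
    rw [whisker_exchange]
  refine ⟨(eG.inv ▷ A) ≫ υ ≫ eH.hom, htrans υ hυ, ?_⟩
  intro T φ hφ
  obtain ⟨w, hw, hwu⟩ := huniv T _ (htrans' φ hφ)
  have hw' : (G₁ ◁ w) ≫ υ = (eG.hom ▷ T) ≫ φ ≫ eH.inv := hw
  refine ⟨w, ?_, ?_⟩
  · change (G₂ ◁ w) ≫ (eG.inv ▷ A) ≫ υ ≫ eH.hom = φ
    rw [hcomm, hw']
    simp only [Category.assoc, Iso.inv_hom_id, Category.comp_id]
    rw [← Category.assoc, ← MonoidalCategory.comp_whiskerRight, Iso.inv_hom_id,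
      MonoidalCategory.id_whiskerRight, Category.id_comp]
  · intro v hv
    have hv' : (G₂ ◁ v) ≫ (eG.inv ▷ A) ≫ υ ≫ eH.hom = φ := hv
    rw [hcomm] at hv'
    apply hwu
    change (G₁ ◁ v) ≫ υ = (eG.hom ▷ T) ≫ φ ≫ eH.inv
    rw [← hv']
    simp only [Category.assoc, Iso.hom_inv_id, Category.comp_id]
    rw [← Category.assoc, ← MonoidalCategory.comp_whiskerRight, Iso.hom_inv_id,
      MonoidalCategory.id_whiskerRight, Category.id_comp]

end Iso

end Groth.Agent.Lib.Helper10.HomFamBC
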