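import Mathlib
import Groth.Agent.Lib.Helper25.ClosedDescent

/-!
# Descent of closed subfunctors along flat covers
-/

set_option autoImplicit false
set_option backward.isDefEq.respectTransparency.types false
set_option maxHeartbeats 4000000
set_option synthInstance.maxHeartbeats 400000
universe u
open CategoryTheory CategoryTheory.Limits AlgebraicGeometry

namespace Groth.Agent.Lib.Helper10.ClosedSubF

open Groth.Agent.Lib.Helper25.ClosedDescent Scheme IdealSheafData

/-- A subfunctor of the functor of points of a scheme `X`, given as a predicate on `X`-valued points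
stable under precomposition. -/
structure SubF (X : Scheme.{u}) where
  P : ∀ ⦃T : Scheme.{u}⦄, (T ⟶ X) → Prop
  pre : ∀ ⦃T T' : Scheme.{u}⦄ (s : T' ⟶ T) (t : T ⟶ X), P t → P (s ≫ t)

namespace SubF

variable {X : Scheme.{u}}

/-- locality for flat surjective morphisms. -/
def IsLocal (Φ : SubF X) : Prop :=
  ∀ ⦃T T' : Scheme.{u}⦄ (π : T' ⟶ T) [Flat π] [Surjective π] (t : T ⟶ X), Φ.P (π ≫ t) → Φ.P t

/-- locality for open covers. -/
def IsZarLocal (Φ : SubF X) : Prop :=
  ∀ ⦃T : Scheme.{u}⦄ (𝒱 : Scheme.OpenCover.{u} T) (t : T ⟶ X), (∀ k, Φ.P (𝒱.f k ≫ t)) → Φ.P t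

/-- the subfunctor is represented by `i : W ⟶ X`. -/
def RepBy (Φ : SubF X) {W : Scheme.{u}} (i : W ⟶ X) : Prop :=
  ∀ ⦃T : Scheme.{u}⦄ (t : T ⟶ X), Φ.P t ↔ ∃ w : T ⟶ W, w ≫ i = t

/-- restriction of a subfunctor along a morphism. -/
def restrict (Φ : SubF X) {Y : Scheme.{u}} (g : Y ⟶ X) : SubF Y where
  P T t := Φ.P (t ≫ g)
  pre T T' s t h := by
    rw [Category.assoc]
    exact Φ.pre s _ h

theorem IsLocal.restrict {Φ : SubF X} (h : Φ.IsLocal) {Y : Scheme.{u}} (g : Y ⟶ X) :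
    (Φ.restrict g).IsLocal := by
  intro T T' π _ _ t ht
  refine h π (t ≫ g) ?_
  rw [← Category.assoc]
  exact ht

theorem IsZarLocal.restrict {Φ : SubF X} (h : Φ.IsZarLocal) {Y : Scheme.{u}} (g : Y ⟶ X) :
    (Φ.restrict g).IsZarLocal := by
  intro T 𝒱 t ht
  refine h 𝒱 (t ≫ g) (fun k => ?_)
  rw [← Category.assoc]
  exact ht k

theorem RepBy.self {Φ : SubF X} {W : Scheme.{u}} {i : W ⟶ X} (h : Φ.RepBy i) : Φ.P i :=
  (h i).2 ⟨𝟙 _, Category.id_comp _⟩

/-- **Descent along a quasi-compact flat surjective morphism.** -/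
theorem exists_repBy_of_qc {U : Scheme.{u}} (π : U ⟶ X) [Flat π] [Surjective π] [QuasiCompact π]
    (Φ : SubF X) (hloc : Φ.IsLocal) {W' : Scheme.{u}} (i' : W' ⟶ U) [IsClosedImmersion i']
    (h : (Φ.restrict π).RepBy i') :
    ∃ (W : Scheme.{u}) (i : W ⟶ X), IsClosedImmersion i ∧ Φ.RepBy i := by
  -- Step 1: the ideal of `W'` is stable
  have hI : i'.ker.comap (pullback.fst π π) = i'.ker.comap (pullback.snd π π) := by
    rw [← ker_fst_of_isClosedImmersion, ← ker_fst_of_isClosedImmersion]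
    have key : ∀ (p₁ p₂ : pullback π π ⟶ U), p₁ ≫ π = p₂ ≫ π →
        (pullback.fst p₁ i').ker ≤ (pullback.fst p₂ i').ker := by
      intro p₁ p₂ hp
      have hP : (Φ.restrict π).P (pullback.fst p₂ i' ≫ p₁) := by
        change Φ.P ((pullback.fst p₂ i' ≫ p₁) ≫ π)
        rw [Category.assoc, hp, ← Category.assoc]
        exact (h (pullback.fst p₂ i' ≫ p₂)).2 ⟨pullback.snd p₂ i', pullback.condition.symm⟩
      obtain ⟨w, hw⟩ := (h _).1 hP
      have e : pullback.lift (pullback.fst p₂ i') w hw.symm ≫ pullback.fst p₁ i' =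
          pullback.fst p₂ i' := pullback.lift_fst _ _ _
      rw [← e]
      exact Scheme.Hom.le_ker_comp _ _
    exact le_antisymm (key _ _ pullback.condition) (key _ _ pullback.condition.symm)
  -- Step 2: the descended closed subscheme
  have hJ : (i'.ker.map π).comap π = i'.ker := comap_map_eq_of_stable π _ hI
  refine ⟨(i'.ker.map π).subscheme, (i'.ker.map π).subschemeι, inferInstance, ?_⟩
  intro T t
  constructor
  · intro ht
    have hP : (Φ.restrict π).P (pullback.snd t π) := by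
      change Φ.P (pullback.snd t π ≫ π)
      rw [← pullback.condition]
      exact Φ.pre _ _ ht
    obtain ⟨w', hw'⟩ := (h _).1 hP
    have hdom : IsSchemeTheoreticallyDominant (pullback.fst t π) :=
      isSchemeTheoreticallyDominant_of_flat_of_surjective _
    have hfac : pullback.fst t π ≫ t =
        (w' ≫ i'.toImage ≫ (i'.ker.subschemeι ≫ π).toImage) ≫ (i'.ker.map π).subschemeι := by
      rw [pullback.condition, ← hw']
      simp only [Category.assoc]
      have e1 : (i'.ker.subschemeι ≫ π).toImage ≫ (i'.ker.map π).subschemeι =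
          i'.ker.subschemeι ≫ π := (i'.ker.subschemeι ≫ π).toImage_imageι
      rw [e1]
      have e2 : i'.toImage ≫ i'.ker.subschemeι = i' := i'.toImage_imageι
      rw [reassoc_of% e2]
    have hle : (i'.ker.map π).subschemeι.ker ≤ t.ker := by
      rw [← ker_comp_of_dominant (pullback.fst t π) t, hfac]
      exact Scheme.Hom.le_ker_comp _ _
    exact ⟨IsClosedImmersion.lift _ t hle, IsClosedImmersion.lift_fac _ _ _⟩
  · rintro ⟨w, rfl⟩
    refine Φ.pre w _ ?_
    set i := (i'.ker.map π).subschemeι with hi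
    refine hloc (pullback.fst i π) i ?_
    rw [pullback.condition]
    refine (h (pullback.snd i π)).2 ?_
    have hk : (pullback.snd i π).ker = i'.ker := by
      rw [ker_fst_of_isPullback (IsPullback.of_hasPullback i π).flip, hi, ker_subschemeι, hJ]
    exact ⟨IsClosedImmersion.lift i' (pullback.snd i π) hk.ge, IsClosedImmersion.lift_fac _ _ _⟩

/-- `Φ` restricted to the open `V` is representable by a closed subscheme of `V`. -/
def Good (Φ : SubF X) (V : X.Opens) : Prop :=
  ∃ (W : Scheme.{u}) (i : W ⟶ V.toScheme), IsClosedImmersion i ∧ (Φ.restrict V.ι).RepBy i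

theorem Good.of_le {Φ : SubF X} {V V' : X.Opens} (hV : Good Φ V) (hle : V' ≤ V) : Good Φ V' := by
  obtain ⟨W, i, hi, hrep⟩ := hV
  refine ⟨pullback i (X.homOfLE hle), pullback.snd i (X.homOfLE hle), inferInstance, ?_⟩
  intro T t
  have e : (Φ.restrict V'.ι).P t ↔ (Φ.restrict V.ι).P (t ≫ X.homOfLE hle) := by
    change Φ.P (t ≫ V'.ι) ↔ Φ.P ((t ≫ X.homOfLE hle) ≫ V.ι)
    rw [Category.assoc, Scheme.homOfLE_ι]
  rw [e, hrep]
  constructor
  · rintro ⟨w, hw⟩
    exact ⟨pullback.lift w t hw, pullback.lift_snd _ _ _⟩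
  · rintro ⟨w', rfl⟩
    exact ⟨w' ≫ pullback.fst _ _, by rw [Category.assoc, Category.assoc, pullback.condition]⟩

/-- **Local descent along a flat open surjective morphism**: every point has an affine open
neighbourhood on which the subfunctor is representable by a closed subscheme. -/
theorem exists_good_of_flat_open {U : Scheme.{u}} (f : U ⟶ X) [Flat f] [Surjective f]
    (hopen : IsOpenMap f) (Φ : SubF X) (hloc : Φ.IsLocal) {W' : Scheme.{u}} (i' : W' ⟶ U)
    [IsClosedImmersion i'] (h : (Φ.restrict f).RepBy i') (x : X) :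
    ∃ V : X.Opens, IsAffineOpen V ∧ x ∈ V ∧ Good Φ V := by
  obtain ⟨V₀, hV₀, hxV₀, -⟩ :=
    TopologicalSpace.Opens.isBasis_iff_nbhd.mp X.isBasis_affineOpens (TopologicalSpace.Opens.mem_top x)
  obtain ⟨u, rfl⟩ := f.surjective x
  obtain ⟨O₁, hO₁, huO₁, hO₁V₀⟩ :=
    TopologicalSpace.Opens.isBasis_iff_nbhd.mp U.isBasis_affineOpens
      (show u ∈ f ⁻¹ᵁ V₀ from hxV₀)
  let Im : X.Opens := ⟨f '' (O₁ : Set U), hopen _ O₁.isOpen⟩
  have hxIm : f u ∈ Im := ⟨u, huO₁, rfl⟩
  obtain ⟨s, hsIm, hxs⟩ := hV₀.exists_basicOpen_le (V := Im) ⟨f u, hxIm⟩ hxV₀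
  let V : X.Opens := X.basicOpen s
  have hV : IsAffineOpen V := hV₀.basicOpen s
  have hVV₀ : V ≤ V₀ := X.basicOpen_le s
  let O : U.Opens := O₁ ⊓ f ⁻¹ᵁ V
  have hOeq : O = U.basicOpen (U.presheaf.map (homOfLE hO₁V₀).op (f.app V₀ s)) := by
    change O₁ ⊓ f ⁻¹ᵁ X.basicOpen s = _
    rw [Scheme.basicOpen_res, Scheme.preimage_basicOpen]
  have hO : IsAffineOpen O := by
    rw [hOeq]
    exact hO₁.basicOpen _
  have hOV : O ≤ f ⁻¹ᵁ V := inf_le_right
  let π : O.toScheme ⟶ V.toScheme := f.resLE V O hOV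
  have hπ : π ≫ V.ι = O.ι ≫ f := Scheme.Hom.resLE_comp_ι _ _
  haveI : IsAffine O.toScheme := hO
  haveI : IsAffine V.toScheme := hV
  haveI : Flat π := inferInstance
  haveI : QuasiCompact π := inferInstance
  haveI : Surjective π := by
    refine ⟨fun y => ?_⟩
    obtain ⟨o, hoO₁, hoy⟩ := hsIm y.2
    have hoO : o ∈ O := ⟨hoO₁, by change f o ∈ V; rw [hoy]; exact y.2⟩
    refine ⟨⟨o, hoO⟩, ?_⟩
    apply V.ι.injective
    rw [← Scheme.Hom.comp_apply, hπ, Scheme.Hom.comp_apply]
    exact hoy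
  refine ⟨V, hV, hxs, ?_⟩
  refine exists_repBy_of_qc π (Φ.restrict V.ι) (hloc.restrict _) (pullback.snd i' O.ι) ?_
  intro T t
  have e : ((Φ.restrict V.ι).restrict π).P t ↔ (Φ.restrict f).P (t ≫ O.ι) := by
    change Φ.P ((t ≫ π) ≫ V.ι) ↔ Φ.P ((t ≫ O.ι) ≫ f)
    rw [Category.assoc, hπ, Category.assoc]
  rw [e, h]
  constructor
  · rintro ⟨w, hw⟩
    exact ⟨pullback.lift w t hw, pullback.lift_snd _ _ _⟩
  · rintro ⟨w', rfl⟩
    exact ⟨w' ≫ pullback.fst _ _, by rw [Category.assoc, Category.assoc, pullback.condition]⟩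

end SubF

section Glue

open SubF

variable {X : Scheme.{u}} (Φ : SubF X)

/-- the good affine opens. -/
abbrev GoodOpens : Type u := {V : X.Opens // IsAffineOpen V ∧ Good Φ V}

/-- the chosen representing closed subscheme on a good open. -/
noncomputable def gW (V : GoodOpens Φ) : Scheme.{u} := V.2.2.choose

noncomputable def gi (V : GoodOpens Φ) : gW Φ V ⟶ V.1.toScheme := V.2.2.choose_spec.choose

instance (V : GoodOpens Φ) : IsClosedImmersion (gi Φ V) := V.2.2.choose_spec.choose_spec.1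

theorem gi_repBy (V : GoodOpens Φ) : (Φ.restrict V.1.ι).RepBy (gi Φ V) :=
  V.2.2.choose_spec.choose_spec.2

theorem exists_gmap (V V' : GoodOpens Φ) (τ : V.1.toScheme ⟶ V'.1.toScheme)
    (hτ : τ ≫ V'.1.ι = V.1.ι) : ∃ m : gW Φ V ⟶ gW Φ V', m ≫ gi Φ V' = gi Φ V ≫ τ := by
  have hP : (Φ.restrict V'.1.ι).P (gi Φ V ≫ τ) := by
    change Φ.P ((gi Φ V ≫ τ) ≫ V'.1.ι)
    rw [Category.assoc, hτ]
    exact (gi_repBy Φ V).self
  exact (gi_repBy Φ V' _).1 hP

theorem isPullback_gmap (V V' : GoodOpens Φ) (τ : V.1.toScheme ⟶ V'.1.toScheme)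
    (hτ : τ ≫ V'.1.ι = V.1.ι) (m : gW Φ V ⟶ gW Φ V') (hm : m ≫ gi Φ V' = gi Φ V ≫ τ) :
    IsPullback m (gi Φ V) (gi Φ V') τ := by
  refine ⟨⟨hm⟩, ⟨PullbackCone.IsLimit.mk _ (fun s => ?_) (fun s => ?_) (fun s => ?_)
    (fun s l h1 h2 => ?_)⟩⟩
  · have hP : (Φ.restrict V.1.ι).P s.snd := by
      change Φ.P (s.snd ≫ V.1.ι)
      rw [← hτ, ← Category.assoc, ← s.condition, Category.assoc]
      exact Φ.pre _ _ (gi_repBy Φ V').self
    exact ((gi_repBy Φ V _).1 hP).choose
  · have hP : (Φ.restrict V.1.ι).P s.snd := by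
      change Φ.P (s.snd ≫ V.1.ι)
      rw [← hτ, ← Category.assoc, ← s.condition, Category.assoc]
      exact Φ.pre _ _ (gi_repBy Φ V').self
    have h2 := ((gi_repBy Φ V _).1 hP).choose_spec
    rw [← cancel_mono (gi Φ V'), Category.assoc, hm, reassoc_of% h2, s.condition]
  · have hP : (Φ.restrict V.1.ι).P s.snd := by
      change Φ.P (s.snd ≫ V.1.ι)
      rw [← hτ, ← Category.assoc, ← s.condition, Category.assoc]
      exact Φ.pre _ _ (gi_repBy Φ V').self
    exact ((gi_repBy Φ V _).1 hP).choose_spec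
  · rw [← cancel_mono (gi Φ V), h2]
    have hP : (Φ.restrict V.1.ι).P s.snd := by
      change Φ.P (s.snd ≫ V.1.ι)
      rw [← hτ, ← Category.assoc, ← s.condition, Category.assoc]
      exact Φ.pre _ _ (gi_repBy Φ V').self
    exact ((gi_repBy Φ V _).1 hP).choose_spec.symm

variable (hcov : ∀ x : X, ∃ V : X.Opens, IsAffineOpen V ∧ x ∈ V ∧ Good Φ V)

/-- the open cover by good affine opens. -/
@[reducible] noncomputable def goodCover : Scheme.OpenCover.{u} X where
  I₀ := GoodOpens Φ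
  X V := V.1.toScheme
  f V := V.1.ι
  mem₀ := by
    rw [Scheme.presieve₀_mem_precoverage_iff]
    refine ⟨fun x ↦ ?_, inferInstance⟩
    obtain ⟨V, hV, hxV, hg⟩ := hcov x
    exact ⟨⟨V, hV, hg⟩, ⟨x, hxV⟩, rfl⟩

instance : Preorder (goodCover Φ hcov).I₀ := inferInstanceAs (Preorder (GoodOpens Φ))

include hcov in
theorem isBasis_good : TopologicalSpace.Opens.IsBasis
    (Set.range fun i : (goodCover Φ hcov).I₀ => ((goodCover Φ hcov).f i).opensRange) := by
  rw [TopologicalSpace.Opens.isBasis_iff_nbhd]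
  intro O x hxO
  obtain ⟨V₁, hV₁, hxV₁, hg⟩ := hcov x
  obtain ⟨V₂, hV₂, hxV₂, hle⟩ :=
    TopologicalSpace.Opens.isBasis_iff_nbhd.mp X.isBasis_affineOpens
      (show x ∈ V₁ ⊓ O from ⟨hxV₁, hxO⟩)
  refine ⟨V₂, ⟨⟨V₂, hV₂, hg.of_le (hle.trans inf_le_left)⟩, ?_⟩, hxV₂, hle.trans inf_le_right⟩
  exact Scheme.Opens.opensRange_ι _

noncomputable instance : (goodCover Φ hcov).LocallyDirected :=
  Scheme.Cover.LocallyDirected.ofIsBasisOpensRange (by
    intro i j
    change i.1 ≤ j.1 ↔ (i.1.ι).opensRange ≤ (j.1.ι).opensRange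
    rw [Scheme.Opens.opensRange_ι, Scheme.Opens.opensRange_ι]) (isBasis_good Φ hcov)

/-- the relative gluing datum of the local representing closed subschemes. -/
noncomputable def gd : Scheme.Cover.RelativeGluingData (goodCover Φ hcov) where
  functor :=
    { obj := fun V => gW Φ V
      map := fun {V V'} hij => (exists_gmap Φ V V' ((goodCover Φ hcov).trans hij)
        ((goodCover Φ hcov).trans_map hij)).choose
      map_id := fun V => by
        rw [← cancel_mono (gi Φ V), (exists_gmap Φ V V ((goodCover Φ hcov).trans (𝟙 V))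
          ((goodCover Φ hcov).trans_map (𝟙 V))).choose_spec, Scheme.Cover.trans_id]
        exact (Category.comp_id _).trans (Category.id_comp _).symm
      map_comp := fun {V₁ V₂ V₃} h₁₂ h₂₃ => by
        rw [← cancel_mono (gi Φ V₃), (exists_gmap Φ V₁ V₃ ((goodCover Φ hcov).trans (h₁₂ ≫ h₂₃))
          ((goodCover Φ hcov).trans_map (h₁₂ ≫ h₂₃))).choose_spec, Category.assoc,
          (exists_gmap Φ V₂ V₃ ((goodCover Φ hcov).trans h₂₃)
            ((goodCover Φ hcov).trans_map h₂₃)).choose_spec,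
          reassoc_of% (exists_gmap Φ V₁ V₂ ((goodCover Φ hcov).trans h₁₂)
            ((goodCover Φ hcov).trans_map h₁₂)).choose_spec, Scheme.Cover.trans_comp] }
  natTrans :=
    { app := fun V => gi Φ V
      naturality := fun V V' hij => (exists_gmap Φ V V' ((goodCover Φ hcov).trans hij)
        ((goodCover Φ hcov).trans_map hij)).choose_spec }
  equifibered := fun V V' hij => isPullback_gmap Φ V V' ((goodCover Φ hcov).trans hij)
    ((goodCover Φ hcov).trans_map hij) _ (exists_gmap Φ V V' ((goodCover Φ hcov).trans hij)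
        ((goodCover Φ hcov).trans_map hij)).choose_spec

instance : ((gd Φ hcov).functor ⋙ Scheme.forget).IsLocallyDirected :=
  Scheme.Cover.RelativeGluingData.instIsLocallyDirectedI₀CompFunctorForgetOfIsThin (gd Φ hcov)

omit hcov in
theorem isClosedImmersion_snd_of_isPullback {A B C D : Scheme.{u}} {a : A ⟶ B} {b : A ⟶ C}
    {c : B ⟶ D} {e : C ⟶ D} (hp : IsPullback a b c e) [IsClosedImmersion b] :
    IsClosedImmersion (pullback.snd c e) := by
  rw [← hp.isoPullback_inv_snd]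
  infer_instance

omit hcov in
theorem exists_lift_of_mono {T W Y : Scheme.{u}} (𝒱 : Scheme.OpenCover.{u} T) (i : W ⟶ Y) [Mono i]
    (t : T ⟶ Y) (g : ∀ k, 𝒱.X k ⟶ W) (hg : ∀ k, g k ≫ i = 𝒱.f k ≫ t) :
    ∃ w : T ⟶ W, w ≫ i = t := by
  refine ⟨𝒱.glueMorphisms g ?_, ?_⟩
  · intro k k'
    rw [← cancel_mono i, Category.assoc, Category.assoc, hg, hg]
    exact pullback.condition_assoc _
  · apply 𝒱.hom_ext
    intro k
    rw [← Category.assoc, Scheme.Cover.ι_glueMorphisms, hg]

include hcov in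
/-- **Zariski gluing**: a Zariski-local subfunctor which is locally representable by closed
subschemes is representable by a closed subscheme. -/
theorem exists_repBy_of_good (hZ : Φ.IsZarLocal) :
    ∃ (W : Scheme.{u}) (i : W ⟶ X), IsClosedImmersion i ∧ Φ.RepBy i := by
  have hpb : ∀ V : GoodOpens Φ, IsPullback (gi Φ V) (colimit.ι (gd Φ hcov).functor V) V.1.ι
      (gd Φ hcov).toBase :=
    fun V => (gd Φ hcov).isPullback_natTrans_ι_toBase V
  have hci : IsClosedImmersion (gd Φ hcov).toBase := by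
    rw [IsZariskiLocalAtTarget.iff_of_openCover (P := @IsClosedImmersion) (goodCover Φ hcov)]
    intro V
    exact isClosedImmersion_snd_of_isPullback (hpb V).flip
  have hιb : ∀ V : GoodOpens Φ, colimit.ι (gd Φ hcov).functor V ≫ (gd Φ hcov).toBase =
      gi Φ V ≫ V.1.ι := fun V => (gd Φ hcov).ι_toBase V
  refine ⟨(gd Φ hcov).glued, (gd Φ hcov).toBase, hci, ?_⟩
  intro T t
  constructor
  · intro ht
    have hl : ∀ k : GoodOpens Φ, ∃ l : pullback t k.1.ι ⟶ gW Φ k,
        l ≫ gi Φ k = pullback.snd t k.1.ι := by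
      intro k
      apply (gi_repBy Φ k _).1
      change Φ.P (pullback.snd t k.1.ι ≫ k.1.ι)
      rw [← pullback.condition]
      exact Φ.pre _ _ ht
    choose l hl using hl
    have hw : ∀ k : GoodOpens Φ, (l k ≫ colimit.ι (gd Φ hcov).functor k) ≫ (gd Φ hcov).toBase =
        pullback.fst t k.1.ι ≫ t := by
      intro k
      calc (l k ≫ colimit.ι (gd Φ hcov).functor k) ≫ (gd Φ hcov).toBase
          = l k ≫ (colimit.ι (gd Φ hcov).functor k ≫ (gd Φ hcov).toBase) := Category.assoc _ _ _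
        _ = l k ≫ (gi Φ k ≫ k.1.ι) := congrArg (l k ≫ ·) (hιb k)
        _ = (l k ≫ gi Φ k) ≫ k.1.ι := (Category.assoc _ _ _).symm
        _ = pullback.snd t k.1.ι ≫ k.1.ι := congrArg (· ≫ k.1.ι) (hl k)
        _ = pullback.fst t k.1.ι ≫ t := pullback.condition.symm
    exact exists_lift_of_mono ((goodCover Φ hcov).pullback₁ t) (gd Φ hcov).toBase t
      (fun k => l k ≫ colimit.ι (gd Φ hcov).functor k) hw
  · rintro ⟨w, rfl⟩
    refine Φ.pre w _ ?_
    refine hZ (gd Φ hcov).cover (gd Φ hcov).toBase (fun k => ?_)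
    change Φ.P (colimit.ι (gd Φ hcov).functor k ≫ (gd Φ hcov).toBase)
    have e := hιb k
    rw [e]
    exact (gi_repBy Φ k).self

end Glue

/-- **Descent of closed subfunctors along flat, open, surjective morphisms** (e.g. étale
surjective ones). -/
theorem SubF.exists_repBy_of_flat_open {X U : Scheme.{u}} (f : U ⟶ X) [Flat f] [Surjective f]
    (hopen : IsOpenMap f) (Φ : SubF X) (hloc : Φ.IsLocal) (hZ : Φ.IsZarLocal) {W' : Scheme.{u}}
    (i' : W' ⟶ U) [IsClosedImmersion i'] (h : (Φ.restrict f).RepBy i') :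
    ∃ (W : Scheme.{u}) (i : W ⟶ X), IsClosedImmersion i ∧ Φ.RepBy i :=
  exists_repBy_of_good Φ (fun x => SubF.exists_good_of_flat_open f hopen Φ hloc i' h x) hZ

end Groth.Agent.Lib.Helper10.ClosedSubF
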