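import Mathlib
import Groth.Agent.Lib.Helper10.ClosedSubF

/-!
# Weil restriction of closed subschemes, part 1: the coefficient ideal and the functor
-/

set_option autoImplicit false
set_option backward.isDefEq.respectTransparency.types false
set_option maxHeartbeats 4000000
set_option synthInstance.maxHeartbeats 400000
universe u
open CategoryTheory CategoryTheory.Limits AlgebraicGeometry TensorProduct

namespace Groth.Agent.Lib.Helper10.WeilClosed

section Algebra

variable (A : Type u) {B : Type u} [CommRing A] [CommRing B] [Algebra A B]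

/-- The ideal of coefficients of an ideal `J` of an `A`-algebra `B`: generated by the values of all
`A`-linear functionals on `B` on the elements of `J`. -/
def coeffIdeal (J : Ideal B) : Ideal A :=
  Ideal.span {a | ∃ b ∈ J, ∃ ℓ : B →ₗ[A] A, ℓ b = a}

theorem mem_coeffIdeal {J : Ideal B} {b : B} (hb : b ∈ J) (ℓ : B →ₗ[A] A) :
    ℓ b ∈ coeffIdeal A J :=
  Ideal.subset_span ⟨b, hb, ℓ, rfl⟩

variable {A}
variable {R C : Type u} [CommRing R] [CommRing C] [Algebra A R]

theorem le_ker_of_coeffIdeal_le [Module.Projective A B] (ψ : B →+* C) (χ : R →+* C)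
    (hcomm : ψ.comp (algebraMap A B) = χ.comp (algebraMap A R)) (J : Ideal B)
    (h : coeffIdeal A J ≤ RingHom.ker (algebraMap A R)) : J ≤ RingHom.ker ψ := by
  obtain ⟨s, hs⟩ := Module.projective_def'.mp (inferInstance : Module.Projective A B)
  intro b hb
  rw [RingHom.mem_ker]
  have hb' : b = Finsupp.linearCombination A id (s b) := by
    have := congrArg (fun F => F b) hs
    simpa using this.symm
  rw [hb', Finsupp.linearCombination_apply, Finsupp.sum, map_sum]
  apply Finset.sum_eq_zero
  intro x _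
  have hx : (s b) x ∈ coeffIdeal A J := mem_coeffIdeal A hb ((Finsupp.lapply x).comp s)
  have h0 : algebraMap A R ((s b) x) = 0 := h hx
  have h1 : ψ (algebraMap A B ((s b) x)) = χ (algebraMap A R ((s b) x)) :=
    congrArg (fun F => F ((s b) x)) hcomm
  rw [id, Algebra.smul_def, map_mul, h1, h0, map_zero, zero_mul]

theorem coeffIdeal_le_of_le_ker (ψ : B →+* C) (χ : R →+* C)
    (hpo : IsPushout (CommRingCat.ofHom (algebraMap A B)) (CommRingCat.ofHom (algebraMap A R))
      (CommRingCat.ofHom ψ) (CommRingCat.ofHom χ))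
    (J : Ideal B) (h : J ≤ RingHom.ker ψ) : coeffIdeal A J ≤ RingHom.ker (algebraMap A R) := by
  let e := hpo.isoIsPushout _ _ (CommRingCat.isPushout_tensorProduct A B R)
  have he : ∀ b : B, e.hom.hom (ψ b) = b ⊗ₜ[A] (1 : R) := by
    intro b
    have := congrArg (fun F => F.hom b)
      (hpo.inl_isoIsPushout_hom _ _ (CommRingCat.isPushout_tensorProduct A B R))
    exact this
  rw [coeffIdeal, Ideal.span_le]
  rintro a ⟨b, hb, ℓ, rfl⟩
  have hψ : ψ b = 0 := h hb
  have h1 : b ⊗ₜ[A] (1 : R) = 0 := by rw [← he, hψ, map_zero]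
  have h2 := congrArg (fun z => TensorProduct.lid A R (LinearMap.rTensor R ℓ z)) h1
  simp only [LinearMap.rTensor_tmul, TensorProduct.lid_tmul, map_zero] at h2
  change algebraMap A R (ℓ b) = 0
  rw [Algebra.algebraMap_eq_smul_one]
  exact h2

end Algebra

/-- The coefficient ideal for a ring homomorphism. -/
def coeffIdealHom {A B : Type u} [CommRing A] [CommRing B] (α : A →+* B) (J : Ideal B) : Ideal A :=
  letI := α.toAlgebra
  coeffIdeal A J

theorem le_ker_iff_coeffIdeal_le {A B R C : CommRingCat.{u}} {α : A ⟶ B} {φ : A ⟶ R} {ψ : B ⟶ C}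
    {χ : R ⟶ C} (hpo : IsPushout α φ ψ χ)
    (hproj : letI := α.hom.toAlgebra; Module.Projective A B) (J : Ideal B) :
    J ≤ RingHom.ker ψ.hom ↔ coeffIdealHom α.hom J ≤ RingHom.ker φ.hom := by
  letI := α.hom.toAlgebra
  letI := φ.hom.toAlgebra
  haveI : Module.Projective A B := hproj
  constructor
  · exact coeffIdeal_le_of_le_ker ψ.hom χ.hom hpo J
  · refine le_ker_of_coeffIdeal_le ψ.hom χ.hom ?_ J
    ext x
    exact congrArg (fun F => F.hom x) hpo.w

section Affine

theorem exists_fac_iff_ker_le {C V Q : Scheme.{u}} (c : C ⟶ V) [IsClosedImmersion c] (m : Q ⟶ V) :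
    (∃ w : Q ⟶ C, w ≫ c = m) ↔ c.ker ≤ m.ker := by
  constructor
  · rintro ⟨w, rfl⟩
    exact Scheme.Hom.le_ker_comp w c
  · intro h
    exact ⟨IsClosedImmersion.lift c m h, IsClosedImmersion.lift_fac c m h⟩

theorem exists_fac_iff_of_isAffine {C V Q : Scheme.{u}} [IsAffine V] (c : C ⟶ V)
    [IsClosedImmersion c] (m : Q ⟶ V) :
    (∃ w : Q ⟶ C, w ≫ c = m) ↔ RingHom.ker c.appTop.hom ≤ RingHom.ker m.appTop.hom := by
  rw [exists_fac_iff_ker_le, Scheme.ker_of_isAffine c, Scheme.ker_of_isAffine m]
  exact map_le_map_iff (Scheme.IdealSheafData.equivOfIsAffine (X := V)).symm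

end Affine

end Groth.Agent.Lib.Helper10.WeilClosed
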