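import Mathlib
import Groth.Agent.Lib.Helper10.WeilClosed1

/-!
# Weil restriction of closed subschemes, part 2: the subfunctor and the affine base case
-/

set_option autoImplicit false
set_option backward.isDefEq.respectTransparency.types false
set_option maxHeartbeats 4000000
set_option synthInstance.maxHeartbeats 400000
universe u
open CategoryTheory CategoryTheory.Limits AlgebraicGeometry

namespace Groth.Agent.Lib.Helper10.WeilClosed

open Groth.Agent.Lib.Helper10.ClosedSubF Groth.Agent.Lib.Helper25.ClosedDescent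

variable {S Z Y : Scheme.{u}}

/-- The "Weil restriction" subfunctor `Π_{Z/S} Y` of `S`: those `g : S' ⟶ S` such that every point
of `Z` lying over `g` factors through `j : Y ⟶ Z`. -/
def weilSubF (f : Z ⟶ S) (j : Y ⟶ Z) : SubF S where
  P S' g := ∀ ⦃W : Scheme.{u}⦄ (a : W ⟶ Z) (b : W ⟶ S'), a ≫ f = b ≫ g → ∃ w : W ⟶ Y, w ≫ j = a
  pre S' S'' s g h W a b hab := h a (b ≫ s) (by rw [hab, Category.assoc])

theorem weilSubF_iff_fst (f : Z ⟶ S) (j : Y ⟶ Z) {S' : Scheme.{u}} (g : S' ⟶ S) :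
    (weilSubF f j).P g ↔ ∃ w : pullback f g ⟶ Y, w ≫ j = pullback.fst f g := by
  constructor
  · intro h
    exact h _ _ pullback.condition
  · rintro ⟨w, hw⟩ W a b hab
    exact ⟨pullback.lift a b hab ≫ w, by rw [Category.assoc, hw, pullback.lift_fst]⟩

theorem weilSubF_iff_isIso (f : Z ⟶ S) (j : Y ⟶ Z) [Mono j] {S' : Scheme.{u}} (g : S' ⟶ S) :
    (weilSubF f j).P g ↔ IsIso (pullback.snd j (pullback.fst f g)) := by
  rw [weilSubF_iff_fst]
  constructor
  · rintro ⟨w, hw⟩
    refine ⟨pullback.lift w (𝟙 _) (by rw [hw, Category.id_comp]), ?_, pullback.lift_snd _ _ _⟩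
    rw [← cancel_mono (pullback.snd j (pullback.fst f g)), Category.assoc, pullback.lift_snd,
      Category.comp_id, Category.id_comp]
  · intro h
    exact ⟨inv (pullback.snd j (pullback.fst f g)) ≫ pullback.fst j _, by
      rw [Category.assoc, pullback.condition, IsIso.inv_hom_id_assoc]⟩

theorem weilSubF_isLocal (f : Z ⟶ S) (j : Y ⟶ Z) [IsClosedImmersion j] :
    (weilSubF f j).IsLocal := by
  intro S' S'' π _ _ g h
  rw [weilSubF_iff_fst]
  let q := pullback.fst (pullback.snd f g) π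
  obtain ⟨w, hw⟩ := h (q ≫ pullback.fst f g) (pullback.snd (pullback.snd f g) π) (by
    rw [Category.assoc, pullback.condition, ← Category.assoc, pullback.condition, Category.assoc])
  haveI : IsSchemeTheoreticallyDominant q := isSchemeTheoreticallyDominant_of_flat_of_surjective q
  rw [exists_fac_iff_ker_le]
  calc j.ker ≤ (q ≫ pullback.fst f g).ker := by
        rw [← hw]
        exact Scheme.Hom.le_ker_comp w j
    _ = (pullback.fst f g).ker := ker_comp_of_dominant q _

theorem exists_fac_of_cover {W : Scheme.{u}} (j : Y ⟶ Z) [Mono j] (a : W ⟶ Z)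
    {T : Scheme.{u}} (b : W ⟶ T) (𝒰 : Scheme.OpenCover.{u} T)
    (h : ∀ k, ∃ w : pullback b (𝒰.f k) ⟶ Y, w ≫ j = pullback.fst b (𝒰.f k) ≫ a) :
    ∃ w : W ⟶ Y, w ≫ j = a :=
  exists_lift_of_mono (𝒰.pullback₁ b) j a (fun k => (h k).choose) (fun k => (h k).choose_spec)

theorem weilSubF_isZarLocal (f : Z ⟶ S) (j : Y ⟶ Z) [Mono j] : (weilSubF f j).IsZarLocal := by
  intro S' 𝒱 g h W a b hab
  refine exists_fac_of_cover j a b 𝒱 (fun k => ?_)
  refine h k (pullback.fst b (𝒱.f k) ≫ a) (pullback.snd b (𝒱.f k)) ?_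
  rw [Category.assoc, hab, ← Category.assoc, pullback.condition, Category.assoc]

/-- Compatibility of the Weil restriction subfunctor with base change. -/
theorem weilSubF_iff_of_isPullback (f : Z ⟶ S) (j : Y ⟶ Z) {Z₁ Y₁ S₁ : Scheme.{u}} {f₁ : Z₁ ⟶ S₁}
    {j₁ : Y₁ ⟶ Z₁} {c : S₁ ⟶ S} {cz : Z₁ ⟶ Z} {cy : Y₁ ⟶ Y}
    (hZ : IsPullback cz f₁ f c) (hY : IsPullback cy j₁ j cz) {S' : Scheme.{u}} (g : S' ⟶ S₁) :
    (weilSubF f j).P (g ≫ c) ↔ (weilSubF f₁ j₁).P g := by
  constructor
  · intro h W a' b hab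
    obtain ⟨w, hw⟩ := h (a' ≫ cz) b (by
      rw [Category.assoc, hZ.w, ← Category.assoc, hab, Category.assoc])
    exact ⟨hY.lift w a' hw, hY.lift_snd _ _ _⟩
  · intro h W a b hab
    obtain ⟨w', hw'⟩ := h (hZ.lift a (b ≫ g) (by rw [hab, Category.assoc])) b (hZ.lift_snd _ _ _)
    refine ⟨w' ≫ cy, ?_⟩
    rw [Category.assoc, hY.w, ← Category.assoc, hw', hZ.lift_fst]

/-- An affine open of `Z` whose coordinate ring is a projective module over `Γ(S)`. -/
def ProjOpen (f : Z ⟶ S) (V : Z.Opens) : Prop :=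
  IsAffineOpen V ∧
    (letI := (V.ι ≫ f).appTop.hom.toAlgebra
     Module.Projective Γ(S, ⊤) Γ(↑V, ⊤))

section AffineBase

variable (f : Z ⟶ S) (j : Y ⟶ Z) [IsClosedImmersion j]

/-- the ideal of the closed subscheme `Y ∩ V` of the open `V`. -/
noncomputable def JV (V : Z.Opens) : Ideal Γ(↑V, ⊤) :=
  RingHom.ker (pullback.snd j V.ι).appTop.hom

/-- its coefficient ideal. -/
noncomputable def IV (V : Z.Opens) : Ideal Γ(S, ⊤) :=
  coeffIdealHom (V.ι ≫ f).appTop.hom (JV j V)

theorem fac_iff_of_projOpen [IsAffine S] {V : Z.Opens} (hV : ProjOpen f V) {S' : Scheme.{u}}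
    [IsAffine S'] (g : S' ⟶ S) :
    (∃ w : pullback (V.ι ≫ f) g ⟶ Y, w ≫ j = pullback.fst (V.ι ≫ f) g ≫ V.ι) ↔
      IV f j V ≤ RingHom.ker g.appTop.hom := by
  haveI : IsAffine V.toScheme := hV.1
  have h1 : (∃ w : pullback (V.ι ≫ f) g ⟶ Y, w ≫ j = pullback.fst (V.ι ≫ f) g ≫ V.ι) ↔
      ∃ w' : pullback (V.ι ≫ f) g ⟶ pullback j V.ι,
        w' ≫ pullback.snd j V.ι = pullback.fst (V.ι ≫ f) g := by
    constructor
    · rintro ⟨w, hw⟩
      exact ⟨pullback.lift w _ hw, pullback.lift_snd _ _ _⟩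
    · rintro ⟨w', hw'⟩
      exact ⟨w' ≫ pullback.fst j V.ι, by rw [Category.assoc, pullback.condition,
        ← Category.assoc, hw']⟩
  rw [h1, exists_fac_iff_of_isAffine]
  have hpo := isPushout_appTop_of_isPullback (IsPullback.of_hasPullback (V.ι ≫ f) g)
  exact le_ker_iff_coeffIdeal_le hpo hV.2 (JV j V)

variable {ι : Type u} (V : ι → Z.Opens)

/-- the ideal of the Weil restriction. -/
noncomputable def weilIdeal : Ideal Γ(S, ⊤) := ⨆ i, IV f j (V i)

theorem weilSubF_iff_of_isAffine [IsAffine S] (hV : ∀ i, ProjOpen f (V i))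
    (hcov : ∀ x : Z, ∃ i, x ∈ V i) {S' : Scheme.{u}} [IsAffine S'] (g : S' ⟶ S) :
    (weilSubF f j).P g ↔ weilIdeal f j V ≤ RingHom.ker g.appTop.hom := by
  rw [weilIdeal, iSup_le_iff]
  constructor
  · intro h i
    rw [← fac_iff_of_projOpen f j (hV i) g]
    exact h _ (pullback.snd _ _) (by rw [Category.assoc, pullback.condition])
  · intro h W a b hab
    let 𝒰 : Scheme.OpenCover.{u} Z :=
      { I₀ := ι
        X := fun i => (V i).toScheme
        f := fun i => (V i).ι
        mem₀ := by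
          rw [Scheme.presieve₀_mem_precoverage_iff]
          refine ⟨fun x ↦ ?_, inferInstance⟩
          obtain ⟨i, hi⟩ := hcov x
          exact ⟨i, ⟨x, hi⟩, rfl⟩ }
    refine exists_fac_of_cover j a a 𝒰 (fun i => ?_)
    obtain ⟨w, hw⟩ := (fac_iff_of_projOpen f j (hV i) g).2 (h i)
    refine ⟨pullback.lift (pullback.snd a (V i).ι) (pullback.fst a (V i).ι ≫ b) ?_ ≫ w, ?_⟩
    · rw [← Category.assoc, ← pullback.condition, Category.assoc, hab, Category.assoc]
    · rw [Category.assoc, hw, ← Category.assoc, pullback.lift_fst]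
      exact pullback.condition.symm

/-- the closed subscheme defined by an ideal of the global sections. -/
theorem exists_fac_subschemeι_iff [IsAffine S] (I : Ideal Γ(S, ⊤)) {S' : Scheme.{u}} (g : S' ⟶ S) :
    (∃ g' : S' ⟶ (Scheme.IdealSheafData.ofIdealTop I).subscheme,
      g' ≫ (Scheme.IdealSheafData.ofIdealTop I).subschemeι = g) ↔
      I ≤ RingHom.ker g.appTop.hom := by
  rw [exists_fac_iff_ker_le, Scheme.IdealSheafData.ker_subschemeι, Scheme.ker_of_isAffine g]
  exact map_le_map_iff (Scheme.IdealSheafData.equivOfIsAffine (X := S)).symm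

/-- **The affine base case**: if `S` is affine and `Z` is covered by affine opens with projective
coordinate rings, the Weil restriction of a closed subscheme of `Z` is a closed subscheme of `S`,
cut out by the coefficient ideal. -/
theorem repBy_of_isAffine [IsAffine S] (hV : ∀ i, ProjOpen f (V i))
    (hcov : ∀ x : Z, ∃ i, x ∈ V i) :
    (weilSubF f j).RepBy (Scheme.IdealSheafData.ofIdealTop (weilIdeal f j V)).subschemeι := by
  intro S' g
  constructor
  · intro h
    refine exists_lift_of_mono S'.affineCover _ g (fun k => ?_) (fun k => ?_)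
    · exact ((exists_fac_subschemeι_iff _ _).2
        ((weilSubF_iff_of_isAffine f j V hV hcov (S'.affineCover.f k ≫ g)).1
          ((weilSubF f j).pre _ _ h))).choose
    · exact ((exists_fac_subschemeι_iff _ _).2
        ((weilSubF_iff_of_isAffine f j V hV hcov (S'.affineCover.f k ≫ g)).1
          ((weilSubF f j).pre _ _ h))).choose_spec
  · rintro ⟨g', rfl⟩
    refine weilSubF_isZarLocal f j S'.affineCover _ (fun k => ?_)
    rw [weilSubF_iff_of_isAffine f j V hV hcov, ← exists_fac_subschemeι_iff]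
    exact ⟨S'.affineCover.f k ≫ g', Category.assoc _ _ _⟩

end AffineBase

end Groth.Agent.Lib.Helper10.WeilClosed
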