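import Mathlib
import Groth.Agent.Lib.Helper10.WeilClosed2

/-!
# Weil restriction of closed subschemes, part 3: gluing over the base and the field case
-/

set_option autoImplicit false
set_option backward.isDefEq.respectTransparency.types false
set_option maxHeartbeats 4000000
set_option synthInstance.maxHeartbeats 400000
universe u
open CategoryTheory CategoryTheory.Limits AlgebraicGeometry TensorProduct

namespace Groth.Agent.Lib.Helper10.WeilClosed

open Groth.Agent.Lib.Helper10.ClosedSubF Groth.Agent.Lib.Helper25.ClosedDescent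

/-- Base change of projectivity along a pushout of commutative rings. -/
theorem projective_of_isPushout {A B R C : CommRingCat.{u}} {α : A ⟶ B} {φ : A ⟶ R} {ψ : B ⟶ C}
    {χ : R ⟶ C} (hpo : IsPushout α φ ψ χ)
    (hproj : letI := α.hom.toAlgebra; Module.Projective A B) :
    letI := χ.hom.toAlgebra; Module.Projective R C := by
  letI := α.hom.toAlgebra
  letI := φ.hom.toAlgebra
  letI := χ.hom.toAlgebra
  haveI : Module.Projective A B := hproj
  let e := hpo.flip.isoIsPushout _ _ (CommRingCat.isPushout_tensorProduct A R B)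
  have he : ∀ r : R, e.hom.hom (χ.hom r) = r ⊗ₜ[A] (1 : B) := by
    intro r
    have := congrArg (fun F => F.hom r)
      (hpo.flip.inl_isoIsPushout_hom _ _ (CommRingCat.isPushout_tensorProduct A R B))
    exact this
  let E : C ≃ₗ[R] R ⊗[A] B :=
    { e.commRingCatIsoToRingEquiv.toAddEquiv with
      map_smul' := fun r c => by
        change e.hom.hom (r • c) = r • e.hom.hom c
        rw [Algebra.smul_def, map_mul]
        change e.hom.hom (χ.hom r) * _ = _
        rw [he, Algebra.smul_def]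
        rfl }
  exact Module.Projective.of_equiv E.symm

variable {S Z Y : Scheme.{u}}

theorem projOpen_preimage {Y B U Z : Scheme.{u}} [IsAffine B] [IsAffine U] {p : Y ⟶ B}
    {q : U ⟶ B} {fst : Z ⟶ Y} {snd : Z ⟶ U} (h : IsPullback fst snd p q) {Y₀ : Y.Opens}
    (hY₀ : ProjOpen p Y₀) : ProjOpen snd (fst ⁻¹ᵁ Y₀) := by
  haveI : IsAffine Y₀.toScheme := hY₀.1
  have hpb : IsPullback (fst ∣_ Y₀) ((fst ⁻¹ᵁ Y₀).ι ≫ snd) (Y₀.ι ≫ p) q :=
    (isPullback_morphismRestrict fst Y₀).paste_vert h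
  haveI : IsAffine (fst ⁻¹ᵁ Y₀).toScheme := IsAffine.of_isPullback hpb
  refine ⟨‹_›, ?_⟩
  exact projective_of_isPushout (isPushout_appTop_of_isPullback hpb) hY₀.2

/-- `f : Z ⟶ S` is, Zariski locally on `S`, covered by affine opens with projective coordinate
rings. -/
def LocProj (f : Z ⟶ S) : Prop :=
  ∀ s : S, ∃ U : S.Opens, IsAffineOpen U ∧ s ∈ U ∧
    ∃ (Z₁ : Scheme.{u}) (cz : Z₁ ⟶ Z) (f₁ : Z₁ ⟶ U.toScheme), IsPullback cz f₁ f U.ι ∧
      ∀ x : Z₁, ∃ V : Z₁.Opens, x ∈ V ∧ ProjOpen f₁ V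

/-- **Weil restriction of a closed subscheme along a locally projective morphism is a closed
subscheme** (SGA3 VIII 6.4, Zariski-local form). -/
theorem exists_repBy_of_locProj (f : Z ⟶ S) (j : Y ⟶ Z) [IsClosedImmersion j] (h : LocProj f) :
    ∃ (T : Scheme.{u}) (t : T ⟶ S), IsClosedImmersion t ∧ (weilSubF f j).RepBy t := by
  refine exists_repBy_of_good (weilSubF f j) (fun s => ?_) (weilSubF_isZarLocal f j)
  obtain ⟨U, hU, hs, Z₁, cz, f₁, hZ, hx⟩ := h s
  refine ⟨U, hU, hs, ?_⟩
  haveI : IsAffine U.toScheme := hU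
  let j₁ := pullback.snd j cz
  have hY : IsPullback (pullback.fst j cz) j₁ j cz := IsPullback.of_hasPullback j cz
  have hrep := repBy_of_isAffine f₁ j₁ (ι := {V : Z₁.Opens // ProjOpen f₁ V}) (fun V => V.1)
    (fun V => V.2) (fun x => by
      obtain ⟨V, hxV, hV⟩ := hx x
      exact ⟨⟨V, hV⟩, hxV⟩)
  refine ⟨_, (Scheme.IdealSheafData.ofIdealTop (weilIdeal f₁ j₁
    (fun V : {V : Z₁.Opens // ProjOpen f₁ V} => V.1))).subschemeι, inferInstance, ?_⟩
  intro S' g
  rw [← hrep g]
  exact weilSubF_iff_of_isPullback f j hZ hY g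

theorem projective_of_isField {A M : Type u} [CommRing A] [AddCommGroup M] [Module A M]
    (h : IsField A) : Module.Projective A M := by
  letI := h.toField
  exact Module.Projective.of_free

theorem isField_Γ_Spec (k : Type u) [Field k] : IsField Γ(Spec (CommRingCat.of k), ⊤) :=
  MulEquiv.isField (Field.toIsField k)
    (Scheme.ΓSpecIso (CommRingCat.of k)).commRingCatIsoToRingEquiv.toMulEquiv

theorem locProj_of_field {k : Type u} [Field k] {Y T Z : Scheme.{u}}
    {p : Y ⟶ Spec (CommRingCat.of k)} {q : T ⟶ Spec (CommRingCat.of k)} {fst : Z ⟶ Y}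
    {snd : Z ⟶ T} (h : IsPullback fst snd p q) : LocProj snd := by
  intro s
  obtain ⟨(U : T.Opens), hU, hsU, -⟩ :=
    TopologicalSpace.Opens.isBasis_iff_nbhd.mp T.isBasis_affineOpens (TopologicalSpace.Opens.mem_top s)
  haveI : IsAffine U.toScheme := hU
  refine ⟨U, hU, hsU, pullback p (U.ι ≫ q), _, pullback.snd p (U.ι ≫ q),
    IsPullback.of_right' (IsPullback.of_hasPullback p (U.ι ≫ q)) h, ?_⟩
  intro x
  obtain ⟨(Y₀ : Y.Opens), hY₀, hxY₀, -⟩ :=
    TopologicalSpace.Opens.isBasis_iff_nbhd.mp Y.isBasis_affineOpens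
      (TopologicalSpace.Opens.mem_top ((pullback.fst p (U.ι ≫ q)) x))
  refine ⟨pullback.fst p (U.ι ≫ q) ⁻¹ᵁ Y₀, hxY₀, ?_⟩
  have hproj : ProjOpen p Y₀ := ⟨hY₀, by
    letI := (Y₀.ι ≫ p).appTop.hom.toAlgebra
    exact projective_of_isField (isField_Γ_Spec k)⟩
  exact projOpen_preimage (IsPullback.of_hasPullback p (U.ι ≫ q)) hproj

/-- **The field case**: for arbitrary schemes `Y`, `T` over a field `k` and a closed subscheme
`E` of `Y ×ₖ T`, the locus of `T` over which `E` is everything is a closed subscheme of `T`. -/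
theorem exists_repBy_of_field {k : Type u} [Field k] {Y T Z E : Scheme.{u}}
    {p : Y ⟶ Spec (CommRingCat.of k)} {q : T ⟶ Spec (CommRingCat.of k)} {fst : Z ⟶ Y}
    {snd : Z ⟶ T} (h : IsPullback fst snd p q) (j : E ⟶ Z) [IsClosedImmersion j] :
    ∃ (T₀ : Scheme.{u}) (t : T₀ ⟶ T), IsClosedImmersion t ∧ (weilSubF snd j).RepBy t :=
  exists_repBy_of_locProj snd j (locProj_of_field h)

end Groth.Agent.Lib.Helper10.WeilClosed
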