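import Mathlib
import Groth.Agent.Lib.Helper10.WeilClosed3

/-!
# Weil restriction of closed subschemes, part 4: affine morphisms with locally projective
coordinate rings
-/

set_option autoImplicit false
set_option backward.isDefEq.respectTransparency.types false
set_option maxHeartbeats 4000000
set_option synthInstance.maxHeartbeats 400000
universe u
open CategoryTheory CategoryTheory.Limits AlgebraicGeometry TensorProduct

namespace Groth.Agent.Lib.Helper10.WeilClosed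

open Groth.Agent.Lib.Helper10.ClosedSubF Groth.Agent.Lib.Helper25.ClosedDescent

/-- transport of projectivity along isomorphisms of rings. -/
theorem projective_of_iso {A B A' B' : CommRingCat.{u}} {α : A ⟶ B} {α' : A' ⟶ B'}
    (ρ₁ : A ⟶ A') (ρ₂ : B ⟶ B') [IsIso ρ₁] [IsIso ρ₂] (h : α ≫ ρ₂ = ρ₁ ≫ α')
    (hproj : letI := α.hom.toAlgebra; Module.Projective A B) :
    letI := α'.hom.toAlgebra; Module.Projective A' B' :=
  projective_of_isPushout (IsPushout.of_vert_isIso ⟨h⟩) hproj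

theorem projOpen_opensRange {S Z₁ Y₀ : Scheme.{u}} (f₁ : Z₁ ⟶ S) (i₀ : Y₀ ⟶ Z₁)
    [IsOpenImmersion i₀] [IsAffine Y₀]
    (h : letI := (i₀ ≫ f₁).appTop.hom.toAlgebra; Module.Projective Γ(S, ⊤) Γ(Y₀, ⊤)) :
    ProjOpen f₁ i₀.opensRange := by
  refine ⟨isAffineOpen_opensRange i₀, ?_⟩
  haveI : IsIso i₀.isoOpensRange.inv.appTop :=
    ⟨⟨i₀.isoOpensRange.hom.appTop, by
      rw [← Scheme.Hom.comp_appTop, Iso.hom_inv_id, Scheme.Hom.id_appTop], by
      rw [← Scheme.Hom.comp_appTop, Iso.inv_hom_id, Scheme.Hom.id_appTop]⟩⟩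
  refine projective_of_iso (𝟙 _) (i₀.isoOpensRange.inv.appTop) ?_ h
  rw [Category.id_comp, ← Scheme.Hom.comp_appTop, ← Category.assoc,
    Scheme.Hom.isoOpensRange_inv_comp]

/-- `p : Y ⟶ S₀` is an affine morphism with locally projective coordinate rings (e.g. finite
locally free, or affine with `p_* O_Y` locally free). -/
def AffLocProj {Y S₀ : Scheme.{u}} (p : Y ⟶ S₀) : Prop :=
  ∀ s : S₀, ∃ U₀ : S₀.Opens, IsAffineOpen U₀ ∧ s ∈ U₀ ∧
    ∃ (Yb : Scheme.{u}) (iY : Yb ⟶ Y) (pb : Yb ⟶ U₀.toScheme), IsAffine Yb ∧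
      IsPullback iY pb p U₀.ι ∧
      (letI := pb.appTop.hom.toAlgebra; Module.Projective Γ(↑U₀, ⊤) Γ(Yb, ⊤))

theorem locProj_snd_of_affLocProj {Y X S₀ Z : Scheme.{u}} {p : Y ⟶ S₀} {q : X ⟶ S₀}
    (h : AffLocProj p) {fst : Z ⟶ Y} {snd : Z ⟶ X} (hpb : IsPullback fst snd p q) :
    LocProj snd := by
  intro x
  obtain ⟨U₀, hU₀, hxU₀, Yb, iY, pb, hYb, hYpb, hproj⟩ := h (q x)
  obtain ⟨(U : X.Opens), hU, hxU, hUle⟩ :=
    TopologicalSpace.Opens.isBasis_iff_nbhd.mp X.isBasis_affineOpens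
      (show x ∈ q ⁻¹ᵁ U₀ from hxU₀)
  haveI : IsAffine U.toScheme := hU
  haveI : IsAffine U₀.toScheme := hU₀
  let qU : U.toScheme ⟶ U₀.toScheme := q.resLE U₀ U hUle
  have hqU : qU ≫ U₀.ι = U.ι ≫ q := Scheme.Hom.resLE_comp_ι _ _
  have h1 : IsPullback (pullback.fst pb qU ≫ iY) (pullback.snd pb qU) p (U.ι ≫ q) := by
    rw [← hqU]
    exact (IsPullback.of_hasPullback pb qU).paste_horiz hYpb
  refine ⟨U, hU, hxU, pullback pb qU, _, pullback.snd pb qU, IsPullback.of_right' h1 hpb, ?_⟩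
  intro x'
  have hP : ProjOpen pb (Scheme.Hom.opensRange (𝟙 Yb)) := by
    refine projOpen_opensRange pb (𝟙 Yb) ?_
    rw [Category.id_comp]
    exact hproj
  refine ⟨pullback.fst pb qU ⁻¹ᵁ (Scheme.Hom.opensRange (𝟙 Yb)), ?_,
    projOpen_preimage (IsPullback.of_hasPullback pb qU) hP⟩
  exact ⟨(pullback.fst pb qU) x', rfl⟩

/-- **Weil restriction along the base change of an affine, locally projective morphism.** -/
theorem exists_repBy_of_affLocProj {Y X S₀ Z E : Scheme.{u}} {p : Y ⟶ S₀} {q : X ⟶ S₀}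
    (h : AffLocProj p) {fst : Z ⟶ Y} {snd : Z ⟶ X} (hpb : IsPullback fst snd p q) (j : E ⟶ Z)
    [IsClosedImmersion j] :
    ∃ (T₀ : Scheme.{u}) (t : T₀ ⟶ X), IsClosedImmersion t ∧ (weilSubF snd j).RepBy t :=
  exists_repBy_of_locProj snd j (locProj_snd_of_affLocProj h hpb)

end Groth.Agent.Lib.Helper10.WeilClosed

namespace Groth.Agent.Lib.Helper10.WeilClosed

/-- `AffLocProj` from the sections over affine opens. -/
theorem affLocProj_of_app {Y S₀ : Scheme.{u}} (p : Y ⟶ S₀)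
    (h : ∀ s : S₀, ∃ U₀ : S₀.Opens, IsAffineOpen U₀ ∧ s ∈ U₀ ∧ IsAffineOpen (p ⁻¹ᵁ U₀) ∧
      (letI := (p.app U₀).hom.toAlgebra; Module.Projective Γ(S₀, U₀) Γ(Y, p ⁻¹ᵁ U₀))) :
    AffLocProj p := by
  intro s
  obtain ⟨U₀, hU₀, hs, hV, hproj⟩ := h s
  refine ⟨U₀, hU₀, hs, (p ⁻¹ᵁ U₀).toScheme, (p ⁻¹ᵁ U₀).ι, p.resLE U₀ (p ⁻¹ᵁ U₀) le_rfl, hV, ?_, ?_⟩
  · rw [Scheme.Hom.resLE_eq_morphismRestrict]
    exact (isPullback_morphismRestrict p U₀).flip
  · refine projective_of_iso (α := p.app U₀) U₀.topIso.inv (p ⁻¹ᵁ U₀).topIso.inv ?_ hproj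
    have e : (p.resLE U₀ (p ⁻¹ᵁ U₀) le_rfl).appTop =
        U₀.topIso.hom ≫ p.appLE U₀ (p ⁻¹ᵁ U₀) le_rfl ≫ (p ⁻¹ᵁ U₀).topIso.inv :=
      Scheme.Hom.resLE_app_top _ _
    rw [e, Iso.inv_hom_id_assoc, Scheme.Hom.appLE_eq_app]

end Groth.Agent.Lib.Helper10.WeilClosed

namespace Groth.Agent.Lib.Helper10.WeilClosed

/-- finite locally free morphisms are affine with locally projective coordinate rings. -/
theorem affLocProj_of_finite_flat_lfp {Y S₀ : Scheme.{u}} (p : Y ⟶ S₀) [IsFinite p] [Flat p]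
    [LocallyOfFinitePresentation p] : AffLocProj p := by
  refine affLocProj_of_app p (fun s => ?_)
  obtain ⟨(U₀ : S₀.Opens), hU₀, hs, -⟩ :=
    TopologicalSpace.Opens.isBasis_iff_nbhd.mp S₀.isBasis_affineOpens
      (TopologicalSpace.Opens.mem_top s)
  have hV : IsAffineOpen (p ⁻¹ᵁ U₀) := hU₀.preimage p
  refine ⟨U₀, hU₀, hs, hV, ?_⟩
  have h1 : (p.app U₀).hom.Finite := IsFinite.finite_app p U₀ hU₀
  have h2 : (p.app U₀).hom.Flat := by
    have := HasRingHomProperty.appLE @Flat p ‹Flat p› ⟨U₀, hU₀⟩ ⟨_, hV⟩ le_rfl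
    rwa [Scheme.Hom.appLE_eq_app] at this
  have h3 : (p.app U₀).hom.FinitePresentation := by
    have := HasRingHomProperty.appLE @LocallyOfFinitePresentation p
      ‹LocallyOfFinitePresentation p› ⟨U₀, hU₀⟩ ⟨_, hV⟩ le_rfl
    rwa [Scheme.Hom.appLE_eq_app] at this
  letI := (p.app U₀).hom.toAlgebra
  haveI : Module.Finite Γ(S₀, U₀) Γ(Y, p ⁻¹ᵁ U₀) := h1
  haveI : Module.Flat Γ(S₀, U₀) Γ(Y, p ⁻¹ᵁ U₀) := h2
  haveI : Algebra.FinitePresentation Γ(S₀, U₀) Γ(Y, p ⁻¹ᵁ U₀) := h3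
  haveI : Module.FinitePresentation Γ(S₀, U₀) Γ(Y, p ⁻¹ᵁ U₀) :=
    Module.FinitePresentation.of_finite_of_finitePresentation _ _
  exact Module.Flat.projective_of_finitePresentation

end Groth.Agent.Lib.Helper10.WeilClosed
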