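import Mathlib
import Groth.Agent.Lib.Helper10.WeilClosed4

/-!
# Fixed loci of morphisms `a : Y ⊗ X ⟶ X` over a field are closed subschemes
-/

set_option autoImplicit false
set_option backward.isDefEq.respectTransparency.types false
set_option maxHeartbeats 4000000
set_option synthInstance.maxHeartbeats 400000
universe u
open CategoryTheory CategoryTheory.Limits AlgebraicGeometry MonoidalCategory
  CartesianMonoidalCategory

namespace Groth.Agent.Lib.Helper10.FixLocus

open Groth.Agent.Lib.Helper10.ClosedSubF Groth.Agent.Lib.Helper10.WeilClosed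

variable {S₀ : Scheme.{u}} {X Y : Over S₀}

/-- the fixed-locus subfunctor of `a : Y ⊗ X ⟶ X` -/
noncomputable def fixSub (a : Y ⊗ X ⟶ X) : SubF X.left :=
  weilSubF (snd Y X).left (equalizer.ι a (snd Y X)).left

theorem fixSub_isZarLocal (a : Y ⊗ X ⟶ X) : (fixSub a).IsZarLocal :=
  weilSubF_isZarLocal _ _

theorem fixSub_iff (a : Y ⊗ X ⟶ X) {T : Over S₀} (x : T ⟶ X) :
    (fixSub a).P x.left ↔ (Y ◁ x) ≫ a = snd Y T ≫ x := by
  constructor
  · intro h
    obtain ⟨w, hw⟩ := h (Y ◁ x).left (snd Y T).left (by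
      have := congrArg (fun m => m.left) (whiskerLeft_snd Y x)
      simpa using this)
    apply Over.OverMorphism.ext
    have hc := congrArg (fun m => m.left) (equalizer.condition a (snd Y X))
    simp only [Over.comp_left] at hc
    rw [Over.comp_left, ← hw, Category.assoc, hc, ← Category.assoc, hw]
    have := congrArg (fun m => m.left) (whiskerLeft_snd Y x)
    simpa using this
  · intro heq W a₀ b hab
    have hW : a₀ ≫ (Y ⊗ X).hom = b ≫ T.hom := by
      rw [← Over.w (snd Y X), ← Category.assoc, hab, Category.assoc, Over.w]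
    let W' : Over S₀ := Over.mk (b ≫ T.hom)
    let b' : W' ⟶ T := Over.homMk b rfl
    let a₀' : W' ⟶ Y ⊗ X := Over.homMk a₀ hW
    have e1 : a₀' ≫ snd Y X = b' ≫ x := Over.OverMorphism.ext hab
    have e2 : a₀' = lift (a₀' ≫ fst Y X) b' ≫ (Y ◁ x) := by
      apply CartesianMonoidalCategory.hom_ext
      · simp
      · simp [e1]
    have e3 : a₀' ≫ a = a₀' ≫ snd Y X := by
      conv_lhs => rw [e2]
      rw [Category.assoc, heq, lift_snd_assoc, e1]
    exact ⟨(equalizer.lift a₀' e3).left, congrArg (fun m => m.left) (equalizer.lift_ι a₀' e3)⟩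

/-- From a representing closed subscheme to the statement over `S₀`. -/
theorem exists_fix_of_repBy (a : Y ⊗ X ⟶ X) {T₀ : Scheme.{u}} (t : T₀ ⟶ X.left)
    [IsClosedImmersion t] (h : (fixSub a).RepBy t) :
    ∃ (Z : Over S₀) (j : Z ⟶ X), IsClosedImmersion j.left ∧ (Y ◁ j) ≫ a = snd Y Z ≫ j ∧
      ∀ (T : Over S₀) (x : T ⟶ X), (Y ◁ x) ≫ a = snd Y T ≫ x ↔ ∃ z : T ⟶ Z, z ≫ j = x := by
  let Z : Over S₀ := Over.mk (t ≫ X.hom)
  let j : Z ⟶ X := Over.homMk t rfl
  refine ⟨Z, j, ‹_›, (fixSub_iff a j).1 h.self, fun T x => ?_⟩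
  rw [← fixSub_iff, h x.left]
  constructor
  · rintro ⟨g', hg'⟩
    refine ⟨Over.homMk g' ?_, ?_⟩
    · change g' ≫ t ≫ X.hom = T.hom
      rw [← Category.assoc, hg', Over.w]
    · apply Over.OverMorphism.ext
      exact hg'
  · rintro ⟨z, rfl⟩
    exact ⟨z.left, rfl⟩

section Field

variable {k : Type u} [Field k] {X Y : Over (Spec (CommRingCat.of k))}

/-- **Separated case.** -/
theorem exists_repBy_fixSub_of_isSeparated [IsSeparated X.hom] (a : Y ⊗ X ⟶ X) :
    ∃ (T₀ : Scheme.{u}) (t : T₀ ⟶ X.left), IsClosedImmersion t ∧ (fixSub a).RepBy t :=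
  exists_repBy_of_field (IsPullback.of_hasPullback Y.hom X.hom) (equalizer.ι a (snd Y X)).left

/-- **Case where all opens are stable.** -/
theorem exists_repBy_fixSub_of_stable (a : Y ⊗ X ⟶ X)
    (hstab : ∀ U : X.left.Opens, (snd Y X).left ⁻¹ᵁ U ≤ a.left ⁻¹ᵁ U) :
    ∃ (T₀ : Scheme.{u}) (t : T₀ ⟶ X.left), IsClosedImmersion t ∧ (fixSub a).RepBy t := by
  refine exists_repBy_of_good (fixSub a) (fun x => ?_) (fixSub_isZarLocal a)
  obtain ⟨(U : X.left.Opens), hU, hxU, -⟩ :=
    TopologicalSpace.Opens.isBasis_iff_nbhd.mp X.left.isBasis_affineOpens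
      (TopologicalSpace.Opens.mem_top x)
  refine ⟨U, hU, hxU, ?_⟩
  haveI : IsAffine U.toScheme := hU
  let XU : Over (Spec (CommRingCat.of k)) := Over.mk (U.ι ≫ X.hom)
  let iU : XU ⟶ X := Over.homMk U.ι rfl
  haveI : Mono iU := by
    haveI : Mono iU.left := inferInstanceAs (Mono U.ι)
    exact Over.mono_of_mono_left _
  have hrange : Set.range ((Y ◁ iU) ≫ a).left ⊆ Set.range U.ι := by
    rintro _ ⟨z, rfl⟩
    rw [Scheme.Opens.range_ι]
    have h1 : (snd Y X).left ((Y ◁ iU).left z) ∈ U := by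
      have := congrArg (fun m => m.left) (whiskerLeft_snd Y iU)
      simp only [Over.comp_left] at this
      rw [← Scheme.Hom.comp_apply, this, Scheme.Hom.comp_apply]
      exact ((snd Y XU).left z).2
    exact hstab U h1
  let aU : Y ⊗ XU ⟶ XU := Over.homMk (IsOpenImmersion.lift U.ι ((Y ◁ iU) ≫ a).left hrange) (by
    change _ ≫ U.ι ≫ X.hom = _
    rw [← Category.assoc, IsOpenImmersion.lift_fac, Over.w])
  have haU : aU ≫ iU = (Y ◁ iU) ≫ a := by
    apply Over.OverMorphism.ext
    exact IsOpenImmersion.lift_fac _ _ _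
  haveI : IsSeparated XU.hom := inferInstanceAs (IsSeparated (U.ι ≫ X.hom))
  obtain ⟨T₀, t, ht, hrep⟩ := exists_repBy_fixSub_of_isSeparated aU
  refine ⟨T₀, t, ht, ?_⟩
  intro S' g
  rw [← hrep g]
  let T : Over (Spec (CommRingCat.of k)) := Over.mk (g ≫ XU.hom)
  let xU : T ⟶ XU := Over.homMk g rfl
  change (fixSub a).P (xU ≫ iU).left ↔ (fixSub aU).P xU.left
  rw [fixSub_iff, fixSub_iff, whiskerLeft_comp, Category.assoc, ← haU, ← Category.assoc,
    ← Category.assoc, cancel_mono]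

end Field

section General

variable {S₀ : Scheme.{u}} {X Y : Over S₀}

/-- **Separated case**, `Y` affine with locally projective coordinate ring over any base. -/
theorem exists_repBy_fixSub_of_isSeparated_of_affLocProj (hY : AffLocProj Y.hom)
    [IsSeparated X.hom] (a : Y ⊗ X ⟶ X) :
    ∃ (T₀ : Scheme.{u}) (t : T₀ ⟶ X.left), IsClosedImmersion t ∧ (fixSub a).RepBy t :=
  exists_repBy_of_affLocProj hY (IsPullback.of_hasPullback Y.hom X.hom)
    (equalizer.ι a (snd Y X)).left

/-- **Case where all opens are stable**, `Y` affine with locally projective coordinate ring. -/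
theorem exists_repBy_fixSub_of_stable_of_affLocProj (hY : AffLocProj Y.hom) (a : Y ⊗ X ⟶ X)
    (hstab : ∀ U : X.left.Opens, (snd Y X).left ⁻¹ᵁ U ≤ a.left ⁻¹ᵁ U) :
    ∃ (T₀ : Scheme.{u}) (t : T₀ ⟶ X.left), IsClosedImmersion t ∧ (fixSub a).RepBy t := by
  refine exists_repBy_of_good (fixSub a) (fun x => ?_) (fixSub_isZarLocal a)
  obtain ⟨(U : X.left.Opens), hU, hxU, -⟩ :=
    TopologicalSpace.Opens.isBasis_iff_nbhd.mp X.left.isBasis_affineOpens
      (TopologicalSpace.Opens.mem_top x)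
  refine ⟨U, hU, hxU, ?_⟩
  haveI : IsAffine U.toScheme := hU
  let XU : Over S₀ := Over.mk (U.ι ≫ X.hom)
  let iU : XU ⟶ X := Over.homMk U.ι rfl
  haveI : Mono iU := by
    haveI : Mono iU.left := inferInstanceAs (Mono U.ι)
    exact Over.mono_of_mono_left _
  have hrange : Set.range ((Y ◁ iU) ≫ a).left ⊆ Set.range U.ι := by
    rintro _ ⟨z, rfl⟩
    rw [Scheme.Opens.range_ι]
    have h1 : (snd Y X).left ((Y ◁ iU).left z) ∈ U := by
      have := congrArg (fun m => m.left) (whiskerLeft_snd Y iU)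
      simp only [Over.comp_left] at this
      rw [← Scheme.Hom.comp_apply, this, Scheme.Hom.comp_apply]
      exact ((snd Y XU).left z).2
    exact hstab U h1
  let aU : Y ⊗ XU ⟶ XU := Over.homMk (IsOpenImmersion.lift U.ι ((Y ◁ iU) ≫ a).left hrange) (by
    change _ ≫ U.ι ≫ X.hom = _
    rw [← Category.assoc, IsOpenImmersion.lift_fac, Over.w])
  have haU : aU ≫ iU = (Y ◁ iU) ≫ a := by
    apply Over.OverMorphism.ext
    exact IsOpenImmersion.lift_fac _ _ _
  haveI : IsSeparated XU.hom := inferInstanceAs (IsSeparated (U.ι ≫ X.hom))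
  obtain ⟨T₀, t, ht, hrep⟩ := exists_repBy_fixSub_of_isSeparated_of_affLocProj hY aU
  refine ⟨T₀, t, ht, ?_⟩
  intro S' g
  rw [← hrep g]
  let T : Over S₀ := Over.mk (g ≫ XU.hom)
  let xU : T ⟶ XU := Over.homMk g rfl
  change (fixSub a).P (xU ≫ iU).left ↔ (fixSub aU).P xU.left
  rw [fixSub_iff, fixSub_iff, whiskerLeft_comp, Category.assoc, ← haU, ← Category.assoc,
    ← Category.assoc, cancel_mono]

/-- fixedness for an action-like morphism in terms of points. -/
theorem fix_iff_points (a : Y ⊗ X ⟶ X) {T : Over S₀} (f : T ⟶ X) :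
    (Y ◁ f) ≫ a = snd Y T ≫ f ↔
      ∀ (T' : Over S₀) (t : T' ⟶ T) (g : T' ⟶ Y), lift g (t ≫ f) ≫ a = t ≫ f := by
  constructor
  · intro h T' t' g
    have e : lift g (t' ≫ f) = lift g t' ≫ (Y ◁ f) := by
      apply CartesianMonoidalCategory.hom_ext <;> simp
    rw [e, Category.assoc, h, lift_snd_assoc]
  · intro h
    have := h (Y ⊗ T) (snd Y T) (fst Y T)
    have e : lift (fst Y T) (snd Y T ≫ f) = Y ◁ f := by
      apply CartesianMonoidalCategory.hom_ext <;> simp
    rwa [e] at this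

end General

end Groth.Agent.Lib.Helper10.FixLocus
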