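import Mathlib
import Groth.Agent.Lib.Helper10.FixLocus

/-!
# Weil restriction of closed subschemes, part 5: flat descent of the base
-/

set_option autoImplicit false
set_option backward.isDefEq.respectTransparency.types false
set_option maxHeartbeats 4000000
set_option synthInstance.maxHeartbeats 400000
universe u
open CategoryTheory CategoryTheory.Limits AlgebraicGeometry TensorProduct

namespace Groth.Agent.Lib.Helper10.WeilClosed

open Groth.Agent.Lib.Helper10.ClosedSubF Groth.Agent.Lib.Helper25.ClosedDescent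

theorem isPullback_comp_mono {C : Type*} [Category C] {P X Y Z W : C} {fst : P ⟶ X} {snd : P ⟶ Y}
    {f : X ⟶ Z} {g : Y ⟶ Z} (h : IsPullback fst snd f g) (i : Z ⟶ W) [Mono i] :
    IsPullback fst snd (f ≫ i) (g ≫ i) := by
  refine ⟨⟨by rw [← Category.assoc, h.w, Category.assoc]⟩, ⟨PullbackCone.IsLimit.mk _
    (fun s => h.lift s.fst s.snd (by
      have := s.condition
      rw [← Category.assoc, ← Category.assoc] at this
      exact (cancel_mono i).1 this))
    (fun s => h.lift_fst _ _ _) (fun s => h.lift_snd _ _ _)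
    (fun s m h1 h2 => h.hom_ext (by simpa using h1) (by simpa using h2))⟩⟩

variable {Z S Y : Scheme.{u}}

/-- flat descent for `weilSubF` along a quasi-compact flat surjective morphism to the base. -/
theorem exists_repBy_of_cover (f : Z ⟶ S) (j : Y ⟶ Z) [IsClosedImmersion j]
    {S' : Scheme.{u}} (π : S' ⟶ S) [Flat π] [Surjective π] [QuasiCompact π]
    {Z₁ Y₁ : Scheme.{u}} {f₁ : Z₁ ⟶ S'} {cz : Z₁ ⟶ Z} {j₁ : Y₁ ⟶ Z₁} {cy : Y₁ ⟶ Y}
    (hZ : IsPullback cz f₁ f π) (hY : IsPullback cy j₁ j cz)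
    {T' : Scheme.{u}} (t' : T' ⟶ S') [IsClosedImmersion t'] (h : (weilSubF f₁ j₁).RepBy t') :
    ∃ (T : Scheme.{u}) (t : T ⟶ S), IsClosedImmersion t ∧ (weilSubF f j).RepBy t := by
  refine SubF.exists_repBy_of_qc π (weilSubF f j) (weilSubF_isLocal f j) t' ?_
  intro S'' g
  rw [← h g]
  exact weilSubF_iff_of_isPullback f j hZ hY g

/-- **Weil restriction along a morphism which becomes affine with locally projective coordinate
ring after a flat quasi-compact surjective base change.** -/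
theorem exists_repBy_of_affLocProj_of_cover {H X S₀ Z E S' H' X' : Scheme.{u}} {p : H ⟶ S₀}
    {q : X ⟶ S₀} {fst : Z ⟶ H} {snd : Z ⟶ X} (hpb : IsPullback fst snd p q) (j : E ⟶ Z)
    [IsClosedImmersion j] {c : S' ⟶ S₀} {cH : H' ⟶ H} {p' : H' ⟶ S'} (hH : IsPullback cH p' p c)
    (hp' : AffLocProj p') {π : X' ⟶ X} {q' : X' ⟶ S'} (hX : IsPullback π q' q c)
    [Flat π] [Surjective π] [QuasiCompact π] :
    ∃ (T₀ : Scheme.{u}) (t : T₀ ⟶ X), IsClosedImmersion t ∧ (weilSubF snd j).RepBy t := by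
  let cz := pullback.fst snd π
  let f₁ := pullback.snd snd π
  have hZ : IsPullback cz f₁ snd π := IsPullback.of_hasPullback snd π
  let j₁ := pullback.snd j cz
  have hY : IsPullback (pullback.fst j cz) j₁ j cz := IsPullback.of_hasPullback j cz
  have hcomm : (cz ≫ fst) ≫ p = (f₁ ≫ q') ≫ c := by
    rw [Category.assoc, hpb.w, ← Category.assoc, hZ.w, Category.assoc, hX.w, Category.assoc]
  let u : pullback snd π ⟶ H' := hH.lift (cz ≫ fst) (f₁ ≫ q') hcomm
  have hu1 : u ≫ cH = cz ≫ fst := hH.lift_fst _ _ _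
  have hu2 : u ≫ p' = f₁ ≫ q' := hH.lift_snd _ _ _
  have houter : IsPullback (u ≫ cH) f₁ p (q' ≫ c) := by
    rw [hu1, ← hX.w]
    exact hZ.paste_horiz hpb
  have hpb' : IsPullback u f₁ p' q' := IsPullback.of_right houter hu2 hH
  obtain ⟨T', t', ht', hrep⟩ := exists_repBy_of_affLocProj hp' hpb' j₁
  exact exists_repBy_of_cover snd j π hZ hY t' hrep

end Groth.Agent.Lib.Helper10.WeilClosed
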