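import Mathlib
import Groth.Agent.Lib.Helper10.WeilClosed5

/-!
# Weil restriction of closed subschemes, part 6: fpqc-local version
-/

set_option autoImplicit false
set_option backward.isDefEq.respectTransparency.types false
set_option maxHeartbeats 4000000
set_option synthInstance.maxHeartbeats 400000
universe u
open CategoryTheory CategoryTheory.Limits AlgebraicGeometry TensorProduct

namespace Groth.Agent.Lib.Helper10.WeilClosed

open Groth.Agent.Lib.Helper10.ClosedSubF Groth.Agent.Lib.Helper25.ClosedDescent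

/-- `AffLocProj` is stable under base change. -/
theorem affLocProj_of_isPullback {Y X S₀ Z : Scheme.{u}} {p : Y ⟶ S₀} {q : X ⟶ S₀}
    (h : AffLocProj p) {fst : Z ⟶ Y} {snd : Z ⟶ X} (hpb : IsPullback fst snd p q) :
    AffLocProj snd := by
  intro x
  obtain ⟨U₀, hU₀, hxU₀, Yb, iY, pb, hYb, hYpb, hproj⟩ := h (q x)
  obtain ⟨(U : X.Opens), hU, hxU, hUle⟩ :=
    TopologicalSpace.Opens.isBasis_iff_nbhd.mp X.isBasis_affineOpens
      (show x ∈ q ⁻¹ᵁ U₀ from hxU₀)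
  haveI : IsAffine U.toScheme := hU
  haveI : IsAffine U₀.toScheme := hU₀
  haveI : IsAffine Yb := hYb
  let qU : U.toScheme ⟶ U₀.toScheme := q.resLE U₀ U hUle
  have hqU : qU ≫ U₀.ι = U.ι ≫ q := Scheme.Hom.resLE_comp_ι _ _
  have h1 : IsPullback (pullback.fst pb qU ≫ iY) (pullback.snd pb qU) p (U.ι ≫ q) := by
    rw [← hqU]
    exact (IsPullback.of_hasPullback pb qU).paste_horiz hYpb
  refine ⟨U, hU, hxU, pullback pb qU, _, pullback.snd pb qU, inferInstance,
    IsPullback.of_right' h1 hpb, ?_⟩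
  exact projective_of_isPushout
    (isPushout_appTop_of_isPullback (IsPullback.of_hasPullback pb qU)) hproj

/-- `AffLocProj` is Zariski local on the target (in a form allowing isomorphic models). -/
theorem affLocProj_of_local {H' S' : Scheme.{u}} (p' : H' ⟶ S')
    (h : ∀ s' : S', ∃ U : S'.Opens, s' ∈ U ∧ ∃ (D : Scheme.{u}) (iD : D ⟶ H')
      (d : D ⟶ U.toScheme), IsPullback iD d p' U.ι ∧ AffLocProj d) : AffLocProj p' := by
  intro s'
  obtain ⟨U, hs'U, D, iD, d, hD, hd⟩ := h s'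
  obtain ⟨U₀, hU₀, hsU₀, Yb, iY, pb, hYb, hYpb, hproj⟩ := hd ⟨s', hs'U⟩
  let e := U.ι.isoImage U₀
  have he : e.hom ≫ (U.ι ''ᵁ U₀).ι = U₀.ι ≫ U.ι := Scheme.Hom.isoImage_hom_ι _ _
  refine ⟨U.ι ''ᵁ U₀, hU₀.image_of_isOpenImmersion U.ι, ⟨⟨s', hs'U⟩, hsU₀, rfl⟩, Yb, iY ≫ iD,
    pb ≫ e.hom, hYb, ?_, ?_⟩
  · have h1 : IsPullback (iY ≫ iD) pb p' (U₀.ι ≫ U.ι) := hYpb.paste_horiz hD
    rw [← he] at h1
    exact IsPullback.of_iso h1 (Iso.refl _) (Iso.refl _) e (Iso.refl _) (by simp) (by simp)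
      (by simp) (by simp)
  · haveI : IsIso e.hom.appTop :=
      ⟨⟨e.inv.appTop, by
        rw [← Scheme.Hom.comp_appTop, Iso.inv_hom_id, Scheme.Hom.id_appTop], by
        rw [← Scheme.Hom.comp_appTop, Iso.hom_inv_id, Scheme.Hom.id_appTop]⟩⟩
    refine projective_of_iso (α := pb.appTop) (inv e.hom.appTop) (𝟙 _) ?_ hproj
    rw [Category.comp_id, Scheme.Hom.comp_appTop, IsIso.inv_hom_id_assoc]

/-- **Weil restriction along a morphism which becomes affine with locally projective coordinate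
ring after an fpqc base change.** -/
theorem exists_repBy_of_affLocProj_of_fpqc {H X S₀ Z E S' H' : Scheme.{u}} {p : H ⟶ S₀}
    {q : X ⟶ S₀} {fst : Z ⟶ H} {snd : Z ⟶ X} (hpb : IsPullback fst snd p q) (j : E ⟶ Z)
    [IsClosedImmersion j] {c : S' ⟶ S₀} [Flat c]
    (hfpqc : ∀ V : S₀.Opens, IsAffineOpen V → ∃ W : S'.Opens, IsCompact (W : Set S') ∧
      c.base '' (W : Set S') = (V : Set S₀))
    {cH : H' ⟶ H} {p' : H' ⟶ S'} (hH : IsPullback cH p' p c) (hp' : AffLocProj p') :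
    ∃ (T₀ : Scheme.{u}) (t : T₀ ⟶ X), IsClosedImmersion t ∧ (weilSubF snd j).RepBy t := by
  refine exists_repBy_of_good (weilSubF snd j) (fun x => ?_) (weilSubF_isZarLocal snd j)
  obtain ⟨(V₀ : S₀.Opens), hV₀, hxV₀, -⟩ :=
    TopologicalSpace.Opens.isBasis_iff_nbhd.mp S₀.isBasis_affineOpens
      (TopologicalSpace.Opens.mem_top (q x))
  obtain ⟨(V : X.Opens), hV, hxV, hVle⟩ :=
    TopologicalSpace.Opens.isBasis_iff_nbhd.mp X.isBasis_affineOpens
      (show x ∈ q ⁻¹ᵁ V₀ from hxV₀)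
  refine ⟨V, hV, hxV, ?_⟩
  haveI : IsAffine V.toScheme := hV
  haveI : IsAffine V₀.toScheme := hV₀
  obtain ⟨W, hWc, hWim⟩ := hfpqc V₀ hV₀
  obtain ⟨s, hsfin, hWs⟩ := isCompact_iff_finite_and_eq_biUnion_affineOpens.1 hWc
  haveI : Finite s := hsfin
  let g : s → Scheme.{u} := fun k => (k.1.1 : Scheme.{u})
  haveI : ∀ k, IsAffine (g k) := fun k => k.1.2
  let σ : ∐ g ⟶ S' := Sigma.desc fun k => k.1.1.ι
  have hkW : ∀ k : s, k.1.1 ≤ W := by
    intro k
    rw [hWs]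
    exact le_iSup₂_of_le k.1 k.2 le_rfl
  have hrange : ∀ k : s, Set.range (k.1.1.ι ≫ c) ⊆ Set.range V₀.ι := by
    rintro k _ ⟨z, rfl⟩
    rw [Scheme.Opens.range_ι, ← hWim]
    exact ⟨k.1.1.ι z, hkW k z.2, rfl⟩
  let c₀ : ∐ g ⟶ V₀.toScheme :=
    Sigma.desc fun k => IsOpenImmersion.lift V₀.ι (k.1.1.ι ≫ c) (hrange k)
  have hc₀ : c₀ ≫ V₀.ι = σ ≫ c := by
    refine Sigma.hom_ext _ _ (fun k => ?_)
    simp only [c₀, σ, Sigma.ι_desc_assoc, IsOpenImmersion.lift_fac]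
  haveI : Flat σ := IsZariskiLocalAtSource.sigmaDesc (fun k => inferInstance)
  have hflat : Flat (σ ≫ c) := inferInstance
  let qV : V.toScheme ⟶ V₀.toScheme := q.resLE V₀ V hVle
  have hqV : qV ≫ V₀.ι = V.ι ≫ q := Scheme.Hom.resLE_comp_ι _ _
  have hX : IsPullback (pullback.fst qV c₀) (pullback.snd qV c₀) (V.ι ≫ q) (σ ≫ c) := by
    have := isPullback_comp_mono (IsPullback.of_hasPullback qV c₀) V₀.ι
    rwa [hqV, hc₀] at this
  haveI : Flat (pullback.fst qV c₀) := MorphismProperty.of_isPullback hX.flip hflat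
  haveI : Surjective (pullback.fst qV c₀) := by
    refine ⟨fun v => ?_⟩
    have hv : q (V.ι v) ∈ c.base '' (W : Set S') := by
      rw [hWim]
      exact hVle v.2
    obtain ⟨w, hwW, hw⟩ := hv
    have hw' : w ∈ ⨆ i ∈ s, (i : S'.Opens) := hWs ▸ hwW
    simp only [TopologicalSpace.Opens.mem_iSup] at hw'
    obtain ⟨k, hk, hwk⟩ := hw'
    let s'' : ↥(∐ g) := Sigma.ι g ⟨k, hk⟩ ⟨w, hwk⟩
    have hs'' : σ s'' = w := by
      change (Sigma.ι g ⟨k, hk⟩ ≫ σ) ⟨w, hwk⟩ = w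
      simp only [σ, Sigma.ι_desc]
      rfl
    have hcomm : qV v = c₀ s'' := by
      apply V₀.ι.isOpenEmbedding.injective
      change (qV ≫ V₀.ι) v = (c₀ ≫ V₀.ι) s''
      rw [hqV, hc₀]
      change q (V.ι v) = c (σ s'')
      rw [hs'', hw]
    obtain ⟨z, hz, -⟩ := Scheme.Pullback.exists_preimage_pullback v s'' hcomm
    exact ⟨z, hz⟩
  -- the restricted situation over `V`
  let czV := pullback.fst snd V.ι
  let sndV := pullback.snd snd V.ι
  have hZV : IsPullback czV sndV snd V.ι := IsPullback.of_hasPullback snd V.ι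
  let jV := pullback.snd j czV
  have hYV : IsPullback (pullback.fst j czV) jV j czV := IsPullback.of_hasPullback j czV
  have hpbV : IsPullback (czV ≫ fst) sndV p (V.ι ≫ q) := hZV.paste_horiz hpb
  have hH'' : IsPullback (pullback.fst p' σ ≫ cH) (pullback.snd p' σ) p (σ ≫ c) :=
    (IsPullback.of_hasPullback p' σ).paste_horiz hH
  have hp'' : AffLocProj (pullback.snd p' σ) :=
    affLocProj_of_isPullback hp' (IsPullback.of_hasPullback p' σ)
  obtain ⟨T₀, t, ht, hrep⟩ := exists_repBy_of_affLocProj_of_cover hpbV jV hH'' hp'' hX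
  refine ⟨T₀, t, ht, ?_⟩
  intro S'' g'
  rw [← hrep g']
  exact weilSubF_iff_of_isPullback snd j hZV hYV g'

end Groth.Agent.Lib.Helper10.WeilClosed
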