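import Mathlib
import Groth.Agent.Lib.Helper10.WeilClosed6

/-!
# Weil restriction of closed subschemes, part 7: finite presentation
-/

set_option autoImplicit false
set_option backward.isDefEq.respectTransparency.types false
set_option maxHeartbeats 4000000
set_option synthInstance.maxHeartbeats 400000
universe u
open CategoryTheory CategoryTheory.Limits AlgebraicGeometry TensorProduct

namespace Groth.Agent.Lib.Helper10.ClosedSubF.SubF

variable {X : Scheme.{u}}

/-- base change of a representing morphism. -/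
theorem RepBy.pullback {Φ : SubF X} {W : Scheme.{u}} {i : W ⟶ X} (h : Φ.RepBy i) {Y : Scheme.{u}}
    (c : Y ⟶ X) : (Φ.restrict c).RepBy (pullback.snd i c) := by
  intro T g
  change Φ.P (g ≫ c) ↔ _
  rw [h (g ≫ c)]
  constructor
  · rintro ⟨w, hw⟩
    exact ⟨pullback.lift w g hw, pullback.lift_snd _ _ _⟩
  · rintro ⟨w, rfl⟩
    exact ⟨w ≫ pullback.fst i c, by rw [Category.assoc, Category.assoc, pullback.condition]⟩

/-- two monomorphisms representing the same subfunctor are isomorphic. -/
theorem RepBy.exists_iso {Φ : SubF X} {W W' : Scheme.{u}} {i : W ⟶ X} {i' : W' ⟶ X} [Mono i]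
    [Mono i'] (h : Φ.RepBy i) (h' : Φ.RepBy i') : ∃ e : W ≅ W', e.hom ≫ i' = i := by
  obtain ⟨a, ha⟩ := (h' i).1 h.self
  obtain ⟨b, hb⟩ := (h i').1 h'.self
  refine ⟨⟨a, b, ?_, ?_⟩, ha⟩
  · rw [← cancel_mono i, Category.assoc, hb, ha, Category.id_comp]
  · rw [← cancel_mono i', Category.assoc, ha, hb, Category.id_comp]

theorem RepBy.congr {Φ Ψ : SubF X} (hΦΨ : ∀ ⦃T : Scheme.{u}⦄ (t : T ⟶ X), Φ.P t ↔ Ψ.P t)
    {W : Scheme.{u}} {i : W ⟶ X} (h : Φ.RepBy i) : Ψ.RepBy i :=
  fun T t => (hΦΨ t).symm.trans (h t)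

/-- every closed immersion representing `Φ` is locally of finite presentation. -/
def RepLFP (Φ : SubF X) : Prop :=
  ∀ ⦃W : Scheme.{u}⦄ (i : W ⟶ X), IsClosedImmersion i → Φ.RepBy i → LocallyOfFinitePresentation i

theorem RepLFP.congr {Φ Ψ : SubF X} (hΦΨ : ∀ ⦃T : Scheme.{u}⦄ (t : T ⟶ X), Φ.P t ↔ Ψ.P t)
    (h : Φ.RepLFP) : Ψ.RepLFP :=
  fun _ i hi hrep => h i hi (RepBy.congr (fun _ t => (hΦΨ t).symm) hrep)

/-- a criterion: some representing closed immersion is lfp. -/
theorem repLFP_of_repBy {Φ : SubF X} {W : Scheme.{u}} (i : W ⟶ X) [IsClosedImmersion i]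
    [LocallyOfFinitePresentation i] (h : Φ.RepBy i) : Φ.RepLFP := by
  intro W' i' hi' h'
  obtain ⟨e, he⟩ := h'.exists_iso h
  rw [← he]
  infer_instance

/-- descent of `RepLFP` along a flat surjective quasi-compact morphism. -/
theorem repLFP_of_qc {Φ : SubF X} {U : Scheme.{u}} (π : U ⟶ X) [Flat π] [Surjective π]
    [QuasiCompact π] (h : (Φ.restrict π).RepLFP) : Φ.RepLFP := by
  intro W i hi hrep
  have h1 : LocallyOfFinitePresentation (pullback.snd i π) :=
    h (pullback.snd i π) inferInstance (hrep.pullback π)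
  exact MorphismProperty.of_pullback_snd_of_descendsAlong
    (P := @LocallyOfFinitePresentation) (Q := @Surjective ⊓ @Flat ⊓ @QuasiCompact)
    (f := i) (g := π) ⟨⟨inferInstance, inferInstance⟩, inferInstance⟩ h1

/-- `RepLFP` is Zariski local. -/
theorem repLFP_of_local {Φ : SubF X}
    (h : ∀ x : X, ∃ U : X.Opens, x ∈ U ∧ (Φ.restrict U.ι).RepLFP) : Φ.RepLFP := by
  intro W i hi hrep
  choose U hxU hU using h
  let 𝒰 : Scheme.OpenCover.{u} X :=
    { I₀ := X
      X := fun x => (U x).toScheme
      f := fun x => (U x).ι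
      mem₀ := by
        rw [Scheme.presieve₀_mem_precoverage_iff]
        refine ⟨fun x ↦ ?_, inferInstance⟩
        exact ⟨x, ⟨x, hxU x⟩, rfl⟩ }
  rw [IsZariskiLocalAtTarget.iff_of_openCover (P := @LocallyOfFinitePresentation) 𝒰]
  intro x
  exact hU x (pullback.snd i (U x).ι) inferInstance (hrep.pullback _)

end Groth.Agent.Lib.Helper10.ClosedSubF.SubF

namespace Groth.Agent.Lib.Helper10.WeilClosed

open Groth.Agent.Lib.Helper10.ClosedSubF Groth.Agent.Lib.Helper25.ClosedDescent

section Algebra

variable {A B : Type u} [CommRing A] [CommRing B] [Algebra A B]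

theorem coeffIdeal_fg [Module.Projective A B] {J : Ideal B} (hJ : J.FG) :
    (coeffIdeal A J).FG := by
  classical
  obtain ⟨s, hs⟩ := Module.projective_def'.mp (inferInstance : Module.Projective A B)
  obtain ⟨G, rfl⟩ := hJ
  have hb' : ∀ b : B, b = Finsupp.linearCombination A id (s b) := by
    intro b
    have := congrArg (fun F => F b) hs
    simpa using this.symm
  refine ⟨G.biUnion (fun b => (s b).support.image (fun x => (s b) x)), ?_⟩
  apply le_antisymm
  · rw [Ideal.span_le]
    intro a ha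
    simp only [Finset.coe_biUnion, Finset.coe_image, Set.mem_iUnion, Set.mem_image,
      Finset.mem_coe, exists_prop] at ha
    obtain ⟨b, hb, x, -, rfl⟩ := ha
    exact mem_coeffIdeal A (Ideal.subset_span hb) ((Finsupp.lapply x).comp s)
  · rw [coeffIdeal, Ideal.span_le]
    rintro a ⟨b, hb, ℓ, rfl⟩
    set I : Ideal A := Ideal.span
      (↑(G.biUnion (fun b => (s b).support.image (fun x => (s b) x))) : Set A) with hI
    have key : ∀ b (hb : b ∈ Ideal.span (G : Set B)), ∀ ℓ : B →ₗ[A] A, ℓ b ∈ I := by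
      intro b hb
      refine Submodule.span_induction (p := fun b _ => ∀ ℓ : B →ₗ[A] A, ℓ b ∈ I)
        ?_ ?_ ?_ ?_ hb
      · intro b hbG ℓ
        rw [hb' b, Finsupp.linearCombination_apply, Finsupp.sum, map_sum]
        refine Ideal.sum_mem _ (fun x hx => ?_)
        rw [id, map_smul, smul_eq_mul]
        refine Ideal.mul_mem_right _ _ (Ideal.subset_span ?_)
        simp only [Finset.coe_biUnion, Finset.coe_image, Set.mem_iUnion, Set.mem_image,
          Finset.mem_coe, exists_prop]
        exact ⟨b, hbG, x, hx, rfl⟩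
      · intro ℓ
        rw [map_zero]
        exact zero_mem _
      · intro x y _ _ hx hy ℓ
        rw [map_add]
        exact add_mem (hx ℓ) (hy ℓ)
      · intro c x _ hx ℓ
        have := hx (ℓ.comp (LinearMap.mulLeft A c))
        simpa using this
    exact key b hb ℓ

end Algebra

variable {S Z Y : Scheme.{u}}

/-- the closed subscheme of an affine scheme cut out by a finitely generated ideal is of finite
presentation. -/
theorem lfp_subschemeι_of_fg [IsAffine S] (I : Ideal Γ(S, ⊤)) (hI : I.FG) :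
    LocallyOfFinitePresentation (Scheme.IdealSheafData.ofIdealTop I).subschemeι := by
  set t := (Scheme.IdealSheafData.ofIdealTop I).subschemeι with ht
  obtain ⟨haff, hsurj⟩ := IsClosedImmersion.isAffine_surjective_of_isAffine t
  haveI := haff
  rw [HasRingHomProperty.iff_of_isAffine (P := @LocallyOfFinitePresentation)]
  refine RingHom.FinitePresentation.of_surjective _ hsurj ?_
  have hker : RingHom.ker t.appTop.hom = I := by
    have h1 := Scheme.ker_of_isAffine t
    rw [ht, Scheme.IdealSheafData.ker_subschemeι] at h1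
    exact ((Scheme.IdealSheafData.equivOfIsAffine (X := S)).symm.injective h1).symm
  rw [hker]
  exact hI

variable (f : Z ⟶ S) (j : Y ⟶ Z) [IsClosedImmersion j]

theorem JV_fg [LocallyOfFinitePresentation j] {V : Z.Opens} (hV : IsAffineOpen V) :
    (JV j V).FG := by
  haveI : IsAffine V.toScheme := hV
  obtain ⟨haff, hsurj⟩ := IsClosedImmersion.isAffine_surjective_of_isAffine (pullback.snd j V.ι)
  haveI := haff
  have hfp : (pullback.snd j V.ι).appTop.hom.FinitePresentation :=
    Scheme.Hom.finitePresentation_appTop _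
  letI := (pullback.snd j V.ι).appTop.hom.toAlgebra
  haveI : Algebra.FinitePresentation Γ(↑V, ⊤) Γ(pullback j V.ι, ⊤) := hfp
  exact Algebra.FinitePresentation.ker_fG_of_surjective
    (Algebra.ofId Γ(↑V, ⊤) Γ(pullback j V.ι, ⊤)) hsurj

theorem IV_fg [LocallyOfFinitePresentation j] {V : Z.Opens} (hV : ProjOpen f V) :
    (IV f j V).FG := by
  letI := (V.ι ≫ f).appTop.hom.toAlgebra
  haveI : Module.Projective Γ(S, ⊤) Γ(↑V, ⊤) := hV.2
  exact coeffIdeal_fg (JV_fg j hV.1)

/-- **Finite presentation, affine base**. -/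
theorem repLFP_of_isAffine [IsAffine S] [QuasiCompact f] [LocallyOfFinitePresentation j]
    {ι : Type u} (V : ι → Z.Opens) (hV : ∀ i, ProjOpen f (V i)) (hcov : ∀ x : Z, ∃ i, x ∈ V i) :
    (weilSubF f j).RepLFP := by
  haveI : CompactSpace Z := QuasiCompact.compactSpace_of_compactSpace f
  obtain ⟨t, ht⟩ := isCompact_univ.elim_finite_subcover (fun i => ((V i : Z.Opens) : Set Z))
    (fun i => (V i).isOpen) (by
      intro x _
      obtain ⟨i, hi⟩ := hcov x
      exact Set.mem_iUnion.2 ⟨i, hi⟩)
  let V' : {i // i ∈ t} → Z.Opens := fun i => V i.1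
  have hcov' : ∀ x : Z, ∃ i, x ∈ V' i := by
    intro x
    have := ht (Set.mem_univ x)
    simp only [Set.mem_iUnion, exists_prop] at this
    obtain ⟨i, hit, hx⟩ := this
    exact ⟨⟨i, hit⟩, hx⟩
  have hrep := repBy_of_isAffine f j V' (fun i => hV i.1) hcov'
  haveI : LocallyOfFinitePresentation
      (Scheme.IdealSheafData.ofIdealTop (weilIdeal f j V')).subschemeι := by
    refine lfp_subschemeι_of_fg _ ?_
    exact Submodule.fg_iSup _ (fun i => IV_fg f j (hV i.1))
  exact SubF.repLFP_of_repBy _ hrep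

end Groth.Agent.Lib.Helper10.WeilClosed
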