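import Mathlib
import Groth.Agent.Lib.Helper10.WeilClosed7

/-!
# Weil restriction of closed subschemes, part 8: finite presentation in the locally projective,
flat-local and fpqc-local situations
-/

set_option autoImplicit false
set_option backward.isDefEq.respectTransparency.types false
set_option maxHeartbeats 4000000
set_option synthInstance.maxHeartbeats 400000
universe u
open CategoryTheory CategoryTheory.Limits AlgebraicGeometry TensorProduct

namespace Groth.Agent.Lib.Helper10.WeilClosed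

open Groth.Agent.Lib.Helper10.ClosedSubF Groth.Agent.Lib.Helper25.ClosedDescent

theorem isAffineHom_of_affLocProj {Y S₀ : Scheme.{u}} {p : Y ⟶ S₀} (h : AffLocProj p) :
    IsAffineHom p := by
  refine isAffineHom_of_forall_exists_isAffineOpen p (fun s => ?_)
  obtain ⟨U₀, hU₀, hs, Yb, iY, pb, hYb, hYpb, -⟩ := h s
  refine ⟨U₀, hs, hU₀, ?_⟩
  have h2 := (isPullback_morphismRestrict p U₀).flip
  let e := hYpb.isoIsPullback _ _ h2
  haveI := hYb
  exact IsAffine.of_isIso e.inv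

variable {Z S Y : Scheme.{u}}

/-- finite presentation, locally projective case. -/
theorem repLFP_of_locProj (f : Z ⟶ S) (j : Y ⟶ Z) [IsClosedImmersion j] [QuasiCompact f]
    [LocallyOfFinitePresentation j] (h : LocProj f) : (weilSubF f j).RepLFP := by
  refine SubF.repLFP_of_local (fun s => ?_)
  obtain ⟨U, hU, hs, Z₁, cz, f₁, hZ, hx⟩ := h s
  refine ⟨U, hs, ?_⟩
  haveI : IsAffine U.toScheme := hU
  let j₁ := pullback.snd j cz
  have hY : IsPullback (pullback.fst j cz) j₁ j cz := IsPullback.of_hasPullback j cz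
  haveI : QuasiCompact f₁ := MorphismProperty.of_isPullback hZ ‹QuasiCompact f›
  have h1 := repLFP_of_isAffine f₁ j₁ (ι := {V : Z₁.Opens // ProjOpen f₁ V}) (fun V => V.1)
    (fun V => V.2) (fun x => by
      obtain ⟨V, hxV, hV⟩ := hx x
      exact ⟨⟨V, hV⟩, hxV⟩)
  exact SubF.RepLFP.congr (fun T t => (weilSubF_iff_of_isPullback f j hZ hY t).symm) h1

/-- finite presentation, base change of an affine locally projective morphism. -/
theorem repLFP_of_affLocProj {Y X S₀ Z E : Scheme.{u}} {p : Y ⟶ S₀} {q : X ⟶ S₀}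
    (h : AffLocProj p) {fst : Z ⟶ Y} {snd : Z ⟶ X} (hpb : IsPullback fst snd p q) (j : E ⟶ Z)
    [IsClosedImmersion j] [LocallyOfFinitePresentation j] : (weilSubF snd j).RepLFP := by
  haveI : IsAffineHom p := isAffineHom_of_affLocProj h
  haveI : QuasiCompact snd := MorphismProperty.of_isPullback hpb (inferInstance : QuasiCompact p)
  exact repLFP_of_locProj snd j (locProj_snd_of_affLocProj h hpb)

/-- finite presentation, flat descent. -/
theorem repLFP_of_cover (f : Z ⟶ S) (j : Y ⟶ Z) [IsClosedImmersion j]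
    {S' : Scheme.{u}} (π : S' ⟶ S) [Flat π] [Surjective π] [QuasiCompact π]
    {Z₁ Y₁ : Scheme.{u}} {f₁ : Z₁ ⟶ S'} {cz : Z₁ ⟶ Z} {j₁ : Y₁ ⟶ Z₁} {cy : Y₁ ⟶ Y}
    (hZ : IsPullback cz f₁ f π) (hY : IsPullback cy j₁ j cz) (h : (weilSubF f₁ j₁).RepLFP) :
    (weilSubF f j).RepLFP :=
  SubF.repLFP_of_qc π
    (SubF.RepLFP.congr (fun T t => (weilSubF_iff_of_isPullback f j hZ hY t).symm) h)

theorem repLFP_of_affLocProj_of_cover {H X S₀ Z E S' H' X' : Scheme.{u}} {p : H ⟶ S₀}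
    {q : X ⟶ S₀} {fst : Z ⟶ H} {snd : Z ⟶ X} (hpb : IsPullback fst snd p q) (j : E ⟶ Z)
    [IsClosedImmersion j] [LocallyOfFinitePresentation j] {c : S' ⟶ S₀} {cH : H' ⟶ H}
    {p' : H' ⟶ S'} (hH : IsPullback cH p' p c)
    (hp' : AffLocProj p') {π : X' ⟶ X} {q' : X' ⟶ S'} (hX : IsPullback π q' q c)
    [Flat π] [Surjective π] [QuasiCompact π] : (weilSubF snd j).RepLFP := by
  let cz := pullback.fst snd π
  let f₁ := pullback.snd snd π
  have hZ : IsPullback cz f₁ snd π := IsPullback.of_hasPullback snd π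
  let j₁ := pullback.snd j cz
  have hY : IsPullback (pullback.fst j cz) j₁ j cz := IsPullback.of_hasPullback j cz
  have hcomm : (cz ≫ fst) ≫ p = (f₁ ≫ q') ≫ c := by
    rw [Category.assoc, hpb.w, ← Category.assoc, hZ.w, Category.assoc, hX.w, Category.assoc]
  let u : pullback snd π ⟶ H' := hH.lift (cz ≫ fst) (f₁ ≫ q') hcomm
  have hu1 : u ≫ cH = cz ≫ fst := hH.lift_fst _ _ _
  have hu2 : u ≫ p' = f₁ ≫ q' := hH.lift_snd _ _ _
  have houter : IsPullback (u ≫ cH) f₁ p (q' ≫ c) := by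
    rw [hu1, ← hX.w]
    exact hZ.paste_horiz hpb
  have hpb' : IsPullback u f₁ p' q' := IsPullback.of_right houter hu2 hH
  exact repLFP_of_cover snd j π hZ hY (repLFP_of_affLocProj hp' hpb' j₁)

/-- The local data produced by an fpqc covering of the base. -/
theorem fpqc_local_data {H X S₀ S' H' : Scheme.{u}} {p : H ⟶ S₀} (q : X ⟶ S₀) {c : S' ⟶ S₀}
    [Flat c]
    (hfpqc : ∀ V : S₀.Opens, IsAffineOpen V → ∃ W : S'.Opens, IsCompact (W : Set S') ∧
      c.base '' (W : Set S') = (V : Set S₀))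
    {cH : H' ⟶ H} {p' : H' ⟶ S'} (hH : IsPullback cH p' p c) (hp' : AffLocProj p') (x : X) :
    ∃ V : X.Opens, IsAffineOpen V ∧ x ∈ V ∧ ∃ (S'' H'' X'' : Scheme.{u}) (c'' : S'' ⟶ S₀)
      (cH'' : H'' ⟶ H) (p'' : H'' ⟶ S'') (π'' : X'' ⟶ V.toScheme) (q'' : X'' ⟶ S''),
      IsPullback cH'' p'' p c'' ∧ AffLocProj p'' ∧ IsPullback π'' q'' (V.ι ≫ q) c'' ∧
      Flat π'' ∧ Surjective π'' ∧ QuasiCompact π'' := by
  obtain ⟨(V₀ : S₀.Opens), hV₀, hxV₀, -⟩ :=
    TopologicalSpace.Opens.isBasis_iff_nbhd.mp S₀.isBasis_affineOpens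
      (TopologicalSpace.Opens.mem_top (q x))
  obtain ⟨(V : X.Opens), hV, hxV, hVle⟩ :=
    TopologicalSpace.Opens.isBasis_iff_nbhd.mp X.isBasis_affineOpens
      (show x ∈ q ⁻¹ᵁ V₀ from hxV₀)
  refine ⟨V, hV, hxV, ?_⟩
  haveI : IsAffine V.toScheme := hV
  haveI : IsAffine V₀.toScheme := hV₀
  obtain ⟨W, hWc, hWim⟩ := hfpqc V₀ hV₀
  obtain ⟨s, hsfin, hWs⟩ := isCompact_iff_finite_and_eq_biUnion_affineOpens.1 hWc
  haveI : Finite s := hsfin
  let g : s → Scheme.{u} := fun k => (k.1.1 : Scheme.{u})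
  haveI : ∀ k, IsAffine (g k) := fun k => k.1.2
  let σ : ∐ g ⟶ S' := Sigma.desc fun k => k.1.1.ι
  have hkW : ∀ k : s, k.1.1 ≤ W := by
    intro k
    rw [hWs]
    exact le_iSup₂_of_le k.1 k.2 le_rfl
  have hrange : ∀ k : s, Set.range (k.1.1.ι ≫ c) ⊆ Set.range V₀.ι := by
    rintro k _ ⟨z, rfl⟩
    rw [Scheme.Opens.range_ι, ← hWim]
    exact ⟨k.1.1.ι z, hkW k z.2, rfl⟩
  let c₀ : ∐ g ⟶ V₀.toScheme :=
    Sigma.desc fun k => IsOpenImmersion.lift V₀.ι (k.1.1.ι ≫ c) (hrange k)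
  have hc₀ : c₀ ≫ V₀.ι = σ ≫ c := by
    refine Sigma.hom_ext _ _ (fun k => ?_)
    simp only [c₀, σ, Sigma.ι_desc_assoc, IsOpenImmersion.lift_fac]
  haveI : Flat σ := IsZariskiLocalAtSource.sigmaDesc (fun k => inferInstance)
  have hflat : Flat (σ ≫ c) := inferInstance
  let qV : V.toScheme ⟶ V₀.toScheme := q.resLE V₀ V hVle
  have hqV : qV ≫ V₀.ι = V.ι ≫ q := Scheme.Hom.resLE_comp_ι _ _
  have hX : IsPullback (pullback.fst qV c₀) (pullback.snd qV c₀) (V.ι ≫ q) (σ ≫ c) := by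
    have := isPullback_comp_mono (IsPullback.of_hasPullback qV c₀) V₀.ι
    rwa [hqV, hc₀] at this
  have hπflat : Flat (pullback.fst qV c₀) := MorphismProperty.of_isPullback hX.flip hflat
  have hπsurj : Surjective (pullback.fst qV c₀) := by
    refine ⟨fun v => ?_⟩
    have hv : q (V.ι v) ∈ c.base '' (W : Set S') := by
      rw [hWim]
      exact hVle v.2
    obtain ⟨w, hwW, hw⟩ := hv
    have hw' : w ∈ ⨆ i ∈ s, (i : S'.Opens) := hWs ▸ hwW
    simp only [TopologicalSpace.Opens.mem_iSup] at hw'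
    obtain ⟨k, hk, hwk⟩ := hw'
    let s'' : ↥(∐ g) := Sigma.ι g ⟨k, hk⟩ ⟨w, hwk⟩
    have hs'' : σ s'' = w := by
      change (Sigma.ι g ⟨k, hk⟩ ≫ σ) ⟨w, hwk⟩ = w
      simp only [σ, Sigma.ι_desc]
      rfl
    have hcomm : qV v = c₀ s'' := by
      apply V₀.ι.isOpenEmbedding.injective
      change (qV ≫ V₀.ι) v = (c₀ ≫ V₀.ι) s''
      rw [hqV, hc₀]
      change q (V.ι v) = c (σ s'')
      rw [hs'', hw]
    obtain ⟨z, hz, -⟩ := Scheme.Pullback.exists_preimage_pullback v s'' hcomm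
    exact ⟨z, hz⟩
  have hH'' : IsPullback (pullback.fst p' σ ≫ cH) (pullback.snd p' σ) p (σ ≫ c) :=
    (IsPullback.of_hasPullback p' σ).paste_horiz hH
  have hp'' : AffLocProj (pullback.snd p' σ) :=
    affLocProj_of_isPullback hp' (IsPullback.of_hasPullback p' σ)
  exact ⟨_, _, _, σ ≫ c, _, _, _, _, hH'', hp'', hX, hπflat, hπsurj, inferInstance⟩

/-- finite presentation, fpqc-local case. -/
theorem repLFP_of_affLocProj_of_fpqc {H X S₀ Z E S' H' : Scheme.{u}} {p : H ⟶ S₀}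
    {q : X ⟶ S₀} {fst : Z ⟶ H} {snd : Z ⟶ X} (hpb : IsPullback fst snd p q) (j : E ⟶ Z)
    [IsClosedImmersion j] [LocallyOfFinitePresentation j] {c : S' ⟶ S₀} [Flat c]
    (hfpqc : ∀ V : S₀.Opens, IsAffineOpen V → ∃ W : S'.Opens, IsCompact (W : Set S') ∧
      c.base '' (W : Set S') = (V : Set S₀))
    {cH : H' ⟶ H} {p' : H' ⟶ S'} (hH : IsPullback cH p' p c) (hp' : AffLocProj p') :
    (weilSubF snd j).RepLFP := by
  refine SubF.repLFP_of_local (fun x => ?_)
  obtain ⟨V, hV, hxV, S'', H'', X'', c'', cH'', p'', π'', q'', hH'', hp'', hX, h1, h2, h3⟩ :=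
    fpqc_local_data q hfpqc hH hp' x
  refine ⟨V, hxV, ?_⟩
  let czV := pullback.fst snd V.ι
  let sndV := pullback.snd snd V.ι
  have hZV : IsPullback czV sndV snd V.ι := IsPullback.of_hasPullback snd V.ι
  let jV := pullback.snd j czV
  have hYV : IsPullback (pullback.fst j czV) jV j czV := IsPullback.of_hasPullback j czV
  have hpbV : IsPullback (czV ≫ fst) sndV p (V.ι ≫ q) := hZV.paste_horiz hpb
  have h4 := repLFP_of_affLocProj_of_cover hpbV jV hH'' hp'' hX
  exact SubF.RepLFP.congr (fun T t => (weilSubF_iff_of_isPullback snd j hZV hYV t).symm) h4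

end Groth.Agent.Lib.Helper10.WeilClosed
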