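import Mathlib
import Groth.Prelude.Def_HilbD
import Groth.Agent.Lib.Helper10.WeilClosed8

/-!
# Basic library for the Hilbert functor of points `HilbD`
-/

set_option autoImplicit false
set_option backward.isDefEq.respectTransparency.types false
set_option maxHeartbeats 4000000
set_option synthInstance.maxHeartbeats 400000
universe u
open CategoryTheory CategoryTheory.Limits AlgebraicGeometry

namespace Groth.Agent.Lib.Helper10.HilbLib

open PicF HilbD Groth.Agent.Lib.Helper10.ClosedSubF Groth.Agent.Lib.Helper10.WeilClosed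
  Groth.Agent.Lib.Helper25.ClosedDescent

variable {X S : Scheme.{u}} (f : X ⟶ S)

theorem XTmap_fst {T T' : Over S} (g : T' ⟶ T) :
    XTmap f g ≫ pullback.fst f T.hom = pullback.fst f T'.hom := by
  rw [XTmap, pullback.lift_fst, Category.comp_id]

theorem XTmap_snd {T T' : Over S} (g : T' ⟶ T) :
    XTmap f g ≫ pullback.snd f T.hom = pullback.snd f T'.hom ≫ g.left := by
  rw [XTmap, pullback.lift_snd]

theorem XTmap_id (T : Over S) : XTmap f (𝟙 T) = 𝟙 _ := by
  apply pullback.hom_ext
  · rw [XTmap_fst, Category.id_comp]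
  · rw [XTmap_snd, Category.id_comp, Over.id_left, Category.comp_id]

theorem XTmap_comp {T T' T'' : Over S} (g' : T'' ⟶ T') (g : T' ⟶ T) :
    XTmap f (g' ≫ g) = XTmap f g' ≫ XTmap f g := by
  apply pullback.hom_ext
  · rw [XTmap_fst, Category.assoc, XTmap_fst, XTmap_fst]
  · rw [XTmap_snd, Category.assoc, XTmap_snd, ← Category.assoc, XTmap_snd, Category.assoc,
      Over.comp_left]

theorem isPullback_XTmap {T T' : Over S} (g : T' ⟶ T) :
    IsPullback (XTmap f g) (XTproj f T') (XTproj f T) g.left := by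
  refine IsPullback.of_right ?_ (XTmap_snd f g) (IsPullback.of_hasPullback f T.hom)
  rw [XTmap_fst, Over.w g]
  exact IsPullback.of_hasPullback f T'.hom

theorem pull_eq_comap {T T' : Over S} (g : T' ⟶ T) (I : (XT f T).IdealSheafData) :
    pull f g I = I.comap (XTmap f g) := by
  rw [pull, ker_fst_of_isPullback (IsPullback.of_hasPullback I.subschemeι (XTmap f g)).flip,
    Scheme.IdealSheafData.ker_subschemeι]

theorem pull_id (T : Over S) (I : (XT f T).IdealSheafData) : pull f (𝟙 T) I = I := by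
  rw [pull_eq_comap, XTmap_id, Scheme.IdealSheafData.comap_id]

theorem pull_comp {T T' T'' : Over S} (g' : T'' ⟶ T') (g : T' ⟶ T)
    (I : (XT f T).IdealSheafData) : pull f (g' ≫ g) I = pull f g' (pull f g I) := by
  rw [pull_eq_comap, pull_eq_comap, pull_eq_comap, XTmap_comp, Scheme.IdealSheafData.comap_comp]

/-- the pulled back ideal as the kernel of an arbitrary base change of a closed immersion. -/
theorem pull_ker_of_isPullback {T T' : Over S} (g : T' ⟶ T) {A A' : Scheme.{u}}
    (a : A ⟶ XT f T) [IsClosedImmersion a] {a' : A' ⟶ XT f T'} {p : A' ⟶ A}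
    (h : IsPullback a' p (XTmap f g) a) : pull f g a.ker = a'.ker := by
  rw [pull_eq_comap, ker_fst_of_isPullback h]

section ClosedImm

variable {M : Scheme.{u}}

/-- two closed immersions with the same kernel are isomorphic. -/
theorem exists_iso_of_ker_eq {A B : Scheme.{u}} (a : A ⟶ M) (b : B ⟶ M) [IsClosedImmersion a]
    [IsClosedImmersion b] (h : a.ker = b.ker) : ∃ e : A ≅ B, e.hom ≫ b = a := by
  refine ⟨⟨IsClosedImmersion.lift b a h.ge, IsClosedImmersion.lift a b h.le, ?_, ?_⟩,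
    IsClosedImmersion.lift_fac _ _ _⟩
  · rw [← cancel_mono a, Category.assoc, IsClosedImmersion.lift_fac, IsClosedImmersion.lift_fac,
      Category.id_comp]
  · rw [← cancel_mono b, Category.assoc, IsClosedImmersion.lift_fac, IsClosedImmersion.lift_fac,
      Category.id_comp]

theorem ker_eq_of_iso {A B : Scheme.{u}} (a : A ⟶ M) (b : B ⟶ M) (e : A ≅ B)
    (h : e.hom ≫ b = a) : a.ker = b.ker := by
  rw [← h, Scheme.Hom.ker_comp_of_isIso]

/-- the canonical iso from the source of a closed immersion to the subscheme of its kernel. -/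
theorem exists_iso_subscheme_ker {A : Scheme.{u}} (a : A ⟶ M) [IsClosedImmersion a] :
    ∃ e : A ≅ a.ker.subscheme, e.hom ≫ a.ker.subschemeι = a :=
  exists_iso_of_ker_eq a a.ker.subschemeι (Scheme.IdealSheafData.ker_subschemeι _).symm

end ClosedImm

section FinLocFree

open Mor2

theorem isFinLocFreeOfDeg_of_isPullback {d : ℕ} {P A B C : Scheme.{u}} {fst : P ⟶ A}
    {snd : P ⟶ B} {w : A ⟶ C} {g : B ⟶ C} (h : IsPullback fst snd w g)
    (hw : IsFinLocFreeOfDeg d w) : IsFinLocFreeOfDeg d snd := by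
  obtain ⟨⟨h1, h2, h3⟩, h4⟩ := hw
  haveI := h1
  haveI := h2
  haveI := h3
  refine ⟨⟨MorphismProperty.of_isPullback h h1, MorphismProperty.of_isPullback h h2,
    MorphismProperty.of_isPullback h h3⟩, fun y => ?_⟩
  rw [Scheme.Hom.finrank_of_isPullback fst snd w g h, h4]

theorem isFinLocFreeOfDeg_iso_comp {d : ℕ} {A A' C : Scheme.{u}} (e : A' ⟶ A) [IsIso e]
    {w : A ⟶ C} (hw : IsFinLocFreeOfDeg d w) : IsFinLocFreeOfDeg d (e ≫ w) := by
  obtain ⟨⟨h1, h2, h3⟩, h4⟩ := hw
  haveI := h1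
  haveI := h2
  haveI := h3
  refine ⟨⟨inferInstance, inferInstance, inferInstance⟩, fun y => ?_⟩
  rw [Scheme.Hom.finrank_comp_left_of_isIso, h4]

/-- `IsFinLocFreeOfDeg` for the subscheme of the kernel of a closed immersion. -/
theorem isFinLocFreeOfDeg_ker {d : ℕ} {A M C : Scheme.{u}} (a : A ⟶ M) [IsClosedImmersion a]
    (π : M ⟶ C) (h : IsFinLocFreeOfDeg d (a ≫ π)) :
    IsFinLocFreeOfDeg d (a.ker.subschemeι ≫ π) := by
  obtain ⟨e, he⟩ := exists_iso_subscheme_ker a
  have : a.ker.subschemeι ≫ π = e.inv ≫ (a ≫ π) := by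
    have h1 : a.ker.subschemeι = e.inv ≫ a := by
      rw [Iso.eq_inv_comp]
      exact he
    rw [h1, Category.assoc]
  rw [this]
  exact isFinLocFreeOfDeg_iso_comp e.inv h

theorem isFinLocFreeOfDeg_of_ker {d : ℕ} {A M C : Scheme.{u}} (a : A ⟶ M) [IsClosedImmersion a]
    (π : M ⟶ C) (h : IsFinLocFreeOfDeg d (a.ker.subschemeι ≫ π)) :
    IsFinLocFreeOfDeg d (a ≫ π) := by
  obtain ⟨e, he⟩ := exists_iso_subscheme_ker a
  have : a ≫ π = e.hom ≫ (a.ker.subschemeι ≫ π) := by
    rw [← Category.assoc]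
    exact congrArg (fun m => m ≫ π) he.symm
  rw [this]
  exact isFinLocFreeOfDeg_iso_comp e.hom h

theorem affLocProj_of_isFinLocFreeOfDeg {d : ℕ} {A C : Scheme.{u}} {w : A ⟶ C}
    (hw : IsFinLocFreeOfDeg d w) : AffLocProj w := by
  obtain ⟨⟨h1, h2, h3⟩, -⟩ := hw
  haveI := h1
  haveI := h2
  haveI := h3
  exact affLocProj_of_finite_flat_lfp w

end FinLocFree

/-- the pullback of an element of `Hilb^d` is in `Hilb^d`. -/
theorem pull_mem {d : ℕ} {T T' : Over S} (g : T' ⟶ T) (Z : Obj f d T) :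
    Mor2.IsFinLocFreeOfDeg d ((pull f g Z.1).subschemeι ≫ XTproj f T') := by
  have h1 : IsPullback (pullback.snd Z.1.subschemeι (XTmap f g))
      (pullback.fst Z.1.subschemeι (XTmap f g)) (XTmap f g) Z.1.subschemeι :=
    (IsPullback.of_hasPullback Z.1.subschemeι (XTmap f g)).flip
  have h2 : IsPullback (pullback.fst Z.1.subschemeι (XTmap f g))
      (pullback.snd Z.1.subschemeι (XTmap f g) ≫ XTproj f T') (Z.1.subschemeι ≫ XTproj f T)
      g.left := (IsPullback.of_hasPullback Z.1.subschemeι (XTmap f g)).paste_vert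
        (isPullback_XTmap f g)
  have h3 := isFinLocFreeOfDeg_of_isPullback h2 Z.2
  exact isFinLocFreeOfDeg_ker (pullback.snd Z.1.subschemeι (XTmap f g)) _ h3

/-- the pullback as an element of `Hilb^d`. -/
noncomputable def pullObj {d : ℕ} {T T' : Over S} (g : T' ⟶ T) (Z : Obj f d T) : Obj f d T' :=
  ⟨pull f g Z.1, pull_mem f g Z⟩

/-- an element of `Hilb^d` from a closed immersion. -/
noncomputable def objOfClosedImm {d : ℕ} {T : Over S} {A : Scheme.{u}} (a : A ⟶ XT f T)
    [IsClosedImmersion a] (h : Mor2.IsFinLocFreeOfDeg d (a ≫ XTproj f T)) : Obj f d T :=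
  ⟨a.ker, isFinLocFreeOfDeg_ker a _ h⟩

end Groth.Agent.Lib.Helper10.HilbLib
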