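import Mathlib
import Groth.Agent.Lib.Helper10.HilbLib

/-!
# `HilbD` library, part 2: inclusion / equality loci, push along closed immersions
-/

set_option autoImplicit false
set_option backward.isDefEq.respectTransparency.types false
set_option maxHeartbeats 4000000
set_option synthInstance.maxHeartbeats 400000
universe u
open CategoryTheory CategoryTheory.Limits AlgebraicGeometry

namespace Groth.Agent.Lib.Helper10.HilbLib

open PicF HilbD Groth.Agent.Lib.Helper10.ClosedSubF Groth.Agent.Lib.Helper10.WeilClosed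
  Groth.Agent.Lib.Helper25.ClosedDescent

section Incl

variable {M B : Scheme.{u}}

/-- The locus where the closed subscheme `V(I₁)` is contained in `V(I₂)`, as a `weilSubF`. -/
theorem weilSubF_incl_iff (π : M ⟶ B) (I₁ I₂ : M.IdealSheafData) {T MT : Scheme.{u}} {t : T ⟶ B}
    {μ : MT ⟶ M} {π' : MT ⟶ T} (hsq : IsPullback μ π' π t) :
    (weilSubF (I₁.subschemeι ≫ π) (pullback.fst I₁.subschemeι I₂.subschemeι)).P t ↔
      I₂.comap μ ≤ I₁.comap μ := by
  constructor
  · intro hP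
    let a := pullback.fst μ I₁.subschemeι
    let a₁ := pullback.snd μ I₁.subschemeι
    have hc : a ≫ μ = a₁ ≫ I₁.subschemeι := pullback.condition
    have hcomm : a₁ ≫ (I₁.subschemeι ≫ π) = (a ≫ π') ≫ t := by
      rw [← Category.assoc, ← hc, Category.assoc, hsq.w, Category.assoc]
    obtain ⟨w, hw⟩ := hP a₁ (a ≫ π') hcomm
    have hv : a ≫ μ = (w ≫ pullback.snd I₁.subschemeι I₂.subschemeι) ≫ I₂.subschemeι := by
      rw [Category.assoc, ← pullback.condition, ← Category.assoc, hw, hc]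
    have h1 : pullback.lift a (w ≫ pullback.snd I₁.subschemeι I₂.subschemeι) hv ≫
        pullback.fst μ I₂.subschemeι = a := pullback.lift_fst _ _ _
    change (pullback.fst μ I₂.subschemeι).ker ≤ (pullback.fst μ I₁.subschemeι).ker
    change _ ≤ a.ker
    rw [← h1]
    exact Scheme.Hom.le_ker_comp _ _
  · intro hle W x b hxb
    let a := pullback.fst μ I₁.subschemeι
    let a₂ := pullback.fst μ I₂.subschemeι
    have hle' : a₂.ker ≤ a.ker := hle
    let m : W ⟶ MT := hsq.lift (x ≫ I₁.subschemeι) b (by rw [Category.assoc]; exact hxb)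
    have hm : m ≫ μ = x ≫ I₁.subschemeι := hsq.lift_fst _ _ _
    let xa : W ⟶ pullback μ I₁.subschemeι := pullback.lift m x hm
    have hxa : xa ≫ a = m := pullback.lift_fst _ _ _
    let v := IsClosedImmersion.lift a₂ a hle'
    have hv : v ≫ a₂ = a := IsClosedImmersion.lift_fac _ _ _
    let y : W ⟶ I₂.subscheme := xa ≫ v ≫ pullback.snd μ I₂.subschemeι
    have hy : x ≫ I₁.subschemeι = y ≫ I₂.subschemeι := by
      change _ = (xa ≫ v ≫ pullback.snd μ I₂.subschemeι) ≫ I₂.subschemeι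
      rw [Category.assoc, Category.assoc, ← pullback.condition, ← Category.assoc v,
        hv, ← Category.assoc, hxa, hm]
    exact ⟨pullback.lift x y hy, pullback.lift_fst _ _ _⟩

/-- **The inclusion locus is closed**: if `V(I₁)` is affine with locally projective coordinate ring
over `B`, the locus of `B` over which `V(I₁) ⊆ V(I₂)` is a closed subscheme. -/
theorem exists_repBy_incl (π : M ⟶ B) (I₁ I₂ : M.IdealSheafData)
    (h₁ : AffLocProj (I₁.subschemeι ≫ π)) :
    ∃ (E : Scheme.{u}) (e : E ⟶ B), IsClosedImmersion e ∧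
      ∀ ⦃T MT : Scheme.{u}⦄ (t : T ⟶ B) (μ : MT ⟶ M) (π' : MT ⟶ T), IsPullback μ π' π t →
        ((∃ w : T ⟶ E, w ≫ e = t) ↔ I₂.comap μ ≤ I₁.comap μ) := by
  obtain ⟨E, e, he, hrep⟩ := exists_repBy_of_affLocProj h₁
    (IsPullback.of_horiz_isIso (fst := 𝟙 I₁.subscheme) (snd := I₁.subschemeι ≫ π)
      (f := I₁.subschemeι ≫ π) (g := 𝟙 B) ⟨by simp⟩)
    (pullback.fst I₁.subschemeι I₂.subschemeι)
  refine ⟨E, e, he, fun T MT t μ π' hsq => ?_⟩
  rw [← hrep t]
  exact weilSubF_incl_iff π I₁ I₂ hsq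

/-- **The equality locus is closed**. -/
theorem exists_repBy_eqLocus (π : M ⟶ B) (I₁ I₂ : M.IdealSheafData)
    (h₁ : AffLocProj (I₁.subschemeι ≫ π)) (h₂ : AffLocProj (I₂.subschemeι ≫ π)) :
    ∃ (E : Scheme.{u}) (e : E ⟶ B), IsClosedImmersion e ∧
      ∀ ⦃T MT : Scheme.{u}⦄ (t : T ⟶ B) (μ : MT ⟶ M) (π' : MT ⟶ T), IsPullback μ π' π t →
        ((∃ w : T ⟶ E, w ≫ e = t) ↔ I₁.comap μ = I₂.comap μ) := by
  obtain ⟨E₁, e₁, he₁, h1⟩ := exists_repBy_incl π I₁ I₂ h₁
  obtain ⟨E₂, e₂, he₂, h2⟩ := exists_repBy_incl π I₂ I₁ h₂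
  refine ⟨pullback e₁ e₂, pullback.fst e₁ e₂ ≫ e₁, inferInstance, fun T MT t μ π' hsq => ?_⟩
  rw [le_antisymm_iff, ← h1 t μ π' hsq, ← h2 t μ π' hsq]
  constructor
  · rintro ⟨w, rfl⟩
    refine ⟨⟨w ≫ pullback.snd e₁ e₂, ?_⟩, ⟨w ≫ pullback.fst e₁ e₂, by simp⟩⟩
    rw [Category.assoc, ← pullback.condition]
  · rintro ⟨⟨w₂, hw₂⟩, ⟨w₁, hw₁⟩⟩
    refine ⟨pullback.lift w₁ w₂ (by rw [hw₁, hw₂]), ?_⟩
    rw [← Category.assoc, pullback.lift_fst, hw₁]

end Incl

section Push

variable {X Y S : Scheme.{u}} (i : X ⟶ Y) (g : Y ⟶ S)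

/-- the base change `X_T ⟶ Y_T` of `i`. -/
noncomputable def iT (T : Over S) : XT (i ≫ g) T ⟶ XT g T :=
  pullback.map (i ≫ g) T.hom g T.hom i (𝟙 _) (𝟙 S) (Category.comp_id _) (by simp)

theorem push_eq (T : Over S) (I : (XT (i ≫ g) T).IdealSheafData) :
    push i g T I = (I.subschemeι ≫ iT i g T).ker := rfl

theorem iT_fst (T : Over S) : iT i g T ≫ pullback.fst g T.hom = pullback.fst (i ≫ g) T.hom ≫ i := by
  rw [iT, pullback.lift_fst]

theorem iT_snd (T : Over S) : iT i g T ≫ XTproj g T = XTproj (i ≫ g) T := by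
  rw [iT, pullback.lift_snd, Category.comp_id]

theorem isPullback_iT (T : Over S) :
    IsPullback (iT i g T) (pullback.fst (i ≫ g) T.hom) (pullback.fst g T.hom) i := by
  refine IsPullback.of_right ?_ (iT_fst i g T) (IsPullback.of_hasPullback g T.hom).flip
  rw [iT_snd]
  exact (IsPullback.of_hasPullback (i ≫ g) T.hom).flip

instance [IsClosedImmersion i] (T : Over S) : IsClosedImmersion (iT i g T) :=
  MorphismProperty.of_isPullback (P := @IsClosedImmersion) (isPullback_iT i g T).flip inferInstance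

theorem XTmap_iT {T T' : Over S} (γ : T' ⟶ T) :
    XTmap (i ≫ g) γ ≫ iT i g T = iT i g T' ≫ XTmap g γ := by
  apply pullback.hom_ext
  · rw [Category.assoc, iT_fst, ← Category.assoc, XTmap_fst, Category.assoc, XTmap_fst, iT_fst]
  · rw [Category.assoc, Category.assoc]
    change _ ≫ iT i g T ≫ XTproj g T = _ ≫ XTmap g γ ≫ XTproj g T
    rw [iT_snd]
    change XTmap (i ≫ g) γ ≫ pullback.snd (i ≫ g) T.hom = _ ≫ XTmap g γ ≫ pullback.snd g T.hom
    rw [XTmap_snd, XTmap_snd, ← Category.assoc]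
    change _ = (iT i g T' ≫ XTproj g T') ≫ _
    rw [iT_snd]

theorem isPullback_XTmap_iT {T T' : Over S} (γ : T' ⟶ T) :
    IsPullback (iT i g T') (XTmap (i ≫ g) γ) (XTmap g γ) (iT i g T) := by
  refine IsPullback.of_right ?_ (XTmap_iT i g γ).symm (isPullback_XTmap g γ).flip
  rw [iT_snd, iT_snd]
  exact (isPullback_XTmap (i ≫ g) γ).flip

variable [IsClosedImmersion i]

/-- `push` of the kernel of a closed immersion. -/
theorem push_ker (T : Over S) {A : Scheme.{u}} (a : A ⟶ XT (i ≫ g) T) [IsClosedImmersion a] :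
    push i g T a.ker = (a ≫ iT i g T).ker := by
  obtain ⟨e, he⟩ := exists_iso_subscheme_ker a
  rw [push_eq]
  have : a ≫ iT i g T = e.hom ≫ (a.ker.subschemeι ≫ iT i g T) := by
    rw [← Category.assoc]
    exact congrArg (fun m => m ≫ iT i g T) he.symm
  rw [this, Scheme.Hom.ker_comp_of_isIso e.hom]

/-- `push` is injective. -/
theorem comap_push (T : Over S) (I : (XT (i ≫ g) T).IdealSheafData) :
    (push i g T I).comap (iT i g T) = I := by
  have hpb : IsPullback I.subschemeι (𝟙 I.subscheme) (iT i g T) (I.subschemeι ≫ iT i g T) := by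
    refine ⟨⟨by simp⟩, ⟨PullbackCone.IsLimit.mk _ (fun s => s.snd) (fun s => ?_) (fun s => ?_)
      (fun s m _ h2 => ?_)⟩⟩
    · rw [← cancel_mono (iT i g T), Category.assoc]
      exact s.condition.symm
    · exact Category.comp_id _
    · rw [← h2]
      exact (Category.comp_id _).symm
  have := ker_fst_of_isPullback hpb
  rw [Scheme.IdealSheafData.ker_subschemeι] at this
  rw [push_eq]
  exact this.symm

theorem push_injective (T : Over S) {I I' : (XT (i ≫ g) T).IdealSheafData}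
    (h : push i g T I = push i g T I') : I = I' := by
  rw [← comap_push i g T I, ← comap_push i g T I', h]

omit [IsClosedImmersion i] in
theorem le_push (T : Over S) (I : (XT (i ≫ g) T).IdealSheafData) :
    (iT i g T).ker ≤ push i g T I := by
  rw [push_eq]
  exact Scheme.Hom.le_ker_comp _ _

/-- `pull` commutes with `push`. -/
theorem pull_push {T T' : Over S} (γ : T' ⟶ T) (I : (XT (i ≫ g) T).IdealSheafData) :
    pull g γ (push i g T I) = push i g T' (pull (i ≫ g) γ I) := by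
  let a' := pullback.snd I.subschemeι (XTmap (i ≫ g) γ)
  have h1 : IsPullback a' (pullback.fst I.subschemeι (XTmap (i ≫ g) γ)) (XTmap (i ≫ g) γ)
      I.subschemeι := (IsPullback.of_hasPullback I.subschemeι (XTmap (i ≫ g) γ)).flip
  have h2 : IsPullback (a' ≫ iT i g T') (pullback.fst I.subschemeι (XTmap (i ≫ g) γ))
      (XTmap g γ) (I.subschemeι ≫ iT i g T) := h1.paste_horiz (isPullback_XTmap_iT i g γ)
  rw [push_eq, pull_ker_of_isPullback g γ (I.subschemeι ≫ iT i g T) h2]
  have h3 : pull (i ≫ g) γ I = a'.ker := rfl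
  rw [h3, push_ker]

/-- the kernel of `X_T ⟶ Y_T` is the pullback of the kernel of `X_H ⟶ Y_H`. -/
theorem ker_iT_comap {T T' : Over S} (γ : T' ⟶ T) :
    (iT i g T).ker.comap (XTmap g γ) = (iT i g T').ker :=
  (ker_fst_of_isPullback (isPullback_XTmap_iT i g γ)).symm

theorem push_mem {d : ℕ} (T : Over S) (Z : Obj (i ≫ g) d T) :
    Mor2.IsFinLocFreeOfDeg d ((push i g T Z.1).subschemeι ≫ XTproj g T) := by
  rw [push_eq]
  refine isFinLocFreeOfDeg_ker (Z.1.subschemeι ≫ iT i g T) _ ?_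
  rw [Category.assoc, iT_snd]
  exact Z.2

noncomputable def pushObj {d : ℕ} (T : Over S) (Z : Obj (i ≫ g) d T) : Obj g d T :=
  ⟨push i g T Z.1, push_mem i g T Z⟩

end Push

end Groth.Agent.Lib.Helper10.HilbLib
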