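import Mathlib
import Groth.Agent.S0082
import Groth.Agent.Lib.Helper10.HilbLib2

/-!
# fpqc descent of flat, finite, and finite locally free morphisms
-/

set_option autoImplicit false
set_option backward.isDefEq.respectTransparency.types false
set_option maxHeartbeats 4000000
set_option synthInstance.maxHeartbeats 400000
universe u
open CategoryTheory CategoryTheory.Limits AlgebraicGeometry MorphismProperty

namespace Groth.Agent.Lib.Helper10.FinLocFreeDescent

theorem flat_codescendsAlong :
    RingHom.CodescendsAlong (fun {R S : Type u} [CommRing R] [CommRing S] (f : R →+* S) => f.Flat)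
      RingHom.FaithfullyFlat := by
  refine .mk _ RingHom.Flat.respectsIso fun R S T _ _ _ _ _ h h' ↦ ?_
  rw [RingHom.flat_algebraMap_iff] at h' ⊢
  rw [RingHom.faithfullyFlat_algebraMap_iff] at h
  exact Module.Flat.of_flat_tensorProduct R T S

theorem flat_descendsAlong :
    MorphismProperty.DescendsAlong (@Flat : MorphismProperty Scheme.{u})
      (@Surjective ⊓ @Flat ⊓ @QuasiCompact) :=
  HasRingHomProperty.descendsAlong_flat flat_codescendsAlong

theorem isFinite_descendsAlong :
    MorphismProperty.DescendsAlong (@IsFinite : MorphismProperty Scheme.{u})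
      (@Surjective ⊓ @Flat ⊓ @QuasiCompact) := by
  haveI := Groth.Agent.S0082.result.{u}
  refine IsZariskiLocalAtTarget.descendsAlong_inf_quasiCompact _ _ ?_ ?_
  · rw [inf_comm]
    exact inf_le_inf le_rfl (IsLocalIso.le_of_isZariskiLocalAtSource _)
  intro R S Y φ g hφ hf
  have hQ : (@Surjective ⊓ @Flat ⊓ @QuasiCompact : MorphismProperty Scheme.{u}) (Spec.map φ) :=
    ⟨hφ, inferInstance⟩
  haveI : IsFinite (pullback.fst (Spec.map φ) g) := hf
  have hga : IsAffineHom g :=
    MorphismProperty.of_pullback_fst_of_descendsAlong (P := @IsAffineHom) hQ inferInstance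
  haveI : IsAffine Y := isAffine_of_isAffineHom g
  wlog hY : ∃ S', Y = Spec S' generalizing Y
  · rw [← MorphismProperty.cancel_left_of_respectsIso (@IsFinite : MorphismProperty Scheme.{u})
      Y.isoSpec.inv]
    have heq : pullback.fst (Spec.map φ) (Y.isoSpec.inv ≫ g) =
        pullback.map _ _ _ _ (𝟙 _) (Y.isoSpec.inv) (𝟙 _) (by simp) (by simp) ≫
          pullback.fst (Spec.map φ) g := (pullback.lift_fst _ _ _).symm
    refine this (Y.isoSpec.inv ≫ g) ?_ ?_ inferInstance inferInstance ⟨_, rfl⟩
    · rw [heq]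
      exact (MorphismProperty.cancel_left_of_respectsIso _ _ _).2 hf
    · rw [heq]
      infer_instance
  obtain ⟨S', rfl⟩ := hY
  refine of_pullback_fst_Spec_of_codescendsAlong (P := @IsFinite) (P' := @Surjective ⊓ @Flat)
    (Q := RingHom.Finite) (Q' := RingHom.FaithfullyFlat)
    RingHom.Finite.codescendsAlong_faithfullyFlat ?_ ?_ hφ hf
  · intro R S f ⟨hf₁, hf₂⟩
    rw [RingHom.FaithfullyFlat.iff_flat_and_comap_surjective]
    refine ⟨?_, (Spec.map f).surjective⟩
    rwa [HasRingHomProperty.Spec_iff (P := @Flat)] at hf₂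
  · intro R S f
    exact IsFinite.SpecMap_iff f

open Mor2 in
/-- fpqc descent for finite locally free morphisms of degree `d`. -/
theorem isFinLocFreeOfDeg_of_isPullback_of_fpqc {d : ℕ} {P A B C : Scheme.{u}} {fst : P ⟶ A}
    {snd : P ⟶ B} {w : A ⟶ C} {g : B ⟶ C} (h : IsPullback fst snd w g) [Surjective g] [Flat g]
    [QuasiCompact g] (hsnd : IsFinLocFreeOfDeg d snd) : IsFinLocFreeOfDeg d w := by
  obtain ⟨⟨h1, h2, h3⟩, h4⟩ := hsnd
  have hQ : (@Surjective ⊓ @Flat ⊓ @QuasiCompact : MorphismProperty Scheme.{u}) g :=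
    ⟨⟨inferInstance, inferInstance⟩, inferInstance⟩
  haveI := isFinite_descendsAlong.{u}
  haveI := flat_descendsAlong.{u}
  have h1' : IsFinite w := MorphismProperty.of_isPullback_of_descendsAlong
    (P := @IsFinite) (Q := @Surjective ⊓ @Flat ⊓ @QuasiCompact) h.flip hQ h1
  have h2' : Flat w := MorphismProperty.of_isPullback_of_descendsAlong
    (P := @Flat) (Q := @Surjective ⊓ @Flat ⊓ @QuasiCompact) h.flip hQ h2
  have h3' : LocallyOfFinitePresentation w := MorphismProperty.of_isPullback_of_descendsAlong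
    (P := @LocallyOfFinitePresentation) (Q := @Surjective ⊓ @Flat ⊓ @QuasiCompact) h.flip hQ h3
  refine ⟨⟨h1', h2', h3'⟩, fun y => ?_⟩
  obtain ⟨b, rfl⟩ := ‹Surjective g›.surj y
  rw [← Scheme.Hom.finrank_of_isPullback fst snd w g h, h4]

end Groth.Agent.Lib.Helper10.FinLocFreeDescent
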