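import Mathlib
import Groth.Agent.Lib.Helper10.WeilClosed8
import Groth.Agent.Lib.Helper10.FinLocFreeDescent

/-!
# fpqc descent of properties local on the target, and of `AffLocProj` for finite morphisms
-/

set_option autoImplicit false
set_option backward.isDefEq.respectTransparency.types false
set_option maxHeartbeats 4000000
set_option synthInstance.maxHeartbeats 400000
universe u
open CategoryTheory CategoryTheory.Limits AlgebraicGeometry MorphismProperty

namespace Groth.Agent.Lib.Helper10.WeilClosed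

/-- a property local on the target can be checked on pullbacks to an open cover, in any model. -/
theorem of_local_isPullback (P : MorphismProperty Scheme.{u}) [IsZariskiLocalAtTarget P]
    {Y S₀ : Scheme.{u}} (p : Y ⟶ S₀)
    (h : ∀ s : S₀, ∃ (U : S₀.Opens) (Yb : Scheme.{u}) (iY : Yb ⟶ Y) (pb : Yb ⟶ U.toScheme),
      s ∈ U ∧ IsPullback iY pb p U.ι ∧ P pb) : P p := by
  choose V Yb iY pb hsV hpb hP using h
  have hV : TopologicalSpace.IsOpenCover V := by
    rw [TopologicalSpace.IsOpenCover, eq_top_iff]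
    intro p _
    exact TopologicalSpace.Opens.mem_iSup.mpr ⟨p, hsV p⟩
  rw [IsZariskiLocalAtTarget.iff_of_openCover (P := P) (S₀.openCoverOfIsOpenCover V hV)]
  intro s
  change P (pullback.snd p (V s).ι)
  rw [← (hpb s).isoPullback_inv_snd]
  exact (MorphismProperty.cancel_left_of_respectsIso P _ _).mpr (hP s)

theorem flat_of_affLocProj {Y S₀ : Scheme.{u}} {p : Y ⟶ S₀} (h : AffLocProj p) : Flat p := by
  refine of_local_isPullback @Flat p (fun s => ?_)
  obtain ⟨U₀, hU₀, hs, Yb, iY, pb, hYb, hpb, hproj⟩ := h s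
  refine ⟨U₀, Yb, iY, pb, hs, hpb, ?_⟩
  haveI : IsAffine U₀.toScheme := hU₀
  haveI := hYb
  rw [HasRingHomProperty.iff_of_isAffine (P := @Flat)]
  letI := pb.appTop.hom.toAlgebra
  haveI : Module.Projective Γ(↑U₀, ⊤) Γ(Yb, ⊤) := hproj
  change Module.Flat Γ(↑U₀, ⊤) Γ(Yb, ⊤)
  infer_instance

theorem lfp_of_affLocProj_of_isFinite {Y S₀ : Scheme.{u}} {p : Y ⟶ S₀} (h : AffLocProj p)
    [IsFinite p] : LocallyOfFinitePresentation p := by
  refine of_local_isPullback @LocallyOfFinitePresentation p (fun s => ?_)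
  obtain ⟨U₀, hU₀, hs, Yb, iY, pb, hYb, hpb, hproj⟩ := h s
  refine ⟨U₀, Yb, iY, pb, hs, hpb, ?_⟩
  haveI : IsAffine U₀.toScheme := hU₀
  haveI := hYb
  haveI : IsFinite pb := MorphismProperty.of_isPullback (P := @IsFinite) hpb ‹IsFinite p›
  have hfin : letI := pb.appTop.hom.toAlgebra; Module.Finite Γ(↑U₀, ⊤) Γ(Yb, ⊤) :=
    IsFinite.finite_app pb ⊤ (isAffineOpen_top _)
  rw [HasRingHomProperty.iff_of_isAffine (P := @LocallyOfFinitePresentation)]
  letI := pb.appTop.hom.toAlgebra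
  haveI : Module.Projective Γ(↑U₀, ⊤) Γ(Yb, ⊤) := hproj
  haveI : Module.Finite Γ(↑U₀, ⊤) Γ(Yb, ⊤) := hfin
  haveI : Module.FinitePresentation Γ(↑U₀, ⊤) Γ(Yb, ⊤) :=
    Module.finitePresentation_of_projective _ _
  change Algebra.FinitePresentation Γ(↑U₀, ⊤) Γ(Yb, ⊤)
  infer_instance

/-- **fpqc descent** (for the covering condition "every affine open is the image of a
quasi-compact open") of a property which is local on the target, stable under base change and
descends along flat surjective quasi-compact morphisms. -/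
theorem of_fpqc (P : MorphismProperty Scheme.{u}) [IsZariskiLocalAtTarget P]
    [P.IsStableUnderBaseChange] [P.DescendsAlong (@Surjective ⊓ @Flat ⊓ @QuasiCompact)]
    {H S₀ S' H' : Scheme.{u}} {p : H ⟶ S₀} {c : S' ⟶ S₀} [Flat c]
    (hfpqc : ∀ V : S₀.Opens, IsAffineOpen V → ∃ W : S'.Opens, IsCompact (W : Set S') ∧
      c.base '' (W : Set S') = (V : Set S₀))
    {cH : H' ⟶ H} {p' : H' ⟶ S'} (hH : IsPullback cH p' p c) (hp' : P p') : P p := by
  refine of_local_isPullback P p (fun x => ?_)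
  obtain ⟨(V₀ : S₀.Opens), hV₀, hxV₀, -⟩ :=
    TopologicalSpace.Opens.isBasis_iff_nbhd.mp S₀.isBasis_affineOpens
      (TopologicalSpace.Opens.mem_top x)
  refine ⟨V₀, _, (p ⁻¹ᵁ V₀).ι, p ∣_ V₀, hxV₀, (isPullback_morphismRestrict p V₀).flip, ?_⟩
  haveI : IsAffine V₀.toScheme := hV₀
  obtain ⟨W, hWc, hWim⟩ := hfpqc V₀ hV₀
  obtain ⟨s, hsfin, hWs⟩ := isCompact_iff_finite_and_eq_biUnion_affineOpens.1 hWc
  haveI : Finite s := hsfin
  let g : s → Scheme.{u} := fun k => (k.1.1 : Scheme.{u})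
  haveI : ∀ k, IsAffine (g k) := fun k => k.1.2
  let σ : ∐ g ⟶ S' := Sigma.desc fun k => k.1.1.ι
  have hkW : ∀ k : s, k.1.1 ≤ W := by
    intro k
    rw [hWs]
    exact le_iSup₂_of_le k.1 k.2 le_rfl
  have hrange : ∀ k : s, Set.range (k.1.1.ι ≫ c) ⊆ Set.range V₀.ι := by
    rintro k _ ⟨z, rfl⟩
    rw [Scheme.Opens.range_ι, ← hWim]
    exact ⟨k.1.1.ι z, hkW k z.2, rfl⟩
  let c₀ : ∐ g ⟶ V₀.toScheme :=
    Sigma.desc fun k => IsOpenImmersion.lift V₀.ι (k.1.1.ι ≫ c) (hrange k)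
  have hc₀ : c₀ ≫ V₀.ι = σ ≫ c := by
    refine Sigma.hom_ext _ _ (fun k => ?_)
    simp only [c₀, σ, Sigma.ι_desc_assoc, IsOpenImmersion.lift_fac]
  haveI : Flat c₀ := by
    refine IsZariskiLocalAtSource.sigmaDesc (fun k => ?_)
    refine MorphismProperty.of_postcomp (W := @Flat) (W' := @IsOpenImmersion) _ V₀.ι
      inferInstance ?_
    rw [IsOpenImmersion.lift_fac]
    infer_instance
  haveI : Surjective c₀ := by
    refine ⟨fun v => ?_⟩
    have hv : V₀.ι v ∈ c.base '' (W : Set S') := by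
      rw [hWim]
      exact v.2
    obtain ⟨w, hwW, hw⟩ := hv
    have hw' : w ∈ ⨆ i ∈ s, (i : S'.Opens) := hWs ▸ hwW
    simp only [TopologicalSpace.Opens.mem_iSup] at hw'
    obtain ⟨k, hk, hwk⟩ := hw'
    let s'' : ↥(∐ g) := Sigma.ι g ⟨k, hk⟩ ⟨w, hwk⟩
    have hs'' : σ s'' = w := by
      change (Sigma.ι g ⟨k, hk⟩ ≫ σ) ⟨w, hwk⟩ = w
      simp only [σ, Sigma.ι_desc]
      rfl
    refine ⟨s'', ?_⟩
    apply V₀.ι.isOpenEmbedding.injective
    change (c₀ ≫ V₀.ι) s'' = V₀.ι v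
    rw [hc₀]
    change c (σ s'') = V₀.ι v
    rw [hs'', hw]
  have hQ : (@Surjective ⊓ @Flat ⊓ @QuasiCompact : MorphismProperty Scheme.{u}) c₀ :=
    ⟨⟨inferInstance, inferInstance⟩, inferInstance⟩
  refine MorphismProperty.of_pullback_snd_of_descendsAlong (P := P)
    (Q := @Surjective ⊓ @Flat ⊓ @QuasiCompact) (f := p ∣_ V₀) (g := c₀) hQ ?_
  have h1 : IsPullback (pullback.fst (p ∣_ V₀) c₀ ≫ (p ⁻¹ᵁ V₀).ι) (pullback.snd (p ∣_ V₀) c₀) p
      (c₀ ≫ V₀.ι) :=
    (IsPullback.of_hasPullback (p ∣_ V₀) c₀).paste_horiz (isPullback_morphismRestrict p V₀).flip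
  rw [hc₀] at h1
  have h2 := IsPullback.of_right' h1 hH
  exact MorphismProperty.of_isPullback (P := P) h2 hp'

/-- a finite morphism which is fpqc locally `AffLocProj` is `AffLocProj`. -/
theorem affLocProj_of_fpqc_of_isFinite {H S₀ S' H' : Scheme.{u}} {p : H ⟶ S₀} [IsFinite p]
    {c : S' ⟶ S₀} [Flat c]
    (hfpqc : ∀ V : S₀.Opens, IsAffineOpen V → ∃ W : S'.Opens, IsCompact (W : Set S') ∧
      c.base '' (W : Set S') = (V : Set S₀))
    {cH : H' ⟶ H} {p' : H' ⟶ S'} (hH : IsPullback cH p' p c) (hp' : AffLocProj p') :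
    AffLocProj p := by
  haveI : IsFinite p' := MorphismProperty.of_isPullback (P := @IsFinite) hH ‹IsFinite p›
  have h1 : Flat p' := flat_of_affLocProj hp'
  have h2 : LocallyOfFinitePresentation p' := lfp_of_affLocProj_of_isFinite hp'
  haveI := Groth.Agent.Lib.Helper10.FinLocFreeDescent.flat_descendsAlong.{u}
  haveI : Flat p := of_fpqc @Flat hfpqc hH h1
  haveI : LocallyOfFinitePresentation p := of_fpqc @LocallyOfFinitePresentation hfpqc hH h2
  exact affLocProj_of_finite_flat_lfp p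

end Groth.Agent.Lib.Helper10.WeilClosed
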