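import Mathlib

/-!
# EGA IV 17.2.6: a morphism locally of finite type is a monomorphism iff its fibres are
-/

set_option autoImplicit false
set_option backward.isDefEq.respectTransparency.types false
set_option maxHeartbeats 4000000
set_option synthInstance.maxHeartbeats 400000
universe u
open CategoryTheory CategoryTheory.Limits AlgebraicGeometry TensorProduct

namespace Groth.Agent.Lib.Helper10.MonoFibre

section Algebra

attribute [local instance] Algebra.TensorProduct.rightAlgebra

/-- fibre criterion for formally unramified algebras of finite type. -/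
theorem formallyUnramified_of_fibers {R S : Type u} [CommRing R] [CommRing S] [Algebra R S]
    [Algebra.FiniteType R S]
    (h : ∀ (p : Ideal R) [p.IsPrime], Algebra.FormallyUnramified p.ResidueField (p.Fiber S)) :
    Algebra.FormallyUnramified R S := by
  rw [Algebra.formallyUnramified_iff]
  by_contra hne
  rw [not_subsingleton_iff_nontrivial] at hne
  haveI : Module.Finite S Ω[S⁄R] := inferInstance
  obtain ⟨q, hq⟩ := Module.nonempty_support_of_nontrivial (R := S) (M := Ω[S⁄R])
  have hnt := (Module.mem_support_iff_nontrivial_residueField_tensorProduct q).mp hq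
  let p : Ideal R := q.asIdeal.under R
  haveI : p.IsPrime := inferInstance
  haveI : q.asIdeal.LiesOver p := ⟨rfl⟩
  haveI := h p
  have h1 : Subsingleton Ω[p.Fiber S⁄p.ResidueField] :=
    (Algebra.formallyUnramified_iff _ _).mp inferInstance
  have h2 : Subsingleton (p.ResidueField ⊗[R] Ω[S⁄R]) :=
    (KaehlerDifferential.tensorKaehlerEquivBase R p.ResidueField S (p.Fiber S)).subsingleton
  let ψ : p.ResidueField →ₐ[R] q.asIdeal.ResidueField :=
    Ideal.ResidueField.mapₐ p q.asIdeal (Algebra.ofId R S) rfl
  letI : Algebra p.ResidueField q.asIdeal.ResidueField := ψ.toRingHom.toAlgebra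
  haveI : IsScalarTower R p.ResidueField q.asIdeal.ResidueField :=
    IsScalarTower.of_algebraMap_eq fun r => (ψ.commutes r).symm
  have h3 : Subsingleton (q.asIdeal.ResidueField ⊗[p.ResidueField] (p.ResidueField ⊗[R] Ω[S⁄R])) :=
    inferInstance
  have h4 : Subsingleton (q.asIdeal.ResidueField ⊗[R] Ω[S⁄R]) :=
    (AlgebraTensorModule.cancelBaseChange R p.ResidueField p.ResidueField
      q.asIdeal.ResidueField Ω[S⁄R]).symm.subsingleton
  have h5 : Function.Surjective
      (TensorProduct.mapOfCompatibleSMul S R R q.asIdeal.ResidueField Ω[S⁄R]) :=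
    TensorProduct.mapOfCompatibleSMul_surjective _ _ _ _ _
  have h6 : Subsingleton (q.asIdeal.ResidueField ⊗[S] Ω[S⁄R]) := h5.subsingleton
  exact not_subsingleton _ h6

end Algebra

section Schemes

variable {X Y : Scheme.{u}} (f : X ⟶ Y)

/-- fibre criterion for formally unramified morphisms locally of finite type. -/
theorem formallyUnramified_of_fiber [LocallyOfFiniteType f]
    (h : ∀ y, FormallyUnramified (f.fiberToSpecResidueField y)) : FormallyUnramified f := by
  wlog hY : ∃ R, Y = Spec R
  · rw [IsZariskiLocalAtTarget.iff_of_openCover (P := @FormallyUnramified) Y.affineCover]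
    intro i
    dsimp [Scheme.Cover.pullbackHom]
    haveI hlft : LocallyOfFiniteType (pullback.snd f (Y.affineCover.f i)) :=
      MorphismProperty.pullback_snd (P := @LocallyOfFiniteType) _ _ inferInstance
    refine @this _ _ (pullback.snd f (Y.affineCover.f i)) hlft (fun y ↦ ?_) ⟨_, rfl⟩
    apply MorphismProperty.of_isPullback
    · exact isPullback_fiberToSpecResidueField_of_isPullback (IsPullback.of_hasPullback _ _) _
    · exact h _
  obtain ⟨R, rfl⟩ := hY
  wlog hX : ∃ S, X = Spec S generalizing f X
  · rw [IsZariskiLocalAtSource.iff_of_openCover (P := @FormallyUnramified) X.affineCover]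
    intro i
    have _ (y) : FormallyUnramified (pullback.snd f ((Spec R).fromSpecResidueField y)) := h y
    refine this _ (fun y ↦ ?_) ⟨_, rfl⟩
    rw [Scheme.Hom.fiberToSpecResidueField, ← pullbackRightPullbackFstIso_inv_snd_snd]
    have hoi : FormallyUnramified (pullback.snd (X.affineCover.f i)
        (pullback.fst f ((Spec R).fromSpecResidueField y))) := by
      haveI : IsIso (pullback.diagonal (pullback.snd (X.affineCover.f i)
          (pullback.fst f ((Spec R).fromSpecResidueField y)))) :=
        (pullback.isIso_diagonal_iff _).mpr inferInstance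
      infer_instance
    refine (MorphismProperty.cancel_left_of_respectsIso (P := @FormallyUnramified) _ _).mpr ?_
    exact MorphismProperty.comp_mem _ _ _ hoi (h y)
  obtain ⟨S, rfl⟩ := hX
  obtain ⟨φ, rfl⟩ := Spec.map_surjective f
  have hft : φ.hom.FiniteType := (HasRingHomProperty.Spec_iff (P := @LocallyOfFiniteType)).mp ‹_›
  rw [HasRingHomProperty.Spec_iff (P := @FormallyUnramified)]
  algebraize [φ.hom]
  change (algebraMap R S).FormallyUnramified
  rw [RingHom.formallyUnramified_algebraMap]
  refine formallyUnramified_of_fibers fun p hp ↦ ?_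
  rw [← RingHom.formallyUnramified_algebraMap]
  rw [← CommRingCat.hom_ofHom (algebraMap p.ResidueField (p.Fiber ↑S)),
    ← HasRingHomProperty.Spec_iff (P := @FormallyUnramified),
    ← MorphismProperty.arrow_mk_iso_iff (P := @FormallyUnramified)
      (Spec.fiberToSpecResidueFieldIso R S ⟨p, hp⟩)]
  exact h ⟨p, hp⟩

/-- a morphism with monomorphic fibres is universally injective. -/
theorem surjective_diagonal_of_fiber (h : ∀ y, Mono (f.fiberToSpecResidueField y)) :
    Surjective (pullback.diagonal f) := by
  refine ((tfae_universallyInjective f).out 1 3).mp ?_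
  intro K _ g₁ g₂ hg
  change g₁ ≫ f = g₂ ≫ f at hg
  let y : Y := (g₁ ≫ f) (IsLocalRing.closedPoint K)
  let h' : Spec (.of K) ⟶ Spec (Y.residueField y) :=
    Spec.map ((Y.SpecToEquivOfField K) (g₁ ≫ f)).2
  have hh' : h' ≫ Y.fromSpecResidueField y = g₁ ≫ f :=
    (Y.SpecToEquivOfField K).left_inv (g₁ ≫ f)
  let g₁' : Spec (.of K) ⟶ f.fiber y := pullback.lift g₁ h' hh'.symm
  let g₂' : Spec (.of K) ⟶ f.fiber y := pullback.lift g₂ h' (by rw [hh', hg])
  haveI := h y
  have h12 : g₁' = g₂' := by
    rw [← cancel_mono (f.fiberToSpecResidueField y)]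
    exact (pullback.lift_snd _ _ _).trans (pullback.lift_snd _ _ _).symm
  have e1 : g₁' ≫ pullback.fst _ _ = g₁ := pullback.lift_fst _ _ _
  have e2 : g₂' ≫ pullback.fst _ _ = g₂ := pullback.lift_fst _ _ _
  rw [← e1, ← e2, h12]

/-- **EGA IV 17.2.6** a morphism locally of finite type with monomorphic fibres is a
monomorphism. -/
theorem mono_of_fiber [LocallyOfFiniteType f] (h : ∀ y, Mono (f.fiberToSpecResidueField y)) :
    Mono f := by
  haveI : FormallyUnramified f := by
    refine formallyUnramified_of_fiber f (fun y => ?_)
    haveI := h y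
    haveI : IsIso (pullback.diagonal (f.fiberToSpecResidueField y)) :=
      (pullback.isIso_diagonal_iff _).mpr inferInstance
    infer_instance
  haveI : IsOpenImmersion (pullback.diagonal f) := inferInstance
  haveI : Surjective (pullback.diagonal f) := surjective_diagonal_of_fiber f h
  haveI : IsIso (pullback.diagonal f) := by
    apply (isIso_iff_isOpenImmersion_and_epi_base _).mpr
    exact ⟨inferInstance, (TopCat.epi_iff_surjective _).mpr (pullback.diagonal f).surjective⟩
  exact (pullback.isIso_diagonal_iff f).mp inferInstance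

theorem mono_iff_fiber [LocallyOfFiniteType f] :
    Mono f ↔ ∀ y, Mono (f.fiberToSpecResidueField y) :=
  ⟨fun _ y => by
    change Mono (pullback.snd f (Y.fromSpecResidueField y))
    infer_instance, mono_of_fiber f⟩

end Schemes

end Groth.Agent.Lib.Helper10.MonoFibre
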