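import Mathlib

/-!
# Group-like elements of a group algebra over an arbitrary commutative ring

An element `y = ∑ c_g g` of `B[G]` with `Δ y = y ⊗ y` (expressed in `B[G × G]`) has pairwise
orthogonal idempotent coefficients; if moreover `y` is a unit, the coefficients sum to `1`.
-/

set_option autoImplicit false
universe u

open MonoidAlgebra

namespace Groth.Agent.Lib.Helper10.GroupLikeIdem

variable {B : Type*} [CommRing B] {G : Type*} [CommGroup G]

/-- the diagonal `G →* G × G`. -/
def diagHom (G : Type*) [CommGroup G] : G →* G × G := (MonoidHom.id G).prod (MonoidHom.id G)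

@[simp] theorem diagHom_apply (g : G) : diagHom G g = (g, g) := rfl

theorem coeff_inl_mul_inr (a b : MonoidAlgebra B G) (g h : G) :
    (mapDomainRingHom B (MonoidHom.inl G G) a *
      mapDomainRingHom B (MonoidHom.inr G G) b).coeff (g, h) = a.coeff g * b.coeff h := by
  classical
  induction a using MonoidAlgebra.induction_linear with
  | zero => simp
  | add x y hx hy => simp only [map_add, add_mul, coeff_add, Finsupp.add_apply, hx, hy]
  | single g' r =>
    induction b using MonoidAlgebra.induction_linear with
    | zero => simp
    | add x y hx hy => simp only [map_add, mul_add, coeff_add, Finsupp.add_apply, hx, hy]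
    | single h' s =>
      simp only [mapDomainRingHom_apply, mapDomain_single, single_mul_single, coeff_single,
        MonoidHom.inl_apply, MonoidHom.inr_apply, Prod.mk_mul_mk, mul_one, one_mul,
        Finsupp.single_apply, Prod.mk.injEq]
      by_cases h1 : g' = g <;> by_cases h2 : h' = h <;> simp [h1, h2]

theorem coeff_diag [DecidableEq G] (a : MonoidAlgebra B G) (g h : G) :
    (mapDomainRingHom B (diagHom G) a).coeff (g, h) = if g = h then a.coeff g else 0 := by
  induction a using MonoidAlgebra.induction_linear with
  | zero => simp
  | add x y hx hy =>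
    simp only [map_add, coeff_add, Finsupp.add_apply, hx, hy]
    split_ifs <;> simp
  | single g' r =>
    simp only [mapDomainRingHom_apply, mapDomain_single, coeff_single, diagHom_apply,
      Finsupp.single_apply, Prod.mk.injEq]
    by_cases h1 : g' = g <;> by_cases h2 : g = h <;> simp [h1, h2]

/-- `y` is group-like (comultiplication expressed in `B[G × G]`). -/
def IsGL (y : MonoidAlgebra B G) : Prop :=
  mapDomainRingHom B (diagHom G) y =
    mapDomainRingHom B (MonoidHom.inl G G) y * mapDomainRingHom B (MonoidHom.inr G G) y

theorem IsGL.coeff_mul [DecidableEq G] {y : MonoidAlgebra B G} (hy : IsGL y) (g h : G) :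
    y.coeff g * y.coeff h = if g = h then y.coeff g else 0 := by
  have := congrArg (fun z : MonoidAlgebra B (G × G) => z.coeff (g, h)) hy
  simp only [coeff_diag, coeff_inl_mul_inr] at this
  exact this.symm

theorem IsGL.coeff_mul_self {y : MonoidAlgebra B G} (hy : IsGL y) (g : G) :
    y.coeff g * y.coeff g = y.coeff g := by
  classical
  rw [hy.coeff_mul, if_pos rfl]

theorem IsGL.coeff_mul_of_ne {y : MonoidAlgebra B G} (hy : IsGL y) {g h : G} (hgh : g ≠ h) :
    y.coeff g * y.coeff h = 0 := by
  classical
  rw [hy.coeff_mul, if_neg hgh]

/-- the augmentation `B[G] → B`. -/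
noncomputable def aug (B : Type*) [CommRing B] (G : Type*) [CommGroup G] :
    MonoidAlgebra B G →+* B :=
  MonoidAlgebra.liftNCRingHom (RingHom.id B) (1 : G →* B) (fun _ _ => Commute.all _ _)

theorem aug_single (g : G) (r : B) : aug B G (single g r) = r := by
  simp [aug, MonoidAlgebra.liftNCRingHom_single]

theorem aug_eq_sum (y : MonoidAlgebra B G) : aug B G y = ∑ g ∈ y.coeff.support, y.coeff g := by
  classical
  induction y using MonoidAlgebra.induction_linear with
  | zero => simp
  | add x z hx hz =>
    rw [map_add, hx, hz]
    have h1 : ∑ g ∈ x.coeff.support, x.coeff g = ∑ g ∈ x.coeff.support ∪ z.coeff.support, x.coeff g :=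
      Finset.sum_subset Finset.subset_union_left (fun g _ hg => by simpa using hg)
    have h2 : ∑ g ∈ z.coeff.support, z.coeff g = ∑ g ∈ x.coeff.support ∪ z.coeff.support, z.coeff g :=
      Finset.sum_subset Finset.subset_union_right (fun g _ hg => by simpa using hg)
    have h3 : ∑ g ∈ (x + z).coeff.support, (x + z).coeff g =
        ∑ g ∈ x.coeff.support ∪ z.coeff.support, (x + z).coeff g :=
      Finset.sum_subset Finsupp.support_add (fun g _ hg => by simpa using hg)
    rw [h1, h2, h3, ← Finset.sum_add_distrib]
    rfl
  | single g r =>
    rw [aug_single]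
    by_cases hr : r = 0
    · subst hr
      simp
    · rw [coeff_single, Finsupp.support_single_ne_zero _ hr, Finset.sum_singleton,
        Finsupp.single_eq_same]

/-- a group-like unit has coefficients summing to `1`. -/
theorem IsGL.aug_eq_one {y : MonoidAlgebra B G} (hy : IsGL y) (hu : IsUnit y) : aug B G y = 1 := by
  classical
  have hu' : IsUnit (aug B G y) := hu.map (aug B G)
  have hidem : aug B G y * aug B G y = aug B G y := by
    rw [aug_eq_sum, Finset.sum_mul_sum]
    refine Finset.sum_congr rfl (fun g hg => ?_)
    rw [Finset.sum_eq_single g]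
    · exact hy.coeff_mul_self g
    · intro h _ hne
      exact hy.coeff_mul_of_ne (Ne.symm hne)
    · intro hg'
      exact absurd hg hg'
  exact hu'.mul_left_cancel (by rw [hidem, mul_one])

/-- after inverting a product of coefficients containing `y_{g₀}`, a group-like unit becomes the
group element `g₀`. -/
theorem IsGL.map_eq_single {B' : Type*} [CommRing B'] {y : MonoidAlgebra B G} (hy : IsGL y)
    (hu : IsUnit y) (r : B →+* B') (g₀ : G) (c : B) (hc : IsUnit (r c))
    (hcg : ∀ g, g ≠ g₀ → c * y.coeff g = 0) :
    mapRingHom G r y = single g₀ 1 := by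
  classical
  have h0 : ∀ g, g ≠ g₀ → r (y.coeff g) = 0 := by
    intro g hg
    have := congrArg r (hcg g hg)
    rw [map_mul, map_zero] at this
    exact hc.mul_left_cancel (by rw [this, mul_zero])
  have h1 : r (y.coeff g₀) = 1 := by
    have := congrArg r (hy.aug_eq_one hu)
    rw [aug_eq_sum, map_sum, map_one] at this
    rw [← this]
    symm
    refine Finset.sum_eq_single g₀ (fun g _ hg => h0 g hg) (fun hg => ?_)
    rw [Finsupp.notMem_support_iff.1 hg, map_zero]
  apply coeff_injective
  ext g
  rw [coeff_mapRingHom, coeff_single, Finsupp.single_apply]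
  by_cases hg : g₀ = g
  · subst hg
    rw [if_pos rfl, h1]
  · rw [if_neg hg, h0 g (Ne.symm hg)]

theorem single_one_injective [Nontrivial B] :
    Function.Injective (fun g : G => (single g 1 : MonoidAlgebra B G)) := by
  intro g h hgh
  have := congrArg (fun z : MonoidAlgebra B G => z.coeff g) hgh
  simp only [coeff_single, Finsupp.single_eq_same] at this
  by_contra hne
  rw [Finsupp.single_eq_of_ne hne] at this
  exact one_ne_zero this

end Groth.Agent.Lib.Helper10.GroupLikeIdem
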