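import Mathlib
import Groth.Agent.Lib.Helper21.DSMap
import Groth.Agent.Lib.Helper10.GroupLikeIdem

/-!
# Points of `D_U(M) ×_U W` for affine `W`: the coordinate ring `Γ(W)[M]`
-/

set_option autoImplicit false
set_option backward.isDefEq.respectTransparency.types false
set_option maxHeartbeats 4000000
set_option synthInstance.maxHeartbeats 400000
universe u
open CategoryTheory CategoryTheory.Limits AlgebraicGeometry MonoidalCategory
  CartesianMonoidalCategory MonObj GrpObj

namespace Groth.Agent.Lib.Helper10.DiagHom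

open Groth.Agent.Lib.Helper21.GaPts Groth.Agent.Lib.Helper10.GroupLikeIdem

variable {U : Scheme.{u}} {M N : Type} [AddCommGroup M] [AddCommGroup N]

theorem dsPt_comp {X X' : Over U} (g : X' ⟶ X) (χ : Multiplicative M →* Γ(X.left, ⊤)) :
    g ≫ dsPt (S := U) χ = dsPt (S := U) ((g.left.appTop.hom.toMonoidHom).comp χ) := by
  apply dsFn_injective
  intro m
  rw [dsFn_comp, dsFn_dsPt, dsFn_dsPt]
  rfl

section SpecOver

variable (W : Over U) [IsAffine W.left]

/-- `Spec C` over `U`, through `W`. -/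
noncomputable def specOver {C : CommRingCat.{u}} (β : Γ(W.left, ⊤) ⟶ C) : Over U :=
  Over.mk (Spec.map β ≫ W.left.isoSpec.inv ≫ W.hom)

noncomputable def specOverT {C : CommRingCat.{u}} (β : Γ(W.left, ⊤) ⟶ C) : specOver W β ⟶ W :=
  Over.homMk (Spec.map β ≫ W.left.isoSpec.inv) (by simp [specOver])

noncomputable def specOverMap {C C' : CommRingCat.{u}} (β : Γ(W.left, ⊤) ⟶ C)
    (β' : Γ(W.left, ⊤) ⟶ C') (gm : C ⟶ C') (h : β ≫ gm = β') : specOver W β' ⟶ specOver W β :=
  Over.homMk (Spec.map gm) (by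
    subst h
    simp [specOver])

theorem specOverMap_t {C C' : CommRingCat.{u}} (β : Γ(W.left, ⊤) ⟶ C)
    (β' : Γ(W.left, ⊤) ⟶ C') (gm : C ⟶ C') (h : β ≫ gm = β') :
    specOverMap W β β' gm h ≫ specOverT W β = specOverT W β' := by
  subst h
  apply Over.OverMorphism.ext
  change Spec.map gm ≫ Spec.map β ≫ W.left.isoSpec.inv = Spec.map (β ≫ gm) ≫ W.left.isoSpec.inv
  rw [Spec.map_comp, Category.assoc]

end SpecOver

section SpecOver₂

variable {W W' : Over U} [IsAffine W.left] [IsAffine W'.left]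

noncomputable def specOverMap₂ (j : W' ⟶ W) {C C' : CommRingCat.{u}} (β : Γ(W.left, ⊤) ⟶ C)
    (β' : Γ(W'.left, ⊤) ⟶ C') (gm : C ⟶ C') (h : β ≫ gm = j.left.appTop ≫ β') :
    specOver W' β' ⟶ specOver W β :=
  Over.homMk (Spec.map gm) (by
    change Spec.map gm ≫ Spec.map β ≫ W.left.isoSpec.inv ≫ W.hom =
      Spec.map β' ≫ W'.left.isoSpec.inv ≫ W'.hom
    rw [← Category.assoc, ← Spec.map_comp, h, Spec.map_comp, Category.assoc,
      ← Category.assoc (Spec.map j.left.appTop), Scheme.isoSpec_inv_naturality, Category.assoc,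
      Over.w])

theorem specOverMap₂_t (j : W' ⟶ W) {C C' : CommRingCat.{u}} (β : Γ(W.left, ⊤) ⟶ C)
    (β' : Γ(W'.left, ⊤) ⟶ C') (gm : C ⟶ C') (h : β ≫ gm = j.left.appTop ≫ β') :
    specOverMap₂ j β β' gm h ≫ specOverT W β = specOverT W' β' ≫ j := by
  apply Over.OverMorphism.ext
  change Spec.map gm ≫ Spec.map β ≫ W.left.isoSpec.inv =
    (Spec.map β' ≫ W'.left.isoSpec.inv) ≫ j.left
  rw [← Category.assoc, ← Spec.map_comp, h, Spec.map_comp, Category.assoc,
    Scheme.isoSpec_inv_naturality, Category.assoc]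

end SpecOver₂

section Points

/-- a character with values in `C`, as a character with values in `Γ(Spec C)`. -/
noncomputable def chr {C : CommRingCat.{u}} (χ : Multiplicative M →* C) :
    Multiplicative M →* Γ(Spec C, ⊤) :=
  ((Scheme.ΓSpecIso C).inv.hom.toMonoidHom).comp χ

theorem chr_apply {C : CommRingCat.{u}} (χ : Multiplicative M →* C) (g : Multiplicative M) :
    chr χ g = (Scheme.ΓSpecIso C).inv (χ g) := rfl

theorem chr_comp {C C' : CommRingCat.{u}} (gm : C ⟶ C') (χ : Multiplicative M →* C) :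
    ((Spec.map gm).appTop.hom.toMonoidHom).comp (chr χ) = chr ((gm.hom.toMonoidHom).comp χ) := by
  ext g
  have := congrArg (fun f => f.hom (χ g)) (Scheme.ΓSpecIso_inv_naturality gm)
  exact this.symm

variable (W : Over U) [IsAffine W.left]

/-- the point of `D_U(M) ×_U W` with values in `Spec C` given by `β : Γ(W) → C` and a character
`χ : M → C`. -/
noncomputable def ptOf {C : CommRingCat.{u}} (β : Γ(W.left, ⊤) ⟶ C) (χ : Multiplicative M →* C) :
    specOver W β ⟶ Red.DS U M ⊗ W :=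
  lift (dsPt (S := U) (X := specOver W β) (chr χ)) (specOverT W β)

theorem ptOf_map {C C' : CommRingCat.{u}} (β : Γ(W.left, ⊤) ⟶ C) (β' : Γ(W.left, ⊤) ⟶ C')
    (gm : C ⟶ C') (h : β ≫ gm = β') (χ : Multiplicative M →* C) :
    specOverMap W β β' gm h ≫ ptOf W β χ = ptOf W β' ((gm.hom.toMonoidHom).comp χ) := by
  rw [ptOf, ptOf, comp_lift, specOverMap_t, dsPt_comp]
  congr 2
  exact chr_comp gm χ

theorem ptOf_map₂ {W W' : Over U} [IsAffine W.left] [IsAffine W'.left] (j : W' ⟶ W)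
    {C C' : CommRingCat.{u}} (β : Γ(W.left, ⊤) ⟶ C) (β' : Γ(W'.left, ⊤) ⟶ C') (gm : C ⟶ C')
    (h : β ≫ gm = j.left.appTop ≫ β') (χ : Multiplicative M →* C) :
    specOverMap₂ j β β' gm h ≫ ptOf W β χ =
      ptOf W' β' ((gm.hom.toMonoidHom).comp χ) ≫ (Red.DS U M ◁ j) := by
  rw [ptOf, ptOf, comp_lift, specOverMap₂_t, dsPt_comp, lift_whiskerLeft]
  congr 2
  exact chr_comp gm χ

end Points

end Groth.Agent.Lib.Helper10.DiagHom
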