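import Mathlib
import Groth.Agent.Lib.Helper10.DiagPts

/-!
# `D_U(M) ×_U W ≅ Spec Γ(W)[M]` for affine `W`
-/

set_option autoImplicit false
set_option backward.isDefEq.respectTransparency.types false
set_option maxHeartbeats 4000000
set_option synthInstance.maxHeartbeats 400000
universe u
open CategoryTheory CategoryTheory.Limits AlgebraicGeometry MonoidalCategory
  CartesianMonoidalCategory MonObj GrpObj

namespace Groth.Agent.Lib.Helper10.DiagHom

open Groth.Agent.Lib.Helper21.GaPts Groth.Agent.Lib.Helper10.GroupLikeIdem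

variable {U : Scheme.{u}} (M : Type) {N : Type} [AddCommGroup M] [AddCommGroup N]

variable (W : Over U) [IsAffine W.left]

/-- the ring `Γ(W)[M]`. -/
noncomputable abbrev BG : CommRingCat.{u} :=
  CommRingCat.of (MonoidAlgebra Γ(W.left, ⊤) (Multiplicative M))

noncomputable def algB : Γ(W.left, ⊤) ⟶ BG M W :=
  CommRingCat.ofHom (algebraMap Γ(W.left, ⊤) (MonoidAlgebra Γ(W.left, ⊤) (Multiplicative M)))

/-- the universal point of `D_U(M) ×_U W`. -/
noncomputable def univPt : specOver W (algB M W) ⟶ Red.DS U M ⊗ W :=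
  ptOf W (algB M W) (MonoidAlgebra.of Γ(W.left, ⊤) (Multiplicative M))

theorem univPt_fst : univPt M W ≫ fst _ _ =
    dsPt (S := U) (X := specOver W (algB M W))
      (chr (MonoidAlgebra.of Γ(W.left, ⊤) (Multiplicative M))) := by
  rw [univPt, ptOf, lift_fst]

theorem univPt_snd : univPt M W ≫ snd _ _ = specOverT W (algB M W) := by
  rw [univPt, ptOf, lift_snd]

/-- the ring map `Γ(W)[M] → Γ(D_U(M) ×_U W)`. -/
noncomputable def theta : MonoidAlgebra Γ(W.left, ⊤) (Multiplicative M) →+*
    Γ((Red.DS U M ⊗ W).left, ⊤) :=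
  MonoidAlgebra.liftNCRingHom ((snd (Red.DS U M) W).left.appTop.hom)
    (dsChar (fst (Red.DS U M) W)) (fun _ _ => Commute.all _ _)

theorem theta_algebraMap (b : Γ(W.left, ⊤)) :
    theta M W (algebraMap _ _ b) = (snd (Red.DS U M) W).left.appTop b := by
  rw [theta, MonoidAlgebra.coe_algebraMap]
  simp [MonoidAlgebra.liftNCRingHom_single]

theorem theta_of (g : Multiplicative M) :
    theta M W (MonoidAlgebra.single g 1) = dsFn (Multiplicative.toAdd g) (fst (Red.DS U M) W) := by
  rw [theta, MonoidAlgebra.liftNCRingHom_single]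
  simp [dsChar]

theorem rho_aux : ofRingHom (theta M W) ≫ Spec.map (algB M W) ≫ W.left.isoSpec.inv =
    (snd (Red.DS U M) W).left := by
  have h1 : CommRingCat.ofHom ((theta M W).comp
      (algebraMap Γ(W.left, ⊤) (MonoidAlgebra Γ(W.left, ⊤) (Multiplicative M)))) =
      (snd (Red.DS U M) W).left.appTop := by
    ext b
    exact theta_algebraMap M W b
  have h2 : ofRingHom (theta M W) ≫ Spec.map (algB M W) =
      (Red.DS U M ⊗ W).left.toSpecΓ ≫ Spec.map ((snd (Red.DS U M) W).left.appTop) := by
    rw [ofRingHom, Category.assoc, ← Spec.map_comp, ← h1]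
    rfl
  rw [← Category.assoc, h2, ← Scheme.toSpecΓ_naturality, Category.assoc,
    Scheme.toSpecΓ_isoSpec_inv, Category.comp_id]

/-- the inverse of the universal point. -/
noncomputable def rho : Red.DS U M ⊗ W ⟶ specOver W (algB M W) :=
  Over.homMk (ofRingHom (theta M W)) (by
    have h := rho_aux M W
    calc ofRingHom (theta M W) ≫ Spec.map (algB M W) ≫ W.left.isoSpec.inv ≫ W.hom
        = (ofRingHom (theta M W) ≫ Spec.map (algB M W) ≫ W.left.isoSpec.inv) ≫ W.hom := by
          simp only [Category.assoc]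
      _ = (snd (Red.DS U M) W).left ≫ W.hom := by rw [h]
      _ = _ := Over.w (snd (Red.DS U M) W))

theorem rho_t : rho M W ≫ specOverT W (algB M W) = snd _ _ := by
  apply Over.OverMorphism.ext
  exact rho_aux M W

theorem rho_univPt : rho M W ≫ univPt M W = 𝟙 _ := by
  apply CartesianMonoidalCategory.hom_ext
  · apply dsFn_injective
    intro m
    rw [Category.assoc, univPt_fst, dsFn_comp, dsFn_dsPt, Category.id_comp]
    change evalHom (ofRingHom (theta M W))
      (MonoidAlgebra.of Γ(W.left, ⊤) (Multiplicative M) (Multiplicative.ofAdd m)) = _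
    rw [evalHom_ofRingHom]
    exact theta_of M W _
  · rw [Category.assoc, univPt_snd, rho_t, Category.id_comp]

theorem isoSpec_inv_appTop (X : Scheme.{u}) [IsAffine X] :
    X.isoSpec.inv.appTop = (Scheme.ΓSpecIso Γ(X, ⊤)).inv := by
  have h : X.isoSpec.inv.appTop ≫ X.isoSpec.hom.appTop = 𝟙 _ := by
    rw [← Scheme.Hom.comp_appTop, Iso.hom_inv_id, Scheme.Hom.id_appTop]
  have h2 : X.isoSpec.hom.appTop = (Scheme.ΓSpecIso Γ(X, ⊤)).hom := Scheme.toSpecΓ_appTop X
  rw [h2] at h
  rw [← Category.comp_id X.isoSpec.inv.appTop, ← (Scheme.ΓSpecIso Γ(X, ⊤)).hom_inv_id,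
    ← Category.assoc, h, Category.id_comp]

theorem univPt_appTop_theta (z : MonoidAlgebra Γ(W.left, ⊤) (Multiplicative M)) :
    (univPt M W).left.appTop (theta M W z) = (Scheme.ΓSpecIso (BG M W)).inv z := by
  have : ((univPt M W).left.appTop.hom.comp (theta M W)) = (Scheme.ΓSpecIso (BG M W)).inv.hom := by
    refine MonoidAlgebra.ringHom_ext (fun b => ?_) (fun g => ?_)
    · have h0 : (MonoidAlgebra.single (1 : Multiplicative M) b :
          MonoidAlgebra Γ(W.left, ⊤) (Multiplicative M)) = algebraMap _ _ b := by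
        rw [MonoidAlgebra.coe_algebraMap]
        rfl
      rw [h0, RingHom.comp_apply, theta_algebraMap]
      change ((snd (Red.DS U M) W).left.appTop ≫ (univPt M W).left.appTop) b = _
      rw [← Scheme.Hom.comp_appTop, ← Over.comp_left, univPt_snd]
      change (Spec.map (algB M W) ≫ W.left.isoSpec.inv).appTop b = _
      rw [Scheme.Hom.comp_appTop, isoSpec_inv_appTop]
      have := congrArg (fun f => f.hom b) (Scheme.ΓSpecIso_inv_naturality (algB M W))
      exact this.symm
    · rw [RingHom.comp_apply, theta_of]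
      have := dsFn_comp (Multiplicative.toAdd g) (univPt M W) (fst (Red.DS U M) W)
      rw [univPt_fst, dsFn_dsPt] at this
      exact this.symm
  exact congrArg (fun f => f z) this

theorem univPt_rho : univPt M W ≫ rho M W = 𝟙 _ := by
  apply Over.OverMorphism.ext
  change (univPt M W).left ≫ ofRingHom (theta M W) = 𝟙 (Spec (BG M W))
  apply evalHom_injective
  rw [evalHom_comp, evalHom_ofRingHom]
  refine RingHom.ext (fun z => ?_)
  rw [RingHom.comp_apply]
  change (univPt M W).left.appTop (theta M W z) = _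
  rw [univPt_appTop_theta, evalHom_apply, Scheme.Hom.id_appTop]
  rfl

/-- two morphisms out of `D_U(M) ×_U W` agree if they agree on the universal point. -/
theorem eq_of_univPt_comp_eq {Y : Over U} (a b : Red.DS U M ⊗ W ⟶ Y)
    (h : univPt M W ≫ a = univPt M W ≫ b) : a = b := by
  rw [← Category.id_comp a, ← Category.id_comp b, ← rho_univPt, Category.assoc, Category.assoc, h]

end Groth.Agent.Lib.Helper10.DiagHom
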