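import Mathlib
import Groth.Agent.Lib.Helper10.DiagPts2

/-!
# The coefficients of a family of homomorphisms `D(M) → D(N)`
-/

set_option autoImplicit false
set_option backward.isDefEq.respectTransparency.types false
set_option maxHeartbeats 4000000
set_option synthInstance.maxHeartbeats 400000
universe u
open CategoryTheory CategoryTheory.Limits AlgebraicGeometry MonoidalCategory
  CartesianMonoidalCategory MonObj GrpObj

namespace Groth.Agent.Lib.Helper10.DiagHom

open Groth.Agent.Lib.Helper21.GaPts Groth.Agent.Lib.Helper10.GroupLikeIdem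

variable {U : Scheme.{u}} {M N : Type} [AddCommGroup M] [AddCommGroup N]

section Coef

variable (W : Over U) [IsAffine W.left]

/-- the element of `Γ(W)[M]` describing the character `n ∘ ψ` of `D(M) ×_U W`. -/
noncomputable def coefElt (ψ : Red.DS U M ⊗ W ⟶ Red.DS U N) (n : N) :
    MonoidAlgebra Γ(W.left, ⊤) (Multiplicative M) :=
  (Scheme.ΓSpecIso (BG M W)).hom (dsFn n (univPt M W ≫ ψ))

theorem coefElt_inv (ψ : Red.DS U M ⊗ W ⟶ Red.DS U N) (n : N) :
    (Scheme.ΓSpecIso (BG M W)).inv (coefElt W ψ n) = dsFn n (univPt M W ≫ ψ) := by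
  rw [coefElt]
  exact Iso.hom_inv_id_apply (C := CommRingCat) _ _

theorem coefElt_zero (ψ : Red.DS U M ⊗ W ⟶ Red.DS U N) : coefElt W ψ (0 : N) = 1 := by
  have h : dsFn (0 : N) (univPt M W ≫ ψ) = 1 := dsFn_zero _
  rw [coefElt, h]
  exact map_one (Scheme.ΓSpecIso (BG M W)).hom.hom

theorem coefElt_add (ψ : Red.DS U M ⊗ W ⟶ Red.DS U N) (n n' : N) :
    coefElt W ψ (n + n') = coefElt W ψ n * coefElt W ψ n' := by
  have h : dsFn (n + n') (univPt M W ≫ ψ) =
      dsFn n (univPt M W ≫ ψ) * dsFn n' (univPt M W ≫ ψ) := dsFn_add _ _ _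
  rw [coefElt, h]
  exact map_mul (Scheme.ΓSpecIso (BG M W)).hom.hom _ _

theorem coefElt_isUnit (ψ : Red.DS U M ⊗ W ⟶ Red.DS U N) (n : N) : IsUnit (coefElt W ψ n) := by
  refine IsUnit.of_mul_eq_one (coefElt W ψ (-n)) ?_
  rw [← coefElt_add, add_neg_cancel, coefElt_zero]

theorem eq_of_coefElt_eq (ψ ψ' : Red.DS U M ⊗ W ⟶ Red.DS U N)
    (h : ∀ n, coefElt W ψ n = coefElt W ψ' n) : ψ = ψ' := by
  apply eq_of_univPt_comp_eq
  apply dsFn_injective
  intro n
  rw [← coefElt_inv, ← coefElt_inv, h]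

/-- the family `pr₁ ≫ D(f)` has coefficients `f n`. -/
theorem coefElt_DSmap (f : N →+ M) (n : N) :
    coefElt W (fst (Red.DS U M) W ≫ Red.DSmap U f) n =
      MonoidAlgebra.single (Multiplicative.ofAdd (f n)) 1 := by
  rw [coefElt, ← Category.assoc, dsFn_DSmap, univPt_fst, dsFn_dsPt]
  change (Scheme.ΓSpecIso (BG M W)).hom ((Scheme.ΓSpecIso (BG M W)).inv _) = _
  rw [Iso.inv_hom_id_apply (C := CommRingCat)]
  rfl

end Coef

section Natural

variable {W W' : Over U} [IsAffine W.left] [IsAffine W'.left]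

/-- naturality of the coefficients in `W`. -/
theorem coefElt_whisker (j : W' ⟶ W) (ψ : Red.DS U M ⊗ W ⟶ Red.DS U N) (n : N) :
    coefElt W' ((Red.DS U M ◁ j) ≫ ψ) n =
      MonoidAlgebra.mapRingHom (Multiplicative M) j.left.appTop.hom (coefElt W ψ n) := by
  let gm : BG M W ⟶ BG M W' :=
    CommRingCat.ofHom (MonoidAlgebra.mapRingHom (Multiplicative M) j.left.appTop.hom)
  have h : algB M W ≫ gm = j.left.appTop ≫ algB M W' := by
    refine CommRingCat.hom_ext (RingHom.ext (fun b => ?_))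
    change MonoidAlgebra.mapRingHom (Multiplicative M) j.left.appTop.hom (algebraMap _ _ b) =
      algebraMap _ _ (j.left.appTop b)
    rw [MonoidAlgebra.coe_algebraMap, MonoidAlgebra.coe_algebraMap]
    simp
  have hχ : (gm.hom.toMonoidHom).comp (MonoidAlgebra.of Γ(W.left, ⊤) (Multiplicative M)) =
      MonoidAlgebra.of Γ(W'.left, ⊤) (Multiplicative M) := by
    refine MonoidHom.ext (fun g => ?_)
    change MonoidAlgebra.mapRingHom (Multiplicative M) j.left.appTop.hom
      (MonoidAlgebra.single g 1) = MonoidAlgebra.single g 1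
    rw [MonoidAlgebra.mapRingHom_single, map_one]
  have h1 := ptOf_map₂ (M := M) j (algB M W) (algB M W') gm h
    (MonoidAlgebra.of Γ(W.left, ⊤) (Multiplicative M))
  rw [hχ] at h1
  have h2 : univPt M W' ≫ (Red.DS U M ◁ j) ≫ ψ =
      specOverMap₂ j (algB M W) (algB M W') gm h ≫ univPt M W ≫ ψ := by
    rw [← Category.assoc, ← Category.assoc]
    congr 1
    exact h1.symm
  rw [coefElt, h2, dsFn_comp, coefElt]
  change ((Spec.map gm).appTop ≫ (Scheme.ΓSpecIso (BG M W')).hom) _ = _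
  rw [Scheme.ΓSpecIso_naturality]
  rfl

end Natural

section GroupLike

variable (W : Over U) [IsAffine W.left]

/-- the coefficients of a family of homomorphisms are group-like. -/
theorem coefElt_isGL (φ : Red.DS U M ⊗ W ⟶ Red.DS U N)
    (hφ : ∀ (X : Over U) (a b : X ⟶ Red.DS U M) (t : X ⟶ W),
      lift (a * b) t ≫ φ = (lift a t ≫ φ) * (lift b t ≫ φ)) (n : N) :
    IsGL (coefElt W φ n) := by
  let G := Multiplicative M
  let B := Γ(W.left, ⊤)
  let C₂ : CommRingCat.{u} := CommRingCat.of (MonoidAlgebra B (G × G))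
  let algB₂ : Γ(W.left, ⊤) ⟶ C₂ := CommRingCat.ofHom (algebraMap B (MonoidAlgebra B (G × G)))
  let dl : BG M W ⟶ C₂ := CommRingCat.ofHom (MonoidAlgebra.mapDomainRingHom B (diagHom G))
  let l₁ : BG M W ⟶ C₂ := CommRingCat.ofHom (MonoidAlgebra.mapDomainRingHom B (MonoidHom.inl G G))
  let l₂ : BG M W ⟶ C₂ := CommRingCat.ofHom (MonoidAlgebra.mapDomainRingHom B (MonoidHom.inr G G))
  have halg : ∀ (f : G →* G × G),
      algB M W ≫ CommRingCat.ofHom (MonoidAlgebra.mapDomainRingHom B f) = algB₂ := by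
    intro f
    refine CommRingCat.hom_ext (RingHom.ext (fun b => ?_))
    change MonoidAlgebra.mapDomainRingHom B f (algebraMap _ _ b) = algebraMap _ _ b
    rw [MonoidAlgebra.coe_algebraMap, MonoidAlgebra.coe_algebraMap]
    simp [MonoidAlgebra.mapDomain_single]
  have hχ : ∀ (f : G →* G × G),
      ((CommRingCat.ofHom (MonoidAlgebra.mapDomainRingHom B f) : BG M W ⟶ C₂).hom.toMonoidHom).comp
        (MonoidAlgebra.of B G) = (MonoidAlgebra.of B (G × G)).comp f := by
    intro f
    refine MonoidHom.ext (fun g => ?_)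
    change MonoidAlgebra.mapDomainRingHom B f (MonoidAlgebra.single g 1) =
      MonoidAlgebra.single (f g) 1
    simp [MonoidAlgebra.mapDomain_single]
  -- the three points
  let t₂ := specOverT W algB₂
  let a₁ : specOver W algB₂ ⟶ Red.DS U M :=
    dsPt (S := U) (X := specOver W algB₂) (chr ((MonoidAlgebra.of B (G × G)).comp (MonoidHom.inl G G)))
  let a₂ : specOver W algB₂ ⟶ Red.DS U M :=
    dsPt (S := U) (X := specOver W algB₂) (chr ((MonoidAlgebra.of B (G × G)).comp (MonoidHom.inr G G)))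
  let aΔ : specOver W algB₂ ⟶ Red.DS U M :=
    dsPt (S := U) (X := specOver W algB₂) (chr ((MonoidAlgebra.of B (G × G)).comp (diagHom G)))
  have hmul : aΔ = a₁ * a₂ := by
    apply dsFn_injective
    intro m
    rw [dsFn_mul, dsFn_dsPt, dsFn_dsPt, dsFn_dsPt]
    change (Scheme.ΓSpecIso C₂).inv (MonoidAlgebra.single (Multiplicative.ofAdd m, Multiplicative.ofAdd m) 1) =
      (Scheme.ΓSpecIso C₂).inv (MonoidAlgebra.single (Multiplicative.ofAdd m, 1) 1) *
        (Scheme.ΓSpecIso C₂).inv (MonoidAlgebra.single (1, Multiplicative.ofAdd m) 1)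
    rw [← map_mul]
    congr 1
    change _ = (MonoidAlgebra.single _ _ * MonoidAlgebra.single _ _ : MonoidAlgebra B (G × G))
    rw [MonoidAlgebra.single_mul_single]
    simp
  have e₁ : specOverMap W (algB M W) algB₂ l₁ (halg _) ≫ univPt M W = lift a₁ t₂ := by
    have := ptOf_map (M := M) W (algB M W) algB₂ l₁ (halg _) (MonoidAlgebra.of B G)
    rw [hχ] at this
    exact this
  have e₂ : specOverMap W (algB M W) algB₂ l₂ (halg _) ≫ univPt M W = lift a₂ t₂ := by
    have := ptOf_map (M := M) W (algB M W) algB₂ l₂ (halg _) (MonoidAlgebra.of B G)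
    rw [hχ] at this
    exact this
  have eΔ : specOverMap W (algB M W) algB₂ dl (halg _) ≫ univPt M W = lift aΔ t₂ := by
    have := ptOf_map (M := M) W (algB M W) algB₂ dl (halg _) (MonoidAlgebra.of B G)
    rw [hχ] at this
    exact this
  have key := hφ (specOver W algB₂) a₁ a₂ t₂
  rw [← hmul, ← e₁, ← e₂, ← eΔ] at key
  have key2 := congrArg (dsFn n) key
  rw [dsFn_mul, Category.assoc, Category.assoc, Category.assoc] at key2
  have hd : ∀ (gm : BG M W ⟶ C₂) (h : algB M W ≫ gm = algB₂),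
      dsFn n (specOverMap W (algB M W) algB₂ gm h ≫ univPt M W ≫ φ) =
        (Spec.map gm).appTop (dsFn n (univPt M W ≫ φ)) := fun gm h => dsFn_comp n _ _
  have hnat : ∀ (gm : BG M W ⟶ C₂) (z : Γ(Spec (BG M W), ⊤)),
      (Scheme.ΓSpecIso C₂).hom ((Spec.map gm).appTop z) = gm ((Scheme.ΓSpecIso (BG M W)).hom z) := by
    intro gm z
    exact congrArg (fun f => f.hom z) (Scheme.ΓSpecIso_naturality gm)
  have key3 : (Scheme.ΓSpecIso C₂).hom ((Spec.map dl).appTop (dsFn n (univPt M W ≫ φ))) =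
      (Scheme.ΓSpecIso C₂).hom ((Spec.map l₁).appTop (dsFn n (univPt M W ≫ φ))) *
        (Scheme.ΓSpecIso C₂).hom ((Spec.map l₂).appTop (dsFn n (univPt M W ≫ φ))) := by
    rw [← hd dl (halg _), ← hd l₁ (halg _), ← hd l₂ (halg _), key2]
    exact map_mul (Scheme.ΓSpecIso C₂).hom.hom _ _
  rw [hnat, hnat, hnat] at key3
  exact key3

end GroupLike

end Groth.Agent.Lib.Helper10.DiagHom
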