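import Mathlib
import Groth.Agent.Lib.Helper10.DiagPts3

/-!
# Families of homomorphisms `D(M) → D(N)` are Zariski-locally constant
-/

set_option autoImplicit false
set_option backward.isDefEq.respectTransparency.types false
set_option maxHeartbeats 4000000
set_option synthInstance.maxHeartbeats 400000
universe u
open CategoryTheory CategoryTheory.Limits AlgebraicGeometry MonoidalCategory
  CartesianMonoidalCategory MonObj GrpObj

namespace Groth.Agent.Lib.Helper10.DiagHom

open Groth.Agent.Lib.Helper21.GaPts Groth.Agent.Lib.Helper10.GroupLikeIdem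

theorem mem_basicOpen_sum {X : Scheme.{u}} {I : Type*} (s : Finset I) (f : I → Γ(X, ⊤)) (x : X)
    (h : x ∈ X.basicOpen (∑ i ∈ s, f i)) : ∃ i ∈ s, x ∈ X.basicOpen (f i) := by
  classical
  induction s using Finset.induction_on with
  | empty =>
    rw [Finset.sum_empty, Scheme.basicOpen_zero] at h
    exact absurd h (by simp)
  | insert a s ha ih =>
    rw [Finset.sum_insert ha] at h
    have h2 := Scheme.basicOpen_add_le (X := X) (f a) (∑ i ∈ s, f i) h
    rcases h2 with h2 | h2
    · exact ⟨a, Finset.mem_insert_self _ _, h2⟩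
    · obtain ⟨i, hi, hx⟩ := ih h2
      exact ⟨i, Finset.mem_insert_of_mem hi, hx⟩

theorem mem_basicOpen_prod {X : Scheme.{u}} {I : Type*} (s : Finset I) (f : I → Γ(X, ⊤)) (x : X)
    (h : ∀ i ∈ s, x ∈ X.basicOpen (f i)) : x ∈ X.basicOpen (∏ i ∈ s, f i) := by
  classical
  induction s using Finset.induction_on with
  | empty =>
    rw [Finset.prod_empty, Scheme.basicOpen_one]
    trivial
  | insert a s ha ih =>
    rw [Finset.prod_insert ha, Scheme.basicOpen_mul]
    exact ⟨h a (Finset.mem_insert_self _ _), ih (fun i hi => h i (Finset.mem_insert_of_mem hi))⟩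

theorem isUnit_of_basicOpen_eq_top {X : Scheme.{u}} (f : Γ(X, ⊤)) (h : X.basicOpen f = ⊤) :
    IsUnit f := by
  refine RingedSpace.isUnit_of_isUnit_germ (X := X.toRingedSpace) ⊤ f (fun x hx => ?_)
  have : x ∈ X.basicOpen f := by rw [h]; trivial
  exact (X.mem_basicOpen_top f x).1 this

theorem isUnit_ι_appTop_basicOpen {X : Scheme.{u}} (c : Γ(X, ⊤)) :
    IsUnit ((X.basicOpen c).ι.appTop c) := by
  apply isUnit_of_basicOpen_eq_top
  rw [← Scheme.preimage_basicOpen_top, Scheme.Opens.ι_preimage_self]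

theorem nontrivial_Γ_of_nonempty (X : Scheme.{u}) (x : X) : Nontrivial Γ(X, ⊤) :=
  RingHom.domain_nontrivial (X.presheaf.germ ⊤ x trivial).hom

variable {U : Scheme.{u}} {M N : Type} [AddCommGroup M] [AddCommGroup N]

/-- **Zariski-local constancy of families of homomorphisms between diagonalisable groups**, affine
parameter scheme. -/
theorem locally_DSmap_affine (T : Over U) [IsAffine T.left] (hN : AddGroup.FG N)
    (φ : Red.DS U M ⊗ T ⟶ Red.DS U N)
    (hφ : ∀ (X : Over U) (a b : X ⟶ Red.DS U M) (t : X ⟶ T),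
      lift (a * b) t ≫ φ = (lift a t ≫ φ) * (lift b t ≫ φ)) (t : T.left) :
    ∃ (c : Γ(T.left, ⊤)) (f : N →+ M), t ∈ T.left.basicOpen c ∧
      (Red.DS U M ◁ (Over.homMk (T.left.basicOpen c).ι rfl :
        Over.mk ((T.left.basicOpen c).ι ≫ T.hom) ⟶ T)) ≫ φ = fst _ _ ≫ Red.DSmap U f := by
  classical
  have hGL := coefElt_isGL T φ hφ
  have hU := coefElt_isUnit T φ
  have hex : ∀ n, ∃ g : Multiplicative M, t ∈ T.left.basicOpen ((coefElt T φ n).coeff g) := by
    intro n
    have h1 := (hGL n).aug_eq_one (hU n)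
    rw [aug_eq_sum] at h1
    have h2 : t ∈ T.left.basicOpen (∑ g ∈ (coefElt T φ n).coeff.support, (coefElt T φ n).coeff g) := by
      rw [h1, Scheme.basicOpen_one]
      trivial
    obtain ⟨g, -, hg⟩ := mem_basicOpen_sum _ _ t h2
    exact ⟨g, hg⟩
  choose g₀ hg₀ using hex
  obtain ⟨S, hS⟩ := hN.out
  let c : Γ(T.left, ⊤) := ∏ n ∈ S, (coefElt T φ n).coeff (g₀ n)
  have htc : t ∈ T.left.basicOpen c := mem_basicOpen_prod S _ t (fun n _ => hg₀ n)
  refine ⟨c, ?_⟩
  let W : Over U := Over.mk ((T.left.basicOpen c).ι ≫ T.hom)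
  let j : W ⟶ T := Over.homMk (T.left.basicOpen c).ι rfl
  haveI : IsAffine W.left := (isAffineOpen_top T.left).basicOpen c
  have hrc : IsUnit (j.left.appTop.hom c) := isUnit_ι_appTop_basicOpen c
  have hyW : ∀ n, coefElt W ((Red.DS U M ◁ j) ≫ φ) n =
      MonoidAlgebra.mapRingHom (Multiplicative M) j.left.appTop.hom (coefElt T φ n) :=
    coefElt_whisker j φ
  have hS1 : ∀ n ∈ S, coefElt W ((Red.DS U M ◁ j) ≫ φ) n = MonoidAlgebra.single (g₀ n) 1 := by
    intro n hn
    rw [hyW]
    refine (hGL n).map_eq_single (hU n) _ (g₀ n) c hrc (fun g hg => ?_)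
    obtain ⟨d, hd⟩ := Finset.dvd_prod_of_mem (fun n => (coefElt T φ n).coeff (g₀ n)) hn
    change c = _ at hd
    rw [hd, _root_.mul_comm _ d, _root_.mul_assoc, (hGL n).coeff_mul_of_ne (Ne.symm hg), MulZeroClass.mul_zero]
  -- the subgroup of `n` with constant coefficient
  let S' : AddSubgroup N :=
    { carrier := {n | ∃ g : Multiplicative M,
        coefElt W ((Red.DS U M ◁ j) ≫ φ) n = MonoidAlgebra.single g 1}
      zero_mem' := ⟨1, by rw [coefElt_zero]; rfl⟩
      add_mem' := by
        rintro n n' ⟨g, hg⟩ ⟨g', hg'⟩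
        refine ⟨g * g', ?_⟩
        rw [coefElt_add, hg, hg', MonoidAlgebra.single_mul_single, _root_.mul_one]
      neg_mem' := by
        rintro n ⟨g, hg⟩
        refine ⟨g⁻¹, ?_⟩
        have h1 : coefElt W ((Red.DS U M ◁ j) ≫ φ) (-n) * coefElt W ((Red.DS U M ◁ j) ≫ φ) n = 1 := by
          rw [← coefElt_add, neg_add_cancel, coefElt_zero]
        have h2 : (MonoidAlgebra.single g 1 * MonoidAlgebra.single g⁻¹ 1 :
            MonoidAlgebra Γ(W.left, ⊤) (Multiplicative M)) = 1 := by
          rw [MonoidAlgebra.single_mul_single, mul_inv_cancel, _root_.mul_one]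
          rfl
        calc coefElt W ((Red.DS U M ◁ j) ≫ φ) (-n)
            = coefElt W ((Red.DS U M ◁ j) ≫ φ) (-n) *
                (MonoidAlgebra.single g 1 * MonoidAlgebra.single g⁻¹ 1) := by rw [h2, _root_.mul_one]
          _ = (coefElt W ((Red.DS U M ◁ j) ≫ φ) (-n) * coefElt W ((Red.DS U M ◁ j) ≫ φ) n) *
                MonoidAlgebra.single g⁻¹ 1 := by rw [hg, _root_.mul_assoc]
          _ = MonoidAlgebra.single g⁻¹ 1 := by rw [h1, _root_.one_mul] }
  have hS' : S' = ⊤ := by
    rw [eq_top_iff, ← hS, AddSubgroup.closure_le]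
    intro n hn
    exact ⟨g₀ n, hS1 n hn⟩
  have hall : ∀ n, ∃ g : Multiplicative M,
      coefElt W ((Red.DS U M ◁ j) ≫ φ) n = MonoidAlgebra.single g 1 := by
    intro n
    have : n ∈ S' := by rw [hS']; trivial
    exact this
  choose gf hgf using hall
  haveI : Nontrivial Γ(W.left, ⊤) := nontrivial_Γ_of_nonempty W.left ⟨t, htc⟩
  have hadd : ∀ n n', gf (n + n') = gf n * gf n' := by
    intro n n'
    apply single_one_injective (B := Γ(W.left, ⊤))
    change MonoidAlgebra.single (gf (n + n')) 1 = MonoidAlgebra.single (gf n * gf n') 1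
    rw [← hgf, coefElt_add, hgf, hgf, MonoidAlgebra.single_mul_single, _root_.mul_one]
  let f : N →+ M := AddMonoidHom.mk' (fun n => Multiplicative.toAdd (gf n)) (fun n n' => by
    change Multiplicative.toAdd (gf (n + n')) = _
    rw [hadd]
    rfl)
  refine ⟨f, htc, ?_⟩
  refine eq_of_coefElt_eq W _ _ (fun n => ?_)
  rw [hgf, coefElt_DSmap]
  rfl

end Groth.Agent.Lib.Helper10.DiagHom
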