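import Mathlib
import Groth.Agent.Lib.Helper10.DiagPts4

/-!
# The scheme of homomorphisms between finite diagonalisable groups is finite étale
-/

set_option autoImplicit false
set_option backward.isDefEq.respectTransparency.types false
set_option maxHeartbeats 4000000
set_option synthInstance.maxHeartbeats 400000
universe u
open CategoryTheory CategoryTheory.Limits AlgebraicGeometry MonoidalCategory
  CartesianMonoidalCategory MonObj GrpObj

namespace Groth.Agent.Lib.Helper10.DiagHom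

open Groth.Agent.Lib.Helper21.GaPts Groth.Agent.Lib.Helper10.GroupLikeIdem

variable {U : Scheme.{u}} {M N : Type} [AddCommGroup M] [AddCommGroup N]

/-- **Zariski-local constancy of families of homomorphisms between diagonalisable groups.** -/
theorem locally_DSmap (T : Over U) (hN : AddGroup.FG N)
    (φ : Red.DS U M ⊗ T ⟶ Red.DS U N)
    (hφ : ∀ (X : Over U) (a b : X ⟶ Red.DS U M) (t : X ⟶ T),
      lift (a * b) t ≫ φ = (lift a t ≫ φ) * (lift b t ≫ φ)) (t : T.left) :
    ∃ (W : Over U) (j : W ⟶ T) (f : N →+ M), IsOpenImmersion j.left ∧ t ∈ Set.range j.left ∧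
      (Red.DS U M ◁ j) ≫ φ = fst _ _ ≫ Red.DSmap U f := by
  obtain ⟨(V : T.left.Opens), hV, htV, -⟩ :=
    TopologicalSpace.Opens.isBasis_iff_nbhd.mp T.left.isBasis_affineOpens
      (TopologicalSpace.Opens.mem_top t)
  let T₀ : Over U := Over.mk (V.ι ≫ T.hom)
  let j₀ : T₀ ⟶ T := Over.homMk V.ι rfl
  haveI : IsAffine T₀.left := hV
  have hφ₀ : ∀ (X : Over U) (a b : X ⟶ Red.DS U M) (t : X ⟶ T₀),
      lift (a * b) t ≫ (Red.DS U M ◁ j₀) ≫ φ =
        (lift a t ≫ (Red.DS U M ◁ j₀) ≫ φ) * (lift b t ≫ (Red.DS U M ◁ j₀) ≫ φ) := by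
    intro X a b t
    simp only [← Category.assoc, lift_whiskerLeft]
    exact hφ X a b (t ≫ j₀)
  obtain ⟨c, f, htc, hcf⟩ := locally_DSmap_affine T₀ hN ((Red.DS U M ◁ j₀) ≫ φ) hφ₀ ⟨t, htV⟩
  let W : Over U := Over.mk ((T₀.left.basicOpen c).ι ≫ T₀.hom)
  let j₁ : W ⟶ T₀ := Over.homMk (T₀.left.basicOpen c).ι rfl
  refine ⟨W, j₁ ≫ j₀, f, ?_, ?_, ?_⟩
  · rw [Over.comp_left]
    change IsOpenImmersion ((T₀.left.basicOpen c).ι ≫ V.ι)
    infer_instance
  · refine ⟨⟨⟨t, htV⟩, htc⟩, ?_⟩
    rfl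
  · rw [MonoidalCategory.whiskerLeft_comp, Category.assoc]
    exact hcf

/-- a morphism property local at the source can be checked on a family of open immersions
covering the source. -/
theorem of_openImmersions_source (P : MorphismProperty Scheme.{u}) [IsZariskiLocalAtSource P]
    {X Y : Scheme.{u}} (p : X ⟶ Y)
    (h : ∀ x : X, ∃ (W : Scheme.{u}) (j : W ⟶ X), IsOpenImmersion j ∧ x ∈ Set.range j ∧
      P (j ≫ p)) : P p := by
  choose W j hj hx hP using h
  let 𝒰 : Scheme.OpenCover.{u} X :=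
    { I₀ := X
      X := W
      f := j
      mem₀ := by
        rw [Scheme.presieve₀_mem_precoverage_iff]
        refine ⟨fun x ↦ ?_, hj⟩
        obtain ⟨w, hw⟩ := hx x
        exact ⟨x, w, hw⟩ }
  rw [IsZariskiLocalAtSource.iff_of_openCover (P := P) 𝒰]
  exact hP

/-- **The scheme of homomorphisms `D(M) → D(N)`**, `N` finitely generated with `Hom(N, M)`
finite, is finite étale over the base (if it is affine and locally of finite type, which is
known beforehand). -/
theorem finite_etale_of_represents (hN : AddGroup.FG N) [Finite (N →+ M)] (A : Over U)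
    (υ : Red.DS U M ⊗ A ⟶ Red.DS U N)
    (huniv : ∀ (T : Over U) (φ : Red.DS U M ⊗ T ⟶ Red.DS U N),
      (∀ (X : Over U) (a b : X ⟶ Red.DS U M) (t : X ⟶ T),
        lift (a * b) t ≫ φ = (lift a t ≫ φ) * (lift b t ≫ φ)) →
      ∃! a : T ⟶ A, (Red.DS U M ◁ a) ≫ υ = φ)
    (hυ : ∀ (X : Over U) (a b : X ⟶ Red.DS U M) (t : X ⟶ A),
      lift (a * b) t ≫ υ = (lift a t ≫ υ) * (lift b t ≫ υ))
    [IsAffineHom A.hom] [LocallyOfFiniteType A.hom] : IsFinite A.hom ∧ Etale A.hom := by
  -- the constant families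
  have hconst : ∀ (T : Over U) (f : N →+ M) (X : Over U) (a b : X ⟶ Red.DS U M) (t : X ⟶ T),
      lift (a * b) t ≫ fst (Red.DS U M) T ≫ Red.DSmap U f =
        (lift a t ≫ fst (Red.DS U M) T ≫ Red.DSmap U f) *
          (lift b t ≫ fst (Red.DS U M) T ≫ Red.DSmap U f) := by
    intro T f X a b t
    simp only [← Category.assoc, lift_fst]
    exact MonObj.mul_comp a b (Red.DSmap U f)
  -- the sections
  have hsec : ∀ f : N →+ M, ∃ σ : 𝟙_ (Over U) ⟶ A,
      (Red.DS U M ◁ σ) ≫ υ = fst _ _ ≫ Red.DSmap U f := fun f => by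
    obtain ⟨σ, hσ, -⟩ := huniv (𝟙_ (Over U)) _ (hconst _ f)
    exact ⟨σ, hσ⟩
  choose σ hσ using hsec
  have hσA : ∀ f, (σ f).left ≫ A.hom = 𝟙 U := fun f => Over.w (σ f)
  -- the local structure
  have hloc : ∀ x : A.left, ∃ (W : Over U) (j : W ⟶ A) (f : N →+ M), IsOpenImmersion j.left ∧
      x ∈ Set.range j.left ∧ j.left = W.hom ≫ (σ f).left := by
    intro x
    obtain ⟨W, j, f, hj, hx, hjf⟩ := locally_DSmap A hN υ hυ x
    refine ⟨W, j, f, hj, hx, ?_⟩
    obtain ⟨a₀, -, huniq⟩ := huniv W _ (hconst W f)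
    have h1 : j = a₀ := huniq j hjf
    have h2 : toUnit W ≫ σ f = a₀ := by
      apply huniq
      rw [MonoidalCategory.whiskerLeft_comp, Category.assoc, hσ, ← Category.assoc,
        whiskerLeft_fst]
    have h3 : j = toUnit W ≫ σ f := h1.trans h2.symm
    rw [h3]
    rfl
  constructor
  · -- finiteness
    rw [IsFinite.iff_isIntegralHom_and_locallyOfFiniteType,
      IsIntegralHom.iff_universallyClosed_and_isAffineHom]
    refine ⟨⟨?_, inferInstance⟩, inferInstance⟩
    constructor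
    intro X' Y' i₁ i₂ f' H
    -- the sections of `f'`
    have hs : ∀ f : N →+ M, ∃ s : Y' ⟶ X', s ≫ f' = 𝟙 Y' ∧ s ≫ i₁ = i₂ ≫ (σ f).left := fun f => by
      refine ⟨H.lift (𝟙 Y') (i₂ ≫ (σ f).left) ?_, H.lift_fst _ _ _, H.lift_snd _ _ _⟩
      rw [Category.id_comp, Category.assoc, hσA, Category.comp_id]
    choose s hs1 hs2 using hs
    have hsurj : ∀ y : X', ∃ f : N →+ M, s f (f' y) = y := by
      intro y
      obtain ⟨W, j, f, hj, hx, hjf⟩ := hloc (i₁ y)
      refine ⟨f, ?_⟩
      let V : X'.Opens := i₁ ⁻¹ᵁ j.left.opensRange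
      have hyV : y ∈ V := hx
      have hrange : Set.range (V.ι ≫ i₁) ⊆ Set.range j.left := by
        rintro _ ⟨v, rfl⟩
        exact v.2
      let k : V.toScheme ⟶ W.left := IsOpenImmersion.lift j.left (V.ι ≫ i₁) hrange
      have hk : k ≫ j.left = V.ι ≫ i₁ := IsOpenImmersion.lift_fac _ _ _
      have hjA : j.left ≫ A.hom = W.hom := Over.w j
      have hV : V.ι = (V.ι ≫ f') ≫ s f := by
        apply H.hom_ext
        · rw [Category.assoc, hs1, Category.comp_id]
        · calc V.ι ≫ i₁ = k ≫ j.left := hk.symm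
            _ = k ≫ (j.left ≫ A.hom) ≫ (σ f).left := by rw [hjA, ← hjf]
            _ = (k ≫ j.left) ≫ A.hom ≫ (σ f).left := by simp only [Category.assoc]
            _ = V.ι ≫ (i₁ ≫ A.hom) ≫ (σ f).left := by rw [hk]; simp only [Category.assoc]
            _ = V.ι ≫ (f' ≫ i₂) ≫ (σ f).left := by rw [H.w]
            _ = V.ι ≫ f' ≫ (s f ≫ i₁) := by rw [hs2]; simp only [Category.assoc]
            _ = ((V.ι ≫ f') ≫ s f) ≫ i₁ := by simp only [Category.assoc]
      have := congrArg (fun m : V.toScheme ⟶ X' => m ⟨y, hyV⟩) hV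
      exact this.symm
    change IsClosedMap f'
    intro Z hZ
    have himg : f' '' Z = ⋃ f : N →+ M, (s f) ⁻¹' Z := by
      ext u
      constructor
      · rintro ⟨z, hz, rfl⟩
        obtain ⟨f, hf⟩ := hsurj z
        exact Set.mem_iUnion.2 ⟨f, by change s f (f' z) ∈ Z; rw [hf]; exact hz⟩
      · intro hu
        obtain ⟨f, hf⟩ := Set.mem_iUnion.1 hu
        refine ⟨s f u, hf, ?_⟩
        change (s f ≫ f') u = u
        rw [hs1]
        rfl
    rw [himg]
    exact isClosed_iUnion_of_finite (fun f => hZ.preimage (s f).continuous)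
  · -- étaleness
    refine of_openImmersions_source @Etale A.hom (fun x => ?_)
    obtain ⟨W, j, f, hj, hx, hjf⟩ := hloc x
    refine ⟨W.left, j.left, hj, hx, ?_⟩
    have hjA : j.left ≫ A.hom = W.hom := Over.w j
    rw [hjA]
    haveI : Mono (σ f).left := (SplitMono.mk A.hom (hσA f)).mono
    haveI : LocallyOfFiniteType (σ f).left := by
      haveI : LocallyOfFiniteType ((σ f).left ≫ A.hom) := by
        rw [hσA]
        exact inferInstanceAs (LocallyOfFiniteType (𝟙 U))
      exact locallyOfFiniteType_of_comp (σ f).left A.hom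
    haveI : Etale (W.hom ≫ (σ f).left) := by
      rw [← hjf]
      infer_instance
    exact Etale.of_comp (f := W.hom) (σ f).left

end Groth.Agent.Lib.Helper10.DiagHom
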