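import Mathlib
import Groth.Prelude.Def_SGA3x
import Groth.Agent.Lib.Helper10.DiagHomRep
import Groth.Agent.Lib.Helper10.HomFamBC
import Groth.Agent.Lib.Helper10.AffLocProjDescent

/-!
# Homomorphisms between finite groups of multiplicative type: the representing scheme is finite
étale
-/

set_option autoImplicit false
set_option backward.isDefEq.respectTransparency.types false
set_option maxHeartbeats 4000000
set_option synthInstance.maxHeartbeats 400000
universe u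
open CategoryTheory CategoryTheory.Limits AlgebraicGeometry MonoidalCategory
  CartesianMonoidalCategory MonObj GrpObj

namespace Groth.Agent.Lib.Helper10.MultTypeHom

open Groth.Agent.Lib.Helper21.GaPts Groth.Agent.Lib.Helper10.DiagHom
  Groth.Agent.Lib.Helper10.HomFamBC Groth.Agent.Lib.Helper10.WeilClosed

section GroupIsos

noncomputable def bcCompIso {S U U' : Scheme.{u}} (b : U' ⟶ U) (a : U ⟶ S) (G : Over S) [GrpObj G] :
    Grp.mk (Red.bc (b ≫ a) G) ≅ Grp.mk (Red.bc b (Red.bc a G)) :=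
  (Functor.mapGrpNatIso (Over.pullbackComp b a)).app (Grp.mk G) ≪≫
    (Functor.mapGrpCompIso (F := Over.pullback a) (G := Over.pullback b)).app (Grp.mk G)

noncomputable def bcCongrIso {S U : Scheme.{u}} {a a' : U ⟶ S} (h : a = a') (G : Over S) [GrpObj G] :
    Grp.mk (Red.bc a G) ≅ Grp.mk (Red.bc a' G) := by
  subst h
  exact Iso.refl _

noncomputable def bcMapIso {S U : Scheme.{u}} (a : U ⟶ S) {G G' : Over S} [GrpObj G] [GrpObj G']
    (e : Grp.mk G ≅ Grp.mk G') : Grp.mk (Red.bc a G) ≅ Grp.mk (Red.bc a G') :=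
  (Over.pullback a).mapGrp.mapIso e

noncomputable def bcDSIso {U U' : Scheme.{u}} (b : U' ⟶ U) (M : Type) [AddCommGroup M] :
    Grp.mk (Red.bc b (Red.DS U M)) ≅ Grp.mk (Red.DS U' M) :=
  (bcCompIso b _ _).symm ≪≫ bcCongrIso (specULiftZIsTerminal.hom_ext _ _) _

/-- a local trivialisation pulls back. -/
noncomputable def trivIso {S U U' : Scheme.{u}} (G : Over S) [GrpObj G] (a : U ⟶ S) (b : U' ⟶ U)
    (g : U' ⟶ S) (hg : g = b ≫ a) (M : Type) [AddCommGroup M]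
    (φ : Grp.mk (Red.bc a G) ≅ Grp.mk (Red.DS U M)) :
    Grp.mk (Red.bc g G) ≅ Grp.mk (Red.DS U' M) :=
  bcCongrIso hg G ≪≫ bcCompIso b a G ≪≫ bcMapIso b φ ≪≫ bcDSIso b M

theorem exists_iso_isMonHom {S : Scheme.{u}} {G₁ G₂ : Over S} [GrpObj G₁] [GrpObj G₂]
    (φ : Grp.mk G₁ ≅ Grp.mk G₂) : ∃ e : G₁ ≅ G₂, IsMonHom e.hom := by
  refine ⟨(Grp.forget _).mapIso φ, ?_⟩
  change IsMonHom φ.hom.hom.hom
  infer_instance

end GroupIsos

section ProductCover

/-- the product of two fpqc coverings is an fpqc covering. -/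
theorem fpqc_prod {S S₁ S₂ : Scheme.{u}} (f₁ : S₁ ⟶ S) (f₂ : S₂ ⟶ S)
    (h₁ : ∀ V : S.Opens, IsAffineOpen V → ∃ W : S₁.Opens, IsCompact (W : Set S₁) ∧
      f₁.base '' (W : Set S₁) = (V : Set S))
    (h₂ : ∀ V : S.Opens, IsAffineOpen V → ∃ W : S₂.Opens, IsCompact (W : Set S₂) ∧
      f₂.base '' (W : Set S₂) = (V : Set S)) :
    ∀ V : S.Opens, IsAffineOpen V → ∃ W : (pullback f₁ f₂).Opens,
      IsCompact (W : Set (pullback f₁ f₂ : Scheme.{u})) ∧
      (pullback.fst f₁ f₂ ≫ f₁).base '' (W : Set (pullback f₁ f₂ : Scheme.{u})) = (V : Set S) := by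
  intro V hV
  obtain ⟨W₁, hW₁c, hW₁⟩ := h₁ V hV
  obtain ⟨W₂, hW₂c, hW₂⟩ := h₂ V hV
  refine ⟨pullback.fst f₁ f₂ ⁻¹ᵁ W₁ ⊓ pullback.snd f₁ f₂ ⁻¹ᵁ W₂, ?_, ?_⟩
  · -- compactness
    obtain ⟨s₁, hs₁fin, hs₁⟩ := isCompact_iff_finite_and_eq_biUnion_affineOpens.1 hW₁c
    obtain ⟨s₂, hs₂fin, hs₂⟩ := isCompact_iff_finite_and_eq_biUnion_affineOpens.1 hW₂c
    haveI : IsAffine V.toScheme := hV
    have hle₁ : ∀ A ∈ s₁, (A : S₁.Opens) ≤ W₁ := by
      intro A hA
      rw [hs₁]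
      exact le_iSup₂_of_le A hA le_rfl
    have hle₂ : ∀ A ∈ s₂, (A : S₂.Opens) ≤ W₂ := by
      intro A hA
      rw [hs₂]
      exact le_iSup₂_of_le A hA le_rfl
    have hcover : ((pullback.fst f₁ f₂ ⁻¹ᵁ W₁ ⊓ pullback.snd f₁ f₂ ⁻¹ᵁ W₂ :
        (pullback f₁ f₂).Opens) : Set (pullback f₁ f₂ : Scheme.{u})) =
        ⋃ p ∈ s₁ ×ˢ s₂, (pullback.fst f₁ f₂ ⁻¹' ((p.1 : S₁.Opens) : Set S₁) ∩
          pullback.snd f₁ f₂ ⁻¹' ((p.2 : S₂.Opens) : Set S₂)) := by
      ext z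
      simp only [TopologicalSpace.Opens.coe_inf, Set.mem_inter_iff, Set.mem_iUnion, Set.mem_prod,
        exists_prop, Prod.exists]
      constructor
      · rintro ⟨hz1, hz2⟩
        have hz1' : pullback.fst f₁ f₂ z ∈ W₁ := hz1
        have hz2' : pullback.snd f₁ f₂ z ∈ W₂ := hz2
        rw [hs₁] at hz1'
        rw [hs₂] at hz2'
        simp only [TopologicalSpace.Opens.mem_iSup] at hz1' hz2'
        obtain ⟨A, hA, hzA⟩ := hz1'
        obtain ⟨B, hB, hzB⟩ := hz2'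
        exact ⟨A, B, ⟨hA, hB⟩, hzA, hzB⟩
      · rintro ⟨A, B, ⟨hA, hB⟩, hzA, hzB⟩
        exact ⟨hle₁ A hA hzA, hle₂ B hB hzB⟩
    rw [hcover]
    refine (hs₁fin.prod hs₂fin).isCompact_biUnion ?_
    rintro ⟨A, B⟩ hAB
    obtain ⟨hA, hB⟩ := Set.mem_prod.1 hAB
    haveI : IsAffine (A : S₁.Opens).toScheme := A.2
    haveI : IsAffine (B : S₂.Opens).toScheme := B.2
    have hrA : Set.range ((A : S₁.Opens).ι ≫ f₁) ⊆ Set.range V.ι := by
      rintro _ ⟨z, rfl⟩
      rw [Scheme.Opens.range_ι, ← hW₁]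
      exact ⟨(A : S₁.Opens).ι z, hle₁ A hA z.2, rfl⟩
    have hrB : Set.range ((B : S₂.Opens).ι ≫ f₂) ⊆ Set.range V.ι := by
      rintro _ ⟨z, rfl⟩
      rw [Scheme.Opens.range_ι, ← hW₂]
      exact ⟨(B : S₂.Opens).ι z, hle₂ B hB z.2, rfl⟩
    let a : (A : S₁.Opens).toScheme ⟶ V.toScheme := IsOpenImmersion.lift V.ι _ hrA
    let b : (B : S₂.Opens).toScheme ⟶ V.toScheme := IsOpenImmersion.lift V.ι _ hrB
    have ha : a ≫ V.ι = (A : S₁.Opens).ι ≫ f₁ := IsOpenImmersion.lift_fac _ _ _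
    have hb : b ≫ V.ι = (B : S₂.Opens).ι ≫ f₂ := IsOpenImmersion.lift_fac _ _ _
    have hrange := Scheme.Pullback.range_map (f := a) (g := b) f₁ f₂ (A : S₁.Opens).ι
      (B : S₂.Opens).ι V.ι ha hb
    simp only [Scheme.Opens.range_ι] at hrange
    rw [← hrange]
    exact isCompact_range (Scheme.Hom.continuous _)
  · -- the image
    ext v
    constructor
    · rintro ⟨z, hz, rfl⟩
      rw [← hW₁]
      exact ⟨pullback.fst f₁ f₂ z, hz.1, rfl⟩
    · intro hv
      have hv1 : v ∈ f₁.base '' (W₁ : Set S₁) := by rw [hW₁]; exact hv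
      have hv2 : v ∈ f₂.base '' (W₂ : Set S₂) := by rw [hW₂]; exact hv
      obtain ⟨w₁, hw₁, hw₁v⟩ := hv1
      obtain ⟨w₂, hw₂, hw₂v⟩ := hv2
      obtain ⟨z, hz1, hz2⟩ := Scheme.Pullback.exists_preimage_pullback (f := f₁) (g := f₂) w₁ w₂
        (hw₁v.trans hw₂v.symm)
      refine ⟨z, ⟨?_, ?_⟩, ?_⟩
      · change pullback.fst f₁ f₂ z ∈ W₁
        rw [hz1]
        exact hw₁
      · change pullback.snd f₁ f₂ z ∈ W₂
        rw [hz2]
        exact hw₂
      · change f₁ (pullback.fst f₁ f₂ z) = v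
        rw [hz1]
        exact hw₁v

end ProductCover

section FiniteM

variable {U : Scheme.{u}} {M : Type} [AddCommGroup M]

/-- if `D_U(M)` is finite over a non-empty `U`, then `M` is finite. -/
theorem finite_of_isFinite_DS (hfin : IsFinite (Red.DS U M).hom) (u : U) : Finite M := by
  obtain ⟨(W₀ : U.Opens), hW₀, huW₀, -⟩ :=
    TopologicalSpace.Opens.isBasis_iff_nbhd.mp U.isBasis_affineOpens
      (TopologicalSpace.Opens.mem_top u)
  let W : Over U := Over.mk W₀.ι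
  haveI : IsAffine W.left := hW₀
  haveI : IsFinite (snd (Red.DS U M) W).left :=
    MorphismProperty.pullback_snd (P := @IsFinite) _ _ hfin
  haveI : IsIso (univPt M W) := ⟨⟨rho M W, univPt_rho M W, rho_univPt M W⟩⟩
  haveI : IsIso (univPt M W).left := inferInstanceAs (IsIso ((Over.forget U).map (univPt M W)))
  have h1 : IsFinite ((univPt M W).left ≫ (snd (Red.DS U M) W).left) := inferInstance
  have h2 : (univPt M W).left ≫ (snd (Red.DS U M) W).left =
      Spec.map (algB M W) ≫ W.left.isoSpec.inv := by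
    rw [← Over.comp_left, univPt_snd]
    rfl
  rw [h2] at h1
  have h3 : IsFinite (Spec.map (algB M W)) :=
    (MorphismProperty.cancel_right_of_respectsIso (P := @IsFinite) _ W.left.isoSpec.inv).1 h1
  have h4 : (algB M W).hom.Finite := (IsFinite.SpecMap_iff _).1 h3
  have h5 : Module.Finite Γ(W.left, ⊤) (MonoidAlgebra Γ(W.left, ⊤) (Multiplicative M)) :=
    RingHom.finite_algebraMap.1 h4
  haveI : Nontrivial Γ(W.left, ⊤) := nontrivial_Γ_of_nonempty W.left ⟨u, huW₀⟩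
  have h6 : Finite (Multiplicative M) :=
    Module.Finite.finite_basis (MonoidAlgebra.basis (Multiplicative M) Γ(W.left, ⊤))
  exact Finite.of_equiv _ Multiplicative.toAdd

end FiniteM

end Groth.Agent.Lib.Helper10.MultTypeHom
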