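import Mathlib
import Groth.Prelude.Def_SGA3x
import Groth.Agent.Lib.Helper10.MonoFibre
import Groth.Agent.Lib.Helper10.MultTypeHom

/-!
# Fibrewise monomorphisms from a group of multiplicative type are monomorphisms
-/

set_option autoImplicit false
set_option backward.isDefEq.respectTransparency.types false
set_option maxHeartbeats 4000000
set_option synthInstance.maxHeartbeats 400000
universe u
open CategoryTheory CategoryTheory.Limits AlgebraicGeometry MonoidalCategory
  CartesianMonoidalCategory MonObj GrpObj

namespace Groth.Agent.Lib.Helper10.MultTypeMono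

open Groth.Agent.Lib.Helper10.MultTypeHom Groth.Agent.Lib.Helper10.WeilClosed

theorem lft_diag (R : Type u) [CommRing R] (M : Type) [AddCommGroup M] (hM : AddGroup.FG M) :
    LocallyOfFiniteType (Red.diag R M).hom := by
  change LocallyOfFiniteType (Spec.map (CommRingCat.ofHom
    (algebraMap R (MonoidAlgebra R (Multiplicative M)))))
  rw [HasRingHomProperty.Spec_iff (P := @LocallyOfFiniteType), CommRingCat.hom_ofHom,
    RingHom.finiteType_algebraMap]
  haveI : Monoid.FG (Multiplicative M) :=
    AddMonoid.fg_iff_mul_fg.mp (AddGroup.fg_iff_addMonoid_fg.mp hM)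
  exact MonoidAlgebra.finiteType_of_fg

theorem lft_DS (U : Scheme.{u}) (M : Type) [AddCommGroup M] (hM : AddGroup.FG M) :
    LocallyOfFiniteType (Red.DS U M).hom :=
  MorphismProperty.pullback_snd (P := @LocallyOfFiniteType) _ _ (lft_diag _ M hM)

/-- a group of multiplicative type and of finite type is locally of finite type. -/
theorem lft_of_isMultTypeFT {S : Scheme.{u}} (H : Over S) [GrpObj H]
    (hH : SGA3x.IsMultTypeFT H) : LocallyOfFiniteType H.hom := by
  obtain ⟨S', f, hfl, -, hq, hloc⟩ := hH
  haveI := hfl
  refine of_fpqc @LocallyOfFiniteType hq (IsPullback.of_hasPullback H.hom f) ?_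
  refine of_local_isPullback @LocallyOfFiniteType _ (fun s => ?_)
  obtain ⟨U, hsU, M, _, hM, ⟨φ⟩⟩ := hloc s
  refine ⟨U, _, _, _, hsU, IsPullback.of_right' (IsPullback.of_hasPullback H.hom (U.ι ≫ f))
    (IsPullback.of_hasPullback H.hom f), ?_⟩
  obtain ⟨e, -⟩ := exists_iso_isMonHom φ
  have h1 : pullback.snd H.hom (U.ι ≫ f) = e.hom.left ≫ (Red.DS (U : Scheme.{u}) M).hom :=
    (Over.w e.hom).symm
  rw [h1]
  haveI := lft_DS (U : Scheme.{u}) M hM
  haveI : IsIso e.hom.left := inferInstanceAs (IsIso ((Over.forget _).map e.hom))
  infer_instance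

/-- the base change of a morphism over `S` is a base change of that morphism. -/
theorem isPullback_bc_map_left {S T : Scheme.{u}} {H G : Over S} (u : H ⟶ G) (g : T ⟶ S) :
    IsPullback ((Over.pullback g).map u).left (pullback.fst H.hom g) (pullback.fst G.hom g)
      u.left := by
  have hc : ((Over.pullback g).map u).left ≫ pullback.fst G.hom g =
      pullback.fst H.hom g ≫ u.left := by
    simp only [Over.pullback_map_left]
    exact pullback.lift_fst _ _ _
  have hs : ((Over.pullback g).map u).left ≫ pullback.snd G.hom g = pullback.snd H.hom g := by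
    simp only [Over.pullback_map_left]
    exact pullback.lift_snd _ _ _
  refine IsPullback.of_right ?_ hc (IsPullback.of_hasPullback G.hom g).flip
  rw [hs, Over.w u]
  exact (IsPullback.of_hasPullback H.hom g).flip

/-- a morphism of `S`-schemes, locally of finite type, which is a monomorphism on every fibre
over `S` is a monomorphism. -/
theorem mono_of_fibres {S : Scheme.{u}} {H G : Over S} (u : H ⟶ G)
    [LocallyOfFiniteType H.hom]
    (hfib : ∀ s : S, Mono ((Over.pullback (S.fromSpecResidueField s)).map u).left) :
    Mono u.left := by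
  haveI : LocallyOfFiniteType (u.left ≫ G.hom) := by
    rw [Over.w u]
    infer_instance
  haveI : LocallyOfFiniteType u.left := locallyOfFiniteType_of_comp u.left G.hom
  refine MonoFibre.mono_of_fiber u.left (fun g => ?_)
  let s : S := G.hom g
  have hcomm : G.left.fromSpecResidueField g ≫ G.hom =
      Spec.map (G.hom.residueFieldMap g) ≫ S.fromSpecResidueField s :=
    (Scheme.Hom.SpecMap_residueFieldMap_fromSpecResidueField G.hom g).symm
  let t : Spec (G.left.residueField g) ⟶ pullback G.hom (S.fromSpecResidueField s) :=
    pullback.lift (G.left.fromSpecResidueField g) (Spec.map (G.hom.residueFieldMap g)) hcomm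
  have ht : t ≫ pullback.fst G.hom (S.fromSpecResidueField s) =
      G.left.fromSpecResidueField g := pullback.lift_fst _ _ _
  have hR := isPullback_bc_map_left u (S.fromSpecResidueField s)
  have hbig : IsPullback (u.left.fiberι g) (u.left.fiberToSpecResidueField g)
      u.left (t ≫ pullback.fst G.hom (S.fromSpecResidueField s)) := by
    rw [ht]
    exact IsPullback.of_hasPullback _ _
  let l : u.left.fiber g ⟶ pullback H.hom (S.fromSpecResidueField s) :=
    hR.lift (u.left.fiberToSpecResidueField g ≫ t) (u.left.fiberι g) (by
      rw [Category.assoc]; exact hbig.w.symm)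
  have hl1 : l ≫ pullback.fst H.hom (S.fromSpecResidueField s) = u.left.fiberι g :=
    hR.lift_snd _ _ _
  have hl2 : l ≫ ((Over.pullback (S.fromSpecResidueField s)).map u).left =
      u.left.fiberToSpecResidueField g ≫ t := hR.lift_fst _ _ _
  have hL : IsPullback l (u.left.fiberToSpecResidueField g)
      ((Over.pullback (S.fromSpecResidueField s)).map u).left t := by
    refine IsPullback.of_right ?_ hl2 hR.flip
    rw [hl1]
    exact hbig
  exact MorphismProperty.of_isPullback (P := MorphismProperty.monomorphisms Scheme.{u})
    hL (hfib s)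

end Groth.Agent.Lib.Helper10.MultTypeMono
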