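import Mathlib
import Groth.Agent.Lib.Helper10.FpqcLocus
import Groth.Agent.Lib.Helper10.AffLocProjDescent
import Groth.Agent.Lib.Helper10.MultTypeMono

/-!
# Properties of the base changes of a morphism of `S`-schemes, as a property of `T ⟶ S`
-/

set_option autoImplicit false
set_option backward.isDefEq.respectTransparency.types false
set_option maxHeartbeats 4000000
set_option synthInstance.maxHeartbeats 400000
universe u
open CategoryTheory CategoryTheory.Limits AlgebraicGeometry

namespace Groth.Agent.Lib.Helper10.BCProps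

open Groth.Agent.Lib.Helper10.FpqcLocus Groth.Agent.Lib.Helper10.WeilClosed
  Groth.Agent.Lib.Helper10.MultTypeMono

variable {S : Scheme.{u}} {H G : Over S} (u : H ⟶ G)

/-- the property "the base change of `u` along `g` satisfies `P`". -/
def Pbc (P : MorphismProperty Scheme.{u}) ⦃T : Scheme.{u}⦄ (g : T ⟶ S) : Prop :=
  P ((Over.pullback g).map u).left

/-- local on the target, with arbitrary open immersions. -/
theorem of_local_isPullback' (P : MorphismProperty Scheme.{u}) [IsZariskiLocalAtTarget P]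
    {X Y : Scheme.{u}} (p : X ⟶ Y)
    (h : ∀ y : Y, ∃ (Z Yb : Scheme.{u}) (j : Z ⟶ Y) (iY : Yb ⟶ X) (pb : Yb ⟶ Z),
      IsOpenImmersion j ∧ y ∈ Set.range j ∧ IsPullback iY pb p j ∧ P pb) : P p := by
  refine of_local_isPullback P p (fun y => ?_)
  obtain ⟨Z, Yb, j, iY, pb, hj, hy, hpb, hP⟩ := h y
  haveI := hj
  refine ⟨j.opensRange, Yb, iY, pb ≫ j.isoOpensRange.hom, hy, ?_, ?_⟩
  · refine IsPullback.of_iso hpb (Iso.refl _) (Iso.refl _) j.isoOpensRange (Iso.refl _)
      (by simp) (by simp) (by simp) (by simp)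
  · exact (MorphismProperty.cancel_right_of_respectsIso P _ _).mpr hP

/-- the comparison square between two base changes. -/
theorem isPullback_bc_bc {T T' : Scheme.{u}} (b : T' ⟶ T) (g : T ⟶ S) :
    ∃ (l : ((Over.pullback (b ≫ g)).obj H).left ⟶ ((Over.pullback g).obj H).left)
      (e : ((Over.pullback (b ≫ g)).obj G).left ⟶ ((Over.pullback g).obj G).left),
      IsPullback l ((Over.pullback (b ≫ g)).map u).left ((Over.pullback g).map u).left e ∧
      IsPullback e (pullback.snd G.hom (b ≫ g)) (pullback.snd G.hom g) b := by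
  have hv := isPullback_bc_map_left u (b ≫ g)
  have hR := isPullback_bc_map_left u g
  let e : pullback G.hom (b ≫ g) ⟶ pullback G.hom g :=
    pullback.lift (pullback.fst _ _) (pullback.snd _ _ ≫ b)
      (by rw [Category.assoc]; exact pullback.condition)
  have he1 : e ≫ pullback.fst G.hom g = pullback.fst G.hom (b ≫ g) := pullback.lift_fst _ _ _
  have he2 : e ≫ pullback.snd G.hom g = pullback.snd G.hom (b ≫ g) ≫ b := pullback.lift_snd _ _ _
  let l : pullback H.hom (b ≫ g) ⟶ pullback H.hom g :=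
    hR.lift (((Over.pullback (b ≫ g)).map u).left ≫ e) (pullback.fst _ _)
      (by rw [Category.assoc, he1]; exact hv.w)
  have hl1 : l ≫ ((Over.pullback g).map u).left = ((Over.pullback (b ≫ g)).map u).left ≫ e :=
    hR.lift_fst _ _ _
  have hl2 : l ≫ pullback.fst H.hom g = pullback.fst H.hom (b ≫ g) := hR.lift_snd _ _ _
  refine ⟨l, e, ?_, ?_⟩
  · refine IsPullback.of_right ?_ hl1 hR.flip
    rw [hl2, he1]
    exact hv.flip
  · refine IsPullback.of_right ?_ he2 (IsPullback.of_hasPullback G.hom g)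
    rw [he1]
    exact IsPullback.of_hasPullback G.hom (b ≫ g)

theorem pbc_comp (P : MorphismProperty Scheme.{u}) [P.IsStableUnderBaseChange]
    {T T' : Scheme.{u}} (b : T' ⟶ T) (g : T ⟶ S) (h : Pbc u P g) : Pbc u P (b ≫ g) := by
  obtain ⟨l, e, h1, -⟩ := isPullback_bc_bc u b g
  exact P.of_isPullback h1 h

theorem pbc_descent (P : MorphismProperty Scheme.{u})
    [P.DescendsAlong (@Surjective ⊓ @Flat ⊓ @QuasiCompact)]
    {T T' : Scheme.{u}} (r : T' ⟶ T) (g : T ⟶ S) (hfl : Flat r) (hsurj : Surjective r)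
    (hqc : QuasiCompact r) (h : Pbc u P (r ≫ g)) : Pbc u P g := by
  obtain ⟨l, e, h1, h2⟩ := isPullback_bc_bc u r g
  have hQ : (@Surjective ⊓ @Flat ⊓ @QuasiCompact : MorphismProperty Scheme.{u}) e :=
    MorphismProperty.of_isPullback h2.flip ⟨⟨hsurj, hfl⟩, hqc⟩
  exact MorphismProperty.of_isPullback_of_descendsAlong h1.flip hQ h

theorem pbc_loc (P : MorphismProperty Scheme.{u}) [IsZariskiLocalAtTarget P]
    {T : Scheme.{u}} (g : T ⟶ S)
    (h : ∀ z : T, ∃ (Z : Scheme.{u}) (i : Z ⟶ T), IsOpenImmersion i ∧ z ∈ Set.range i ∧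
      Pbc u P (i ≫ g)) : Pbc u P g := by
  refine of_local_isPullback' P _ (fun y => ?_)
  obtain ⟨Z, i, hi, ⟨z₀, hz₀⟩, hP⟩ := h ((pullback.snd G.hom g) y)
  obtain ⟨l, e, h1, h2⟩ := isPullback_bc_bc u i g
  haveI := hi
  haveI : IsOpenImmersion e := MorphismProperty.of_isPullback h2.flip hi
  refine ⟨_, _, e, l, _, inferInstance, ?_, h1, hP⟩
  obtain ⟨z, hz1, -⟩ := Scheme.Pullback.exists_preimage_pullback (f := pullback.snd G.hom g)
    (g := i) y z₀ hz₀.symm
  refine ⟨h2.isoPullback.inv z, ?_⟩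
  change (h2.isoPullback.inv ≫ e) z = y
  rw [h2.isoPullback_inv_fst]
  exact hz1

theorem isLocalBC_pbc (P : MorphismProperty Scheme.{u}) [IsZariskiLocalAtTarget P]
    [P.IsStableUnderBaseChange] [P.DescendsAlong (@Surjective ⊓ @Flat ⊓ @QuasiCompact)] :
    IsLocalBC (Pbc u P) where
  comp _ _ b g h := pbc_comp u P b g h
  descent _ _ r g hfl hsurj hqc h := pbc_descent u P r g hfl hsurj hqc h
  loc _ g h := pbc_loc u P g h

/-- base change in stages. -/
theorem pbc_comp_iff (P : MorphismProperty Scheme.{u}) [P.RespectsIso]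
    {T Z : Scheme.{u}} (a : Z ⟶ T) (g : T ⟶ S) :
    Pbc u P (a ≫ g) ↔ P ((Over.pullback a).map ((Over.pullback g).map u)).left := by
  let e := Over.pullbackComp a g
  have hn := e.hom.naturality u
  refine P.arrow_mk_iso_iff (Arrow.isoMk ((Over.forget _).mapIso (e.app H))
    ((Over.forget _).mapIso (e.app G)) ?_)
  change (e.hom.app H).left ≫ ((Over.pullback a).map ((Over.pullback g).map u)).left =
    ((Over.pullback (a ≫ g)).map u).left ≫ (e.hom.app G).left
  rw [← Over.comp_left, ← Over.comp_left]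
  exact congrArg Over.Hom.left hn.symm

/-- conjugating by isomorphisms. -/
theorem conj_iff (P : MorphismProperty Scheme.{u}) [P.RespectsIso] {T : Scheme.{u}}
    {A A' B B' : Over T} (v : A ⟶ B) (α : A' ≅ A) (β : B ≅ B') :
    P (α.hom ≫ v ≫ β.hom).left ↔ P v.left := by
  haveI : IsIso α.hom.left := inferInstanceAs (IsIso ((Over.forget _).map α.hom))
  haveI : IsIso β.hom.left := inferInstanceAs (IsIso ((Over.forget _).map β.hom))
  rw [Over.comp_left, Over.comp_left]
  exact (MorphismProperty.cancel_left_of_respectsIso P _ _).trans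
    (MorphismProperty.cancel_right_of_respectsIso P _ _)

end Groth.Agent.Lib.Helper10.BCProps
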