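import Mathlib
import Groth.Agent.Lib.Helper10.DiagHomRep

/-!
# Properties of `D(f) : D(M) ⟶ D(N)` versus properties of `f : N → M`
-/

set_option autoImplicit false
set_option backward.isDefEq.respectTransparency.types false
set_option maxHeartbeats 4000000
set_option synthInstance.maxHeartbeats 400000
universe u
open CategoryTheory CategoryTheory.Limits AlgebraicGeometry MonoidalCategory
  CartesianMonoidalCategory MonObj GrpObj

namespace Groth.Agent.Lib.Helper10.DiagHomProps

open Groth.Agent.Lib.Helper21.GaPts Groth.Agent.Lib.Helper10.DiagHom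
  Groth.Agent.Lib.Helper10.GroupLikeIdem

variable {W : Scheme.{u}} {M N : Type} [AddCommGroup M] [AddCommGroup N]

theorem DSmap_comp {K : Type} [AddCommGroup K] (f : N →+ M) (q : M →+ K) :
    Red.DSmap W q ≫ Red.DSmap W f = Red.DSmap W (q.comp f) := by
  apply dsFn_injective
  intro n
  have h1 := dsFn_DSmap f n (Red.DSmap W q)
  have h2 := dsFn_DSmap q (f n) (𝟙 (Red.DS W K))
  have h3 := dsFn_DSmap (q.comp f) n (𝟙 (Red.DS W K))
  simp only [Category.id_comp] at h2 h3
  rw [h1, h2, h3]
  rfl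

theorem DSmap_id : Red.DSmap W (AddMonoidHom.id M) = 𝟙 (Red.DS W M) := by
  apply dsFn_injective
  intro m
  have h3 := dsFn_DSmap (AddMonoidHom.id M) m (𝟙 (Red.DS W M))
  simp only [Category.id_comp] at h3
  rw [h3]
  rfl

/-- `D(f)` is a monomorphism if `f` is surjective. -/
theorem mono_of_surjective (f : N →+ M) (hf : Function.Surjective f) :
    Mono (Red.DSmap W f).left := by
  haveI := isClosedImmersion_DSmap (S := W) f hf
  infer_instance

/-- `D(f)` is an isomorphism if `f` is bijective. -/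
theorem isIso_of_bijective (f : N →+ M) (hf : Function.Bijective f) :
    IsIso (Red.DSmap W f).left := by
  let e : N ≃+ M := AddEquiv.ofBijective f hf
  have h1 : Red.DSmap W f ≫ Red.DSmap W e.symm.toAddMonoidHom = 𝟙 _ := by
    rw [DSmap_comp, ← DSmap_id]
    congr 1
    ext m
    exact e.apply_symm_apply m
  have h2 : Red.DSmap W e.symm.toAddMonoidHom ≫ Red.DSmap W f = 𝟙 _ := by
    rw [DSmap_comp, ← DSmap_id]
    congr 1
    ext n
    exact e.symm_apply_apply n
  haveI : IsIso (Red.DSmap W f) := ⟨⟨_, h1, h2⟩⟩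
  exact inferInstanceAs (IsIso ((Over.forget _).map (Red.DSmap W f)))

variable (W' : Over W) [IsAffine W'.left]

theorem eq_of_fst_DSmap_eq (x : W'.left) (f f' : N →+ M)
    (h : fst (Red.DS W M) W' ≫ Red.DSmap W f = fst (Red.DS W M) W' ≫ Red.DSmap W f') :
    f = f' := by
  haveI : Nontrivial Γ(W'.left, ⊤) := nontrivial_Γ_of_nonempty W'.left x
  ext n
  have h1 := coefElt_DSmap W' f n
  have h2 := coefElt_DSmap W' f' n
  rw [h] at h1
  have h3 := single_one_injective (h1.symm.trans h2)
  exact Multiplicative.ofAdd.injective h3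

/-- if `D(f)` is a monomorphism over a non-empty affine base then `f` is surjective. -/
theorem surjective_of_mono (x : W'.left) (f : N →+ M)
    (h : Mono ((Red.DSmap W f) ▷ W').left) : Function.Surjective f := by
  let C := M ⧸ f.range
  let q : M →+ C := QuotientAddGroup.mk' f.range
  let a : Red.DS W C ⊗ W' ⟶ Red.DS W M ⊗ W' := lift (fst _ _ ≫ Red.DSmap W q) (snd _ _)
  let b : Red.DS W C ⊗ W' ⟶ Red.DS W M ⊗ W' :=
    lift (fst _ _ ≫ Red.DSmap W (0 : M →+ C)) (snd _ _)
  have hq : q.comp f = (0 : M →+ C).comp f := by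
    ext n
    change q (f n) = 0
    exact (QuotientAddGroup.eq_zero_iff _).mpr ⟨n, rfl⟩
  have hab : a ≫ (Red.DSmap W f ▷ W') = b ≫ (Red.DSmap W f ▷ W') := by
    simp only [a, b, lift_whiskerRight, Category.assoc, DSmap_comp, hq]
  have hab' : a.left = b.left := by
    rw [← cancel_mono ((Red.DSmap W f) ▷ W').left, ← Over.comp_left, ← Over.comp_left, hab]
  have hab'' : a = b := Over.OverMorphism.ext hab'
  have h1 : fst (Red.DS W C) W' ≫ Red.DSmap W q =
      fst (Red.DS W C) W' ≫ Red.DSmap W (0 : M →+ C) := by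
    have := congrArg (fun z => z ≫ fst _ _) hab''
    simpa only [a, b, lift_fst] using this
  have h2 : q = 0 := eq_of_fst_DSmap_eq W' x q 0 h1
  intro m
  have h3 : q m = 0 := by rw [h2]; rfl
  obtain ⟨n, hn⟩ := (QuotientAddGroup.eq_zero_iff _).mp h3
  exact ⟨n, hn⟩

/-- if `D(f)` is an epimorphism over a non-empty affine base then `f` is injective. -/
theorem injective_of_epi (x : W'.left) (f : N →+ M)
    (h : Epi ((Red.DSmap W f) ▷ W').left) : Function.Injective f := by
  let K := f.ker
  let i : K →+ N := f.ker.subtype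
  let x₁ : Red.DS W N ⊗ W' ⟶ Red.DS W K := fst _ _ ≫ Red.DSmap W i
  let x₂ : Red.DS W N ⊗ W' ⟶ Red.DS W K := fst _ _ ≫ Red.DSmap W (0 : K →+ N)
  have hi : f.comp i = f.comp (0 : K →+ N) := by
    ext k
    change f k.1 = f 0
    rw [map_zero]
    exact k.2
  have h12 : (Red.DSmap W f ▷ W') ≫ x₁ = (Red.DSmap W f ▷ W') ≫ x₂ := by
    simp only [x₁, x₂, whiskerRight_fst_assoc, DSmap_comp, hi]
  have h12' : x₁.left = x₂.left := by
    rw [← cancel_epi ((Red.DSmap W f) ▷ W').left, ← Over.comp_left, ← Over.comp_left, h12]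
  have h12'' : x₁ = x₂ := Over.OverMorphism.ext h12'
  have h2 : i = 0 := eq_of_fst_DSmap_eq W' x i 0 h12''
  rw [injective_iff_map_eq_zero]
  intro n hn
  have h3 : i ⟨n, hn⟩ = 0 := by rw [h2]; rfl
  exact h3

end Groth.Agent.Lib.Helper10.DiagHomProps
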