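import Mathlib
import Groth.Prelude.Def_SGA3x
import Groth.Agent.Lib.Helper10.BCProps
import Groth.Agent.Lib.Helper10.DiagHomProps
import Groth.Agent.Lib.Helper10.MultTypeHom

/-!
# Open and closed loci for homomorphisms between groups of multiplicative type
-/

set_option autoImplicit false
set_option backward.isDefEq.respectTransparency.types false
set_option maxHeartbeats 4000000
set_option synthInstance.maxHeartbeats 400000
universe u
open CategoryTheory CategoryTheory.Limits AlgebraicGeometry MonoidalCategory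
  CartesianMonoidalCategory MonObj GrpObj

namespace Groth.Agent.Lib.Helper10.MultTypeLocus

open Groth.Agent.Lib.Helper21.GaPts Groth.Agent.Lib.Helper10.DiagHom
  Groth.Agent.Lib.Helper10.FpqcLocus Groth.Agent.Lib.Helper10.BCProps
  Groth.Agent.Lib.Helper10.MultTypeHom Groth.Agent.Lib.Helper10.DiagHomProps

/-- compatibility between a property of morphisms of schemes and a property of homomorphisms
of abelian groups. -/
structure Compat (P : MorphismProperty Scheme.{u})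
    (P' : ∀ {M N : Type} [AddCommGroup M] [AddCommGroup N], (N →+ M) → Prop) : Prop where
  of_grp : ∀ (W : Scheme.{u}) (M N : Type) [AddCommGroup M] [AddCommGroup N] (f : N →+ M),
    P' f → P (Red.DSmap W f).left
  to_grp : ∀ (W : Scheme.{u}) (W' : Over W) [IsAffine W'.left] (_ : W'.left) (M N : Type)
    [AddCommGroup M] [AddCommGroup N] (f : N →+ M), P ((Red.DSmap W f) ▷ W').left → P' f

theorem bc_map_left_eq_whiskerRight {T : Scheme.{u}} {A B : Over T} (v : A ⟶ B) (Z : Over T) :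
    ((Over.pullback Z.hom).map v).left = (v ▷ Z).left := by
  apply pullback.hom_ext
  · simp only [Over.pullback_map_left]
    rw [pullback.lift_fst]
    exact (Over.whiskerRight_left_fst v).symm
  · simp only [Over.pullback_map_left]
    rw [pullback.lift_snd]
    exact (Over.whiskerRight_left_snd v).symm

theorem exists_iso_isMonHom' {S : Scheme.{u}} {G₁ G₂ : Over S} [GrpObj G₁] [GrpObj G₂]
    (φ : Grp.mk G₁ ≅ Grp.mk G₂) : ∃ e : G₁ ≅ G₂, IsMonHom e.hom ∧ IsMonHom e.inv := by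
  refine ⟨(Grp.forget _).mapIso φ, ?_, ?_⟩
  · change IsMonHom φ.hom.hom.hom
    infer_instance
  · change IsMonHom φ.inv.hom.hom
    infer_instance

variable {S : Scheme.{u}} {G H : Over S} [GrpObj G] [GrpObj H] (u : G ⟶ H) [IsMonHom u]

open scoped Obj in
/-- the local model, uniformly in the property. -/
theorem local_model_aux {T : Scheme.{u}} (g : T ⟶ S) (M N : Type) [AddCommGroup M]
    [AddCommGroup N] (hN : AddGroup.FG N)
    (ψ₁ : Grp.mk (Red.bc g G) ≅ Grp.mk (Red.DS T M))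
    (ψ₂ : Grp.mk (Red.bc g H) ≅ Grp.mk (Red.DS T N)) (t : T) :
    ∃ (W : T.Opens) (f : N →+ M), t ∈ W ∧
      ∀ (P : MorphismProperty Scheme.{u}) [P.IsStableUnderBaseChange]
        (P' : ∀ {M N : Type} [AddCommGroup M] [AddCommGroup N], (N →+ M) → Prop)
        (_ : Compat P P'),
        (P' f → Pbc u P (W.ι ≫ g)) ∧
        (∀ w ∈ W, Pbc u P (S.fromSpecResidueField (g w)) → P' f) := by
  obtain ⟨e₁, he₁, he₁'⟩ := exists_iso_isMonHom' ψ₁
  obtain ⟨e₂, he₂, he₂'⟩ := exists_iso_isMonHom' ψ₂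
  let u₀ : Red.bc g G ⟶ Red.bc g H := (Over.pullback g).map u
  haveI : IsMonHom u₀ := Functor.map.instIsMonHom (F := Over.pullback g) G H u
  let u' : Red.DS T M ⟶ Red.DS T N := e₁.inv ≫ u₀ ≫ e₂.hom
  haveI : IsMonHom u' := inferInstance
  let φ : Red.DS T M ⊗ 𝟙_ (Over T) ⟶ Red.DS T N := fst _ _ ≫ u'
  have hφ : ∀ (X : Over T) (a b : X ⟶ Red.DS T M) (t : X ⟶ 𝟙_ (Over T)),
      lift (a * b) t ≫ φ = (lift a t ≫ φ) * (lift b t ≫ φ) := by
    intro X a b t
    simp only [φ, lift_fst_assoc]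
    exact MonObj.mul_comp a b u'
  obtain ⟨W₁, j, f, hj, ht, hf⟩ := locally_DSmap (𝟙_ (Over T)) hN φ hφ t
  have hf' : fst (Red.DS T M) W₁ ≫ u' = fst _ _ ≫ Red.DSmap T f := by
    rw [← hf]
    simp only [φ, whiskerLeft_fst_assoc]
  have hfZ : ∀ (Z : Over T) (k : Z ⟶ W₁), u' ▷ Z = Red.DSmap T f ▷ Z := by
    intro Z k
    apply CartesianMonoidalCategory.hom_ext
    · rw [whiskerRight_fst, whiskerRight_fst]
      have := congrArg (fun m => (Red.DS T M ◁ k) ≫ m) hf'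
      simpa only [whiskerLeft_fst_assoc] using this
    · rw [whiskerRight_snd, whiskerRight_snd]
  have hW₁hom : W₁.hom = j.left := by
    have := Over.w j
    simpa using this.symm
  haveI : IsOpenImmersion W₁.hom := hW₁hom ▸ hj
  refine ⟨W₁.hom.opensRange, f, ?_, ?_⟩
  · have : t ∈ Set.range W₁.hom := by rw [hW₁hom]; exact ht
    exact this
  intro P _ P' hc
  -- the key equivalence
  have key : ∀ (Z : Over T) (k : Z ⟶ W₁),
      Pbc u P (Z.hom ≫ g) ↔ P ((Red.DSmap T f) ▷ Z).left := by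
    intro Z k
    rw [pbc_comp_iff u P Z.hom g]
    have h1 : (Over.pullback Z.hom).map u' =
        ((Over.pullback Z.hom).mapIso e₁.symm).hom ≫ (Over.pullback Z.hom).map u₀ ≫
          ((Over.pullback Z.hom).mapIso e₂).hom := by
      simp only [u', Functor.map_comp, Functor.mapIso_hom, Iso.symm_hom]
    have h2 := conj_iff P ((Over.pullback Z.hom).map u₀) ((Over.pullback Z.hom).mapIso e₁.symm)
      ((Over.pullback Z.hom).mapIso e₂)
    rw [← h1, bc_map_left_eq_whiskerRight, hfZ Z k] at h2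
    exact h2.symm
  constructor
  · intro hP'
    have h1 : Pbc u P (W₁.hom ≫ g) := by
      rw [key W₁ (𝟙 _), ← bc_map_left_eq_whiskerRight]
      exact P.overPullbackMap _ _ (hc.of_grp T M N f hP')
    have h2 : W₁.hom.opensRange.ι ≫ g = W₁.hom.isoOpensRange.inv ≫ (W₁.hom ≫ g) := by
      rw [← Category.assoc, Scheme.Hom.isoOpensRange_inv_comp]
    rw [h2]
    exact pbc_comp u P _ _ h1
  · rintro w ⟨w₁, rfl⟩ hw
    let k₁ := W₁.left.fromSpecResidueField w₁
    let Z : Over T := Over.mk (k₁ ≫ W₁.hom)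
    let k : Z ⟶ W₁ := Over.homMk k₁ rfl
    haveI : IsAffine Z.left := inferInstanceAs (IsAffine (Spec _))
    have h1 : Pbc u P (Z.hom ≫ g) := by
      have h3 := Scheme.Hom.SpecMap_residueFieldMap_fromSpecResidueField (W₁.hom ≫ g) w₁
      change Pbc u P ((k₁ ≫ W₁.hom) ≫ g)
      rw [Category.assoc, ← h3]
      exact pbc_comp u P _ _ hw
    have h4 := (key Z k).mp h1
    have x : Z.left :=
      (IsLocalRing.closedPoint (W₁.left.residueField w₁) : Spec (W₁.left.residueField w₁))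
    exact hc.to_grp T Z x M N f h4

/-- the local model. -/
theorem local_model (P : MorphismProperty Scheme.{u}) [P.IsStableUnderBaseChange]
    (P' : ∀ {M N : Type} [AddCommGroup M] [AddCommGroup N], (N →+ M) → Prop) (hc : Compat P P')
    {T : Scheme.{u}} (g : T ⟶ S) (M N : Type) [AddCommGroup M] [AddCommGroup N]
    (hN : AddGroup.FG N)
    (ψ₁ : Grp.mk (Red.bc g G) ≅ Grp.mk (Red.DS T M))
    (ψ₂ : Grp.mk (Red.bc g H) ≅ Grp.mk (Red.DS T N)) (t : T) :
    ∃ W : T.Opens, t ∈ W ∧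
      (Pbc u P (W.ι ≫ g) ∨ ∀ w ∈ W, ¬ Pbc u P (S.fromSpecResidueField (g w))) := by
  classical
  obtain ⟨W, f, htW, hW⟩ := local_model_aux u g M N hN ψ₁ ψ₂ t
  obtain ⟨h1, h2⟩ := hW P P' hc
  refine ⟨W, htW, ?_⟩
  by_cases hP' : P' f
  · exact Or.inl (h1 hP')
  · exact Or.inr (fun w hw hw' => hP' (h2 w hw hw'))

/-- **the locus where a homomorphism of groups of multiplicative type has a given property is
open and closed**, provided the property is detected on character groups. -/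
theorem clopen_locus_multType' (P : MorphismProperty Scheme.{u}) [IsZariskiLocalAtTarget P]
    [P.IsStableUnderBaseChange] [P.DescendsAlong (@Surjective ⊓ @Flat ⊓ @QuasiCompact)]
    (P' : ∀ {M N : Type} [AddCommGroup M] [AddCommGroup N], (N →+ M) → Prop) (hc : Compat P P')
    (hG : ∃ (S' : Scheme.{u}) (f : S' ⟶ S), Flat f ∧ Surjective f ∧
      (∀ V : S.Opens, IsAffineOpen V → ∃ W : S'.Opens, IsCompact (W : Set S') ∧
        f.base '' (W : Set S') = (V : Set S)) ∧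
      ∀ s' : S', ∃ U : S'.Opens, s' ∈ U ∧ ∃ (M : Type) (_ : AddCommGroup M),
        Nonempty (Grp.mk (Red.bc (U.ι ≫ f) G) ≅ Grp.mk (Red.DS (U : Scheme.{u}) M)))
    (hH : SGA3x.IsMultTypeFT H) :
    ∃ U : S.Opens, IsClosed (U : Set S) ∧
      (∀ s : S, s ∈ U ↔ P ((Over.pullback (S.fromSpecResidueField s)).map u).left) ∧
      P ((Over.pullback U.ι).map u).left := by
  obtain ⟨S₁, f₁, hfl₁, -, hq₁, hloc₁⟩ := hG
  obtain ⟨S₂, f₂, hfl₂, -, hq₂, hloc₂⟩ := hH
  haveI := hfl₁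
  haveI := hfl₂
  let c : pullback f₁ f₂ ⟶ S := pullback.fst f₁ f₂ ≫ f₁
  haveI : Flat c := inferInstance
  have hq := fpqc_prod f₁ f₂ hq₁ hq₂
  refine clopen_locus (isLocalBC_pbc u P) c hq (fun s => ?_)
  obtain ⟨U₁, hs₁, M, _, ⟨φ₁⟩⟩ := hloc₁ (pullback.fst f₁ f₂ s)
  obtain ⟨U₂, hs₂, N, _, hN, ⟨φ₂⟩⟩ := hloc₂ (pullback.snd f₁ f₂ s)
  let W₀ : (pullback f₁ f₂).Opens := pullback.fst f₁ f₂ ⁻¹ᵁ U₁ ⊓ pullback.snd f₁ f₂ ⁻¹ᵁ U₂
  have hsW₀ : s ∈ W₀ := ⟨hs₁, hs₂⟩
  have hr₁ : Set.range (W₀.ι ≫ pullback.fst f₁ f₂) ⊆ Set.range U₁.ι := by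
    rintro _ ⟨z, rfl⟩
    rw [Scheme.Opens.range_ι]
    exact z.2.1
  have hr₂ : Set.range (W₀.ι ≫ pullback.snd f₁ f₂) ⊆ Set.range U₂.ι := by
    rintro _ ⟨z, rfl⟩
    rw [Scheme.Opens.range_ι]
    exact z.2.2
  let b₁ : W₀.toScheme ⟶ U₁.toScheme := IsOpenImmersion.lift U₁.ι _ hr₁
  let b₂ : W₀.toScheme ⟶ U₂.toScheme := IsOpenImmersion.lift U₂.ι _ hr₂
  have hb₁ : b₁ ≫ U₁.ι = W₀.ι ≫ pullback.fst f₁ f₂ := IsOpenImmersion.lift_fac _ _ _
  have hb₂ : b₂ ≫ U₂.ι = W₀.ι ≫ pullback.snd f₁ f₂ := IsOpenImmersion.lift_fac _ _ _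
  have hg₁ : W₀.ι ≫ c = b₁ ≫ (U₁.ι ≫ f₁) := by
    change W₀.ι ≫ pullback.fst f₁ f₂ ≫ f₁ = _
    rw [← Category.assoc, ← hb₁, Category.assoc]
  have hg₂ : W₀.ι ≫ c = b₂ ≫ (U₂.ι ≫ f₂) := by
    change W₀.ι ≫ pullback.fst f₁ f₂ ≫ f₁ = _
    rw [pullback.condition, ← Category.assoc, ← hb₂, Category.assoc]
  obtain ⟨W, hsW, hW⟩ := local_model u P P' hc (W₀.ι ≫ c) M N hN
    (trivIso G (U₁.ι ≫ f₁) b₁ (W₀.ι ≫ c) hg₁ M φ₁) (trivIso H (U₂.ι ≫ f₂) b₂ (W₀.ι ≫ c) hg₂ N φ₂)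
    ⟨s, hsW₀⟩
  refine ⟨W₀.ι ''ᵁ W, ⟨⟨s, hsW₀⟩, hsW, rfl⟩, ?_⟩
  rcases hW with hW | hW
  · left
    have hr : Set.range (W₀.ι ''ᵁ W).ι ⊆ Set.range (W.ι ≫ W₀.ι) := by
      rintro _ ⟨z, rfl⟩
      obtain ⟨w, hw, hwz⟩ := z.2
      exact ⟨⟨w, hw⟩, hwz⟩
    have hb : IsOpenImmersion.lift (W.ι ≫ W₀.ι) (W₀.ι ''ᵁ W).ι hr ≫ (W.ι ≫ W₀.ι) =
        (W₀.ι ''ᵁ W).ι := IsOpenImmersion.lift_fac _ _ _
    rw [← hb, Category.assoc, Category.assoc]
    exact pbc_comp u P _ _ hW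
  · right
    rintro w ⟨w₀, hw₀, rfl⟩
    exact hW w₀ hw₀

theorem clopen_locus_multType (P : MorphismProperty Scheme.{u}) [IsZariskiLocalAtTarget P]
    [P.IsStableUnderBaseChange] [P.DescendsAlong (@Surjective ⊓ @Flat ⊓ @QuasiCompact)]
    (P' : ∀ {M N : Type} [AddCommGroup M] [AddCommGroup N], (N →+ M) → Prop) (hc : Compat P P')
    (hG : SGA3x.IsMultTypeFT G) (hH : SGA3x.IsMultTypeFT H) :
    ∃ U : S.Opens, IsClosed (U : Set S) ∧
      (∀ s : S, s ∈ U ↔ P ((Over.pullback (S.fromSpecResidueField s)).map u).left) ∧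
      P ((Over.pullback U.ι).map u).left := by
  refine clopen_locus_multType' u P P' hc ?_ hH
  obtain ⟨S₁, f₁, hfl₁, hsj₁, hq₁, hloc₁⟩ := hG
  refine ⟨S₁, f₁, hfl₁, hsj₁, hq₁, fun s' => ?_⟩
  obtain ⟨U, hU, M, i, -, h⟩ := hloc₁ s'
  exact ⟨U, hU, M, i, h⟩

theorem compat_mono : Compat (MorphismProperty.monomorphisms Scheme.{u})
    (fun {M N} _ _ f => Function.Surjective f) where
  of_grp W M N _ _ f hf := mono_of_surjective f hf
  to_grp W W' _ x M N _ _ f h := surjective_of_mono W' x f h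

theorem compat_iso : Compat (MorphismProperty.isomorphisms Scheme.{u})
    (fun {M N} _ _ f => Function.Bijective f) where
  of_grp W M N _ _ f hf := isIso_of_bijective f hf
  to_grp W W' _ x M N _ _ f h := by
    have h' : IsIso ((Red.DSmap W f) ▷ W').left := h
    exact ⟨injective_of_epi W' x f inferInstance, surjective_of_mono W' x f inferInstance⟩

instance : (MorphismProperty.monomorphisms Scheme.{u}).DescendsAlong
    (@Surjective ⊓ @Flat ⊓ @QuasiCompact) :=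
  MorphismProperty.diagonal_isomorphisms (C := Scheme.{u}) ▸ inferInstance

theorem clopen_mono (hG : SGA3x.IsMultTypeFT G) (hH : SGA3x.IsMultTypeFT H) :
    ∃ U : S.Opens, IsClosed (U : Set S) ∧
      (∀ s : S, s ∈ U ↔ Mono ((Over.pullback (S.fromSpecResidueField s)).map u).left) ∧
      Mono ((Over.pullback U.ι).map u).left :=
  clopen_locus_multType u (MorphismProperty.monomorphisms Scheme.{u}) _ compat_mono hG hH

theorem clopen_iso (hG : SGA3x.IsMultTypeFT G) (hH : SGA3x.IsMultTypeFT H) :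
    ∃ U : S.Opens, IsClosed (U : Set S) ∧
      (∀ s : S, s ∈ U ↔ IsIso ((Over.pullback (S.fromSpecResidueField s)).map u).left) ∧
      IsIso ((Over.pullback U.ι).map u).left :=
  clopen_locus_multType u (MorphismProperty.isomorphisms Scheme.{u}) _ compat_iso hG hH

end Groth.Agent.Lib.Helper10.MultTypeLocus
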