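import Mathlib
import Groth.Agent.Lib.Helper10.GroupLikeIdem

/-!
# A coaction of a group algebra which is trivial modulo a nilpotent ideal of invariants is trivial
-/

set_option autoImplicit false
set_option maxHeartbeats 4000000
universe u

open MonoidAlgebra

namespace Groth.Agent.Lib.Helper10.TrivAct

open Groth.Agent.Lib.Helper10.GroupLikeIdem

variable {A : Type*} [CommRing A] {G : Type*} [CommGroup G] {R₀ : Type*} [CommRing R₀]
  (α : A →+* MonoidAlgebra A G) (ρ : R₀ →+* A) (I₀ : Ideal R₀)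

/-- the step of the induction. -/
theorem coeff_mem_step (g : G) (hg : g ≠ 1)
    (h3 : ∀ r, α (ρ r) = single 1 (ρ r))
    (h4 : ∀ z, (α z).coeff g ∈ I₀.map ρ) (k : ℕ) (y : A) (hy : y ∈ (I₀ ^ k).map ρ) :
    (α y).coeff g ∈ (I₀ ^ (k + 1)).map ρ := by
  suffices h : ∀ c : A, (α (c * y)).coeff g ∈ (I₀ ^ (k + 1)).map ρ by
    simpa using h 1
  have hy' : y ∈ Ideal.span (ρ '' (I₀ ^ k : Ideal R₀)) := hy
  refine Submodule.span_induction (p := fun y _ => ∀ c : A, (α (c * y)).coeff g ∈
    (I₀ ^ (k + 1)).map ρ) ?_ ?_ ?_ ?_ hy'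
  · rintro _ ⟨r, hr, rfl⟩ c
    rw [map_mul, h3, coeff_mul_single_one, pow_succ', Ideal.map_mul]
    exact Ideal.mul_mem_mul (h4 c) (Ideal.mem_map_of_mem ρ hr)
  · intro c
    rw [mul_zero, map_zero]
    exact Ideal.zero_mem _
  · intro y₁ y₂ _ _ h₁ h₂ c
    rw [mul_add, map_add, coeff_add, Finsupp.add_apply]
    exact Ideal.add_mem _ (h₁ c) (h₂ c)
  · intro b y₁ _ h₁ c
    rw [smul_eq_mul, ← mul_assoc]
    exact h₁ (c * b)

/-- **a coaction which is trivial modulo a nilpotent ideal generated by invariants is trivial.** -/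
theorem coaction_trivial
    (h1 : ∀ z, aug A G (α z) = z)
    (h2 : ∀ z g, (α ((α z).coeff g)).coeff g = (α z).coeff g)
    (h3 : ∀ r, α (ρ r) = single 1 (ρ r))
    (h4 : ∀ z g, g ≠ 1 → (α z).coeff g ∈ I₀.map ρ)
    (h5 : IsNilpotent I₀) (z : A) : α z = single 1 z := by
  classical
  obtain ⟨N, hN⟩ := h5
  have key : ∀ g : G, g ≠ 1 → ∀ k : ℕ, ∀ z, (α z).coeff g ∈ (I₀ ^ k).map ρ := by
    intro g hg k
    induction k with
    | zero =>
      intro z
      rw [pow_zero, Ideal.one_eq_top, Ideal.map_top]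
      trivial
    | succ k ih =>
      intro z
      rw [← h2 z g]
      exact coeff_mem_step α ρ I₀ g hg h3 (fun z => h4 z g hg) k _ (ih z)
  have h0 : ∀ g : G, g ≠ 1 → (α z).coeff g = 0 := by
    intro g hg
    have := key g hg N z
    rw [hN, Ideal.zero_eq_bot, Ideal.map_bot] at this
    exact this
  have hz : (α z).coeff 1 = z := by
    have h := h1 z
    rw [aug_eq_sum] at h
    have h' : ∑ g ∈ (α z).coeff.support, (α z).coeff g = (α z).coeff 1 := by
      refine Finset.sum_eq_single 1 (fun g _ hg => h0 g hg) (fun h1' => ?_)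
      exact Finsupp.notMem_support_iff.1 h1'
    rw [← h', h]
  apply coeff_injective
  ext g
  rw [coeff_single, Finsupp.single_apply]
  by_cases hg : 1 = g
  · subst hg
    rw [if_pos rfl, hz]
  · rw [if_neg hg, h0 g (Ne.symm hg)]

end Groth.Agent.Lib.Helper10.TrivAct
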