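import Mathlib
import Groth.Agent.Lib.Helper10.DiagPts2
import Groth.Agent.Lib.Helper10.TrivActAlg

/-!
# An action of a diagonalisable group on an affine scheme which is trivial modulo a nilpotent
ideal of the base is trivial
-/

set_option autoImplicit false
set_option backward.isDefEq.respectTransparency.types false
set_option maxHeartbeats 4000000
set_option synthInstance.maxHeartbeats 400000
universe u
open CategoryTheory CategoryTheory.Limits AlgebraicGeometry MonoidalCategory
  CartesianMonoidalCategory MonObj GrpObj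

namespace Groth.Agent.Lib.Helper10.TrivAct

open Groth.Agent.Lib.Helper21.GaPts Groth.Agent.Lib.Helper10.GroupLikeIdem
  Groth.Agent.Lib.Helper10.DiagHom

section Alg

variable {k R R' : Type*} [CommRing k] [CommRing R] [CommRing R'] {G : Type*} [CommGroup G]

theorem comp_liftNCRingHom (j : R →+* R') (f : k →+* R) (χ : G →* R) :
    j.comp (MonoidAlgebra.liftNCRingHom f χ (fun _ _ => Commute.all _ _)) =
      MonoidAlgebra.liftNCRingHom (j.comp f) (j.toMonoidHom.comp χ)
        (fun _ _ => Commute.all _ _) := by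
  refine MonoidAlgebra.ringHom_ext (fun b => ?_) (fun g => ?_)
  · simp [MonoidAlgebra.liftNCRingHom_single]
  · simp [MonoidAlgebra.liftNCRingHom_single]

theorem liftNC_algebraMap_of (H : Type*) [CommGroup H] (φ : G →* H) :
    MonoidAlgebra.liftNCRingHom (algebraMap k (MonoidAlgebra k H))
      ((MonoidAlgebra.of k H).comp φ) (fun _ _ => Commute.all _ _) =
      MonoidAlgebra.mapDomainRingHom k φ := by
  refine MonoidAlgebra.ringHom_ext (fun b => ?_) (fun g => ?_)
  · rw [MonoidAlgebra.liftNCRingHom_single, MonoidAlgebra.coe_algebraMap]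
    simp [MonoidAlgebra.mapDomain_single]
  · rw [MonoidAlgebra.liftNCRingHom_single, MonoidAlgebra.coe_algebraMap]
    simp [MonoidAlgebra.mapDomain_single]

theorem liftNC_mapRingHom (q : k →+* R) :
    MonoidAlgebra.liftNCRingHom ((algebraMap R (MonoidAlgebra R G)).comp q)
      (MonoidAlgebra.of R G) (fun _ _ => Commute.all _ _) =
      MonoidAlgebra.mapRingHom G q := by
  refine MonoidAlgebra.ringHom_ext (fun b => ?_) (fun g => ?_)
  · rw [MonoidAlgebra.liftNCRingHom_single, RingHom.comp_apply, MonoidAlgebra.coe_algebraMap]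
    simp
  · rw [MonoidAlgebra.liftNCRingHom_single, RingHom.comp_apply, MonoidAlgebra.coe_algebraMap]
    simp

/-- the coefficient formula for the iterated coaction. -/
theorem coeff_liftNC_inr_inl (α : k →+* MonoidAlgebra k G) (y : MonoidAlgebra k G) (g g' : G) :
    (MonoidAlgebra.liftNCRingHom ((MonoidAlgebra.mapDomainRingHom k (MonoidHom.inr G G)).comp α)
      ((MonoidAlgebra.of k (G × G)).comp (MonoidHom.inl G G))
      (fun _ _ => Commute.all _ _) y).coeff (g, g') = (α (y.coeff g)).coeff g' := by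
  classical
  induction y using MonoidAlgebra.induction_linear with
  | zero => simp
  | add x y hx hy =>
    rw [map_add, MonoidAlgebra.coeff_add, Finsupp.add_apply, hx, hy, MonoidAlgebra.coeff_add,
      Finsupp.add_apply, map_add, MonoidAlgebra.coeff_add, Finsupp.add_apply]
  | single h b =>
    rw [MonoidAlgebra.liftNCRingHom_single]
    have h1 : ((MonoidAlgebra.of k (G × G)).comp (MonoidHom.inl G G)) h =
        MonoidAlgebra.mapDomainRingHom k (MonoidHom.inl G G) (MonoidAlgebra.single h 1) := by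
      simp [MonoidAlgebra.mapDomain_single]
    rw [h1, RingHom.comp_apply, mul_comm, coeff_inl_mul_inr, MonoidAlgebra.coeff_single,
      MonoidAlgebra.coeff_single, Finsupp.single_apply, Finsupp.single_apply]
    by_cases hg : h = g
    · rw [if_pos hg, if_pos hg, _root_.one_mul]
    · rw [if_neg hg, if_neg hg, zero_mul, map_zero]
      rfl

end Alg

variable {T : Scheme.{u}} (M : Type) [AddCommGroup M] (W : Over T) [IsAffine W.left]
  (act : Red.DS T M ⊗ W ⟶ W)

/-- the coaction attached to an action of `D_T(M)` on the affine `W`. -/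
noncomputable def coact : Γ(W.left, ⊤) →+* MonoidAlgebra Γ(W.left, ⊤) (Multiplicative M) :=
  (Scheme.ΓSpecIso (BG M W)).hom.hom.comp (univPt M W ≫ act).left.appTop.hom

theorem coact_apply (z : Γ(W.left, ⊤)) :
    coact M W act z = (Scheme.ΓSpecIso (BG M W)).hom ((univPt M W ≫ act).left.appTop z) := rfl

theorem ofRingHom_appTop {Y : Scheme.{u}} {A : Type u} [CommRing A] (ψ : A →+* Γ(Y, ⊤))
    (y : Γ(Spec (CommRingCat.of A), ⊤)) :
    (ofRingHom ψ).appTop y = ψ ((Scheme.ΓSpecIso (CommRingCat.of A)).hom y) := by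
  have h := congrArg (fun f => f ((Scheme.ΓSpecIso (CommRingCat.of A)).hom y))
    (evalHom_ofRingHom (Y := Y) ψ)
  simp only [evalHom_apply] at h
  rw [← h]
  congr 1
  exact (congrArg (fun f => f.hom y) (Scheme.ΓSpecIso (CommRingCat.of A)).hom_inv_id).symm

/-- the action on functions, in terms of the coaction. -/
theorem act_appTop (z : Γ(W.left, ⊤)) : act.left.appTop z = theta M W (coact M W act z) := by
  have h1 : act = rho M W ≫ univPt M W ≫ act := by
    rw [← Category.assoc, rho_univPt, Category.id_comp]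
  have h2 : act.left = ofRingHom (theta M W) ≫ (univPt M W ≫ act).left := by
    conv_lhs => rw [h1]
    rfl
  rw [h2, Scheme.Hom.comp_appTop, CommRingCat.comp_apply, ofRingHom_appTop]
  rfl

/-- evaluation of `Γ(W)[M]` at a point of `D_T(M) ×_T W`. -/
noncomputable def ev {Y : Over T} (δ : Y ⟶ Red.DS T M) (t : Y ⟶ W) :
    MonoidAlgebra Γ(W.left, ⊤) (Multiplicative M) →+* Γ(Y.left, ⊤) :=
  MonoidAlgebra.liftNCRingHom t.left.appTop.hom (dsChar δ) (fun _ _ => Commute.all _ _)

theorem lift_appTop_theta {Y : Over T} (δ : Y ⟶ Red.DS T M) (t : Y ⟶ W)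
    (y : MonoidAlgebra Γ(W.left, ⊤) (Multiplicative M)) :
    (lift δ t).left.appTop (theta M W y) = ev M W δ t y := by
  have : ((lift δ t).left.appTop.hom.comp (theta M W)) = ev M W δ t := by
    refine MonoidAlgebra.ringHom_ext (fun b => ?_) (fun g => ?_)
    · have h0 : (MonoidAlgebra.single (1 : Multiplicative M) b :
          MonoidAlgebra Γ(W.left, ⊤) (Multiplicative M)) = algebraMap _ _ b := by
        rw [MonoidAlgebra.coe_algebraMap]
        rfl
      rw [h0, RingHom.comp_apply, theta_algebraMap]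
      change ((snd (Red.DS T M) W).left.appTop ≫ (lift δ t).left.appTop) b = _
      rw [← Scheme.Hom.comp_appTop, ← Over.comp_left, lift_snd, ← h0, ev,
        MonoidAlgebra.liftNCRingHom_single]
      simp
    · rw [RingHom.comp_apply, theta_of]
      have := dsFn_comp (Multiplicative.toAdd g) (lift δ t) (fst (Red.DS T M) W)
      rw [lift_fst] at this
      rw [ev, MonoidAlgebra.liftNCRingHom_single]
      simp only [map_one, _root_.one_mul]
      exact this.symm
  exact congrArg (fun f => f y) this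

/-- **the action on points, in terms of the coaction.** -/
theorem lift_act_appTop {Y : Over T} (δ : Y ⟶ Red.DS T M) (t : Y ⟶ W) (z : Γ(W.left, ⊤)) :
    (lift δ t ≫ act).left.appTop z = ev M W δ t (coact M W act z) := by
  rw [Over.comp_left, Scheme.Hom.comp_appTop, CommRingCat.comp_apply, act_appTop,
    lift_appTop_theta]

variable {M W}

/-- points with values in `Spec C`. -/
theorem spec_lift_act_appTop {C : CommRingCat.{u}} (β : Γ(W.left, ⊤) ⟶ C)
    (χ : Multiplicative M →* C) (t : specOver W β ⟶ W) (z : Γ(W.left, ⊤)) :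
    (Scheme.ΓSpecIso C).hom
      ((lift (dsPt (S := T) (X := specOver W β) (chr χ)) t ≫ act).left.appTop z) =
    MonoidAlgebra.liftNCRingHom ((Scheme.ΓSpecIso C).hom.hom.comp t.left.appTop.hom) χ
      (fun _ _ => Commute.all _ _) (coact M W act z) := by
  rw [lift_act_appTop, ev]
  have h := comp_liftNCRingHom (Scheme.ΓSpecIso C).hom.hom t.left.appTop.hom
    (dsChar (dsPt (S := T) (X := specOver W β) (chr χ)))
  have h2 : ((Scheme.ΓSpecIso C).hom.hom.toMonoidHom).comp
      (dsChar (dsPt (S := T) (X := specOver W β) (chr χ))) = χ := by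
    refine MonoidHom.ext (fun g => ?_)
    change (Scheme.ΓSpecIso C).hom (dsFn (Multiplicative.toAdd g)
      (dsPt (S := T) (X := specOver W β) (chr χ))) = _
    rw [dsFn_dsPt]
    change (Scheme.ΓSpecIso C).hom ((Scheme.ΓSpecIso C).inv (χ g)) = _
    exact congrArg (fun f => f.hom (χ g)) (Scheme.ΓSpecIso C).inv_hom_id
  rw [h2] at h
  exact congrArg (fun f => f (coact M W act z)) h

theorem specOverT_appTop {C : CommRingCat.{u}} (β : Γ(W.left, ⊤) ⟶ C) (z : Γ(W.left, ⊤)) :
    (Scheme.ΓSpecIso C).hom ((specOverT W β).left.appTop z) = β z := by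
  change (Scheme.ΓSpecIso C).hom ((Spec.map β ≫ W.left.isoSpec.inv).appTop z) = β z
  rw [Scheme.Hom.comp_appTop, isoSpec_inv_appTop, CommRingCat.comp_apply]
  have h := congrArg (fun f => f.hom ((Scheme.ΓSpecIso Γ(W.left, ⊤)).inv z))
    (Scheme.ΓSpecIso_naturality β)
  simp only [CommRingCat.hom_comp, RingHom.comp_apply] at h
  rw [h]
  congr 1
  exact congrArg (fun f => f.hom z) (Scheme.ΓSpecIso Γ(W.left, ⊤)).inv_hom_id

theorem specOverT_comp {C : CommRingCat.{u}} (β : Γ(W.left, ⊤) ⟶ C) :
    (Scheme.ΓSpecIso C).hom.hom.comp (specOverT W β).left.appTop.hom = β.hom :=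
  RingHom.ext (fun z => specOverT_appTop β z)

theorem dsPt_chr_mul {C : CommRingCat.{u}} (β : Γ(W.left, ⊤) ⟶ C)
    (χ₁ χ₂ : Multiplicative M →* C) :
    dsPt (S := T) (X := specOver W β) (chr χ₁) * dsPt (S := T) (X := specOver W β) (chr χ₂) =
      dsPt (S := T) (X := specOver W β) (chr (χ₁ * χ₂)) := by
  apply dsFn_injective
  intro m
  rw [dsFn_mul, dsFn_dsPt, dsFn_dsPt, dsFn_dsPt]
  change (Scheme.ΓSpecIso C).inv (χ₁ (Multiplicative.ofAdd m)) *
    (Scheme.ΓSpecIso C).inv (χ₂ (Multiplicative.ofAdd m)) =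
    (Scheme.ΓSpecIso C).inv ((χ₁ * χ₂) (Multiplicative.ofAdd m))
  rw [← map_mul]
  rfl

section Main

/-- the counit axiom. -/
theorem aug_coact (hunit : lift (1 : W ⟶ Red.DS T M) (𝟙 W) ≫ act = 𝟙 W) (z : Γ(W.left, ⊤)) :
    aug Γ(W.left, ⊤) (Multiplicative M) (coact M W act z) = z := by
  have h := lift_act_appTop M W act (1 : W ⟶ Red.DS T M) (𝟙 W) z
  rw [hunit] at h
  have hev : ev M W (1 : W ⟶ Red.DS T M) (𝟙 W) = aug Γ(W.left, ⊤) (Multiplicative M) := by
    refine MonoidAlgebra.ringHom_ext (fun b => ?_) (fun g => ?_)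
    · rw [ev, MonoidAlgebra.liftNCRingHom_single, aug_single]
      simp
    · rw [ev, MonoidAlgebra.liftNCRingHom_single, aug_single]
      change _ * dsFn (Multiplicative.toAdd g) (1 : W ⟶ Red.DS T M) = 1
      rw [dsFn_one]
      simp
  rw [hev] at h
  rw [← h]
  simp

/-- coassociativity, on the diagonal coefficients. -/
theorem coact_coassoc (hassoc : ∀ (Y : Over T) (a b : Y ⟶ Red.DS T M) (t : Y ⟶ W),
      lift (a * b) t ≫ act = lift a (lift b t ≫ act) ≫ act) (z : Γ(W.left, ⊤))
    (g : Multiplicative M) :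
    (coact M W act ((coact M W act z).coeff g)).coeff g = (coact M W act z).coeff g := by
  classical
  let G := Multiplicative M
  let A := Γ(W.left, ⊤)
  let C₂ : CommRingCat.{u} := CommRingCat.of (MonoidAlgebra A (G × G))
  let β₂ : Γ(W.left, ⊤) ⟶ C₂ := CommRingCat.ofHom (algebraMap A (MonoidAlgebra A (G × G)))
  let χ₁ : G →* C₂ := (MonoidAlgebra.of A (G × G)).comp (MonoidHom.inl G G)
  let χ₂ : G →* C₂ := (MonoidAlgebra.of A (G × G)).comp (MonoidHom.inr G G)
  have hχ : χ₁ * χ₂ = (MonoidAlgebra.of A (G × G)).comp (diagHom G) := by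
    refine MonoidHom.ext (fun g => ?_)
    change (MonoidAlgebra.single (g, 1) 1 * MonoidAlgebra.single (1, g) 1 :
      MonoidAlgebra A (G × G)) = MonoidAlgebra.single (g, g) 1
    rw [MonoidAlgebra.single_mul_single]
    simp
  let t₂ := specOverT W β₂
  have key := hassoc (specOver W β₂) (dsPt (S := T) (X := specOver W β₂) (chr χ₁))
    (dsPt (S := T) (X := specOver W β₂) (chr χ₂)) t₂
  rw [dsPt_chr_mul] at key
  have key2 := congrArg (fun f => (Scheme.ΓSpecIso C₂).hom (f.left.appTop z)) key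
  beta_reduce at key2
  rw [spec_lift_act_appTop, spec_lift_act_appTop] at key2
  have hr : (Scheme.ΓSpecIso C₂).hom.hom.comp
      (lift (dsPt (S := T) (X := specOver W β₂) (chr χ₂)) t₂ ≫ act).left.appTop.hom =
      (MonoidAlgebra.mapDomainRingHom A (MonoidHom.inr G G)).comp (coact M W act) := by
    refine RingHom.ext (fun b => ?_)
    rw [RingHom.comp_apply, RingHom.comp_apply]
    change (Scheme.ΓSpecIso C₂).hom ((lift _ t₂ ≫ act).left.appTop b) = _
    rw [spec_lift_act_appTop, specOverT_comp]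
    change MonoidAlgebra.liftNCRingHom (algebraMap A (MonoidAlgebra A (G × G))) χ₂ _ _ = _
    rw [liftNC_algebraMap_of]
  rw [hr, specOverT_comp, hχ] at key2
  change MonoidAlgebra.liftNCRingHom (algebraMap A (MonoidAlgebra A (G × G)))
    ((MonoidAlgebra.of A (G × G)).comp (diagHom G)) _ _ = _ at key2
  rw [liftNC_algebraMap_of] at key2
  have key3 := congrArg (fun y : MonoidAlgebra A (G × G) => y.coeff (g, g)) key2
  beta_reduce at key3
  rw [coeff_diag, if_pos rfl, coeff_liftNC_inr_inl] at key3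
  exact key3.symm

/-- functions coming from the base are invariant. -/
theorem coact_hom (r : Γ(T, ⊤)) :
    coact M W act (W.hom.appTop r) = MonoidAlgebra.single 1 (W.hom.appTop r) := by
  have hw : (univPt M W ≫ act).left ≫ W.hom = (specOver W (algB M W)).hom := Over.w _
  have hw2 : (specOverT W (algB M W)).left ≫ W.hom = (specOver W (algB M W)).hom := Over.w _
  have h := congrArg (fun f => f.appTop r) (hw.trans hw2.symm)
  simp only [Scheme.Hom.comp_appTop, CommRingCat.comp_apply] at h
  rw [coact_apply, h, specOverT_appTop]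
  change algebraMap _ _ _ = _
  rw [MonoidAlgebra.coe_algebraMap]
  rfl

/-- triviality modulo the ideal. -/
theorem coact_coeff_mem {R₀ : Type u} [CommRing R₀] (ρ₀ : R₀ →+* Γ(T, ⊤)) (I₀ : Ideal R₀)
    (htriv : ∀ (C : CommRingCat.{u}) (β : Γ(W.left, ⊤) ⟶ C),
      (∀ r ∈ I₀, β (W.hom.appTop (ρ₀ r)) = 0) → ∀ δ : specOver W β ⟶ Red.DS T M,
        lift δ (specOverT W β) ≫ act = specOverT W β)
    (z : Γ(W.left, ⊤)) (g : Multiplicative M) (hg : g ≠ 1) :
    (coact M W act z).coeff g ∈ I₀.map (W.hom.appTop.hom.comp ρ₀) := by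
  classical
  let A := Γ(W.left, ⊤)
  let G := Multiplicative M
  let K : Ideal A := I₀.map (W.hom.appTop.hom.comp ρ₀)
  let q : A →+* A ⧸ K := Ideal.Quotient.mk K
  let C : CommRingCat.{u} := CommRingCat.of (MonoidAlgebra (A ⧸ K) G)
  let β : Γ(W.left, ⊤) ⟶ C :=
    CommRingCat.ofHom ((algebraMap (A ⧸ K) (MonoidAlgebra (A ⧸ K) G)).comp q)
  have hβ : ∀ r ∈ I₀, β (W.hom.appTop (ρ₀ r)) = 0 := by
    intro r hr
    change algebraMap (A ⧸ K) (MonoidAlgebra (A ⧸ K) G) (q (W.hom.appTop (ρ₀ r))) = 0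
    have : q (W.hom.appTop (ρ₀ r)) = 0 :=
      Ideal.Quotient.eq_zero_iff_mem.2 (Ideal.mem_map_of_mem (W.hom.appTop.hom.comp ρ₀) hr)
    rw [this, map_zero]
  have key := htriv C β hβ (dsPt (S := T) (X := specOver W β) (chr (MonoidAlgebra.of (A ⧸ K) G)))
  have key2 := congrArg (fun f => (Scheme.ΓSpecIso C).hom (f.left.appTop z)) key
  beta_reduce at key2
  rw [spec_lift_act_appTop, specOverT_comp, specOverT_appTop] at key2
  change MonoidAlgebra.liftNCRingHom ((algebraMap (A ⧸ K) (MonoidAlgebra (A ⧸ K) G)).comp q)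
    (MonoidAlgebra.of (A ⧸ K) G) _ _ = algebraMap (A ⧸ K) (MonoidAlgebra (A ⧸ K) G) (q z) at key2
  rw [liftNC_mapRingHom] at key2
  have key3 := congrArg (fun y : MonoidAlgebra (A ⧸ K) G => y.coeff g) key2
  beta_reduce at key3
  rw [MonoidAlgebra.coeff_mapRingHom, MonoidAlgebra.coe_algebraMap] at key3
  have h0 : (MonoidAlgebra.single (1 : G) (q z) : MonoidAlgebra (A ⧸ K) G).coeff g = 0 := by
    rw [MonoidAlgebra.coeff_single, Finsupp.single_apply, if_neg (Ne.symm hg)]
  have h1 : q ((coact M W act z).coeff g) = 0 := key3.trans h0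
  exact Ideal.Quotient.eq_zero_iff_mem.1 h1

/-- **an action of a diagonalisable group on an affine scheme which is trivial modulo a nilpotent
ideal of the base is trivial.** -/
theorem act_eq_snd {R₀ : Type u} [CommRing R₀] (ρ₀ : R₀ →+* Γ(T, ⊤)) (I₀ : Ideal R₀)
    (hI : IsNilpotent I₀)
    (hunit : lift (1 : W ⟶ Red.DS T M) (𝟙 W) ≫ act = 𝟙 W)
    (hassoc : ∀ (Y : Over T) (a b : Y ⟶ Red.DS T M) (t : Y ⟶ W),
      lift (a * b) t ≫ act = lift a (lift b t ≫ act) ≫ act)
    (htriv : ∀ (C : CommRingCat.{u}) (β : Γ(W.left, ⊤) ⟶ C),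
      (∀ r ∈ I₀, β (W.hom.appTop (ρ₀ r)) = 0) → ∀ δ : specOver W β ⟶ Red.DS T M,
        lift δ (specOverT W β) ≫ act = specOverT W β) :
    act = snd _ _ := by
  have hα : ∀ z, coact M W act z = MonoidAlgebra.single 1 z :=
    coaction_trivial (coact M W act) (W.hom.appTop.hom.comp ρ₀) I₀ (aug_coact act hunit)
      (coact_coassoc act hassoc) (fun r => coact_hom act (ρ₀ r))
      (fun z g hg => coact_coeff_mem act ρ₀ I₀ htriv z g hg) hI
  apply eq_of_univPt_comp_eq
  rw [univPt_snd]
  apply Over.OverMorphism.ext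
  apply ext_of_isAffine
  ext z
  have h1 : (Scheme.ΓSpecIso (BG M W)).hom ((univPt M W ≫ act).left.appTop z) =
      (Scheme.ΓSpecIso (BG M W)).hom ((specOverT W (algB M W)).left.appTop z) := by
    rw [← coact_apply, hα, specOverT_appTop]
    change _ = algebraMap _ _ z
    rw [MonoidAlgebra.coe_algebraMap]
    rfl
  exact (ConcreteCategory.bijective_of_isIso (Scheme.ΓSpecIso (BG M W)).hom).1 h1

end Main

end Groth.Agent.Lib.Helper10.TrivAct
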