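import Mathlib
import Groth.Prelude.Def_SGA3x
import Groth.Prelude.Def_AlgGrp
import Groth.Prelude.Def_TwC
import Groth.Agent.Lib.Helper10.TrivActDiag
import Groth.Agent.Lib.Helper10.HomFamBC
import Groth.Agent.Lib.Helper10.FpqcLocus
import Groth.Agent.Lib.Helper10.MultTypeLocus

/-!
# An action of a group of multiplicative type which is trivial modulo a locally nilpotent ideal
is trivial (SGA 3 IX)
-/

set_option autoImplicit false
set_option backward.isDefEq.respectTransparency.types false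
set_option maxHeartbeats 4000000
set_option synthInstance.maxHeartbeats 400000
universe u
open CategoryTheory CategoryTheory.Limits AlgebraicGeometry MonoidalCategory
  CartesianMonoidalCategory MonObj GrpObj

namespace Groth.Agent.Lib.Helper10.TrivAct

open Groth.Agent.Lib.Helper21.GaPts Groth.Agent.Lib.Helper10.DiagHom
  Groth.Agent.Lib.Helper10.HomFamBC Groth.Agent.Lib.Helper10.FpqcLocus
  Groth.Agent.Lib.Helper10.MultTypeHom Groth.Agent.Lib.Helper10.MultTypeLocus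

section Pointwise

variable {S : Scheme.{u}} {G X : Over S} [GrpObj G] (a : AlgGrp.Action G X)

theorem action_one_pt {Y : Over S} (x : Y ⟶ X) : lift (1 : Y ⟶ G) x ≫ a.act = x := by
  have : lift (1 : Y ⟶ G) x = lift (toUnit Y) x ≫ (η[G] ▷ X) := by
    rw [lift_whiskerRight]
    rfl
  rw [this, Category.assoc, a.one_act]
  simp

theorem action_mul_pt {Y : Over S} (g h : Y ⟶ G) (x : Y ⟶ X) :
    lift (g * h) x ≫ a.act = lift g (lift h x ≫ a.act) ≫ a.act := by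
  have : lift (g * h) x = lift (lift g h) x ≫ (μ[G] ▷ X) := by
    rw [lift_whiskerRight]
    rfl
  rw [this, Category.assoc, a.mul_act]
  simp

end Pointwise

theorem tr_one {S U : Scheme.{u}} (g : U ⟶ S) {X : Over U} {G : Over S} [GrpObj G] :
    tr g (1 : X ⟶ Red.bc g G) = 1 := by
  have h := tr_mul g (1 : X ⟶ Red.bc g G) 1
  rw [_root_.mul_one] at h
  exact mul_left_cancel (h.symm.trans (_root_.mul_one _).symm)

theorem appLE_top_top {X Y : Scheme.{u}} (f : X ⟶ Y) (h : (⊤ : X.Opens) ≤ f ⁻¹ᵁ ⊤) :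
    f.appLE ⊤ ⊤ h = f.appTop := by
  rw [Scheme.Hom.appLE]
  have : (homOfLE h).op = 𝟙 _ := rfl
  rw [this]
  simp

theorem appLE_top_comp {X Y Z : Scheme.{u}} (f : X ⟶ Y) (g : Y ⟶ Z) (V : Z.Opens)
    (hV : ⊤ ≤ g ⁻¹ᵁ V) (hV' : ⊤ ≤ (f ≫ g) ⁻¹ᵁ V) :
    (f ≫ g).appLE V ⊤ hV' = g.appLE V ⊤ hV ≫ f.appTop := by
  have h1 : (⊤ : X.Opens) ≤ f ⁻¹ᵁ ⊤ := by simp
  rw [← appLE_top_top f h1, Scheme.Hom.appLE_comp_appLE]

/-- a closed immersion with locally nilpotent ideal is surjective. -/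
theorem surjective_of_locallyNilpotent {S S₀ : Scheme.{u}} (i₀ : S₀ ⟶ S) [IsClosedImmersion i₀]
    (hnil : ∀ x : S, ∃ U : S.affineOpens, x ∈ (U : S.Opens) ∧ IsNilpotent (i₀.ker.ideal U)) :
    Surjective i₀ := by
  refine ⟨fun x => ?_⟩
  obtain ⟨U, hxU, hU⟩ := hnil x
  have h1 : (i₀.ker.support : Set S) = Set.range i₀ := by
    rw [Scheme.Hom.support_ker]
    exact i₀.isClosedEmbedding.isClosed_range.closure_eq
  have h2 : x ∈ (i₀.ker.support : Set S) := by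
    change x ∈ i₀.ker.support
    rw [Scheme.IdealSheafData.mem_support_iff_of_mem hxU, Scheme.mem_zeroLocus_iff]
    intro f hf
    obtain ⟨N, hN⟩ := hU
    have hfN : f ^ N = 0 := by
      have : f ^ N ∈ i₀.ker.ideal U ^ N := Ideal.pow_mem_pow hf N
      rw [hN] at this
      exact this
    have hnilf : IsNilpotent f := ⟨N, hfN⟩
    have hb : S.basicOpen f = ⊥ := S.basicOpen_eq_bot_of_isNilpotent _ f hnilf
    rw [hb]
    exact fun h => h
  rw [h1] at h2
  exact h2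

/-- factoring a morphism through a closed immersion, affine locally. -/
theorem exists_factor_of_ker {S S₀ : Scheme.{u}} (i₀ : S₀ ⟶ S) [IsClosedImmersion i₀]
    (V : S.affineOpens) {Z : Scheme.{u}} [IsAffine Z] (h : Z ⟶ S) (hV : ⊤ ≤ h ⁻¹ᵁ V.1)
    {C : CommRingCat.{u}} (β : Γ(Z, ⊤) ⟶ C)
    (hβ : ∀ r ∈ i₀.ker.ideal V, β (h.appLE V.1 ⊤ hV r) = 0) :
    ∃ p : Spec C ⟶ S₀, p ≫ i₀ = Spec.map β ≫ Z.isoSpec.inv ≫ h := by
  have hV₀ : IsAffineOpen (i₀ ⁻¹ᵁ V.1) := V.2.preimage i₀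
  have hsurj : Function.Surjective (i₀.app V.1).hom := i₀.app_surjective V.1 V.2
  have hker : RingHom.ker (i₀.app V.1).hom ≤ RingHom.ker ((h.appLE V.1 ⊤ hV ≫ β).hom) := by
    intro r hr
    rw [← Scheme.Hom.ker_apply] at hr
    exact hβ r hr
  let ψ : Γ(S₀, i₀ ⁻¹ᵁ V.1) →+* C :=
    RingHom.liftOfSurjective (i₀.app V.1).hom hsurj ⟨(h.appLE V.1 ⊤ hV ≫ β).hom, hker⟩
  have hψ : i₀.app V.1 ≫ CommRingCat.ofHom ψ = h.appLE V.1 ⊤ hV ≫ β := by
    refine CommRingCat.hom_ext ?_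
    exact RingHom.liftOfSurjective_comp (i₀.app V.1).hom hsurj
      ⟨(h.appLE V.1 ⊤ hV ≫ β).hom, hker⟩
  refine ⟨Spec.map (CommRingCat.ofHom ψ) ≫ hV₀.fromSpec, ?_⟩
  have e1 := V.2.SpecMap_appLE_fromSpec i₀ hV₀ le_rfl
  rw [Scheme.Hom.appLE_eq_app] at e1
  have e2 := V.2.SpecMap_appLE_fromSpec h (isAffineOpen_top Z) hV
  rw [IsAffineOpen.fromSpec_top] at e2
  rw [Category.assoc, ← e1, ← Spec.map_comp_assoc, hψ, Spec.map_comp_assoc, e2]

section BC

variable {S T : Scheme.{u}} (g : T ⟶ S) {G X : Over S} [GrpObj G] (a : AlgGrp.Action G X)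

/-- the base change of the action, defined through points. -/
noncomputable def actT : Red.bc g G ⊗ Red.bc g X ⟶ Red.bc g X :=
  trInv g (kap g G (Red.bc g X) ≫ (G ◁ tr g (𝟙 (Red.bc g X))) ≫ a.act)

theorem tr_lift_actT {Y : Over T} (c : Y ⟶ Red.bc g G) (x : Y ⟶ Red.bc g X) :
    tr g (lift c x ≫ actT g a) = lift (tr g c) (tr g x) ≫ a.act := by
  rw [tr_comp, actT, tr_trInv, ← Category.assoc, map_lift_kap, ← Category.assoc,
    lift_whiskerLeft, ← tr_comp, Category.comp_id]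

variable {M : Type} [AddCommGroup M] (e : Red.bc g G ≅ Red.DS T M) [IsMonHom e.inv]

/-- the action of `D_T(M)` obtained from a trivialisation. -/
noncomputable def actD : Red.DS T M ⊗ Red.bc g X ⟶ Red.bc g X :=
  (e.inv ▷ Red.bc g X) ≫ actT g a

theorem tr_lift_actD {Y : Over T} (δ : Y ⟶ Red.DS T M) (x : Y ⟶ Red.bc g X) :
    tr g (lift δ x ≫ actD g a e) = lift (tr g (δ ≫ e.inv)) (tr g x) ≫ a.act := by
  rw [actD, ← Category.assoc, lift_whiskerRight, tr_lift_actT]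

theorem actD_one {Y : Over T} (x : Y ⟶ Red.bc g X) :
    lift (1 : Y ⟶ Red.DS T M) x ≫ actD g a e = x := by
  apply tr_injective g
  rw [tr_lift_actD, MonObj.one_comp, tr_one, action_one_pt]

theorem actD_mul {Y : Over T} (δ₁ δ₂ : Y ⟶ Red.DS T M) (x : Y ⟶ Red.bc g X) :
    lift (δ₁ * δ₂) x ≫ actD g a e = lift δ₁ (lift δ₂ x ≫ actD g a e) ≫ actD g a e := by
  apply tr_injective g
  rw [tr_lift_actD, tr_lift_actD, tr_lift_actD, MonObj.mul_comp, tr_mul, action_mul_pt]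

variable {S₀ : Scheme.{u}} (i₀ : S₀ ⟶ S)
  (h0 : ∀ (Y : Over S) (_ : Y ⟶ Over.mk i₀) (c : Y ⟶ G) (x : Y ⟶ X), lift c x ≫ a.act = x)

include h0 in
theorem actD_triv {Y : Over T} (p : Y.left ⟶ S₀) (hp : p ≫ i₀ = Y.hom ≫ g)
    (δ : Y ⟶ Red.DS T M) (x : Y ⟶ Red.bc g X) : lift δ x ≫ actD g a e = x := by
  apply tr_injective g
  rw [tr_lift_actD]
  exact h0 _ (Over.homMk p hp) _ _

include h0 in
/-- the action is trivial on the underlying spaces. -/
theorem actD_pt [Surjective i₀] {Y : Over T} (δ : Y ⟶ Red.DS T M) (x : Y ⟶ Red.bc g X)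
    (y : Y.left) : (lift δ x ≫ actD g a e).left y = x.left y := by
  let pr : pullback (Y.hom ≫ g) i₀ ⟶ Y.left := pullback.fst _ _
  haveI : Surjective pr := inferInstance
  obtain ⟨y₀, rfl⟩ := pr.surjective y
  let Y₀ : Over T := Over.mk (pr ≫ Y.hom)
  let j : Y₀ ⟶ Y := Over.homMk pr rfl
  have h := actD_triv g a e i₀ h0 (Y := Y₀) (pullback.snd _ _) (by
    change pullback.snd (Y.hom ≫ g) i₀ ≫ i₀ = (pr ≫ Y.hom) ≫ g
    rw [← pullback.condition, Category.assoc]) (j ≫ δ) (j ≫ x)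
  rw [← comp_lift, Category.assoc] at h
  have h' := congrArg (fun f => f.left y₀) h
  exact h'

end BC

end Groth.Agent.Lib.Helper10.TrivAct
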