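import Mathlib
import Groth.Agent.Lib.Helper10.TrivActLocal

/-!
# An action of a group of multiplicative type which is trivial modulo a locally nilpotent ideal
is trivial: restriction to affine opens, and the fpqc descent
-/

set_option autoImplicit false
set_option backward.isDefEq.respectTransparency.types false
set_option maxHeartbeats 4000000
set_option synthInstance.maxHeartbeats 400000
universe u
open CategoryTheory CategoryTheory.Limits AlgebraicGeometry MonoidalCategory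
  CartesianMonoidalCategory MonObj GrpObj

namespace Groth.Agent.Lib.Helper10.TrivAct

open Groth.Agent.Lib.Helper21.GaPts Groth.Agent.Lib.Helper10.DiagHom
  Groth.Agent.Lib.Helper10.HomFamBC Groth.Agent.Lib.Helper10.FpqcLocus
  Groth.Agent.Lib.Helper10.MultTypeHom Groth.Agent.Lib.Helper10.MultTypeLocus

section Restrict

variable {S T : Scheme.{u}} (g : T ⟶ S) {G : Over S} (X : Over S) [GrpObj G]
  (a : AlgGrp.Action G X) {M : Type} [AddCommGroup M] (e : Red.bc g G ≅ Red.DS T M)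
  [IsMonHom e.inv] (O : (Red.bc g X).left.Opens)

/-- an open of the base change, as an object over `T`. -/
noncomputable def WO : Over T := Over.mk (O.ι ≫ (Red.bc g X).hom)

noncomputable def ιO : WO g X O ⟶ Red.bc g X := Over.homMk O.ι rfl

instance : Mono (ιO g X O) := by
  haveI : Mono (ιO g X O).left := by
    change Mono O.ι
    infer_instance
  exact Over.mono_of_mono_left _

variable {X}

theorem range_actD_subset
    (hpt : ∀ {Y : Over T} (δ : Y ⟶ Red.DS T M) (x : Y ⟶ Red.bc g X) (y : Y.left),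
      (lift δ x ≫ actD g a e).left y = x.left y) :
    Set.range ((Red.DS T M ◁ ιO g X O) ≫ actD g a e).left ⊆ Set.range O.ι := by
  rintro _ ⟨y, rfl⟩
  have h1 : (Red.DS T M ◁ ιO g X O) = lift (fst _ _) (snd _ _ ≫ ιO g X O) := by
    apply CartesianMonoidalCategory.hom_ext <;> simp
  rw [h1, hpt]
  exact ⟨(snd (Red.DS T M) (WO g X O)).left y, rfl⟩

variable (hpt : ∀ {Y : Over T} (δ : Y ⟶ Red.DS T M) (x : Y ⟶ Red.bc g X) (y : Y.left),
      (lift δ x ≫ actD g a e).left y = x.left y)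

noncomputable def actWLeft : (Red.DS T M ⊗ WO g X O).left ⟶ O.toScheme :=
  IsOpenImmersion.lift O.ι ((Red.DS T M ◁ ιO g X O) ≫ actD g a e).left
    (range_actD_subset g a e O hpt)

theorem actWLeft_ι : actWLeft g a e O hpt ≫ O.ι =
    ((Red.DS T M ◁ ιO g X O) ≫ actD g a e).left :=
  IsOpenImmersion.lift_fac _ _ _

/-- the restriction of the action to an open. -/
noncomputable def actW : Red.DS T M ⊗ WO g X O ⟶ WO g X O :=
  Over.homMk (actWLeft g a e O hpt) (by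
    change actWLeft g a e O hpt ≫ O.ι ≫ (Red.bc g X).hom = _
    rw [← Category.assoc, actWLeft_ι]
    exact Over.w _)

theorem actW_ι : actW g a e O hpt ≫ ιO g X O = (Red.DS T M ◁ ιO g X O) ≫ actD g a e :=
  Over.OverMorphism.ext (actWLeft_ι g a e O hpt)

theorem lift_actW {Y : Over T} (δ : Y ⟶ Red.DS T M) (w : Y ⟶ WO g X O) :
    (lift δ w ≫ actW g a e O hpt) ≫ ιO g X O = lift δ (w ≫ ιO g X O) ≫ actD g a e := by
  rw [Category.assoc, actW_ι, ← Category.assoc, lift_whiskerLeft]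

end Restrict

section Local

variable {S S₀ T : Scheme.{u}} (i₀ : S₀ ⟶ S) [IsClosedImmersion i₀] [Surjective i₀]
  {G X : Over S} [GrpObj G] (a : AlgGrp.Action G X)
  (h0 : ∀ (Y : Over S) (_ : Y ⟶ Over.mk i₀) (c : Y ⟶ G) (x : Y ⟶ X), lift c x ≫ a.act = x)
  (g : T ⟶ S) (V : S.affineOpens) (hV : IsNilpotent (i₀.ker.ideal V)) (hgV : ⊤ ≤ g ⁻¹ᵁ V.1)
  {M : Type} [AddCommGroup M] (e : Red.bc g G ≅ Red.DS T M) [IsMonHom e.inv]

include h0 hV hgV in
/-- on an affine open of the base change, the action is trivial. -/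
theorem actW_eq_snd (O : (Red.bc g X).left.Opens) (hO : IsAffineOpen O) :
    actW g a e O (actD_pt g a e i₀ h0) = snd _ _ := by
  haveI : IsAffine (WO g X O).left := hO
  have hpt := @actD_pt _ _ g _ _ _ a _ _ e _ _ i₀ h0 _
  refine act_eq_snd (actW g a e O hpt) (g.appLE V.1 ⊤ hgV).hom (i₀.ker.ideal V) hV ?_ ?_ ?_
  · rw [← cancel_mono (ιO g X O), lift_actW, actD_one]
  · intro Y c d t
    rw [← cancel_mono (ιO g X O), lift_actW, actD_mul, Category.assoc, actW_ι, ← Category.assoc,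
      lift_whiskerLeft, lift_actW]
  · intro C β hβ δ
    have hV' : ⊤ ≤ ((WO g X O).hom ≫ g) ⁻¹ᵁ V.1 := by
      intro w _
      exact hgV (show (WO g X O).hom w ∈ (⊤ : T.Opens) from trivial)
    obtain ⟨p, hp⟩ := exists_factor_of_ker i₀ V ((WO g X O).hom ≫ g) hV' β (by
      intro r hr
      rw [appLE_top_comp _ _ _ hgV]
      exact hβ r hr)
    rw [← cancel_mono (ιO g X O), lift_actW]
    refine actD_triv g a e i₀ h0 (Y := specOver (WO g X O) β) p ?_ δ _
    refine hp.trans ?_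
    simp only [specOver, Over.mk_hom, Category.assoc]

include h0 hV hgV e in
/-- **the local statement**: over a base where the group is diagonalisable and the ideal is
nilpotent, the action is trivial. -/
theorem trivial_of_diag (Y' : Over T) (c : (Over.map g).obj Y' ⟶ G)
    (x : (Over.map g).obj Y' ⟶ X) : lift c x ≫ a.act = x := by
  have hpt := @actD_pt _ _ g _ _ _ a _ _ e _ _ i₀ h0 _
  let x' : Y' ⟶ Red.bc g X := trInv g x
  let δ : Y' ⟶ Red.DS T M := trInv g c ≫ e.hom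
  suffices hD : lift δ x' ≫ actD g a e = x' by
    have h1 := congrArg (tr g) hD
    rw [tr_lift_actD] at h1
    have h2 : δ ≫ e.inv = trInv g c := by
      simp only [δ, Category.assoc, e.hom_inv_id, Category.comp_id]
    rw [h2, tr_trInv, tr_trInv] at h1
    exact h1
  apply Over.OverMorphism.ext
  refine Scheme.hom_ext_of_forall _ _ (fun y => ?_)
  obtain ⟨(O : (Red.bc g X).left.Opens), hO, hyO, -⟩ :=
    TopologicalSpace.Opens.isBasis_iff_nbhd.mp (Red.bc g X).left.isBasis_affineOpens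
      (TopologicalSpace.Opens.mem_top (x'.left y))
  let U : Y'.left.Opens := x'.left ⁻¹ᵁ O
  refine ⟨U, hyO, ?_⟩
  let Y'' : Over T := Over.mk (U.ι ≫ Y'.hom)
  let j : Y'' ⟶ Y' := Over.homMk U.ι rfl
  have hr : Set.range (U.ι ≫ x'.left) ⊆ Set.range O.ι := by
    rintro _ ⟨z, rfl⟩
    rw [Scheme.Opens.range_ι]
    exact z.2
  let wl : U.toScheme ⟶ O.toScheme := IsOpenImmersion.lift O.ι (U.ι ≫ x'.left) hr
  have hwl : wl ≫ O.ι = U.ι ≫ x'.left := IsOpenImmersion.lift_fac _ _ _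
  let w : Y'' ⟶ WO g X O := Over.homMk wl (by
    change wl ≫ O.ι ≫ (Red.bc g X).hom = U.ι ≫ Y'.hom
    rw [← Category.assoc, hwl, Category.assoc, Over.w x'])
  have hw : w ≫ ιO g X O = j ≫ x' := Over.OverMorphism.ext hwl
  have hact := actW_eq_snd i₀ a h0 g V hV hgV e O hO
  have key : j ≫ (lift δ x' ≫ actD g a e) = j ≫ x' := by
    rw [← Category.assoc, comp_lift, ← hw, ← lift_actW g a e O hpt, hact, lift_snd]
  exact congrArg (fun f => f.left) key

end Local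

section Glue

variable {S : Scheme.{u}} {G X : Over S} [GrpObj G] (a : AlgGrp.Action G X)

/-- the action is trivial on points lying over `g`. -/
def TrivOn {T : Scheme.{u}} (g : T ⟶ S) : Prop :=
  ∀ (Y : Over S) (q : Y.left ⟶ T), q ≫ g = Y.hom → ∀ (c : Y ⟶ G) (x : Y ⟶ X),
    lift c x ≫ a.act = x

theorem isLocalBC_trivOn : IsLocalBC (fun ⦃T : Scheme.{u}⦄ (g : T ⟶ S) => TrivOn a g) where
  comp := by
    intro T T' b g hg Y q hq c x
    exact hg Y (q ≫ b) (by rw [Category.assoc, hq]) c x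
  descent := by
    intro T T' r g hfl hsurj hqc hg Y q hq c x
    haveI := hfl
    haveI := hsurj
    haveI := hqc
    let pr : pullback q r ⟶ Y.left := pullback.fst q r
    haveI : Epi pr := Flat.epi_of_flat_of_surjective pr
    let Y₁ : Over S := Over.mk (pr ≫ Y.hom)
    let j : Y₁ ⟶ Y := Over.homMk pr rfl
    have h := hg Y₁ (pullback.snd q r) (by
      change pullback.snd q r ≫ r ≫ g = pr ≫ Y.hom
      rw [← Category.assoc, ← pullback.condition, Category.assoc, hq]) (j ≫ c) (j ≫ x)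
    rw [← comp_lift, Category.assoc] at h
    apply Over.OverMorphism.ext
    rw [← cancel_epi pr]
    exact congrArg (fun f => f.left) h
  loc := by
    intro T g h Y q hq c x
    apply Over.OverMorphism.ext
    refine Scheme.hom_ext_of_forall _ _ (fun y => ?_)
    obtain ⟨Z, i, hi, ⟨z, hz⟩, hPr⟩ := h (q y)
    haveI := hi
    let U : Y.left.Opens := q ⁻¹ᵁ i.opensRange
    refine ⟨U, ⟨z, hz⟩, ?_⟩
    let Y₁ : Over S := Over.mk (U.ι ≫ Y.hom)
    let j : Y₁ ⟶ Y := Over.homMk U.ι rfl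
    have hr : Set.range (U.ι ≫ q) ⊆ Set.range i := by
      rintro _ ⟨w, rfl⟩
      exact w.2
    have hq' : IsOpenImmersion.lift i (U.ι ≫ q) hr ≫ i ≫ g = Y₁.hom := by
      change _ = U.ι ≫ Y.hom
      rw [← Category.assoc, IsOpenImmersion.lift_fac, Category.assoc, hq]
    have h1 := hPr Y₁ (IsOpenImmersion.lift i (U.ι ≫ q) hr) hq' (j ≫ c) (j ≫ x)
    rw [← comp_lift, Category.assoc] at h1
    exact congrArg (fun f => f.left) h1

end Glue

/-- a local property of base changes which holds fpqc locally holds. -/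
theorem of_fpqc_cover {S : Scheme.{u}} {Pr : ∀ ⦃T : Scheme.{u}⦄, (T ⟶ S) → Prop}
    (hPr : IsLocalBC Pr) {S' : Scheme.{u}} (c : S' ⟶ S) [Flat c]
    (hfpqc : ∀ V : S.Opens, IsAffineOpen V → ∃ W : S'.Opens, IsCompact (W : Set S') ∧
      c.base '' (W : Set S') = (V : Set S))
    (hloc : ∀ t : S', ∃ W : S'.Opens, t ∈ W ∧ Pr (W.ι ≫ c)) : Pr (𝟙 S) := by
  refine hPr.loc (𝟙 S) (fun z => ?_)
  obtain ⟨(V₀ : S.Opens), hV₀, hzV₀, -⟩ :=
    TopologicalSpace.Opens.isBasis_iff_nbhd.mp S.isBasis_affineOpens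
      (TopologicalSpace.Opens.mem_top z)
  refine ⟨V₀.toScheme, V₀.ι, inferInstance, ⟨⟨z, hzV₀⟩, rfl⟩, ?_⟩
  rw [Category.comp_id]
  obtain ⟨Sg, σ, c₀, hc₀, hfl, hsurj, hqc⟩ := exists_fpqc_refinement c hfpqc V₀ hV₀
  refine hPr.descent c₀ V₀.ι hfl hsurj hqc ?_
  rw [hc₀]
  refine hPr.loc (σ ≫ c) (fun z' => ?_)
  obtain ⟨W, htW, hW⟩ := hloc (σ z')
  refine ⟨(σ ⁻¹ᵁ W).toScheme, (σ ⁻¹ᵁ W).ι, inferInstance, ⟨⟨z', htW⟩, rfl⟩, ?_⟩
  have hr : Set.range ((σ ⁻¹ᵁ W).ι ≫ σ) ⊆ Set.range W.ι := by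
    rintro _ ⟨y, rfl⟩
    rw [Scheme.Opens.range_ι]
    exact y.2
  have hb : IsOpenImmersion.lift W.ι ((σ ⁻¹ᵁ W).ι ≫ σ) hr ≫ W.ι = (σ ⁻¹ᵁ W).ι ≫ σ :=
    IsOpenImmersion.lift_fac _ _ _
  rw [← Category.assoc, ← hb, Category.assoc]
  exact hPr.comp _ _ hW

/-- **an action of a group of multiplicative type which is trivial modulo a locally nilpotent
ideal is trivial.** -/
theorem action_trivial {S S₀ : Scheme.{u}} (i₀ : S₀ ⟶ S) [IsClosedImmersion i₀]
    (hnil : ∀ x : S, ∃ U : S.affineOpens, x ∈ (U : S.Opens) ∧ IsNilpotent (i₀.ker.ideal U))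
    (G X : Over S) [GrpObj G]
    (hG : TwC.Locally S TwC.Topology.fpqc (fun S' f => ∃ (M : Type) (_ : AddCommGroup M),
      Nonempty (Grp.mk (Red.bc f G) ≅ Grp.mk (Red.DS S' M))))
    (a : AlgGrp.Action G X)
    (h0 : ∀ (Y : Over S) (_ : Y ⟶ Over.mk i₀) (c : Y ⟶ G) (x : Y ⟶ X), lift c x ≫ a.act = x)
    (Y : Over S) (c : Y ⟶ G) (x : Y ⟶ X) : lift c x ≫ a.act = x := by
  haveI : Surjective i₀ := surjective_of_locallyNilpotent i₀ hnil
  obtain ⟨S', cov, hfl, hsurj, hfpqc, hloc⟩ := hG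
  haveI := hfl
  suffices h : TrivOn a (𝟙 S) from h Y Y.hom (Category.comp_id _) c x
  refine of_fpqc_cover (isLocalBC_trivOn a) cov hfpqc (fun t => ?_)
  obtain ⟨U, htU, M, _, ⟨φ⟩⟩ := hloc t
  refine ⟨U, htU, ?_⟩
  refine (isLocalBC_trivOn a).loc (U.ι ≫ cov) (fun z => ?_)
  obtain ⟨V, hzV, hV⟩ := hnil ((U.ι ≫ cov) z)
  let Z : U.toScheme.Opens := (U.ι ≫ cov) ⁻¹ᵁ V.1
  refine ⟨Z.toScheme, Z.ι, inferInstance, ⟨⟨z, hzV⟩, rfl⟩, ?_⟩
  let φ' := trivIso G (U.ι ≫ cov) Z.ι (Z.ι ≫ U.ι ≫ cov) rfl M φ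
  obtain ⟨e, -, he2⟩ := exists_iso_isMonHom' φ'
  haveI := he2
  have hgV : ⊤ ≤ (Z.ι ≫ U.ι ≫ cov) ⁻¹ᵁ V.1 := by
    intro w _
    exact w.2
  intro Y₁
  obtain ⟨Yl, ⟨⟨⟩⟩, Yh⟩ := Y₁
  intro (q : Yl ⟶ Z.toScheme) (hq : q ≫ (Z.ι ≫ U.ι ≫ cov) = Yh) c₁ x₁
  subst hq
  exact trivial_of_diag i₀ a h0 (Z.ι ≫ U.ι ≫ cov) V hV hgV e (Over.mk q) c₁ x₁

end Groth.Agent.Lib.Helper10.TrivAct
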