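import Mathlib
import Groth.Agent.Lib.Helper10.TrivActGlobal

/-!
# Additive functions on a diagonalisable group vanish; homomorphisms from groups of multiplicative
type to `𝔾_a` are trivial
-/

set_option autoImplicit false
set_option backward.isDefEq.respectTransparency.types false
set_option maxHeartbeats 4000000
set_option synthInstance.maxHeartbeats 400000
universe u
open CategoryTheory CategoryTheory.Limits AlgebraicGeometry MonoidalCategory
  CartesianMonoidalCategory MonObj GrpObj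

namespace Groth.Agent.Lib.Helper10.DiagAdditive

open Groth.Agent.Lib.Helper21.GaPts Groth.Agent.Lib.Helper10.GroupLikeIdem
  Groth.Agent.Lib.Helper10.DiagHom Groth.Agent.Lib.Helper10.HomFamBC
  Groth.Agent.Lib.Helper10.FpqcLocus Groth.Agent.Lib.Helper10.MultTypeHom
  Groth.Agent.Lib.Helper10.MultTypeLocus Groth.Agent.Lib.Helper10.TrivAct

section Alg

variable {B : Type*} [CommRing B] {G : Type*} [CommGroup G]

theorem coeff_inl [DecidableEq G] (a : MonoidAlgebra B G) (g h : G) :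
    (MonoidAlgebra.mapDomainRingHom B (MonoidHom.inl G G) a).coeff (g, h) =
      if h = 1 then a.coeff g else 0 := by
  have := coeff_inl_mul_inr a (1 : MonoidAlgebra B G) g h
  rw [map_one, _root_.mul_one] at this
  rw [this, MonoidAlgebra.one_def, MonoidAlgebra.coeff_single, Finsupp.single_apply]
  by_cases hh : 1 = h
  · rw [if_pos hh, if_pos hh.symm, _root_.mul_one]
  · rw [if_neg hh, if_neg (Ne.symm hh), mul_zero]

theorem coeff_inr [DecidableEq G] (a : MonoidAlgebra B G) (g h : G) :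
    (MonoidAlgebra.mapDomainRingHom B (MonoidHom.inr G G) a).coeff (g, h) =
      if g = 1 then a.coeff h else 0 := by
  have := coeff_inl_mul_inr (1 : MonoidAlgebra B G) a g h
  rw [map_one, _root_.one_mul] at this
  rw [this, MonoidAlgebra.one_def, MonoidAlgebra.coeff_single, Finsupp.single_apply]
  by_cases hh : 1 = g
  · rw [if_pos hh, if_pos hh.symm, _root_.one_mul]
  · rw [if_neg hh, if_neg (Ne.symm hh), zero_mul]

/-- a primitive element of a group algebra is zero. -/
theorem eq_zero_of_primitive (f : MonoidAlgebra B G)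
    (h : MonoidAlgebra.mapDomainRingHom B (diagHom G) f =
      MonoidAlgebra.mapDomainRingHom B (MonoidHom.inl G G) f +
        MonoidAlgebra.mapDomainRingHom B (MonoidHom.inr G G) f) : f = 0 := by
  classical
  apply MonoidAlgebra.coeff_injective
  ext g
  have := congrArg (fun y : MonoidAlgebra B (G × G) => y.coeff (g, g)) h
  beta_reduce at this
  rw [coeff_diag, if_pos rfl, MonoidAlgebra.coeff_add, Finsupp.add_apply, coeff_inl, coeff_inr]
    at this
  by_cases hg : g = 1
  · rw [if_pos hg] at this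
    have h2 : f.coeff g = 0 := by
      have h3 : f.coeff g + 0 = f.coeff g + f.coeff g := by rw [add_zero]; exact this
      exact (add_left_cancel h3).symm
    rw [h2]
    rfl
  · rw [if_neg hg, add_zero] at this
    rw [this]
    rfl

end Alg

section Diag

variable {T : Scheme.{u}} {M : Type} [AddCommGroup M] (W : Over T) [IsAffine W.left]

/-- **a natural additive function on the points of `D_T(M) ×_T W` vanishes.** -/
theorem additive_fn_eq_zero
    (F : ∀ (Y : Over T), (Y ⟶ Red.DS T M ⊗ W) → Γ(Y.left, ⊤))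
    (hnat : ∀ (Y Y' : Over T) (k : Y' ⟶ Y) (p : Y ⟶ Red.DS T M ⊗ W),
      F Y' (k ≫ p) = k.left.appTop (F Y p))
    (hadd : ∀ (Y : Over T) (a b : Y ⟶ Red.DS T M) (t : Y ⟶ W),
      F Y (lift (a * b) t) = F Y (lift a t) + F Y (lift b t))
    (Y : Over T) (p : Y ⟶ Red.DS T M ⊗ W) : F Y p = 0 := by
  let G := Multiplicative M
  let A := Γ(W.left, ⊤)
  suffices h0 : F _ (univPt M W) = 0 by
    have h1 : p = (p ≫ rho M W) ≫ univPt M W := by
      rw [Category.assoc, rho_univPt, Category.comp_id]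
    rw [h1, hnat, h0, map_zero]
  let C₂ : CommRingCat.{u} := CommRingCat.of (MonoidAlgebra A (G × G))
  let algB₂ : Γ(W.left, ⊤) ⟶ C₂ := CommRingCat.ofHom (algebraMap A (MonoidAlgebra A (G × G)))
  let dl : BG M W ⟶ C₂ := CommRingCat.ofHom (MonoidAlgebra.mapDomainRingHom A (diagHom G))
  let l₁ : BG M W ⟶ C₂ := CommRingCat.ofHom (MonoidAlgebra.mapDomainRingHom A (MonoidHom.inl G G))
  let l₂ : BG M W ⟶ C₂ := CommRingCat.ofHom (MonoidAlgebra.mapDomainRingHom A (MonoidHom.inr G G))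
  have halg : ∀ (f : G →* G × G),
      algB M W ≫ CommRingCat.ofHom (MonoidAlgebra.mapDomainRingHom A f) = algB₂ := by
    intro f
    refine CommRingCat.hom_ext (RingHom.ext (fun b => ?_))
    change MonoidAlgebra.mapDomainRingHom A f (algebraMap _ _ b) = algebraMap _ _ b
    rw [MonoidAlgebra.coe_algebraMap, MonoidAlgebra.coe_algebraMap]
    simp [MonoidAlgebra.mapDomain_single]
  have hχ : ∀ (f : G →* G × G),
      ((CommRingCat.ofHom (MonoidAlgebra.mapDomainRingHom A f) : BG M W ⟶ C₂).hom.toMonoidHom).comp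
        (MonoidAlgebra.of A G) = (MonoidAlgebra.of A (G × G)).comp f := by
    intro f
    refine MonoidHom.ext (fun g => ?_)
    change MonoidAlgebra.mapDomainRingHom A f (MonoidAlgebra.single g 1) =
      MonoidAlgebra.single (f g) 1
    simp [MonoidAlgebra.mapDomain_single]
  let t₂ := specOverT W algB₂
  let a₁ : specOver W algB₂ ⟶ Red.DS T M :=
    dsPt (S := T) (X := specOver W algB₂) (chr ((MonoidAlgebra.of A (G × G)).comp (MonoidHom.inl G G)))
  let a₂ : specOver W algB₂ ⟶ Red.DS T M :=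
    dsPt (S := T) (X := specOver W algB₂) (chr ((MonoidAlgebra.of A (G × G)).comp (MonoidHom.inr G G)))
  let aΔ : specOver W algB₂ ⟶ Red.DS T M :=
    dsPt (S := T) (X := specOver W algB₂) (chr ((MonoidAlgebra.of A (G × G)).comp (diagHom G)))
  have hmul : aΔ = a₁ * a₂ := by
    apply dsFn_injective
    intro m
    rw [dsFn_mul, dsFn_dsPt, dsFn_dsPt, dsFn_dsPt]
    change (Scheme.ΓSpecIso C₂).inv (MonoidAlgebra.single (Multiplicative.ofAdd m, Multiplicative.ofAdd m) 1) =
      (Scheme.ΓSpecIso C₂).inv (MonoidAlgebra.single (Multiplicative.ofAdd m, 1) 1) *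
        (Scheme.ΓSpecIso C₂).inv (MonoidAlgebra.single (1, Multiplicative.ofAdd m) 1)
    rw [← map_mul]
    congr 1
    change _ = (MonoidAlgebra.single _ _ * MonoidAlgebra.single _ _ : MonoidAlgebra A (G × G))
    rw [MonoidAlgebra.single_mul_single]
    simp
  have e₁ : specOverMap W (algB M W) algB₂ l₁ (halg _) ≫ univPt M W = lift a₁ t₂ := by
    have := ptOf_map (M := M) W (algB M W) algB₂ l₁ (halg _) (MonoidAlgebra.of A G)
    rw [hχ] at this
    exact this
  have e₂ : specOverMap W (algB M W) algB₂ l₂ (halg _) ≫ univPt M W = lift a₂ t₂ := by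
    have := ptOf_map (M := M) W (algB M W) algB₂ l₂ (halg _) (MonoidAlgebra.of A G)
    rw [hχ] at this
    exact this
  have eΔ : specOverMap W (algB M W) algB₂ dl (halg _) ≫ univPt M W = lift aΔ t₂ := by
    have := ptOf_map (M := M) W (algB M W) algB₂ dl (halg _) (MonoidAlgebra.of A G)
    rw [hχ] at this
    exact this
  have key := hadd (specOver W algB₂) a₁ a₂ t₂
  rw [← hmul, ← e₁, ← e₂, ← eΔ, hnat, hnat, hnat] at key
  have hnat' : ∀ (gm : BG M W ⟶ C₂) (z : Γ(Spec (BG M W), ⊤)),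
      (Scheme.ΓSpecIso C₂).hom ((Spec.map gm).appTop z) = gm ((Scheme.ΓSpecIso (BG M W)).hom z) := by
    intro gm z
    exact congrArg (fun f => f.hom z) (Scheme.ΓSpecIso_naturality gm)
  have key3 := (congrArg ((Scheme.ΓSpecIso C₂).hom.hom) key).trans
    (map_add (Scheme.ΓSpecIso C₂).hom.hom _ _)
  change (Scheme.ΓSpecIso C₂).hom ((Spec.map dl).appTop _) =
    (Scheme.ΓSpecIso C₂).hom ((Spec.map l₁).appTop _) +
      (Scheme.ΓSpecIso C₂).hom ((Spec.map l₂).appTop _) at key3
  rw [hnat', hnat', hnat'] at key3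
  have hf := eq_zero_of_primitive _ key3
  have hz : (Scheme.ΓSpecIso (BG M W)).hom (0 : Γ(Spec (BG M W), ⊤)) = 0 :=
    map_zero (Scheme.ΓSpecIso (BG M W)).hom.hom
  exact (ConcreteCategory.bijective_of_isIso (Scheme.ΓSpecIso (BG M W)).hom).1 (hf.trans hz.symm)

end Diag

section Glue

variable {S : Scheme.{u}} {A B : Over S} (φ ψ : A ⟶ B)

/-- `φ` and `ψ` agree on points lying over `g`. -/
def EqOn {T : Scheme.{u}} (g : T ⟶ S) : Prop :=
  ∀ (Y : Over S) (q : Y.left ⟶ T), q ≫ g = Y.hom → ∀ (x : Y ⟶ A), x ≫ φ = x ≫ ψ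

theorem isLocalBC_eqOn : IsLocalBC (fun ⦃T : Scheme.{u}⦄ (g : T ⟶ S) => EqOn φ ψ g) where
  comp := by
    intro T T' b g hg Y q hq x
    exact hg Y (q ≫ b) (by rw [Category.assoc, hq]) x
  descent := by
    intro T T' r g hfl hsurj hqc hg Y q hq x
    haveI := hfl
    haveI := hsurj
    haveI := hqc
    let pr : pullback q r ⟶ Y.left := pullback.fst q r
    haveI : Epi pr := Flat.epi_of_flat_of_surjective pr
    let Y₁ : Over S := Over.mk (pr ≫ Y.hom)
    let j : Y₁ ⟶ Y := Over.homMk pr rfl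
    have h := hg Y₁ (pullback.snd q r) (by
      change pullback.snd q r ≫ r ≫ g = pr ≫ Y.hom
      rw [← Category.assoc, ← pullback.condition, Category.assoc, hq]) (j ≫ x)
    rw [Category.assoc, Category.assoc] at h
    apply Over.OverMorphism.ext
    rw [← cancel_epi pr]
    exact congrArg (fun f => f.left) h
  loc := by
    intro T g h Y q hq x
    apply Over.OverMorphism.ext
    refine Scheme.hom_ext_of_forall _ _ (fun y => ?_)
    obtain ⟨Z, i, hi, ⟨z, hz⟩, hPr⟩ := h (q y)
    haveI := hi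
    let U : Y.left.Opens := q ⁻¹ᵁ i.opensRange
    refine ⟨U, ⟨z, hz⟩, ?_⟩
    let Y₁ : Over S := Over.mk (U.ι ≫ Y.hom)
    let j : Y₁ ⟶ Y := Over.homMk U.ι rfl
    have hr : Set.range (U.ι ≫ q) ⊆ Set.range i := by
      rintro _ ⟨w, rfl⟩
      exact w.2
    have hq' : IsOpenImmersion.lift i (U.ι ≫ q) hr ≫ i ≫ g = Y₁.hom := by
      change _ = U.ι ≫ Y.hom
      rw [← Category.assoc, IsOpenImmersion.lift_fac, Category.assoc, hq]
    have h1 := hPr Y₁ (IsOpenImmersion.lift i (U.ι ≫ q) hr) hq' (j ≫ x)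
    rw [Category.assoc, Category.assoc] at h1
    exact congrArg (fun f => f.left) h1

end Glue

/-- **homomorphisms from a group of multiplicative type to `𝔾_a` are trivial.** -/
theorem hom_ga_trivial (S : Scheme.{u}) (H : Over S) [GrpObj H] (hH : SGA3x.IsMultTypeFT H)
    (u : H ⟶ Red.Ga S) [IsMonHom u] : u = 1 := by
  obtain ⟨S', cov, hfl, hsurj, hfpqc, hloc⟩ := hH
  haveI := hfl
  have hL := isLocalBC_eqOn u (1 : H ⟶ Red.Ga S)
  suffices h : EqOn u 1 (𝟙 S) by
    have := h H H.hom (Category.comp_id _) (𝟙 H)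
    rwa [Category.id_comp, Category.id_comp] at this
  refine of_fpqc_cover hL cov hfpqc (fun t => ?_)
  obtain ⟨U, htU, M, _, -, ⟨φ⟩⟩ := hloc t
  refine ⟨U, htU, ?_⟩
  refine hL.loc (U.ι ≫ cov) (fun z => ?_)
  obtain ⟨(Z : U.toScheme.Opens), hZ, hzZ, -⟩ :=
    TopologicalSpace.Opens.isBasis_iff_nbhd.mp U.toScheme.isBasis_affineOpens
      (TopologicalSpace.Opens.mem_top z)
  refine ⟨Z.toScheme, Z.ι, inferInstance, ⟨⟨z, hzZ⟩, rfl⟩, ?_⟩
  let g := Z.ι ≫ U.ι ≫ cov
  let φ' := trivIso H (U.ι ≫ cov) Z.ι g rfl M φ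
  obtain ⟨e, he1, he2⟩ := exists_iso_isMonHom' φ'
  haveI := he1
  haveI := he2
  haveI : IsAffine Z.toScheme := hZ
  let W : Over Z.toScheme := Over.mk (𝟙 Z.toScheme)
  haveI : IsAffine W.left := hZ
  -- the additive function
  let F : ∀ (Y : Over Z.toScheme), (Y ⟶ Red.DS Z.toScheme M ⊗ W) → Γ(Y.left, ⊤) :=
    fun Y p => (Red.gaFn (S := S) (X := (Over.map g).obj Y)
      (tr g ((p ≫ fst _ _) ≫ e.inv) ≫ u) : Γ(((Over.map g).obj Y).left, ⊤))
  have hF := additive_fn_eq_zero W F
    (by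
      intro Y Y' k p
      change Red.gaFn (S := S) (tr g (((k ≫ p) ≫ fst _ _) ≫ e.inv) ≫ u) =
        ((Over.map g).map k).left.appTop (Red.gaFn (S := S) (tr g ((p ≫ fst _ _) ≫ e.inv) ≫ u))
      rw [Category.assoc, Category.assoc, tr_comp, Category.assoc, gaFn_comp]
      rfl)
    (by
      intro Y a b t
      change Red.gaFn (S := S) (tr g ((lift (a * b) t ≫ fst _ _) ≫ e.inv) ≫ u) =
        Red.gaFn (S := S) (tr g ((lift a t ≫ fst _ _) ≫ e.inv) ≫ u) +
          Red.gaFn (S := S) (tr g ((lift b t ≫ fst _ _) ≫ e.inv) ≫ u)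
      rw [lift_fst, lift_fst, lift_fst, MonObj.mul_comp, tr_mul]
      have hu : IsMonHom u := inferInstance
      rw [MonObj.mul_comp (tr g (a ≫ e.inv)) (tr g (b ≫ e.inv)) u, gaFn_mul])
  intro Y₁
  obtain ⟨Yl, ⟨⟨⟩⟩, Yh⟩ := Y₁
  intro (q : Yl ⟶ Z.toScheme) (hq : q ≫ g = Yh) x
  subst hq
  let Y' : Over Z.toScheme := Over.mk q
  let x' : (Over.map g).obj Y' ⟶ H := x
  let δ : Y' ⟶ Red.DS Z.toScheme M := trInv g x' ≫ e.hom
  let tW : Y' ⟶ W := Over.homMk q (by simp [W, Y'])
  have h1 := hF Y' (lift δ tW)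
  change Red.gaFn (S := S) (tr g ((lift δ tW ≫ fst _ _) ≫ e.inv) ≫ u) = 0 at h1
  have h2 : (lift δ tW ≫ fst _ _) ≫ e.inv = trInv g x' := by
    rw [lift_fst]
    simp only [δ, Category.assoc, e.hom_inv_id, Category.comp_id]
  rw [h2, tr_trInv] at h1
  have h3 : x' ≫ u = 1 := by
    apply gaFn_injective
    rw [h1, gaFn_one]
  rw [MonObj.comp_one]
  exact h3

end Groth.Agent.Lib.Helper10.DiagAdditive
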