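import Mathlib

/-!
# A Nakayama-type lemma for quotients of group algebras stable under Adams operations

Let `B` be an `A`-algebra spanned by the image of a character `c : G →* B` of a finitely generated
commutative group, with an augmentation `ε : B → A` and "Adams operations" `ψ k : B → B`,
`ψ k (c m) = c m ^ k`.  If the fibre of `B` at a prime `p` of `A` is trivial (`c m - 1` dies in
`κ(p) ⊗ B`), then `c m - 1` is killed by some `g ∉ p`.  This is the algebraic heart of: a closed
subgroup scheme of a diagonalisable group with trivial fibre at `s` is trivial near `s`.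
-/

set_option autoImplicit false
set_option backward.isDefEq.respectTransparency.types false
set_option maxHeartbeats 4000000
set_option synthInstance.maxHeartbeats 400000
universe u

open TensorProduct

namespace Groth.Agent.Lib.Helper10.AdamsNak

variable {A B : Type u} [CommRing A] [CommRing B] [Algebra A B] {G : Type} [CommGroup G]
  (c : G →* B) (ε : B →ₐ[A] A)

/-- elements of the augmentation ideal are `A`-combinations of the `c m - 1`. -/
theorem mem_span_sub_one (hspan : Submodule.span A (Set.range c) = ⊤) (hε : ∀ m, ε (c m) = 1)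
    (b : B) (hb : ε b = 0) :
    b ∈ Submodule.span A (Set.range fun m => c m - 1) := by
  have hb' : b ∈ Submodule.span A (Set.range c) := hspan ▸ Submodule.mem_top
  obtain ⟨l, rfl⟩ := (Finsupp.mem_span_range_iff_exists_finsupp).mp hb'
  have h1 : (l.sum fun _ a => a) = 0 := by
    rw [Finsupp.sum, map_sum] at hb
    rw [Finsupp.sum, ← hb]
    refine Finset.sum_congr rfl fun m _ => ?_
    rw [map_smul, hε, smul_eq_mul, mul_one]
  have h2 : (l.sum fun m a => a • c m) = l.sum fun m a => a • (c m - 1) := by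
    have : (l.sum fun m a => a • c m) =
        (l.sum fun m a => a • (c m - 1)) + (l.sum fun _ a => a) • (1 : B) := by
      simp only [Finsupp.sum, Finset.sum_smul, ← Finset.sum_add_distrib]
      refine Finset.sum_congr rfl fun m _ => ?_
      rw [smul_sub, sub_add_cancel]
    rw [this, h1, zero_smul, add_zero]
  rw [h2]
  exact Submodule.sum_mem _ fun m _ => Submodule.smul_mem _ _ (Submodule.subset_span ⟨m, rfl⟩)

/-- the `c m - 1` lie in the ideal generated by the `c s - 1`, `s` in a generating set. -/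
theorem sub_one_mem_span (S : Set G) (hS : Submonoid.closure S = ⊤) (m : G) :
    c m - 1 ∈ Ideal.span ((fun s => c s - 1) '' S) := by
  have hm : m ∈ Submonoid.closure S := hS ▸ Submonoid.mem_top m
  induction hm using Submonoid.closure_induction with
  | mem x hx => exact Ideal.subset_span ⟨x, hx, rfl⟩
  | one => rw [map_one, sub_self]; exact Ideal.zero_mem _
  | mul x y _ _ hx hy =>
    have : c (x * y) - 1 = c x * (c y - 1) + (c x - 1) := by rw [map_mul]; ring
    rw [this]
    exact Ideal.add_mem _ (Ideal.mul_mem_left _ _ hy) hx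

/-- the augmentation ideal is generated by the `c s - 1`. -/
theorem ker_eq_span (hspan : Submodule.span A (Set.range c) = ⊤) (hε : ∀ m, ε (c m) = 1)
    (S : Set G) (hS : Submonoid.closure S = ⊤) :
    RingHom.ker ε.toRingHom = Ideal.span ((fun s => c s - 1) '' S) := by
  apply le_antisymm
  · intro b hb
    have hb0 : ε b = 0 := hb
    have h1 := mem_span_sub_one c ε hspan hε b hb0
    refine Submodule.span_induction (p := fun x _ => x ∈ Ideal.span ((fun s => c s - 1) '' S))
      ?_ ?_ ?_ ?_ h1
    · rintro _ ⟨m, rfl⟩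
      exact sub_one_mem_span c S hS m
    · exact Ideal.zero_mem _
    · intro x y _ _ hx hy
      exact Ideal.add_mem _ hx hy
    · intro a x _ hx
      rw [Algebra.smul_def]
      exact Ideal.mul_mem_left _ _ hx
  · rw [Ideal.span_le]
    rintro _ ⟨s, -, rfl⟩
    change ε (c s - 1) = 0
    rw [map_sub, hε, map_one, sub_self]

/-- decomposition of the augmentation ideal modulo its square. -/
theorem mem_sq_sup_span (hspan : Submodule.span A (Set.range c) = ⊤) (hε : ∀ m, ε (c m) = 1)
    (S : Set G) (hS : Submonoid.closure S = ⊤) (b : B) (hb : b ∈ RingHom.ker ε.toRingHom) :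
    b ∈ ((RingHom.ker ε.toRingHom * RingHom.ker ε.toRingHom).restrictScalars A ⊔
      Submodule.span A ((fun s => c s - 1) '' S) : Submodule A B) := by
  set J := RingHom.ker ε.toRingHom with hJ
  set T := (fun s => c s - 1) '' S with hT
  have hJT : J = Ideal.span T := ker_eq_span c ε hspan hε S hS
  have hb' : b ∈ Ideal.span T := hJT ▸ hb
  have key : b ∈ J ∧ b ∈ ((J * J).restrictScalars A ⊔ Submodule.span A T : Submodule A B) := by
    refine Submodule.span_induction
      (p := fun x _ => x ∈ J ∧ x ∈ ((J * J).restrictScalars A ⊔ Submodule.span A T : Submodule A B))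
      ?_ ?_ ?_ ?_ hb'
    · intro t ht
      exact ⟨hJT ▸ Ideal.subset_span ht, Submodule.mem_sup_right (Submodule.subset_span ht)⟩
    · exact ⟨Ideal.zero_mem _, Submodule.zero_mem _⟩
    · intro x y _ _ hx hy
      exact ⟨Ideal.add_mem _ hx.1 hy.1, Submodule.add_mem _ hx.2 hy.2⟩
    · intro r x _ hx
      refine ⟨Ideal.mul_mem_left _ _ hx.1, ?_⟩
      have hr : r - algebraMap A B (ε r) ∈ J := by
        change ε (r - algebraMap A B (ε r)) = 0
        rw [map_sub, ε.commutes, Algebra.algebraMap_self_apply, sub_self]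
      have : r • x = (ε r) • x + (r - algebraMap A B (ε r)) * x := by
        rw [smul_eq_mul, Algebra.smul_def]; ring
      rw [this]
      refine Submodule.add_mem _ (Submodule.smul_mem _ _ hx.2) (Submodule.mem_sup_left ?_)
      exact Ideal.mul_mem_mul hr hx.1
  exact key.2

set_option maxHeartbeats 8000000 in
/-- **Step 1**: a multiple `f ∉ p` of the augmentation ideal lies in its square. -/
theorem exists_smul_ker_le_sq (hspan : Submodule.span A (Set.range c) = ⊤)
    (hε : ∀ m, ε (c m) = 1) (S : Finset G) (hS : Submonoid.closure (S : Set G) = ⊤)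
    (p : Ideal A) [p.IsPrime]
    (hfib : ∀ m, (1 : p.ResidueField) ⊗ₜ[A] (c m - 1) = 0) :
    ∃ f : A, f ∉ p ∧ ∀ j ∈ RingHom.ker ε.toRingHom,
      algebraMap A B f * j ∈ RingHom.ker ε.toRingHom * RingHom.ker ε.toRingHom := by
  classical
  set J := RingHom.ker ε.toRingHom with hJ
  set T := (fun s => c s - 1) '' (S : Set G) with hT
  have hJT : J = Ideal.span T := ker_eq_span c ε hspan hε S hS
  have hTfin : T.Finite := (S.finite_toSet).image _
  let V : Submodule A B := (J * J).restrictScalars A ⊔ Submodule.span A {(1 : B)}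
  -- every element of `B` is in `V + span T`
  have hdec : ∀ b : B, b ∈ V ⊔ Submodule.span A T := by
    intro b
    have hb : b - algebraMap A B (ε b) ∈ J := by
      change ε (b - algebraMap A B (ε b)) = 0
      rw [map_sub, ε.commutes, Algebra.algebraMap_self_apply, sub_self]
    have h1 := mem_sq_sup_span c ε hspan hε S hS _ hb
    have h2 : algebraMap A B (ε b) ∈ V := by
      rw [Algebra.algebraMap_eq_smul_one]
      exact Submodule.mem_sup_right (Submodule.smul_mem _ _ (Submodule.subset_span rfl))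
    have h3 : b = algebraMap A B (ε b) + (b - algebraMap A B (ε b)) := by ring
    rw [h3]
    refine Submodule.add_mem _ (Submodule.mem_sup_left h2) ?_
    have hle : ((J * J).restrictScalars A ⊔ Submodule.span A T : Submodule A B) ≤
        V ⊔ Submodule.span A T :=
      sup_le_sup_right le_sup_left _
    exact hle h1
  -- the quotient is finite
  have hmap : Submodule.map V.mkQ (Submodule.span A T) = ⊤ := by
    rw [eq_top_iff]
    rintro q -
    obtain ⟨b, rfl⟩ := V.mkQ_surjective q
    obtain ⟨v, hv, w, hw, hvw⟩ := Submodule.mem_sup.mp (hdec b)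
    refine ⟨w, hw, ?_⟩
    have hv0 : V.mkQ v = 0 := by
      rw [Submodule.mkQ_apply]; exact (Submodule.Quotient.mk_eq_zero V).mpr hv
    rw [← hvw, map_add, hv0, zero_add]
  haveI : Module.Finite A (B ⧸ V) := ⟨hmap ▸ (Submodule.fg_span hTfin).map _⟩
  -- the fibre of the quotient is zero
  have hone : ∀ q : B ⧸ V, (1 : p.ResidueField) ⊗ₜ[A] q = 0 := by
    intro q
    obtain ⟨b, rfl⟩ := V.mkQ_surjective q
    obtain ⟨v, hv, w, hw, hvw⟩ := Submodule.mem_sup.mp (hdec b)
    have hv0 : V.mkQ v = 0 := by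
      rw [Submodule.mkQ_apply]; exact (Submodule.Quotient.mk_eq_zero V).mpr hv
    rw [← hvw, map_add, hv0, zero_add]
    refine Submodule.span_induction
      (p := fun x _ => (1 : p.ResidueField) ⊗ₜ[A] (V.mkQ x) = 0) ?_ ?_ ?_ ?_ hw
    · rintro _ ⟨s, -, rfl⟩
      have := congrArg (LinearMap.lTensor p.ResidueField V.mkQ) (hfib s)
      rwa [LinearMap.lTensor_tmul, map_zero] at this
    · rw [map_zero, TensorProduct.tmul_zero]
    · intro x y _ _ hx hy
      rw [map_add, TensorProduct.tmul_add, hx, hy, add_zero]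
    · intro a x _ hx
      rw [map_smul, TensorProduct.tmul_smul, hx, smul_zero]
  haveI : Subsingleton (p.ResidueField ⊗[A] (B ⧸ V)) := by
    refine ⟨fun z z' => ?_⟩
    have h0 : ∀ z : p.ResidueField ⊗[A] (B ⧸ V), z = 0 := by
      intro z
      induction z using TensorProduct.induction_on with
      | zero => rfl
      | tmul k q =>
        have : k ⊗ₜ[A] q = k • ((1 : p.ResidueField) ⊗ₜ[A] q) := by
          rw [TensorProduct.smul_tmul', smul_eq_mul, mul_one]
        rw [this, hone, smul_zero]
      | add x y hx hy => rw [hx, hy, add_zero]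
    rw [h0 z, h0 z']
  have hsupp : (⟨p, inferInstance⟩ : PrimeSpectrum A) ∉ Module.support A (B ⧸ V) := by
    rw [Module.mem_support_iff_nontrivial_residueField_tensorProduct]
    exact not_nontrivial _
  rw [Module.notMem_support_iff'] at hsupp
  have hr : ∀ m : G, ∃ r : A, r ∉ p ∧ algebraMap A B r * (c m - 1) ∈ J * J := by
    intro m
    obtain ⟨r, hrp, hr⟩ := hsupp (V.mkQ (c m - 1))
    refine ⟨r, hrp, ?_⟩
    rw [← map_smul, Submodule.mkQ_apply, Submodule.Quotient.mk_eq_zero] at hr
    obtain ⟨y, hy, z, hz, hyz⟩ := Submodule.mem_sup.mp hr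
    obtain ⟨a, rfl⟩ := Submodule.mem_span_singleton.mp hz
    have hy' : y ∈ J * J := hy
    have hεy : ε y = 0 := Ideal.mul_le_left hy'
    have h1 := congrArg ε hyz
    rw [map_add, hεy, zero_add, map_smul, map_one, smul_eq_mul, mul_one, map_smul, map_sub, hε,
      map_one, sub_self, smul_zero] at h1
    rw [h1, zero_smul, add_zero] at hyz
    rw [← Algebra.smul_def, ← hyz]
    exact hy'
  choose r hrp hr using hr
  refine ⟨∏ s ∈ S, r s, ?_, ?_⟩
  · rw [Ideal.IsPrime.prod_mem_iff]
    rintro ⟨s, -, hs⟩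
    exact hrp s hs
  · intro j hj
    have hj' : j ∈ Ideal.span T := hJT ▸ hj
    refine Submodule.span_induction
      (p := fun x _ => algebraMap A B (∏ s ∈ S, r s) * x ∈ J * J) ?_ ?_ ?_ ?_ hj'
    · rintro _ ⟨s, hs, rfl⟩
      obtain ⟨d, hd⟩ := Finset.dvd_prod_of_mem r hs
      rw [hd, map_mul, mul_comm (algebraMap A B (r s)), mul_assoc]
      exact Ideal.mul_mem_left _ _ (hr s)
    · rw [mul_zero]; exact Ideal.zero_mem _
    · intro x y _ _ hx hy
      rw [mul_add]; exact Ideal.add_mem _ hx hy
    · intro a x _ hx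
      rw [smul_eq_mul, mul_left_comm]
      exact Ideal.mul_mem_left _ _ hx

/-- **Step 2**: an element with augmentation outside `p` annihilates the augmentation ideal. -/
theorem exists_annihilator (hspan : Submodule.span A (Set.range c) = ⊤)
    (hε : ∀ m, ε (c m) = 1) (S : Finset G) (hS : Submonoid.closure (S : Set G) = ⊤)
    (p : Ideal A) [p.IsPrime]
    (hfib : ∀ m, (1 : p.ResidueField) ⊗ₜ[A] (c m - 1) = 0) :
    ∃ b : B, (∀ j ∈ RingHom.ker ε.toRingHom, b * j = 0) ∧ ε b ∉ p := by
  classical
  obtain ⟨f, hfp, hf⟩ := exists_smul_ker_le_sq c ε hspan hε S hS p hfib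
  set J := RingHom.ker ε.toRingHom with hJ
  have hJT : J = Ideal.span ((fun s => c s - 1) '' (S : Set G)) := ker_eq_span c ε hspan hε S hS
  have hJfg : J.FG := by
    rw [hJT]
    exact Submodule.fg_span ((S.finite_toSet).image _)
  haveI : Module.Finite B J := Module.Finite.iff_fg.mpr hJfg
  let b₀ : B := algebraMap A B f
  let φ : Module.End B J := algebraMap B (Module.End B J) b₀
  have hI : LinearMap.range φ ≤ J • (⊤ : Submodule B J) := by
    rintro _ ⟨⟨j, hj⟩, rfl⟩
    rw [Submodule.mem_smul_top_iff]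
    change b₀ • j ∈ J • J
    rw [smul_eq_mul]
    exact hf j hj
  obtain ⟨P, hmonic, -, hcoeff, hP⟩ :=
    LinearMap.exists_monic_and_natDegree_eq_and_coeff_mem_pow_and_aeval_eq_zero B φ J hI
  rw [Polynomial.aeval_algebraMap_apply] at hP
  refine ⟨Polynomial.aeval b₀ P, ?_, ?_⟩
  · intro j hj
    have := congrArg (fun ψ : Module.End B J => ((ψ ⟨j, hj⟩ : J) : B)) hP
    simpa [Module.algebraMap_end_apply] using this
  · rw [Polynomial.coe_aeval_eq_eval]
    have h1 : ε (P.eval b₀) = P.eval₂ (ε : B →+* A) f := by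
      have := Polynomial.hom_eval₂ P (RingHom.id B) (ε : B →+* A) b₀
      rw [RingHom.comp_id] at this
      have hb₀ : (ε : B →+* A) b₀ = f := by
        change ε (algebraMap A B f) = f
        rw [ε.commutes, Algebra.algebraMap_self_apply]
      rw [hb₀] at this
      exact this
    rw [h1, Polynomial.eval₂_eq_sum_range, Finset.sum_range_succ]
    have h2 : ∀ i ∈ Finset.range P.natDegree, (ε : B →+* A) (P.coeff i) * f ^ i = 0 := by
      intro i hi
      have hi' : i < P.natDegree := Finset.mem_range.mp hi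
      have h3 : P.coeff i ∈ J := Ideal.pow_le_self (by omega) (hcoeff i)
      have h4 : ε (P.coeff i) = 0 := h3
      change ε (P.coeff i) * f ^ i = 0
      rw [h4, zero_mul]
    rw [Finset.sum_eq_zero h2, zero_add]
    have h5 : P.coeff P.natDegree = 1 := hmonic
    change ε (P.coeff P.natDegree) * f ^ P.natDegree ∉ p
    rw [h5, map_one, one_mul]
    exact fun h => hfp (Ideal.IsPrime.mem_of_pow_mem inferInstance _ h)

/-- quotients in which the characters become `k`-torsion are finite. -/
theorem finite_quotient (hspan : Submodule.span A (Set.range c) = ⊤)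
    (S : Finset G) (hS : Submonoid.closure (S : Set G) = ⊤) (k : ℕ) (hk : 1 ≤ k)
    (I : Ideal B) (hI : ∀ m, c m ^ k - 1 ∈ I) : Module.Finite A (B ⧸ I) := by
  classical
  let π : B →ₐ[A] B ⧸ I := Ideal.Quotient.mkₐ A I
  let s : Set (B ⧸ I) := (fun m => π (c m)) '' (S : Set G)
  have hsfin : s.Finite := (S.finite_toSet).image _
  have hint : ∀ z ∈ s, IsIntegral A z := by
    rintro _ ⟨m, -, rfl⟩
    refine ⟨Polynomial.X ^ k - Polynomial.C 1, Polynomial.monic_X_pow_sub_C 1 (by omega), ?_⟩
    rw [Polynomial.eval₂_sub, Polynomial.eval₂_pow, Polynomial.eval₂_X, Polynomial.eval₂_C,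
      map_one, ← map_pow, ← map_one π, ← map_sub]
    exact Ideal.Quotient.eq_zero_iff_mem.mpr (hI m)
  have hmem : ∀ m : G, π (c m) ∈ Algebra.adjoin A s := by
    intro m
    have hm : m ∈ Submonoid.closure (S : Set G) := hS ▸ Submonoid.mem_top m
    induction hm using Submonoid.closure_induction with
    | mem x hx => exact Algebra.subset_adjoin ⟨x, hx, rfl⟩
    | one => rw [map_one, map_one]; exact Subalgebra.one_mem _
    | mul x y _ _ hx hy => rw [map_mul, map_mul]; exact Subalgebra.mul_mem _ hx hy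
  have htop : Algebra.adjoin A s = ⊤ := by
    rw [eq_top_iff]
    rintro z -
    obtain ⟨b, rfl⟩ := Ideal.Quotient.mkₐ_surjective A I z
    have hb : b ∈ Submodule.span A (Set.range c) := hspan ▸ Submodule.mem_top
    refine Submodule.span_induction (p := fun x _ => π x ∈ Algebra.adjoin A s) ?_ ?_ ?_ ?_ hb
    · rintro _ ⟨m, rfl⟩
      exact hmem m
    · rw [map_zero]; exact Subalgebra.zero_mem _
    · intro x y _ _ hx hy
      rw [map_add]; exact Subalgebra.add_mem _ hx hy
    · intro a x _ hx
      rw [map_smul]; exact Subalgebra.smul_mem _ hx a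
  have hfg := fg_adjoin_of_finite hsfin hint
  rw [htop, Algebra.top_toSubmodule] at hfg
  exact ⟨hfg⟩

/-- the fibre at `p` of a quotient killing an element of augmentation outside `p` vanishes. -/
theorem subsingleton_fibre (hspan : Submodule.span A (Set.range c) = ⊤)
    (hε : ∀ m, ε (c m) = 1) (p : Ideal A) [p.IsPrime]
    (hfib : ∀ m, (1 : p.ResidueField) ⊗ₜ[A] (c m - 1) = 0)
    (b : B) (hb : ε b ∉ p) (I : Ideal B) (hbI : b ∈ I) :
    Subsingleton (p.ResidueField ⊗[A] (B ⧸ I)) := by
  have hJ : ∀ j : B, ε j = 0 → (1 : p.ResidueField) ⊗ₜ[A] j = 0 := by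
    intro j hj
    have h1 := mem_span_sub_one c ε hspan hε j hj
    refine Submodule.span_induction
      (p := fun x _ => (1 : p.ResidueField) ⊗ₜ[A] x = 0) ?_ ?_ ?_ ?_ h1
    · rintro _ ⟨m, rfl⟩
      exact hfib m
    · rw [TensorProduct.tmul_zero]
    · intro x y _ _ hx hy
      rw [TensorProduct.tmul_add, hx, hy, add_zero]
    · intro a x _ hx
      rw [TensorProduct.tmul_smul, hx, smul_zero]
  let π : B →ₐ[A] B ⧸ I := Ideal.Quotient.mkₐ A I
  have hπb : π b = 0 := Ideal.Quotient.eq_zero_iff_mem.mpr hbI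
  have h0 : ε (b - algebraMap A B (ε b)) = 0 := by
    rw [map_sub, ε.commutes, Algebra.algebraMap_self_apply, sub_self]
  have h1 := congrArg (LinearMap.lTensor p.ResidueField π.toLinearMap) (hJ _ h0)
  rw [LinearMap.lTensor_tmul, map_zero, AlgHom.toLinearMap_apply, map_sub, hπb, zero_sub,
    AlgHom.commutes, Algebra.algebraMap_eq_smul_one, TensorProduct.tmul_neg,
    TensorProduct.tmul_smul, neg_eq_zero, TensorProduct.smul_tmul',
    ← Algebra.algebraMap_eq_smul_one] at h1
  have hu : algebraMap A p.ResidueField (ε b) ≠ 0 := by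
    rw [Ne, Ideal.algebraMap_residueField_eq_zero]
    exact hb
  have h2 : ∀ z : p.ResidueField ⊗[A] (B ⧸ I), z = 0 := by
    intro z
    induction z using TensorProduct.induction_on with
    | zero => rfl
    | tmul k q =>
      have : k ⊗ₜ[A] q = ((k * (algebraMap A p.ResidueField (ε b))⁻¹) ⊗ₜ[A] q) *
          ((algebraMap A p.ResidueField (ε b)) ⊗ₜ[A] (1 : B ⧸ I)) := by
        rw [Algebra.TensorProduct.tmul_mul_tmul, mul_one, mul_assoc, inv_mul_cancel₀ hu, mul_one]
      rw [this, h1, mul_zero]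
    | add x y hx hy => rw [hx, hy, add_zero]
  exact ⟨fun z z' => by rw [h2 z, h2 z']⟩

/-- Dedekind independence of characters, in the form needed here. -/
theorem exists_pow_sum_ne_zero {D : Type*} [CommRing D] [IsDomain D] (α lam : G → D)
    (hlam : ∀ m, lam m ≠ 0) (s : Finset G) (hsum : ∑ m ∈ s, α m ≠ 0) :
    ∃ k : ℕ, 1 ≤ k ∧ ∑ m ∈ s, α m * lam m ^ k ≠ 0 := by
  classical
  by_contra h
  push Not at h
  let φ : G → (Multiplicative ℕ →* D) := fun m => powersHom D (lam m)
  have LI := linearIndependent_monoidHom (Multiplicative ℕ) D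
  rw [linearIndependent_iff'] at LI
  let t := s.image φ
  let g : (Multiplicative ℕ →* D) → D := fun φ' => ∑ m ∈ s with φ m = φ', α m * lam m
  have hmaps : ∀ m ∈ s, φ m ∈ t := fun m hm => Finset.mem_image_of_mem φ hm
  have hsum0 : ∑ φ' ∈ t, g φ' • (φ' : Multiplicative ℕ → D) = 0 := by
    funext n
    rw [Finset.sum_apply, Pi.zero_apply]
    have h1 : ∀ φ' ∈ t, (g φ' • (φ' : Multiplicative ℕ → D)) n =
        ∑ m ∈ s with φ m = φ', α m * lam m ^ (n.toAdd + 1) := by
      intro φ' _
      rw [Pi.smul_apply, smul_eq_mul, Finset.sum_mul]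
      refine Finset.sum_congr rfl fun m hm => ?_
      rw [← (Finset.mem_filter.mp hm).2]
      change α m * lam m * (lam m ^ n.toAdd) = _
      rw [pow_succ]; ring
    rw [Finset.sum_congr rfl h1, Finset.sum_fiberwise_of_maps_to hmaps]
    exact h (n.toAdd + 1) (by omega)
  have hg := LI t g hsum0
  apply hsum
  rw [← Finset.sum_fiberwise_of_maps_to hmaps]
  refine Finset.sum_eq_zero fun φ' hφ' => ?_
  obtain ⟨m₀, hm₀, rfl⟩ := Finset.mem_image.mp hφ'
  have h2 : g (φ m₀) = (∑ m ∈ s with φ m = φ m₀, α m) * lam m₀ := by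
    rw [Finset.sum_mul]
    refine Finset.sum_congr rfl fun m hm => ?_
    have h3 : φ m = φ m₀ := (Finset.mem_filter.mp hm).2
    have h4 : lam m = lam m₀ := by
      have := congrArg (fun f : Multiplicative ℕ →* D => f (Multiplicative.ofAdd 1)) h3
      simpa [φ] using this
    rw [h4]
  have h5 := hg (φ m₀) hφ'
  rw [h2] at h5
  exact (mul_eq_zero.mp h5).resolve_right (hlam m₀)

/-- **Main lemma.**  If the fibre at `p` is trivial then the `c m - 1` are killed by some
`g ∉ p`. -/
theorem exists_kill [Group.FG G] (hspan : Submodule.span A (Set.range c) = ⊤)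
    (hε : ∀ m, ε (c m) = 1)
    (hψ : ∀ k : ℕ, 1 ≤ k → ∃ ψ : B →ₐ[A] B, ∀ m, ψ (c m) = c m ^ k)
    (p : Ideal A) [p.IsPrime]
    (hfib : ∀ m, (1 : p.ResidueField) ⊗ₜ[A] (c m - 1) = 0) :
    ∃ g : A, g ∉ p ∧ ∀ m, g • (c m - 1) = 0 := by
  classical
  obtain ⟨S, hS⟩ := (Group.fg_iff_monoid_fg.mp (inferInstance : Group.FG G)).fg_top
  obtain ⟨b, hbJ, hbp⟩ := exists_annihilator c ε hspan hε S hS p hfib
  have hcJ : ∀ m, c m - 1 ∈ RingHom.ker ε.toRingHom := by
    intro m
    change ε (c m - 1) = 0
    rw [map_sub, hε, map_one, sub_self]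
  by_contra hcon
  push Not at hcon
  have hdisj : Disjoint ((Ideal.span {b} : Ideal B) : Set B)
      ((Submonoid.map (algebraMap A B) p.primeCompl : Submonoid B) : Set B) := by
    rw [Set.disjoint_left]
    rintro _ hx ⟨g, hg, rfl⟩
    obtain ⟨d, hd⟩ := Ideal.mem_span_singleton'.mp hx
    obtain ⟨m, hm⟩ := hcon g hg
    apply hm
    rw [Algebra.smul_def]
    change algebraMap A B g * (c m - 1) = 0
    rw [← hd, mul_assoc, hbJ _ (hcJ m), mul_zero]
  obtain ⟨Q, hQprime, hbQ, hQdisj⟩ := Ideal.exists_le_prime_disjoint _ _ hdisj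
  haveI := hQprime
  let x : B →+* B ⧸ Q := Ideal.Quotient.mk Q
  have hxb : x b = 0 := Ideal.Quotient.eq_zero_iff_mem.mpr (hbQ (Ideal.subset_span rfl))
  have hxg : ∀ g : A, g ∉ p → x (algebraMap A B g) ≠ 0 := by
    intro g hg h0
    have h1 : algebraMap A B g ∈ Q := Ideal.Quotient.eq_zero_iff_mem.mp h0
    exact Set.disjoint_left.mp hQdisj h1 ⟨g, hg, rfl⟩
  -- write `b` as a combination of characters
  have hb' : b ∈ Submodule.span A (Set.range c) := hspan ▸ Submodule.mem_top
  obtain ⟨l, hl⟩ := (Finsupp.mem_span_range_iff_exists_finsupp).mp hb'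
  have hεb : ε b = ∑ m ∈ l.support, l m := by
    rw [← hl, Finsupp.sum, map_sum]
    refine Finset.sum_congr rfl fun m _ => ?_
    rw [map_smul, hε, smul_eq_mul, mul_one]
  have hlam : ∀ m, x (c m) ≠ 0 := by
    intro m h0
    have h1 : x (c m) * x (c m⁻¹) = 1 := by
      rw [← map_mul, ← map_mul, mul_inv_cancel, map_one, map_one]
    rw [h0, zero_mul] at h1
    exact zero_ne_one h1
  have hsum : ∑ m ∈ l.support, x (algebraMap A B (l m)) ≠ 0 := by
    rw [← map_sum, ← map_sum, ← hεb]
    exact hxg _ hbp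
  obtain ⟨k, hk, hk0⟩ := exists_pow_sum_ne_zero (fun m => x (algebraMap A B (l m)))
    (fun m => x (c m)) hlam l.support hsum
  obtain ⟨ψ, hψk⟩ := hψ k hk
  have hyb : x (ψ b) = ∑ m ∈ l.support, x (algebraMap A B (l m)) * x (c m) ^ k := by
    rw [← hl, Finsupp.sum, map_sum, map_sum]
    refine Finset.sum_congr rfl fun m _ => ?_
    rw [map_smul, hψk, Algebra.smul_def, map_mul, map_pow]
  have hck : ∀ m, c m ^ k - 1 ∈ Q := by
    intro m
    have h1 : x (ψ b) * x (ψ (c m - 1)) = 0 := by
      rw [← map_mul, ← map_mul, hbJ _ (hcJ m), map_zero, map_zero]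
    have h2 : x (ψ (c m - 1)) = 0 := (mul_eq_zero.mp h1).resolve_left (hyb ▸ hk0)
    rw [map_sub, hψk, map_one] at h2
    exact Ideal.Quotient.eq_zero_iff_mem.mp h2
  let I : Ideal B := Ideal.span {b} ⊔ Ideal.span (Set.range fun m => c m ^ k - 1)
  have hIQ : I ≤ Q := by
    refine sup_le hbQ ?_
    rw [Ideal.span_le]
    rintro _ ⟨m, rfl⟩
    exact hck m
  haveI : Module.Finite A (B ⧸ I) := finite_quotient c hspan S hS k hk I
    (fun m => Ideal.mem_sup_right (Ideal.subset_span ⟨m, rfl⟩))
  haveI : Subsingleton (p.ResidueField ⊗[A] (B ⧸ I)) :=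
    subsingleton_fibre c ε hspan hε p hfib b hbp I (Ideal.mem_sup_left (Ideal.subset_span rfl))
  have hsupp : (⟨p, inferInstance⟩ : PrimeSpectrum A) ∉ Module.support A (B ⧸ I) := by
    rw [Module.mem_support_iff_nontrivial_residueField_tensorProduct]
    exact not_nontrivial _
  rw [Module.notMem_support_iff'] at hsupp
  obtain ⟨r, hrp, hr⟩ := hsupp (1 : B ⧸ I)
  have h1 : algebraMap A B r ∈ I := by
    rw [← Ideal.Quotient.eq_zero_iff_mem]
    have : (Ideal.Quotient.mk I) (algebraMap A B r) = r • (1 : B ⧸ I) := by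
      rw [Algebra.smul_def, mul_one]; rfl
    rw [this, hr]
  exact hxg r hrp (Ideal.Quotient.eq_zero_iff_mem.mpr (hIQ h1))

end Groth.Agent.Lib.Helper10.AdamsNak
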