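import Mathlib
import Groth.Agent.Lib.Helper10.TrivActDiag

/-!
# The kernel of a family of morphisms `D_T(M) ×_T W ⟶ G` into a separated group is closed

For `W` affine and `G` separated over `T`, the points `(δ, t)` of `D_T(M) ×_T W` which `φ` sends
to the unit section are those whose classifying homomorphism `Γ(W)[M] → Γ(Y)` kills a certain
ideal `I`.
-/

set_option autoImplicit false
set_option backward.isDefEq.respectTransparency.types false
set_option maxHeartbeats 4000000
set_option synthInstance.maxHeartbeats 400000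
universe u
open CategoryTheory CategoryTheory.Limits AlgebraicGeometry MonoidalCategory
  CartesianMonoidalCategory MonObj GrpObj

namespace Groth.Agent.Lib.Helper10.KerIdeal

open Groth.Agent.Lib.Helper21.GaPts Groth.Agent.Lib.Helper10.DiagHom
  Groth.Agent.Lib.Helper10.TrivAct

variable {T : Scheme.{u}} (M : Type) [AddCommGroup M] (W : Over T) [IsAffine W.left]

/-- the classifying morphism of a point of `D_T(M) ×_T W` induces the evaluation map. -/
theorem evalHom_classify {Y : Over T} (δ : Y ⟶ Red.DS T M) (t : Y ⟶ W) :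
    evalHom ((lift δ t ≫ rho M W).left) = ev M W δ t := by
  refine RingHom.ext (fun z => ?_)
  have h1 : (lift δ t ≫ rho M W).left = (lift δ t).left ≫ ofRingHom (theta M W) := rfl
  rw [h1, evalHom_comp_apply, evalHom_ofRingHom, lift_appTop_theta]

theorem one_left {G : Over T} [GrpObj G] (Y : Over T) :
    (1 : Y ⟶ G).left = Y.hom ≫ η[G].left := by
  rw [Hom.one_def, Over.comp_left]
  rfl

/-- **the kernel is closed.** -/
theorem exists_kernel_ideal {G : Over T} [GrpObj G] [IsSeparated G.hom]
    (φ : Red.DS T M ⊗ W ⟶ G) :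
    ∃ I : Ideal (MonoidAlgebra Γ(W.left, ⊤) (Multiplicative M)),
      ∀ (Y : Over T) (δ : Y ⟶ Red.DS T M) (t : Y ⟶ W),
        lift δ t ≫ φ = 1 ↔ ∀ z ∈ I, ev M W δ t z = 0 := by
  let φ' : specOver W (algB M W) ⟶ G := univPt M W ≫ φ
  have hη : η[G].left ≫ G.hom = 𝟙 T := by
    have := Over.w η[G]
    exact this
  haveI : IsClosedImmersion η[G].left := by
    haveI : IsIso (η[G].left ≫ G.hom) := by
      rw [hη]
      exact IsIso.id T
    haveI : IsClosedImmersion (η[G].left ≫ G.hom) := inferInstance
    exact IsClosedImmersion.of_comp η[G].left G.hom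
  let i : pullback φ'.left η[G].left ⟶ Spec (BG M W) := pullback.fst φ'.left η[G].left
  haveI : IsClosedImmersion i := inferInstanceAs (IsClosedImmersion (pullback.fst φ'.left η[G].left))
  obtain ⟨I, e, hi⟩ := IsClosedImmersion.Spec_iff.mp (inferInstance : IsClosedImmersion i)
  refine ⟨I, fun Y δ t => ?_⟩
  let cl : Y.left ⟶ Spec (BG M W) := (lift δ t ≫ rho M W).left
  have hcl : cl ≫ φ'.left = (lift δ t ≫ φ).left := by
    change (lift δ t ≫ rho M W).left ≫ (univPt M W ≫ φ).left = _
    rw [← Over.comp_left, Category.assoc, ← Category.assoc (rho M W), rho_univPt,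
      Category.id_comp]
  have hev : evalHom cl = ev M W δ t := evalHom_classify M W δ t
  constructor
  · intro h z hz
    have h1 : cl ≫ φ'.left = Y.hom ≫ η[G].left := by rw [hcl, h, one_left]
    let l : Y.left ⟶ pullback φ'.left η[G].left := pullback.lift cl Y.hom h1
    have hl : l ≫ i = cl := pullback.lift_fst _ _ _
    rw [← hev, ← hl, hi, ← Category.assoc, evalHom_specMap_apply,
      Ideal.Quotient.eq_zero_iff_mem.mpr hz, map_zero]
  · intro h
    let y : (MonoidAlgebra Γ(W.left, ⊤) (Multiplicative M)) ⧸ I →+* Γ(Y.left, ⊤) :=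
      Ideal.Quotient.lift I (ev M W δ t) h
    have hcl' : cl = ofRingHom y ≫ Spec.map (CommRingCat.ofHom (Ideal.Quotient.mk I)) := by
      apply evalHom_injective
      rw [evalHom_specMap, evalHom_ofRingHom, hev]
      exact (Ideal.Quotient.lift_comp_mk I (ev M W δ t) h).symm
    have hei : e.inv ≫ i = Spec.map (CommRingCat.ofHom (Ideal.Quotient.mk I)) := by
      rw [hi, Iso.inv_hom_id_assoc]
    let v : Y.left ⟶ T := (ofRingHom y ≫ e.inv) ≫ pullback.snd φ'.left η[G].left
    have h2 : (lift δ t ≫ φ).left = v ≫ η[G].left := by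
      rw [← hcl, hcl', ← hei]
      have hc : i ≫ φ'.left = pullback.snd φ'.left η[G].left ≫ η[G].left := pullback.condition
      simp only [Category.assoc, v]
      rw [hc]
    have h3 : v = Y.hom := by
      have h4 := Over.w (lift δ t ≫ φ)
      rw [h2, Category.assoc, hη, Category.comp_id] at h4
      exact h4
    apply Over.OverMorphism.ext
    rw [h2, h3, one_left]

end Groth.Agent.Lib.Helper10.KerIdeal
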