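import Mathlib
import Groth.Prelude.Def_SGA3x
import Groth.Agent.Lib.Helper10.HomFamBC
import Groth.Agent.Lib.Helper10.BCProps

/-!
# Triviality of the kernel of a homomorphism of group schemes, in terms of points
-/

set_option autoImplicit false
set_option backward.isDefEq.respectTransparency.types false
set_option maxHeartbeats 4000000
set_option synthInstance.maxHeartbeats 400000
universe u
open CategoryTheory CategoryTheory.Limits AlgebraicGeometry MonoidalCategory
  CartesianMonoidalCategory MonObj GrpObj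

namespace Groth.Agent.Lib.Helper10.KerTriv

open Groth.Agent.Lib.Helper10.HomFamBC Groth.Agent.Lib.Helper10.BCProps

theorem tr_one' {S U : Scheme.{u}} (g : U ⟶ S) {X : Over U} {G : Over S} [GrpObj G] :
    tr g (1 : X ⟶ Red.bc g G) = 1 := by
  have h := tr_mul g (1 : X ⟶ Red.bc g G) 1
  rw [_root_.mul_one] at h
  exact mul_left_cancel (h.symm.trans (_root_.mul_one _).symm)

variable {S : Scheme.{u}} {H G : Over S} [GrpObj H] [GrpObj G] (u : H ⟶ G) [IsMonHom u]

/-- the kernel of `u` is trivial on points lying over `g`. -/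
def KerTriv ⦃T : Scheme.{u}⦄ (g : T ⟶ S) : Prop :=
  ∀ (Y : Over S) (q : Y.left ⟶ T), q ≫ g = Y.hom → ∀ a : Y ⟶ H, a ≫ u = 1 → a = 1

theorem KerTriv.comp {T T' : Scheme.{u}} (b : T' ⟶ T) (g : T ⟶ S) (h : KerTriv u g) :
    KerTriv u (b ≫ g) := by
  intro Y q hq a ha
  exact h Y (q ≫ b) (by rw [Category.assoc, hq]) a ha

theorem kerTriv_of_mono {T : Scheme.{u}} (g : T ⟶ S)
    (h : Mono ((Over.pullback g).map u).left) : KerTriv u g := by
  intro Y₁
  obtain ⟨Yl, ⟨⟨⟩⟩, Yh⟩ := Y₁
  intro (q : Yl ⟶ T) (hq : q ≫ g = Yh) a ha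
  subst hq
  haveI : Mono ((Over.pullback g).map u) := Over.mono_of_mono_left _
  let a' : (Over.map g).obj (Over.mk q) ⟶ H := a
  have h1 : trInv g a' ≫ (Over.pullback g).map u =
      (1 : Over.mk q ⟶ Red.bc g H) ≫ (Over.pullback g).map u := by
    apply tr_injective g
    rw [tr_comp_map, tr_comp_map, tr_trInv, tr_one', MonObj.one_comp]
    exact ha
  have h2 : trInv g a' = 1 := (cancel_mono _).mp h1
  have h3 : a' = 1 := by
    rw [← tr_trInv g a', h2, tr_one']
  exact h3

theorem mono_of_kerTriv {T : Scheme.{u}} (g : T ⟶ S) (h : KerTriv u g) :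
    Mono ((Over.pullback g).map u).left := by
  haveI : Mono ((Over.pullback g).map u) := by
    refine ⟨fun {Z} x y hxy => ?_⟩
    apply tr_injective g
    have h1 : tr g x ≫ u = tr g y ≫ u := by
      rw [← tr_comp_map, ← tr_comp_map, hxy]
    have h2 : (tr g x * (tr g y)⁻¹) ≫ u = 1 := by
      rw [MonObj.mul_comp, GrpObj.inv_comp, h1, mul_inv_cancel]
    have h3 := h ((Over.map g).obj Z) Z.hom rfl _ h2
    exact mul_inv_eq_one.mp h3
  infer_instance

theorem kerTriv_iff_pbc {T : Scheme.{u}} (g : T ⟶ S) :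
    KerTriv u g ↔ Pbc u (MorphismProperty.monomorphisms Scheme.{u}) g :=
  ⟨fun h => mono_of_kerTriv u g h, fun h => kerTriv_of_mono u g h⟩

end Groth.Agent.Lib.Helper10.KerTriv
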