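import Mathlib
import Groth.Agent.Lib.Helper10.KerIdeal
import Groth.Agent.Lib.Helper10.KerTriv
import Groth.Agent.Lib.Helper10.AdamsNak
import Groth.Agent.Lib.Helper10.DiagPts4

/-!
# A homomorphism `D_T(M) ⟶ G` into a separated group which is a monomorphism on the fibre at `t`
is a monomorphism in a neighbourhood of `t` (SGA 3 IX 6.4, local model)
-/

set_option autoImplicit false
set_option backward.isDefEq.respectTransparency.types false
set_option maxHeartbeats 4000000
set_option synthInstance.maxHeartbeats 400000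
universe u
open CategoryTheory CategoryTheory.Limits AlgebraicGeometry MonoidalCategory
  CartesianMonoidalCategory MonObj GrpObj TensorProduct

namespace Groth.Agent.Lib.Helper10.KerLocal

open Groth.Agent.Lib.Helper21.GaPts Groth.Agent.Lib.Helper10.DiagHom
  Groth.Agent.Lib.Helper10.TrivAct Groth.Agent.Lib.Helper10.KerIdeal
  Groth.Agent.Lib.Helper10.KerTriv

section Ev

variable {T : Scheme.{u}} (M : Type) [AddCommGroup M] (W : Over T) [IsAffine W.left]

theorem ev_algebraMap {Y : Over T} (δ : Y ⟶ Red.DS T M) (t : Y ⟶ W) (b : Γ(W.left, ⊤)) :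
    ev M W δ t (algebraMap _ _ b) = t.left.appTop b := by
  rw [ev, MonoidAlgebra.coe_algebraMap]
  simp [MonoidAlgebra.liftNCRingHom_single]

theorem ev_single {Y : Over T} (δ : Y ⟶ Red.DS T M) (t : Y ⟶ W) (g : Multiplicative M) :
    ev M W δ t (MonoidAlgebra.single g 1) = dsFn (Multiplicative.toAdd g) δ := by
  rw [ev, MonoidAlgebra.liftNCRingHom_single]
  simp [dsChar]

variable {M W}

/-- evaluation at points with values in `Spec C`. -/
theorem ev_spec {C : CommRingCat.{u}} (β : Γ(W.left, ⊤) ⟶ C) (χ : Multiplicative M →* C)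
    (z : MonoidAlgebra Γ(W.left, ⊤) (Multiplicative M)) :
    (Scheme.ΓSpecIso C).hom
      (ev M W (dsPt (S := T) (X := specOver W β) (chr χ)) (specOverT W β) z) =
    MonoidAlgebra.liftNCRingHom β.hom χ (fun _ _ => Commute.all _ _) z := by
  rw [ev]
  have h := comp_liftNCRingHom (Scheme.ΓSpecIso C).hom.hom (specOverT W β).left.appTop.hom
    (dsChar (dsPt (S := T) (X := specOver W β) (chr χ)))
  have h2 : ((Scheme.ΓSpecIso C).hom.hom.toMonoidHom).comp
      (dsChar (dsPt (S := T) (X := specOver W β) (chr χ))) = χ := by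
    refine MonoidHom.ext (fun g => ?_)
    change (Scheme.ΓSpecIso C).hom (dsFn (Multiplicative.toAdd g)
      (dsPt (S := T) (X := specOver W β) (chr χ))) = _
    rw [dsFn_dsPt]
    change (Scheme.ΓSpecIso C).hom ((Scheme.ΓSpecIso C).inv (χ g)) = _
    exact congrArg (fun f => f.hom (χ g)) (Scheme.ΓSpecIso C).inv_hom_id
  rw [h2, specOverT_comp] at h
  exact congrArg (fun f => f z) h

theorem ΓSpecIso_hom_injective (C : CommRingCat.{u}) :
    Function.Injective (Scheme.ΓSpecIso C).hom :=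
  (ConcreteCategory.bijective_of_isIso (Scheme.ΓSpecIso C).hom).1

/-- if the classifying homomorphism of a `Spec C`-valued point kills `I` ... -/
theorem ev_spec_eq_zero_iff {C : CommRingCat.{u}} (β : Γ(W.left, ⊤) ⟶ C)
    (χ : Multiplicative M →* C) (z : MonoidAlgebra Γ(W.left, ⊤) (Multiplicative M)) :
    ev M W (dsPt (S := T) (X := specOver W β) (chr χ)) (specOverT W β) z = 0 ↔
      MonoidAlgebra.liftNCRingHom β.hom χ (fun _ _ => Commute.all _ _) z = 0 := by
  rw [← ev_spec β χ z]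
  have hz : (Scheme.ΓSpecIso C).hom (0 : Γ(Spec C, ⊤)) = 0 := map_zero (Scheme.ΓSpecIso C).hom.hom
  constructor
  · intro h
    exact (congrArg (fun y => (Scheme.ΓSpecIso C).hom y) h).trans hz
  · intro h
    exact ΓSpecIso_hom_injective C (h.trans hz.symm)

end Ev

section Alg

variable {A : Type u} [CommRing A] {Gp : Type} [CommGroup Gp] (I : Ideal (MonoidAlgebra A Gp))

/-- the tautological character of the quotient. -/
noncomputable def qchar : Gp →* (MonoidAlgebra A Gp ⧸ I) :=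
  (Ideal.Quotient.mk I : MonoidAlgebra A Gp →+* _).toMonoidHom.comp (MonoidAlgebra.of A Gp)

theorem qchar_apply (g : Gp) : qchar I g = Ideal.Quotient.mk I (MonoidAlgebra.single g 1) := rfl

theorem span_qchar : Submodule.span A (Set.range (qchar I)) = ⊤ := by
  rw [eq_top_iff]
  rintro z -
  obtain ⟨y, rfl⟩ := Ideal.Quotient.mk_surjective z
  have h1 := MonoidAlgebra.mem_span_support_coeff y
  refine Submodule.span_induction
    (p := fun x _ => Ideal.Quotient.mk I x ∈ Submodule.span A (Set.range (qchar I)))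
    ?_ ?_ ?_ ?_ h1
  · rintro _ ⟨g, -, rfl⟩
    exact Submodule.subset_span ⟨g, rfl⟩
  · rw [map_zero]; exact Submodule.zero_mem _
  · intro x y _ _ hx hy
    rw [map_add]; exact Submodule.add_mem _ hx hy
  · intro a x _ hx
    have : Ideal.Quotient.mk I (a • x) = a • Ideal.Quotient.mk I x :=
      map_smul (Ideal.Quotient.mkₐ A I) a x
    rw [this]
    exact Submodule.smul_mem _ _ hx

theorem liftNC_qchar :
    MonoidAlgebra.liftNCRingHom (algebraMap A (MonoidAlgebra A Gp ⧸ I)) (qchar I)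
      (fun _ _ => Commute.all _ _) = Ideal.Quotient.mk I := by
  refine MonoidAlgebra.ringHom_ext (fun b => ?_) (fun g => ?_)
  · rw [MonoidAlgebra.liftNCRingHom_single, map_one, _root_.mul_one]
    have : (MonoidAlgebra.single (1 : Gp) b : MonoidAlgebra A Gp) = algebraMap _ _ b := by
      rw [MonoidAlgebra.coe_algebraMap]; rfl
    rw [this]
    rfl
  · rw [MonoidAlgebra.liftNCRingHom_single, map_one, _root_.one_mul]
    rfl

theorem liftNC_qchar_pow (k : ℕ) :
    MonoidAlgebra.liftNCRingHom (algebraMap A (MonoidAlgebra A Gp ⧸ I)) (qchar I ^ k)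
      (fun _ _ => Commute.all _ _) =
    (Ideal.Quotient.mk I).comp (MonoidAlgebra.mapDomainRingHom A (powMonoidHom k : Gp →* Gp)) := by
  refine MonoidAlgebra.ringHom_ext (fun b => ?_) (fun g => ?_)
  · rw [MonoidAlgebra.liftNCRingHom_single, map_one, _root_.mul_one, RingHom.comp_apply]
    have h1 : MonoidAlgebra.mapDomainRingHom A (powMonoidHom k : Gp →* Gp)
        (MonoidAlgebra.single (1 : Gp) b) = MonoidAlgebra.single (1 : Gp) b := by
      change MonoidAlgebra.mapDomain _ _ = _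
      rw [MonoidAlgebra.mapDomain_single, map_one]
    rw [h1]
    have : (MonoidAlgebra.single (1 : Gp) b : MonoidAlgebra A Gp) = algebraMap _ _ b := by
      rw [MonoidAlgebra.coe_algebraMap]; rfl
    rw [this]
    rfl
  · rw [MonoidAlgebra.liftNCRingHom_single, map_one, _root_.one_mul, RingHom.comp_apply]
    have h1 : MonoidAlgebra.mapDomainRingHom A (powMonoidHom k : Gp →* Gp)
        (MonoidAlgebra.single g 1) = MonoidAlgebra.single (g ^ k) 1 := by
      change MonoidAlgebra.mapDomain _ _ = _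
      rw [MonoidAlgebra.mapDomain_single]
      rfl
    rw [h1, MonoidHom.pow_apply, qchar_apply, ← map_pow, MonoidAlgebra.single_pow, one_pow]

theorem liftNC_comp_qchar {B' : Type u} [CommRing B'] (j : (MonoidAlgebra A Gp ⧸ I) →+* B')
    (z : MonoidAlgebra A Gp) :
    MonoidAlgebra.liftNCRingHom (j.comp (algebraMap A (MonoidAlgebra A Gp ⧸ I)))
      (j.toMonoidHom.comp (qchar I)) (fun _ _ => Commute.all _ _) z =
    j (Ideal.Quotient.mk I z) := by
  have h := comp_liftNCRingHom j (algebraMap A (MonoidAlgebra A Gp ⧸ I)) (qchar I)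
  rw [liftNC_qchar] at h
  rw [← h]
  rfl

/-- the Adams operation on the quotient, if the ideal is stable. -/
theorem exists_adams (k : ℕ)
    (h : ∀ z ∈ I, Ideal.Quotient.mk I
      (MonoidAlgebra.mapDomainRingHom A (powMonoidHom k : Gp →* Gp) z) = 0) :
    ∃ ψ : (MonoidAlgebra A Gp ⧸ I) →ₐ[A] (MonoidAlgebra A Gp ⧸ I),
      ∀ m, ψ (qchar I m) = qchar I m ^ k := by
  let f : MonoidAlgebra A Gp →ₐ[A] (MonoidAlgebra A Gp ⧸ I) :=
    (Ideal.Quotient.mkₐ A I).comp (MonoidAlgebra.mapDomainAlgHom A A (powMonoidHom k : Gp →* Gp))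
  have hf : ∀ z ∈ I, f z = 0 := fun z hz => h z hz
  refine ⟨Ideal.Quotient.liftₐ I f hf, fun m => ?_⟩
  rw [qchar_apply]
  change f (MonoidAlgebra.single m 1) = _
  change Ideal.Quotient.mk I (MonoidAlgebra.mapDomain _ (MonoidAlgebra.single m 1)) = _
  rw [MonoidAlgebra.mapDomain_single, ← map_pow, MonoidAlgebra.single_pow, one_pow]
  rfl

end Alg

section Main

variable {T : Scheme.{u}} [IsAffine T] (M : Type) [AddCommGroup M] (hM : AddGroup.FG M)
  {G : Over T} [GrpObj G] [IsSeparated G.hom] (u : Red.DS T M ⟶ G) [IsMonHom u]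

include hM in
set_option maxHeartbeats 16000000 in
/-- **local model**: if the kernel of `u : D_T(M) ⟶ G` is trivial on the fibre at `t`, it is trivial
over a basic open neighbourhood of `t`. -/
theorem exists_basicOpen_kerTriv (t : T) (ht : KerTriv u (T.fromSpecResidueField t)) :
    ∃ g : Γ(T, ⊤), t ∈ T.basicOpen g ∧ KerTriv u (T.basicOpen g).ι := by
  classical
  let W : Over T := 𝟙_ (Over T)
  haveI hWaff : IsAffine W.left := ‹IsAffine T›
  obtain ⟨I, hI⟩ := exists_kernel_ideal M W (fst (Red.DS T M) W ≫ u)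
  have hK : ∀ (Y : Over T) (δ : Y ⟶ Red.DS T M) (t' : Y ⟶ W),
      δ ≫ u = 1 ↔ ∀ z ∈ I, ev M W δ t' z = 0 := by
    intro Y δ t'
    rw [← hI Y δ t', lift_fst_assoc]
  let c : Multiplicative M →* (MonoidAlgebra Γ(W.left, ⊤) (Multiplicative M) ⧸ I) := qchar I
  -- augmentation
  have hone : ∀ z ∈ I, ev M W (1 : W ⟶ Red.DS T M) (𝟙 W) z = 0 :=
    (hK W 1 (𝟙 W)).mp (MonObj.one_comp u)
  let εR : MonoidAlgebra Γ(W.left, ⊤) (Multiplicative M) →ₐ[Γ(W.left, ⊤)] Γ(W.left, ⊤) :=
    { toRingHom := ev M W (1 : W ⟶ Red.DS T M) (𝟙 W)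
      commutes' := fun a => by
        change ev M W 1 (𝟙 W) (algebraMap _ _ a) = a
        rw [ev_algebraMap]
        simp }
  let ε : (MonoidAlgebra Γ(W.left, ⊤) (Multiplicative M) ⧸ I) →ₐ[Γ(W.left, ⊤)] Γ(W.left, ⊤) :=
    Ideal.Quotient.liftₐ I εR hone
  have hε : ∀ m, ε (c m) = 1 := by
    intro m
    change ev M W 1 (𝟙 W) (MonoidAlgebra.single m 1) = 1
    rw [ev_single, dsFn_one]
  -- the tautological point
  let βI : Γ(W.left, ⊤) ⟶ CommRingCat.of (MonoidAlgebra Γ(W.left, ⊤) (Multiplicative M) ⧸ I) :=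
    CommRingCat.ofHom (algebraMap Γ(W.left, ⊤) (MonoidAlgebra Γ(W.left, ⊤) (Multiplicative M) ⧸ I))
  let aI : specOver W βI ⟶ Red.DS T M :=
    dsPt (S := T) (X := specOver W βI)
      (chr (C := CommRingCat.of (MonoidAlgebra Γ(W.left, ⊤) (Multiplicative M) ⧸ I)) c)
  have haI : aI ≫ u = 1 := by
    rw [hK _ aI (specOverT W βI)]
    intro z hz
    rw [ev_spec_eq_zero_iff]
    change MonoidAlgebra.liftNCRingHom (algebraMap _ _) (qchar I) _ z = 0
    rw [liftNC_qchar]
    exact Ideal.Quotient.eq_zero_iff_mem.mpr hz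
  have hpow : ∀ k : ℕ, aI ^ k = dsPt (S := T) (X := specOver W βI)
      (chr (C := CommRingCat.of (MonoidAlgebra Γ(W.left, ⊤) (Multiplicative M) ⧸ I)) (c ^ k)) := by
    intro k
    apply dsFn_injective
    intro m
    rw [dsFn_pow, dsFn_dsPt, dsFn_dsPt]
    change (Scheme.ΓSpecIso (CommRingCat.of
        (MonoidAlgebra Γ(W.left, ⊤) (Multiplicative M) ⧸ I))).inv (c _) ^ k =
      (Scheme.ΓSpecIso (CommRingCat.of
        (MonoidAlgebra Γ(W.left, ⊤) (Multiplicative M) ⧸ I))).inv ((c ^ k) _)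
    rw [← map_pow]
    rfl
  have hψ : ∀ k : ℕ, 1 ≤ k →
      ∃ ψ : (MonoidAlgebra Γ(W.left, ⊤) (Multiplicative M) ⧸ I) →ₐ[Γ(W.left, ⊤)]
        (MonoidAlgebra Γ(W.left, ⊤) (Multiplicative M) ⧸ I), ∀ m, ψ (c m) = c m ^ k := by
    intro k _
    refine exists_adams I k (fun z hz => ?_)
    have h1 : (aI ^ k) ≫ u = 1 := by rw [MonObj.pow_comp, haI, one_pow]
    rw [hpow k] at h1
    have h2 := (hK _ _ (specOverT W βI)).mp h1 z hz
    rw [ev_spec_eq_zero_iff] at h2
    have h3 := liftNC_qchar_pow I k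
    change MonoidAlgebra.liftNCRingHom (algebraMap _ _) (qchar I ^ k) _ z = 0 at h2
    rw [h3] at h2
    exact h2
  -- the prime
  let p : Ideal Γ(W.left, ⊤) := (W.left.isoSpec.hom t).asIdeal
  haveI : p.IsPrime := (W.left.isoSpec.hom t).isPrime
  let C : CommRingCat.{u} := CommRingCat.of
    (p.ResidueField ⊗[Γ(W.left, ⊤)] (MonoidAlgebra Γ(W.left, ⊤) (Multiplicative M) ⧸ I))
  let inclC : CommRingCat.of (MonoidAlgebra Γ(W.left, ⊤) (Multiplicative M) ⧸ I) ⟶ C :=
    CommRingCat.ofHom (Algebra.TensorProduct.includeRight :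
      (MonoidAlgebra Γ(W.left, ⊤) (Multiplicative M) ⧸ I) →ₐ[Γ(W.left, ⊤)]
        p.ResidueField ⊗[Γ(W.left, ⊤)] (MonoidAlgebra Γ(W.left, ⊤) (Multiplicative M) ⧸ I)).toRingHom
  let incl : (MonoidAlgebra Γ(W.left, ⊤) (Multiplicative M) ⧸ I) →+* C := inclC.hom
  let βC : Γ(W.left, ⊤) ⟶ C := CommRingCat.ofHom
    (incl.comp (algebraMap Γ(W.left, ⊤) (MonoidAlgebra Γ(W.left, ⊤) (Multiplicative M) ⧸ I)))
  let χC : Multiplicative M →* C := incl.toMonoidHom.comp c
  let aC : specOver W βC ⟶ Red.DS T M := dsPt (S := T) (X := specOver W βC) (chr (C := C) χC)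
  have haC : aC ≫ u = 1 := by
    rw [hK _ aC (specOverT W βC)]
    intro z hz
    rw [ev_spec_eq_zero_iff]
    have h1 := liftNC_comp_qchar (B' := C) I incl z
    rw [Ideal.Quotient.eq_zero_iff_mem.mpr hz, map_zero] at h1
    exact h1
  let f₀ : Spec (CommRingCat.of p.ResidueField) ⟶ T :=
    Spec.map (CommRingCat.ofHom (algebraMap Γ(W.left, ⊤) p.ResidueField)) ≫ W.left.isoSpec.inv
  have hf₀t : f₀ (IsLocalRing.closedPoint p.ResidueField) = t := by
    have h1 : Spec.map (CommRingCat.ofHom (algebraMap Γ(W.left, ⊤) p.ResidueField))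
        (IsLocalRing.closedPoint p.ResidueField) = W.left.isoSpec.hom t := by
      apply PrimeSpectrum.ext
      change Ideal.comap (algebraMap Γ(W.left, ⊤) p.ResidueField)
        (IsLocalRing.maximalIdeal p.ResidueField) = p
      rw [IsLocalRing.maximalIdeal_eq_bot, ← RingHom.ker_eq_comap_bot,
        Ideal.ker_algebraMap_residueField]
    change W.left.isoSpec.inv (Spec.map _ _) = t
    rw [h1, ← Scheme.Hom.comp_apply, Iso.hom_inv_id]
    rfl
  have hKf₀ : KerTriv u f₀ := by
    have h1 := Scheme.descResidueField_stalkClosedPointTo_fromSpecResidueField p.ResidueField T f₀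
    rw [← h1]
    refine KerTriv.comp u _ _ ?_
    exact hf₀t ▸ ht
  have hfib : ∀ m, (1 : p.ResidueField) ⊗ₜ[Γ(W.left, ⊤)] (c m - 1) = 0 := by
    intro m
    let q : (specOver W βC).left ⟶ Spec (CommRingCat.of p.ResidueField) :=
      Spec.map (CommRingCat.ofHom (Algebra.TensorProduct.includeLeftRingHom :
        p.ResidueField →+* p.ResidueField ⊗[Γ(W.left, ⊤)]
          (MonoidAlgebra Γ(W.left, ⊤) (Multiplicative M) ⧸ I)))
    have hq : q ≫ f₀ = (specOver W βC).hom := by
      change Spec.map _ ≫ Spec.map _ ≫ W.left.isoSpec.inv =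
        Spec.map βC ≫ W.left.isoSpec.inv ≫ W.hom
      have hW : W.hom = 𝟙 _ := rfl
      rw [hW, Category.comp_id, ← Category.assoc, ← Spec.map_comp]
      congr 2
      refine CommRingCat.hom_ext (RingHom.ext fun a => ?_)
      change (algebraMap Γ(W.left, ⊤) p.ResidueField a) ⊗ₜ[Γ(W.left, ⊤)]
        (1 : MonoidAlgebra Γ(W.left, ⊤) (Multiplicative M) ⧸ I) =
        (1 : p.ResidueField) ⊗ₜ[Γ(W.left, ⊤)] (algebraMap Γ(W.left, ⊤) _ a)
      rw [Algebra.algebraMap_eq_smul_one, Algebra.algebraMap_eq_smul_one, TensorProduct.smul_tmul]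
    have h1 := hKf₀ (specOver W βC) q hq aC haC
    have h2 := congrArg (dsFn (Multiplicative.toAdd m)) h1
    rw [dsFn_dsPt, dsFn_one] at h2
    change (Scheme.ΓSpecIso C).inv (χC m) = 1 at h2
    have h3 : χC m = 1 := by
      apply (ConcreteCategory.bijective_of_isIso (Scheme.ΓSpecIso C).inv).1
      rw [map_one]
      exact h2
    have h4 : (1 : p.ResidueField) ⊗ₜ[Γ(W.left, ⊤)] (c m) =
        (1 : p.ResidueField ⊗[Γ(W.left, ⊤)] (MonoidAlgebra Γ(W.left, ⊤) (Multiplicative M) ⧸ I)) :=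
      h3
    rw [TensorProduct.tmul_sub, h4, Algebra.TensorProduct.one_def, sub_self]
  haveI : Group.FG (Multiplicative M) := AddGroup.fg_iff_mul_fg.mp hM
  obtain ⟨g, hgp, hg⟩ := AdamsNak.exists_kill c ε (span_qchar I) hε hψ p hfib
  refine ⟨g, ?_, ?_⟩
  · have h1 := Scheme.map_PrimeSpectrum_basicOpen_of_affine W.left g
    have h2 : t ∈ W.left.isoSpec.hom ⁻¹ᵁ PrimeSpectrum.basicOpen g := hgp
    rw [h1] at h2
    exact h2
  · intro Y q hq a ha
    have h1 := (hK Y a (toUnit Y)).mp ha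
    apply dsFn_injective
    intro m
    rw [dsFn_one]
    have h2 : (g • (MonoidAlgebra.single (Multiplicative.ofAdd m) 1 - 1) :
        MonoidAlgebra Γ(W.left, ⊤) (Multiplicative M)) ∈ I := by
      rw [← Ideal.Quotient.eq_zero_iff_mem]
      have h3 := hg (Multiplicative.ofAdd m)
      rw [← h3]
      exact map_smul (Ideal.Quotient.mkₐ Γ(W.left, ⊤) I) g _
    have h3 := h1 _ h2
    rw [Algebra.smul_def, map_mul, ev_algebraMap, map_sub, ev_single, map_one] at h3
    have hu : IsUnit ((toUnit Y).left.appTop g) := by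
      have h4 : (toUnit Y).left = q ≫ (T.basicOpen g).ι := by
        rw [hq]
        rfl
      rw [h4, Scheme.Hom.comp_appTop, CommRingCat.comp_apply]
      exact (isUnit_ι_appTop_basicOpen (X := T) g).map q.appTop.hom
    exact sub_eq_zero.mp (hu.mul_right_eq_zero.mp h3)

end Main

end Groth.Agent.Lib.Helper10.KerLocal
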