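import Mathlib

/-!
# Algebra for the locus where a homomorphism from a diagonalisable group is trivial

* the content ideal of an ideal of a group algebra;
* a flat descent lemma for ideals which are "independent of the chart";
* a finitely generated idempotent ideal is locally zero or locally everything.
-/

set_option autoImplicit false
set_option maxHeartbeats 4000000
universe u
open TensorProduct

namespace Groth.Agent.Lib.Helper10.TrivLoc

section Content

variable {A : Type u} [CommRing A] {G : Type} [CommGroup G]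

/-- the ideal generated by the coefficients of the elements of `I`. -/
def content (I : Ideal (MonoidAlgebra A G)) : Ideal A :=
  Ideal.span {a | ∃ z ∈ I, ∃ g, z.coeff g = a}

theorem forall_coeff_iff (I : Ideal (MonoidAlgebra A G)) {C : Type*} [CommRing C] (β : A →+* C) :
    (∀ z ∈ I, ∀ g, β (z.coeff g) = 0) ↔ ∀ a ∈ content I, β a = 0 := by
  constructor
  · intro h a ha
    have hle : content I ≤ RingHom.ker β := by
      refine Ideal.span_le.mpr ?_
      rintro _ ⟨z, hz, g, rfl⟩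
      exact h z hz g
    exact hle ha
  · intro h z hz g
    exact h _ (Ideal.subset_span ⟨z, hz, g, rfl⟩)

theorem content_fg (I : Ideal (MonoidAlgebra A G)) (hI : I.FG) : (content I).FG := by
  classical
  obtain ⟨s, hs⟩ := hI
  let c : Finset A := s.biUnion (fun z => z.coeff.support.image z.coeff)
  have hc : ∀ z ∈ s, ∀ g, z.coeff g ≠ 0 → z.coeff g ∈ c := by
    intro z hz g hg
    refine Finset.mem_biUnion.mpr ⟨z, hz, Finset.mem_image.mpr ⟨g, ?_, rfl⟩⟩
    exact Finsupp.mem_support_iff.mpr hg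
  refine ⟨c, le_antisymm ?_ ?_⟩
  · rw [Ideal.span_le]
    intro a ha
    obtain ⟨z, hz, ha'⟩ := Finset.mem_biUnion.mp ha
    obtain ⟨g, -, rfl⟩ := Finset.mem_image.mp ha'
    refine Ideal.subset_span ⟨z, ?_, g, rfl⟩
    rw [← hs]
    exact Ideal.subset_span hz
  · let π : A →+* A ⧸ Ideal.span (c : Set A) := Ideal.Quotient.mk (Ideal.span (c : Set A))
    have hker : I ≤ RingHom.ker (MonoidAlgebra.mapRingHom G π) := by
      rw [← hs, Ideal.span_le]
      intro z hz
      rw [SetLike.mem_coe, RingHom.mem_ker]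
      apply MonoidAlgebra.coeff_inj.mp
      ext g
      rw [MonoidAlgebra.coeff_mapRingHom, MonoidAlgebra.coeff_zero, Finsupp.zero_apply,
        Ideal.Quotient.eq_zero_iff_mem]
      by_cases hg : z.coeff g = 0
      · rw [hg]
        exact zero_mem _
      · exact Ideal.subset_span (hc z hz g hg)
    rw [content, Ideal.span_le]
    rintro _ ⟨z, hz, g, rfl⟩
    have h1 := hker hz
    rw [RingHom.mem_ker] at h1
    have h2 : (MonoidAlgebra.mapRingHom G π z).coeff g = 0 := by
      rw [h1]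
      rfl
    rw [MonoidAlgebra.coeff_mapRingHom] at h2
    exact Ideal.Quotient.eq_zero_iff_mem.mp h2

/-- factorisation of `liftNC` through the change of coefficients. -/
theorem liftNC_comp_mapRingHom {k R : Type*} [CommRing k] [CommRing R] (f : k →+* R)
    (χ : G →* R) :
    (MonoidAlgebra.liftNCRingHom (RingHom.id R) χ (fun _ _ => Commute.all _ _)).comp
      (MonoidAlgebra.mapRingHom G f) =
    MonoidAlgebra.liftNCRingHom f χ (fun _ _ => Commute.all _ _) := by
  refine MonoidAlgebra.ringHom_ext (fun b => ?_) (fun g => ?_)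
  · simp [MonoidAlgebra.liftNCRingHom_single]
  · simp [MonoidAlgebra.liftNCRingHom_single]

theorem liftNC_eq_zero_of_coeff {k R : Type*} [CommRing k] [CommRing R] (f : k →+* R)
    (χ : G →* R) (z : MonoidAlgebra k G) (h : ∀ g, f (z.coeff g) = 0) :
    MonoidAlgebra.liftNCRingHom f χ (fun _ _ => Commute.all _ _) z = 0 := by
  rw [← liftNC_comp_mapRingHom, RingHom.comp_apply]
  have : MonoidAlgebra.mapRingHom G f z = 0 := by
    apply MonoidAlgebra.coeff_inj.mp
    ext g
    rw [MonoidAlgebra.coeff_mapRingHom, h g]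
    rfl
  rw [this, map_zero]

end Content

section Descent

/-- **flat descent for an ideal which does not depend on the chart.** -/
theorem eq_map_comap_of_flat {R A : Type u} [CommRing R] [CommRing A] (φ : R →+* A) (hφ : φ.Flat)
    (K : Ideal A)
    (h : ∀ (C : Type u) [CommRing C] (β₁ β₂ : A →+* C), β₁.comp φ = β₂.comp φ →
      ((∀ a ∈ K, β₁ a = 0) ↔ (∀ a ∈ K, β₂ a = 0))) :
    K = Ideal.map φ (Ideal.comap φ K) := by
  algebraize [φ]
  refine le_antisymm ?_ Ideal.map_comap_le
  intro x hx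
  let K₀ : Ideal R := Ideal.comap (algebraMap R A) K
  let ιL : A →+* A ⊗[R] A := Algebra.TensorProduct.includeLeftRingHom
  let ιR : A →+* A ⊗[R] A := (Algebra.TensorProduct.includeRight : A →ₐ[R] A ⊗[R] A).toRingHom
  let KR : Ideal (A ⊗[R] A) := Ideal.map ιR K
  let β₁ : A →+* (A ⊗[R] A) ⧸ KR := (Ideal.Quotient.mk KR).comp ιL
  let β₂ : A →+* (A ⊗[R] A) ⧸ KR := (Ideal.Quotient.mk KR).comp ιR
  have hcomp : β₁.comp (algebraMap R A) = β₂.comp (algebraMap R A) := by
    refine RingHom.ext (fun r => ?_)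
    change Ideal.Quotient.mk KR ((algebraMap R A r) ⊗ₜ[R] (1 : A)) =
      Ideal.Quotient.mk KR ((1 : A) ⊗ₜ[R] (algebraMap R A r))
    rw [Algebra.algebraMap_eq_smul_one, TensorProduct.smul_tmul]
  have h2 : ∀ a ∈ K, β₂ a = 0 := fun a ha =>
    Ideal.Quotient.eq_zero_iff_mem.mpr (Ideal.mem_map_of_mem _ ha)
  have h1 := (h _ β₁ β₂ hcomp).mpr h2
  have hx1 : x ⊗ₜ[R] (1 : A) ∈ KR := Ideal.Quotient.eq_zero_iff_mem.mp (h1 x hx)
  let q : A ⊗[R] A →ₐ[R] A ⊗[R] (A ⧸ K) :=
    Algebra.TensorProduct.map (AlgHom.id R A) (Ideal.Quotient.mkₐ R K)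
  have hq : KR ≤ RingHom.ker q.toRingHom := by
    rw [Ideal.map_le_iff_le_comap]
    intro a ha
    rw [Ideal.mem_comap, RingHom.mem_ker]
    change q ((1 : A) ⊗ₜ[R] a) = 0
    rw [Algebra.TensorProduct.map_tmul, Ideal.Quotient.mkₐ_eq_mk,
      Ideal.Quotient.eq_zero_iff_mem.mpr ha, TensorProduct.tmul_zero]
  have hx2 : x ⊗ₜ[R] (1 : A ⧸ K) = 0 := by
    have h3 := hq hx1
    rw [RingHom.mem_ker] at h3
    change q (x ⊗ₜ[R] (1 : A)) = 0 at h3
    rw [Algebra.TensorProduct.map_tmul, map_one] at h3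
    exact h3
  -- the injection `R/K₀ → A/K`
  have hj0 : ∀ a ∈ K₀, (Algebra.ofId R (A ⧸ K)) a = 0 := by
    intro a ha
    change algebraMap R (A ⧸ K) a = 0
    rw [IsScalarTower.algebraMap_apply R A (A ⧸ K), Ideal.Quotient.algebraMap_eq,
      Ideal.Quotient.eq_zero_iff_mem]
    exact ha
  let j : (R ⧸ K₀) →ₐ[R] (A ⧸ K) := Ideal.Quotient.liftₐ K₀ (Algebra.ofId R (A ⧸ K)) hj0
  have hj : Function.Injective j.toLinearMap := by
    change Function.Injective (Ideal.Quotient.lift K₀ (Algebra.ofId R (A ⧸ K)).toRingHom hj0)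
    refine RingHom.lift_injective_of_ker_le_ideal K₀ hj0 ?_
    intro a ha
    rw [RingHom.mem_ker] at ha
    change algebraMap R (A ⧸ K) a = 0 at ha
    rw [IsScalarTower.algebraMap_apply R A (A ⧸ K), Ideal.Quotient.algebraMap_eq,
      Ideal.Quotient.eq_zero_iff_mem] at ha
    exact ha
  haveI : Module.Flat R A := hφ
  have hinj := Module.Flat.lTensor_preserves_injective_linearMap (M := A) j.toLinearMap hj
  have hx3 : x ⊗ₜ[R] (1 : R ⧸ K₀) = 0 := by
    apply hinj
    rw [LinearMap.lTensor_tmul, map_zero]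
    change x ⊗ₜ[R] j 1 = 0
    rw [map_one]
    exact hx2
  -- back to the quotient
  let P := A ⧸ Ideal.map (algebraMap R A) K₀
  have hf0 : ∀ a ∈ K₀, (Algebra.ofId R P) a = 0 := by
    intro a ha
    change algebraMap R P a = 0
    rw [IsScalarTower.algebraMap_apply R A P, Ideal.Quotient.algebraMap_eq,
      Ideal.Quotient.eq_zero_iff_mem]
    exact Ideal.mem_map_of_mem _ ha
  let f₂ : (R ⧸ K₀) →ₐ[R] P := Ideal.Quotient.liftₐ K₀ (Algebra.ofId R P) hf0
  let pm : A ⊗[R] (R ⧸ K₀) →ₐ[R] P :=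
    Algebra.TensorProduct.productMap (Ideal.Quotient.mkₐ R (Ideal.map (algebraMap R A) K₀)) f₂
  have hpm : pm (x ⊗ₜ[R] (1 : R ⧸ K₀)) = Ideal.Quotient.mk _ x := by
    rw [Algebra.TensorProduct.productMap_apply_tmul, map_one, mul_one, Ideal.Quotient.mkₐ_eq_mk]
  rw [hx3, map_zero] at hpm
  exact Ideal.Quotient.eq_zero_iff_mem.mp hpm.symm

end Descent

section Nakayama

theorem exists_annihilator_of_idem {A : Type*} [CommRing A] (K : Ideal A) (hfg : K.FG)
    (hK : K ≤ K * K) (p : Ideal A) [hp : p.IsPrime] (hKp : K ≤ p) :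
    ∃ r : A, r ∉ p ∧ ∀ a ∈ K, r * a = 0 := by
  obtain ⟨r, hr1, hr2⟩ :=
    Submodule.exists_sub_one_mem_and_smul_eq_zero_of_fg_of_le_smul K K hfg (by
      rw [smul_eq_mul]
      exact hK)
  refine ⟨r, fun hrp => ?_, fun a ha => hr2 a ha⟩
  have h1 : (1 : A) ∈ p := by
    have := p.sub_mem hrp (hKp hr1)
    simpa using this
  exact hp.ne_top ((Ideal.eq_top_iff_one _).mpr h1)

end Nakayama

end Groth.Agent.Lib.Helper10.TrivLoc
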