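import Mathlib
import Groth.Prelude.Def_SGA3x
import Groth.Prelude.Def_AlgGrp
import Groth.Agent.Lib.Helper10.KerLocal
import Groth.Agent.Lib.Helper10.DiagAdditive
import Groth.Agent.Lib.Helper10.TrivLoc1
import Groth.Agent.Lib.Helper14.LfpOfComp

/-!
# The locus where a homomorphism `D_T(M) ⟶ G` into a separated group is trivial: the representing
ideal
-/

set_option autoImplicit false
set_option backward.isDefEq.respectTransparency.types false
set_option maxHeartbeats 4000000
set_option synthInstance.maxHeartbeats 400000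
universe u
open CategoryTheory CategoryTheory.Limits AlgebraicGeometry MonoidalCategory
  CartesianMonoidalCategory MonObj GrpObj

namespace Groth.Agent.Lib.Helper10.TrivLoc

open Groth.Agent.Lib.Helper21.GaPts Groth.Agent.Lib.Helper10.DiagHom
  Groth.Agent.Lib.Helper10.TrivAct Groth.Agent.Lib.Helper10.KerIdeal
  Groth.Agent.Lib.Helper10.KerTriv Groth.Agent.Lib.Helper10.KerLocal
  Groth.Agent.Lib.Helper10.HomFamBC Groth.Agent.Lib.Helper10.DiagAdditive

section Transl

variable {S : Scheme.{u}} {G H : Over S} [GrpObj G] [GrpObj H] (u : G ⟶ H) [IsMonHom u]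

/-- `(g, h) ↦ u(g) h`. -/
noncomputable def translAct : G ⊗ H ⟶ H := (fst G H ≫ u) * snd G H

theorem lift_translAct {Y : Over S} (g : Y ⟶ G) (h : Y ⟶ H) :
    lift g h ≫ translAct u = (g ≫ u) * h := by
  rw [translAct, MonObj.comp_mul, ← Category.assoc, lift_fst, lift_snd]

theorem comp_translAct {Z : Over S} (f : Z ⟶ G ⊗ H) :
    f ≫ translAct u = ((f ≫ fst _ _) ≫ u) * (f ≫ snd _ _) := by
  rw [← lift_translAct, lift_comp_fst_snd]

/-- the translation action through `u`. -/
noncomputable def translAction : AlgGrp.Action G H where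
  act := translAct u
  one_act := by
    rw [comp_translAct, whiskerRight_fst, whiskerRight_snd, Category.assoc, IsMonHom.one_hom]
    have h1 : fst (𝟙_ (Over S)) H ≫ η[H] = 1 := by
      rw [Hom.one_def]
      congr 1
    rw [h1, _root_.one_mul]
    exact (leftUnitor_hom H).symm
  mul_act := by
    rw [comp_translAct, whiskerRight_fst, whiskerRight_snd, ← Category.assoc,
      comp_translAct u ((α_ G G H).hom ≫ (G ◁ translAct u))]
    have e1 : ((α_ G G H).hom ≫ (G ◁ translAct u)) ≫ fst G H = fst (G ⊗ G) H ≫ fst G G := by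
      rw [Category.assoc, whiskerLeft_fst, associator_hom_fst]
    have e2 : ((α_ G G H).hom ≫ (G ◁ translAct u)) ≫ snd G H =
        ((α_ G G H).hom ≫ snd G (G ⊗ H)) ≫ translAct u := by
      rw [Category.assoc, whiskerLeft_snd, Category.assoc]
    rw [e1, e2, comp_translAct u ((α_ G G H).hom ≫ snd G (G ⊗ H))]
    have e3 : ((α_ G G H).hom ≫ snd G (G ⊗ H)) ≫ fst G H = fst (G ⊗ G) H ≫ snd G G := by
      rw [Category.assoc, associator_hom_snd_fst]
    have e4 : ((α_ G G H).hom ≫ snd G (G ⊗ H)) ≫ snd G H = snd (G ⊗ G) H := by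
      rw [Category.assoc, associator_hom_snd_snd]
    rw [e3, e4]
    have e5 : fst (G ⊗ G) H ≫ μ[G] = (fst (G ⊗ G) H ≫ fst G G) * (fst (G ⊗ G) H ≫ snd G G) := by
      rw [Hom.mul_def, lift_comp_fst_snd]
    rw [e5, MonObj.mul_comp, _root_.mul_assoc]

end Transl

section EqOn

variable {S : Scheme.{u}} {H G : Over S} [GrpObj H] [GrpObj G] (u : H ⟶ G)

theorem eqOn_one_iff {T : Scheme.{u}} (g : T ⟶ S) :
    EqOn u 1 g ↔ ∀ (Y : Over S) (q : Y.left ⟶ T), q ≫ g = Y.hom → ∀ x : Y ⟶ H, x ≫ u = 1 := by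
  constructor
  · intro h Y q hq x
    rw [h Y q hq x, MonObj.comp_one]
  · intro h Y q hq x
    rw [h Y q hq x, MonObj.comp_one]

/-- triviality of the base change, in terms of points. -/
theorem pullback_map_eq_one_iff {T : Scheme.{u}} (g : T ⟶ S) :
    (Over.pullback g).map u = 1 ↔ EqOn u 1 g := by
  rw [eqOn_one_iff]
  constructor
  · intro h Y₁
    obtain ⟨Yl, ⟨⟨⟩⟩, Yh⟩ := Y₁
    intro (q : Yl ⟶ T) (hq : q ≫ g = Yh) x
    subst hq
    let x' : (Over.map g).obj (Over.mk q) ⟶ H := x
    have h1 : tr g (trInv g x' ≫ (Over.pullback g).map u) = tr g (trInv g x') ≫ u :=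
      tr_comp_map g _ u
    rw [tr_trInv, h, MonObj.comp_one, tr_one'] at h1
    exact h1.symm
  · intro h
    apply tr_injective g
    have h1 : tr g (𝟙 (Red.bc g H) ≫ (Over.pullback g).map u) = tr g (𝟙 (Red.bc g H)) ≫ u :=
      tr_comp_map g _ u
    rw [Category.id_comp] at h1
    rw [h1, tr_one']
    exact h ((Over.map g).obj (Red.bc g H)) (Red.bc g H).hom rfl _

/-- transfer to a chart. -/
theorem eqOn_chart_iff {T T' : Scheme.{u}} (g₁ : T ⟶ S) {D : Over T} [GrpObj D]
    (e : Red.bc g₁ H ≅ D) (b : T' ⟶ T) :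
    EqOn u 1 (b ≫ g₁) ↔ EqOn (e.inv ≫ (Over.pullback g₁).map u) 1 b := by
  rw [eqOn_one_iff, eqOn_one_iff]
  constructor
  · intro h Y q hq x
    apply tr_injective g₁
    rw [tr_one', ← Category.assoc, tr_comp_map]
    exact h ((Over.map g₁).obj Y) q (by
      change q ≫ b ≫ g₁ = Y.hom ≫ g₁
      rw [← Category.assoc, hq]) _
  · intro h Y₁
    obtain ⟨Yl, ⟨⟨⟩⟩, Yh⟩ := Y₁
    intro (q : Yl ⟶ T') (hq : q ≫ b ≫ g₁ = Yh) x
    have hq' : (q ≫ b) ≫ g₁ = Yh := by rw [Category.assoc]; exact hq
    subst hq'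
    let x' : (Over.map g₁).obj (Over.mk (q ≫ b)) ⟶ H := x
    have h1 := h (Over.mk (q ≫ b)) q rfl (trInv g₁ x' ≫ e.hom)
    rw [Category.assoc, Iso.hom_inv_id_assoc] at h1
    have h2 := congrArg (tr g₁) h1
    rw [tr_comp_map, tr_trInv, tr_one'] at h2
    exact h2

end EqOn

section Kernel

variable {T : Scheme.{u}} (M : Type) [AddCommGroup M] (W : Over T) [IsAffine W.left]

/-- **the kernel is closed, and of finite presentation if the group is.** -/
theorem exists_kernel_ideal_fg {G : Over T} [GrpObj G] [IsSeparated G.hom]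
    (φ : Red.DS T M ⊗ W ⟶ G) :
    ∃ I : Ideal (MonoidAlgebra Γ(W.left, ⊤) (Multiplicative M)),
      (LocallyOfFinitePresentation G.hom → I.FG) ∧
      ∀ (Y : Over T) (δ : Y ⟶ Red.DS T M) (t : Y ⟶ W),
        lift δ t ≫ φ = 1 ↔ ∀ z ∈ I, ev M W δ t z = 0 := by
  let φ' : specOver W (algB M W) ⟶ G := univPt M W ≫ φ
  have hη : η[G].left ≫ G.hom = 𝟙 T := by
    have := Over.w η[G]
    exact this
  haveI : IsClosedImmersion η[G].left := by
    haveI : IsIso (η[G].left ≫ G.hom) := by
      rw [hη]
      exact IsIso.id T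
    haveI : IsClosedImmersion (η[G].left ≫ G.hom) := inferInstance
    exact IsClosedImmersion.of_comp η[G].left G.hom
  let i : pullback φ'.left η[G].left ⟶ Spec (BG M W) := pullback.fst φ'.left η[G].left
  haveI : IsClosedImmersion i := inferInstanceAs (IsClosedImmersion (pullback.fst φ'.left η[G].left))
  obtain ⟨I, e, hi⟩ := IsClosedImmersion.Spec_iff.mp (inferInstance : IsClosedImmersion i)
  refine ⟨I, ?_, fun Y δ t => ?_⟩
  · intro hfp
    haveI := hfp
    haveI : LocallyOfFinitePresentation η[G].left := by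
      refine Groth.Agent.Lib.Helper14.AS.locallyOfFinitePresentation_of_comp η[G].left G.hom ?_
        inferInstance
      rw [hη]
      exact locallyOfFinitePresentation_of_isOpenImmersion (𝟙 T)
    haveI : LocallyOfFinitePresentation i :=
      inferInstanceAs (LocallyOfFinitePresentation (pullback.fst φ'.left η[G].left))
    have hei : e.inv ≫ i = Spec.map (CommRingCat.ofHom (Ideal.Quotient.mk I)) := by
      rw [hi, Iso.inv_hom_id_assoc]
    have h1 : LocallyOfFinitePresentation (Spec.map (CommRingCat.ofHom (Ideal.Quotient.mk I))) := by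
      rw [← hei]
      infer_instance
    rw [LocallyOfFinitePresentation.SpecMap_iff] at h1
    have h2 : (Ideal.Quotient.mk I).FinitePresentation := h1
    letI : Algebra (MonoidAlgebra Γ(W.left, ⊤) (Multiplicative M))
        (MonoidAlgebra Γ(W.left, ⊤) (Multiplicative M) ⧸ I) := (Ideal.Quotient.mk I).toAlgebra
    haveI : Algebra.FinitePresentation (MonoidAlgebra Γ(W.left, ⊤) (Multiplicative M))
        (MonoidAlgebra Γ(W.left, ⊤) (Multiplicative M) ⧸ I) := h2
    have h3 := Algebra.FinitePresentation.ker_fG_of_surjective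
      (Algebra.ofId (MonoidAlgebra Γ(W.left, ⊤) (Multiplicative M))
        (MonoidAlgebra Γ(W.left, ⊤) (Multiplicative M) ⧸ I)) Ideal.Quotient.mk_surjective
    have h4 : RingHom.ker (Algebra.ofId (MonoidAlgebra Γ(W.left, ⊤) (Multiplicative M))
        (MonoidAlgebra Γ(W.left, ⊤) (Multiplicative M) ⧸ I)).toRingHom = I := Ideal.mk_ker
    rw [h4] at h3
    exact h3
  let cl : Y.left ⟶ Spec (BG M W) := (lift δ t ≫ rho M W).left
  have hcl : cl ≫ φ'.left = (lift δ t ≫ φ).left := by
    change (lift δ t ≫ rho M W).left ≫ (univPt M W ≫ φ).left = _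
    rw [← Over.comp_left, Category.assoc, ← Category.assoc (rho M W), rho_univPt,
      Category.id_comp]
  have hev : evalHom cl = ev M W δ t := evalHom_classify M W δ t
  constructor
  · intro h z hz
    have h1 : cl ≫ φ'.left = Y.hom ≫ η[G].left := by rw [hcl, h, one_left]
    let l : Y.left ⟶ pullback φ'.left η[G].left := pullback.lift cl Y.hom h1
    have hl : l ≫ i = cl := pullback.lift_fst _ _ _
    rw [← hev, ← hl, hi, ← Category.assoc, evalHom_specMap_apply,
      Ideal.Quotient.eq_zero_iff_mem.mpr hz, map_zero]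
  · intro h
    let y : (MonoidAlgebra Γ(W.left, ⊤) (Multiplicative M)) ⧸ I →+* Γ(Y.left, ⊤) :=
      Ideal.Quotient.lift I (ev M W δ t) h
    have hcl' : cl = ofRingHom y ≫ Spec.map (CommRingCat.ofHom (Ideal.Quotient.mk I)) := by
      apply evalHom_injective
      rw [evalHom_specMap, evalHom_ofRingHom, hev]
      exact (Ideal.Quotient.lift_comp_mk I (ev M W δ t) h).symm
    have hei : e.inv ≫ i = Spec.map (CommRingCat.ofHom (Ideal.Quotient.mk I)) := by
      rw [hi, Iso.inv_hom_id_assoc]
    let v : Y.left ⟶ T := (ofRingHom y ≫ e.inv) ≫ pullback.snd φ'.left η[G].left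
    have h2 : (lift δ t ≫ φ).left = v ≫ η[G].left := by
      rw [← hcl, hcl', ← hei]
      have hc : i ≫ φ'.left = pullback.snd φ'.left η[G].left ≫ η[G].left := pullback.condition
      simp only [Category.assoc, v]
      rw [hc]
    have h3 : v = Y.hom := by
      have h4 := Over.w (lift δ t ≫ φ)
      rw [h2, Category.assoc, hη, Category.comp_id] at h4
      exact h4
    apply Over.OverMorphism.ext
    rw [h2, h3, one_left]

end Kernel

section Rep

variable {T : Scheme.{u}} [IsAffine T] (M : Type) [AddCommGroup M]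
  {G : Over T} [GrpObj G] [IsSeparated G.hom] (u : Red.DS T M ⟶ G) [IsMonHom u]

/-- **the representing ideal** of the functor "`u` is trivial". -/
theorem exists_rep :
    ∃ K : Ideal Γ(T, ⊤), (LocallyOfFinitePresentation G.hom → K.FG) ∧
      ∀ (C : CommRingCat.{u}) (β : Γ(T, ⊤) ⟶ C),
        EqOn u 1 (Spec.map β ≫ T.isoSpec.inv) ↔ ∀ a ∈ K, β a = 0 := by
  classical
  let W : Over T := 𝟙_ (Over T)
  haveI hWaff : IsAffine W.left := ‹IsAffine T›
  have hW : W.hom = 𝟙 _ := rfl
  obtain ⟨I, hIfg, hI⟩ := exists_kernel_ideal_fg M W (fst (Red.DS T M) W ≫ u)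
  have hK : ∀ (Y : Over T) (δ : Y ⟶ Red.DS T M) (t' : Y ⟶ W),
      δ ≫ u = 1 ↔ ∀ z ∈ I, ev M W δ t' z = 0 := by
    intro Y δ t'
    rw [← hI Y δ t', lift_fst_assoc]
  refine ⟨content I, fun h => content_fg I (hIfg h), fun C β => ?_⟩
  refine Iff.trans ?_ (forall_coeff_iff I β.hom)
  rw [eqOn_one_iff]
  constructor
  · intro hE z hz m
    -- the universal character over `C[M]`
    let C' : CommRingCat.{u} := CommRingCat.of (MonoidAlgebra C (Multiplicative M))
    let inc : C ⟶ C' := CommRingCat.ofHom (algebraMap C (MonoidAlgebra C (Multiplicative M)))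
    let β' : Γ(W.left, ⊤) ⟶ C' := β ≫ inc
    let χ : Multiplicative M →* C' := MonoidAlgebra.of C (Multiplicative M)
    let δ : specOver W β' ⟶ Red.DS T M := dsPt (S := T) (X := specOver W β') (chr (C := C') χ)
    have hq : Spec.map inc ≫ Spec.map β ≫ T.isoSpec.inv = (specOver W β').hom := by
      change _ = Spec.map (β ≫ inc) ≫ W.left.isoSpec.inv ≫ W.hom
      rw [hW, Category.comp_id, Spec.map_comp, Category.assoc]
      rfl
    have h1 : δ ≫ u = 1 := hE (specOver W β') (Spec.map inc) hq δ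
    have h2 := (hK _ δ (specOverT W β')).mp h1 z hz
    rw [ev_spec_eq_zero_iff] at h2
    have h3 : MonoidAlgebra.liftNCRingHom β'.hom χ (fun _ _ => Commute.all _ _) =
        MonoidAlgebra.mapRingHom (Multiplicative M) β.hom := liftNC_mapRingHom β.hom
    rw [h3] at h2
    have h4 : (MonoidAlgebra.mapRingHom (Multiplicative M) β.hom z).coeff m = 0 := by
      rw [h2]
      rfl
    rw [MonoidAlgebra.coeff_mapRingHom] at h4
    exact h4
  · intro hβ Y q hq x
    rw [hK Y x (toUnit Y)]
    intro z hz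
    rw [ev]
    refine liftNC_eq_zero_of_coeff _ _ z (fun m => ?_)
    have h1 : (toUnit Y).left = q ≫ (specOverT W β).left := by
      have h2 : (toUnit Y).left = Y.hom :=
        (Category.comp_id _).symm.trans (Over.w (toUnit Y))
      rw [h2, ← hq]
      rfl
    have hz0 : (Scheme.ΓSpecIso C).hom (0 : Γ(Spec C, ⊤)) = 0 :=
      map_zero (Scheme.ΓSpecIso C).hom.hom
    have h3 : (specOverT W β).left.appTop (z.coeff m) = 0 := by
      apply ΓSpecIso_hom_injective C
      rw [specOverT_appTop]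
      exact (hβ z hz m).trans hz0.symm
    have h4 : (q ≫ (specOverT W β).left).appTop (z.coeff m) =
        q.appTop ((specOverT W β).left.appTop (z.coeff m)) := by
      rw [Scheme.Hom.comp_appTop]
      rfl
    change (toUnit Y).left.appTop (z.coeff m) = 0
    rw [h1]
    exact h4.trans ((congrArg (fun y => q.appTop y) h3).trans (map_zero q.appTop.hom))

end Rep

end Groth.Agent.Lib.Helper10.TrivLoc
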