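import Mathlib
import Groth.Prelude.Def_AlgGrp
import Groth.Agent.Lib.Helper10.HomSp1
import Groth.Agent.Lib.Helper10.FlatPt1
import Groth.Agent.Lib.Helper10.TrivLoc2

/-!
# Homogeneity of flatness for equivariant maps out of a flat group scheme (SGA3 VI_B 1.3)
-/

set_option autoImplicit false
set_option backward.isDefEq.respectTransparency.types false
set_option maxHeartbeats 4000000
set_option synthInstance.maxHeartbeats 400000
universe u
open CategoryTheory CategoryTheory.Limits AlgebraicGeometry MonoidalCategory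
  CartesianMonoidalCategory MonObj GrpObj

namespace Groth.Agent.Lib.Helper10.FlatPt

open Groth.Agent.Lib.Helper10.HomSp

section General

/-- points of a pullback square of schemes. -/
theorem exists_preimage_of_isPullback {X Y X' Y' : Scheme.{u}} {p : X' ⟶ X} {f' : X' ⟶ Y'}
    {f : X ⟶ Y} {q : Y' ⟶ Y} (hsq : IsPullback p f' f q) (x : X) (y' : Y') (h : f x = q y') :
    ∃ x' : X', p x' = x ∧ f' x' = y' := by
  obtain ⟨w, hw1, hw2⟩ := Scheme.Pullback.exists_preimage_pullback (f := f) (g := q) x y' h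
  refine ⟨hsq.isoPullback.inv w, ?_, ?_⟩
  · rw [← Scheme.Hom.comp_apply, hsq.isoPullback_inv_fst, hw1]
  · rw [← Scheme.Hom.comp_apply, hsq.isoPullback_inv_snd, hw2]

end General

variable {S : Scheme.{u}} {G X : Over S} [GrpObj G] (a : AlgGrp.Action G X) (φ : G ⟶ X)

theorem lift_comp_mul {T : Over S} (p q : T ⟶ G) : lift p q ≫ μ[G] = p * q := by
  rw [Hom.mul_def]

theorem isPullback_mul_act
    (hφ : ∀ {T : Over S} (g g' : T ⟶ G), (g * g') ≫ φ = smul a g (g' ≫ φ)) :
    IsPullback μ[G] (G ◁ φ) φ a.act := by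
  have hw : μ[G] ≫ φ = (G ◁ φ) ≫ a.act := by
    have h1 : μ[G] = fst G G * snd G G := by
      rw [Hom.mul_def, lift_fst_snd, Category.id_comp]
    rw [h1, hφ]
    unfold smul
    congr 1
  refine isPullback_of_lift _ _ _ _ hw
    (fun α β _ => lift (β ≫ fst G X) ((β ≫ fst G X)⁻¹ * α)) ?_ ?_ ?_
  · intro W α β h
    rw [lift_comp_mul, mul_inv_cancel_left]
  · intro W α β h
    have h2 : β ≫ a.act = smul a (β ≫ fst G X) (β ≫ snd G X) := by
      unfold smul
      rw [lift_comp_fst_snd]
    apply CartesianMonoidalCategory.hom_ext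
    · rw [Category.assoc, whiskerLeft_fst, lift_fst]
    · rw [Category.assoc, whiskerLeft_snd, ← Category.assoc, lift_snd, hφ, h, h2, HomSp.inv_smul_smul]
  · intro W m m' e1 e2
    have hf : m ≫ fst G G = m' ≫ fst G G := by
      have := congrArg (fun ψ => ψ ≫ fst G X) e2
      simpa using this
    have hm : ∀ n : W ⟶ G ⊗ G, n ≫ μ[G] = (n ≫ fst G G) * (n ≫ snd G G) := by
      intro n
      rw [← lift_comp_mul, lift_comp_fst_snd]
    rw [hm, hm, hf] at e1
    apply CartesianMonoidalCategory.hom_ext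
    · exact hf
    · exact mul_left_cancel e1

theorem flat_act [Flat G.hom] : Flat a.act.left := by
  have h1 : actT a (𝟙 G) ≫ snd G X = a.act := by
    rw [actT_snd_eq, id_whiskerRight, Category.id_comp]
  rw [← h1, Over.comp_left]
  haveI : IsIso (actT a (𝟙 G)).left :=
    inferInstanceAs (IsIso ((Over.forget _).map (actT a (𝟙 G))))
  haveI : Flat (snd G X).left := by
    rw [Over.snd_left]
    infer_instance
  infer_instance

/-- **Homogeneity of flatness**: if `φ : G ⟶ X` is `G`-equivariant (for left translation on `G`)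
and `G` is flat over `S`, then flatness of `φ` at a point propagates to all the points of `G`
over the same point of `S`. -/
theorem flatAt_homogeneous [Flat G.hom]
    (hφ : ∀ {T : Over S} (g g' : T ⟶ G), (g * g') ≫ φ = smul a g (g' ≫ φ))
    (g₀ g₁ : G.left) (hs : G.hom g₀ = G.hom g₁)
    (h : (φ.left.stalkMap g₀).hom.Flat) : (φ.left.stalkMap g₁).hom.Flat := by
  have sq1 : IsPullback (snd G G).left (G ◁ φ).left φ.left (snd G X).left :=
    ((isPullback_whiskerLeft_snd G φ).flip).map (Over.forget S)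
  have sq2 : IsPullback μ[G].left (G ◁ φ).left φ.left a.act.left :=
    (isPullback_mul_act a φ hφ).map (Over.forget S)
  let θ : G ⊗ G ⟶ G ⊗ G := lift (snd G G * (fst G G)⁻¹) (fst G G)
  have hθ1 : θ ≫ snd G G = fst G G := lift_snd _ _
  have hθ2 : θ ≫ μ[G] = snd G G := by
    rw [lift_comp_mul, inv_mul_cancel_right]
  obtain ⟨w, hw1, hw2⟩ :=
    Scheme.Pullback.exists_preimage_pullback (f := G.hom) (g := G.hom) g₀ g₁ hs
  let w' : (G ⊗ G).left := w
  have hw1' : (fst G G).left w' = g₀ := hw1
  have hw2' : (snd G G).left w' = g₁ := hw2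
  let z : (G ⊗ G).left := θ.left w'
  have hz1 : (snd G G).left z = g₀ := by
    have := congrArg (fun ψ => ψ.left w') hθ1
    simp only [Over.comp_left, Scheme.Hom.comp_apply] at this
    rw [← hw1']
    exact this
  have hz2 : μ[G].left z = g₁ := by
    have := congrArg (fun ψ => ψ.left w') hθ2
    simp only [Over.comp_left, Scheme.Hom.comp_apply] at this
    rw [← hw2']
    exact this
  have h1 : ((G ◁ φ).left.stalkMap z).hom.Flat := by
    apply flatAt_of_isPullback sq1 z
    rw [hz1]
    exact h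
  haveI : Flat a.act.left := flat_act a
  have h2 := flatAt_descent sq2 z h1
  rw [hz2] at h2
  exact h2

theorem flat_of_flatAt [Flat G.hom] [Subsingleton S]
    (hφ : ∀ {T : Over S} (g g' : T ⟶ G), (g * g') ≫ φ = smul a g (g' ≫ φ))
    (g₀ : G.left) (h : (φ.left.stalkMap g₀).hom.Flat) : Flat φ.left := by
  rw [Flat.iff_flat_stalkMap]
  intro g₁
  exact flatAt_homogeneous a φ hφ g₀ g₁ (Subsingleton.elim _ _) h

section Orbit

theorem orbitMap_equivariant (s₀ : 𝟙_ (Over S) ⟶ X) {T : Over S} (g g' : T ⟶ G) :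
    (g * g') ≫ a.orbitMap s₀ = smul a g (g' ≫ a.orbitMap s₀) := by
  have h0 : ∀ {T : Over S} (g : T ⟶ G), g ≫ a.orbitMap s₀ = smul a g (toUnit T ≫ s₀) := by
    intro T g
    unfold AlgGrp.Action.orbitMap smul
    rw [← Category.assoc, comp_lift, Category.comp_id, ← Category.assoc]
    congr 3
    exact toUnit_unique _ _
  rw [h0, h0, HomSp.mul_smul]

end Orbit

section Hom

variable {H : Over S} [GrpObj H] (u : G ⟶ H) [IsMonHom u]

open Groth.Agent.Lib.Helper10.TrivLoc in
theorem hom_equivariant {T : Over S} (g g' : T ⟶ G) :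
    (g * g') ≫ u = smul (translAction u) g (g' ≫ u) := by
  unfold smul
  change _ = lift g (g' ≫ u) ≫ translAct u
  rw [lift_translAct, MonObj.mul_comp]

end Hom

end Groth.Agent.Lib.Helper10.FlatPt
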