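import Mathlib
import Groth.Agent.Lib.Helper24.QuotBridge
import Groth.Agent.Lib.Helper24.DescBridge
import Groth.Agent.Lib.Helper24.QuotFlat
import Groth.Agent.Lib.Helper14.AlgSpBase
import Groth.Agent.Lib.Helper14.FppfLocalInst
import Groth.Agent.Lib.Helper10.FlatPt2

/-!
# Bridge between `QuotSh` (fppf quotient sheaves) and schemes:
epimorphisms of representable sheaves have fppf-local sections; flatness is fppf local on the
target; effectivity of equivalence relations
-/

set_option autoImplicit false
set_option backward.isDefEq.respectTransparency.types false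
set_option maxHeartbeats 4000000
set_option synthInstance.maxHeartbeats 400000
universe u
open CategoryTheory CategoryTheory.Limits AlgebraicGeometry Opposite

namespace Groth.Agent.Lib.Helper10.QuotShBr

open AlgSp QuotSh Groth.Agent.Lib.Helper14.AS Groth.Agent.Lib.Helper24.QuotBridge
  Groth.Agent.Lib.Helper24.DescBridge

variable {S : Scheme.{u}}

/-- flatness satisfies fppf descent -/
instance flat_descendsAlong :
    MorphismProperty.DescendsAlong (@Flat.{u})
      (@Surjective ⊓ @Flat ⊓ @LocallyOfFinitePresentation) where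
  of_isPullback {A X Y Z fst snd f g} h hf hfst := by
    obtain ⟨⟨hs, hfl⟩, -⟩ := hf
    haveI := hfl
    rw [Flat.iff_flat_stalkMap]
    intro y
    obtain ⟨x, hx⟩ := f.surjective (g y)
    obtain ⟨a, ha1, ha2⟩ := Groth.Agent.Lib.Helper10.FlatPt.exists_preimage_of_isPullback h x y hx
    have h1 : (fst.stalkMap a).hom.Flat := Flat.stalkMap fst a
    have h2 := Groth.Agent.Lib.Helper10.FlatPt.flatAt_descent h.flip a h1
    rwa [ha2] at h2

instance flat_fppf : MorphismProperty.IsLocalAtTarget (@Flat.{u}) Scheme.fppfPrecoverage :=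
  Groth.Agent.Lib.Helper14.FL.isLocalAtTarget_fppf _

theorem repMap_eq {A B : Over S} (k : A ⟶ B) :
    QuotSh.repMap Scheme.fppfPrecoverage k =
      (QuotSh.repIsoUliftYoneda Scheme.fppfPrecoverage A).hom ≫ (AlgSp.yon S).map k ≫
        (QuotSh.repIsoUliftYoneda Scheme.fppfPrecoverage B).inv := by
  rw [← Category.assoc, ← repIso_hom_naturality k, Category.assoc, Iso.hom_inv_id,
    Category.comp_id]

theorem epi_repMap_iff {A B : Over S} (k : A ⟶ B) :
    Epi (QuotSh.repMap Scheme.fppfPrecoverage k) ↔ Epi ((AlgSp.yon S).map k) := by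
  rw [repMap_eq]
  constructor
  · intro h
    have e : (AlgSp.yon S).map k =
        (QuotSh.repIsoUliftYoneda Scheme.fppfPrecoverage A).inv ≫
          ((QuotSh.repIsoUliftYoneda Scheme.fppfPrecoverage A).hom ≫ (AlgSp.yon S).map k ≫
            (QuotSh.repIsoUliftYoneda Scheme.fppfPrecoverage B).inv) ≫
          (QuotSh.repIsoUliftYoneda Scheme.fppfPrecoverage B).hom := by
      simp
    rw [e]
    infer_instance
  · intro h
    infer_instance

theorem epi_repMap_of_fppf {A B : Over S} (k : A ⟶ B) [Flat k.left]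
    [Surjective k.left] [LocallyOfFinitePresentation k.left] :
    Epi (QuotSh.repMap Scheme.fppfPrecoverage k) :=
  (epi_repMap_iff k).mpr (epi_yon_map_of_fppf k)

/-- an epimorphism of representable fppf sheaves has sections fppf locally -/
theorem exists_cover_lift_of_epi {U M : Over S} (q : U ⟶ M) (h : Epi ((AlgSp.yon S).map q)) :
    ∃ R ∈ KS S M, ∀ ⦃W : Over S⦄ (w : W ⟶ M), R w → ∃ l : W ⟶ U, l ≫ q = w := by
  haveI : Sheaf.IsLocallySurjective ((AlgSp.yon S).map q) :=
    (Sheaf.isLocallySurjective_iff_epi _).2 h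
  obtain ⟨R, hR, hl⟩ := exists_cover_lift ((AlgSp.yon S).map q) (𝟙 ((AlgSp.yon S).obj M))
  refine ⟨R, hR, fun W w hw => ?_⟩
  obtain ⟨l, hl'⟩ := hl w hw
  obtain ⟨l₀, rfl⟩ := (AlgSp.yon S).map_surjective l
  refine ⟨l₀, ?_⟩
  apply (AlgSp.yon S).map_injective
  rw [Functor.map_comp, hl', Category.comp_id]

/-- members of an fppf covering are flat and locally of finite presentation -/
theorem flat_lfp_of_mem_KS {M : Over S} {R : Presieve M} (hR : R ∈ KS S M) ⦃W : Over S⦄
    (w : W ⟶ M) (hw : R w) : Flat w.left ∧ LocallyOfFinitePresentation w.left := by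
  rw [Precoverage.mem_comap_iff] at hR
  have h2 := hR.2
  have : (Presieve.map (Over.forget S) R) ((Over.forget S).map w) := Presieve.map.of hw
  exact h2 this

end Groth.Agent.Lib.Helper10.QuotShBr
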