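import Groth.Prelude.Def_Grpd

/-!
# T-point calculus for groupoid schemes (`Grpd.GroupoidScheme`)

`pc G α β h` is the composite `α ∘ β` of two `T`-points of `R` with `s α = t β`.
-/

set_option autoImplicit false
universe u

namespace Groth.Agent.Lib.Helper10.GrpdPts

open CategoryTheory CategoryTheory.Limits AlgebraicGeometry Grpd

variable {S : Scheme.{u}} (G : GroupoidScheme S)

/-- Composition of `T`-points. -/
noncomputable def pc {T : Scheme.{u}} (α β : T ⟶ G.R) (h : α ≫ G.s = β ≫ G.t) : T ⟶ G.R :=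
  pullback.lift α β h ≫ G.c

variable {G}

lemma pc_congr {T : Scheme.{u}} {α α' β β' : T ⟶ G.R} (h : α ≫ G.s = β ≫ G.t)
    (hα : α = α') (hβ : β = β') :
    pc G α β h = pc G α' β' (by subst hα hβ; exact h) := by
  subst hα hβ; rfl

@[simp] lemma pc_s {T : Scheme.{u}} (α β : T ⟶ G.R) (h : α ≫ G.s = β ≫ G.t) :
    pc G α β h ≫ G.s = β ≫ G.s := G.comp_s α β h

@[simp] lemma pc_t {T : Scheme.{u}} (α β : T ⟶ G.R) (h : α ≫ G.s = β ≫ G.t) :
    pc G α β h ≫ G.t = α ≫ G.t := G.comp_t α β h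

lemma pc_assoc {T : Scheme.{u}} (α β γ : T ⟶ G.R) (h₁ : α ≫ G.s = β ≫ G.t)
    (h₂ : β ≫ G.s = γ ≫ G.t) :
    pc G (pc G α β h₁) γ ((pc_s α β h₁).trans h₂) =
      pc G α (pc G β γ h₂) (h₁.trans (pc_t β γ h₂).symm) :=
  G.assoc α β γ h₁ h₂

lemma precomp_pc {T T' : Scheme.{u}} (f : T' ⟶ T) (α β : T ⟶ G.R) (h : α ≫ G.s = β ≫ G.t) :
    f ≫ pc G α β h = pc G (f ≫ α) (f ≫ β)
      (by rw [Category.assoc, Category.assoc, h]) := by
  unfold pc
  rw [← Category.assoc]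
  congr 1
  apply pullback.hom_ext <;> simp only [Category.assoc, pullback.lift_fst, pullback.lift_snd]

lemma pc_e {T : Scheme.{u}} (α : T ⟶ G.R) :
    pc G α (α ≫ G.s ≫ G.e)
      (by rw [Category.assoc, Category.assoc, G.e_t, Category.comp_id]) = α :=
  G.comp_e α

lemma e_pc {T : Scheme.{u}} (α : T ⟶ G.R) :
    pc G (α ≫ G.t ≫ G.e) α
      (by rw [Category.assoc, Category.assoc, G.e_s, Category.comp_id]) = α :=
  G.e_comp α

lemma pc_i {T : Scheme.{u}} (α : T ⟶ G.R) :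
    pc G α (α ≫ G.i) (by rw [Category.assoc, G.i_t]) = α ≫ G.t ≫ G.e :=
  G.comp_i α

lemma i_pc {T : Scheme.{u}} (α : T ⟶ G.R) :
    pc G (α ≫ G.i) α (by rw [Category.assoc, G.i_s]) = α ≫ G.s ≫ G.e :=
  G.i_comp α

/-- `pc α (e ∘ u) = α` whenever `u = s α`. -/
lemma pc_e' {T : Scheme.{u}} (α ε : T ⟶ G.R) (h : α ≫ G.s = ε ≫ G.t)
    (hε : ε = α ≫ G.s ≫ G.e) : pc G α ε h = α := by
  subst hε; exact pc_e α

lemma e_pc' {T : Scheme.{u}} (α ε : T ⟶ G.R) (h : ε ≫ G.s = α ≫ G.t)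
    (hε : ε = α ≫ G.t ≫ G.e) : pc G ε α h = α := by
  subst hε; exact e_pc α

/-- `(α ∘ β) ∘ β⁻¹ = α`. -/
lemma pc_pc_i {T : Scheme.{u}} (α β : T ⟶ G.R) (h : α ≫ G.s = β ≫ G.t) :
    pc G (pc G α β h) (β ≫ G.i) (by rw [pc_s, Category.assoc, G.i_t]) = α := by
  rw [pc_assoc α β (β ≫ G.i) h (by rw [Category.assoc, G.i_t])]
  apply pc_e'
  rw [pc_i, ← Category.assoc, ← h, Category.assoc]

/-- `(α ∘ β⁻¹) ∘ β = α`. -/
lemma pc_i_pc {T : Scheme.{u}} (α β : T ⟶ G.R) (h : α ≫ G.s = β ≫ G.s) :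
    pc G (pc G α (β ≫ G.i) (by rw [Category.assoc, G.i_t, h])) β
      (by rw [pc_s, Category.assoc, G.i_s]) = α := by
  rw [pc_assoc α (β ≫ G.i) β (by rw [Category.assoc, G.i_t, h]) (by rw [Category.assoc, G.i_s])]
  apply pc_e'
  rw [i_pc, ← Category.assoc, ← h, Category.assoc]

/-- `α⁻¹ ∘ (α ∘ β) = β`. -/
lemma i_pc_pc {T : Scheme.{u}} (α β : T ⟶ G.R) (h : α ≫ G.s = β ≫ G.t) :
    pc G (α ≫ G.i) (pc G α β h) (by rw [pc_t, Category.assoc, G.i_s]) = β := by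
  rw [← pc_assoc (α ≫ G.i) α β (by rw [Category.assoc, G.i_s]) h]
  apply e_pc'
  rw [i_pc, ← Category.assoc, h, Category.assoc]

/-- `α ∘ (α⁻¹ ∘ β) = β`. -/
lemma pc_i_pc' {T : Scheme.{u}} (α β : T ⟶ G.R) (h : α ≫ G.t = β ≫ G.t) :
    pc G α (pc G (α ≫ G.i) β (by rw [Category.assoc, G.i_s, h]))
      (by rw [pc_t, Category.assoc, G.i_t]) = β := by
  rw [← pc_assoc α (α ≫ G.i) β (by rw [Category.assoc, G.i_t]) (by rw [Category.assoc, G.i_s, h])]
  apply e_pc'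
  rw [pc_i, ← Category.assoc, h, Category.assoc]

/-- `(α⁻¹)⁻¹ = α`. -/
lemma i_i {T : Scheme.{u}} (α : T ⟶ G.R) : (α ≫ G.i) ≫ G.i = α := by
  have hc : ((α ≫ G.i) ≫ G.i) ≫ G.s = α ≫ G.s := by
    simp only [Category.assoc, G.i_s, G.i_t]
  have h1 := pc_i_pc ((α ≫ G.i) ≫ G.i) α hc
  have h2 : pc G ((α ≫ G.i) ≫ G.i) (α ≫ G.i)
      (by simp only [Category.assoc, G.i_s, G.i_t]) = α ≫ G.t ≫ G.e := by
    rw [i_pc (α ≫ G.i), Category.assoc, ← Category.assoc G.i, G.i_s]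
  rw [pc_congr _ h2 rfl, e_pc] at h1
  exact h1.symm

lemma i_comp_i : G.i ≫ G.i = 𝟙 G.R := by
  have := i_i (G := G) (𝟙 G.R)
  rwa [Category.id_comp] at this

instance isIso_i : IsIso G.i := ⟨G.i, i_comp_i, i_comp_i⟩

/-! ### `j`, the diagonal and the stabilizer -/

@[reassoc (attr := simp)]
lemma j_fst : G.j ≫ pullback.fst G.pU G.pU = G.t := pullback.lift_fst _ _ _

@[reassoc (attr := simp)]
lemma j_snd : G.j ≫ pullback.snd G.pU G.pU = G.s := pullback.lift_snd _ _ _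

@[reassoc (attr := simp)]
lemma diag_fst : G.diag ≫ pullback.fst G.pU G.pU = 𝟙 _ := pullback.lift_fst _ _ _

@[reassoc (attr := simp)]
lemma diag_snd : G.diag ≫ pullback.snd G.pU G.pU = 𝟙 _ := pullback.lift_snd _ _ _

lemma j_eq_iff {T : Scheme.{u}} (a b : T ⟶ G.R) :
    a ≫ G.j = b ≫ G.j ↔ a ≫ G.t = b ≫ G.t ∧ a ≫ G.s = b ≫ G.s := by
  constructor
  · intro h
    constructor
    · rw [← j_fst, ← Category.assoc, h, Category.assoc]
    · rw [← j_snd, ← Category.assoc, h, Category.assoc]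
  · rintro ⟨h1, h2⟩
    apply pullback.hom_ext
    · rw [Category.assoc, Category.assoc, j_fst, h1]
    · rw [Category.assoc, Category.assoc, j_snd, h2]

variable (G) in
/-- The morphism from the stabilizer to `R`. -/
noncomputable def stabFst : G.stabilizer ⟶ G.R := pullback.fst G.j G.diag

lemma stabFst_s : stabFst G ≫ G.s = G.stabilizerToU := by
  have h : stabFst G ≫ G.j = G.stabilizerToU ≫ G.diag := pullback.condition
  rw [← j_snd, ← Category.assoc, h, Category.assoc, diag_snd, Category.comp_id]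

lemma stabFst_t : stabFst G ≫ G.t = G.stabilizerToU := by
  have h : stabFst G ≫ G.j = G.stabilizerToU ≫ G.diag := pullback.condition
  rw [← j_fst, ← Category.assoc, h, Category.assoc, diag_fst, Category.comp_id]

/-- A `T`-point of the stabilizer from `γ : T ⟶ R` with `s γ = u = t γ`. -/
noncomputable def stabLift {T : Scheme.{u}} (γ : T ⟶ G.R) (p : T ⟶ G.U) (hs : γ ≫ G.s = p)
    (ht : γ ≫ G.t = p) : T ⟶ G.stabilizer :=
  pullback.lift γ p (by
    apply pullback.hom_ext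
    · rw [Category.assoc, j_fst, Category.assoc, diag_fst, Category.comp_id, ht]
    · rw [Category.assoc, j_snd, Category.assoc, diag_snd, Category.comp_id, hs])

@[reassoc (attr := simp)]
lemma stabLift_fst {T : Scheme.{u}} (γ : T ⟶ G.R) (p : T ⟶ G.U) (hs : γ ≫ G.s = p)
    (ht : γ ≫ G.t = p) : stabLift γ p hs ht ≫ stabFst G = γ := pullback.lift_fst _ _ _

@[reassoc (attr := simp)]
lemma stabLift_toU {T : Scheme.{u}} (γ : T ⟶ G.R) (p : T ⟶ G.U) (hs : γ ≫ G.s = p)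
    (ht : γ ≫ G.t = p) : stabLift γ p hs ht ≫ G.stabilizerToU = p := pullback.lift_snd _ _ _

lemma stab_hom_ext {T : Scheme.{u}} {a b : T ⟶ G.stabilizer}
    (h₁ : a ≫ stabFst G = b ≫ stabFst G) : a = b := by
  have h₂ : a ≫ G.stabilizerToU = b ≫ G.stabilizerToU := by
    rw [← stabFst_s, ← Category.assoc, h₁, Category.assoc]
  exact pullback.hom_ext h₁ h₂

end Groth.Agent.Lib.Helper10.GrpdPts
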