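import Mathlib

/-!
# Identity component of a group scheme over a field, part 1: topological lemmas
-/

set_option autoImplicit false
set_option backward.isDefEq.respectTransparency.types false
set_option maxHeartbeats 4000000
set_option synthInstance.maxHeartbeats 400000

universe u

open CategoryTheory CategoryTheory.Limits AlgebraicGeometry

namespace Groth.Agent.Lib.Helper10.IdComp

section Top

variable {X Y : Type*} [TopologicalSpace X] [TopologicalSpace Y]

/-- a point lies on at most one irreducible component -/
def UniqueComp (x : X) : Prop :=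
  ∀ C₁ ∈ irreducibleComponents X, ∀ C₂ ∈ irreducibleComponents X, x ∈ C₁ → x ∈ C₂ → C₁ = C₂

theorem UniqueComp.eq_irreducibleComponent {x : X} (h : UniqueComp x) {C : Set X}
    (hC : C ∈ irreducibleComponents X) (hx : x ∈ C) : C = irreducibleComponent x :=
  h C hC _ (irreducibleComponent_mem_irreducibleComponents x) hx mem_irreducibleComponent

/-- an irreducible set containing `x` is contained in the irreducible component of `x`, when this
is unique. -/
theorem UniqueComp.subset_irreducibleComponent {x : X} (h : UniqueComp x) {S : Set X}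
    (hS : IsIrreducible S) (hx : x ∈ S) : S ⊆ irreducibleComponent x := by
  obtain ⟨C, hC, hSC⟩ := exists_mem_irreducibleComponents_subset_of_isIrreducible S hS
  rw [← h.eq_irreducibleComponent hC (hSC hx)]
  exact hSC

theorem uniqueComp_of_homeomorph (e : X ≃ₜ Y) (x : X) (h : UniqueComp x) : UniqueComp (e x) := by
  intro C₁ h₁ C₂ h₂ hx₁ hx₂
  have key : ∀ C ∈ irreducibleComponents Y, e ⁻¹' C ∈ irreducibleComponents X := by
    intro C hC
    refine ⟨?_, ?_⟩
    · have := hC.1.image e.symm e.symm.continuous.continuousOn
      rwa [e.symm.image_eq_preimage_symm] at this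
    · intro S hS hCS
      have h1 : IsIrreducible (e '' S) := hS.image e e.continuous.continuousOn
      have h2 : C ≤ e '' S := by
        intro c hc
        exact ⟨e.symm c, hCS (by simpa using hc), by simp⟩
      have h3 := hC.2 h1 h2
      intro s hs
      exact h3 ⟨s, hs, rfl⟩
  have := h _ (key C₁ h₁) _ (key C₂ h₂) hx₁ hx₂
  have h4 : e '' (e ⁻¹' C₁) = e '' (e ⁻¹' C₂) := by rw [this]
  rwa [Set.image_preimage_eq _ e.surjective, Set.image_preimage_eq _ e.surjective] at h4

/-- lifting an irreducible component through a point along a generalizing map -/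
theorem exists_comp_over [QuasiSober Y] (π : X → Y) (hc : Continuous π) (hg : GeneralizingMap π)
    (x' : X) (C : Set Y) (hC : C ∈ irreducibleComponents Y) (hx : π x' ∈ C) :
    ∃ C' ∈ irreducibleComponents X, x' ∈ C' ∧ closure (π '' C') = C := by
  have hCcl : IsClosed C := isClosed_of_mem_irreducibleComponents C hC
  obtain ⟨ξ, hξ⟩ := QuasiSober.sober hC.1 hCcl
  have h1 : ξ ⤳ π x' := hξ.specializes hx
  obtain ⟨ξ', hξ'1, hξ'2⟩ := hg h1
  obtain ⟨C', hC', hsub⟩ := exists_mem_irreducibleComponents_subset_of_isIrreducible
    (closure {ξ'}) isIrreducible_singleton.closure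
  have hC'cl : IsClosed C' := isClosed_of_mem_irreducibleComponents C' hC'
  have hξ'C' : ξ' ∈ C' := hsub (subset_closure rfl)
  have hx'C' : x' ∈ C' := hsub (specializes_iff_mem_closure.mp hξ'1)
  refine ⟨C', hC', hx'C', ?_⟩
  have h2 : IsIrreducible (closure (π '' C')) :=
    (hC'.1.image π hc.continuousOn).closure
  have h3 : C ≤ closure (π '' C') := by
    rw [← hξ.def]
    apply closure_minimal _ isClosed_closure
    rintro _ rfl
    exact subset_closure ⟨ξ', hξ'C', hξ'2⟩
  exact le_antisymm (hC.2 h2 h3) h3

/-- uniqueness of the irreducible component through a point descends along a generalizing map. -/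
theorem uniqueComp_descends [QuasiSober Y] (π : X → Y) (hc : Continuous π)
    (hg : GeneralizingMap π) (x' : X) (hx' : UniqueComp x') : UniqueComp (π x') := by
  intro C₁ h₁ C₂ h₂ hx₁ hx₂
  obtain ⟨C₁', hC₁', hx₁', e₁⟩ := exists_comp_over π hc hg x' C₁ h₁ hx₁
  obtain ⟨C₂', hC₂', hx₂', e₂⟩ := exists_comp_over π hc hg x' C₂ h₂ hx₂
  rw [← e₁, ← e₂, hx' C₁' hC₁' C₂' hC₂' hx₁' hx₂']

/-- the preimage of an irreducible component under a surjective map is an irreducible component as
soon as it is irreducible. -/
theorem preimage_mem_irreducibleComponents_of_isIrreducible (π : X → Y) (hc : Continuous π)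
    (hs : Function.Surjective π) (Z : Set Y) (hZ : Z ∈ irreducibleComponents Y)
    (hirr : IsIrreducible (π ⁻¹' Z)) : π ⁻¹' Z ∈ irreducibleComponents X := by
  refine ⟨hirr, ?_⟩
  intro S hS hZS
  have hZcl : IsClosed Z := isClosed_of_mem_irreducibleComponents Z hZ
  have h1 : IsIrreducible (π '' S) := hS.image π hc.continuousOn
  have h2 : Z ≤ π '' S := by
    intro z hz
    obtain ⟨x, rfl⟩ := hs z
    exact ⟨x, hZS hz, rfl⟩
  have h3 := hZ.2 h1 h2
  intro s hs'
  exact h3 ⟨s, hs', rfl⟩

end Top

section Sch

/-- a quasi-compact open subset of a quasi-separated scheme which is stable under specialization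
is closed. -/
theorem isClosed_of_isCompact_of_stableUnderSpecialization {X : Scheme.{u}}
    [QuasiSeparatedSpace X] (W : X.Opens) (hc : IsCompact (W : Set X))
    (hs : StableUnderSpecialization (W : Set X)) : IsClosed (W : Set X) := by
  haveI : CompactSpace ↥(W : Scheme.{u}) := isCompact_iff_compactSpace.mp hc
  haveI : QuasiCompact W.ι := inferInstance
  have h1 : SpecializingMap W.ι := by
    intro w y hwy
    have hy : y ∈ (W : Set X) := hs hwy w.2
    refine ⟨⟨y, hy⟩, ?_, rfl⟩
    change w ⤳ (⟨y, hy⟩ : W)
    have := W.ι.isOpenEmbedding.isInducing.specializes_iff (x := w) (y := ⟨y, hy⟩)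
    exact this.mp hwy
  have h2 : IsClosedMap W.ι := (isClosedMap_iff_specializingMap W.ι).mpr h1
  have := h2.isClosed_range
  rwa [Scheme.Opens.range_ι] at this

end Sch

end Groth.Agent.Lib.Helper10.IdComp
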