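import Mathlib
import Groth.Agent.Lib.Helper10.IdComp1
import Groth.Agent.Lib.Helper5.GeomIrredAlgClosed

/-!
# Identity component of a group scheme over a field, part 2:
every point lies on a unique irreducible component
-/

set_option autoImplicit false
set_option backward.isDefEq.respectTransparency.types false
set_option maxHeartbeats 4000000
set_option synthInstance.maxHeartbeats 400000

universe u

open CategoryTheory CategoryTheory.Limits AlgebraicGeometry MonoidalCategory
  CartesianMonoidalCategory MonObj GrpObj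

namespace Groth.Agent.Lib.Helper10.IdComp

section Inducing

variable {X Y : Type*} [TopologicalSpace X] [TopologicalSpace Y]

theorem irreducibleSpace_of_isInducing (f : X → Y) (hf : Topology.IsInducing f)
    (h : IsIrreducible (Set.range f)) : IrreducibleSpace X := by
  haveI : Nonempty X := by
    obtain ⟨_, ⟨x, rfl⟩⟩ := h.nonempty
    exact ⟨x⟩
  refine { toPreirreducibleSpace := ⟨?_⟩, toNonempty := inferInstance }
  intro U V hU hV hUne hVne
  rw [Set.univ_inter] at hUne hVne
  obtain ⟨U', hU', rfl⟩ := hf.isOpen_iff.mp hU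
  obtain ⟨V', hV', rfl⟩ := hf.isOpen_iff.mp hV
  obtain ⟨x, hx⟩ := hUne
  obtain ⟨y, hy⟩ := hVne
  obtain ⟨_, ⟨z, rfl⟩, hz1, hz2⟩ := h.2 U' V' hU' hV' ⟨f x, ⟨x, rfl⟩, hx⟩ ⟨f y, ⟨y, rfl⟩, hy⟩
  exact ⟨z, Set.mem_univ _, hz1, hz2⟩

end Inducing

section MulMap

variable {K : Type u} [Field K] {G X Y : Over (Spec (CommRingCat.of K))} [GrpObj G]

/-- `(x, y) ↦ a x * b y`. -/
noncomputable def mulMap (a : X ⟶ G) (b : Y ⟶ G) : X ⊗ Y ⟶ G :=
  (fst X Y ≫ a) * (snd X Y ≫ b)

theorem lift_mulMap {T : Over (Spec (CommRingCat.of K))} (a : X ⟶ G) (b : Y ⟶ G)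
    (p : T ⟶ X) (q : T ⟶ Y) : lift p q ≫ mulMap a b = (p ≫ a) * (q ≫ b) := by
  rw [mulMap, MonObj.comp_mul, ← Category.assoc, ← Category.assoc, lift_fst, lift_snd]

theorem range_subset_range_mulMap_left (a : X ⟶ G) (b : Y ⟶ G)
    (eY : 𝟙_ (Over (Spec (CommRingCat.of K))) ⟶ Y) (he : eY ≫ b = η[G]) :
    Set.range a.left ⊆ Set.range (mulMap a b).left := by
  have h1 : lift (𝟙 X) (toUnit X ≫ eY) ≫ mulMap a b = a := by
    rw [lift_mulMap, Category.id_comp, Category.assoc, he, ← Hom.one_def, _root_.mul_one]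
  rintro _ ⟨x, rfl⟩
  refine ⟨(lift (𝟙 X) (toUnit X ≫ eY)).left x, ?_⟩
  rw [← Scheme.Hom.comp_apply, ← Over.comp_left, h1]

theorem range_subset_range_mulMap_right (a : X ⟶ G) (b : Y ⟶ G)
    (eX : 𝟙_ (Over (Spec (CommRingCat.of K))) ⟶ X) (he : eX ≫ a = η[G]) :
    Set.range b.left ⊆ Set.range (mulMap a b).left := by
  have h1 : lift (toUnit Y ≫ eX) (𝟙 Y) ≫ mulMap a b = b := by
    rw [lift_mulMap, Category.id_comp, Category.assoc, he, ← Hom.one_def, _root_.one_mul]
  rintro _ ⟨x, rfl⟩
  refine ⟨(lift (toUnit Y ≫ eX) (𝟙 Y)).left x, ?_⟩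
  rw [← Scheme.Hom.comp_apply, ← Over.comp_left, h1]

theorem isIrreducible_range_mulMap (a : X ⟶ G) (b : Y ⟶ G) [IrreducibleSpace ↥(X ⊗ Y).left] :
    IsIrreducible (Set.range (mulMap a b).left) := by
  rw [← Set.image_univ]
  exact (IrreducibleSpace.isIrreducible_univ _).image _
    (mulMap a b).left.continuous.continuousOn

theorem range_mulMap_subset_left (a : X ⟶ G) (b : Y ⟶ G)
    (eY : 𝟙_ (Over (Spec (CommRingCat.of K))) ⟶ Y) (he : eY ≫ b = η[G])
    [IrreducibleSpace ↥(X ⊗ Y).left] (hC : Set.range a.left ∈ irreducibleComponents ↥G.left) :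
    Set.range (mulMap a b).left ⊆ Set.range a.left :=
  hC.2 (isIrreducible_range_mulMap a b) (range_subset_range_mulMap_left a b eY he)

theorem range_mulMap_subset_right (a : X ⟶ G) (b : Y ⟶ G)
    (eX : 𝟙_ (Over (Spec (CommRingCat.of K))) ⟶ X) (he : eX ≫ a = η[G])
    [IrreducibleSpace ↥(X ⊗ Y).left] (hC : Set.range b.left ∈ irreducibleComponents ↥G.left) :
    Set.range (mulMap a b).left ⊆ Set.range b.left :=
  hC.2 (isIrreducible_range_mulMap a b) (range_subset_range_mulMap_right a b eX he)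

end MulMap

section Sub

variable {K : Type u} [Field K] {G : Over (Spec (CommRingCat.of K))}

/-- reduced induced closed subscheme structure on an irreducible closed subset. -/
theorem exists_closedSubscheme (Z : Set ↥G.left) (hZ : IsClosed Z) (hirr : IsIrreducible Z) :
    ∃ (X : Over (Spec (CommRingCat.of K))) (a : X ⟶ G), IsClosedImmersion a.left ∧
      Set.range a.left = Z ∧ IrreducibleSpace ↥X.left := by
  let I := Scheme.IdealSheafData.vanishingIdeal (X := G.left) ⟨Z, hZ⟩
  refine ⟨Over.mk (I.subschemeι ≫ G.hom), Over.homMk I.subschemeι rfl, ?_, ?_, ?_⟩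
  · change IsClosedImmersion I.subschemeι
    infer_instance
  · change Set.range I.subschemeι = Z
    rw [Scheme.IdealSheafData.range_subschemeι]
    simp [I]
  · change IrreducibleSpace ↥I.subscheme
    apply irreducibleSpace_of_isInducing _ I.subschemeι.isEmbedding.isInducing
    rw [Scheme.IdealSheafData.range_subschemeι]
    simpa [I] using hirr

variable [GrpObj G]

/-- a rational point lying on a closed subscheme lifts to it. -/
theorem exists_point_lift {X : Over (Spec (CommRingCat.of K))} (a : X ⟶ G)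
    [IsClosedImmersion a.left] (g : 𝟙_ (Over (Spec (CommRingCat.of K))) ⟶ G)
    (hg : ∀ pt, g.left pt ∈ Set.range a.left) :
    ∃ eX : 𝟙_ (Over (Spec (CommRingCat.of K))) ⟶ X, eX ≫ a = g := by
  let P := pullback g.left a.left
  haveI : IsClosedImmersion (pullback.fst g.left a.left) := inferInstance
  haveI : Surjective (pullback.fst g.left a.left) := by
    refine ⟨fun pt => ?_⟩
    obtain ⟨x, hx⟩ := hg pt
    obtain ⟨z, hz1, -⟩ := Scheme.Pullback.exists_preimage_pullback (f := g.left) (g := a.left)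
      pt x hx.symm
    exact ⟨z, hz1⟩
  haveI : IsReduced (𝟙_ (Over (Spec (CommRingCat.of K)))).left :=
    inferInstanceAs (IsReduced (Spec (CommRingCat.of K)))
  haveI : IsIso (pullback.fst g.left a.left) :=
    isIso_of_isClosedImmersion_of_surjective _
  have hw : (inv (pullback.fst g.left a.left) ≫ pullback.snd g.left a.left) ≫ a.left = g.left := by
    rw [Category.assoc, ← pullback.condition, IsIso.inv_hom_id_assoc]
  refine ⟨Over.homMk (inv (pullback.fst g.left a.left) ≫ pullback.snd g.left a.left) ?_, ?_⟩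
  · rw [← Over.w a, ← Category.assoc, hw]
    exact Over.w g
  · ext1
    exact hw

end Sub

section AlgClosed

variable (k : Type u) [Field k] [IsAlgClosed k] (G : Over (Spec (CommRingCat.of k))) [GrpObj G]

/-- over an algebraically closed field the unit lies on a unique irreducible component. -/
theorem uniqueComp_unit_of_isAlgClosed
    (pt : ↥(𝟙_ (Over (Spec (CommRingCat.of k)))).left) : UniqueComp (η[G].left pt) := by
  have key : ∀ C₁ ∈ irreducibleComponents ↥G.left, ∀ C₂ ∈ irreducibleComponents ↥G.left,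
      η[G].left pt ∈ C₁ → η[G].left pt ∈ C₂ → C₂ ⊆ C₁ := by
    intro C₁ h₁ C₂ h₂ hx₁ hx₂
    obtain ⟨X₁, a₁, hcl₁, hr₁, hirr₁⟩ := exists_closedSubscheme C₁
      (isClosed_of_mem_irreducibleComponents C₁ h₁) h₁.1
    obtain ⟨X₂, a₂, hcl₂, hr₂, hirr₂⟩ := exists_closedSubscheme C₂
      (isClosed_of_mem_irreducibleComponents C₂ h₂) h₂.1
    have hpt : ∀ q : ↥(𝟙_ (Over (Spec (CommRingCat.of k)))).left, q = pt := by
      intro q
      haveI : Subsingleton ↥(Spec (CommRingCat.of k)) :=
        inferInstanceAs (Subsingleton (PrimeSpectrum k))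
      exact Subsingleton.elim (α := ↥(Spec (CommRingCat.of k))) q pt
    obtain ⟨e₁, he₁⟩ := exists_point_lift a₁ η[G] (fun q => by rw [hpt q, hr₁]; exact hx₁)
    obtain ⟨e₂, he₂⟩ := exists_point_lift a₂ η[G] (fun q => by rw [hpt q, hr₂]; exact hx₂)
    haveI : IrreducibleSpace ↥(X₁ ⊗ X₂).left :=
      Groth.Agent.Lib.Helper5.irreducibleSpace_pullback_of_isAlgClosed k X₁.hom X₂.hom
    rw [← hr₁, ← hr₂]
    exact (range_subset_range_mulMap_right a₁ a₂ e₁ he₁).trans
      (range_mulMap_subset_left a₁ a₂ e₂ he₂ (hr₁ ▸ h₁))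
  intro C₁ h₁ C₂ h₂ hx₁ hx₂
  exact le_antisymm (key C₂ h₂ C₁ h₁ hx₂ hx₁) (key C₁ h₁ C₂ h₂ hx₁ hx₂)

end AlgClosed

section Ltr

variable {K : Type u} [Field K] {G : Over (Spec (CommRingCat.of K))} [GrpObj G]

/-- left translation by a rational point. -/
noncomputable def ltr (g : 𝟙_ (Over (Spec (CommRingCat.of K))) ⟶ G) : G ⟶ G :=
  (toUnit G ≫ g) * 𝟙 G

theorem comp_ltr {T : Over (Spec (CommRingCat.of K))} (f : T ⟶ G)
    (g : 𝟙_ (Over (Spec (CommRingCat.of K))) ⟶ G) : f ≫ ltr g = (toUnit T ≫ g) * f := by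
  rw [ltr, MonObj.comp_mul, Category.comp_id, ← Category.assoc]
  congr 2
  exact toUnit_unique _ _

theorem ltr_ltr (g h : 𝟙_ (Over (Spec (CommRingCat.of K))) ⟶ G) :
    ltr g ≫ ltr h = ltr (h * g) := by
  rw [comp_ltr, ltr, ltr, ← _root_.mul_assoc, MonObj.comp_mul]

theorem ltr_one : ltr (1 : 𝟙_ (Over (Spec (CommRingCat.of K))) ⟶ G) = 𝟙 G := by
  rw [ltr, MonObj.comp_one, _root_.one_mul]

instance (g : 𝟙_ (Over (Spec (CommRingCat.of K))) ⟶ G) : IsIso (ltr g) :=
  ⟨⟨ltr g⁻¹, by rw [ltr_ltr, inv_mul_cancel, ltr_one], by rw [ltr_ltr, mul_inv_cancel, ltr_one]⟩⟩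

theorem unit_ltr (g : 𝟙_ (Over (Spec (CommRingCat.of K))) ⟶ G) : η[G] ≫ ltr g = g := by
  rw [comp_ltr]
  have h1 : toUnit (𝟙_ (Over (Spec (CommRingCat.of K)))) = 𝟙 _ := toUnit_unique _ _
  have h2 : η[G] = (1 : 𝟙_ (Over (Spec (CommRingCat.of K))) ⟶ G) := by
    rw [Hom.one_def, h1, Category.id_comp]
  rw [h1, Category.id_comp, h2, _root_.mul_one]

end Ltr

section General

/-- over an algebraically closed field every rational point lies on a unique irreducible
component. -/
theorem uniqueComp_point_of_isAlgClosed (k : Type u) [Field k] [IsAlgClosed k]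
    (G : Over (Spec (CommRingCat.of k))) [GrpObj G]
    (g : 𝟙_ (Over (Spec (CommRingCat.of k))) ⟶ G)
    (pt : ↥(𝟙_ (Over (Spec (CommRingCat.of k)))).left) : UniqueComp (g.left pt) := by
  haveI : IsIso (ltr g).left := (Over.forget _).map_isIso (ltr g)
  have h1 := uniqueComp_of_homeomorph (ltr g).left.homeomorph _
    (uniqueComp_unit_of_isAlgClosed k G pt)
  have h2 : (ltr g).left.homeomorph (η[G].left pt) = g.left pt := by
    change (ltr g).left (η[G].left pt) = g.left pt
    rw [← Scheme.Hom.comp_apply, ← Over.comp_left, unit_ltr]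
  rwa [h2] at h1

variable (K : Type u) [Field K] (G : Over (Spec (CommRingCat.of K))) [GrpObj G]

/-- every point of a group scheme over a field lies on a unique irreducible component. -/
theorem uniqueComp (x : ↥G.left) : UniqueComp x := by
  let Ω := AlgebraicClosure (G.left.residueField x)
  let ψ : Spec (CommRingCat.of Ω) ⟶ G.left :=
    Spec.map (CommRingCat.ofHom (algebraMap (G.left.residueField x) Ω)) ≫
      G.left.fromSpecResidueField x
  let t : Spec (CommRingCat.of Ω) ⟶ Spec (CommRingCat.of K) := ψ ≫ G.hom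
  letI : GrpObj ((Over.pullback t).obj G) := Functor.grpObjObj
  let x' : 𝟙_ (Over (Spec (CommRingCat.of Ω))) ⟶ (Over.pullback t).obj G :=
    Over.homMk (pullback.lift ψ (𝟙 _) (by simp [t])) (by
      change pullback.lift ψ (𝟙 _) _ ≫ pullback.snd G.hom t = 𝟙 _
      exact pullback.lift_snd _ _ _)
  obtain ⟨pt⟩ : Nonempty ↥(𝟙_ (Over (Spec (CommRingCat.of Ω)))).left :=
    inferInstanceAs (Nonempty (PrimeSpectrum Ω))
  have h1 := uniqueComp_point_of_isAlgClosed Ω ((Over.pullback t).obj G) x' pt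
  haveI : Flat t := inferInstance
  have hflat : Flat (pullback.fst G.hom t) := inferInstance
  have h2 := uniqueComp_descends (pullback.fst G.hom t) (pullback.fst G.hom t).continuous
    (Flat.generalizingMap _) (x'.left pt) h1
  have h3 : pullback.fst G.hom t (x'.left pt) = x := by
    change pullback.fst G.hom t ((pullback.lift ψ (𝟙 _) _) pt) = x
    rw [← Scheme.Hom.comp_apply, pullback.lift_fst]
    have : ψ pt ∈ Set.range (G.left.fromSpecResidueField x) := ⟨_, rfl⟩
    rw [Scheme.range_fromSpecResidueField] at this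
    exact this
  rwa [h3] at h2

end General

end Groth.Agent.Lib.Helper10.IdComp
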