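import Mathlib

/-!
# The Weil-restriction algebra

For a commutative ring `R`, an `R`-algebra `A` which is finite projective as an `R`-module and an
arbitrary `R`-algebra `B`, the functor `R' ↦ Hom_{R-alg}(B, R' ⊗ A)` on `R`-algebras is
representable, by an algebra of finite type (presentation) if `B` is.
-/

set_option autoImplicit false
set_option backward.isDefEq.respectTransparency.types false
set_option maxHeartbeats 4000000
set_option synthInstance.maxHeartbeats 400000
universe u
open TensorProduct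

namespace Groth.Agent.Lib.Helper10.WeilAlg

section Coord
variable {R A : Type u} [CommRing R] [CommRing A] [Algebra R A]
variable {n : ℕ} (f : (Fin n → R) →ₗ[R] A) (g : A →ₗ[R] (Fin n → R))

/-- the generators of the dual basis -/
noncomputable def e (i : Fin n) : A := f (Pi.single i 1)

/-- the coordinate functionals of the dual basis -/
noncomputable def c (i : Fin n) : A →ₗ[R] R := (LinearMap.proj i) ∘ₗ g

lemma c_apply (i : Fin n) (a : A) : c g i a = g a i := rfl

lemma sum_c_e (hfg : f ∘ₗ g = LinearMap.id) (a : A) : ∑ i, c g i a • e f i = a := by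
  have h1 : g a = ∑ i, (g a i) • (Pi.single i (1:R) : Fin n → R) := by
    ext j
    simp [Finset.sum_apply, Pi.single_apply]
  have h2 : f (g a) = a := by simpa using LinearMap.congr_fun hfg a
  calc ∑ i, c g i a • e f i = f (∑ i, (g a i) • (Pi.single i (1:R) : Fin n → R)) := by
        simp [map_sum, c_apply, e]
    _ = f (g a) := by rw [← h1]
    _ = a := h2

variable (R' : Type u) [CommRing R'] [Algebra R R']

/-- coordinates on `R' ⊗ A` -/
noncomputable def c' (i : Fin n) : R' ⊗[R] A →ₗ[R] R' :=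
  (TensorProduct.rid R R').toLinearMap ∘ₗ (LinearMap.lTensor R' (c g i))

lemma c'_tmul (i : Fin n) (r : R') (a : A) : c' g R' i (r ⊗ₜ a) = c g i a • r := by
  simp [c']

lemma sum_c'_e (hfg : f ∘ₗ g = LinearMap.id) (y : R' ⊗[R] A) :
    ∑ i, (c' g R' i y) ⊗ₜ[R] (e f i) = y := by
  induction y using TensorProduct.induction_on with
  | zero => simp
  | tmul r a =>
    simp only [c'_tmul]
    calc ∑ i, (c g i a • r) ⊗ₜ[R] e f i = ∑ i, r ⊗ₜ[R] (c g i a • e f i) := by
          refine Finset.sum_congr rfl (fun i _ => ?_)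
          rw [TensorProduct.smul_tmul]
      _ = r ⊗ₜ[R] (∑ i, c g i a • e f i) := by rw [TensorProduct.tmul_sum]
      _ = r ⊗ₜ a := by rw [sum_c_e f g hfg]
  | add x y hx hy =>
    simp only [map_add, TensorProduct.add_tmul, Finset.sum_add_distrib, hx, hy]

lemma c'_map {R'' : Type u} [CommRing R''] [Algebra R R''] (v : R' →ₐ[R] R'') (i : Fin n)
    (y : R' ⊗[R] A) :
    c' g R'' i (Algebra.TensorProduct.map v (AlgHom.id R A) y) = v (c' g R' i y) := by
  induction y using TensorProduct.induction_on with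
  | zero => simp
  | tmul r a => simp [c'_tmul]
  | add x y hx hy => simp only [map_add, hx, hy]

end Coord

section Construct
variable {R A B : Type u} [CommRing R] [CommRing A] [Algebra R A] [CommRing B] [Algebra R B]
variable {n : ℕ} (f : (Fin n → R) →ₗ[R] A) (g : A →ₗ[R] (Fin n → R))
variable {J : Type u} (π : MvPolynomial J R →ₐ[R] B) (Gs : Set (MvPolynomial J R))

/-- the universal family on the polynomial ring -/
noncomputable def θ : MvPolynomial J R →ₐ[R] (MvPolynomial (J × Fin n) R) ⊗[R] A :=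
  MvPolynomial.aeval (fun j => ∑ i, (MvPolynomial.X (j, i)) ⊗ₜ[R] e f i)

lemma θ_X (j : J) : θ f (MvPolynomial.X j : MvPolynomial J R) =
    ∑ i, (MvPolynomial.X (j, i) : MvPolynomial (J × Fin n) R) ⊗ₜ[R] e f i := by
  simp [θ]

/-- the relations -/
noncomputable def rel : Set (MvPolynomial (J × Fin n) R) :=
  ((fun qi : MvPolynomial J R × Fin n => c' g _ qi.2 (θ f qi.1)) '' (Gs ×ˢ Set.univ)) ∪
  Set.range (fun ji : J × Fin n => (MvPolynomial.X ji : MvPolynomial (J × Fin n) R) -
    c' g _ ji.2 (θ f (MvPolynomial.X ji.1)))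

noncomputable def I' : Ideal (MvPolynomial (J × Fin n) R) := Ideal.span (rel f g Gs)

/-- the Weil restriction algebra -/
def C : Type u := MvPolynomial (J × Fin n) R ⧸ I' f g Gs

noncomputable instance : CommRing (C f g Gs) :=
  inferInstanceAs (CommRing (MvPolynomial (J × Fin n) R ⧸ I' f g Gs))

noncomputable instance : Algebra R (C f g Gs) :=
  inferInstanceAs (Algebra R (MvPolynomial (J × Fin n) R ⧸ I' f g Gs))

noncomputable def q : MvPolynomial (J × Fin n) R →ₐ[R] C f g Gs :=
  Ideal.Quotient.mkₐ R (I' f g Gs)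

lemma q_surjective : Function.Surjective (q f g Gs) := Ideal.Quotient.mk_surjective

lemma q_eq_zero_iff (a : MvPolynomial (J × Fin n) R) : q f g Gs a = 0 ↔ a ∈ I' f g Gs :=
  Ideal.Quotient.eq_zero_iff_mem

lemma q_rel1 {p : MvPolynomial J R} (hp : p ∈ Gs) (i : Fin n) :
    q f g Gs (c' g _ i (θ f p)) = 0 := by
  refine (q_eq_zero_iff f g Gs _).mpr (Ideal.subset_span (Or.inl ?_))
  exact ⟨(p, i), ⟨hp, Set.mem_univ _⟩, rfl⟩

lemma q_rel2 (j : J) (i : Fin n) :
    q f g Gs (MvPolynomial.X (j, i)) = q f g Gs (c' g _ i (θ f (MvPolynomial.X j))) := by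
  rw [← sub_eq_zero, ← map_sub]
  refine (q_eq_zero_iff f g Gs _).mpr (Ideal.subset_span (Or.inr ?_))
  exact ⟨(j, i), rfl⟩

noncomputable def θbar : MvPolynomial J R →ₐ[R] (C f g Gs) ⊗[R] A :=
  (Algebra.TensorProduct.map (q f g Gs) (AlgHom.id R A)).comp (θ f)

variable (hfg : f ∘ₗ g = LinearMap.id)
include hfg

lemma θbar_eq_zero {p : MvPolynomial J R} (hp : p ∈ Gs) : θbar f g Gs p = 0 := by
  rw [← sum_c'_e f g (C f g Gs) hfg (θbar f g Gs p)]
  refine Finset.sum_eq_zero (fun i _ => ?_)
  have : c' g (C f g Gs) i (θbar f g Gs p) = 0 := by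
    change c' g (C f g Gs) i (Algebra.TensorProduct.map (q f g Gs) (AlgHom.id R A) (θ f p)) = 0
    rw [c'_map, q_rel1 f g Gs hp]
  rw [this, TensorProduct.zero_tmul]

variable (hπ : Function.Surjective π) (hG : Ideal.span Gs = RingHom.ker π.toRingHom)
include hπ hG

lemma ker_le : RingHom.ker π.toRingHom ≤ RingHom.ker (θbar f g Gs).toRingHom := by
  rw [← hG, Ideal.span_le]
  intro p hp
  exact θbar_eq_zero f g Gs hfg hp

/-- the universal homomorphism -/
noncomputable def ev : B →ₐ[R] (C f g Gs) ⊗[R] A :=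
  AlgHom.liftOfSurjective π hπ (θbar f g Gs) (ker_le f g π Gs hfg hπ hG)

lemma ev_π (p : MvPolynomial J R) : ev f g π Gs hfg hπ hG (π p) = θbar f g Gs p :=
  AlgHom.liftOfSurjective_apply _ _ _ _ _

variable {R' : Type u} [CommRing R'] [Algebra R R']

/-- the classifying map on the polynomial ring -/
noncomputable def v₀ (φ : B →ₐ[R] R' ⊗[R] A) : MvPolynomial (J × Fin n) R →ₐ[R] R' :=
  MvPolynomial.aeval (fun ji => c' g R' ji.2 (φ (π (MvPolynomial.X ji.1))))

omit hπ hG in
lemma map_v₀_θ (φ : B →ₐ[R] R' ⊗[R] A) :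
    (Algebra.TensorProduct.map (v₀ g π φ) (AlgHom.id R A)).comp (θ f) = φ.comp π := by
  refine MvPolynomial.algHom_ext (fun j => ?_)
  simp only [AlgHom.comp_apply, θ_X, map_sum, Algebra.TensorProduct.map_tmul, AlgHom.id_apply]
  have : ∀ i : Fin n, v₀ g π φ (MvPolynomial.X (j, i)) = c' g R' i (φ (π (MvPolynomial.X j))) := by
    intro i
    simp [v₀]
  simp only [this]
  exact sum_c'_e f g R' hfg _

lemma v₀_rel (φ : B →ₐ[R] R' ⊗[R] A) : ∀ a ∈ I' f g Gs, v₀ g π φ a = 0 := by
  have key : ∀ (p : MvPolynomial J R) (i : Fin n),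
      v₀ g π φ (c' g _ i (θ f p)) = c' g R' i (φ (π p)) := by
    intro p i
    rw [← c'_map]
    have := congrArg (fun F => F p) (map_v₀_θ f g π hfg φ)
    simp only [AlgHom.comp_apply] at this
    rw [this]
  have hle : I' f g Gs ≤ RingHom.ker (v₀ g π φ).toRingHom := by
    rw [I', Ideal.span_le]
    rintro a (⟨⟨p, i⟩, ⟨hp, -⟩, rfl⟩ | ⟨⟨j, i⟩, rfl⟩)
    · change v₀ g π φ (c' g _ i (θ f p)) = 0
      rw [key]
      have hp' : π p = 0 := by
        have : p ∈ RingHom.ker π.toRingHom := hG ▸ Ideal.subset_span hp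
        exact this
      rw [hp', map_zero, map_zero]
    · change v₀ g π φ (MvPolynomial.X (j, i) - c' g _ i (θ f (MvPolynomial.X j))) = 0
      rw [map_sub, key]
      simp [v₀]
  exact fun a ha => hle ha

/-- the classifying map -/
noncomputable def v (φ : B →ₐ[R] R' ⊗[R] A) : C f g Gs →ₐ[R] R' :=
  (Ideal.Quotient.liftₐ (I' f g Gs) (v₀ g π φ) (v₀_rel f g π Gs hfg hπ hG φ) :
    (MvPolynomial (J × Fin n) R ⧸ I' f g Gs) →ₐ[R] R')

lemma v_comp_q (φ : B →ₐ[R] R' ⊗[R] A) :
    (v f g π Gs hfg hπ hG φ).comp (q f g Gs) = v₀ g π φ :=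
  Ideal.Quotient.liftₐ_comp _ _ _

lemma map_v_ev (φ : B →ₐ[R] R' ⊗[R] A) :
    (Algebra.TensorProduct.map (v f g π Gs hfg hπ hG φ) (AlgHom.id R A)).comp
      (ev f g π Gs hfg hπ hG) = φ := by
  ext b
  obtain ⟨p, rfl⟩ := hπ b
  rw [AlgHom.comp_apply, ev_π]
  change (Algebra.TensorProduct.map (v f g π Gs hfg hπ hG φ) (AlgHom.id R A))
    ((Algebra.TensorProduct.map (q f g Gs) (AlgHom.id R A)) (θ f p)) = φ (π p)
  rw [← AlgHom.comp_apply, ← Algebra.TensorProduct.map_comp, v_comp_q, AlgHom.comp_id]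
  exact congrArg (fun F => F p) (map_v₀_θ f g π hfg φ)

lemma v_unique (w : C f g Gs →ₐ[R] R') (j : J) (i : Fin n) :
    w (q f g Gs (MvPolynomial.X (j, i))) =
      c' g R' i ((Algebra.TensorProduct.map w (AlgHom.id R A)).comp (ev f g π Gs hfg hπ hG)
        (π (MvPolynomial.X j))) := by
  rw [AlgHom.comp_apply, ev_π, c'_map, q_rel2]
  congr 1
  rw [← c'_map]
  rfl

theorem existsUnique (φ : B →ₐ[R] R' ⊗[R] A) :
    ∃! w : C f g Gs →ₐ[R] R',
      (Algebra.TensorProduct.map w (AlgHom.id R A)).comp (ev f g π Gs hfg hπ hG) = φ := by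
  refine ⟨v f g π Gs hfg hπ hG φ, map_v_ev f g π Gs hfg hπ hG φ, fun w hw => ?_⟩
  have hq : w.comp (q f g Gs) = (v f g π Gs hfg hπ hG φ).comp (q f g Gs) := by
    refine MvPolynomial.algHom_ext (fun ⟨j, i⟩ => ?_)
    change w (q f g Gs (MvPolynomial.X (j, i))) =
      (v f g π Gs hfg hπ hG φ) (q f g Gs (MvPolynomial.X (j, i)))
    rw [v_unique f g π Gs hfg hπ hG w, v_unique f g π Gs hfg hπ hG (v f g π Gs hfg hπ hG φ), hw,
      map_v_ev]
  ext x
  obtain ⟨a, rfl⟩ := q_surjective f g Gs x
  exact congrArg (fun F => F a) hq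
  /-
  change w (q f g Gs (MvPolynomial.X (j, i))) =
    (v f g π Gs hfg hπ hG φ) (q f g Gs (MvPolynomial.X (j, i)))
  rw [v_unique f g π Gs hfg hπ hG w, v_unique f g π Gs hfg hπ hG (v f g π Gs hfg hπ hG φ), hw,
    map_v_ev] -/

omit hfg hπ hG in
lemma finiteType_C [Finite J] : Algebra.FiniteType R (C f g Gs) :=
  Algebra.FiniteType.of_surjective (q f g Gs) (q_surjective f g Gs)

omit hfg hπ hG in
lemma finitePresentation_C [Finite J] (hGs : Gs.Finite) :
    Algebra.FinitePresentation R (C f g Gs) := by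
  refine (Algebra.FinitePresentation.quotient (R := R) (I := I' f g Gs) ?_ :
    Algebra.FinitePresentation R (MvPolynomial (J × Fin n) R ⧸ I' f g Gs))
  refine Submodule.fg_span ?_
  refine Set.Finite.union ?_ (Set.finite_range _)
  exact Set.Finite.image _ (hGs.prod Set.finite_univ)

end Construct

section Main
variable {R A B : Type u} [CommRing R] [CommRing A] [Algebra R A] [CommRing B] [Algebra R B]

/-- **The Weil restriction algebra** (algebra form). -/
theorem exists_weilAlg [Module.Finite R A] [Module.Projective R A] :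
    ∃ (C : Type u) (_ : CommRing C) (_ : Algebra R C) (ev : B →ₐ[R] C ⊗[R] A),
      (∀ (R' : Type u) [CommRing R'] [Algebra R R'] (φ : B →ₐ[R] R' ⊗[R] A),
        ∃! w : C →ₐ[R] R', (Algebra.TensorProduct.map w (AlgHom.id R A)).comp ev = φ) ∧
      (Algebra.FiniteType R B → Algebra.FiniteType R C) ∧
      (Algebra.FinitePresentation R B → Algebra.FinitePresentation R C) := by
  obtain ⟨n, f, g, -, -, hfg⟩ := Module.Finite.exists_comp_eq_id_of_projective R A
  by_cases hfp : Algebra.FinitePresentation R B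
  · obtain ⟨m, π, hπ, hker⟩ := hfp.out
    obtain ⟨s, hs⟩ := hker
    let J : Type u := ULift.{u} (Fin m)
    let π' : MvPolynomial J R →ₐ[R] B := π.comp (MvPolynomial.renameEquiv R Equiv.ulift).toAlgHom
    have hπ' : Function.Surjective π' := hπ.comp (MvPolynomial.renameEquiv R Equiv.ulift).surjective
    let Gs : Set (MvPolynomial J R) :=
      (MvPolynomial.renameEquiv R (Equiv.ulift (α := Fin m))).symm '' (s : Set (MvPolynomial (Fin m) R))
    have hG : Ideal.span Gs = RingHom.ker π'.toRingHom := by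
      have h1 : Ideal.span Gs = Ideal.map
          ((MvPolynomial.renameEquiv R (Equiv.ulift (α := Fin m))).symm :
            MvPolynomial (Fin m) R →+* MvPolynomial J R)
          (Ideal.span (s : Set (MvPolynomial (Fin m) R))) := by
        rw [Ideal.map_span]
        rfl
      rw [h1, hs]
      ext p
      constructor
      · intro hp
        obtain ⟨x, hx, rfl⟩ := (Ideal.mem_map_iff_of_surjective _
          (MvPolynomial.renameEquiv R (Equiv.ulift (α := Fin m))).symm.surjective).mp hp
        change π ((MvPolynomial.renameEquiv R Equiv.ulift)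
          ((MvPolynomial.renameEquiv R (Equiv.ulift (α := Fin m))).symm x)) = 0
        rw [AlgEquiv.apply_symm_apply]
        exact hx
      · intro hp
        have hp' : π ((MvPolynomial.renameEquiv R (Equiv.ulift (α := Fin m))) p) = 0 := hp
        have : p = (MvPolynomial.renameEquiv R (Equiv.ulift (α := Fin m))).symm
            ((MvPolynomial.renameEquiv R (Equiv.ulift (α := Fin m))) p) :=
          (AlgEquiv.symm_apply_apply _ _).symm
        rw [this]
        exact Ideal.mem_map_of_mem _ hp'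
    refine ⟨C f g Gs, inferInstance, inferInstance, ev f g π' Gs hfg hπ' hG,
      fun R' _ _ φ => existsUnique f g π' Gs hfg hπ' hG φ, fun _ => finiteType_C f g Gs,
      fun _ => finitePresentation_C f g Gs (Set.Finite.image _ s.finite_toSet)⟩
  by_cases hft : Algebra.FiniteType R B
  · obtain ⟨m, π, hπ⟩ := Algebra.FiniteType.iff_quotient_mvPolynomial''.mp hft
    let J : Type u := ULift.{u} (Fin m)
    let π' : MvPolynomial J R →ₐ[R] B := π.comp (MvPolynomial.renameEquiv R Equiv.ulift).toAlgHom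
    have hπ' : Function.Surjective π' := hπ.comp (MvPolynomial.renameEquiv R Equiv.ulift).surjective
    let Gs : Set (MvPolynomial J R) := (RingHom.ker π'.toRingHom : Set (MvPolynomial J R))
    have hG : Ideal.span Gs = RingHom.ker π'.toRingHom := Ideal.span_eq _
    exact ⟨C f g Gs, inferInstance, inferInstance, ev f g π' Gs hfg hπ' hG,
      fun R' _ _ φ => existsUnique f g π' Gs hfg hπ' hG φ, fun _ => finiteType_C f g Gs,
      fun h => absurd h hfp⟩
  · let π' : MvPolynomial B R →ₐ[R] B := MvPolynomial.aeval id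
    have hπ' : Function.Surjective π' := fun b => ⟨MvPolynomial.X b, by simp [π']⟩
    let Gs : Set (MvPolynomial B R) := (RingHom.ker π'.toRingHom : Set (MvPolynomial B R))
    have hG : Ideal.span Gs = RingHom.ker π'.toRingHom := Ideal.span_eq _
    exact ⟨C f g Gs, inferInstance, inferInstance, ev f g π' Gs hfg hπ' hG,
      fun R' _ _ φ => existsUnique f g π' Gs hfg hπ' hG φ, fun h => absurd h hft,
      fun h => absurd h hfp⟩

end Main

end Groth.Agent.Lib.Helper10.WeilAlg
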