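import Mathlib

/-!
# The affine line over `S` represents global sections, in `Over S`
-/

set_option autoImplicit false
set_option backward.isDefEq.respectTransparency.types false
set_option maxHeartbeats 4000000
set_option synthInstance.maxHeartbeats 400000
universe u
open CategoryTheory CategoryTheory.Limits AlgebraicGeometry TopologicalSpace

namespace Groth.Agent.Lib.Helper10.A1Rep

variable (S : Scheme.{u})

/-- The affine line over `S` as an object of `Over S`. -/
noncomputable def A1 : Over S := Over.mk (𝔸(PUnit.{u+1}; S) ↘ S)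

variable {S}

/-- The morphism to the affine line given by a global section. -/
noncomputable def ofSec {W : Over S} (f : Γ(W.left, ⊤)) : W ⟶ A1 S :=
  Over.homMk (AffineSpace.homOfVector W.hom (fun _ => f)) (AffineSpace.homOfVector_over _ _)

/-- The global section given by a morphism to the affine line. -/
noncomputable def sec {W : Over S} (χ : W ⟶ A1 S) : Γ(W.left, ⊤) :=
  χ.left.appTop (AffineSpace.coord S PUnit.unit)

@[simp]
theorem sec_ofSec {W : Over S} (f : Γ(W.left, ⊤)) : sec (ofSec f) = f := by
  unfold sec ofSec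
  simp only [Over.homMk_left]
  exact AffineSpace.homOfVector_appTop_coord _ _ _

theorem ext_sec {W : Over S} {χ χ' : W ⟶ A1 S} (h : sec χ = sec χ') : χ = χ' := by
  apply Over.OverMorphism.ext
  apply AffineSpace.hom_ext
  · have h1 := Over.w χ
    have h2 := Over.w χ'
    exact h1.trans h2.symm
  · rintro ⟨⟩
    exact h

theorem sec_comp {W W' : Over S} (h : W' ⟶ W) (χ : W ⟶ A1 S) :
    sec (h ≫ χ) = h.left.appTop (sec χ) := by
  unfold sec
  rw [Over.comp_left, Scheme.Hom.comp_appTop]
  rfl

theorem comp_ofSec {W W' : Over S} (h : W' ⟶ W) (f : Γ(W.left, ⊤)) :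
    h ≫ ofSec f = ofSec (h.left.appTop f) := by
  apply ext_sec
  rw [sec_comp, sec_ofSec, sec_ofSec]

theorem ofSec_sec {W : Over S} (χ : W ⟶ A1 S) : ofSec (sec χ) = χ :=
  ext_sec (sec_ofSec _)

end Groth.Agent.Lib.Helper10.A1Rep
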