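import Mathlib

/-!
# A finite set of points of an affine open lying in an open is contained in a smaller affine open
-/

set_option autoImplicit false
set_option linter.unusedSectionVars false
set_option linter.style.haveILetI false
set_option backward.isDefEq.respectTransparency.types false
set_option maxHeartbeats 4000000
set_option synthInstance.maxHeartbeats 400000
universe u
open CategoryTheory CategoryTheory.Limits AlgebraicGeometry Opposite

namespace Groth.Agent.Lib.Helper10.FinAffine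

/-- prime avoidance, geometric form. -/
theorem exists_affineOpen_of_finite {X : Scheme.{u}} {U' : X.Opens} (hU' : IsAffineOpen U')
    (O : X.Opens) {d : ℕ} (x : Fin d → X) (hxU : ∀ k, x k ∈ U') (hxO : ∀ k, x k ∈ O) :
    ∃ U : X.Opens, IsAffineOpen U ∧ U ≤ O ∧ U ≤ U' ∧ ∀ k, x k ∈ U := by
  rcases Nat.eq_zero_or_pos d with hd | hd
  · subst hd
    exact ⟨⊥, isAffineOpen_bot X, bot_le, bot_le, fun k => k.elim0⟩
  let y : Fin d → PrimeSpectrum Γ(X, U') := fun k => hU'.primeIdealOf ⟨x k, hxU k⟩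
  have hy : ∀ k, hU'.fromSpec (y k) = x k := fun k => hU'.fromSpec_primeIdealOf ⟨x k, hxU k⟩
  let t : Set (PrimeSpectrum Γ(X, U')) := {p | hU'.fromSpec p ∉ O}
  have ht : IsClosed t := by
    have h1 : IsOpen (hU'.fromSpec ⁻¹' (O : Set X)) := O.2.preimage hU'.fromSpec.continuous
    exact h1.isClosed_compl
  let I : Ideal Γ(X, U') := PrimeSpectrum.vanishingIdeal t
  have hyO : ∀ k, y k ∉ t := fun k hk => by
    apply hk
    rw [hy]
    exact hxO k
  have hI : ∀ k, ¬ I ≤ (y k).asIdeal := by
    intro k hle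
    have : y k ∈ PrimeSpectrum.zeroLocus (I : Set Γ(X, U')) := by
      rw [PrimeSpectrum.mem_zeroLocus]
      exact hle
    rw [PrimeSpectrum.zeroLocus_vanishingIdeal_eq_closure, ht.closure_eq] at this
    exact hyO k this
  have hnot : ¬ ((I : Set Γ(X, U')) ⊆ ⋃ k ∈ ((Finset.univ : Finset (Fin d)) : Set (Fin d)),
      ((y k).asIdeal : Set Γ(X, U'))) := by
    rw [Ideal.subset_union_prime (⟨0, hd⟩ : Fin d) ⟨0, hd⟩
      (fun k _ _ _ => (y k).isPrime)]
    rintro ⟨k, -, hk⟩
    exact hI k hk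
  obtain ⟨r, hrI, hr⟩ := Set.not_subset.mp hnot
  have hr' : ∀ k, r ∉ (y k).asIdeal := by
    intro k hk
    apply hr
    simp only [Finset.coe_univ, Set.mem_univ, Set.iUnion_true, Set.mem_iUnion]
    exact ⟨k, hk⟩
  refine ⟨X.basicOpen r, hU'.basicOpen r, ?_, X.basicOpen_le r, fun k => ?_⟩
  · rw [← hU'.fromSpec_image_basicOpen]
    rintro _ ⟨p, hp, rfl⟩
    change hU'.fromSpec p ∈ O
    by_contra hc
    have hpt : p ∈ t := hc
    have := (PrimeSpectrum.mem_vanishingIdeal t r).mp hrI p hpt
    exact hp this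
  · rw [← hU'.fromSpec_image_basicOpen, ← hy k]
    exact ⟨y k, hr' k, rfl⟩

end Groth.Agent.Lib.Helper10.FinAffine
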