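import Mathlib
import Groth.Agent.Lib.Helper10.FinAffine

/-!
# Finite subsets of a fibre of a separated locally quasi-finite morphism lie in an affine open
-/

set_option autoImplicit false
set_option linter.unusedSectionVars false
set_option linter.style.haveILetI false
set_option backward.isDefEq.respectTransparency.types false
set_option maxHeartbeats 4000000
set_option synthInstance.maxHeartbeats 400000
universe u
open CategoryTheory CategoryTheory.Limits AlgebraicGeometry Opposite

namespace Groth.Agent.Lib.Helper10.FinAffine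

theorem exists_affineOpen_of_lqf {X S : Scheme.{u}} (f : X ⟶ S) [IsSeparated f]
    [LocallyQuasiFinite f] [LocallyOfFiniteType f] (s : S) (d : ℕ) (x : Fin d → X)
    (hx : ∀ k, f (x k) = s) : ∃ U : X.Opens, IsAffineOpen U ∧ ∀ k, x k ∈ U := by
  obtain ⟨(V : S.Opens), hV, hsV, -⟩ :=
    exists_isAffineOpen_mem_and_subset (x := s) (U := ⊤) trivial
  have hex : ∀ k, ∃ Uk : X.Opens, IsAffineOpen Uk ∧ x k ∈ Uk ∧ Uk ≤ f ⁻¹ᵁ V := by
    intro k
    obtain ⟨Uk, hUk, hxk, hle⟩ := exists_isAffineOpen_mem_and_subset (x := x k) (U := f ⁻¹ᵁ V)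
      (by change f (x k) ∈ V; rw [hx]; exact hsV)
    exact ⟨Uk, hUk, hxk, hle⟩
  choose Uk hUk hxk hle using hex
  let X' : X.Opens := ⨆ k, Uk k
  have hX'le : X' ≤ f ⁻¹ᵁ V := iSup_le hle
  have hxX' : ∀ k, x k ∈ X' := fun k => TopologicalSpace.Opens.mem_iSup.mpr ⟨k, hxk k⟩
  have hcpt : IsCompact (X' : Set X) := by
    have : (X' : Set X) = ⋃ k, (Uk k : Set X) := by
      simp [X']
    rw [this]
    exact isCompact_iUnion (fun k => (hUk k).isCompact)
  haveI : CompactSpace X' := (isCompact_iff_compactSpace.mp hcpt : CompactSpace (X' : Set X))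
  haveI : IsAffine V.toScheme := hV
  let f' : X'.toScheme ⟶ V.toScheme := f.resLE V X' hX'le
  haveI : QuasiCompact f' := inferInstance
  haveI : IsAffine f'.normalization := isAffine_of_isAffineHom f'.fromNormalization
  let n := f'.toNormalization
  obtain ⟨UN, hUN, hUNO, -, hxUN⟩ := exists_affineOpen_of_finite
    (isAffineOpen_top f'.normalization) n.opensRange (fun k => n ⟨x k, hxX' k⟩)
    (fun _ => trivial) (fun k => ⟨_, rfl⟩)
  have h1 : IsAffineOpen (n ⁻¹ᵁ UN) := by
    rw [← Scheme.Hom.isAffineOpen_iff_of_isOpenImmersion n]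
    have : n ''ᵁ (n ⁻¹ᵁ UN) = UN := by
      rw [Scheme.Hom.image_preimage_eq_opensRange_inf]
      exact inf_eq_right.mpr hUNO
    rw [this]
    exact hUN
  refine ⟨X'.ι ''ᵁ (n ⁻¹ᵁ UN), (Scheme.Hom.isAffineOpen_iff_of_isOpenImmersion X'.ι).mpr h1,
    fun k => ?_⟩
  exact ⟨⟨x k, hxX' k⟩, hxUN k, rfl⟩

end Groth.Agent.Lib.Helper10.FinAffine
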