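import Groth.Agent.Lib.Helper21.DSPts
import Groth.Prelude.Def_Magnet3

/-!
# Points of the diagonalizable monoid schemes `A(N)_S` (monoid version of helper21's `DSPts`)
-/

set_option autoImplicit false
set_option backward.isDefEq.respectTransparency.types false
universe u
open CategoryTheory MonoidalCategory CartesianMonoidalCategory MonObj AlgebraicGeometry CategoryTheory.Limits
open Magnet
open Groth.Agent.Lib.Helper21.GaPts

namespace Groth.Agent.Lib.Helper10.AMonPts

section BaseChange

open Functor in
/-- Multiplication of points of a base-changed monoid scheme, computed on the first projection. -/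
theorem bc_mul_left_fst {S S' : Scheme.{u}} (f : S' ⟶ S) (G : Over S) [MonObj G] {X : Over S'}
    (x y : X ⟶ Red.bc f G) :
    (x * y).left ≫ pullback.fst G.hom f =
      pullback.lift (x.left ≫ pullback.fst G.hom f) (y.left ≫ pullback.fst G.hom f)
        (by
          have hx := Over.w x
          have hy := Over.w y
          dsimp at hx hy
          rw [Category.assoc, Category.assoc, pullback.condition, reassoc_of% hx, reassoc_of% hy]) ≫
        μ[G].left := by
  rw [Hom.mul_def]
  have hμ : μ[Red.bc f G] = LaxMonoidal.μ (Over.pullback f) G G ≫ (Over.pullback f).map μ[G] := rfl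
  rw [hμ]
  simp only [Over.comp_left, Category.assoc]
  have h1 : ((Over.pullback f).map μ[G]).left ≫ pullback.fst G.hom f =
      pullback.fst (G ⊗ G).hom f ≫ μ[G].left := pullback.lift_fst _ _ _
  rw [h1]
  simp only [← Category.assoc]
  congr 1
  apply pullback.hom_ext
  · simp only [Category.assoc, pullback.lift_fst]
    rw [Over.μ_pullback_left_fst_fst]
    simp only [Over.lift_left]
    rw [pullback.lift_fst_assoc]
  · simp only [Category.assoc, pullback.lift_snd]
    rw [Over.μ_pullback_left_fst_snd]
    simp only [Over.lift_left]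
    rw [pullback.lift_snd_assoc]

open Functor in
/-- The unit point of a base-changed monoid scheme, computed on the first projection. -/
theorem bc_one_left_fst {S S' : Scheme.{u}} (f : S' ⟶ S) (G : Over S) [MonObj G] {X : Over S'} :
    (1 : X ⟶ Red.bc f G).left ≫ pullback.fst G.hom f = (X.hom ≫ f) ≫ η[G].left := by
  rw [Hom.one_def]
  have hη : η[Red.bc f G] = LaxMonoidal.ε (Over.pullback f) ≫ (Over.pullback f).map η[G] := rfl
  rw [hη]
  simp only [Over.comp_left, Category.assoc]
  have h1 : ((Over.pullback f).map η[G]).left ≫ pullback.fst G.hom f =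
      pullback.fst (𝟙_ (Over S)).hom f ≫ η[G].left := pullback.lift_fst _ _ _
  rw [h1]
  simp only [← Category.assoc]
  congr 1
  have h2 : (toUnit X).left = X.hom := rfl
  rw [h2]
  have h3 : (LaxMonoidal.ε (Over.pullback f)).left ≫ pullback.fst (𝟙_ (Over S)).hom f = f := by
    rw [Over.ε_pullback_left, IsIso.inv_comp_eq]
    have := pullback.condition (f := (𝟙_ (Over S)).hom) (g := f)
    simpa using this
  rw [Category.assoc, h3]

end BaseChange

section Pts

variable {S : Scheme.{u}} {N N' : Type} [AddCommMonoid N] [AddCommMonoid N']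

/-- The first projection of a point of `A(N)_S`: a morphism to `Spec ℤ[N]`. -/
noncomputable def amProj {X : Over S} (x : X ⟶ AMonS S N) :
    X.left ⟶ Spec (CommRingCat.of (MonoidAlgebra (ULift.{u} ℤ) (Multiplicative N))) :=
  x.left ≫ pullback.fst _ _

/-- The ring map `ℤ[N] → Γ(X, O_X)` defined by a point of `A(N)_S`. -/
noncomputable def amHom {X : Over S} (x : X ⟶ AMonS S N) :
    MonoidAlgebra (ULift.{u} ℤ) (Multiplicative N) →+* Γ(X.left, ⊤) :=
  evalHom (amProj x)

/-- The value of the character `n` on the point `x` of `A(N)_S`. -/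
noncomputable def amFn (n : N) {X : Over S} (x : X ⟶ AMonS S N) : Γ(X.left, ⊤) :=
  amHom x (MonoidAlgebra.single (Multiplicative.ofAdd n) 1)

theorem amFn_zero {X : Over S} (x : X ⟶ AMonS S N) : amFn (0 : N) x = 1 := by
  rw [amFn, ofAdd_zero, ← MonoidAlgebra.one_def, map_one]

theorem amFn_add (n n' : N) {X : Over S} (x : X ⟶ AMonS S N) :
    amFn (n + n') x = amFn n x * amFn n' x := by
  rw [amFn, amFn, amFn, ← map_mul, MonoidAlgebra.single_mul_single, ofAdd_add, _root_.mul_one]

/-- The monoid law of `A(N)_S` multiplies character values. -/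
theorem amFn_mul (n : N) {X : Over S} (x y : X ⟶ AMonS S N) :
    amFn n (x * y) = amFn n x * amFn n y := by
  have h := bc_mul_left_fst (specULiftZIsTerminal.from S) (AMon (ULift.{u} ℤ) N) x y
  refine (congrArg (fun z : X.left ⟶ Spec (CommRingCat.of (MonoidAlgebra (ULift.{u} ℤ) (Multiplicative N))) =>
    evalHom z (MonoidAlgebra.single (Multiplicative.ofAdd n) 1)) h).trans ?_
  exact evalHom_lift_mul_of_grouplike _ _ _ _ _ _
    (MonoidAlgebra.isGroupLikeElem_single_one (R := ULift.{u} ℤ) (A := ULift.{u} ℤ)
      (Multiplicative.ofAdd n)).comul_eq_tmul_self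

theorem amFn_one (n : N) {X : Over S} : amFn n (1 : X ⟶ AMonS S N) = 1 := by
  have h := bc_one_left_fst (specULiftZIsTerminal.from S) (AMon (ULift.{u} ℤ) N) (X := X)
  have h' : amProj (1 : X ⟶ AMonS S N) =
      (X.hom ≫ specULiftZIsTerminal.from S) ≫
        (Spec.map (CommRingCat.ofHom (Bialgebra.counitAlgHom (ULift.{u} ℤ)
          (MonoidAlgebra (ULift.{u} ℤ) (Multiplicative N))).toRingHom) :
          Spec (CommRingCat.of (ULift.{u} ℤ)) ⟶
            Spec (CommRingCat.of (MonoidAlgebra (ULift.{u} ℤ) (Multiplicative N)))) := h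
  rw [amFn, amHom, h', evalHom_specMap_apply]
  have : (Bialgebra.counitAlgHom (ULift.{u} ℤ) (MonoidAlgebra (ULift.{u} ℤ) (Multiplicative N))).toRingHom
      (MonoidAlgebra.single (Multiplicative.ofAdd n) 1) = 1 := by
    simp
  rw [this, map_one]

theorem amFn_comp (n : N) {X X' : Over S} (g : X' ⟶ X) (x : X ⟶ AMonS S N) :
    amFn n (g ≫ x) = g.left.appTop (amFn n x) := by
  rw [amFn, amFn, amHom, amHom, amProj, amProj, Over.comp_left, Category.assoc, evalHom_comp_apply]

/-- Ring maps out of `ℤ[N]` (universe-lifted) are determined by their values on the monoid elements. -/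
theorem monAlgHom_ext {B : Type*} [CommRing B]
    (ψ₁ ψ₂ : MonoidAlgebra (ULift.{u} ℤ) (Multiplicative N) →+* B)
    (h : ∀ n : N, ψ₁ (MonoidAlgebra.single (Multiplicative.ofAdd n) 1) =
      ψ₂ (MonoidAlgebra.single (Multiplicative.ofAdd n) 1)) : ψ₁ = ψ₂ := by
  refine MonoidAlgebra.ringHom_ext (fun r => ?_) (fun m => h (Multiplicative.toAdd m))
  have hr : (MonoidAlgebra.single (1 : Multiplicative N) r : MonoidAlgebra (ULift.{u} ℤ) (Multiplicative N)) =
      ((r.down : ℤ) : MonoidAlgebra (ULift.{u} ℤ) (Multiplicative N)) := by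
    have hr' : r = ((r.down : ℤ) : ULift.{u} ℤ) := by
      apply ULift.ext; simp
    conv_lhs => rw [hr']
    rw [← map_intCast (MonoidAlgebra.singleOneRingHom (R := ULift.{u} ℤ) (M := Multiplicative N))]
    rfl
  rw [hr, map_intCast, map_intCast]

theorem amFn_injective {X : Over S} {x y : X ⟶ AMonS S N} (h : ∀ n : N, amFn n x = amFn n y) : x = y := by
  apply Over.OverMorphism.ext
  apply pullback.hom_ext
  · apply evalHom_injective
    exact monAlgHom_ext _ _ h
  · have hx := Over.w x
    have hy := Over.w y
    dsimp at hx hy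
    rw [hx, hy]

/-- The ring map `ℤ[N] → B` defined by a character `N → B`. -/
noncomputable def monAlgHom {B : Type u} [CommRing B] (χ : Multiplicative N →* B) :
    MonoidAlgebra (ULift.{u} ℤ) (Multiplicative N) →+* B :=
  MonoidAlgebra.liftNCRingHom ((Int.castRingHom B).comp (ULift.ringEquiv : ULift.{u} ℤ ≃+* ℤ).toRingHom) χ
    (fun _ _ => Commute.all _ _)

theorem monAlgHom_single {B : Type u} [CommRing B] (χ : Multiplicative N →* B) (n : N) :
    monAlgHom χ (MonoidAlgebra.single (Multiplicative.ofAdd n) 1) = χ (Multiplicative.ofAdd n) := by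
  rw [monAlgHom, MonoidAlgebra.liftNCRingHom_single]
  change ((1 : ℤ) : B) * _ = _
  simp

/-- The point of `A(N)_S` with values in `X` defined by a character `N → Γ(X, O_X)`. -/
noncomputable def amPt {X : Over S} (χ : Multiplicative N →* Γ(X.left, ⊤)) : X ⟶ AMonS S N :=
  Over.homMk (pullback.lift (ofRingHom (monAlgHom χ)) X.hom (specULiftZIsTerminal.hom_ext _ _))
    (pullback.lift_snd _ _ _)

@[simp]
theorem amFn_amPt {X : Over S} (χ : Multiplicative N →* Γ(X.left, ⊤)) (n : N) :
    amFn n (amPt (S := S) χ) = χ (Multiplicative.ofAdd n) := by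
  have h : amProj (amPt (S := S) χ) = ofRingHom (monAlgHom χ) := pullback.lift_fst _ _ _
  rw [amFn, amHom, h, evalHom_ofRingHom, monAlgHom_single]

/-- The character `N → Γ(X, O_X)` of a point of `A(N)_S`. -/
noncomputable def amChar {X : Over S} (x : X ⟶ AMonS S N) : Multiplicative N →* Γ(X.left, ⊤) where
  toFun n := amFn (Multiplicative.toAdd n) x
  map_one' := amFn_zero x
  map_mul' _ _ := amFn_add _ _ x

theorem amPt_amChar {X : Over S} (x : X ⟶ AMonS S N) : amPt (amChar x) = x :=
  amFn_injective fun n => by rw [amFn_amPt]; rfl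

/-- Naturality in the character monoid. -/
theorem amFn_map (φ : N →+ N') (n : N) {X : Over S} (x : X ⟶ AMonS S N') :
    amFn n (x ≫ AMonS.map S φ) = amFn (φ n) x := by
  have h : amProj (x ≫ AMonS.map S φ) = amProj x ≫ Spec.map (CommRingCat.ofHom
      (MonoidAlgebra.mapDomainBialgHom (ULift.{u} ℤ) (AddMonoidHom.toMultiplicative φ)).toAlgHom.toRingHom) := by
    rw [amProj, amProj, Over.comp_left, Category.assoc, Category.assoc]
    congr 1
    exact pullback.lift_fst _ _ _
  rw [amFn, amHom, h, evalHom_specMap_apply]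
  congr 1
  exact MonoidAlgebra.mapDomainBialgHom_single _ _ _

end Pts

end Groth.Agent.Lib.Helper10.AMonPts
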