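import Mathlib

/-!
# Images of geometrically integral schemes are geometrically integral
-/

set_option autoImplicit false
set_option backward.isDefEq.respectTransparency.types false
set_option maxHeartbeats 4000000
set_option synthInstance.maxHeartbeats 400000
universe u
open CategoryTheory CategoryTheory.Limits AlgebraicGeometry

namespace Groth.Agent.Lib.Helper10.GeomIntImage

variable {k : Type u} [Field k]

theorem geometricallyIntegral_of_dominant {A H : Over (Spec (CommRingCat.of k))} (p : A ⟶ H)
    [GeometricallyIntegral A.hom] [IsSchemeTheoreticallyDominant p.left] [QuasiCompact p.left]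
    [Surjective p.left] : GeometricallyIntegral H.hom := by
  constructor
  intro K _ y Z fst snd hpb
  haveI : Subsingleton ↥(Spec (CommRingCat.of k)) :=
    inferInstanceAs (Subsingleton (PrimeSpectrum k))
  haveI : Flat y := inferInstance
  haveI : Flat fst := MorphismProperty.of_isPullback (P := @Flat) hpb.flip inferInstance
  have top : IsPullback (pullback.fst p.left fst) (pullback.snd p.left fst) p.left fst :=
    IsPullback.of_hasPullback _ _
  have big := top.paste_vert hpb
  rw [Over.w p] at big
  haveI : IsIntegral (pullback p.left fst) :=
    GeometricallyIntegral.geometrically_isIntegral (f := A.hom) y _ _ big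
  haveI : IsSchemeTheoreticallyDominant (pullback.snd p.left fst) := inferInstance
  haveI : QuasiCompact (pullback.snd p.left fst) := inferInstance
  haveI : Surjective (pullback.snd p.left fst) := inferInstance
  haveI : IsReduced Z := IsSchemeTheoreticallyDominant.isReduced (pullback.snd p.left fst)
  haveI : IrreducibleSpace ↥Z := by
    have h1 : IsIrreducible (Set.univ : Set ↥(pullback p.left fst)) :=
      (irreducibleSpace_def _).mp inferInstance
    have h2 := h1.image (pullback.snd p.left fst)
      (pullback.snd p.left fst).continuous.continuousOn
    rw [Set.image_univ, Set.range_eq_univ.mpr (pullback.snd p.left fst).surjective] at h2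
    exact (irreducibleSpace_def _).mpr h2
  exact (isIntegral_iff_irreducibleSpace_and_isReduced _).mpr ⟨inferInstance, inferInstance⟩

end Groth.Agent.Lib.Helper10.GeomIntImage
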