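import Mathlib
import Groth.Agent.Lib.Helper10.IdComp2

/-!
# Identity component of a group scheme over a field, part 3:
the irreducible component through the unit is geometrically irreducible
-/

set_option autoImplicit false
set_option backward.isDefEq.respectTransparency.types false
set_option maxHeartbeats 4000000
set_option synthInstance.maxHeartbeats 400000

universe u

open CategoryTheory CategoryTheory.Limits AlgebraicGeometry MonoidalCategory
  CartesianMonoidalCategory MonObj GrpObj

namespace Groth.Agent.Lib.Helper10.IdComp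

section Top

variable {X Y : Type*} [TopologicalSpace X] [TopologicalSpace Y]

theorem preimage_eq_irreducibleComponent [QuasiSober Y] (π : X → Y) (hc : Continuous π)
    (hcl : IsClosedMap π) (hg : GeneralizingMap π) (Z : Set Y)
    (hZ : Z ∈ irreducibleComponents Y)
    (e' : X) (heZ : π e' ∈ Z) (hu : UniqueComp (π e')) (hu' : UniqueComp e')
    (hfib : ∀ w, π w = π e' → w = e') : π ⁻¹' Z = irreducibleComponent e' := by
  apply Set.Subset.antisymm
  · intro w hw
    obtain ⟨C', hC', hwC', hcl'⟩ := exists_comp_over π hc hg w Z hZ hw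
    have h1 : IsClosed (π '' C') := hcl _ (isClosed_of_mem_irreducibleComponents C' hC')
    rw [h1.closure_eq] at hcl'
    have : π e' ∈ π '' C' := hcl' ▸ heZ
    obtain ⟨c, hc1, hc2⟩ := this
    rw [hfib c hc2] at hc1
    rw [← hu'.eq_irreducibleComponent hC' hc1]
    exact hwC'
  · intro w hw
    have h1 : IsIrreducible (closure (π '' irreducibleComponent e')) :=
      (isIrreducible_irreducibleComponent.image π hc.continuousOn).closure
    have h2 : π e' ∈ closure (π '' irreducibleComponent e') :=
      subset_closure ⟨e', mem_irreducibleComponent, rfl⟩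
    have h3 := hu.subset_irreducibleComponent h1 h2
    rw [← hu.eq_irreducibleComponent hZ heZ] at h3
    exact h3 (subset_closure ⟨w, hw, rfl⟩)

end Top

section Geom

variable (K : Type u) [Field K] (G : Over (Spec (CommRingCat.of K))) [GrpObj G]

theorem isIrreducible_preimage_algClosure (Z : Set ↥G.left)
    (hZ : Z ∈ irreducibleComponents ↥G.left)
    (pt : ↥(𝟙_ (Over (Spec (CommRingCat.of K)))).left) (he : η[G].left pt ∈ Z) :
    IsIrreducible ((pullback.fst G.hom
      (Spec.map (CommRingCat.ofHom (algebraMap K (AlgebraicClosure K))))) ⁻¹' Z) := by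
  set t : Spec (CommRingCat.of (AlgebraicClosure K)) ⟶ Spec (CommRingCat.of K) :=
    Spec.map (CommRingCat.ofHom (algebraMap K (AlgebraicClosure K))) with ht
  letI : GrpObj ((Over.pullback t).obj G) := Functor.grpObjObj
  haveI : IsIntegralHom t := by
    rw [ht, IsIntegralHom.SpecMap_iff]
    exact algebraMap_isIntegral_iff.mpr inferInstance
  have hsK : Subsingleton ↥(Spec (CommRingCat.of K)) :=
    inferInstanceAs (Subsingleton (PrimeSpectrum K))
  have hsΩ : Subsingleton ↥(Spec (CommRingCat.of (AlgebraicClosure K))) :=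
    inferInstanceAs (Subsingleton (PrimeSpectrum (AlgebraicClosure K)))
  obtain ⟨pt'⟩ : Nonempty ↥(Spec (CommRingCat.of (AlgebraicClosure K))) :=
    inferInstanceAs (Nonempty (PrimeSpectrum (AlgebraicClosure K)))
  have hw : η[G].left ≫ G.hom = 𝟙 _ := Over.w η[G]
  let s : Spec (CommRingCat.of (AlgebraicClosure K)) ⟶ pullback G.hom t :=
    pullback.lift (t ≫ η[G].left) (𝟙 _) (by rw [Category.assoc, hw]; simp)
  set π := pullback.fst G.hom t with hπ
  have hπe : π (s pt') = η[G].left pt := by
    rw [← Scheme.Hom.comp_apply, hπ, pullback.lift_fst, Scheme.Hom.comp_apply]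
    congr 1
    exact Subsingleton.elim (α := ↥(Spec (CommRingCat.of K))) _ _
  -- the fibre over the unit
  have hE : IsPullback (pullback.fst η[G].left π)
      (pullback.snd η[G].left π ≫ pullback.snd G.hom t) (η[G].left ≫ G.hom) t :=
    (IsPullback.of_hasPullback η[G].left π).paste_vert (IsPullback.of_hasPullback G.hom t)
  have hiso : IsIso (η[G].left ≫ G.hom) := by rw [hw]; infer_instance
  haveI : IsIso (pullback.snd η[G].left π ≫ pullback.snd G.hom t) := hE.isIso_snd_of_isIso hiso
  have hsE : Subsingleton ↥(pullback η[G].left π) :=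
    (pullback.snd η[G].left π ≫ pullback.snd G.hom t).homeomorph.injective.subsingleton
  have hfib : ∀ w, π w = π (s pt') → w = s pt' := by
    intro w hw'
    rw [hπe] at hw'
    obtain ⟨z, -, hz⟩ := Scheme.Pullback.exists_preimage_pullback (f := η[G].left) (g := π)
      pt w hw'.symm
    obtain ⟨z', -, hz'⟩ := Scheme.Pullback.exists_preimage_pullback (f := η[G].left) (g := π)
      pt (s pt') hπe.symm
    rw [← hz, ← hz', Subsingleton.elim z z']
  have hu' : UniqueComp (s pt') := uniqueComp (AlgebraicClosure K) ((Over.pullback t).obj G) (s pt')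
  have hu : UniqueComp (π (s pt')) := uniqueComp K G _
  have hflat : Flat π := inferInstance
  have hkey := preimage_eq_irreducibleComponent π π.continuous π.isClosedMap
    (Flat.generalizingMap π) Z hZ (s pt') (hπe ▸ he) hu hu' hfib
  rw [hkey]
  exact isIrreducible_irreducibleComponent

/-- the irreducible component through the unit is geometrically irreducible. -/
theorem geometricallyIrreducible_of_closedImmersion (Z : Scheme.{u}) (incl : Z ⟶ G.left)
    [IsClosedImmersion incl] (hZ : Set.range incl ∈ irreducibleComponents ↥G.left)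
    (pt : ↥(𝟙_ (Over (Spec (CommRingCat.of K)))).left) (he : η[G].left pt ∈ Set.range incl) :
    GeometricallyIrreducible (incl ≫ G.hom) := by
  set t : Spec (CommRingCat.of (AlgebraicClosure K)) ⟶ Spec (CommRingCat.of K) :=
    Spec.map (CommRingCat.ofHom (algebraMap K (AlgebraicClosure K))) with ht
  set π := pullback.fst G.hom t with hπ
  -- step A
  have hA0 : IrreducibleSpace ↥(pullback incl π) := by
    apply irreducibleSpace_of_isInducing _ (pullback.snd incl π).isEmbedding.isInducing
    rw [Scheme.Pullback.range_snd]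
    exact isIrreducible_preimage_algClosure K G _ hZ pt he
  have hA : IrreducibleSpace ↥(pullback (incl ≫ G.hom) t) :=
    ((pullbackRightPullbackFstIso G.hom t incl).hom.homeomorph.irreducibleSpace_iff).mp hA0
  -- step B
  haveI hB : GeometricallyIrreducible (pullback.snd (incl ≫ G.hom) t) :=
    Groth.Agent.Lib.Helper5.geometricallyIrreducible_of_isAlgClosed (AlgebraicClosure K) _
  -- step C
  refine ⟨geometrically_iff_of_isClosedUnderIsomorphisms.mpr fun L _ y => ?_⟩
  obtain ⟨φ, rfl⟩ := Spec.map_surjective y
  let r : Spec (CommRingCat.of (AlgebraicClosure L)) ⟶ Spec (CommRingCat.of L) :=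
    Spec.map (CommRingCat.ofHom (algebraMap L (AlgebraicClosure L)))
  letI : Algebra K (AlgebraicClosure L) := ((algebraMap L (AlgebraicClosure L)).comp φ.hom).toAlgebra
  let lft : AlgebraicClosure K →ₐ[K] AlgebraicClosure L := IsAlgClosed.lift
  let φ' : AlgebraicClosure K →+* AlgebraicClosure L := lft.toRingHom
  have hcomp : Spec.map (CommRingCat.ofHom φ') ≫ t = r ≫ Spec.map φ := by
    rw [ht, ← Spec.map_comp, ← Spec.map_comp]
    congr 1
    ext x
    change lft (algebraMap K (AlgebraicClosure K) x) = algebraMap L (AlgebraicClosure L) (φ.hom x)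
    rw [lft.commutes]
    rfl
  have h1 : IrreducibleSpace
      ↥(pullback (pullback.snd (incl ≫ G.hom) t) (Spec.map (CommRingCat.ofHom φ'))) :=
    GeometricallyIrreducible.geometrically_irreducibleSpace (f := pullback.snd (incl ≫ G.hom) t)
      (Spec.map (CommRingCat.ofHom φ')) _ _ (IsPullback.of_hasPullback _ _)
  have h2 : IrreducibleSpace ↥(pullback (incl ≫ G.hom) (Spec.map (CommRingCat.ofHom φ') ≫ t)) :=
    ((pullbackLeftPullbackSndIso (incl ≫ G.hom) t
      (Spec.map (CommRingCat.ofHom φ'))).hom.homeomorph.irreducibleSpace_iff).mp h1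
  have h3 : IrreducibleSpace ↥(pullback (incl ≫ G.hom) (r ≫ Spec.map φ)) :=
    ((pullback.congrHom (rfl : incl ≫ G.hom = incl ≫ G.hom)
      hcomp).hom.homeomorph.irreducibleSpace_iff).mp h2
  have h4 : IrreducibleSpace ↥(pullback (pullback.snd (incl ≫ G.hom) (Spec.map φ)) r) :=
    ((pullbackLeftPullbackSndIso (incl ≫ G.hom) (Spec.map φ)
      r).hom.homeomorph.irreducibleSpace_iff).mpr h3
  haveI : Surjective r := by
    refine ⟨fun x => ?_⟩
    obtain ⟨y⟩ : Nonempty ↥(Spec (CommRingCat.of (AlgebraicClosure L))) :=
      inferInstanceAs (Nonempty (PrimeSpectrum (AlgebraicClosure L)))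
    haveI : Subsingleton ↥(Spec (CommRingCat.of L)) :=
      inferInstanceAs (Subsingleton (PrimeSpectrum L))
    exact ⟨y, Subsingleton.elim _ _⟩
  haveI : Surjective (pullback.fst (pullback.snd (incl ≫ G.hom) (Spec.map φ)) r) := inferInstance
  exact (pullback.fst (pullback.snd (incl ≫ G.hom) (Spec.map φ)) r).surjective.irreducibleSpace
    (pullback.fst (pullback.snd (incl ≫ G.hom) (Spec.map φ)) r).continuous

end Geom

end Groth.Agent.Lib.Helper10.IdComp
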