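import Mathlib
import Groth.Agent.Lib.Helper10.IdComp3
import Groth.Agent.Lib.Helper10.GrpTranslate

/-!
# Identity component of a group scheme over a field, part 4:
products of subsets, the component through the unit is a quasi-compact "subgroup"
-/

set_option autoImplicit false
set_option backward.isDefEq.respectTransparency.types false
set_option maxHeartbeats 4000000
set_option synthInstance.maxHeartbeats 400000

universe u

open CategoryTheory CategoryTheory.Limits AlgebraicGeometry MonoidalCategory
  CartesianMonoidalCategory MonObj GrpObj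

namespace Groth.Agent.Lib.Helper10.IdComp

open Groth.Agent.Lib.Helper10.GrpTranslate

section FieldPoint

variable {K : Type u} [Field K]

theorem exists_fieldPoint (X : Over (Spec (CommRingCat.of K))) (p : ↥X.left) :
    ∃ (T : Over (Spec (CommRingCat.of K))) (q : T ⟶ X) (t0 : ↥T.left),
      q.left t0 = p ∧ (∀ t : ↥T.left, t = t0) ∧ IrreducibleSpace ↥T.left := by
  have hs : Subsingleton ↥(Spec (X.left.residueField p)) :=
    inferInstanceAs (Subsingleton (PrimeSpectrum (X.left.residueField p)))
  obtain ⟨t0⟩ : Nonempty ↥(Spec (X.left.residueField p)) :=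
    inferInstanceAs (Nonempty (PrimeSpectrum (X.left.residueField p)))
  refine ⟨Over.mk (X.left.fromSpecResidueField p ≫ X.hom),
    Over.homMk (X.left.fromSpecResidueField p) rfl, t0, ?_,
    fun t => Subsingleton.elim (α := ↥(Spec (X.left.residueField p))) _ _, ?_⟩
  · have : X.left.fromSpecResidueField p t0 ∈ Set.range (X.left.fromSpecResidueField p) :=
      ⟨_, rfl⟩
    rw [Scheme.range_fromSpecResidueField] at this
    exact this
  · exact inferInstanceAs (IrreducibleSpace (PrimeSpectrum (X.left.residueField p)))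

end FieldPoint

section MulSet

variable {K : Type u} [Field K] {G : Over (Spec (CommRingCat.of K))} [GrpObj G]

/-- the product `A · B` of two subsets of `G`. -/
def mulSet (A B : Set ↥G.left) : Set ↥G.left :=
  μ[G].left '' ((fst G G).left ⁻¹' A ∩ (snd G G).left ⁻¹' B)

theorem mul_mem_mulSet {T : Over (Spec (CommRingCat.of K))} (g h : T ⟶ G) (t : ↥T.left)
    {A B : Set ↥G.left} (hg : g.left t ∈ A) (hh : h.left t ∈ B) :
    (g * h).left t ∈ mulSet A B := by
  rw [Hom.mul_def]
  refine ⟨(lift g h).left t, ⟨?_, ?_⟩, ?_⟩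
  · change (fst G G).left ((lift g h).left t) ∈ A
    rw [← Scheme.Hom.comp_apply, ← Over.comp_left, lift_fst]
    exact hg
  · change (snd G G).left ((lift g h).left t) ∈ B
    rw [← Scheme.Hom.comp_apply, ← Over.comp_left, lift_snd]
    exact hh
  · rw [← Scheme.Hom.comp_apply, ← Over.comp_left]

theorem fst_mul_snd : fst G G * snd G G = μ[G] := by
  rw [Hom.mul_def, lift_fst_snd, Category.id_comp]

theorem exists_points_of_mem_mulSet {A B : Set ↥G.left} {y : ↥G.left} (hy : y ∈ mulSet A B) :
    ∃ (T : Over (Spec (CommRingCat.of K))) (g h : T ⟶ G) (t : ↥T.left),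
      g.left t ∈ A ∧ h.left t ∈ B ∧ (g * h).left t = y ∧ (∀ t' : ↥T.left, t' = t) ∧
        IrreducibleSpace ↥T.left := by
  obtain ⟨w, ⟨hwA, hwB⟩, rfl⟩ := hy
  obtain ⟨T, q, t0, hq, hT, hirr⟩ := exists_fieldPoint (G ⊗ G) w
  refine ⟨T, q ≫ fst G G, q ≫ snd G G, t0, ?_, ?_, ?_, hT, hirr⟩
  · rw [Over.comp_left, Scheme.Hom.comp_apply, hq]
    exact hwA
  · rw [Over.comp_left, Scheme.Hom.comp_apply, hq]
    exact hwB
  · rw [← MonObj.comp_mul, fst_mul_snd, Over.comp_left, Scheme.Hom.comp_apply, hq]

theorem mulSet_mono {A A' B B' : Set ↥G.left} (hA : A ⊆ A') (hB : B ⊆ B') :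
    mulSet A B ⊆ mulSet A' B' := by
  rintro _ ⟨w, ⟨h1, h2⟩, rfl⟩
  exact ⟨w, ⟨hA h1, hB h2⟩, rfl⟩

theorem mulMap_eq {X Y : Over (Spec (CommRingCat.of K))} (a : X ⟶ G) (b : Y ⟶ G) :
    mulMap a b = (a ⊗ₘ b) ≫ μ[G] := by
  rw [mulMap, Hom.mul_def, lift_fst_comp_snd_comp]

theorem range_mulMap {X Y : Over (Spec (CommRingCat.of K))} (a : X ⟶ G) (b : Y ⟶ G) :
    Set.range (mulMap a b).left = mulSet (Set.range a.left) (Set.range b.left) := by
  have h1 : (a ⊗ₘ b).left = pullback.map X.hom Y.hom G.hom G.hom a.left b.left (𝟙 _)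
      (by simp) (by simp) := rfl
  have h2 : Set.range (a ⊗ₘ b).left =
      (fst G G).left ⁻¹' Set.range a.left ∩ (snd G G).left ⁻¹' Set.range b.left := by
    rw [h1, Scheme.Pullback.range_map]
    rfl
  rw [mulMap_eq, mulSet, ← h2, Over.comp_left, Scheme.Hom.comp_base, TopCat.coe_comp,
    Set.range_comp]

end MulSet

section Transr

variable {B : Scheme.{u}} {G : Over B} [GrpObj G] {T : Over B}

/-- right translation by a `T`-point of `G`, as an endomorphism of `T ⊗ G`. -/
noncomputable def transr (z : T ⟶ G) : T ⊗ G ⟶ T ⊗ G :=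
  lift (fst T G) (snd T G * (fst T G ≫ z))

@[simp] theorem transr_fst (z : T ⟶ G) : transr z ≫ fst T G = fst T G := lift_fst _ _

@[simp] theorem transr_snd (z : T ⟶ G) : transr z ≫ snd T G = snd T G * (fst T G ≫ z) :=
  lift_snd _ _

theorem transr_comp (z z' : T ⟶ G) : transr z ≫ transr z' = transr (z * z') := by
  apply CartesianMonoidalCategory.hom_ext
  · rw [Category.assoc, transr_fst, transr_fst, transr_fst]
  · rw [Category.assoc, transr_snd, MonObj.comp_mul, ← Category.assoc, transr_fst, transr_snd,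
      transr_snd, MonObj.comp_mul, _root_.mul_assoc]

theorem transr_one : transr (1 : T ⟶ G) = 𝟙 (T ⊗ G) := by
  apply CartesianMonoidalCategory.hom_ext
  · rw [transr_fst, Category.id_comp]
  · rw [transr_snd, MonObj.comp_one, _root_.mul_one, Category.id_comp]

instance (z : T ⟶ G) : IsIso (transr z) :=
  ⟨⟨transr z⁻¹, by rw [transr_comp, mul_inv_cancel, transr_one],
    by rw [transr_comp, inv_mul_cancel, transr_one]⟩⟩

end Transr

section Open

variable {K : Type u} [Field K] {G X T : Over (Spec (CommRingCat.of K))} [GrpObj G]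

theorem mulMap_eq_transl (z : T ⟶ G) (ψ : X ⟶ G) :
    mulMap z ψ = (T ◁ ψ) ≫ transl z ≫ snd T G := by
  rw [transl_snd, MonObj.comp_mul, ← Category.assoc, whiskerLeft_fst, whiskerLeft_snd]
  rfl

omit [GrpObj G] in
theorem range_whiskerLeft' (ψ : X ⟶ G) :
    Set.range (T ◁ ψ).left = (snd T G).left ⁻¹' Set.range ψ.left := by
  have h1 : (T ◁ ψ).left = pullback.map T.hom X.hom T.hom G.hom (𝟙 _) ψ.left (𝟙 _)
      (by simp) (by simp) := rfl
  rw [h1, Scheme.Pullback.range_map]
  have h2 : Set.range (𝟙 T.left : T.left ⟶ T.left) = Set.univ := by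
    ext x
    simp
  rw [h2, Set.preimage_univ, Set.univ_inter]
  rfl

omit [GrpObj G] in
theorem isOpenMap_snd : IsOpenMap (snd T G).left := by
  haveI : UniversallyOpen T.hom := inferInstance
  haveI : UniversallyOpen (snd T G).left := by
    rw [Over.snd_left]
    infer_instance
  exact (snd T G).left.isOpenMap

omit [GrpObj G] in
theorem flat_snd : Flat (snd T G).left := by
  haveI : Flat T.hom := inferInstance
  rw [Over.snd_left]
  infer_instance

omit [GrpObj G] in
theorem surjective_snd [Nonempty ↥T.left] : Function.Surjective (snd T G).left := by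
  haveI : Surjective T.hom := by
    refine ⟨fun x => ?_⟩
    obtain ⟨y⟩ := ‹Nonempty ↥T.left›
    haveI : Subsingleton ↥(Spec (CommRingCat.of K)) :=
      inferInstanceAs (Subsingleton (PrimeSpectrum K))
    exact ⟨y, Subsingleton.elim _ _⟩
  haveI : Surjective (snd T G).left := by
    rw [Over.snd_left]
    infer_instance
  exact (snd T G).left.surjective

/-- the product of any subset (image of a morphism) with an open subset is open. -/
theorem isOpen_range_mulMap (z : T ⟶ G) (ψ : X ⟶ G) (hU : IsOpen (Set.range ψ.left)) :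
    IsOpen (Set.range (mulMap z ψ).left) := by
  have h1 : Set.range (mulMap z ψ).left =
      (snd T G).left '' ((transl z).left '' Set.range (T ◁ ψ).left) := by
    rw [mulMap_eq_transl]
    ext x
    simp only [Over.comp_left, Scheme.Hom.comp_base, TopCat.coe_comp, Set.mem_range,
      Function.comp_apply, Set.mem_image, exists_exists_eq_and]
  rw [h1, range_whiskerLeft']
  haveI : IsIso (transl z).left := inferInstanceAs (IsIso ((Over.forget _).map (transl z)))
  apply isOpenMap_snd
  apply (transl z).left.isOpenEmbedding.isOpenMap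
  exact hU.preimage (snd T G).left.continuous

end Open

end Groth.Agent.Lib.Helper10.IdComp
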