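import Mathlib
import Groth.Agent.Lib.Helper10.IdComp4

/-!
# Identity component of a group scheme over a field, part 5:
the irreducible component through the unit
-/

set_option autoImplicit false
set_option backward.isDefEq.respectTransparency.types false
set_option maxHeartbeats 4000000
set_option synthInstance.maxHeartbeats 400000

universe u

open CategoryTheory CategoryTheory.Limits AlgebraicGeometry MonoidalCategory
  CartesianMonoidalCategory MonObj GrpObj

namespace Groth.Agent.Lib.Helper10.IdComp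

open Groth.Agent.Lib.Helper10.GrpTranslate

variable (K : Type u) [Field K] (G : Over (Spec (CommRingCat.of K))) [GrpObj G]
variable (pt : ↥(𝟙_ (Over (Spec (CommRingCat.of K)))).left)

/-- the irreducible component through the unit. -/
def Z0 : Set ↥G.left := irreducibleComponent (η[G].left pt)

theorem Z0_mem : Z0 K G pt ∈ irreducibleComponents ↥G.left :=
  irreducibleComponent_mem_irreducibleComponents _

theorem unit_mem_Z0 : η[G].left pt ∈ Z0 K G pt := mem_irreducibleComponent

theorem isClosed_Z0 : IsClosed (Z0 K G pt) := isClosed_irreducibleComponent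

theorem eq_Z0 {C : Set ↥G.left} (hC : C ∈ irreducibleComponents ↥G.left)
    (h : η[G].left pt ∈ C) : C = Z0 K G pt :=
  (uniqueComp K G _).eq_irreducibleComponent hC h

theorem pt_eq (q : ↥(𝟙_ (Over (Spec (CommRingCat.of K)))).left) : q = pt := by
  haveI : Subsingleton ↥(Spec (CommRingCat.of K)) :=
    inferInstanceAs (Subsingleton (PrimeSpectrum K))
  exact Subsingleton.elim (α := ↥(Spec (CommRingCat.of K))) q pt

theorem one_left {T : Over (Spec (CommRingCat.of K))} (t : ↥T.left) :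
    (1 : T ⟶ G).left t = η[G].left pt := by
  rw [Hom.one_def, Over.comp_left, Scheme.Hom.comp_apply]
  congr 1
  exact pt_eq K pt _

theorem exists_Z0_subscheme :
    ∃ (X : Over (Spec (CommRingCat.of K))) (a : X ⟶ G)
      (e : 𝟙_ (Over (Spec (CommRingCat.of K))) ⟶ X),
      IsClosedImmersion a.left ∧ Set.range a.left = Z0 K G pt ∧ IrreducibleSpace ↥X.left ∧
        e ≫ a = η[G] ∧ GeometricallyIrreducible X.hom := by
  obtain ⟨X, a, hcl, hr, hirr⟩ := exists_closedSubscheme (Z0 K G pt) (isClosed_Z0 K G pt)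
    (Z0_mem K G pt).1
  obtain ⟨e, he⟩ := exists_point_lift a η[G] (fun q => by
    rw [pt_eq K pt q, hr]; exact unit_mem_Z0 K G pt)
  refine ⟨X, a, e, hcl, hr, hirr, he, ?_⟩
  have := geometricallyIrreducible_of_closedImmersion K G X.left a.left
    (hr ▸ Z0_mem K G pt) pt (hr ▸ unit_mem_Z0 K G pt)
  rwa [Over.w a] at this

/-- `Z0 · C ⊆ C` for every irreducible component `C`. -/
theorem mulSet_Z0_comp (C : Set ↥G.left) (hC : C ∈ irreducibleComponents ↥G.left) :
    mulSet (Z0 K G pt) C ⊆ C := by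
  obtain ⟨X, a, e, hcl, hr, hirr, he, hgi⟩ := exists_Z0_subscheme K G pt
  obtain ⟨Y, b, hclb, hrb, hirrb⟩ := exists_closedSubscheme C
    (isClosed_of_mem_irreducibleComponents C hC) hC.1
  haveI : UniversallyOpen X.hom := inferInstance
  haveI : IrreducibleSpace ↥(X ⊗ Y).left :=
    inferInstanceAs (IrreducibleSpace ↥(pullback X.hom Y.hom))
  have := range_mulMap_subset_right a b e he (hrb ▸ hC)
  rwa [range_mulMap, hr, hrb] at this

/-- `C · Z0 ⊆ C` for every irreducible component `C`. -/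
theorem mulSet_comp_Z0 (C : Set ↥G.left) (hC : C ∈ irreducibleComponents ↥G.left) :
    mulSet C (Z0 K G pt) ⊆ C := by
  obtain ⟨X, a, e, hcl, hr, hirr, he, hgi⟩ := exists_Z0_subscheme K G pt
  obtain ⟨Y, b, hclb, hrb, hirrb⟩ := exists_closedSubscheme C
    (isClosed_of_mem_irreducibleComponents C hC) hC.1
  haveI : UniversallyOpen X.hom := inferInstance
  haveI : IrreducibleSpace ↥(Y ⊗ X).left :=
    inferInstanceAs (IrreducibleSpace ↥(pullback Y.hom X.hom))
  have := range_mulMap_subset_left b a e he (hrb ▸ hC)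
  rwa [range_mulMap, hr, hrb] at this

/-- `Z0` is stable under inversion. -/
theorem preimage_inv_Z0 : (ι[G]).left ⁻¹' Z0 K G pt = Z0 K G pt := by
  haveI : IsIso ι[G] := ⟨⟨ι[G], GrpObj.inv_comp_inv G, GrpObj.inv_comp_inv G⟩⟩
  haveI : IsIso (ι[G]).left := (Over.forget _).map_isIso ι[G]
  have h1 : (ι[G]).left (η[G].left pt) = η[G].left pt := by
    rw [← Scheme.Hom.comp_apply, ← Over.comp_left, GrpObj.one_inv]
  apply eq_Z0
  · apply preimage_mem_irreducibleComponents (Z0_mem K G pt) (ι[G]).left.isOpenEmbedding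
    exact ⟨_, unit_mem_Z0 K G pt, ⟨_, h1⟩⟩
  · change (ι[G]).left (η[G].left pt) ∈ Z0 K G pt
    rw [h1]
    exact unit_mem_Z0 K G pt

theorem inv_mem_Z0 {T : Over (Spec (CommRingCat.of K))} (g : T ⟶ G) (t : ↥T.left)
    (hg : g.left t ∈ Z0 K G pt) : (g⁻¹).left t ∈ Z0 K G pt := by
  rw [Hom.inv_def, Over.comp_left, Scheme.Hom.comp_apply]
  have : g.left t ∈ (ι[G]).left ⁻¹' Z0 K G pt := by rw [preimage_inv_Z0]; exact hg
  exact this

theorem mul_mem_Z0 {T : Over (Spec (CommRingCat.of K))} (g h : T ⟶ G) (t : ↥T.left)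
    (hg : g.left t ∈ Z0 K G pt) (hh : h.left t ∈ Z0 K G pt) : (g * h).left t ∈ Z0 K G pt :=
  mulSet_Z0_comp K G pt _ (Z0_mem K G pt) (mul_mem_mulSet g h t hg hh)

/-- the preimage of `Z0` in `T ⊗ G` is irreducible for irreducible `T`. -/
theorem isIrreducible_preimage_snd_Z0 (T : Over (Spec (CommRingCat.of K)))
    [IrreducibleSpace ↥T.left] : IsIrreducible ((snd T G).left ⁻¹' Z0 K G pt) := by
  obtain ⟨X, a, e, hcl, hr, hirr, he, hgi⟩ := exists_Z0_subscheme K G pt
  haveI : UniversallyOpen X.hom := inferInstance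
  haveI : IrreducibleSpace ↥(T ⊗ X).left :=
    inferInstanceAs (IrreducibleSpace ↥(pullback T.hom X.hom))
  rw [← hr, ← range_whiskerLeft', ← Set.image_univ]
  exact (IrreducibleSpace.isIrreducible_univ _).image _ (T ◁ a).left.continuous.continuousOn

/-- the preimage of `Z0` in `T ⊗ G` is an irreducible component. -/
theorem preimage_snd_Z0_mem (T : Over (Spec (CommRingCat.of K)))
    [IrreducibleSpace ↥T.left] :
    (snd T G).left ⁻¹' Z0 K G pt ∈ irreducibleComponents ↥(T ⊗ G).left :=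
  preimage_mem_irreducibleComponents_of_isIrreducible _ (snd T G).left.continuous
    surjective_snd _ (Z0_mem K G pt) (isIrreducible_preimage_snd_Z0 K G pt T)

/-- `Z0` is quasi-compact. -/
theorem isCompact_Z0 : IsCompact (Z0 K G pt) := by
  obtain ⟨_, ⟨U₀, hU₀, rfl⟩, heU₀, -⟩ := G.left.isBasis_affineOpens.exists_subset_of_mem_open
    (Set.mem_univ (η[G].left pt)) isOpen_univ
  obtain ⟨U, hU, heU⟩ : ∃ U : G.left.Opens, IsAffineOpen U ∧ η[G].left pt ∈ (U : Set ↥G.left) :=
    ⟨U₀, hU₀, heU₀⟩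
  let Ũ : Over (Spec (CommRingCat.of K)) := Over.mk (U.ι ≫ G.hom)
  let jU : Ũ ⟶ G := Over.homMk U.ι rfl
  have hjU : Set.range jU.left = (U : Set ↥G.left) := Scheme.Opens.range_ι U
  haveI : CompactSpace ↥(U : Scheme.{u}) := isCompact_iff_compactSpace.mp hU.isCompact
  haveI : QuasiCompact Ũ.hom := quasiCompact_of_compactSpace (X := (U : Scheme.{u})) _
  haveI : CompactSpace ↥Ũ.left := ‹CompactSpace ↥(U : Scheme.{u})›
  haveI : CompactSpace ↥(Ũ ⊗ Ũ).left :=
    inferInstanceAs (CompactSpace ↥(pullback Ũ.hom Ũ.hom))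
  have hsub : Z0 K G pt ⊆ Set.range (mulMap jU (jU ≫ ι[G])).left := by
    intro x hx
    rw [range_mulMap]
    obtain ⟨T, z, t0, hz, hT, hirr⟩ := exists_fieldPoint G x
    haveI := hirr
    have hZT := isIrreducible_preimage_snd_Z0 K G pt T
    have h1 : (snd T G).left ((lift (𝟙 T) (1 : T ⟶ G)).left t0) = η[G].left pt := by
      rw [← Scheme.Hom.comp_apply, ← Over.comp_left, lift_snd, one_left]
    have h2 : (snd T G).left ((lift (𝟙 T) z⁻¹).left t0) ∈ Z0 K G pt := by
      rw [← Scheme.Hom.comp_apply, ← Over.comp_left, lift_snd]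
      exact inv_mem_Z0 K G pt z t0 (hz ▸ hx)
    have h3 : (snd T G).left ((transl z).left ((lift (𝟙 T) z⁻¹).left t0)) = η[G].left pt := by
      rw [← Scheme.Hom.comp_apply, ← Scheme.Hom.comp_apply, ← Over.comp_left, ← Over.comp_left,
        transl_snd, MonObj.comp_mul, ← Category.assoc, lift_fst, lift_snd, Category.id_comp,
        mul_inv_cancel, one_left]
    obtain ⟨p, hpZ, hpA, hpB⟩ := hZT.2 ((snd T G).left ⁻¹' (U : Set ↥G.left))
      ((transl z).left ⁻¹' ((snd T G).left ⁻¹' (U : Set ↥G.left)))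
      (U.isOpen.preimage (snd T G).left.continuous)
      ((U.isOpen.preimage (snd T G).left.continuous).preimage (transl z).left.continuous)
      ⟨_, (h1 ▸ unit_mem_Z0 K G pt : _ ∈ Z0 K G pt), (h1 ▸ heU : _ ∈ (U : Set ↥G.left))⟩
      ⟨_, h2, (h3 ▸ heU : _ ∈ (U : Set ↥G.left))⟩
    obtain ⟨T', q, t0', hq, hT', -⟩ := exists_fieldPoint (T ⊗ G) p
    have hu : q ≫ transl z ≫ snd T G = (q ≫ fst T G ≫ z) * (q ≫ snd T G) := by
      rw [transl_snd, MonObj.comp_mul]
    have hx' : (q ≫ fst T G ≫ z) = (q ≫ transl z ≫ snd T G) * (q ≫ snd T G)⁻¹ := by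
      rw [hu]; group
    have hxe : x = (q ≫ fst T G ≫ z).left t0' := by
      rw [← Category.assoc, Over.comp_left, Scheme.Hom.comp_apply, hT ((q ≫ fst T G).left t0'), hz]
    rw [hxe, hx']
    apply mul_mem_mulSet
    · rw [hjU, Over.comp_left, Over.comp_left, Scheme.Hom.comp_apply, Scheme.Hom.comp_apply, hq]
      exact hpB
    · have hv : (snd T G).left p ∈ Set.range jU.left := by rw [hjU]; exact hpA
      obtain ⟨v0, hv0⟩ := hv
      refine ⟨v0, ?_⟩
      rw [Hom.inv_def]
      simp only [Over.comp_left, Scheme.Hom.comp_apply]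
      rw [hv0, hq]
  exact (isCompact_range (mulMap jU (jU ≫ ι[G])).left.continuous).of_isClosed_subset
    (isClosed_Z0 K G pt) hsub

end Groth.Agent.Lib.Helper10.IdComp
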