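import Mathlib
import Groth.Agent.Lib.Helper10.IdComp5
import Groth.Agent.S0346

/-!
# Identity component of a group scheme over a field, part 6:
the connected component of the unit is the irreducible component of the unit
-/

set_option autoImplicit false
set_option backward.isDefEq.respectTransparency.types false
set_option maxHeartbeats 4000000
set_option synthInstance.maxHeartbeats 400000

universe u

open CategoryTheory CategoryTheory.Limits AlgebraicGeometry MonoidalCategory
  CartesianMonoidalCategory MonObj GrpObj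

namespace Groth.Agent.Lib.Helper10.IdComp

open Groth.Agent.Lib.Helper10.GrpTranslate

variable (K : Type u) [Field K] (G : Over (Spec (CommRingCat.of K))) [GrpObj G]
variable (pt : ↥(𝟙_ (Over (Spec (CommRingCat.of K)))).left)

theorem quasiSeparatedSpace_of_grp : QuasiSeparatedSpace ↥G.left := by
  haveI : TopologicalSpace.NoetherianSpace ↥(𝟙_ (Over (Spec (CommRingCat.of K)))).left :=
    inferInstanceAs (TopologicalSpace.NoetherianSpace ↥(Spec (CommRingCat.of K)))
  haveI : QuasiCompact η[G].left := inferInstance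
  haveI : QuasiSeparated G.hom := (Groth.Agent.S0346.result _ G).2.mpr inferInstance
  exact quasiSeparatedSpace_of_quasiSeparated G.hom

/-- if an irreducible component `C` meets an open `U`, then `C ⊆ Z0 · U`. -/
theorem comp_subset_mulSet_Z0 (C : Set ↥G.left) (hC : C ∈ irreducibleComponents ↥G.left)
    (U : Set ↥G.left) (hU : IsOpen U) (hne : (C ∩ U).Nonempty) :
    C ⊆ mulSet (Z0 K G pt) U := by
  intro y hy
  obtain ⟨T, yT, t0, hyT, hT, hirr⟩ := exists_fieldPoint G y
  haveI := hirr
  have hZT := preimage_snd_Z0_mem K G pt T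
  haveI : IsIso (transr yT).left := (Over.forget _).map_isIso (transr yT)
  let h := (transr yT).left.homeomorph
  have hhapp : ∀ w, h w = (transr yT).left w := fun _ => rfl
  set ZT := (snd T G).left ⁻¹' Z0 K G pt with hZTdef
  -- the translated component
  have hs0 : (lift (𝟙 T) (1 : T ⟶ G)).left t0 ∈ ZT := by
    change (snd T G).left ((lift (𝟙 T) (1 : T ⟶ G)).left t0) ∈ Z0 K G pt
    rw [← Scheme.Hom.comp_apply, ← Over.comp_left, lift_snd, one_left K G pt]
    exact unit_mem_Z0 K G pt
  have hC' : h.symm ⁻¹' ZT ∈ irreducibleComponents ↥(T ⊗ G).left :=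
    preimage_mem_irreducibleComponents hZT h.symm.isOpenEmbedding
      ⟨_, hs0, ⟨h ((lift (𝟙 T) (1 : T ⟶ G)).left t0), h.symm_apply_apply _⟩⟩
  set C' := h.symm ⁻¹' ZT with hC'def
  have hC'cl : IsClosed C' := isClosed_of_mem_irreducibleComponents C' hC'
  have hCcl : IsClosed C := isClosed_of_mem_irreducibleComponents C hC
  have hCeq : C = irreducibleComponent y := (uniqueComp K G y).eq_irreducibleComponent hC hy
  -- the image of `C'` lies in `C`
  have hsndC' : (snd T G).left '' C' ⊆ C := by
    rw [hCeq]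
    apply (uniqueComp K G y).subset_irreducibleComponent
      (hC'.1.image _ (snd T G).left.continuous.continuousOn)
    refine ⟨h ((lift (𝟙 T) (1 : T ⟶ G)).left t0), ?_, ?_⟩
    · change h.symm (h _) ∈ ZT
      rw [h.symm_apply_apply]
      exact hs0
    · rw [hhapp, ← Scheme.Hom.comp_apply, ← Scheme.Hom.comp_apply, ← Over.comp_left,
        ← Over.comp_left, transr_snd, MonObj.comp_mul, ← Category.assoc, lift_fst, lift_snd,
        Category.id_comp, _root_.one_mul, hyT]
  obtain ⟨ξ', hξ'⟩ := QuasiSober.sober hC'.1 hC'cl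
  obtain ⟨ξ, hξ⟩ := QuasiSober.sober hC.1 hCcl
  have h1 : ξ ⤳ (snd T G).left ξ' := hξ.specializes (hsndC' ⟨ξ', hξ'.mem, rfl⟩)
  haveI : Flat (snd T G).left := flat_snd
  obtain ⟨ξ'', h2, h3⟩ := (Flat.generalizingMap (snd T G).left) h1
  have hξ''C' : ξ'' ∈ C' := by
    have h4 : C' ≤ closure {ξ''} := by
      rw [← hξ'.def]
      exact closure_minimal (Set.singleton_subset_iff.mpr (specializes_iff_mem_closure.mp h2))
        isClosed_closure
    exact hC'.2 isIrreducible_singleton.closure h4 (subset_closure rfl)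
  have hξU : ξ ∈ U := (hξ.mem_open_set_iff hU).mpr hne
  -- decompose `ξ''`
  have hq0 : h.symm ξ'' ∈ ZT := hξ''C'
  have hq0' : (transr yT).left (h.symm ξ'') = ξ'' := h.apply_symm_apply ξ''
  obtain ⟨T', q, t0', hq, hT', -⟩ := exists_fieldPoint (T ⊗ G) (h.symm ξ'')
  have hu : q ≫ transr yT ≫ snd T G = (q ≫ snd T G) * (q ≫ fst T G ≫ yT) := by
    rw [transr_snd, MonObj.comp_mul]
  have hy' : (q ≫ fst T G ≫ yT) = (q ≫ snd T G)⁻¹ * (q ≫ transr yT ≫ snd T G) := by
    rw [hu]; group
  have hye : y = (q ≫ fst T G ≫ yT).left t0' := by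
    rw [← Category.assoc, Over.comp_left, Scheme.Hom.comp_apply, hT ((q ≫ fst T G).left t0'), hyT]
  rw [hye, hy']
  apply mul_mem_mulSet
  · apply inv_mem_Z0
    rw [Over.comp_left, Scheme.Hom.comp_apply, hq]
    exact hq0
  · rw [Over.comp_left, Over.comp_left, Scheme.Hom.comp_apply, Scheme.Hom.comp_apply, hq, hq0', h3]
    exact hξU

/-- the connected component of the unit is the irreducible component of the unit. -/
theorem connectedComponent_unit_eq_Z0 :
    connectedComponent (η[G].left pt) = Z0 K G pt := by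
  apply Set.Subset.antisymm
  swap
  · exact (Z0_mem K G pt).1.isPreirreducible.isPreconnected.subset_connectedComponent
      (unit_mem_Z0 K G pt)
  intro y hy
  by_contra hyZ
  have hYmem := irreducibleComponent_mem_irreducibleComponents y
  have hYcl : IsClosed (irreducibleComponent y) := isClosed_irreducibleComponent
  have hdisj : ∀ v ∈ irreducibleComponent y, v ∉ Z0 K G pt := by
    intro v hv hvZ
    apply hyZ
    rw [← (uniqueComp K G v) _ hYmem _ (Z0_mem K G pt) hv hvZ]
    exact mem_irreducibleComponent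
  -- a quasi-compact open neighbourhood of `Z0` missing `Y`
  have hV : ∀ z ∈ Z0 K G pt, ∃ V : G.left.Opens, IsAffineOpen V ∧ z ∈ V ∧
      (V : Set ↥G.left) ⊆ (irreducibleComponent y)ᶜ := by
    intro z hz
    obtain ⟨_, ⟨V, hVa, rfl⟩, hzV, hVY⟩ := G.left.isBasis_affineOpens.exists_subset_of_mem_open
      (show z ∈ (irreducibleComponent y)ᶜ from fun hzy => hdisj z hzy hz) hYcl.isOpen_compl
    exact ⟨V, hVa, hzV, hVY⟩
  choose V hVa hzV hVY using hV
  obtain ⟨t, ht⟩ := (isCompact_Z0 K G pt).elim_nhds_subcover' (fun z hz => (V z hz : Set ↥G.left))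
    (fun z hz => (V z hz).isOpen.mem_nhds (hzV z hz))
  let Uset : Set ↥G.left := ⋃ z ∈ t, (V z.1 z.2 : Set ↥G.left)
  have hUopen : IsOpen Uset := isOpen_biUnion fun z _ => (V z.1 z.2).isOpen
  have hUcpt : IsCompact Uset := t.isCompact_biUnion fun z _ => (hVa z.1 z.2).isCompact
  have hUY : ∀ u ∈ Uset, u ∉ irreducibleComponent y := by
    intro u hu
    simp only [Uset, Set.mem_iUnion] at hu
    obtain ⟨z, -, hz⟩ := hu
    exact hVY z.1 z.2 hz
  let UO : G.left.Opens := ⟨Uset, hUopen⟩
  let Ũ : Over (Spec (CommRingCat.of K)) := Over.mk (UO.ι ≫ G.hom)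
  let jU : Ũ ⟶ G := Over.homMk UO.ι rfl
  have hjU : Set.range jU.left = Uset := Scheme.Opens.range_ι UO
  obtain ⟨X, a, e, hcl, hr, hirr, he, hgi⟩ := exists_Z0_subscheme K G pt
  set W := mulSet (Z0 K G pt) Uset with hWdef
  have hWrange : Set.range (mulMap a jU).left = W := by rw [range_mulMap, hr, hjU]
  have hWopen : IsOpen W := by
    rw [← hWrange]
    exact isOpen_range_mulMap a jU (hjU ▸ hUopen)
  have hWcpt : IsCompact W := by
    rw [← hWrange]
    haveI : CompactSpace ↥X.left := by
      rw [← isCompact_univ_iff, a.left.isEmbedding.isCompact_iff, Set.image_univ, hr]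
      exact isCompact_Z0 K G pt
    haveI : CompactSpace ↥Ũ.left := isCompact_iff_compactSpace.mp hUcpt
    haveI : QuasiCompact X.hom := quasiCompact_of_compactSpace _
    haveI : CompactSpace ↥(X ⊗ Ũ).left :=
      inferInstanceAs (CompactSpace ↥(pullback X.hom Ũ.hom))
    exact isCompact_range (mulMap a jU).left.continuous
  -- every point of `W` lies on a component meeting `Uset`, and such components lie in `W`
  have hWcomp : ∀ w ∈ W, ∃ C ∈ irreducibleComponents ↥G.left, w ∈ C ∧ (C ∩ Uset).Nonempty := by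
    intro w hw
    obtain ⟨T, g, h, t1, hg, hh, hgh, -, -⟩ := exists_points_of_mem_mulSet hw
    refine ⟨irreducibleComponent (h.left t1), irreducibleComponent_mem_irreducibleComponents _, ?_,
      ⟨_, mem_irreducibleComponent, hh⟩⟩
    rw [← hgh]
    exact mulSet_Z0_comp K G pt _ (irreducibleComponent_mem_irreducibleComponents _)
      (mul_mem_mulSet g h t1 hg mem_irreducibleComponent)
  have hcompW : ∀ C ∈ irreducibleComponents ↥G.left, (C ∩ Uset).Nonempty → C ⊆ W :=
    fun C hC hne => comp_subset_mulSet_Z0 K G pt C hC Uset hUopen hne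
  have hWspec : StableUnderSpecialization W := by
    intro w y' hwy hw
    obtain ⟨C, hC, hwC, hne⟩ := hWcomp w hw
    apply hcompW C hC hne
    exact (isClosed_of_mem_irreducibleComponents C hC).closure_subset_iff.mpr
      (Set.singleton_subset_iff.mpr hwC) (specializes_iff_mem_closure.mp hwy)
  haveI := quasiSeparatedSpace_of_grp K G
  have hWcl : IsClosed W :=
    isClosed_of_isCompact_of_stableUnderSpecialization (X := G.left) ⟨W, hWopen⟩ hWcpt hWspec
  have heW : η[G].left pt ∈ W := by
    apply hcompW _ (Z0_mem K G pt) _ (unit_mem_Z0 K G pt)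
    obtain ⟨z, hz, hzU⟩ := Set.mem_iUnion₂.mp (ht (unit_mem_Z0 K G pt))
    exact ⟨_, unit_mem_Z0 K G pt, Set.mem_iUnion₂.mpr ⟨z, hz, hzU⟩⟩
  have hyW : y ∈ W := (IsClopen.connectedComponent_subset ⟨hWcl, hWopen⟩ heW) hy
  obtain ⟨C, hC, hyC, u, huC, huU⟩ := hWcomp y hyW
  have : C = irreducibleComponent y := (uniqueComp K G y).eq_irreducibleComponent hC hyC
  exact hUY u huU (this ▸ huC)

/-- the connected component of the unit is irreducible and quasi-compact. -/
theorem connectedComponent_unit_irreducible_compact :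
    IsIrreducible (connectedComponent (η[G].left pt)) ∧
      IsCompact (connectedComponent (η[G].left pt)) := by
  rw [connectedComponent_unit_eq_Z0 K G pt]
  exact ⟨(Z0_mem K G pt).1, isCompact_Z0 K G pt⟩

end Groth.Agent.Lib.Helper10.IdComp
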