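import Mathlib
import Groth.Agent.Lib.Helper10.IdComp6

/-!
# Identity component of a group scheme over a field, part 7:
the canonical (flat) closed subscheme structure on the identity component
-/

set_option autoImplicit false
set_option backward.isDefEq.respectTransparency.types false
set_option maxHeartbeats 4000000
set_option synthInstance.maxHeartbeats 400000

universe u

open CategoryTheory CategoryTheory.Limits AlgebraicGeometry MonoidalCategory
  CartesianMonoidalCategory MonObj GrpObj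

namespace Groth.Agent.Lib.Helper10.IdComp

section Pure

variable {A B : Type*} [CommRing A] [CommRing B]

theorem pure_of_forall_exists_eq_mul (I : Ideal A) (h : ∀ x ∈ I, ∃ y ∈ I, x = x * y) :
    I.Pure := by
  apply Ideal.Pure.of_inf_eq_mul
  intro J _
  apply le_antisymm
  · intro x hx
    obtain ⟨y, hy, hxy⟩ := h x hx.1
    rw [hxy, mul_comm x y]
    exact Ideal.mul_mem_mul hy hx.2
  · exact Ideal.mul_le_inf

theorem pure_ker_of_flat_of_surjective (φ : A →+* B) (hs : Function.Surjective φ)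
    (hf : φ.Flat) : (RingHom.ker φ).Pure := by
  algebraize [φ]
  have hs' : Function.Surjective (Algebra.ofId A B) := hs
  let e : (A ⧸ RingHom.ker (Algebra.ofId A B)) ≃ₗ[A] B :=
    (Ideal.quotientKerAlgEquivOfSurjective hs').toLinearEquiv
  haveI : Module.Flat A B := hf
  exact Module.Flat.of_linearEquiv e

theorem flat_of_surjective_of_pure (φ : A →+* B) (hs : Function.Surjective φ)
    (hp : (RingHom.ker φ).Pure) : φ.Flat := by
  algebraize [φ]
  have hs' : Function.Surjective (Algebra.ofId A B) := hs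
  let e : (A ⧸ RingHom.ker (Algebra.ofId A B)) ≃ₗ[A] B :=
    (Ideal.quotientKerAlgEquivOfSurjective hs').toLinearEquiv
  haveI : Module.Flat A (A ⧸ RingHom.ker (Algebra.ofId A B)) := hp
  exact Module.Flat.of_linearEquiv e.symm

end Pure

section FlatSub

variable {X : Scheme.{u}}

/-- a closed subscheme whose ideals are pure is flat. -/
theorem flat_subschemeι_of_pure (I : X.IdealSheafData)
    (h : ∀ U : X.affineOpens, (I.ideal U).Pure) : Flat I.subschemeι := by
  rw [HasRingHomProperty.iff_appLE (P := @Flat)]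
  intro U V e
  have h1 : (I.subschemeι.app U).hom.Flat :=
    flat_of_surjective_of_pure _ (I.subschemeι_app_surjective U)
      (by rw [I.ker_subschemeι_app U]; exact h U)
  have haff : IsAffineOpen (I.subschemeι ⁻¹ᵁ U.1) := U.2.preimage I.subschemeι
  have h2 : (I.subscheme.presheaf.map (homOfLE e).op).hom.Flat := by
    have := HasRingHomProperty.appLE (P := @Flat) (𝟙 I.subscheme) inferInstance
      ⟨I.subschemeι ⁻¹ᵁ U.1, haff⟩ V (by simpa using e)
    have h3 : (𝟙 I.subscheme : I.subscheme ⟶ I.subscheme).appLE (I.subschemeι ⁻¹ᵁ U.1) V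
        (by simpa using e) = I.subscheme.presheaf.map (homOfLE e).op := by
      simp only [Scheme.Hom.appLE, Scheme.Hom.id_app, Category.id_comp]
      rfl
    rw [h3] at this
    exact this
  rw [Scheme.Hom.appLE, CommRingCat.hom_comp]
  exact RingHom.Flat.comp h1 h2

end FlatSub

section IdIdeal

variable (K : Type u) [Field K] (G : Over (Spec (CommRingCat.of K))) [GrpObj G]
variable (pt : ↥(𝟙_ (Over (Spec (CommRingCat.of K)))).left)

/-- separating clopen neighbourhoods of `Z0`. -/
theorem exists_clopen_of_not_mem_Z0 (y : ↥G.left) (hyZ : y ∉ Z0 K G pt) :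
    ∃ W : G.left.Opens, IsClosed (W : Set ↥G.left) ∧ Z0 K G pt ⊆ (W : Set ↥G.left) ∧
      y ∉ (W : Set ↥G.left) := by
  have hYmem := irreducibleComponent_mem_irreducibleComponents y
  have hYcl : IsClosed (irreducibleComponent y) := isClosed_irreducibleComponent
  have hdisj : ∀ v ∈ irreducibleComponent y, v ∉ Z0 K G pt := by
    intro v hv hvZ
    apply hyZ
    rw [← (uniqueComp K G v) _ hYmem _ (Z0_mem K G pt) hv hvZ]
    exact mem_irreducibleComponent
  have hV : ∀ z ∈ Z0 K G pt, ∃ V : G.left.Opens, IsAffineOpen V ∧ z ∈ V ∧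
      (V : Set ↥G.left) ⊆ (irreducibleComponent y)ᶜ := by
    intro z hz
    obtain ⟨_, ⟨V, hVa, rfl⟩, hzV, hVY⟩ := G.left.isBasis_affineOpens.exists_subset_of_mem_open
      (show z ∈ (irreducibleComponent y)ᶜ from fun hzy => hdisj z hzy hz) hYcl.isOpen_compl
    exact ⟨V, hVa, hzV, hVY⟩
  choose V hVa hzV hVY using hV
  obtain ⟨t, ht⟩ := (isCompact_Z0 K G pt).elim_nhds_subcover' (fun z hz => (V z hz : Set ↥G.left))
    (fun z hz => (V z hz).isOpen.mem_nhds (hzV z hz))
  let Uset : Set ↥G.left := ⋃ z ∈ t, (V z.1 z.2 : Set ↥G.left)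
  have hUopen : IsOpen Uset := isOpen_biUnion fun z _ => (V z.1 z.2).isOpen
  have hUcpt : IsCompact Uset := t.isCompact_biUnion fun z _ => (hVa z.1 z.2).isCompact
  have hUY : ∀ u ∈ Uset, u ∉ irreducibleComponent y := by
    intro u hu
    simp only [Uset, Set.mem_iUnion] at hu
    obtain ⟨z, -, hz⟩ := hu
    exact hVY z.1 z.2 hz
  let UO : G.left.Opens := ⟨Uset, hUopen⟩
  let Ũ : Over (Spec (CommRingCat.of K)) := Over.mk (UO.ι ≫ G.hom)
  let jU : Ũ ⟶ G := Over.homMk UO.ι rfl
  have hjU : Set.range jU.left = Uset := Scheme.Opens.range_ι UO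
  obtain ⟨X, a, e, hcl, hr, hirr, he, hgi⟩ := exists_Z0_subscheme K G pt
  set W := mulSet (Z0 K G pt) Uset with hWdef
  have hWrange : Set.range (mulMap a jU).left = W := by rw [range_mulMap, hr, hjU]
  have hWopen : IsOpen W := by
    rw [← hWrange]
    exact isOpen_range_mulMap a jU (hjU ▸ hUopen)
  have hWcpt : IsCompact W := by
    rw [← hWrange]
    haveI : CompactSpace ↥X.left := by
      rw [← isCompact_univ_iff, a.left.isEmbedding.isCompact_iff, Set.image_univ, hr]
      exact isCompact_Z0 K G pt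
    haveI : CompactSpace ↥Ũ.left := isCompact_iff_compactSpace.mp hUcpt
    haveI : QuasiCompact X.hom := quasiCompact_of_compactSpace _
    haveI : CompactSpace ↥(X ⊗ Ũ).left :=
      inferInstanceAs (CompactSpace ↥(pullback X.hom Ũ.hom))
    exact isCompact_range (mulMap a jU).left.continuous
  have hWcomp : ∀ w ∈ W, ∃ C ∈ irreducibleComponents ↥G.left, w ∈ C ∧ (C ∩ Uset).Nonempty := by
    intro w hw
    obtain ⟨T, g, h, t1, hg, hh, hgh, -, -⟩ := exists_points_of_mem_mulSet hw
    refine ⟨irreducibleComponent (h.left t1), irreducibleComponent_mem_irreducibleComponents _, ?_,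
      ⟨_, mem_irreducibleComponent, hh⟩⟩
    rw [← hgh]
    exact mulSet_Z0_comp K G pt _ (irreducibleComponent_mem_irreducibleComponents _)
      (mul_mem_mulSet g h t1 hg mem_irreducibleComponent)
  have hcompW : ∀ C ∈ irreducibleComponents ↥G.left, (C ∩ Uset).Nonempty → C ⊆ W :=
    fun C hC hne => comp_subset_mulSet_Z0 K G pt C hC Uset hUopen hne
  have hWspec : StableUnderSpecialization W := by
    intro w y' hwy hw
    obtain ⟨C, hC, hwC, hne⟩ := hWcomp w hw
    apply hcompW C hC hne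
    exact (isClosed_of_mem_irreducibleComponents C hC).closure_subset_iff.mpr
      (Set.singleton_subset_iff.mpr hwC) (specializes_iff_mem_closure.mp hwy)
  haveI := quasiSeparatedSpace_of_grp K G
  have hWcl : IsClosed W :=
    isClosed_of_isCompact_of_stableUnderSpecialization (X := G.left) ⟨W, hWopen⟩ hWcpt hWspec
  refine ⟨⟨W, hWopen⟩, hWcl, ?_, ?_⟩
  · apply hcompW _ (Z0_mem K G pt)
    obtain ⟨z, hz, hzU⟩ := Set.mem_iUnion₂.mp (ht (unit_mem_Z0 K G pt))
    exact ⟨_, unit_mem_Z0 K G pt, Set.mem_iUnion₂.mpr ⟨z, hz, hzU⟩⟩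
  · intro hyW
    obtain ⟨C, hC, hyC, u, huC, huU⟩ := hWcomp y hyW
    have : C = irreducibleComponent y := (uniqueComp K G y).eq_irreducibleComponent hC hyC
    exact hUY u huU (this ▸ huC)

/-- the index set: clopen neighbourhoods of `Z0`. -/
def ClopenNhd : Type u :=
  {W : G.left.Opens // IsClosed (W : Set ↥G.left) ∧ Z0 K G pt ⊆ (W : Set ↥G.left)}

instance : Nonempty (ClopenNhd K G pt) := ⟨⟨⊤, isClosed_univ, Set.subset_univ _⟩⟩

/-- the ideal sheaf of the identity component. -/
noncomputable def idIdeal : G.left.IdealSheafData :=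
  ⨆ W : ClopenNhd K G pt, W.1.ι.ker

theorem isClosedImmersion_clopen (W : ClopenNhd K G pt) : IsClosedImmersion W.1.ι :=
  IsClosedImmersion.of_isPreimmersion _ (by rw [Scheme.Opens.range_ι]; exact W.2.1)

theorem support_idIdeal : ((idIdeal K G pt).support : Set ↥G.left) = Z0 K G pt := by
  rw [idIdeal, Scheme.IdealSheafData.support_iSup, TopologicalSpace.Closeds.coe_iInf]
  have hs : ∀ W : ClopenNhd K G pt, ((W.1.ι.ker).support : Set ↥G.left) = (W.1 : Set ↥G.left) := by
    intro W
    haveI := isClosedImmersion_clopen K G pt W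
    rw [Scheme.Hom.support_ker, Scheme.Opens.range_ι, W.2.1.closure_eq]
  apply Set.Subset.antisymm
  · intro y hy
    by_contra hyZ
    obtain ⟨W, hWcl, hZW, hyW⟩ := exists_clopen_of_not_mem_Z0 K G pt y hyZ
    have := Set.mem_iInter.mp hy ⟨W, hWcl, hZW⟩
    rw [hs] at this
    exact hyW this
  · intro z hz
    refine Set.mem_iInter.mpr fun W => ?_
    rw [hs]
    exact W.2.2 hz

theorem directed_ker (U : G.left.affineOpens) :
    Directed (· ≤ ·) fun W : ClopenNhd K G pt => (W.1.ι.ker).ideal U := by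
  intro W₁ W₂
  refine ⟨⟨W₁.1 ⊓ W₂.1, W₁.2.1.inter W₂.2.1, fun z hz => ⟨W₁.2.2 hz, W₂.2.2 hz⟩⟩, ?_, ?_⟩
  · have h : (W₁.1 ⊓ W₂.1).ι = G.left.homOfLE inf_le_left ≫ W₁.1.ι := by simp
    change (W₁.1.ι.ker).ideal U ≤ ((W₁.1 ⊓ W₂.1).ι.ker).ideal U
    rw [h]
    exact Scheme.Hom.le_ker_comp _ _ U
  · have h : (W₁.1 ⊓ W₂.1).ι = G.left.homOfLE inf_le_right ≫ W₂.1.ι := by simp
    change (W₂.1.ι.ker).ideal U ≤ ((W₁.1 ⊓ W₂.1).ι.ker).ideal U
    rw [h]
    exact Scheme.Hom.le_ker_comp _ _ U

theorem pure_ker_clopen (W : ClopenNhd K G pt) (U : G.left.affineOpens) :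
    ((W.1.ι.ker).ideal U).Pure := by
  haveI := isClosedImmersion_clopen K G pt W
  rw [Scheme.Hom.ker_apply]
  apply pure_ker_of_flat_of_surjective _ (W.1.ι.app_surjective U.1 U.2)
  have haff : IsAffineOpen (W.1.ι ⁻¹ᵁ U.1) := U.2.preimage W.1.ι
  have := HasRingHomProperty.appLE (P := @Flat) W.1.ι inferInstance U
    ⟨W.1.ι ⁻¹ᵁ U.1, haff⟩ le_rfl
  rwa [Scheme.Hom.appLE_eq_app] at this

theorem pure_idIdeal (U : G.left.affineOpens) : ((idIdeal K G pt).ideal U).Pure := by
  apply pure_of_forall_exists_eq_mul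
  intro x hx
  have h1 : (idIdeal K G pt).ideal U = ⨆ W : ClopenNhd K G pt, (W.1.ι.ker).ideal U := by
    rw [idIdeal, Scheme.IdealSheafData.ideal_iSup, iSup_apply]
  rw [h1] at hx ⊢
  obtain ⟨W, hW⟩ := (Submodule.mem_iSup_of_directed _ (directed_ker K G pt U)).mp hx
  haveI := pure_ker_clopen K G pt W U
  obtain ⟨y, hy, hxy⟩ := Ideal.exists_eq_mul_of_pure hW
  exact ⟨y, Submodule.mem_iSup_of_mem W hy, hxy⟩

theorem flat_idIdeal : Flat (idIdeal K G pt).subschemeι :=
  flat_subschemeι_of_pure _ (pure_idIdeal K G pt)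

theorem idIdeal_le_ker {Y : Scheme.{u}} (f : Y ⟶ G.left)
    (h : Set.range f ⊆ Z0 K G pt) : idIdeal K G pt ≤ f.ker := by
  apply iSup_le
  intro W
  have hW : Set.range f ⊆ Set.range W.1.ι := by
    rw [Scheme.Opens.range_ι]
    exact h.trans W.2.2
  have : f = IsOpenImmersion.lift W.1.ι f hW ≫ W.1.ι := (IsOpenImmersion.lift_fac _ _ _).symm
  rw [this]
  exact Scheme.Hom.le_ker_comp _ _

end IdIdeal

end Groth.Agent.Lib.Helper10.IdComp
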