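import Mathlib
import Groth.Agent.Lib.Helper10.IdComp7

/-!
# Identity component of a group scheme over a field, part 8:
the identity component as a flat closed subgroup scheme
-/

set_option autoImplicit false
set_option backward.isDefEq.respectTransparency.types false
set_option maxHeartbeats 4000000
set_option synthInstance.maxHeartbeats 400000

universe u

open CategoryTheory CategoryTheory.Limits AlgebraicGeometry MonoidalCategory
  CartesianMonoidalCategory MonObj GrpObj

namespace Groth.Agent.Lib.Helper10.IdComp

section SubGrp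

variable {C : Type*} [Category C] [CartesianMonoidalCategory C] {G H : C} [GrpObj G]
  (i : H ⟶ G) [Mono i]
  (m : H ⊗ H ⟶ H) (hm : m ≫ i = (fst H H ≫ i) * (snd H H ≫ i))
  (e : 𝟙_ C ⟶ H) (he : e ≫ i = η[G])
  (v : H ⟶ H) (hv : v ≫ i = i ≫ ι[G])

include hm he hv in
/-- a monomorphism into a group object which is stable under the operations inherits a group
structure. -/
noncomputable def grpObjOfMono : GrpObj H where
  one := e
  mul := m
  one_mul := by
    rw [← cancel_mono i, Category.assoc, hm, MonObj.comp_mul, ← Category.assoc, ← Category.assoc,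
      whiskerRight_fst, whiskerRight_snd, Category.assoc, he, leftUnitor_hom]
    have : fst (𝟙_ C) H ≫ η[G] = 1 := by
      rw [Hom.one_def]
      congr 1
      exact toUnit_unique _ _
    rw [this, _root_.one_mul]
  mul_one := by
    rw [← cancel_mono i, Category.assoc, hm, MonObj.comp_mul, ← Category.assoc, ← Category.assoc,
      whiskerLeft_fst, whiskerLeft_snd, Category.assoc, he, rightUnitor_hom]
    have : snd H (𝟙_ C) ≫ η[G] = 1 := by
      rw [Hom.one_def]
      congr 1
      exact toUnit_unique _ _
    rw [this, _root_.mul_one]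
  mul_assoc := by
    rw [← cancel_mono i]
    simp only [Category.assoc, hm, MonObj.comp_mul, whiskerRight_fst_assoc,
      whiskerRight_snd_assoc, whiskerLeft_fst_assoc, whiskerLeft_snd_assoc,
      associator_hom_fst_assoc, associator_hom_snd_fst_assoc, associator_hom_snd_snd_assoc,
      _root_.mul_assoc]
  inv := v
  left_inv := by
    rw [← cancel_mono i, Category.assoc, hm, MonObj.comp_mul, ← Category.assoc, ← Category.assoc,
      lift_fst, lift_snd, hv, Category.id_comp, Category.assoc, he, ← Hom.one_def, ← Hom.inv_def,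
      inv_mul_cancel]
  right_inv := by
    rw [← cancel_mono i, Category.assoc, hm, MonObj.comp_mul, ← Category.assoc, ← Category.assoc,
      lift_fst, lift_snd, hv, Category.id_comp, Category.assoc, he, ← Hom.one_def, ← Hom.inv_def,
      mul_inv_cancel]

include hm he hv in
theorem isMonHom_ofMono :
    letI := grpObjOfMono i m hm e he v hv
    IsMonHom i := by
  letI := grpObjOfMono i m hm e he v hv
  refine ⟨he, ?_⟩
  change m ≫ i = (i ⊗ₘ i) ≫ μ[G]
  rw [hm, Hom.mul_def, lift_fst_comp_snd_comp]

end SubGrp

section IdGrp

variable (K : Type u) [Field K] (G : Over (Spec (CommRingCat.of K))) [GrpObj G]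
variable (pt : ↥(𝟙_ (Over (Spec (CommRingCat.of K)))).left)

/-- the identity component, as an object over the field. -/
noncomputable def idObj : Over (Spec (CommRingCat.of K)) :=
  Over.mk ((idIdeal K G pt).subschemeι ≫ G.hom)

/-- the inclusion of the identity component. -/
noncomputable def idIncl : idObj K G pt ⟶ G :=
  Over.homMk (idIdeal K G pt).subschemeι rfl

instance : IsClosedImmersion (idIncl K G pt).left :=
  inferInstanceAs (IsClosedImmersion (idIdeal K G pt).subschemeι)

theorem range_idIncl : Set.range (idIncl K G pt).left = Z0 K G pt := by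
  change Set.range (idIdeal K G pt).subschemeι = _
  rw [Scheme.IdealSheafData.range_subschemeι, support_idIdeal]

instance : Mono (idIncl K G pt) := by
  haveI : Mono (idIncl K G pt).left :=
    inferInstanceAs (Mono (idIdeal K G pt).subschemeι)
  exact (Over.forget _).mono_of_mono_map ‹_›

/-- lifting a morphism with image in `Z0` to the identity component. -/
theorem exists_lift_idIncl {T : Over (Spec (CommRingCat.of K))} (f : T ⟶ G)
    (h : Set.range f.left ⊆ Z0 K G pt) : ∃ f' : T ⟶ idObj K G pt, f' ≫ idIncl K G pt = f := by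
  have hk : (idIdeal K G pt).subschemeι.ker ≤ f.left.ker := by
    rw [Scheme.IdealSheafData.ker_subschemeι]
    exact idIdeal_le_ker K G pt f.left h
  let l : T.left ⟶ (idIdeal K G pt).subscheme :=
    IsClosedImmersion.lift (idIdeal K G pt).subschemeι f.left hk
  have hfac : l ≫ (idIdeal K G pt).subschemeι = f.left := IsClosedImmersion.lift_fac _ _ _
  refine ⟨Over.homMk (show T.left ⟶ (idObj K G pt).left from l) ?_, ?_⟩
  · change l ≫ (idIdeal K G pt).subschemeι ≫ G.hom = T.hom
    rw [← Category.assoc, hfac, Over.w f]
  · ext1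
    exact hfac

theorem exists_grpObj_idObj :
    ∃ (_ : GrpObj (idObj K G pt)), IsMonHom (idIncl K G pt) := by
  set i := idIncl K G pt with hi
  have hr := range_idIncl K G pt
  -- multiplication
  obtain ⟨m, hm⟩ := exists_lift_idIncl K G pt
    ((fst (idObj K G pt) (idObj K G pt) ≫ i) * (snd (idObj K G pt) (idObj K G pt) ≫ i)) (by
      rintro _ ⟨w, rfl⟩
      apply mul_mem_Z0
      · rw [Over.comp_left, Scheme.Hom.comp_apply, ← hr]; exact ⟨_, rfl⟩
      · rw [Over.comp_left, Scheme.Hom.comp_apply, ← hr]; exact ⟨_, rfl⟩)
  obtain ⟨e, he⟩ := exists_lift_idIncl K G pt η[G] (by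
    rintro _ ⟨w, rfl⟩
    rw [pt_eq K pt w]
    exact unit_mem_Z0 K G pt)
  obtain ⟨v, hv⟩ := exists_lift_idIncl K G pt (i ≫ ι[G]) (by
    rintro _ ⟨w, rfl⟩
    rw [← Hom.inv_def]
    apply inv_mem_Z0
    rw [← hr]; exact ⟨_, rfl⟩)
  exact ⟨grpObjOfMono i m hm e he v hv, isMonHom_ofMono i m hm e he v hv⟩

theorem flat_idIncl : Flat (idIncl K G pt).left := flat_idIdeal K G pt

theorem geometricallyIrreducible_idObj : GeometricallyIrreducible (idObj K G pt).hom := by
  have := geometricallyIrreducible_of_closedImmersion K G (idObj K G pt).left (idIncl K G pt).left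
    (by rw [range_idIncl]; exact Z0_mem K G pt) pt
    (by rw [range_idIncl]; exact unit_mem_Z0 K G pt)
  rwa [Over.w (idIncl K G pt)] at this

theorem compactSpace_idObj : CompactSpace ↥(idObj K G pt).left := by
  rw [← isCompact_univ_iff, (idIncl K G pt).left.isEmbedding.isCompact_iff, Set.image_univ,
    range_idIncl]
  exact isCompact_Z0 K G pt

end IdGrp

end Groth.Agent.Lib.Helper10.IdComp
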