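import Mathlib

/-!
# Sections over one-point and discrete schemes are closed immersions
-/

set_option autoImplicit false
set_option backward.isDefEq.respectTransparency.types false
set_option maxHeartbeats 4000000
set_option synthInstance.maxHeartbeats 400000
universe u
open CategoryTheory CategoryTheory.Limits AlgebraicGeometry TopologicalSpace

namespace Groth.Agent.Lib.Helper10.OnePt

theorem isAffine_of_unique (V : Scheme.{u}) [Subsingleton V] [Nonempty V] : IsAffine V := by
  obtain ⟨x⟩ := ‹Nonempty V›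
  obtain ⟨(W : V.Opens), hW, hxW, -⟩ :=
    Opens.isBasis_iff_nbhd.mp V.isBasis_affineOpens (Opens.mem_top x)
  have hWtop : W = ⊤ := by
    ext y
    simp only [SetLike.mem_coe, Opens.coe_top, Set.mem_univ, iff_true]
    rw [Subsingleton.elim y x]
    exact hxW
  subst hWtop
  haveI : IsAffine (⊤ : V.Opens).toScheme := hW
  exact IsAffine.of_isIso (Scheme.topIso V).inv

theorem opens_eq_bot_or_top {V : Type*} [TopologicalSpace V] [Subsingleton V] (W : Opens V) :
    W = ⊥ ∨ W = ⊤ := by
  by_cases h : ∃ x, x ∈ W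
  · right
    obtain ⟨x, hx⟩ := h
    ext y
    simp only [SetLike.mem_coe, Opens.coe_top, Set.mem_univ, iff_true]
    rw [Subsingleton.elim y x]
    exact hx
  · left
    ext y
    simp only [SetLike.mem_coe, Opens.coe_bot, Set.mem_empty_iff_false, iff_false]
    exact fun hy => h ⟨y, hy⟩

/-- A section over a one-point scheme is a closed immersion. -/
theorem isClosedImmersion_of_section_of_unique {V X : Scheme.{u}} [Subsingleton V] [Nonempty V]
    (e : V ⟶ X) (r : X ⟶ V) (h : e ≫ r = 𝟙 V) : IsClosedImmersion e := by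
  haveI := isAffine_of_unique V
  rw [isClosedImmersion_iff_isAffineHom]
  have htop : Function.Surjective (e.app ⊤) := by
    change Function.Surjective e.appTop
    have h1 : r.appTop ≫ e.appTop = 𝟙 _ := by
      rw [← Scheme.Hom.comp_appTop, h, Scheme.Hom.id_appTop]
    intro v
    refine ⟨r.appTop v, ?_⟩
    have h2 := congrArg (fun F => F.hom v) h1
    simpa using h2
  refine ⟨⟨fun U' hU' => ?_⟩, fun U' hU' => ?_⟩
  · rcases opens_eq_bot_or_top (e ⁻¹ᵁ U') with h0 | h1
    · rw [h0]
      exact isAffineOpen_bot V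
    · rw [h1]
      exact isAffineOpen_top V
  · rcases opens_eq_bot_or_top (e ⁻¹ᵁ U') with h0 | h1
    · intro v
      haveI : Subsingleton Γ(V, e ⁻¹ᵁ U') := by
        rw [h0]
        infer_instance
      exact ⟨0, Subsingleton.elim _ _⟩
    · intro v
      have hres : Function.Bijective (V.presheaf.map (homOfLE (le_top : e ⁻¹ᵁ U' ≤ ⊤)).op) := by
        have : IsIso (V.presheaf.map (homOfLE (le_top : e ⁻¹ᵁ U' ≤ ⊤)).op) := by
          have : IsIso (homOfLE (le_top : e ⁻¹ᵁ U' ≤ ⊤)) := by
            refine ⟨homOfLE (by rw [h1]), Subsingleton.elim _ _, Subsingleton.elim _ _⟩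
          infer_instance
        exact ConcreteCategory.bijective_of_isIso _
      obtain ⟨v', rfl⟩ := hres.2 v
      obtain ⟨x, rfl⟩ := htop v'
      refine ⟨X.presheaf.map (homOfLE (le_top : U' ≤ ⊤)).op x, ?_⟩
      have := congrArg (fun F => F.hom x) (e.naturality (homOfLE (le_top : U' ≤ ⊤)).op)
      exact this

/-- A section of a morphism to a discrete scheme is a closed immersion. -/
theorem isClosedImmersion_of_section_of_discrete {S X : Scheme.{u}} [DiscreteTopology S]
    (e : S ⟶ X) (p : X ⟶ S) (h : e ≫ p = 𝟙 S) : IsClosedImmersion e := by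
  have hpe : ∀ s : S, p (e s) = s := fun s => by
    rw [← Scheme.Hom.comp_apply, h]
    rfl
  let O : S → S.Opens := fun s => ⟨{s}, isOpen_discrete _⟩
  refine IsZariskiLocalAtTarget.of_iSup_eq_top (P := @IsClosedImmersion) (fun s : S => p ⁻¹ᵁ O s)
    ?_ (fun s => ?_)
  · rw [eq_top_iff]
    intro x _
    exact Opens.mem_iSup.mpr ⟨p x, rfl⟩
  · let Xs := p ⁻¹ᵁ O s
    let Vs := e ⁻¹ᵁ Xs
    have hVs : ∀ s' : S, s' ∈ Vs ↔ s' = s := fun s' => by
      change p (e s') ∈ ({s} : Set S) ↔ _
      rw [hpe]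
      rfl
    haveI : Subsingleton Vs.toScheme := ⟨fun a b => Subtype.ext (by
      rw [(hVs a.1).1 a.2, (hVs b.1).1 b.2])⟩
    haveI : Nonempty Vs.toScheme := ⟨⟨s, (hVs s).2 rfl⟩⟩
    have hrange : Set.range (Xs.ι ≫ p) ⊆ Set.range Vs.ι := by
      rintro _ ⟨x, rfl⟩
      rw [Scheme.Opens.range_ι]
      rw [Scheme.Hom.comp_apply]
      have : p (Xs.ι x) = s := x.2
      rw [this]
      exact (hVs s).2 rfl
    refine isClosedImmersion_of_section_of_unique (e ∣_ Xs)
      (IsOpenImmersion.lift Vs.ι (Xs.ι ≫ p) hrange) ?_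
    rw [← cancel_mono Vs.ι, Category.assoc, IsOpenImmersion.lift_fac, Category.id_comp,
      ← Category.assoc, morphismRestrict_ι, Category.assoc, h, Category.comp_id]

end Groth.Agent.Lib.Helper10.OnePt
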