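import Mathlib
import Groth.Agent.Lib.Helper10.WeilClosed4
import Groth.Agent.S5331

/-!
# Loci `{x | ∀ y, m(y, x) ∈ C}` and `{x | ∀ y, c₁(y, x) = c₂(y, x)}` over a field are closed
-/

set_option autoImplicit false
set_option backward.isDefEq.respectTransparency.types false
set_option maxHeartbeats 4000000
set_option synthInstance.maxHeartbeats 400000
universe u
open CategoryTheory CategoryTheory.Limits AlgebraicGeometry MonoidalCategory
  CartesianMonoidalCategory

namespace Groth.Agent.Lib.Helper10.PreLocus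

open Groth.Agent.Lib.Helper10.ClosedSubF Groth.Agent.Lib.Helper10.WeilClosed

variable {S₀ : Scheme.{u}} {X Y B C : Over S₀}

/-- From a representing closed subscheme of a subfunctor of `X.left` to an object over `S₀`. -/
theorem exists_over_of_repBy (Φ : SubF X.left) {T₀ : Scheme.{u}} (t : T₀ ⟶ X.left)
    [IsClosedImmersion t] (h : Φ.RepBy t) :
    ∃ (Z : Over S₀) (j : Z ⟶ X), IsClosedImmersion j.left ∧
      ∀ (T : Over S₀) (x : T ⟶ X), (∃ z : T ⟶ Z, z ≫ j = x) ↔ Φ.P x.left := by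
  let Z : Over S₀ := Over.mk (t ≫ X.hom)
  let j : Z ⟶ X := Over.homMk t rfl
  refine ⟨Z, j, ‹_›, fun T x => ?_⟩
  rw [h x.left]
  constructor
  · rintro ⟨z, rfl⟩
    exact ⟨z.left, rfl⟩
  · rintro ⟨g', hg'⟩
    refine ⟨Over.homMk g' ?_, ?_⟩
    · change g' ≫ t ≫ X.hom = T.hom
      rw [← Category.assoc, hg', Over.w]
    · apply Over.OverMorphism.ext
      exact hg'

/-- the subfunctor of points `x` of `X` such that `m(y, x)` lies in `C` for all `y`. -/
noncomputable def preSub (m : Y ⊗ X ⟶ B) (i : C ⟶ B) : SubF X.left :=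
  weilSubF (snd Y X).left (pullback.snd i.left m.left)

theorem preSub_iff (m : Y ⊗ X ⟶ B) (i : C ⟶ B) {T : Over S₀} (x : T ⟶ X) :
    (preSub m i).P x.left ↔ ∀ (T' : Over S₀) (h : T' ⟶ T) (y : T' ⟶ Y),
      ∃ c : T' ⟶ C, lift y (h ≫ x) ≫ m = c ≫ i := by
  constructor
  · intro hP T' h y
    obtain ⟨w, hw⟩ := hP (lift y (h ≫ x)).left h.left
      (congrArg (fun m => m.left) (lift_snd y (h ≫ x)))
    have hc : (w ≫ pullback.fst i.left m.left) ≫ C.hom = T'.hom := by
      rw [← Over.w i, Category.assoc, ← Category.assoc (pullback.fst _ _), pullback.condition,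
        Category.assoc, Over.w m, ← Category.assoc, hw, Over.w]
    refine ⟨Over.homMk (w ≫ pullback.fst i.left m.left) hc, ?_⟩
    apply Over.OverMorphism.ext
    change (lift y (h ≫ x)).left ≫ m.left = (w ≫ pullback.fst i.left m.left) ≫ i.left
    rw [Category.assoc, pullback.condition, ← Category.assoc, hw]
  · intro hQ W a₀ b hab
    have hW : a₀ ≫ (Y ⊗ X).hom = b ≫ T.hom := by
      rw [← Over.w (snd Y X), ← Category.assoc, hab, Category.assoc, Over.w]
    let W' : Over S₀ := Over.mk (b ≫ T.hom)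
    let b' : W' ⟶ T := Over.homMk b rfl
    let a₀' : W' ⟶ Y ⊗ X := Over.homMk a₀ hW
    have e1 : a₀' ≫ snd Y X = b' ≫ x := Over.OverMorphism.ext hab
    have e2 : a₀' = lift (a₀' ≫ fst Y X) (b' ≫ x) := by
      apply CartesianMonoidalCategory.hom_ext
      · simp
      · simp [e1]
    obtain ⟨c, hc⟩ := hQ W' b' (a₀' ≫ fst Y X)
    rw [← e2] at hc
    have hc' : c.left ≫ i.left = a₀ ≫ m.left := (congrArg (fun m => m.left) hc).symm
    exact ⟨pullback.lift c.left a₀ hc', pullback.lift_snd _ _ _⟩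

/-- the subfunctor of points `x` of `X` such that `c₁(y, x) = c₂(y, x)` for all `y`. -/
noncomputable def eqSub (c₁ c₂ : Y ⊗ X ⟶ B) : SubF X.left :=
  preSub (lift c₁ c₂) (lift (𝟙 B) (𝟙 B))

theorem eqSub_iff (c₁ c₂ : Y ⊗ X ⟶ B) {T : Over S₀} (x : T ⟶ X) :
    (eqSub c₁ c₂).P x.left ↔ ∀ (T' : Over S₀) (h : T' ⟶ T) (y : T' ⟶ Y),
      lift y (h ≫ x) ≫ c₁ = lift y (h ≫ x) ≫ c₂ := by
  rw [eqSub, preSub_iff]
  refine forall_congr' fun T' => forall_congr' fun h => forall_congr' fun y => ?_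
  constructor
  · rintro ⟨c, hc⟩
    have h1 := congrArg (fun m => m ≫ fst B B) hc
    have h2 := congrArg (fun m => m ≫ snd B B) hc
    simp only [Category.assoc, lift_fst, lift_snd, Category.comp_id] at h1 h2
    rw [h1, h2]
  · intro h12
    refine ⟨lift y (h ≫ x) ≫ c₁, ?_⟩
    apply CartesianMonoidalCategory.hom_ext
    · simp
    · simp [h12]

theorem isClosedImmersion_diag_left (B : Over S₀) [IsSeparated B.hom] :
    IsClosedImmersion (lift (𝟙 B) (𝟙 B)).left := by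
  have : (lift (𝟙 B) (𝟙 B)).left = pullback.diagonal B.hom := by
    apply pullback.hom_ext
    · simp only [pullback.diagonal_fst]
      exact congrArg (fun m => m.left) (lift_fst (𝟙 B) (𝟙 B))
    · simp only [pullback.diagonal_snd]
      exact congrArg (fun m => m.left) (lift_snd (𝟙 B) (𝟙 B))
  rw [this]
  infer_instance

section Field

variable {k : Type u} [Field k] {X Y B C : Over (Spec (CommRingCat.of k))}

theorem exists_repBy_preSub (m : Y ⊗ X ⟶ B) (i : C ⟶ B) [IsClosedImmersion i.left] :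
    ∃ (T₀ : Scheme.{u}) (t : T₀ ⟶ X.left), IsClosedImmersion t ∧ (preSub m i).RepBy t :=
  exists_repBy_of_field (IsPullback.of_hasPullback Y.hom X.hom) (pullback.snd i.left m.left)

/-- **Closedness of `{x | ∀ y, m(y, x) ∈ C}`** for a closed subscheme `C`. -/
theorem exists_closed_pre (m : Y ⊗ X ⟶ B) (i : C ⟶ B) [IsClosedImmersion i.left] :
    ∃ (Z : Over (Spec (CommRingCat.of k))) (j : Z ⟶ X), IsClosedImmersion j.left ∧
      ∀ (T : Over (Spec (CommRingCat.of k))) (x : T ⟶ X), (∃ z : T ⟶ Z, z ≫ j = x) ↔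
        ∀ (T' : Over (Spec (CommRingCat.of k))) (h : T' ⟶ T) (y : T' ⟶ Y),
          ∃ c : T' ⟶ C, lift y (h ≫ x) ≫ m = c ≫ i := by
  obtain ⟨T₀, t, ht, hrep⟩ := exists_repBy_preSub m i
  obtain ⟨Z, j, hj, h⟩ := exists_over_of_repBy (preSub m i) t hrep
  exact ⟨Z, j, hj, fun T x => (h T x).trans (preSub_iff m i x)⟩

/-- **Closedness of `{x | ∀ y, c₁(y, x) = c₂(y, x)}`** for a separated target. -/
theorem exists_closed_eq [IsSeparated B.hom] (c₁ c₂ : Y ⊗ X ⟶ B) :
    ∃ (Z : Over (Spec (CommRingCat.of k))) (j : Z ⟶ X), IsClosedImmersion j.left ∧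
      ∀ (T : Over (Spec (CommRingCat.of k))) (x : T ⟶ X), (∃ z : T ⟶ Z, z ≫ j = x) ↔
        ∀ (T' : Over (Spec (CommRingCat.of k))) (h : T' ⟶ T) (y : T' ⟶ Y),
          lift y (h ≫ x) ≫ c₁ = lift y (h ≫ x) ≫ c₂ := by
  haveI := isClosedImmersion_diag_left B
  obtain ⟨T₀, t, ht, hrep⟩ := exists_repBy_preSub (lift c₁ c₂) (lift (𝟙 B) (𝟙 B))
  obtain ⟨Z, j, hj, h⟩ := exists_over_of_repBy (eqSub c₁ c₂) t hrep
  exact ⟨Z, j, hj, fun T x => (h T x).trans (eqSub_iff c₁ c₂ x)⟩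

/-- A group scheme over a field is separated. -/
theorem isSeparated_of_grpObj (G : Over (Spec (CommRingCat.of k))) [GrpObj G] :
    IsSeparated G.hom := by
  haveI : DiscreteTopology (Spec (CommRingCat.of k)) := inferInstance
  exact Groth.Agent.S5331.result _ G

end Field

section General

variable {S₀ : Scheme.{u}} {X Y B C : Over S₀}

theorem exists_closed_pre_of_affLocProj (hY : AffLocProj Y.hom) (m : Y ⊗ X ⟶ B) (i : C ⟶ B)
    [IsClosedImmersion i.left] :
    ∃ (Z : Over S₀) (j : Z ⟶ X), IsClosedImmersion j.left ∧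
      ∀ (T : Over S₀) (x : T ⟶ X), (∃ z : T ⟶ Z, z ≫ j = x) ↔
        ∀ (T' : Over S₀) (h : T' ⟶ T) (y : T' ⟶ Y),
          ∃ c : T' ⟶ C, lift y (h ≫ x) ≫ m = c ≫ i := by
  obtain ⟨T₀, t, ht, hrep⟩ := exists_repBy_of_affLocProj hY
    (IsPullback.of_hasPullback Y.hom X.hom) (pullback.snd i.left m.left)
  obtain ⟨Z, j, hj, h⟩ := exists_over_of_repBy (preSub m i) t hrep
  exact ⟨Z, j, hj, fun T x => (h T x).trans (preSub_iff m i x)⟩

theorem exists_closed_eq_of_affLocProj (hY : AffLocProj Y.hom) [IsSeparated B.hom]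
    (c₁ c₂ : Y ⊗ X ⟶ B) :
    ∃ (Z : Over S₀) (j : Z ⟶ X), IsClosedImmersion j.left ∧
      ∀ (T : Over S₀) (x : T ⟶ X), (∃ z : T ⟶ Z, z ≫ j = x) ↔
        ∀ (T' : Over S₀) (h : T' ⟶ T) (y : T' ⟶ Y),
          lift y (h ≫ x) ≫ c₁ = lift y (h ≫ x) ≫ c₂ := by
  haveI := isClosedImmersion_diag_left B
  obtain ⟨T₀, t, ht, hrep⟩ := exists_repBy_of_affLocProj hY
    (IsPullback.of_hasPullback Y.hom X.hom)
    (pullback.snd (lift (𝟙 B) (𝟙 B)).left (lift c₁ c₂).left)
  obtain ⟨Z, j, hj, h⟩ := exists_over_of_repBy (eqSub c₁ c₂) t hrep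
  exact ⟨Z, j, hj, fun T x => (h T x).trans (eqSub_iff c₁ c₂ x)⟩

end General

end Groth.Agent.Lib.Helper10.PreLocus
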