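import Mathlib
import Groth.Agent.Lib.Helper10.PreLocus

/-!
# Rigidity for schemes with only constant global functions (part 1)

* `exists_factor_of_isIso_appTop`: a morphism to an affine scheme factors through any morphism to
  an affine scheme inducing an isomorphism on global sections;
* `isIso_snd_appTop`: Künneth: if `O(X) = k` and `T` is affine then `O(X × T) = O(T)`;
* `exists_factor_snd`: a morphism `X × T ⟶ Z` landing in an affine open factors through `T`.
-/

set_option autoImplicit false
set_option backward.isDefEq.respectTransparency.types false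
set_option maxHeartbeats 4000000
set_option synthInstance.maxHeartbeats 400000
universe u
open CategoryTheory CategoryTheory.Limits AlgebraicGeometry MonoidalCategory
  CartesianMonoidalCategory MonObj GrpObj

namespace Groth.Agent.Lib.Helper10.RigidAA

theorem exists_factor_of_isIso_appTop {W T U : Scheme.{u}} [IsAffine T] [IsAffine U]
    (p : W ⟶ T) [IsIso p.appTop] (ψ : W ⟶ U) : ∃ g : T ⟶ U, ψ = p ≫ g := by
  refine ⟨T.isoSpec.hom ≫ Spec.map (inv p.appTop) ≫ Spec.map ψ.appTop ≫ U.isoSpec.inv, ?_⟩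
  rw [Scheme.isoSpec_hom, ← Category.assoc, Scheme.toSpecΓ_naturality, Category.assoc,
    ← Category.assoc (Spec.map p.appTop), ← Spec.map_comp, IsIso.inv_hom_id,
    Spec.map_id, Category.id_comp, ← Category.assoc, ← Scheme.toSpecΓ_naturality,
    Category.assoc, ← Scheme.isoSpec_hom, Iso.hom_inv_id, Category.comp_id]

variable {k : Type u} [Field k]

instance flat_of_field (X : Over (Spec (CommRingCat.of k))) : Flat X.hom := by
  haveI : Subsingleton ↥(Spec (CommRingCat.of k)) :=
    inferInstanceAs (Subsingleton (PrimeSpectrum k))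
  infer_instance

/-- **Künneth** for `O(X) = k`: global functions on `X × T` are the functions on `T`. -/
theorem isIso_snd_appTop (X T : Over (Spec (CommRingCat.of k))) [QuasiCompact X.hom]
    [QuasiSeparated X.hom]
    (hX : Function.Bijective ((Scheme.ΓSpecIso (CommRingCat.of k)).inv ≫ X.hom.appTop).hom)
    [IsAffine T.left] : IsIso (snd X T).left.appTop := by
  have H := IsPullback.of_hasPullback X.hom T.hom
  haveI : CompactSpace ↥X.left := QuasiCompact.compactSpace_of_compactSpace X.hom
  haveI : QuasiSeparatedSpace ↥X.left := quasiSeparatedSpace_of_quasiSeparated X.hom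
  have h1 := isIso_pushoutSection_of_isQuasiSeparated_of_flat_right H
    (US := ⊤) (UT := ⊤) (UX := ⊤) (UY := ⊤) le_top le_top (by simp)
    (isAffineOpen_top _) (isAffineOpen_top _) isCompact_univ isQuasiSeparated_univ
  rw [isIso_pushoutSection_iff] at h1
  haveI : IsIso X.hom.appTop := by
    have h2 : IsIso ((Scheme.ΓSpecIso (CommRingCat.of k)).inv ≫ X.hom.appTop) := by
      rw [ConcreteCategory.isIso_iff_bijective]
      exact hX
    exact (isIso_comp_left_iff _ _).mp h2
  haveI : IsIso (X.hom.appLE ⊤ ⊤ le_top) := by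
    show IsIso (X.hom.appLE ⊤ (X.hom ⁻¹ᵁ ⊤) le_rfl)
    rw [← Scheme.Hom.app_eq_appLE]
    exact ‹IsIso X.hom.appTop›
  have h3 := h1.isIso_inr_of_isIso
  have h4 : (snd X T).left.appTop = (pullback.snd X.hom T.hom).appLE ⊤ ⊤ (by simp) := by
    show (pullback.snd X.hom T.hom).app ⊤ =
      (pullback.snd X.hom T.hom).appLE ⊤ ((pullback.snd X.hom T.hom) ⁻¹ᵁ ⊤) le_rfl
    rw [← Scheme.Hom.app_eq_appLE]
  rw [h4]
  exact h3

/-- a morphism `X × T ⟶ Z` landing in an affine open factors through `T`. -/
theorem exists_factor_snd (X T Z : Over (Spec (CommRingCat.of k))) [QuasiCompact X.hom]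
    [QuasiSeparated X.hom]
    (hX : Function.Bijective ((Scheme.ΓSpecIso (CommRingCat.of k)).inv ≫ X.hom.appTop).hom)
    (x₀ : 𝟙_ (Over (Spec (CommRingCat.of k))) ⟶ X)
    [IsAffine T.left] (φ : X ⊗ T ⟶ Z) (U : Z.left.Opens) (hU : IsAffineOpen U)
    (hφ : ∀ a : (X ⊗ T).left, φ.left a ∈ U) :
    φ = snd X T ≫ lift (toUnit T ≫ x₀) (𝟙 T) ≫ φ := by
  have hr : Set.range φ.left ⊆ Set.range U.ι := by
    rw [Scheme.Opens.range_ι]
    rintro _ ⟨a, rfl⟩
    exact hφ a
  set ψ := IsOpenImmersion.lift U.ι φ.left hr with hψ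
  have hψ' : ψ ≫ U.ι = φ.left := IsOpenImmersion.lift_fac _ _ _
  haveI := isIso_snd_appTop X T hX
  haveI : IsAffine U.toScheme := hU
  obtain ⟨g, hg⟩ := exists_factor_of_isIso_appTop (snd X T).left ψ
  have hσ : lift (toUnit T ≫ x₀) (𝟙 T) ≫ snd X T = 𝟙 T := lift_snd _ _
  have hσ' : (lift (toUnit T ≫ x₀) (𝟙 T)).left ≫ (snd X T).left = 𝟙 T.left := by
    rw [← Over.comp_left, hσ, Over.id_left]
  ext1
  rw [Over.comp_left, Over.comp_left, ← hψ', hg, Category.assoc, reassoc_of% hσ']

end Groth.Agent.Lib.Helper10.RigidAA
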