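import Mathlib
import Groth.Agent.Lib.Helper10.RigidAA1

/-!
# Rigidity for schemes with only constant global functions (part 2)

The locus of `y` such that `f(x, y) = f(x₀, y)` for all `x` is a closed subscheme, it contains
the field-valued points lying over it, and all infinitesimal neighbourhoods of its points.
-/

set_option autoImplicit false
set_option backward.isDefEq.respectTransparency.types false
set_option maxHeartbeats 4000000
set_option synthInstance.maxHeartbeats 400000
universe u
open CategoryTheory CategoryTheory.Limits AlgebraicGeometry MonoidalCategory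
  CartesianMonoidalCategory MonObj GrpObj

namespace Groth.Agent.Lib.Helper10.RigidAA

variable {k : Type u} [Field k]

section Good

variable {X Y Z : Over (Spec (CommRingCat.of k))}
  (x₀ : 𝟙_ (Over (Spec (CommRingCat.of k))) ⟶ X) (f : X ⊗ Y ⟶ Z)

/-- `y ↦ f(x₀, y)`. -/
noncomputable def gam : Y ⟶ Z := lift (toUnit Y ≫ x₀) (𝟙 Y) ≫ f

/-- the `T`-point `t` of `Y` satisfies `f(x, t) = f(x₀, t)` for all `x`. -/
def Good {T : Over (Spec (CommRingCat.of k))} (t : T ⟶ Y) : Prop :=
  (X ◁ t) ≫ f = snd X T ≫ t ≫ gam x₀ f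

theorem good_iff {T : Over (Spec (CommRingCat.of k))} (t : T ⟶ Y) :
    Good x₀ f t ↔ (X ◁ t) ≫ f = (X ◁ t) ≫ snd X Y ≫ gam x₀ f := by
  rw [Good, whiskerLeft_snd_assoc]

theorem Good.comp {T T' : Over (Spec (CommRingCat.of k))} {t : T ⟶ Y} (h : Good x₀ f t)
    (s : T' ⟶ T) : Good x₀ f (s ≫ t) := by
  rw [Good] at h ⊢
  rw [MonoidalCategory.whiskerLeft_comp, Category.assoc, h, whiskerLeft_snd_assoc, Category.assoc]

theorem good_id_iff : Good x₀ f (𝟙 Y) ↔ f = snd X Y ≫ lift (toUnit Y ≫ x₀) (𝟙 Y) ≫ f := by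
  rw [Good, MonoidalCategory.whiskerLeft_id, Category.id_comp, Category.id_comp, gam]

theorem section_whisker {T : Over (Spec (CommRingCat.of k))} (t : T ⟶ Y) :
    lift (toUnit T ≫ x₀) (𝟙 T) ≫ (X ◁ t) = t ≫ lift (toUnit Y ≫ x₀) (𝟙 Y) := by
  apply CartesianMonoidalCategory.hom_ext
  · rw [Category.assoc, whiskerLeft_fst, lift_fst, Category.assoc, lift_fst, ← Category.assoc]
    congr 1
    exact toUnit_unique _ _
  · rw [Category.assoc, whiskerLeft_snd, lift_snd_assoc, Category.assoc, lift_snd,
      Category.comp_id, Category.id_comp]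

/-- if `f(x, t)` does not depend on `x` then it is `f(x₀, t)`. -/
theorem good_of_factor {T : Over (Spec (CommRingCat.of k))} (t : T ⟶ Y) (g : T ⟶ Z)
    (h : (X ◁ t) ≫ f = snd X T ≫ g) : Good x₀ f t := by
  have h1 : g = t ≫ gam x₀ f := by
    have := congrArg (fun m => lift (toUnit T ≫ x₀) (𝟙 T) ≫ m) h
    simp only [lift_snd_assoc, Category.id_comp] at this
    rw [← this, ← Category.assoc, section_whisker, Category.assoc, gam]
  rw [Good, h, h1]

/-- the good locus is a closed subscheme. -/
theorem exists_closed_good [IsSeparated Z.hom] :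
    ∃ (Y' : Over (Spec (CommRingCat.of k))) (j : Y' ⟶ Y), IsClosedImmersion j.left ∧
      ∀ (T : Over (Spec (CommRingCat.of k))) (t : T ⟶ Y),
        (∃ z : T ⟶ Y', z ≫ j = t) ↔ Good x₀ f t := by
  obtain ⟨Y', j, hj, h⟩ := PreLocus.exists_closed_eq f (snd X Y ≫ gam x₀ f)
  refine ⟨Y', j, hj, fun T t => (h T t).trans ?_⟩
  rw [good_iff]
  constructor
  · intro H
    have := H (X ⊗ T) (snd X T) (fst X T)
    have e : lift (fst X T) (snd X T ≫ t) = X ◁ t := by
      apply CartesianMonoidalCategory.hom_ext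
      · rw [lift_fst, whiskerLeft_fst]
      · rw [lift_snd, whiskerLeft_snd]
    rwa [e] at this
  · intro H T' s y
    have e : lift y (s ≫ t) = lift y s ≫ (X ◁ t) := by
      apply CartesianMonoidalCategory.hom_ext
      · rw [lift_fst, Category.assoc, whiskerLeft_fst, lift_fst]
      · rw [lift_snd, Category.assoc, whiskerLeft_snd, lift_snd_assoc]
    rw [e, Category.assoc, H, Category.assoc]

end Good

/-- a morphism from a reduced scheme whose image lies in a closed subscheme factors through it. -/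
theorem exists_factor_of_reduced {Y Y' T : Over (Spec (CommRingCat.of k))} (j : Y' ⟶ Y)
    [IsClosedImmersion j.left] (t : T ⟶ Y) [IsReduced T.left]
    (h : ∀ a : T.left, t.left a ∈ Set.range j.left) : ∃ z : T ⟶ Y', z ≫ j = t := by
  haveI : Surjective (pullback.snd j.left t.left) := by
    refine ⟨fun a => ?_⟩
    obtain ⟨b, hb⟩ := h a
    obtain ⟨c, -, hc⟩ := Scheme.Pullback.exists_preimage_pullback (f := j.left) (g := t.left) b a hb
    exact ⟨c, hc⟩
  haveI : IsIso (pullback.snd j.left t.left) :=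
    isIso_of_isClosedImmersion_of_surjective (pullback.snd j.left t.left)
  have h1 : (inv (pullback.snd j.left t.left) ≫ pullback.fst j.left t.left) ≫ j.left = t.left := by
    rw [Category.assoc, pullback.condition, IsIso.inv_hom_id_assoc]
  refine ⟨Over.homMk (inv (pullback.snd j.left t.left) ≫ pullback.fst j.left t.left) ?_, ?_⟩
  · rw [← Over.w j, ← Category.assoc, h1, Over.w t]
  · ext1
    exact h1

section Local

variable {X Y Z : Over (Spec (CommRingCat.of k))} [QuasiCompact X.hom] [QuasiSeparated X.hom]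
  (hX : Function.Bijective ((Scheme.ΓSpecIso (CommRingCat.of k)).inv ≫ X.hom.appTop).hom)
  (x₀ : 𝟙_ (Over (Spec (CommRingCat.of k))) ⟶ X) (f : X ⊗ Y ⟶ Z)

include hX in
/-- if `T` is affine and `f(X × T)` lies in an affine open then `t` is good. -/
theorem good_of_affine {T : Over (Spec (CommRingCat.of k))} [IsAffine T.left] (t : T ⟶ Y)
    (U : Z.left.Opens) (hU : IsAffineOpen U)
    (h : ∀ a : (X ⊗ T).left, ((X ◁ t) ≫ f).left a ∈ U) : Good x₀ f t :=
  good_of_factor x₀ f t _ (exists_factor_snd X T Z hX x₀ ((X ◁ t) ≫ f) U hU h)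

include hX in
/-- an affine `T`-point concentrated at a single good point `y` is good. -/
theorem good_of_local {Y' : Over (Spec (CommRingCat.of k))} (j : Y' ⟶ Y)
    [IsClosedImmersion j.left]
    (hrep : ∀ (T : Over (Spec (CommRingCat.of k))) (t : T ⟶ Y),
        (∃ z : T ⟶ Y', z ≫ j = t) ↔ Good x₀ f t)
    {T : Over (Spec (CommRingCat.of k))} [IsAffine T.left] (t : T ⟶ Y) (y : Y.left)
    (hy : y ∈ Set.range j.left) (ht : ∀ b : T.left, t.left b = y) : Good x₀ f t := by
  obtain ⟨_, ⟨U, hU, rfl⟩, hyU, -⟩ :=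
    Z.left.isBasis_affineOpens.exists_subset_of_mem_open
      (Set.mem_univ ((gam x₀ f).left y)) isOpen_univ
  refine good_of_affine hX x₀ f t U hU (fun a => ?_)
  -- the residue field point at `a`
  let a₀ := (X ⊗ T).left.fromSpecResidueField a
  let A : Over (Spec (CommRingCat.of k)) := Over.mk (a₀ ≫ (X ⊗ T).hom)
  let a' : A ⟶ X ⊗ T := Over.homMk a₀ rfl
  let s : A ⟶ Y := a' ≫ snd X T ≫ t
  haveI : IsReduced A.left :=
    inferInstanceAs (IsReduced (Spec ((X ⊗ T).left.residueField a)))
  have hs : ∀ c : A.left, s.left c = y := by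
    intro c
    show (a' ≫ snd X T ≫ t).left c = y
    rw [Over.comp_left, Over.comp_left, Scheme.Hom.comp_apply, Scheme.Hom.comp_apply]
    exact ht _
  have hgood : Good x₀ f s := by
    rw [← hrep]
    exact exists_factor_of_reduced j s (fun c => by rw [hs c]; exact hy)
  have e1 : a' ≫ (X ◁ t) = lift (a' ≫ fst X T) (𝟙 A) ≫ (X ◁ s) := by
    apply CartesianMonoidalCategory.hom_ext
    · rw [Category.assoc, whiskerLeft_fst, Category.assoc, whiskerLeft_fst, lift_fst]
    · rw [Category.assoc, whiskerLeft_snd, Category.assoc, whiskerLeft_snd, lift_snd_assoc,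
        Category.id_comp]
  have e2 : a' ≫ (X ◁ t) ≫ f = s ≫ gam x₀ f := by
    rw [← Category.assoc, e1, Category.assoc, hgood, lift_snd_assoc, Category.id_comp]
  let c : A.left := IsLocalRing.closedPoint ((X ⊗ T).left.residueField a)
  have hc : a'.left c = a := Scheme.fromSpecResidueField_apply a c
  have e3 : ((X ◁ t) ≫ f).left (a'.left c) = (gam x₀ f).left (s.left c) := by
    rw [← Scheme.Hom.comp_apply, ← Scheme.Hom.comp_apply, ← Over.comp_left, ← Over.comp_left, e2]
  rw [hc, hs c] at e3
  rw [e3]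
  exact hyU

end Local

end Groth.Agent.Lib.Helper10.RigidAA
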