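import Mathlib
import Groth.Agent.Lib.Helper10.AbSub1

/-!
# Abelian subvarieties of a commutative group scheme over a field, part 2: sums
-/

set_option autoImplicit false
set_option backward.isDefEq.respectTransparency.types false
set_option maxHeartbeats 4000000
set_option synthInstance.maxHeartbeats 400000
universe u
open CategoryTheory CategoryTheory.Limits AlgebraicGeometry MonoidalCategory
  CartesianMonoidalCategory MonObj GrpObj

namespace Groth.Agent.Lib.Helper10.AbSub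

variable {k : Type u} [Field k]
variable {G : Over (Spec (CommRingCat.of k))} [GrpObj G] [LocallyOfFiniteType G.hom]

/-- the image of a homomorphism from an abelian variety. -/
theorem exists_image_hom (A : Over (Spec (CommRingCat.of k))) [GrpObj A] [IsProper A.hom]
    [GeometricallyIntegral A.hom] (φ : A ⟶ G) [IsMonHom φ] :
    ∃ (M : Over (Spec (CommRingCat.of k))) (_ : GrpObj M) (i : M ⟶ G) (p : A ⟶ M),
      IsMonHom i ∧ IsClosedImmersion i.left ∧ IsProper M.hom ∧ GeometricallyIntegral M.hom ∧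
      p ≫ i = φ := by
  refine exists_image A φ μ[A] ?_ η[A] (IsMonHom.one_hom φ) ι[A] ?_
  · rw [IsMonHom.mul_hom φ, Hom.mul_def, lift_fst_comp_snd_comp]
  · have h1 : (𝟙 A : A ⟶ A)⁻¹ ≫ φ = ((𝟙 A) ≫ φ)⁻¹ := by
      apply eq_inv_of_mul_eq_one_left
      rw [← MonObj.mul_comp, inv_mul_cancel, MonObj.one_comp]
    rw [Hom.inv_def, Category.id_comp, Category.id_comp] at h1
    rw [h1, Hom.inv_def]

/-- the sum of two abelian subvarieties of a commutative group. -/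
theorem exists_sum [IsCommMonObj G] (M₁ M₂ : Over (Spec (CommRingCat.of k))) [GrpObj M₁] [GrpObj M₂]
    (i₁ : M₁ ⟶ G) (i₂ : M₂ ⟶ G) [IsMonHom i₁] [IsMonHom i₂] [IsProper M₁.hom]
    [GeometricallyIntegral M₁.hom] [IsProper M₂.hom] [GeometricallyIntegral M₂.hom] :
    ∃ (M : Over (Spec (CommRingCat.of k))) (_ : GrpObj M) (i : M ⟶ G) (j₁ : M₁ ⟶ M)
      (j₂ : M₂ ⟶ M), IsMonHom i ∧ IsClosedImmersion i.left ∧ IsProper M.hom ∧
      GeometricallyIntegral M.hom ∧ j₁ ≫ i = i₁ ∧ j₂ ≫ i = i₂ := by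
  let A := M₁ ⊗ M₂
  haveI : IsProper A.hom := isProper_tensor M₁ M₂
  haveI : GeometricallyIntegral A.hom := geometricallyIntegral_tensor M₁ M₂
  let φ : A ⟶ G := (fst M₁ M₂ ≫ i₁) * (snd M₁ M₂ ≫ i₂)
  let a : A ⊗ A ⟶ A := lift ((fst A A ≫ fst M₁ M₂) * (snd A A ≫ fst M₁ M₂))
    ((fst A A ≫ snd M₁ M₂) * (snd A A ≫ snd M₁ M₂))
  have ha : a ≫ φ = (fst A A ≫ φ) * (snd A A ≫ φ) := by
    show a ≫ ((fst M₁ M₂ ≫ i₁) * (snd M₁ M₂ ≫ i₂)) =
      (fst A A ≫ ((fst M₁ M₂ ≫ i₁) * (snd M₁ M₂ ≫ i₂))) *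
        (snd A A ≫ ((fst M₁ M₂ ≫ i₁) * (snd M₁ M₂ ≫ i₂)))
    rw [MonObj.comp_mul, MonObj.comp_mul, MonObj.comp_mul, ← Category.assoc a, ← Category.assoc a,
      lift_fst, lift_snd, MonObj.mul_comp, MonObj.mul_comp]
    simp only [Category.assoc]
    exact mul_mul_mul_comm _ _ _ _
  let e : 𝟙_ (Over (Spec (CommRingCat.of k))) ⟶ A := lift η[M₁] η[M₂]
  have he : e ≫ φ = η[G] := by
    show lift η[M₁] η[M₂] ≫ ((fst M₁ M₂ ≫ i₁) * (snd M₁ M₂ ≫ i₂)) = _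
    rw [MonObj.comp_mul, lift_fst_assoc, lift_snd_assoc, IsMonHom.one_hom i₁, IsMonHom.one_hom i₂,
      MonObj.one_eq_one G, _root_.one_mul]
  let v : A ⟶ A := lift ((fst M₁ M₂)⁻¹) ((snd M₁ M₂)⁻¹)
  have hinv : ∀ {T M : Over (Spec (CommRingCat.of k))} [GrpObj M] (f : T ⟶ M) (i : M ⟶ G)
      [IsMonHom i], f⁻¹ ≫ i = (f ≫ i)⁻¹ := by
    intro T M _ f i _
    apply eq_inv_of_mul_eq_one_left
    rw [← MonObj.mul_comp, inv_mul_cancel, MonObj.one_comp]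
  have hv : v ≫ φ = φ ≫ ι[G] := by
    show lift ((fst M₁ M₂)⁻¹) ((snd M₁ M₂)⁻¹) ≫ ((fst M₁ M₂ ≫ i₁) * (snd M₁ M₂ ≫ i₂)) = _
    rw [MonObj.comp_mul, lift_fst_assoc, lift_snd_assoc, hinv, hinv, ← Hom.inv_def, _root_.mul_inv]
  obtain ⟨M, grp, i, p, h1, h2, h3, h4, h5⟩ := exists_image A φ a ha e he v hv
  refine ⟨M, grp, i, lift (𝟙 M₁) (toUnit M₁ ≫ η[M₂]) ≫ p, lift (toUnit M₂ ≫ η[M₁]) (𝟙 M₂) ≫ p,
    h1, h2, h3, h4, ?_, ?_⟩
  · rw [Category.assoc, h5]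
    show lift (𝟙 M₁) (toUnit M₁ ≫ η[M₂]) ≫ ((fst M₁ M₂ ≫ i₁) * (snd M₁ M₂ ≫ i₂)) = _
    rw [MonObj.comp_mul, lift_fst_assoc, lift_snd_assoc, Category.id_comp, Category.assoc,
      IsMonHom.one_hom i₂, ← Hom.one_def, _root_.mul_one]
  · rw [Category.assoc, h5]
    show lift (toUnit M₂ ≫ η[M₁]) (𝟙 M₂) ≫ ((fst M₁ M₂ ≫ i₁) * (snd M₁ M₂ ≫ i₂)) = _
    rw [MonObj.comp_mul, lift_fst_assoc, lift_snd_assoc, Category.id_comp, Category.assoc,
      IsMonHom.one_hom i₁, ← Hom.one_def, _root_.one_mul]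

end Groth.Agent.Lib.Helper10.AbSub
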