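import Mathlib
import Groth.Agent.Lib.Helper10.AbSub2

/-!
# Abelian subvarieties of a commutative group scheme over a field, part 3: the maximal one
-/

set_option autoImplicit false
set_option backward.isDefEq.respectTransparency.types false
set_option maxHeartbeats 4000000
set_option synthInstance.maxHeartbeats 400000
universe u
open CategoryTheory CategoryTheory.Limits AlgebraicGeometry MonoidalCategory
  CartesianMonoidalCategory MonObj GrpObj

namespace Groth.Agent.Lib.Helper10.AbSub

variable {k : Type u} [Field k]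
variable {G : Over (Spec (CommRingCat.of k))}

/-- functions on `U` vanishing on (the image of) `M`. -/
noncomputable def kerOn (U : G.left.Opens) {M : Over (Spec (CommRingCat.of k))} (i : M ⟶ G) :
    Ideal Γ(G.left, U) :=
  RingHom.ker (i.left.app U).hom

theorem kerOn_le_of_comp (U : G.left.Opens) {M₁ M₂ : Over (Spec (CommRingCat.of k))}
    (i₂ : M₂ ⟶ G) (j : M₁ ⟶ M₂) : kerOn U i₂ ≤ kerOn U (j ≫ i₂) := by
  intro t ht
  rw [kerOn, RingHom.mem_ker] at ht ⊢
  have h2 : ((j ≫ i₂).left.app U).hom t =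
      (j.left.app (i₂.left ⁻¹ᵁ U)).hom ((i₂.left.app U).hom t) :=
    congrArg (fun f => f.hom t) (Scheme.Hom.comp_app j.left i₂.left U)
  rw [h2, ht]
  exact map_zero _

theorem isPrime_kerOn (U : G.left.Opens) {M : Over (Spec (CommRingCat.of k))} (i : M ⟶ G)
    [IsIntegral M.left] (x : M.left) (hx : i.left x ∈ U) : (kerOn U i).IsPrime := by
  haveI : IsDomain Γ(M.left, i.left ⁻¹ᵁ U) :=
    @IsIntegral.component_integral M.left _ (i.left ⁻¹ᵁ U) ⟨⟨x, hx⟩⟩
  exact RingHom.ker_isPrime _

/-- if the functions on an affine open `U` vanishing on `M₀ ⊆ M''` also vanish on the integral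
`M''` (which meets `U`), then `M₀ = M''`. -/
theorem isIso_of_kerOn_le (U : G.left.Opens) (hU : IsAffineOpen U)
    {M₀ M'' : Over (Spec (CommRingCat.of k))} (i'' : M'' ⟶ G) (j₀ : M₀ ⟶ M'')
    [IsClosedImmersion i''.left] [IsClosedImmersion (j₀ ≫ i'').left] [IsReduced M₀.left]
    [IsIntegral M''.left] (x₀ : M''.left) (hx₀ : i''.left x₀ ∈ U)
    (hle : kerOn U (j₀ ≫ i'') ≤ kerOn U i'') : IsIso j₀ := by
  haveI : IsClosedImmersion (j₀.left ≫ i''.left) := by
    rw [← Over.comp_left]; infer_instance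
  haveI : IsClosedImmersion j₀.left := IsClosedImmersion.of_comp j₀.left i''.left
  have hsub : ((i''.left ⁻¹ᵁ U : M''.left.Opens) : Set M''.left) ⊆ Set.range j₀.left := by
    intro x hx
    by_contra hxn
    have hy : i''.left x ∈ U := hx
    have hyC : i''.left x ∉ Set.range (j₀ ≫ i'').left := by
      rintro ⟨z, hz⟩
      apply hxn
      refine ⟨z, i''.left.isEmbedding.injective ?_⟩
      rw [← hz]; rfl
    have hCclosed : IsClosed (Set.range (j₀ ≫ i'').left) :=
      (j₀ ≫ i'').left.isClosedEmbedding.isClosed_range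
    let W : G.left.Opens := ⟨(Set.range (j₀ ≫ i'').left)ᶜ, hCclosed.isOpen_compl⟩
    obtain ⟨t, htW, hyt⟩ := hU.exists_basicOpen_le (V := W) ⟨i''.left x, hyC⟩ hy
    have h1 : (j₀ ≫ i'').left ⁻¹ᵁ (G.left.basicOpen t) = ⊥ := by
      rw [eq_bot_iff]
      intro z hz
      have hz' : (j₀ ≫ i'').left z ∈ G.left.basicOpen t := hz
      exact (htW hz') ⟨z, rfl⟩
    rw [Scheme.preimage_basicOpen, basicOpen_eq_bot_iff] at h1
    have h2 : t ∈ kerOn U (j₀ ≫ i'') := h1
    have h3 : (i''.left.app U).hom t = 0 := hle h2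
    have h4 : x ∈ i''.left ⁻¹ᵁ (G.left.basicOpen t) := hyt
    rw [Scheme.preimage_basicOpen] at h4
    have h5 : M''.left.basicOpen ((i''.left.app U).hom t) = ⊥ := by
      rw [h3]; exact Scheme.basicOpen_zero _ _
    rw [h5] at h4
    exact h4
  have hne : ((i''.left ⁻¹ᵁ U : M''.left.Opens) : Set M''.left).Nonempty := ⟨x₀, hx₀⟩
  have hdense : Dense ((i''.left ⁻¹ᵁ U : M''.left.Opens) : Set M''.left) :=
    (i''.left ⁻¹ᵁ U).isOpen.dense hne
  have hclosed : IsClosed (Set.range j₀.left) := j₀.left.isClosedEmbedding.isClosed_range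
  have huniv : Set.range j₀.left = Set.univ := by
    apply Set.eq_univ_of_univ_subset
    rw [← hdense.closure_eq]
    exact closure_minimal hsub hclosed
  haveI : Surjective j₀.left := ⟨Set.range_eq_univ.mp huniv⟩
  haveI : IsIso j₀.left := isIso_of_isClosedImmersion_of_surjective j₀.left
  haveI : IsIso ((Over.forget (Spec (CommRingCat.of k))).map j₀) := ‹IsIso j₀.left›
  exact isIso_of_reflects_iso j₀ (Over.forget _)

theorem geometricallyIntegral_id (K : Type u) [Field K] :
    GeometricallyIntegral (𝟙 (Spec (CommRingCat.of K))) := by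
  constructor
  intro L _ x W fst snd hpb
  haveI : IsIso snd := hpb.isIso_snd_of_isIso
  haveI : Nonempty ↥W := by
    obtain ⟨a⟩ : Nonempty ↥(Spec (CommRingCat.of L)) := inferInstance
    exact ⟨(inv snd) a⟩
  exact isIntegral_of_isOpenImmersion snd

/-- a connected geometrically reduced group scheme over a field is geometrically integral. -/
theorem geometricallyIntegral_of_connected (A : Over (Spec (CommRingCat.of k))) [GrpObj A]
    [GeometricallyReduced A.hom] [ConnectedSpace ↥A.left] : GeometricallyIntegral A.hom := by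
  let pt : (𝟙_ (Over (Spec (CommRingCat.of k)))).left := IsLocalRing.closedPoint k
  have h1 : IdComp.Z0 k A pt = Set.univ := by
    rw [← IdComp.connectedComponent_unit_eq_Z0 k A pt]
    exact PreconnectedSpace.connectedComponent_eq_univ _
  have h2 : Set.range (𝟙 A.left : A.left ⟶ A.left) = Set.univ := by
    ext x; simp
  haveI : GeometricallyIrreducible A.hom := by
    have := IdComp.geometricallyIrreducible_of_closedImmersion k A A.left (𝟙 A.left)
      (by rw [h2, ← h1]; exact IdComp.Z0_mem k A pt) pt (by rw [h2]; trivial)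
    rwa [Category.id_comp] at this
  exact GeometricallyIntegral.of_geometricallyReduced_of_geometricallyIrreducible A.hom

section Max

variable [GrpObj G] [LocallyOfFiniteType G.hom] [IsCommMonObj G]

/-- **The maximal abelian subvariety** of a commutative group scheme locally of finite type over a
field: every homomorphism from an abelian variety factors through it. -/
theorem exists_maximal :
    ∃ (M : Over (Spec (CommRingCat.of k))) (_ : GrpObj M) (i : M ⟶ G), IsMonHom i ∧
      IsClosedImmersion i.left ∧ IsProper M.hom ∧ GeometricallyIntegral M.hom ∧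
      ∀ (M' : Over (Spec (CommRingCat.of k))) [GrpObj M'] [IsProper M'.hom]
        [GeometricallyIntegral M'.hom] (i' : M' ⟶ G), IsMonHom i' → ∃ j : M' ⟶ M, j ≫ i = i' := by
  haveI : Subsingleton ↥(Spec (CommRingCat.of k)) :=
    inferInstanceAs (Subsingleton (PrimeSpectrum k))
  haveI : IsSeparated G.hom := PreLocus.isSeparated_of_grpObj G
  haveI : IsLocallyNoetherian G.left := LocallyOfFiniteType.isLocallyNoetherian G.hom
  let pt : (𝟙_ (Over (Spec (CommRingCat.of k)))).left := IsLocalRing.closedPoint k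
  -- an affine open neighbourhood of the unit
  obtain ⟨_, ⟨U, hU, rfl⟩, hptU, -⟩ := G.left.isBasis_affineOpens.exists_subset_of_mem_open
    (Set.mem_univ (η[G].left pt)) isOpen_univ
  have hU : IsAffineOpen U := hU
  haveI : IsNoetherianRing Γ(G.left, U) := IsLocallyNoetherian.component_noetherian ⟨U, hU⟩
  -- all unit points lie in `U`
  have hunit : ∀ {M : Over (Spec (CommRingCat.of k))} [GrpObj M] (i : M ⟶ G) [IsMonHom i],
      i.left (η[M].left pt) ∈ U := by
    intro M _ i _
    have h1 : η[M] ≫ i = η[G] := IsMonHom.one_hom i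
    have h2 : i.left (η[M].left pt) = η[G].left pt := by
      rw [← h1]; rfl
    rw [h2]
    exact hptU
  -- the set of ideals
  let S : Set (Ideal Γ(G.left, U)) := {P | ∃ (M : Over (Spec (CommRingCat.of k))) (grp : GrpObj M)
    (i : M ⟶ G), (IsMonHom i ∧ IsClosedImmersion i.left ∧ IsProper M.hom ∧
      GeometricallyIntegral M.hom) ∧ P = kerOn U i}
  have hSne : S.Nonempty := by
    refine ⟨_, 𝟙_ (Over (Spec (CommRingCat.of k))), inferInstance, η[G], ⟨inferInstance, ?_, ?_, ?_⟩,
      rfl⟩
    · have hw : η[G].left ≫ G.hom = 𝟙 _ := Over.w η[G]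
      haveI : IsClosedImmersion (η[G].left ≫ G.hom) := by rw [hw]; infer_instance
      exact IsClosedImmersion.of_comp η[G].left G.hom
    · show IsProper (𝟙 (Spec (CommRingCat.of k)))
      infer_instance
    · exact geometricallyIntegral_id k
  obtain ⟨P₀, ⟨M₀, grp₀, i₀, ⟨hm₀, hc₀, hp₀, hg₀⟩, rfl⟩, hmin⟩ :=
    WellFounded.has_min (r := fun P Q : Ideal Γ(G.left, U) => P.height < Q.height)
      (InvImage.wf (fun P : Ideal Γ(G.left, U) => P.height) wellFounded_lt) S hSne
  refine ⟨M₀, grp₀, i₀, hm₀, hc₀, hp₀, hg₀, ?_⟩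
  intro M' _ _ _ i' hi'
  obtain ⟨M'', grp'', i'', j₀, j', h1, h2, h3, h4, h5, h6⟩ := exists_sum M₀ M' i₀ i'
  subst h5
  haveI : IsIntegral M''.left := GeometricallyIntegral.isIntegral_of_subsingleton M''.hom
  haveI : IsIntegral M₀.left := GeometricallyIntegral.isIntegral_of_subsingleton M₀.hom
  have hx'' : i''.left (η[M''].left pt) ∈ U := hunit i''
  haveI hprime : (kerOn U i'').IsPrime := isPrime_kerOn U i'' _ hx''
  have hle : kerOn U i'' ≤ kerOn U (j₀ ≫ i'') := kerOn_le_of_comp U i'' j₀
  have hmem : kerOn U i'' ∈ S := ⟨M'', grp'', i'', ⟨h1, h2, h3, h4⟩, rfl⟩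
  have hnot : ¬ (kerOn U i'').height < (kerOn U (j₀ ≫ i'')).height := hmin _ hmem
  have heq : kerOn U i'' = kerOn U (j₀ ≫ i'') :=
    Ideal.eq_of_le_of_height_le (I := kerOn U i'') (h := hle) (h_height := not_lt.mp hnot)
  haveI : IsIso j₀ := isIso_of_kerOn_le U hU i'' j₀ _ hx'' heq.ge
  refine ⟨j' ≫ inv j₀, ?_⟩
  rw [Category.assoc, IsIso.inv_hom_id_assoc, h6]

end Max

end Groth.Agent.Lib.Helper10.AbSub
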