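import Mathlib
import Groth.Agent.Lib.Helper10.AbSub3
import Groth.Agent.Lib.Helper1.GeomIrrSep
import Groth.Agent.Lib.Helper25.GrpdRed

/-!
# Abelian subvarieties, part 4: images with set-theoretic closure hypotheses; integral schemes over
algebraically closed fields are geometrically integral.
-/

set_option autoImplicit false
set_option backward.isDefEq.respectTransparency.types false
set_option maxHeartbeats 4000000
set_option synthInstance.maxHeartbeats 400000
universe u
open CategoryTheory CategoryTheory.Limits AlgebraicGeometry MonoidalCategory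
  CartesianMonoidalCategory MonObj GrpObj

namespace Groth.Agent.Lib.Helper10.AbSub

open Groth.Agent.Lib.Helper10.RigidAA Groth.Agent.Lib.Helper10

variable {k : Type u} [Field k]

section AlgClosed

/-- over an algebraically closed field, integral schemes are geometrically integral. -/
theorem geometricallyIntegral_of_isIntegral [IsAlgClosed k] (X : Over (Spec (CommRingCat.of k)))
    [IsIntegral X.left] : GeometricallyIntegral X.hom := by
  haveI : GeometricallyReduced X.hom := by
    constructor
    intro K _ y W fst snd hpb
    haveI : IsReduced (pullback X.hom y) :=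
      Groth.Agent.Lib.Helper25.GrpdRed.isReduced_pullback_of_perfectField (k := k)
        (Iso.refl _) X.hom y
    exact isReduced_of_isOpenImmersion hpb.isoPullback.hom
  haveI : GeometricallyIrreducible X.hom := by
    haveI : IsIso (pullback.fst X.hom (𝟙 (Spec (CommRingCat.of k)))) := inferInstance
    haveI : IrreducibleSpace ↥(pullback X.hom (𝟙 (Spec (CommRingCat.of k)))) :=
      (pullback.fst X.hom (𝟙 (Spec (CommRingCat.of k)))).homeomorph.irreducibleSpace_iff.mpr
        inferInstance
    exact Groth.Agent.Lib.Helper1.GeomIrrSep.geometricallyIrreducible_of_sepClosed X.hom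
      (𝟙 (Spec (CommRingCat.of k)))
  exact GeometricallyIntegral.of_geometricallyReduced_of_geometricallyIrreducible X.hom

end AlgClosed

section ImageRange

variable {G : Over (Spec (CommRingCat.of k))} [GrpObj G] [LocallyOfFiniteType G.hom]

/-- the image of a proper geometrically integral `A` under a morphism to a group `G`, whose image
is (set-theoretically) stable under the group operations, is an abelian subvariety. -/
theorem exists_image_of_range (A : Over (Spec (CommRingCat.of k))) [IsProper A.hom]
    [GeometricallyIntegral A.hom] (φ : A ⟶ G)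
    (hmul : ∀ z : (A ⊗ A).left,
      ((fst A A ≫ φ) * (snd A A ≫ φ)).left z ∈ Set.range φ.left)
    (hone : ∀ z, (η[G]).left z ∈ Set.range φ.left)
    (hinv : ∀ z, (φ ≫ ι[G]).left z ∈ Set.range φ.left) :
    ∃ (M : Over (Spec (CommRingCat.of k))) (_ : GrpObj M) (i : M ⟶ G) (p : A ⟶ M),
      IsMonHom i ∧ IsClosedImmersion i.left ∧ IsProper M.hom ∧ GeometricallyIntegral M.hom ∧
      Function.Surjective p.left ∧ p ≫ i = φ := by
  haveI : Subsingleton ↥(Spec (CommRingCat.of k)) :=
    inferInstanceAs (Subsingleton (PrimeSpectrum k))
  haveI : IsSeparated G.hom := PreLocus.isSeparated_of_grpObj G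
  haveI : IsProper φ.left := by
    haveI : IsProper (φ.left ≫ G.hom) := by rw [Over.w φ]; infer_instance
    exact IsProper.of_comp φ.left G.hom
  have hclosed : IsClosed (Set.range φ.left) := φ.left.isClosedMap.isClosed_range
  let I := Scheme.IdealSheafData.vanishingIdeal (X := G.left) ⟨Set.range φ.left, hclosed⟩
  let M : Over (Spec (CommRingCat.of k)) := Over.mk (I.subschemeι ≫ G.hom)
  let i : M ⟶ G := Over.homMk I.subschemeι rfl
  haveI hi : IsClosedImmersion i.left := inferInstanceAs (IsClosedImmersion I.subschemeι)
  have hirange : Set.range i.left = Set.range φ.left := by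
    change Set.range I.subschemeι = _
    rw [Scheme.IdealSheafData.range_subschemeι]
    simp [I]
  haveI : IsReduced M.left :=
    Groth.Agent.Lib.Helper16.isReduced_subscheme_vanishingIdeal (X := G.left)
      ⟨Set.range φ.left, hclosed⟩
  haveI : IsIntegral A.left := GeometricallyIntegral.isIntegral_of_subsingleton A.hom
  obtain ⟨p, hp⟩ := exists_factor_of_reduced i φ (by
    intro z; rw [hirange]; exact ⟨z, rfl⟩)
  have hpsurj : Function.Surjective p.left := by
    intro m
    have : i.left m ∈ Set.range φ.left := by rw [← hirange]; exact ⟨m, rfl⟩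
    obtain ⟨z, hz⟩ := this
    refine ⟨z, i.left.isEmbedding.injective ?_⟩
    rw [← hz, ← hp]
    rfl
  haveI : Surjective p.left := ⟨hpsurj⟩
  haveI : IsSeparated M.hom := by
    change IsSeparated (I.subschemeι ≫ G.hom); infer_instance
  haveI : LocallyOfFiniteType M.hom := by
    change LocallyOfFiniteType (I.subschemeι ≫ G.hom); infer_instance
  haveI : UniversallyClosed M.hom := by
    haveI : UniversallyClosed (p.left ≫ M.hom) := by rw [Over.w p]; infer_instance
    exact UniversallyClosed.of_comp_surjective p.left M.hom
  haveI : IsProper M.hom := {}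
  haveI : IsProper p.left := by
    haveI : IsProper (p.left ≫ M.hom) := by rw [Over.w p]; infer_instance
    exact IsProper.of_comp p.left M.hom
  haveI : IsDominant p.left := inferInstance
  haveI : IsSchemeTheoreticallyDominant p.left := IsSchemeTheoreticallyDominant.of_isDominant p.left
  haveI : GeometricallyIntegral M.hom := GeomIntImage.geometricallyIntegral_of_dominant p
  haveI : Mono i := by
    haveI : Mono i.left := inferInstanceAs (Mono I.subschemeι)
    exact (Over.forget _).mono_of_mono_map ‹_›
  haveI : IsLocallyNoetherian M.left := LocallyOfFiniteType.isLocallyNoetherian M.hom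
  haveI : IsReduced (M ⊗ M).left := by
    change IsReduced (pullback M.hom M.hom)
    infer_instance
  -- multiplication
  obtain ⟨m, hm⟩ := exists_factor_of_reduced i ((fst M M ≫ i) * (snd M M ≫ i)) (by
    intro w
    obtain ⟨z, rfl⟩ := surjective_tensorHom p hpsurj w
    have h1 : (p ⊗ₘ p) ≫ ((fst M M ≫ i) * (snd M M ≫ i)) = (fst A A ≫ φ) * (snd A A ≫ φ) := by
      rw [MonObj.comp_mul, ← Category.assoc, ← Category.assoc, tensorHom_fst, tensorHom_snd,
        Category.assoc, Category.assoc, hp]
    have h2 := congrArg (fun t => t.left z) h1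
    simp only [Over.comp_left, Scheme.Hom.comp_apply] at h2
    rw [h2, hirange]
    exact hmul z)
  -- inverse
  obtain ⟨vM, hvM⟩ := exists_factor_of_reduced i (i ≫ ι[G]) (by
    intro w
    obtain ⟨z, rfl⟩ := hpsurj w
    have h1 : p ≫ i ≫ ι[G] = φ ≫ ι[G] := by
      rw [← Category.assoc, hp]
    have h2 : (i ≫ ι[G]).left (p.left z) = (φ ≫ ι[G]).left z := by
      have := congrArg (fun t => t.left z) h1
      simpa only [Over.comp_left, Scheme.Hom.comp_apply] using this
    rw [h2, hirange]
    exact hinv z)
  -- unit
  haveI : IsReduced (𝟙_ (Over (Spec (CommRingCat.of k)))).left := by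
    change IsReduced (Spec (CommRingCat.of k))
    infer_instance
  obtain ⟨eM, heM⟩ := exists_factor_of_reduced i η[G] (by
    intro w
    rw [hirange]
    exact hone w)
  refine ⟨M, IdComp.grpObjOfMono i m hm eM heM vM hvM, i, p,
    IdComp.isMonHom_ofMono i m hm eM heM vM hvM, hi, inferInstance, inferInstance, hpsurj, hp⟩

end ImageRange

end Groth.Agent.Lib.Helper10.AbSub
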