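import Mathlib

/-!
# Points with values in an algebraically closed extension `K` of the base field `k`
-/

set_option autoImplicit false
set_option backward.isDefEq.respectTransparency.types false
set_option maxHeartbeats 4000000
set_option synthInstance.maxHeartbeats 400000
universe u
open CategoryTheory CategoryTheory.Limits AlgebraicGeometry

namespace Groth.Agent.Lib.Helper10.KPts

variable {k K : Type u} [Field k] [Field K] [Algebra k K]

variable (k K) in
/-- `Spec K` as a `k`-scheme -/
noncomputable abbrev SpK : Over (Spec (CommRingCat.of k)) :=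
  Over.mk (Spec.map (CommRingCat.ofHom (algebraMap k K)))

variable (K) in
/-- the point of `Spec K` -/
noncomputable abbrev pt : ↥(Spec (CommRingCat.of K)) := IsLocalRing.closedPoint K

theorem eq_pt (x : ↥(Spec (CommRingCat.of K))) : x = pt K :=
  Subsingleton.elim (α := PrimeSpectrum K) _ _

variable [IsAlgClosed K]

/-- a nonempty scheme locally of finite type over `K` has a `K`-point -/
theorem exists_section {F : Scheme.{u}} (σ : F ⟶ Spec (CommRingCat.of K))
    [LocallyOfFiniteType σ] [Nonempty F] :
    ∃ φ : Spec (CommRingCat.of K) ⟶ F, φ ≫ σ = 𝟙 _ := by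
  haveI : JacobsonSpace F := LocallyOfFiniteType.jacobsonSpace σ
  have hne : (closedPoints F).Nonempty := by
    by_contra h
    rw [Set.not_nonempty_iff_eq_empty] at h
    have := closure_closedPoints (X := F)
    rw [h, closure_empty] at this
    obtain ⟨x⟩ := ‹Nonempty F›
    exact (this ▸ Set.mem_univ x : x ∈ (∅ : Set F))
  obtain ⟨z, hz⟩ := hne
  exact ⟨pointOfClosedPoint σ z hz, pointOfClosedPoint_comp σ z hz⟩

/-- lifting `K`-points along surjective morphisms locally of finite type -/
theorem exists_lift_kpoint {X Y : Over (Spec (CommRingCat.of k))} (f : X ⟶ Y)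
    [Surjective f.left] [LocallyOfFiniteType f.left] (y : SpK k K ⟶ Y) :
    ∃ x : SpK k K ⟶ X, x ≫ f = y := by
  let F := pullback f.left y.left
  let σ : F ⟶ Spec (CommRingCat.of K) := pullback.snd f.left y.left
  haveI : LocallyOfFiniteType σ := inferInstance
  haveI : Surjective σ := inferInstance
  haveI : Nonempty F := by
    obtain ⟨z, -⟩ := σ.surjective (pt K)
    exact ⟨z⟩
  obtain ⟨φ, hφ⟩ := exists_section σ
  have hw : (φ ≫ pullback.fst f.left y.left) ≫ f.left = y.left := by
    rw [Category.assoc, pullback.condition, ← Category.assoc]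
    change (φ ≫ σ) ≫ y.left = y.left
    rw [hφ, Category.id_comp]
  refine ⟨Over.homMk (φ ≫ pullback.fst f.left y.left) ?_, ?_⟩
  · rw [← Over.w f, ← Category.assoc, hw]
    exact Over.w y
  · ext
    exact hw

/-- a subset containing the images of all `K`-points is dense -/
theorem dense_of_kpoints {Y : Over (Spec (CommRingCat.of k))} [LocallyOfFiniteType Y.hom]
    (A : Set Y.left) (hA : ∀ y : SpK k K ⟶ Y, y.left (pt K) ∈ A) : Dense A := by
  let YK := pullback Y.hom (Spec.map (CommRingCat.ofHom (algebraMap k K)))
  let π : YK ⟶ Y.left := pullback.fst _ _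
  let σ : YK ⟶ Spec (CommRingCat.of K) := pullback.snd _ _
  haveI : LocallyOfFiniteType σ := inferInstance
  haveI : JacobsonSpace YK := LocallyOfFiniteType.jacobsonSpace σ
  haveI : Surjective (Spec.map (CommRingCat.ofHom (algebraMap k K))) := by
    refine ⟨fun y => ⟨pt K, ?_⟩⟩
    exact Subsingleton.elim (α := PrimeSpectrum k) _ _
  haveI : Surjective π := inferInstance
  have h1 : π '' closedPoints YK ⊆ A := by
    rintro _ ⟨z, hz, rfl⟩
    let ξ := pointOfClosedPoint σ z hz
    have hξ : ξ ≫ σ = 𝟙 _ := pointOfClosedPoint_comp σ z hz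
    let y : SpK k K ⟶ Y := Over.homMk (ξ ≫ π) (by
      change (ξ ≫ π) ≫ Y.hom = Spec.map (CommRingCat.ofHom (algebraMap k K))
      rw [Category.assoc, pullback.condition, ← Category.assoc]
      change (ξ ≫ σ) ≫ _ = _
      rw [hξ, Category.id_comp])
    have := hA y
    change (ξ ≫ π) (pt K) ∈ A at this
    rw [Scheme.Hom.comp_apply, pointOfClosedPoint_apply] at this
    exact this
  have h2 : Dense (π '' closedPoints YK) := by
    have hd : Dense (closedPoints YK) := by
      rw [dense_iff_closure_eq]; exact closure_closedPoints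
    exact (π.surjective.denseRange).dense_image π.continuous hd
  exact h2.mono h1

end Groth.Agent.Lib.Helper10.KPts
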