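import Mathlib
import Groth.Agent.Lib.Helper10.AbSub4
import Groth.Agent.Lib.Helper10.KPts1

/-!
# The abelian subvariety generated by a pointed proper integral scheme mapping to a group scheme
over an algebraically closed field
-/

set_option autoImplicit false
set_option backward.isDefEq.respectTransparency.types false
set_option maxHeartbeats 4000000
set_option synthInstance.maxHeartbeats 400000
universe u
open CategoryTheory CategoryTheory.Limits AlgebraicGeometry MonoidalCategory
  CartesianMonoidalCategory MonObj GrpObj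

namespace Groth.Agent.Lib.Helper10.AbGen

open Groth.Agent.Lib.Helper10.RigidAA Groth.Agent.Lib.Helper10 Groth.Agent.Lib.Helper10.AbSub

variable {k : Type u} [Field k]

/-- lifting rational points along surjective morphisms locally of finite type over an algebraically
closed field. -/
theorem exists_lift_point [IsAlgClosed k] {X Y : Over (Spec (CommRingCat.of k))} (f : X ⟶ Y)
    [Surjective f.left] [LocallyOfFiniteType f.left]
    (y : 𝟙_ (Over (Spec (CommRingCat.of k))) ⟶ Y) :
    ∃ x : 𝟙_ (Over (Spec (CommRingCat.of k))) ⟶ X, x ≫ f = y := by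
  let F := pullback f.left y.left
  let σ : F ⟶ Spec (CommRingCat.of k) := pullback.snd f.left y.left
  haveI : LocallyOfFiniteType σ := inferInstanceAs (LocallyOfFiniteType (pullback.snd f.left y.left))
  haveI : Surjective σ := inferInstanceAs (Surjective (pullback.snd f.left y.left))
  haveI : Nonempty F := by
    obtain ⟨z, -⟩ := σ.surjective (KPts.pt k)
    exact ⟨z⟩
  obtain ⟨φ, hφ⟩ := KPts.exists_section σ
  have hw : (φ ≫ pullback.fst f.left y.left) ≫ f.left = y.left := by
    rw [Category.assoc, pullback.condition, ← Category.assoc]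
    change (φ ≫ σ) ≫ y.left = y.left
    rw [hφ, Category.id_comp]
  have hy : y.left ≫ Y.hom = 𝟙 _ := Over.w y
  refine ⟨Over.homMk (φ ≫ pullback.fst f.left y.left) ?_, ?_⟩
  · rw [← Over.w f, ← Category.assoc, hw]
    exact hy
  · ext
    exact hw

variable (A : Over (Spec (CommRingCat.of k))) [GrpObj A]

/-- a proper geometrically integral scheme mapping to `A`, whose image contains the unit and is
stable under inversion (witnessed by morphisms). -/
structure Stage where
  X : Over (Spec (CommRingCat.of k))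
  m : X ⟶ A
  e : 𝟙_ (Over (Spec (CommRingCat.of k))) ⟶ X
  v : X ⟶ X
  proper : IsProper X.hom
  gi : GeometricallyIntegral X.hom
  he : e ≫ m = η[A]
  hv : v ≫ m = m ≫ ι[A]

variable {A}

/-- products of pairs. -/
noncomputable def Stage.next (S : Stage A) : Stage A where
  X := S.X ⊗ S.X
  m := (fst S.X S.X ≫ S.m) * (snd S.X S.X ≫ S.m)
  e := lift S.e S.e
  v := lift (snd S.X S.X ≫ S.v) (fst S.X S.X ≫ S.v)
  proper := by
    haveI := S.proper
    exact isProper_tensor S.X S.X
  gi := by
    haveI := S.proper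
    haveI := S.gi
    exact geometricallyIntegral_tensor S.X S.X
  he := by
    rw [MonObj.comp_mul, lift_fst_assoc, lift_snd_assoc, S.he, MonObj.one_eq_one, _root_.mul_one]
  hv := by
    rw [MonObj.comp_mul, lift_fst_assoc, lift_snd_assoc, Category.assoc, Category.assoc, S.hv,
      ← Hom.inv_def, ← Hom.inv_def, GrpObj.comp_inv, GrpObj.comp_inv,
      _root_.mul_inv_rev]

/-- iterated products. -/
noncomputable def Stage.iter (S : Stage A) : ℕ → Stage A
  | 0 => S
  | n + 1 => (Stage.iter S n).next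

theorem Stage.exists_section (S : Stage A) : ∃ s : S.X ⟶ S.next.X, s ≫ S.next.m = S.m := by
  refine ⟨lift (𝟙 S.X) (toUnit S.X ≫ S.e), ?_⟩
  change lift (𝟙 S.X) (toUnit S.X ≫ S.e) ≫ ((fst S.X S.X ≫ S.m) * (snd S.X S.X ≫ S.m)) = S.m
  rw [MonObj.comp_mul, lift_fst_assoc, lift_snd_assoc, Category.id_comp, Category.assoc, S.he,
    ← Hom.one_def, _root_.mul_one]

theorem Stage.range_subset_next (S : Stage A) :
    Set.range S.m.left ⊆ Set.range S.next.m.left := by
  obtain ⟨s, hs⟩ := S.exists_section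
  rintro _ ⟨x, rfl⟩
  refine ⟨s.left x, ?_⟩
  rw [← hs]
  rfl

theorem Stage.range_subset_iter (S : Stage A) (n : ℕ) :
    Set.range S.m.left ⊆ Set.range (S.iter n).m.left := by
  induction n with
  | zero => exact subset_rfl
  | succ n ih => exact ih.trans (S.iter n).range_subset_next

theorem Stage.forall_points_next (S : Stage A)
    (P : (𝟙_ (Over (Spec (CommRingCat.of k))) ⟶ A) → Prop)
    (hP : ∀ a b, P a → P b → P (a * b)) (h : ∀ x : 𝟙_ (Over (Spec (CommRingCat.of k))) ⟶ S.X, P (x ≫ S.m)) :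
    ∀ x : 𝟙_ (Over (Spec (CommRingCat.of k))) ⟶ S.next.X, P (x ≫ S.next.m) := by
  have key : ∀ x : 𝟙_ (Over (Spec (CommRingCat.of k))) ⟶ S.X ⊗ S.X,
      P (x ≫ ((fst S.X S.X ≫ S.m) * (snd S.X S.X ≫ S.m))) := by
    intro x
    rw [MonObj.comp_mul, ← Category.assoc, ← Category.assoc]
    exact hP _ _ (h _) (h _)
  exact key

theorem Stage.forall_points_iter (S : Stage A)
    (P : (𝟙_ (Over (Spec (CommRingCat.of k))) ⟶ A) → Prop)
    (hP : ∀ a b, P a → P b → P (a * b)) (h : ∀ x : 𝟙_ (Over (Spec (CommRingCat.of k))) ⟶ S.X, P (x ≫ S.m))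
    (n : ℕ) : ∀ x : 𝟙_ (Over (Spec (CommRingCat.of k))) ⟶ (S.iter n).X, P (x ≫ (S.iter n).m) := by
  induction n with
  | zero => exact h
  | succ n ih => exact (S.iter n).forall_points_next P hP ih

/-- comparison of images via functions on an affine open. -/
theorem range_subset_of_kerOn_le (U : A.left.Opens) (hU : IsAffineOpen U)
    {X₁ X₂ : Over (Spec (CommRingCat.of k))} (φ₁ : X₁ ⟶ A) (φ₂ : X₂ ⟶ A)
    [IsReduced X₁.left] [IrreducibleSpace ↥X₂.left] (hcl : IsClosed (Set.range φ₁.left))
    (x₀ : X₂.left) (hx₀ : φ₂.left x₀ ∈ U) (hle : kerOn U φ₁ ≤ kerOn U φ₂) :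
    Set.range φ₂.left ⊆ Set.range φ₁.left := by
  have hsub : ((φ₂.left ⁻¹ᵁ U : X₂.left.Opens) : Set X₂.left) ⊆
      φ₂.left ⁻¹' (Set.range φ₁.left) := by
    intro x hx
    by_contra hxn
    have hy : φ₂.left x ∈ U := hx
    have hyC : φ₂.left x ∉ Set.range φ₁.left := hxn
    let W : A.left.Opens := ⟨(Set.range φ₁.left)ᶜ, hcl.isOpen_compl⟩
    obtain ⟨t, htW, hyt⟩ := hU.exists_basicOpen_le (V := W) ⟨φ₂.left x, hyC⟩ hy
    have h1 : φ₁.left ⁻¹ᵁ (A.left.basicOpen t) = ⊥ := by
      rw [eq_bot_iff]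
      intro z hz
      have hz' : φ₁.left z ∈ A.left.basicOpen t := hz
      exact (htW hz') ⟨z, rfl⟩
    rw [Scheme.preimage_basicOpen, basicOpen_eq_bot_iff] at h1
    have h2 : t ∈ kerOn U φ₁ := h1
    have h3 : (φ₂.left.app U).hom t = 0 := hle h2
    have h4 : x ∈ φ₂.left ⁻¹ᵁ (A.left.basicOpen t) := hyt
    rw [Scheme.preimage_basicOpen] at h4
    have h5 : X₂.left.basicOpen ((φ₂.left.app U).hom t) = ⊥ := by
      rw [h3]; exact Scheme.basicOpen_zero _ _
    rw [h5] at h4
    exact h4
  have hne : ((φ₂.left ⁻¹ᵁ U : X₂.left.Opens) : Set X₂.left).Nonempty := ⟨x₀, hx₀⟩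
  have hdense : Dense ((φ₂.left ⁻¹ᵁ U : X₂.left.Opens) : Set X₂.left) :=
    (φ₂.left ⁻¹ᵁ U).isOpen.dense hne
  have hclosed : IsClosed (φ₂.left ⁻¹' (Set.range φ₁.left)) := hcl.preimage φ₂.left.continuous
  have huniv : φ₂.left ⁻¹' (Set.range φ₁.left) = Set.univ := by
    apply Set.eq_univ_of_univ_subset
    rw [← hdense.closure_eq]
    exact closure_minimal hsub hclosed
  rintro _ ⟨x, rfl⟩
  have : x ∈ φ₂.left ⁻¹' (Set.range φ₁.left) := by rw [huniv]; trivial
  exact this

/-- the images of the iterated products stabilize. -/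
theorem Stage.exists_stable [LocallyOfFiniteType A.hom] (S : Stage A) :
    ∃ n, Set.range (S.iter (n + 1)).m.left ⊆ Set.range (S.iter n).m.left := by
  haveI : Subsingleton ↥(Spec (CommRingCat.of k)) :=
    inferInstanceAs (Subsingleton (PrimeSpectrum k))
  haveI : IsSeparated A.hom := PreLocus.isSeparated_of_grpObj A
  haveI : IsLocallyNoetherian A.left := LocallyOfFiniteType.isLocallyNoetherian A.hom
  let pt : (𝟙_ (Over (Spec (CommRingCat.of k)))).left := IsLocalRing.closedPoint k
  obtain ⟨_, ⟨U, hU, rfl⟩, hptU, -⟩ := A.left.isBasis_affineOpens.exists_subset_of_mem_open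
    (Set.mem_univ (η[A].left pt)) isOpen_univ
  have hU : IsAffineOpen U := hU
  haveI : IsNoetherianRing Γ(A.left, U) := IsLocallyNoetherian.component_noetherian ⟨U, hU⟩
  have hunit : ∀ T : Stage A, T.m.left (T.e.left pt) ∈ U := by
    intro T
    have h2 : T.m.left (T.e.left pt) = η[A].left pt := by
      rw [← T.he]; rfl
    rw [h2]
    exact hptU
  have hint : ∀ T : Stage A, IsIntegral T.X.left := fun T => by
    haveI := T.gi
    exact GeometricallyIntegral.isIntegral_of_subsingleton T.X.hom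
  have hprime : ∀ T : Stage A, (kerOn U T.m).IsPrime := fun T => by
    haveI := hint T
    exact isPrime_kerOn U T.m _ (hunit T)
  let S' : Set (Ideal Γ(A.left, U)) := Set.range fun n => kerOn U (S.iter n).m
  obtain ⟨P₀, ⟨n, rfl⟩, hmin⟩ :=
    WellFounded.has_min (r := fun P Q : Ideal Γ(A.left, U) => P.height < Q.height)
      (InvImage.wf (fun P : Ideal Γ(A.left, U) => P.height) wellFounded_lt) S' ⟨_, 0, rfl⟩
  refine ⟨n, ?_⟩
  obtain ⟨s, hs⟩ := (S.iter n).exists_section
  have hle : kerOn U (S.iter (n + 1)).m ≤ kerOn U (S.iter n).m := by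
    have := kerOn_le_of_comp U (S.iter n).next.m s
    rw [hs] at this
    exact this
  have hnot : ¬ (kerOn U (S.iter (n + 1)).m).height < (kerOn U (S.iter n).m).height :=
    hmin _ ⟨n + 1, rfl⟩
  haveI := hprime (S.iter (n + 1))
  haveI := hprime (S.iter n)
  have heq : kerOn U (S.iter (n + 1)).m = kerOn U (S.iter n).m :=
    Ideal.eq_of_le_of_height_le (I := kerOn U (S.iter (n + 1)).m) (h := hle)
      (h_height := not_lt.mp hnot)
  haveI := hint (S.iter n)
  haveI := hint (S.iter (n + 1))
  haveI := (S.iter n).proper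
  haveI : IsProper (S.iter n).m.left := by
    haveI : IsProper ((S.iter n).m.left ≫ A.hom) := by rw [Over.w (S.iter n).m]; infer_instance
    exact IsProper.of_comp (S.iter n).m.left A.hom
  have hclosed : IsClosed (Set.range (S.iter n).m.left) :=
    (S.iter n).m.left.isClosedMap.isClosed_range
  exact range_subset_of_kerOn_le U hU (S.iter n).m (S.iter (n + 1)).m hclosed _
    (hunit (S.iter (n + 1))) heq.ge

end Groth.Agent.Lib.Helper10.AbGen
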