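import Mathlib
import Groth.Agent.Lib.Helper10.AbGen1

/-!
# The abelian subvariety generated by a pointed proper integral scheme: assembly
-/

set_option autoImplicit false
set_option backward.isDefEq.respectTransparency.types false
set_option maxHeartbeats 4000000
set_option synthInstance.maxHeartbeats 400000
universe u
open CategoryTheory CategoryTheory.Limits AlgebraicGeometry MonoidalCategory
  CartesianMonoidalCategory MonObj GrpObj

namespace Groth.Agent.Lib.Helper10.AbGen

open Groth.Agent.Lib.Helper10.RigidAA Groth.Agent.Lib.Helper10 Groth.Agent.Lib.Helper10.AbSub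

variable {k : Type u} [Field k] [IsAlgClosed k]
variable {A : Over (Spec (CommRingCat.of k))} [GrpObj A]

/-- the first stage: `(a, b) ↦ a b⁻¹` on `V × V`. -/
noncomputable def stage0 (V : Over (Spec (CommRingCat.of k))) [IsProper V.hom] [IsIntegral V.left]
    (j : V ⟶ A) (eV : 𝟙_ (Over (Spec (CommRingCat.of k))) ⟶ V) (heV : eV ≫ j = η[A]) :
    Stage A where
  X := V ⊗ V
  m := (fst V V ≫ j) * (snd V V ≫ j)⁻¹
  e := lift eV eV
  v := lift (snd V V) (fst V V)
  proper := isProper_tensor V V
  gi := by
    haveI := geometricallyIntegral_of_isIntegral V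
    exact geometricallyIntegral_tensor V V
  he := by
    rw [MonObj.comp_mul, GrpObj.comp_inv, lift_fst_assoc, lift_snd_assoc, heV, MonObj.one_eq_one,
      _root_.inv_one, _root_.mul_one]
  hv := by
    rw [MonObj.comp_mul, GrpObj.comp_inv, lift_fst_assoc, lift_snd_assoc, ← Hom.inv_def,
      _root_.mul_inv_rev, _root_.inv_inv]

/-- **The abelian subvariety generated by `V ∋ e`**: over an algebraically closed field, if
`j : V ⟶ A` is a morphism from a proper integral scheme to a group scheme locally of finite type,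
with `e ∈ j(V)`, then there is an abelian subvariety `B ⊆ A` containing `j(V)`; moreover any
property of rational points of `A` which holds on `j(V)` and is stable under products and inverses
holds on `B`. -/
theorem exists_generated [LocallyOfFiniteType A.hom]
    (V : Over (Spec (CommRingCat.of k))) [IsProper V.hom] [IsIntegral V.left]
    (j : V ⟶ A) (eV : 𝟙_ (Over (Spec (CommRingCat.of k))) ⟶ V) (heV : eV ≫ j = η[A])
    (P : (𝟙_ (Over (Spec (CommRingCat.of k))) ⟶ A) → Prop)
    (hPmul : ∀ a b, P a → P b → P (a * b)) (hPinv : ∀ a, P a → P a⁻¹)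
    (hPV : ∀ x : 𝟙_ (Over (Spec (CommRingCat.of k))) ⟶ V, P (x ≫ j)) :
    ∃ (B : Over (Spec (CommRingCat.of k))) (_ : GrpObj B) (incl : B ⟶ A), IsMonHom incl ∧
      IsClosedImmersion incl.left ∧ IsProper B.hom ∧ GeometricallyIntegral B.hom ∧
      Set.range j.left ⊆ Set.range incl.left ∧
      ∀ b : 𝟙_ (Over (Spec (CommRingCat.of k))) ⟶ B, P (b ≫ incl) := by
  let S := stage0 V j eV heV
  -- `j(V)` is contained in the image of the first stage
  have hj0 : Set.range j.left ⊆ Set.range S.m.left := by
    have hs : lift (𝟙 V) (toUnit V ≫ eV) ≫ S.m = j := by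
      change lift (𝟙 V) (toUnit V ≫ eV) ≫ ((fst V V ≫ j) * (snd V V ≫ j)⁻¹) = j
      rw [MonObj.comp_mul, GrpObj.comp_inv, lift_fst_assoc, lift_snd_assoc, Category.id_comp,
        Category.assoc, heV, ← Hom.one_def, _root_.inv_one, _root_.mul_one]
    rintro _ ⟨x, rfl⟩
    refine ⟨(lift (𝟙 V) (toUnit V ≫ eV)).left x, ?_⟩
    rw [← hs]
    rfl
  -- points of the first stage
  have hP0 : ∀ x : 𝟙_ (Over (Spec (CommRingCat.of k))) ⟶ S.X, P (x ≫ S.m) := by
    have key : ∀ x : 𝟙_ (Over (Spec (CommRingCat.of k))) ⟶ V ⊗ V,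
        P (x ≫ ((fst V V ≫ j) * (snd V V ≫ j)⁻¹)) := by
      intro x
      rw [MonObj.comp_mul, GrpObj.comp_inv, ← Category.assoc, ← Category.assoc]
      exact hPmul _ _ (hPV _) (hPinv _ (hPV _))
    exact key
  obtain ⟨n, hn⟩ := S.exists_stable
  let T := S.iter n
  haveI := T.proper
  haveI := T.gi
  have hpt : ∀ z : (𝟙_ (Over (Spec (CommRingCat.of k)))).left, η[A].left z = T.m.left (T.e.left z) := by
    intro z
    rw [← T.he]
    rfl
  have hinv : ∀ z : T.X.left, (T.m ≫ ι[A]).left z = T.m.left (T.v.left z) := by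
    intro z
    rw [← T.hv]
    rfl
  obtain ⟨B, grpB, incl, p, h1, h2, h3, h4, hpsurj, hp⟩ := exists_image_of_range T.X T.m
    (fun z => hn ⟨z, rfl⟩) (fun z => ⟨_, (hpt z).symm⟩) (fun z => ⟨_, (hinv z).symm⟩)
  refine ⟨B, grpB, incl, h1, h2, h3, h4, ?_, ?_⟩
  · have hrange : Set.range incl.left = Set.range T.m.left := by
      apply Set.Subset.antisymm
      · rintro _ ⟨b, rfl⟩
        obtain ⟨x, rfl⟩ := hpsurj b
        refine ⟨x, ?_⟩
        rw [← hp]
        rfl
      · rintro _ ⟨x, rfl⟩
        refine ⟨p.left x, ?_⟩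
        rw [← hp]
        rfl
    rw [hrange]
    exact hj0.trans (S.range_subset_iter n)
  · intro b
    haveI : Surjective p.left := ⟨hpsurj⟩
    haveI : LocallyOfFiniteType p.left := by
      haveI : LocallyOfFiniteType (p.left ≫ B.hom) := by rw [Over.w p]; infer_instance
      exact locallyOfFiniteType_of_comp p.left B.hom
    obtain ⟨x, hx⟩ := exists_lift_point p b
    rw [← hx, Category.assoc, hp]
    exact S.forall_points_iter P hPmul hP0 n x

end Groth.Agent.Lib.Helper10.AbGen
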