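import Mathlib

/-!
# Clopen subsets and idempotent sections; dual bases of finite projective algebras (helper10)
-/

set_option autoImplicit false

universe u

open AlgebraicGeometry CategoryTheory CategoryTheory.Limits TopologicalSpace Opposite

namespace Groth.Agent.Lib.Helper10.ClopenIdem

/-- A finite flat finitely presented ring map admits a finite dual basis. -/
theorem exists_dualBasis {R B : Type u} [CommRing R] [CommRing B] (φRB : R →+* B)
    (hfin : φRB.Finite) (hflat : φRB.Flat) (hfp : φRB.FinitePresentation) :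
    ∃ (n : ℕ) (b : Fin n → B) (φ : Fin n → (B →+ R)),
      (∀ i x y, φ i (φRB x * y) = x * φ i y) ∧ (∀ y, y = ∑ i, φRB (φ i y) * b i) := by
  algebraize [φRB]
  haveI : Module.FinitePresentation R B :=
    Module.FinitePresentation.of_finite_of_finitePresentation R B
  haveI : Module.Projective R B := Module.Flat.projective_of_finitePresentation
  obtain ⟨n, fr, gs, -, -, hfg⟩ := Module.Finite.exists_comp_eq_id_of_projective R B
  refine ⟨n, fun i => fr (fun j => if i = j then 1 else 0),
    fun i => ((LinearMap.proj i).comp gs).toAddMonoidHom, ?_, ?_⟩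
  · intro i x y
    show gs (algebraMap R B x * y) i = x * gs y i
    rw [← Algebra.smul_def, map_smul]
    rfl
  · intro y
    have h1 : fr (gs y) = y := LinearMap.congr_fun hfg y
    conv_lhs => rw [← h1, LinearMap.pi_apply_eq_sum_univ fr (gs y)]
    refine Finset.sum_congr rfl fun i _ => ?_
    rw [Algebra.smul_def]
    rfl

/-- A relatively clopen subset of an open `O` of a scheme is the basic open of an idempotent
section over `O`. -/
theorem exists_idempotent_of_isClopen_in {P : Scheme.{u}} (O C : P.Opens) (hCO : C ≤ O)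
    (hcl : IsOpen ((O : Set P) \ C)) :
    ∃ e : Γ(P, O), e * e = e ∧ P.basicOpen e = C := by
  let D : P.Opens := ⟨(O : Set P) \ C, hcl⟩
  have hDO : D ≤ O := fun x hx => hx.1
  let UB : Bool → P.Opens := fun i => if i then C else D
  have hUBO : ∀ i, UB i ≤ O := fun i => by
    cases i
    · exact hDO
    · exact hCO
  let sf : ∀ i : Bool, Γ(P, UB i) := fun i => if i then 1 else 0
  have hcomp : TopCat.Presheaf.IsCompatible P.sheaf.1 UB sf := by
    intro i j
    cases i <;> cases j
    · rfl
    · apply P.IsSheaf.section_ext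
      rintro x ⟨hx1, hx2⟩
      exact absurd hx2 hx1.2
    · apply P.IsSheaf.section_ext
      rintro x ⟨hx1, hx2⟩
      exact absurd hx1 hx2.2
    · rfl
  have hcover : O ≤ iSup UB := by
    intro x hx
    by_cases hxC : x ∈ C
    · exact Opens.mem_iSup.mpr ⟨true, hxC⟩
    · exact Opens.mem_iSup.mpr ⟨false, ⟨hx, hxC⟩⟩
  obtain ⟨e, he, -⟩ : ∃! e : Γ(P, O), ∀ i, (P.presheaf.map (homOfLE (hUBO i)).op).hom e = sf i :=
    P.sheaf.existsUnique_gluing' UB O (fun i => homOfLE (hUBO i)) hcover sf hcomp
  have heC : (P.presheaf.map (homOfLE hCO).op).hom e = 1 := he true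
  have heD : (P.presheaf.map (homOfLE hDO).op).hom e = 0 := he false
  refine ⟨e, ?_, ?_⟩
  · apply P.IsSheaf.section_ext
    intro x hx
    by_cases hxC : x ∈ C
    · refine ⟨C, hCO, hxC, ?_⟩
      show (P.presheaf.map (homOfLE hCO).op).hom (e * e) = (P.presheaf.map (homOfLE hCO).op).hom e
      rw [map_mul, heC, mul_one]
    · refine ⟨D, hDO, ⟨hx, hxC⟩, ?_⟩
      show (P.presheaf.map (homOfLE hDO).op).hom (e * e) = (P.presheaf.map (homOfLE hDO).op).hom e
      rw [map_mul, heD, mul_zero]
  · have h1 : C ⊓ P.basicOpen e = C := by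
      have := Scheme.basicOpen_res (X := P) e (homOfLE hCO).op
      rw [← this]
      show P.basicOpen ((P.presheaf.map (homOfLE hCO).op).hom e) = C
      rw [heC]
      exact Scheme.basicOpen_of_isUnit _ isUnit_one
    have h2 : D ⊓ P.basicOpen e = ⊥ := by
      have := Scheme.basicOpen_res (X := P) e (homOfLE hDO).op
      rw [← this]
      show P.basicOpen ((P.presheaf.map (homOfLE hDO).op).hom e) = ⊥
      rw [heD]
      exact Scheme.basicOpen_zero _ _
    apply le_antisymm
    · intro x hx
      by_contra hxC
      have hxD : x ∈ D := ⟨Scheme.basicOpen_le _ _ hx, hxC⟩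
      have : x ∈ D ⊓ P.basicOpen e := ⟨hxD, hx⟩
      rw [h2] at this
      exact this
    · rw [← h1]
      exact inf_le_right

/-- For an idempotent section `e` over `V`, the complement of its basic open in `V` is the basic
open of `1 - e`. -/
theorem basicOpen_one_sub {P : Scheme.{u}} (V : P.Opens) (e : Γ(P, V)) (he : e * e = e) :
    ((P.basicOpen (1 - e) : P.Opens) : Set P) = (V : Set P) \ P.basicOpen e := by
  ext x
  constructor
  · intro hx
    refine ⟨Scheme.basicOpen_le _ _ hx, fun hx' => ?_⟩
    have : x ∈ P.basicOpen ((1 - e) * e) := by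
      rw [Scheme.basicOpen_mul]; exact ⟨hx, hx'⟩
    rw [sub_mul, one_mul, he, sub_self, Scheme.basicOpen_zero] at this
    exact this
  · rintro ⟨hxV, hx'⟩
    have hx'' : x ∉ P.basicOpen e := hx'
    show x ∈ P.basicOpen (1 - e)
    rw [Scheme.mem_basicOpen _ _ x hxV] at hx'' ⊢
    have hx' := hx''
    have hsum : P.presheaf.germ V x hxV e + P.presheaf.germ V x hxV (1 - e) = 1 := by
      rw [← map_add, add_sub_cancel, map_one]
    rcases IsLocalRing.isUnit_or_isUnit_of_add_one hsum with h | h
    · exact absurd h hx'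
    · exact h

end Groth.Agent.Lib.Helper10.ClopenIdem
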