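import Mathlib
import Groth.Agent.Lib.Helper10.RigidAA2

/-!
# Rigidity for schemes with only constant global functions (part 3)

Krull intersection + spreading out: the good locus is open; hence the rigidity theorem.
-/

set_option autoImplicit false
set_option backward.isDefEq.respectTransparency.types false
set_option maxHeartbeats 4000000
set_option synthInstance.maxHeartbeats 400000
universe u
open CategoryTheory CategoryTheory.Limits AlgebraicGeometry MonoidalCategory
  CartesianMonoidalCategory MonObj GrpObj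

namespace Groth.Agent.Lib.Helper10.RigidAA

variable {k : Type u} [Field k]

section Krull

variable {X Y Z : Over (Spec (CommRingCat.of k))} [QuasiCompact X.hom] [QuasiSeparated X.hom]
  (hX : Function.Bijective ((Scheme.ΓSpecIso (CommRingCat.of k)).inv ≫ X.hom.appTop).hom)
  (x₀ : 𝟙_ (Over (Spec (CommRingCat.of k))) ⟶ X) (f : X ⊗ Y ⟶ Z)
  [IsLocallyNoetherian Y.left]

/-- points of `Spec (R ⧸ m ^ n)` lie over the closed point. -/
theorem specMap_mk_pow_eq_closedPoint (R : CommRingCat.{u}) [IsLocalRing R] (n : ℕ)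
    (b : Spec (CommRingCat.of (R ⧸ (IsLocalRing.maximalIdeal R) ^ n))) :
    (Spec.map (CommRingCat.ofHom (Ideal.Quotient.mk ((IsLocalRing.maximalIdeal R) ^ n)))) b =
      IsLocalRing.closedPoint R := by
  set q := (Spec.map (CommRingCat.ofHom (Ideal.Quotient.mk ((IsLocalRing.maximalIdeal R) ^ n)))) b
    with hq
  apply PrimeSpectrum.ext
  have h1 : (IsLocalRing.maximalIdeal R) ^ n ≤ q.asIdeal := by
    intro r hr
    show (Ideal.Quotient.mk ((IsLocalRing.maximalIdeal R) ^ n)) r ∈ b.asIdeal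
    rw [Ideal.Quotient.eq_zero_iff_mem.mpr hr]
    exact zero_mem _
  have h2 : IsLocalRing.maximalIdeal R ≤ q.asIdeal := Ideal.IsPrime.le_of_pow_le h1
  exact le_antisymm (IsLocalRing.le_maximalIdeal q.isPrime.ne_top) h2

include hX in
theorem exists_fromSpecStalk_factor {Y' : Over (Spec (CommRingCat.of k))} (j : Y' ⟶ Y)
    [IsClosedImmersion j.left]
    (hrep : ∀ (T : Over (Spec (CommRingCat.of k))) (t : T ⟶ Y),
        (∃ z : T ⟶ Y', z ≫ j = t) ↔ Good x₀ f t)
    (y : Y.left) (hy : y ∈ Set.range j.left) :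
    ∃ φ : Spec (Y.left.presheaf.stalk y) ⟶ Y'.left, φ ≫ j.left = Y.left.fromSpecStalk y := by
  set R := Y.left.presheaf.stalk y with hR
  set τ := Y.left.fromSpecStalk y with hτ
  obtain ⟨I, e, he⟩ := IsClosedImmersion.Spec_iff.mp
    (inferInstance : IsClosedImmersion (pullback.snd j.left τ))
  have hle : ∀ n : ℕ, I ≤ (IsLocalRing.maximalIdeal R) ^ n := by
    intro n
    let q := CommRingCat.ofHom (Ideal.Quotient.mk ((IsLocalRing.maximalIdeal R) ^ n))
    let T : Over (Spec (CommRingCat.of k)) := Over.mk (Spec.map q ≫ τ ≫ Y.hom)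
    let t : T ⟶ Y := Over.homMk (Spec.map q ≫ τ) (by simp [T])
    haveI : IsAffine T.left :=
      inferInstanceAs (IsAffine (Spec (CommRingCat.of (R ⧸ (IsLocalRing.maximalIdeal R) ^ n))))
    have ht : ∀ b : T.left, t.left b = y := by
      intro b
      show (Spec.map q ≫ τ) b = y
      rw [Scheme.Hom.comp_apply, specMap_mk_pow_eq_closedPoint R n b]
      exact Scheme.fromSpecStalk_closedPoint
    have hgood := good_of_local hX x₀ f j hrep t y hy ht
    obtain ⟨z, hz⟩ := (hrep T t).mpr hgood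
    have hz' : z.left ≫ j.left = Spec.map q ≫ τ := by
      rw [← Over.comp_left, hz]
      rfl
    let ℓ : Spec (CommRingCat.of (R ⧸ (IsLocalRing.maximalIdeal R) ^ n)) ⟶ pullback j.left τ :=
      pullback.lift z.left (Spec.map q) hz'
    have h1 : (ℓ ≫ e.hom) ≫ Spec.map (CommRingCat.ofHom (Ideal.Quotient.mk I)) = Spec.map q := by
      rw [Category.assoc, ← he]
      exact pullback.lift_snd _ _ _
    have h2 : CommRingCat.ofHom (Ideal.Quotient.mk I) ≫ Spec.preimage (ℓ ≫ e.hom) = q := by
      apply Spec.map_injective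
      rw [Spec.map_comp, Spec.map_preimage, h1]
    intro r hr
    have h3 := congrArg (fun m => m.hom r) h2
    simp only [CommRingCat.hom_comp, RingHom.coe_comp, Function.comp_apply,
      CommRingCat.hom_ofHom] at h3
    rw [Ideal.Quotient.eq_zero_iff_mem.mpr hr, map_zero] at h3
    exact Ideal.Quotient.eq_zero_iff_mem.mp h3.symm
  have hI : I = ⊥ := by
    rw [eq_bot_iff, ← Ideal.iInf_pow_eq_bot_of_isLocalRing (IsLocalRing.maximalIdeal R)
      Ideal.IsPrime.ne_top']
    exact le_iInf hle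
  haveI : IsIso (Spec.map (CommRingCat.ofHom (Ideal.Quotient.mk I))) := by
    rw [isIso_SpecMap_iff]
    subst hI
    exact (RingEquiv.quotientBot R).symm.bijective
  haveI : IsIso (pullback.snd j.left τ) := by
    rw [he]
    infer_instance
  refine ⟨inv (pullback.snd j.left τ) ≫ pullback.fst j.left τ, ?_⟩
  rw [Category.assoc, pullback.condition, IsIso.inv_hom_id_assoc]

include hX in
/-- the good locus is open. -/
theorem isOpen_range_good {Y' : Over (Spec (CommRingCat.of k))} (j : Y' ⟶ Y)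
    [IsClosedImmersion j.left]
    (hrep : ∀ (T : Over (Spec (CommRingCat.of k))) (t : T ⟶ Y),
        (∃ z : T ⟶ Y', z ≫ j = t) ↔ Good x₀ f t)
    (y : Y.left) (hy : y ∈ Set.range j.left) :
    ∃ (U : Y.left.Opens) (_ : y ∈ U) (g : U.toScheme ⟶ Y'.left), g ≫ j.left = U.ι := by
  obtain ⟨φ, hφ⟩ := exists_fromSpecStalk_factor hX x₀ f j hrep y hy
  obtain ⟨U, hyU, g, -, hg⟩ := spread_out_of_isGermInjective' (𝟙 Y.left) j.left φ
    (by rw [hφ, Category.comp_id])
  exact ⟨U, hyU, g, by rw [hg, Category.comp_id]⟩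

end Krull

/-- **Rigidity** for `X` with only constant global functions: if `f(x, t) = f(x₀, t)` for one
nonempty `T`-point `t` of the connected locally Noetherian `Y`, then `f(x, y) = f(x₀, y)`. -/
theorem rigidity (X Y Z : Over (Spec (CommRingCat.of k))) [QuasiCompact X.hom]
    [QuasiSeparated X.hom]
    (hX : Function.Bijective ((Scheme.ΓSpecIso (CommRingCat.of k)).inv ≫ X.hom.appTop).hom)
    (x₀ : 𝟙_ (Over (Spec (CommRingCat.of k))) ⟶ X) [IsLocallyNoetherian Y.left]
    [ConnectedSpace Y.left] [IsSeparated Z.hom] (f : X ⊗ Y ⟶ Z)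
    {T : Over (Spec (CommRingCat.of k))} [Nonempty T.left] (t : T ⟶ Y) (ht : Good x₀ f t) :
    f = snd X Y ≫ lift (toUnit Y ≫ x₀) (𝟙 Y) ≫ f := by
  obtain ⟨Y', j, hj, hrep⟩ := exists_closed_good x₀ f
  have hclosed : IsClosed (Set.range j.left) := j.left.isClosedEmbedding.isClosed_range
  have hopen : IsOpen (Set.range j.left) := by
    rw [isOpen_iff_forall_mem_open]
    intro y hy
    obtain ⟨U, hyU, g, hg⟩ := isOpen_range_good hX x₀ f j hrep y hy
    refine ⟨U, ?_, U.isOpen, hyU⟩
    intro u hu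
    refine ⟨g ⟨u, hu⟩, ?_⟩
    rw [← Scheme.Hom.comp_apply, hg]
    rfl
  have hne : (Set.range j.left).Nonempty := by
    obtain ⟨z, hz⟩ := (hrep T t).mpr ht
    obtain ⟨a⟩ := ‹Nonempty T.left›
    exact ⟨j.left (z.left a), ⟨_, rfl⟩⟩
  have huniv : Set.range j.left = Set.univ := IsClopen.eq_univ ⟨hclosed, hopen⟩ hne
  have hiso : IsIso j.left := by
    apply (MorphismProperty.isomorphisms.iff (C := Scheme) j.left).mp
    apply IsZariskiLocalAtTarget.of_forall_exists_morphismRestrict
    intro y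
    obtain ⟨U, hyU, g, hg⟩ := isOpen_range_good hX x₀ f j hrep y (huniv ▸ Set.mem_univ y)
    refine ⟨U, hyU, ?_⟩
    rw [MorphismProperty.isomorphisms.iff]
    haveI : Mono ((j.left ∣_ U) ≫ U.ι) := by
      rw [morphismRestrict_ι]
      infer_instance
    haveI : Mono (j.left ∣_ U) := mono_of_mono (j.left ∣_ U) U.ι
    let σ := (isPullback_morphismRestrict j.left U).lift (𝟙 _) g (by rw [Category.id_comp, hg])
    have hσ : σ ≫ (j.left ∣_ U) = 𝟙 _ := (isPullback_morphismRestrict j.left U).lift_fst _ _ _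
    haveI : IsSplitEpi (j.left ∣_ U) := IsSplitEpi.mk' ⟨σ, hσ⟩
    exact isIso_of_mono_of_isSplitEpi _
  have hgood : Good x₀ f (𝟙 Y) := by
    rw [← hrep]
    haveI : IsIso j := by
      have : IsIso ((Over.forget _).map j) := hiso
      exact isIso_of_reflects_iso j (Over.forget _)
    exact ⟨inv j, IsIso.inv_hom_id j⟩
  exact (good_id_iff x₀ f).mp hgood

end Groth.Agent.Lib.Helper10.RigidAA
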