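import Mathlib
import Groth.Agent.Lib.Helper10.RigidAA3
import Groth.Agent.Lib.Helper10.ClopenIdem

/-!
# Rigidity for anti-affine groups (part 4)

* a scheme over a field with `O(X) = k` is nonempty and connected;
* a morphism `X × Y ⟶ Z` to a group which is trivial on `X × y₀` and on `x₀ × Y` is trivial;
* a pointed morphism from an anti-affine group to a group is a homomorphism;
* anti-affine groups are commutative;
* homomorphisms from anti-affine groups to connected groups are central.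
-/

set_option autoImplicit false
set_option backward.isDefEq.respectTransparency.types false
set_option maxHeartbeats 4000000
set_option synthInstance.maxHeartbeats 400000
universe u
open CategoryTheory CategoryTheory.Limits AlgebraicGeometry MonoidalCategory
  CartesianMonoidalCategory MonObj GrpObj

namespace Groth.Agent.Lib.Helper10.RigidAA

variable {k : Type u} [Field k]

theorem nonempty_of_bijective (X : Over (Spec (CommRingCat.of k)))
    (hX : Function.Bijective ((Scheme.ΓSpecIso (CommRingCat.of k)).inv ≫ X.hom.appTop).hom) :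
    Nonempty ↥X.left := by
  by_contra h
  haveI : IsEmpty ↥X.left := not_nonempty_iff.mp h
  have := hX.injective (Subsingleton.elim (α := Γ(X.left, ⊤)) _ _ : _ = _) (a₁ := (0 : k)) (a₂ := 1)
  exact zero_ne_one this

theorem connectedSpace_of_bijective (X : Over (Spec (CommRingCat.of k)))
    (hX : Function.Bijective ((Scheme.ΓSpecIso (CommRingCat.of k)).inv ≫ X.hom.appTop).hom) :
    ConnectedSpace ↥X.left := by
  haveI := nonempty_of_bijective X hX
  haveI : PreconnectedSpace ↥X.left := by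
    rw [preconnectedSpace_iff_clopen]
    intro s hs
    obtain ⟨e, he, hes⟩ := ClopenIdem.exists_idempotent_of_isClopen_in (P := X.left) ⊤
      ⟨s, hs.2⟩ le_top (by
        show IsOpen ((Set.univ : Set X.left) \ s)
        rw [← Set.compl_eq_univ_diff]
        exact hs.1.isOpen_compl)
    obtain ⟨c, hc⟩ := hX.surjective e
    have hcc : c * c = c := by
      apply hX.injective
      rw [map_mul, hc, he]
    have h01 : c = 0 ∨ c = 1 := by
      rcases eq_or_ne c 0 with h | h
      · exact Or.inl h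
      · exact Or.inr (mul_left_cancel₀ h (by rw [hcc, _root_.mul_one]))
    have hs' : ((X.left.basicOpen e : X.left.Opens) : Set X.left) = s := by
      rw [hes]
      rfl
    rcases h01 with h | h
    · left
      rw [← hs', ← hc, h, map_zero, Scheme.basicOpen_zero]
      rfl
    · right
      rw [← hs', ← hc, h, map_one, X.left.basicOpen_of_isUnit isUnit_one]
      rfl
  exact ConnectedSpace.mk ‹_›

theorem quasiSeparated_of_lft (X : Over (Spec (CommRingCat.of k))) [LocallyOfFiniteType X.hom] :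
    QuasiSeparated X.hom := by
  haveI : IsLocallyNoetherian X.left := LocallyOfFiniteType.isLocallyNoetherian X.hom
  exact (HasAffineProperty.iff_of_isAffine (P := @QuasiSeparated)).mpr inferInstance

/-- a morphism `X × Y ⟶ Z` to a group which is trivial on `X × y₀` and on `x₀ × Y` is trivial. -/
theorem eq_one_of_rigid (X Y Z : Over (Spec (CommRingCat.of k))) [QuasiCompact X.hom]
    [QuasiSeparated X.hom]
    (hX : Function.Bijective ((Scheme.ΓSpecIso (CommRingCat.of k)).inv ≫ X.hom.appTop).hom)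
    (x₀ : 𝟙_ (Over (Spec (CommRingCat.of k))) ⟶ X) [IsLocallyNoetherian Y.left]
    [ConnectedSpace Y.left] (y₀ : 𝟙_ (Over (Spec (CommRingCat.of k))) ⟶ Y) [GrpObj Z]
    (Φ : X ⊗ Y ⟶ Z) (h1 : (X ◁ y₀) ≫ Φ = 1) (h2 : lift (toUnit Y ≫ x₀) (𝟙 Y) ≫ Φ = 1) :
    Φ = 1 := by
  haveI := PreLocus.isSeparated_of_grpObj Z
  haveI : Nonempty ↥(𝟙_ (Over (Spec (CommRingCat.of k)))).left :=
    inferInstanceAs (Nonempty (PrimeSpectrum k))
  have := rigidity X Y Z hX x₀ Φ y₀ (good_of_factor x₀ Φ y₀ 1 (by rw [h1, MonObj.comp_one]))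
  rw [this, h2, MonObj.comp_one]

/-- a pointed morphism from an anti-affine group to a group is a homomorphism. -/
theorem isMonHom_of_antiAffine (H G : Over (Spec (CommRingCat.of k))) [GrpObj H] [GrpObj G]
    [LocallyOfFiniteType H.hom] [QuasiCompact H.hom]
    (hH : Function.Bijective ((Scheme.ΓSpecIso (CommRingCat.of k)).inv ≫ H.hom.appTop).hom)
    (f : H ⟶ G) (hf : η[H] ≫ f = η[G]) : IsMonHom f := by
  haveI := quasiSeparated_of_lft H
  haveI : IsLocallyNoetherian H.left := LocallyOfFiniteType.isLocallyNoetherian H.hom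
  haveI := connectedSpace_of_bijective H hH
  let Φ : H ⊗ H ⟶ G := (fst H H ≫ f)⁻¹ * (μ[H] ≫ f) * (snd H H ≫ f)⁻¹
  have h1 : (H ◁ η[H]) ≫ Φ = 1 := by
    show (H ◁ η[H]) ≫ ((fst H H ≫ f)⁻¹ * (μ[H] ≫ f) * (snd H H ≫ f)⁻¹) = 1
    rw [MonObj.comp_mul, MonObj.comp_mul, GrpObj.comp_inv, GrpObj.comp_inv, whiskerLeft_fst_assoc,
      whiskerLeft_snd_assoc, MonObj.mul_one_assoc, rightUnitor_hom, hf]
    have : snd H (𝟙_ (Over (Spec (CommRingCat.of k)))) ≫ η[G] = 1 := by
      rw [Hom.one_def]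
      congr 1
      exact toUnit_unique _ _
    rw [this]
    simp
  have h2 : lift (toUnit H ≫ η[H]) (𝟙 H) ≫ Φ = 1 := by
    show lift (toUnit H ≫ η[H]) (𝟙 H) ≫ ((fst H H ≫ f)⁻¹ * (μ[H] ≫ f) * (snd H H ≫ f)⁻¹) = 1
    rw [MonObj.comp_mul, MonObj.comp_mul, GrpObj.comp_inv, GrpObj.comp_inv, lift_fst_assoc,
      lift_snd_assoc, MonObj.lift_comp_one_left_assoc, Category.assoc, hf, ← Hom.one_def,
      Category.id_comp]
    simp
  have hΦ := eq_one_of_rigid H H G hH η[H] η[H] Φ h1 h2
  have hmul : μ[H] ≫ f = (fst H H ≫ f) * (snd H H ≫ f) := by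
    have h3 : (fst H H ≫ f)⁻¹ * (μ[H] ≫ f) * (snd H H ≫ f)⁻¹ = 1 := hΦ
    rw [mul_inv_eq_one, inv_mul_eq_iff_eq_mul] at h3
    exact h3
  refine ⟨hf, ?_⟩
  rw [hmul, Hom.mul_def]
  congr 1

/-- anti-affine groups are commutative. -/
theorem isCommMonObj_of_antiAffine (G : Over (Spec (CommRingCat.of k))) [GrpObj G]
    [LocallyOfFiniteType G.hom] [QuasiCompact G.hom]
    (hO : Function.Bijective ((Scheme.ΓSpecIso (CommRingCat.of k)).inv ≫ G.hom.appTop).hom) :
    IsCommMonObj G := by
  haveI := quasiSeparated_of_lft G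
  haveI : IsLocallyNoetherian G.left := LocallyOfFiniteType.isLocallyNoetherian G.hom
  haveI := connectedSpace_of_bijective G hO
  rw [isCommMonObj_iff_commutator_eq_toUnit_η, ← Hom.one_def]
  apply eq_one_of_rigid G G G hO η[G] η[G]
  · rw [GrpObj.whiskerLeft_η_commutator, Hom.one_def]
  · rw [GrpObj.lift_commutator_eq_mul_mul_inv_inv, ← Hom.one_def]
    simp

/-- homomorphisms from anti-affine groups to connected groups are central. -/
theorem central_of_antiAffine (H G : Over (Spec (CommRingCat.of k))) [GrpObj H] [GrpObj G]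
    [LocallyOfFiniteType H.hom] [QuasiCompact H.hom] [LocallyOfFiniteType G.hom]
    [ConnectedSpace G.left]
    (hO : Function.Bijective ((Scheme.ΓSpecIso (CommRingCat.of k)).inv ≫ H.hom.appTop).hom)
    (φ : H ⟶ G) [IsMonHom φ] {T : Over (Spec (CommRingCat.of k))} (a : T ⟶ H) (g : T ⟶ G) :
    (a ≫ φ) * g = g * (a ≫ φ) := by
  haveI := quasiSeparated_of_lft H
  haveI : IsLocallyNoetherian G.left := LocallyOfFiniteType.isLocallyNoetherian G.hom
  let Φ : H ⊗ G ⟶ G := (fst H G ≫ φ) * snd H G * (fst H G ≫ φ)⁻¹ * (snd H G)⁻¹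
  have h1 : (H ◁ η[G]) ≫ Φ = 1 := by
    show (H ◁ η[G]) ≫ ((fst H G ≫ φ) * snd H G * (fst H G ≫ φ)⁻¹ * (snd H G)⁻¹) = 1
    rw [MonObj.comp_mul, MonObj.comp_mul, MonObj.comp_mul, GrpObj.comp_inv, GrpObj.comp_inv,
      whiskerLeft_fst_assoc, whiskerLeft_snd]
    have : snd H (𝟙_ (Over (Spec (CommRingCat.of k)))) ≫ η[G] = 1 := by
      rw [Hom.one_def]
      congr 1
      exact toUnit_unique _ _
    rw [this]
    simp
  have h2 : lift (toUnit G ≫ η[H]) (𝟙 G) ≫ Φ = 1 := by
    show lift (toUnit G ≫ η[H]) (𝟙 G) ≫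
      ((fst H G ≫ φ) * snd H G * (fst H G ≫ φ)⁻¹ * (snd H G)⁻¹) = 1
    rw [MonObj.comp_mul, MonObj.comp_mul, MonObj.comp_mul, GrpObj.comp_inv, GrpObj.comp_inv,
      lift_fst_assoc, lift_snd, Category.assoc, IsMonHom.one_hom, ← Hom.one_def]
    simp
  have hΦ := eq_one_of_rigid H G G hO η[H] η[G] Φ h1 h2
  have h3 := congrArg (fun m => lift a g ≫ m) hΦ
  simp only [Φ, MonObj.comp_mul, GrpObj.comp_inv, lift_fst_assoc, lift_snd, MonObj.comp_one] at h3
  rw [mul_inv_eq_one, mul_inv_eq_iff_eq_mul] at h3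
  exact h3

end Groth.Agent.Lib.Helper10.RigidAA
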