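import Mathlib

/-!
# Faithfully flat descent of bijectivity along a pushout square of commutative rings,
and global functions of a base change to a field extension (part 7)
-/

set_option autoImplicit false
set_option backward.isDefEq.respectTransparency.types false
set_option maxHeartbeats 4000000
set_option synthInstance.maxHeartbeats 400000
universe u
open CategoryTheory CategoryTheory.Limits AlgebraicGeometry

namespace Groth.Agent.Lib.Helper10.RigidAA

/-- in a pushout square of commutative rings with `β` faithfully flat, if the base change `δ` of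
`α` is bijective then so is `α`. -/
theorem bijective_of_isPushout_of_faithfullyFlat {A B C P : CommRingCat.{u}} {α : A ⟶ B}
    {β : A ⟶ C} {γ : B ⟶ P} {δ : C ⟶ P} (sq : IsPushout α β γ δ) (hβ : β.hom.FaithfullyFlat)
    (hδ : Function.Bijective δ.hom) : Function.Bijective α.hom := by
  letI : Algebra A B := α.hom.toAlgebra
  letI : Algebra A C := β.hom.toAlgebra
  letI : Algebra B P := γ.hom.toAlgebra
  letI : Algebra C P := δ.hom.toAlgebra
  letI : Algebra A P := (α ≫ γ).hom.toAlgebra
  haveI : IsScalarTower A B P := IsScalarTower.of_algebraMap_eq (fun _ => rfl)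
  haveI : IsScalarTower A C P := IsScalarTower.of_algebraMap_eq (fun x => by
    show (α ≫ γ).hom x = (β ≫ δ).hom x
    rw [sq.w])
  have sq' : IsPushout (CommRingCat.ofHom (algebraMap A B)) (CommRingCat.ofHom (algebraMap A C))
      (CommRingCat.ofHom (algebraMap B P)) (CommRingCat.ofHom (algebraMap C P)) := sq
  haveI : Algebra.IsPushout A B C P := CommRingCat.isPushout_iff_isPushout.mp sq'
  exact RingHom.FaithfullyFlat.codescendsAlong_bijective (R := A) (S := B) (R' := C) (S' := P)
    hβ hδ

variable {k K : Type u} [Field k] [Field K] [Algebra k K]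

/-- `O(G) = k` iff `O(G_K) = K`. -/
theorem bijective_baseChange_iff (G : Over (Spec (CommRingCat.of k))) [QuasiCompact G.hom]
    [QuasiSeparated G.hom] :
    Function.Bijective ((Scheme.ΓSpecIso (CommRingCat.of k)).inv ≫ G.hom.appTop).hom ↔
      Function.Bijective ((Scheme.ΓSpecIso (CommRingCat.of K)).inv ≫
        (pullback.snd G.hom (Spec.map (CommRingCat.ofHom (algebraMap k K)))).appTop).hom := by
  set f := Spec.map (CommRingCat.ofHom (algebraMap k K)) with hf
  haveI : Subsingleton ↥(Spec (CommRingCat.of k)) :=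
    inferInstanceAs (Subsingleton (PrimeSpectrum k))
  haveI : Flat f := inferInstance
  haveI : Surjective f :=
    ⟨fun y => ⟨IsLocalRing.closedPoint K, Subsingleton.elim _ _⟩⟩
  have hβ : f.appTop.hom.FaithfullyFlat :=
    (Flat.flat_and_surjective_iff_faithfullyFlat_of_isAffine f).mp ⟨inferInstance, inferInstance⟩
  have H := IsPullback.of_hasPullback G.hom f
  haveI : CompactSpace ↥G.left := QuasiCompact.compactSpace_of_compactSpace G.hom
  haveI : QuasiSeparatedSpace ↥G.left := quasiSeparatedSpace_of_quasiSeparated G.hom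
  have h1 := isIso_pushoutSection_of_isQuasiSeparated_of_flat_right H
    (US := ⊤) (UT := ⊤) (UX := ⊤) (UY := ⊤) le_top le_top (by simp)
    (isAffineOpen_top _) (isAffineOpen_top _) isCompact_univ isQuasiSeparated_univ
  rw [isIso_pushoutSection_iff] at h1
  have e1 : G.hom.appLE ⊤ ⊤ le_top = G.hom.appTop := by
    show G.hom.appLE ⊤ (G.hom ⁻¹ᵁ ⊤) le_rfl = G.hom.app ⊤
    rw [← Scheme.Hom.app_eq_appLE]
  have e2 : f.appLE ⊤ ⊤ le_top = f.appTop := by
    show f.appLE ⊤ (f ⁻¹ᵁ ⊤) le_rfl = f.app ⊤
    rw [← Scheme.Hom.app_eq_appLE]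
  have e3 : (pullback.snd G.hom f).appLE ⊤ ⊤ (by simp) = (pullback.snd G.hom f).appTop := by
    show (pullback.snd G.hom f).appLE ⊤ ((pullback.snd G.hom f) ⁻¹ᵁ ⊤) le_rfl =
      (pullback.snd G.hom f).app ⊤
    rw [← Scheme.Hom.app_eq_appLE]
  rw [e1, e2, e3] at h1
  have hiff : ∀ {R : CommRingCat.{u}} {M N : CommRingCat.{u}} (e : M ≅ R) (a : M ⟶ N),
      Function.Bijective (e.inv ≫ a).hom ↔ Function.Bijective a.hom := by
    intro R M N e a
    rw [← ConcreteCategory.isIso_iff_bijective, ← ConcreteCategory.isIso_iff_bijective]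
    exact isIso_comp_left_iff _ _
  rw [hiff, hiff]
  constructor
  · intro h
    haveI : IsIso G.hom.appTop := (ConcreteCategory.isIso_iff_bijective _).mpr h
    haveI := h1.isIso_inr_of_isIso
    exact (ConcreteCategory.isIso_iff_bijective _).mp inferInstance
  · intro h
    exact bijective_of_isPushout_of_faithfullyFlat h1 hβ h

end Groth.Agent.Lib.Helper10.RigidAA
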