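import Mathlib
import Groth.Agent.Lib.Helper25.ClosedDescent

/-!
# Global functions on universally closed schemes over a field

* basic opens of global functions which are algebraic over a field are clopen;
* on a connected reduced scheme, universally closed over an algebraically closed field, every
  global function is constant;
* a morphism from such a scheme to an affine scheme is constant.
-/

set_option autoImplicit false
set_option backward.isDefEq.respectTransparency.types false
set_option maxHeartbeats 4000000
set_option synthInstance.maxHeartbeats 400000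
universe u
open CategoryTheory CategoryTheory.Limits AlgebraicGeometry MonoidalCategory
  CartesianMonoidalCategory MonObj GrpObj

namespace Groth.Agent.Lib.Helper10.ProperConst

theorem toSpecΓ_eq_iff {X : Scheme.{u}} (x y : X) :
    X.toSpecΓ x = X.toSpecΓ y ↔ ∀ f : Γ(X, ⊤), x ∈ X.basicOpen f ↔ y ∈ X.basicOpen f := by
  have key : ∀ (z : X) (f : Γ(X, ⊤)), z ∈ X.basicOpen f ↔ f ∉ (X.toSpecΓ z).asIdeal := by
    intro z f
    rw [← X.toSpecΓ_preimage_basicOpen f]
    rfl
  constructor
  · intro h f
    rw [key, key, h]
  · intro h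
    apply PrimeSpectrum.ext
    ext f
    have := h f
    rw [key, key] at this
    exact not_iff_not.mp this

/-- basic opens of functions which are algebraic over a field are closed. -/
theorem isClosed_basicOpen_of_isIntegral {X : Scheme.{u}} {k : Type u} [Field k]
    (φ : k →+* Γ(X, ⊤)) (f : Γ(X, ⊤)) (hf : φ.IsIntegralElem f) :
    IsClosed ((X.basicOpen f : X.Opens) : Set X) := by
  obtain ⟨p, hp, hpf⟩ := hf
  have hp0 : p ≠ 0 := hp.ne_zero
  obtain ⟨q, hq, hq'⟩ := Polynomial.exists_eq_pow_rootMultiplicity_mul_and_not_dvd p hp0 0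
  set a := p.rootMultiplicity 0 with ha
  rw [map_zero, sub_zero] at hq hq'
  have hq0 : q.coeff 0 ≠ 0 := fun h => hq' (Polynomial.X_dvd_iff.mpr h)
  set g : Γ(X, ⊤) := Polynomial.eval₂ φ f q with hg
  set r : Γ(X, ⊤) := Polynomial.eval₂ φ f q.divX with hr
  have hgr : g = r * f + φ (q.coeff 0) := by
    have := congrArg (Polynomial.eval₂ φ f) (Polynomial.divX_mul_X_add q)
    rw [Polynomial.eval₂_add, Polynomial.eval₂_mul, Polynomial.eval₂_X, Polynomial.eval₂_C] at this
    rw [hg, hr, this]
  have hfg : f ^ a * g = 0 := by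
    have := congrArg (Polynomial.eval₂ φ f) hq
    rw [hpf, Polynomial.eval₂_mul, Polynomial.eval₂_pow, Polynomial.eval₂_X] at this
    exact this.symm
  have hunit : IsUnit (φ (q.coeff 0)) := (IsUnit.mk0 _ hq0).map φ
  have hcompl : ((X.basicOpen f : X.Opens) : Set X)ᶜ = ((X.basicOpen g : X.Opens) : Set X) := by
    ext x
    constructor
    · intro hx
      by_contra hxg
      have h1 : x ∈ X.basicOpen (φ (q.coeff 0)) := by
        rw [X.basicOpen_of_isUnit hunit]; trivial
      have hx : x ∉ X.basicOpen f := hx
      have hxg : x ∉ X.basicOpen g := hxg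
      have h2 : φ (q.coeff 0) = g + (-r) * f := by rw [hgr]; ring
      rw [h2] at h1
      rcases X.basicOpen_add_le _ _ h1 with h | h
      · exact hxg h
      · rw [Scheme.basicOpen_mul] at h
        exact hx h.2
    · intro hxg hxf
      have hxg : x ∈ X.basicOpen g := hxg
      have hxf : x ∈ X.basicOpen f := hxf
      have h1 : x ∈ X.basicOpen (f ^ a) := by
        rw [Scheme.mem_basicOpen _ _ x (by trivial)] at hxf ⊢
        rw [map_pow]
        exact hxf.pow a
      have h2 : x ∈ X.basicOpen (f ^ a * g) := by
        rw [Scheme.basicOpen_mul]; exact ⟨h1, hxg⟩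
      rw [hfg, Scheme.basicOpen_zero] at h2
      exact h2
  rw [← isOpen_compl_iff, hcompl]
  exact (X.basicOpen g).isOpen

section Const

variable {k : Type u} [Field k]

/-- the structure map `k → Γ(X, ⊤)` of a scheme over a field. -/
noncomputable def str {X : Scheme.{u}} (f : X ⟶ Spec (CommRingCat.of k)) : k →+* Γ(X, ⊤) :=
  f.appTop.hom.comp (Scheme.ΓSpecIso (CommRingCat.of k)).inv.hom

theorem isIntegralElem_str {X : Scheme.{u}} (f : X ⟶ Spec (CommRingCat.of k))
    [UniversallyClosed f] (s : Γ(X, ⊤)) : (str f).IsIntegralElem s := by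
  have hint : f.appTop.hom.IsIntegral := isIntegral_appTop_of_universallyClosed f
  obtain ⟨p, hp, hpf⟩ := hint s
  refine ⟨p.map (Scheme.ΓSpecIso (CommRingCat.of k)).hom.hom, hp.map _, ?_⟩
  rw [Polynomial.eval₂_map]
  have : (str f).comp (Scheme.ΓSpecIso (CommRingCat.of k)).hom.hom = f.appTop.hom := by
    ext z
    simp [str]
  rw [this]
  exact hpf

theorem isClopen_basicOpen {X : Scheme.{u}} (f : X ⟶ Spec (CommRingCat.of k))
    [UniversallyClosed f] (s : Γ(X, ⊤)) : IsClopen ((X.basicOpen s : X.Opens) : Set X) :=
  ⟨isClosed_basicOpen_of_isIntegral (str f) s (isIntegralElem_str f s), (X.basicOpen s).isOpen⟩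

/-- on a connected scheme universally closed over a field, a basic open is empty or everything. -/
theorem basicOpen_eq_bot_or_top {X : Scheme.{u}} (f : X ⟶ Spec (CommRingCat.of k))
    [UniversallyClosed f] [ConnectedSpace X] (s : Γ(X, ⊤)) :
    X.basicOpen s = ⊥ ∨ X.basicOpen s = ⊤ := by
  rcases isClopen_iff.mp (isClopen_basicOpen f s) with h | h
  · left
    ext x
    simp only [SetLike.mem_coe] at h ⊢
    constructor
    · intro hx
      have : x ∈ ((X.basicOpen s : X.Opens) : Set X) := hx
      rw [h] at this
      exact this.elim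
    · intro hx
      exact hx.elim
  · right
    ext x
    constructor
    · intro _; trivial
    · intro _
      have : x ∈ ((X.basicOpen s : X.Opens) : Set X) := by rw [h]; trivial
      exact this

/-- **Global functions are constant** on a connected reduced scheme which is universally closed
over an algebraically closed field. -/
theorem exists_eq_str [IsAlgClosed k] {X : Scheme.{u}} (f : X ⟶ Spec (CommRingCat.of k))
    [UniversallyClosed f] [IsReduced X] [ConnectedSpace X] (s : Γ(X, ⊤)) :
    ∃ c : k, s = str f c := by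
  obtain ⟨p, hp, hps⟩ := isIntegralElem_str f s
  have hsplit : p.Splits := IsAlgClosed.splits p
  have hprod : (p.roots.map (fun a => s - str f a)).prod = 0 := by
    have h1 := hsplit.eq_prod_roots_of_monic hp
    have h2 := congrArg (Polynomial.eval₂ (str f) s) h1
    rw [hps, Polynomial.eval₂_multiset_prod, Multiset.map_map] at h2
    rw [h2]
    congr 1
    apply Multiset.map_congr rfl
    intro a _
    simp [Polynomial.eval₂_sub]
  have key : ∀ m : Multiset k, (m.map (fun a => s - str f a)).prod = 0 →
      ∃ a ∈ m, s - str f a = 0 := by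
    intro m
    induction m using Multiset.induction_on with
    | empty =>
      intro h
      rw [Multiset.map_zero, Multiset.prod_zero] at h
      exfalso
      obtain ⟨x⟩ : Nonempty X := inferInstance
      have hx : x ∈ X.basicOpen (1 : Γ(X, ⊤)) := by
        rw [X.basicOpen_of_isUnit isUnit_one]; trivial
      rw [h, Scheme.basicOpen_zero] at hx
      exact hx
    | cons a m ih =>
      intro h
      rw [Multiset.map_cons, Multiset.prod_cons] at h
      rcases basicOpen_eq_bot_or_top f (s - str f a) with h0 | h1
      · exact ⟨a, Multiset.mem_cons_self a m, (basicOpen_eq_bot_iff _).mp h0⟩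
      · have h2 : X.basicOpen ((m.map (fun a => s - str f a)).prod) = ⊥ := by
          have h3 := congrArg X.basicOpen h
          rw [Scheme.basicOpen_mul, h1, top_inf_eq, Scheme.basicOpen_zero] at h3
          exact h3
        obtain ⟨b, hb, hb'⟩ := ih ((basicOpen_eq_bot_iff _).mp h2)
        exact ⟨b, Multiset.mem_cons_of_mem hb, hb'⟩
  obtain ⟨a, -, ha⟩ := key _ hprod
  exact ⟨a, sub_eq_zero.mp ha⟩

/-- **A morphism to an affine scheme is constant** on a connected reduced scheme universally closed
over an algebraically closed field. -/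
theorem exists_eq_toUnit_comp [IsAlgClosed k] (Q H : Over (Spec (CommRingCat.of k)))
    [UniversallyClosed Q.hom] [IsReduced Q.left] [ConnectedSpace Q.left] [IsAffine H.left]
    (ψ : Q ⟶ H) : ∃ h : 𝟙_ (Over (Spec (CommRingCat.of k))) ⟶ H, ψ = toUnit Q ≫ h := by
  set α : Γ(Spec (CommRingCat.of k), ⊤) ⟶ Γ(Q.left, ⊤) := Q.hom.appTop with hα
  obtain ⟨x₀⟩ : Nonempty Q.left := inferInstance
  haveI : Nontrivial Γ(Q.left, ⊤) := by
    by_contra hn
    rw [not_nontrivial_iff_subsingleton] at hn
    have hx : x₀ ∈ Q.left.basicOpen (1 : Γ(Q.left, ⊤)) := by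
      rw [Q.left.basicOpen_of_isUnit isUnit_one]; trivial
    rw [Subsingleton.elim (1 : Γ(Q.left, ⊤)) 0, Scheme.basicOpen_zero] at hx
    exact hx
  have hbij : Function.Bijective α.hom := by
    constructor
    · have hF : IsField Γ(Spec (CommRingCat.of k), ⊤) :=
        (Scheme.ΓSpecIso (CommRingCat.of k)).commRingCatIsoToRingEquiv.toMulEquiv.isField
          (Field.toIsField k)
      letI := hF.toField
      exact α.hom.injective
    · intro s
      obtain ⟨c, hc⟩ := exists_eq_str Q.hom s
      exact ⟨(Scheme.ΓSpecIso (CommRingCat.of k)).inv.hom c, hc.symm⟩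
  haveI : IsIso α := by
    rw [ConcreteCategory.isIso_iff_bijective]
    exact hbij
  let h₀ : Spec (CommRingCat.of k) ⟶ H.left :=
    (Spec (CommRingCat.of k)).isoSpec.hom ≫ Spec.map (inv α) ≫ Spec.map ψ.left.appTop ≫
      H.left.isoSpec.inv
  have h1 : Q.hom ≫ h₀ = ψ.left := by
    change Q.hom ≫ (Spec (CommRingCat.of k)).isoSpec.hom ≫ Spec.map (inv α) ≫
      Spec.map ψ.left.appTop ≫ H.left.isoSpec.inv = ψ.left
    rw [Scheme.isoSpec_hom, ← Category.assoc, Scheme.toSpecΓ_naturality, Category.assoc,
      ← Category.assoc (Spec.map Q.hom.appTop), ← Spec.map_comp, ← hα, IsIso.inv_hom_id,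
      Spec.map_id, Category.id_comp, ← Category.assoc, ← Scheme.toSpecΓ_naturality,
      Category.assoc, ← Scheme.isoSpec_hom, Iso.hom_inv_id, Category.comp_id]
  haveI : Flat Q.hom := by
    haveI : Subsingleton ↥(Spec (CommRingCat.of k)) :=
      inferInstanceAs (Subsingleton (PrimeSpectrum k))
    infer_instance
  haveI : Surjective Q.hom := ⟨fun y => ⟨x₀, Subsingleton.elim (α := PrimeSpectrum k) _ _⟩⟩
  haveI : QuasiCompact Q.hom := inferInstance
  haveI : Epi Q.hom := inferInstance
  have h2 : h₀ ≫ H.hom = 𝟙 _ := by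
    rw [← cancel_epi Q.hom, ← Category.assoc, h1, Over.w ψ, Category.comp_id]
  refine ⟨Over.homMk h₀ h2, ?_⟩
  ext1
  rw [Over.comp_left, Over.toUnit_left]
  exact h1.symm

end Const

end Groth.Agent.Lib.Helper10.ProperConst
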