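import Mathlib
import Groth.Agent.Lib.Helper10.RigidAA4
import Groth.Agent.Lib.Helper10.ProperConst1
import Groth.Agent.Lib.Helper14.ReducedEtale

/-!
# Proper connected reduced schemes over an algebraically closed field have `O(X) = k` (part 8)
-/

set_option autoImplicit false
set_option backward.isDefEq.respectTransparency.types false
set_option maxHeartbeats 4000000
set_option synthInstance.maxHeartbeats 400000
universe u
open CategoryTheory CategoryTheory.Limits AlgebraicGeometry MonoidalCategory
  CartesianMonoidalCategory MonObj GrpObj

namespace Groth.Agent.Lib.Helper10.RigidAA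

variable {k : Type u} [Field k] [IsAlgClosed k]

theorem bijective_of_universallyClosed (X : Over (Spec (CommRingCat.of k)))
    [UniversallyClosed X.hom] [IsReduced X.left] [ConnectedSpace X.left] :
    Function.Bijective ((Scheme.ΓSpecIso (CommRingCat.of k)).inv ≫ X.hom.appTop).hom := by
  constructor
  · haveI : Nontrivial ↑Γ(X.left, ⊤) := by
      by_contra hn
      rw [not_nontrivial_iff_subsingleton] at hn
      obtain ⟨x₀⟩ : Nonempty X.left := inferInstance
      have hx : x₀ ∈ X.left.basicOpen (1 : Γ(X.left, ⊤)) := by
        rw [X.left.basicOpen_of_isUnit isUnit_one]; trivial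
      rw [Subsingleton.elim (1 : Γ(X.left, ⊤)) 0, Scheme.basicOpen_zero] at hx
      exact hx
    exact RingHom.injective _
  · intro s
    obtain ⟨c, hc⟩ := ProperConst.exists_eq_str X.hom s
    exact ⟨c, hc.symm⟩

theorem bijective_of_proper_smooth (X : Over (Spec (CommRingCat.of k)))
    [IsProper X.hom] [Smooth X.hom] [ConnectedSpace X.left] :
    Function.Bijective ((Scheme.ΓSpecIso (CommRingCat.of k)).inv ≫ X.hom.appTop).hom := by
  haveI : IsReduced (Spec (CommRingCat.of k)) := inferInstance
  haveI : IsReduced X.left := Groth.Agent.Lib.Helper14.isReduced_of_smooth_scheme X.hom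
  exact bijective_of_universallyClosed X

end Groth.Agent.Lib.Helper10.RigidAA
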