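import Mathlib
import Groth.Agent.Lib.Helper10.HomSp1
import Groth.Agent.Lib.Helper10.IdComp5

/-!
# Homogeneous spaces under group schemes over a field (SGA3 VI_A 2.6), part 2:
geometric points and the key lemma on components through a point
-/

set_option autoImplicit false
set_option backward.isDefEq.respectTransparency.types false
set_option maxHeartbeats 4000000
set_option synthInstance.maxHeartbeats 400000

universe u

open CategoryTheory CategoryTheory.Limits AlgebraicGeometry MonoidalCategory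
  CartesianMonoidalCategory MonObj GrpObj

namespace Groth.Agent.Lib.Helper10.HomSp

open Groth.Agent.Lib.Helper10.GrpTranslate Groth.Agent.Lib.Helper10.IdComp

section Base

variable {B : Scheme.{u}}

theorem whiskerRight_left_of_prop (P : MorphismProperty Scheme.{u}) [P.IsStableUnderBaseChange]
    {T₁ T : Over B} (f : T₁ ⟶ T) (A : Over B) (h : P f.left) : P (f ▷ A).left :=
  MorphismProperty.of_isPullback ((isPullback_whiskerRight_fst f A).flip.map (Over.forget B)) h

end Base

section GeomPoint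

variable {k : Type u} [Field k]

theorem exists_geomPoint (X : Over (Spec (CommRingCat.of k))) (p : ↥X.left) :
    ∃ (L : Type u) (_ : Field L) (_ : IsAlgClosed L)
      (t : Spec (CommRingCat.of L) ⟶ Spec (CommRingCat.of k))
      (q : Over.mk t ⟶ X) (t0 : ↥(Spec (CommRingCat.of L))), q.left t0 = p := by
  let Ω := AlgebraicClosure (X.left.residueField p)
  let ψ : Spec (CommRingCat.of Ω) ⟶ X.left :=
    Spec.map (CommRingCat.ofHom (algebraMap (X.left.residueField p) Ω)) ≫
      X.left.fromSpecResidueField p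
  obtain ⟨t0⟩ : Nonempty ↥(Spec (CommRingCat.of Ω)) :=
    inferInstanceAs (Nonempty (PrimeSpectrum Ω))
  refine ⟨Ω, inferInstance, inferInstance, ψ ≫ X.hom, Over.homMk ψ rfl, t0, ?_⟩
  have : ψ t0 ∈ Set.range (X.left.fromSpecResidueField p) := ⟨_, rfl⟩
  rw [Scheme.range_fromSpecResidueField] at this
  exact this

variable (L : Type u) [Field L] (t : Spec (CommRingCat.of L) ⟶ Spec (CommRingCat.of k))

theorem gp_subsingleton : Subsingleton ↥(Over.mk t).left :=
  inferInstanceAs (Subsingleton (PrimeSpectrum L))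

theorem gp_irreducible : IrreducibleSpace ↥(Over.mk t).left :=
  inferInstanceAs (IrreducibleSpace (PrimeSpectrum L))

theorem flat_to_gp {T₁ : Over (Spec (CommRingCat.of k))} (f : T₁ ⟶ Over.mk t) : Flat f.left := by
  have h : ∀ {Y : Scheme.{u}} [Subsingleton Y] [IsIntegral Y] {X : Scheme.{u}} (g : X ⟶ Y),
      Flat g := fun g => inferInstance
  haveI : Subsingleton ↥(Spec (CommRingCat.of L)) :=
    inferInstanceAs (Subsingleton (PrimeSpectrum L))
  exact @h (Spec (CommRingCat.of L)) _ _ _ f.left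

theorem univOpen_to_gp {T₁ : Over (Spec (CommRingCat.of k))} (f : T₁ ⟶ Over.mk t) :
    UniversallyOpen f.left := by
  have h : ∀ {Y : Scheme.{u}} [Subsingleton Y] [IsIntegral Y] {X : Scheme.{u}} (g : X ⟶ Y),
      UniversallyOpen g := fun g => inferInstance
  haveI : Subsingleton ↥(Spec (CommRingCat.of L)) :=
    inferInstanceAs (Subsingleton (PrimeSpectrum L))
  exact @h (Spec (CommRingCat.of L)) _ _ _ f.left

theorem geomIrred_to_gp [IsAlgClosed L] {T₁ : Over (Spec (CommRingCat.of k))}
    [IrreducibleSpace ↥T₁.left] (f : T₁ ⟶ Over.mk t) : GeometricallyIrreducible f.left :=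
  Groth.Agent.Lib.Helper5.geometricallyIrreducible_of_isAlgClosed L (qF := f.left)

/-- every point of `T ⊗ G` lies on a unique irreducible component, for `T` a field point. -/
theorem uniqueComp_TG (G : Over (Spec (CommRingCat.of k))) [GrpObj G]
    (p : ↥(Over.mk t ⊗ G).left) : UniqueComp p := by
  letI : GrpObj ((Over.pullback t).obj G) := Functor.grpObjObj
  let e : pullback G.hom t ≅ pullback t G.hom := pullbackSymmetry G.hom t
  have h1 := IdComp.uniqueComp L ((Over.pullback t).obj G) (e.inv p)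
  have h2 := uniqueComp_of_homeomorph e.hom.homeomorph _ h1
  have h3 : e.hom.homeomorph (e.inv p) = p := by
    change e.hom (e.inv p) = p
    rw [← Scheme.Hom.comp_apply, e.inv_hom_id]
    rfl
  rwa [h3] at h2

/-- `T` is the spectrum of a field over `k` (abstractly). -/
structure IsFieldPt (T : Over (Spec (CommRingCat.of k))) : Prop where
  sub : Subsingleton ↥T.left
  irr : IrreducibleSpace ↥T.left
  flat : ∀ {T₁ : Over (Spec (CommRingCat.of k))} (f : T₁ ⟶ T), Flat f.left
  uo : ∀ {T₁ : Over (Spec (CommRingCat.of k))} (f : T₁ ⟶ T), UniversallyOpen f.left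
  uc : ∀ (G : Over (Spec (CommRingCat.of k))) [GrpObj G] (p : ↥(T ⊗ G).left), UniqueComp p

/-- `T` is the spectrum of an algebraically closed field over `k` (abstractly). -/
structure IsGeomPt (T : Over (Spec (CommRingCat.of k))) : Prop extends IsFieldPt T where
  gi : ∀ {T₁ : Over (Spec (CommRingCat.of k))} [IrreducibleSpace ↥T₁.left] (f : T₁ ⟶ T),
    GeometricallyIrreducible f.left

theorem isFieldPt_mk : IsFieldPt (Over.mk t) where
  sub := gp_subsingleton L t
  irr := gp_irreducible L t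
  flat f := flat_to_gp L t f
  uo f := univOpen_to_gp L t f
  uc G _ p := uniqueComp_TG L t G p

theorem isGeomPt_mk [IsAlgClosed L] : IsGeomPt (Over.mk t) where
  toIsFieldPt := isFieldPt_mk L t
  gi f := geomIrred_to_gp L t f

theorem exists_geomPt (X : Over (Spec (CommRingCat.of k))) (p : ↥X.left) :
    ∃ (T : Over (Spec (CommRingCat.of k))) (q : T ⟶ X) (t0 : ↥T.left),
      IsGeomPt T ∧ q.left t0 = p := by
  obtain ⟨L, hLf, hLa, t, q, t0, hq⟩ := exists_geomPoint X p
  exact ⟨Over.mk t, q, t0, isGeomPt_mk L t, hq⟩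

end GeomPoint

section Key

variable {k : Type u} [Field k] {G X : Over (Spec (CommRingCat.of k))} [GrpObj G]
  (a : AlgGrp.Action G X)

theorem surjective_orb (hΦ : Surjective (lift a.act (snd G X)).left)
    {T : Over (Spec (CommRingCat.of k))} (y : T ⟶ X) : Function.Surjective (orb a y).left := by
  have sq := ((isPullback_orb_shear a y).flip).map (Over.forget _)
  haveI : Surjective (orb a y).left := MorphismProperty.of_isPullback (P := @Surjective) sq hΦ
  exact (orb a y).left.surjective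

variable (pt : ↥(𝟙_ (Over (Spec (CommRingCat.of k)))).left)

/-- `Z0 · E ⊆ E` for every irreducible component `E` of a scheme with a unital "action". -/
theorem Z0_act_subset {X' : Over (Spec (CommRingCat.of k))} (m : G ⊗ X' ⟶ X')
    (hm : lift (toUnit X' ≫ η[G]) (𝟙 X') ≫ m = 𝟙 X')
    (E : Set ↥X'.left) (hE : E ∈ irreducibleComponents ↥X'.left) :
    m.left '' ((fst G X').left ⁻¹' Z0 k G pt ∩ (snd G X').left ⁻¹' E) ⊆ E := by
  obtain ⟨Z, i, e, hcl, hr, hirr, he, hgi⟩ := exists_Z0_subscheme k G pt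
  obtain ⟨Y, b, hclb, hrb, hirrb⟩ := exists_closedSubscheme E
    (isClosed_of_mem_irreducibleComponents E hE) hE.1
  haveI : UniversallyOpen Z.hom := inferInstance
  haveI : IrreducibleSpace ↥(Z ⊗ Y).left :=
    inferInstanceAs (IrreducibleSpace ↥(pullback Z.hom Y.hom))
  have hrange : Set.range ((i ⊗ₘ b) ≫ m).left =
      m.left '' ((fst G X').left ⁻¹' Z0 k G pt ∩ (snd G X').left ⁻¹' E) := by
    have h1 : (i ⊗ₘ b).left = pullback.map Z.hom Y.hom G.hom X'.hom i.left b.left (𝟙 _)
        (by simp) (by simp) := rfl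
    have h2 : Set.range (i ⊗ₘ b).left =
        (fst G X').left ⁻¹' Set.range i.left ∩ (snd G X').left ⁻¹' Set.range b.left := by
      rw [h1, Scheme.Pullback.range_map]
      rfl
    rw [Over.comp_left, Scheme.Hom.comp_base, TopCat.coe_comp, Set.range_comp, h2, hr, hrb]
  rw [← hrange]
  have hirr' : IsIrreducible (Set.range ((i ⊗ₘ b) ≫ m).left) := by
    rw [← Set.image_univ]
    exact (IrreducibleSpace.isIrreducible_univ _).image _
      ((i ⊗ₘ b) ≫ m).left.continuous.continuousOn
  have hid : lift (toUnit Y ≫ e) (𝟙 Y) ≫ (i ⊗ₘ b) ≫ m = b := by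
    have h0 : b ≫ toUnit X' = toUnit Y := toUnit_unique _ _
    have h3 : lift (toUnit Y ≫ e) (𝟙 Y) ≫ (i ⊗ₘ b) = b ≫ lift (toUnit X' ≫ η[G]) (𝟙 X') := by
      rw [lift_map, comp_lift, Category.assoc, he, Category.id_comp, Category.comp_id,
        ← Category.assoc, h0]
    rw [← Category.assoc, h3, Category.assoc, hm, Category.comp_id]
  have hsub : E ≤ Set.range ((i ⊗ₘ b) ≫ m).left := by
    rw [← hrb]
    rintro _ ⟨y, rfl⟩
    refine ⟨(lift (toUnit Y ≫ e) (𝟙 Y)).left y, ?_⟩
    rw [← Scheme.Hom.comp_apply, ← Over.comp_left, hid]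
  exact hE.2 hirr' hsub

/-- **Key lemma**: for a geometric point `T` and a `T`-point `y` of `X`, every irreducible
component of `T ⊗ X` through `y` is the closure of the orbit of `y` under the preimage of `Z0`. -/
theorem key (hΦ : Surjective (lift a.act (snd G X)).left)
    (T : Over (Spec (CommRingCat.of k))) (hT : IsGeomPt T)
    (y : T ⟶ X) (t0 : ↥T.left)
    (E : Set ↥(T ⊗ X).left) (hE : E ∈ irreducibleComponents ↥(T ⊗ X).left)
    (hyE : (lift (𝟙 T) y).left t0 ∈ E) :
    E = closure ((orb a y).left '' ((snd T G).left ⁻¹' Z0 k G pt)) := by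
  haveI : Subsingleton ↥T.left := hT.sub
  haveI : IrreducibleSpace ↥T.left := hT.irr
  set ZT := (snd T G).left ⁻¹' Z0 k G pt with hZT
  have hZTmem := preimage_snd_Z0_mem k G pt T
  set F := closure ((orb a y).left '' ZT) with hF
  have hEcl : IsClosed E := isClosed_of_mem_irreducibleComponents E hE
  -- Step 2: `F ⊆ E`
  have hFE : F ⊆ E := by
    apply closure_minimal _ hEcl
    rintro _ ⟨p, hp, rfl⟩
    apply Z0_act_subset pt (actR a T) (actR_unit a T) E hE
    refine ⟨(lift (snd T G) (fst T G ≫ lift (𝟙 T) y)).left p, ⟨?_, ?_⟩, ?_⟩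
    · change (fst G (T ⊗ X)).left ((lift (snd T G) (fst T G ≫ lift (𝟙 T) y)).left p) ∈ Z0 k G pt
      rw [← Scheme.Hom.comp_apply, ← Over.comp_left, lift_fst]
      exact hp
    · change (snd G (T ⊗ X)).left ((lift (snd T G) (fst T G ≫ lift (𝟙 T) y)).left p) ∈ E
      have h1 : (fst T G).left p = t0 := Subsingleton.elim (α := ↥T.left) _ _
      rw [← Scheme.Hom.comp_apply, ← Over.comp_left, lift_snd, Over.comp_left,
        Scheme.Hom.comp_apply, h1]
      exact hyE
    · rw [← Scheme.Hom.comp_apply, ← Over.comp_left, ← orb_eq_actR]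
  -- Step 3: the generic point of `E` is in the orbit
  obtain ⟨ξ, hξ⟩ := QuasiSober.sober hE.1 hEcl
  obtain ⟨g₁, hg₁⟩ := surjective_orb a hΦ y ξ
  set D := irreducibleComponent g₁ with hD
  have hDmem : D ∈ irreducibleComponents ↥(T ⊗ G).left :=
    irreducibleComponent_mem_irreducibleComponents _
  have hg₁D : g₁ ∈ D := mem_irreducibleComponent
  have hDE : closure ((orb a y).left '' D) = E := by
    have hirr : IsIrreducible (closure ((orb a y).left '' D)) :=
      (hDmem.1.image _ (orb a y).left.continuous.continuousOn).closure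
    have hsub : E ≤ closure ((orb a y).left '' D) := by
      rw [← hξ.def]
      apply closure_minimal _ isClosed_closure
      rintro _ rfl
      exact subset_closure ⟨g₁, hg₁D, hg₁⟩
    exact le_antisymm (hE.2 hirr hsub) hsub
  -- Step 4: a geometric point at `g₁`
  obtain ⟨T₁, q, t1, hT₁, hq⟩ := exists_geomPt (T ⊗ G) g₁
  haveI : Subsingleton ↥T₁.left := hT₁.sub
  haveI : IrreducibleSpace ↥T₁.left := hT₁.irr
  set f : T₁ ⟶ T := q ≫ fst T G with hf
  set gam : T₁ ⟶ G := q ≫ snd T G with hgam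
  have hq' : lift f gam = q := by
    apply CartesianMonoidalCategory.hom_ext
    · rw [lift_fst]
    · rw [lift_snd]
  -- Step 5: base change along `f`
  haveI hfGI : GeometricallyIrreducible f.left := hT.gi f
  haveI hfUO : UniversallyOpen f.left := hT.uo f
  haveI hrGI : GeometricallyIrreducible (f ▷ X).left :=
    whiskerRight_left_of_prop @GeometricallyIrreducible f X hfGI
  haveI hrXUO : UniversallyOpen (f ▷ X).left :=
    whiskerRight_left_of_prop @UniversallyOpen f X hfUO
  haveI hrGGI : GeometricallyIrreducible (f ▷ G).left :=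
    whiskerRight_left_of_prop @GeometricallyIrreducible f G hfGI
  haveI hrGUO : UniversallyOpen (f ▷ G).left :=
    whiskerRight_left_of_prop @UniversallyOpen f G hfUO
  set rX := (f ▷ X).left with hrX
  set rG := (f ▷ G).left with hrG
  have hrXopen : IsOpenMap rX := rX.isOpenMap
  have hrGopen : IsOpenMap rG := rG.isOpenMap
  have hrXsurj : Function.Surjective rX := rX.surjective
  have hrGsurj : Function.Surjective rG := rG.surjective
  have sq := (isPullback_orb a f y).map (Over.forget _)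
  have himg : ∀ s : Set ↥(T ⊗ G).left,
      (orb a (f ≫ y)).left '' (rG ⁻¹' s) = rX ⁻¹' ((orb a y).left '' s) :=
    fun s => Scheme.image_preimage_eq_of_isPullback sq s
  have hclos : ∀ s : Set ↥(T ⊗ X).left, rX ⁻¹' closure s = closure (rX ⁻¹' s) :=
    fun s => hrXopen.preimage_closure_eq_closure_preimage rX.continuous s
  set E₁ := rX ⁻¹' E with hE₁
  have hE₁irr : IsIrreducible E₁ := rX.isIrreducible_preimage hrXopen hE.1
  have hE₁mem : E₁ ∈ irreducibleComponents ↥(T₁ ⊗ X).left :=
    preimage_mem_irreducibleComponents_of_isIrreducible rX rX.continuous hrXsurj E hE hE₁irr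
  set D₁ := rG ⁻¹' D with hD₁
  have hD₁irr : IsIrreducible D₁ := rG.isIrreducible_preimage hrGopen hDmem.1
  have hD₁mem : D₁ ∈ irreducibleComponents ↥(T₁ ⊗ G).left :=
    preimage_mem_irreducibleComponents_of_isIrreducible rG rG.continuous hrGsurj D hDmem hD₁irr
  have h5 : closure ((orb a (f ≫ y)).left '' D₁) = E₁ := by
    rw [hD₁, himg, ← hclos, hDE]
  -- Step 6: `D₁` is a translate of `ZT₁`
  set ZT₁ := (snd T₁ G).left ⁻¹' Z0 k G pt with hZT₁
  have hZT₁mem := preimage_snd_Z0_mem k G pt T₁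
  haveI : IsIso (transl gam).left := (Over.forget _).map_isIso (transl gam)
  let hG := (transl gam).left.homeomorph
  have hGapp : ∀ w, hG w = (transl gam).left w := fun _ => rfl
  set g₁' := (lift (𝟙 T₁) gam).left t1 with hg₁'
  have hrGg₁' : rG g₁' = g₁ := by
    rw [hg₁', hrG, ← Scheme.Hom.comp_apply, ← Over.comp_left, lift_whiskerRight,
      Category.id_comp, hq', hq]
  have hg₁'D₁ : g₁' ∈ D₁ := by
    change rG g₁' ∈ D
    rw [hrGg₁']
    exact hg₁D
  have hs0 : (lift (𝟙 T₁) (1 : T₁ ⟶ G)).left t1 ∈ ZT₁ := by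
    change (snd T₁ G).left ((lift (𝟙 T₁) (1 : T₁ ⟶ G)).left t1) ∈ Z0 k G pt
    rw [← Scheme.Hom.comp_apply, ← Over.comp_left, lift_snd, one_left k G pt]
    exact unit_mem_Z0 k G pt
  have e1 : lift (𝟙 T₁) (1 : T₁ ⟶ G) ≫ transl gam = lift (𝟙 T₁) gam := by
    apply CartesianMonoidalCategory.hom_ext
    · rw [Category.assoc, transl_fst, lift_fst, lift_fst]
    · rw [Category.assoc, transl_snd, MonObj.comp_mul, ← Category.assoc, lift_fst, lift_snd,
        Category.id_comp, _root_.mul_one, lift_snd]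
  have hhs0 : hG ((lift (𝟙 T₁) (1 : T₁ ⟶ G)).left t1) = g₁' := by
    rw [hGapp, ← Scheme.Hom.comp_apply, ← Over.comp_left, e1]
  have hC' : hG.symm ⁻¹' ZT₁ ∈ irreducibleComponents ↥(T₁ ⊗ G).left :=
    preimage_mem_irreducibleComponents hZT₁mem hG.symm.isOpenEmbedding
      ⟨_, hs0, ⟨hG ((lift (𝟙 T₁) (1 : T₁ ⟶ G)).left t1), hG.symm_apply_apply _⟩⟩
  have hg₁'C' : g₁' ∈ hG.symm ⁻¹' ZT₁ := by
    change hG.symm g₁' ∈ ZT₁
    rw [← hhs0, hG.symm_apply_apply]
    exact hs0
  have hD₁eq : D₁ = hG.symm ⁻¹' ZT₁ :=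
    (hT₁.uc G g₁') D₁ hD₁mem _ hC' hg₁'D₁ hg₁'C'
  have hD₁img : D₁ = (transl gam).left '' ZT₁ := by
    rw [hD₁eq]
    exact (hG.image_eq_preimage_symm ZT₁).symm
  haveI : IsIso (actT a gam).left := (Over.forget _).map_isIso (actT a gam)
  let hX := (actT a gam).left.homeomorph
  set F₁ := closure ((orb a (f ≫ y)).left '' ZT₁) with hF₁def
  have h6 : E₁ = hX '' F₁ := by
    have hcomm : (orb a (f ≫ y)).left ∘ (transl gam).left =
        (actT a gam).left ∘ (orb a (f ≫ y)).left := by
      funext w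
      simp only [Function.comp]
      rw [← Scheme.Hom.comp_apply, ← Scheme.Hom.comp_apply, ← Over.comp_left, ← Over.comp_left,
        transl_orb]
    rw [← h5, hD₁img, ← Set.image_comp, hcomm, Set.image_comp, hF₁def, hX.image_closure]
    rfl
  -- Step 7
  have hZT₁eq : ZT₁ = rG ⁻¹' ZT := by
    ext w
    change (snd T₁ G).left w ∈ Z0 k G pt ↔ (snd T G).left (rG w) ∈ Z0 k G pt
    rw [hrG, ← Scheme.Hom.comp_apply, ← Over.comp_left, whiskerRight_snd]
  have hF₁ : F₁ = rX ⁻¹' F := by
    rw [hF₁def, hF, hclos, ← himg, ← hZT₁eq]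
  -- Step 8
  have hF₁E₁ : F₁ ⊆ E₁ := by
    rw [hF₁]
    exact Set.preimage_mono hFE
  have hF₁pre : F₁ = hX ⁻¹' E₁ := by
    rw [h6, Set.preimage_image_eq _ hX.injective]
  have hF₁mem : F₁ ∈ irreducibleComponents ↥(T₁ ⊗ X).left := by
    rw [hF₁pre]
    apply preimage_mem_irreducibleComponents hE₁mem hX.isOpenEmbedding
    obtain ⟨w, hw⟩ := hE₁irr.nonempty
    exact ⟨w, hw, hX.surjective w⟩
  have hE₁F₁ : E₁ ⊆ F₁ := hF₁mem.2 hE₁irr hF₁E₁
  have hEF : rX ⁻¹' E = rX ⁻¹' F := by
    rw [← hF₁]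
    exact Set.Subset.antisymm hE₁F₁ hF₁E₁
  exact hrXsurj.preimage_injective hEF

end Key

end Groth.Agent.Lib.Helper10.HomSp
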