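import Mathlib
import Groth.Agent.Lib.Helper10.HomSp2

/-!
# Homogeneous spaces under group schemes over a field (SGA3 VI_A 2.6), part 3:
uniqueness of components, the sets `Z0 · U`
-/

set_option autoImplicit false
set_option backward.isDefEq.respectTransparency.types false
set_option maxHeartbeats 4000000
set_option synthInstance.maxHeartbeats 400000

universe u

open CategoryTheory CategoryTheory.Limits AlgebraicGeometry MonoidalCategory
  CartesianMonoidalCategory MonObj GrpObj

namespace Groth.Agent.Lib.Helper10.HomSp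

open Groth.Agent.Lib.Helper10.GrpTranslate Groth.Agent.Lib.Helper10.IdComp

variable {k : Type u} [Field k] {G X : Over (Spec (CommRingCat.of k))} [GrpObj G]
  (a : AlgGrp.Action G X)

theorem exists_pt : Nonempty ↥(𝟙_ (Over (Spec (CommRingCat.of k)))).left :=
  inferInstanceAs (Nonempty (PrimeSpectrum k))

section Unique

theorem uniqueComp_geomPt (hΦ : Surjective (lift a.act (snd G X)).left)
    (T : Over (Spec (CommRingCat.of k))) (hT : IsGeomPt T) (y : T ⟶ X) (t0 : ↥T.left) :
    UniqueComp ((lift (𝟙 T) y).left t0) := by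
  obtain ⟨pt⟩ := exists_pt (k := k)
  intro C₁ h₁ C₂ h₂ hx₁ hx₂
  rw [key a pt hΦ T hT y t0 C₁ h₁ hx₁, key a pt hΦ T hT y t0 C₂ h₂ hx₂]

/-- every point of a homogeneous space lies on a unique irreducible component. -/
theorem uniqueComp_X (hΦ : Surjective (lift a.act (snd G X)).left) (x : ↥X.left) :
    UniqueComp x := by
  obtain ⟨T, q, t0, hT, hq⟩ := exists_geomPt X x
  haveI : Flat (snd T X).left := IdComp.flat_snd
  have h1 := uniqueComp_geomPt a hΦ T hT q t0
  have h2 := uniqueComp_descends (snd T X).left (snd T X).left.continuous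
    (Flat.generalizingMap _) _ h1
  have h3 : (snd T X).left ((lift (𝟙 T) q).left t0) = x := by
    rw [← Scheme.Hom.comp_apply, ← Over.comp_left, lift_snd, hq]
  rwa [h3] at h2

/-- every point of the base change of a homogeneous space to a field lies on a unique irreducible
component. -/
theorem uniqueComp_TX (hΦ : Surjective (lift a.act (snd G X)).left)
    (T : Over (Spec (CommRingCat.of k))) (hT : IsFieldPt T) (p : ↥(T ⊗ X).left) :
    UniqueComp p := by
  obtain ⟨T₁, q, t1, hT₁, hq⟩ := exists_geomPt (T ⊗ X) p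
  set f : T₁ ⟶ T := q ≫ fst T X with hf
  set y : T₁ ⟶ X := q ≫ snd T X with hy
  have hq' : lift f y = q := by
    apply CartesianMonoidalCategory.hom_ext
    · rw [lift_fst]
    · rw [lift_snd]
  haveI : Flat f.left := hT.flat f
  haveI : Flat (f ▷ X).left := whiskerRight_left_of_prop @Flat f X inferInstance
  have h1 := uniqueComp_geomPt a hΦ T₁ hT₁ y t1
  have h2 := uniqueComp_descends (f ▷ X).left (f ▷ X).left.continuous
    (Flat.generalizingMap _) _ h1
  have h3 : (f ▷ X).left ((lift (𝟙 T₁) y).left t1) = p := by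
    rw [← Scheme.Hom.comp_apply, ← Over.comp_left, lift_whiskerRight, Category.id_comp, hq', hq]
  rwa [h3] at h2

end Unique

section SmulSet

/-- the set `A · B`. -/
def smulSet (A : Set ↥G.left) (B : Set ↥X.left) : Set ↥X.left :=
  a.act.left '' ((fst G X).left ⁻¹' A ∩ (snd G X).left ⁻¹' B)

theorem smul_mem_smulSet {T : Over (Spec (CommRingCat.of k))} (g : T ⟶ G) (x : T ⟶ X)
    (t : ↥T.left) {A : Set ↥G.left} {B : Set ↥X.left} (hg : g.left t ∈ A) (hx : x.left t ∈ B) :
    (smul a g x).left t ∈ smulSet a A B := by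
  unfold smul
  refine ⟨(lift g x).left t, ⟨?_, ?_⟩, ?_⟩
  · change (fst G X).left ((lift g x).left t) ∈ A
    rw [← Scheme.Hom.comp_apply, ← Over.comp_left, lift_fst]
    exact hg
  · change (snd G X).left ((lift g x).left t) ∈ B
    rw [← Scheme.Hom.comp_apply, ← Over.comp_left, lift_snd]
    exact hx
  · rw [← Scheme.Hom.comp_apply, ← Over.comp_left]

theorem exists_points_of_mem_smulSet {A : Set ↥G.left} {B : Set ↥X.left} {v : ↥X.left}
    (hv : v ∈ smulSet a A B) :
    ∃ (T : Over (Spec (CommRingCat.of k))) (g : T ⟶ G) (x : T ⟶ X) (t : ↥T.left),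
      g.left t ∈ A ∧ x.left t ∈ B ∧ (smul a g x).left t = v := by
  obtain ⟨w, ⟨hwA, hwB⟩, rfl⟩ := hv
  obtain ⟨T, q, t0, hq, -, -⟩ := exists_fieldPoint (G ⊗ X) w
  refine ⟨T, q ≫ fst G X, q ≫ snd G X, t0, ?_, ?_, ?_⟩
  · rw [Over.comp_left, Scheme.Hom.comp_apply, hq]
    exact hwA
  · rw [Over.comp_left, Scheme.Hom.comp_apply, hq]
    exact hwB
  · rw [← comp_smul, smul_fst_snd, Over.comp_left, Scheme.Hom.comp_apply, hq]

theorem smulSet_mono {A A' : Set ↥G.left} {B B' : Set ↥X.left} (hA : A ⊆ A') (hB : B ⊆ B') :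
    smulSet a A B ⊆ smulSet a A' B' := by
  rintro _ ⟨w, ⟨h1, h2⟩, rfl⟩
  exact ⟨w, ⟨hA h1, hB h2⟩, rfl⟩

theorem range_tensor_act {Z U : Over (Spec (CommRingCat.of k))} (i : Z ⟶ G) (j : U ⟶ X) :
    Set.range ((i ⊗ₘ j) ≫ a.act).left = smulSet a (Set.range i.left) (Set.range j.left) := by
  have h1 : (i ⊗ₘ j).left = pullback.map Z.hom U.hom G.hom X.hom i.left j.left (𝟙 _)
      (by simp) (by simp) := rfl
  have h2 : Set.range (i ⊗ₘ j).left =
      (fst G X).left ⁻¹' Set.range i.left ∩ (snd G X).left ⁻¹' Set.range j.left := by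
    rw [h1, Scheme.Pullback.range_map]
    rfl
  rw [smulSet, ← h2, Over.comp_left, Scheme.Hom.comp_base, TopCat.coe_comp, Set.range_comp]

theorem isOpen_smulSet_range {Z U : Over (Spec (CommRingCat.of k))} (i : Z ⟶ G) (j : U ⟶ X)
    (hU : IsOpen (Set.range j.left)) :
    IsOpen (smulSet a (Set.range i.left) (Set.range j.left)) := by
  rw [← range_tensor_act]
  have e : (i ⊗ₘ j) ≫ a.act = (Z ◁ j) ≫ actT a i ≫ snd Z X := by
    rw [actT_snd_eq, ← Category.assoc, ← MonoidalCategory.tensorHom_def']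
  have h1 : Set.range ((i ⊗ₘ j) ≫ a.act).left =
      (snd Z X).left '' ((actT a i).left '' Set.range (Z ◁ j).left) := by
    rw [e]
    ext x
    simp only [Over.comp_left, Scheme.Hom.comp_base, TopCat.coe_comp, Set.mem_range,
      Function.comp_apply, Set.mem_image, exists_exists_eq_and]
  rw [h1, range_whiskerLeft']
  haveI : IsIso (actT a i).left := (Over.forget _).map_isIso (actT a i)
  apply IdComp.isOpenMap_snd
  apply (actT a i).left.isOpenEmbedding.isOpenMap
  exact hU.preimage (snd Z X).left.continuous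

variable (pt : ↥(𝟙_ (Over (Spec (CommRingCat.of k)))).left)

theorem act_unit : lift (toUnit X ≫ η[G]) (𝟙 X) ≫ a.act = 𝟙 X := by
  have := one_smul a (𝟙 X)
  unfold smul at this
  rwa [Hom.one_def] at this

/-- `Z0 · C ⊆ C` for every irreducible component `C` of `X`. -/
theorem Z0_smulSet_subset (C : Set ↥X.left) (hC : C ∈ irreducibleComponents ↥X.left) :
    smulSet a (Z0 k G pt) C ⊆ C :=
  Z0_act_subset pt a.act (act_unit a) C hC

theorem subset_smulSet_Z0 (U : Set ↥X.left) : U ⊆ smulSet a (Z0 k G pt) U := by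
  intro u hu
  obtain ⟨T, q, t0, hq, -, -⟩ := exists_fieldPoint X u
  have h1 : (smul a (1 : T ⟶ G) q).left t0 = u := by rw [one_smul, hq]
  rw [← h1]
  exact smul_mem_smulSet a _ _ t0 (by rw [one_left k G pt]; exact unit_mem_Z0 k G pt)
    (by rw [hq]; exact hu)

/-- if an irreducible component `C` of `X` meets an open `U`, then `C ⊆ Z0 · U`. -/
theorem comp_subset_smulSet_Z0 (hΦ : Surjective (lift a.act (snd G X)).left)
    (C : Set ↥X.left) (hC : C ∈ irreducibleComponents ↥X.left)
    (U : Set ↥X.left) (hU : IsOpen U) (hne : (C ∩ U).Nonempty) :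
    C ⊆ smulSet a (Z0 k G pt) U := by
  intro y0 hy0
  obtain ⟨T, q, t0, hT, hq⟩ := exists_geomPt X y0
  haveI : Subsingleton ↥T.left := hT.sub
  haveI : IrreducibleSpace ↥T.left := hT.irr
  haveI : Flat (snd T X).left := IdComp.flat_snd
  set yT := (lift (𝟙 T) q).left t0 with hyT
  have hπy : (snd T X).left yT = y0 := by
    rw [hyT, ← Scheme.Hom.comp_apply, ← Over.comp_left, lift_snd, hq]
  obtain ⟨E, hE, hyE, hEC⟩ := exists_comp_over (snd T X).left (snd T X).left.continuous
    (Flat.generalizingMap _) yT C hC (hπy ▸ hy0)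
  have hkey := key a pt hΦ T hT q t0 E hE hyE
  set ZT := (snd T G).left ⁻¹' Z0 k G pt with hZT
  have hZTmem : ZT ∈ irreducibleComponents ↥(T ⊗ G).left := preimage_snd_Z0_mem k G pt T
  have hZTcl : IsClosed ZT := isClosed_of_mem_irreducibleComponents _ hZTmem
  obtain ⟨ξ', hξ'⟩ := QuasiSober.sober hZTmem.1 hZTcl
  have h1 : (orb a q).left '' ZT ⊆ closure {(orb a q).left ξ'} := by
    rw [← hξ'.def]
    have := image_closure_subset_closure_image (orb a q).left.continuous (s := {ξ'})
    rwa [Set.image_singleton] at this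
  have h2 : E ⊆ closure {(orb a q).left ξ'} := by
    rw [hkey]
    exact closure_minimal h1 isClosed_closure
  have h3 : (snd T X).left '' E ⊆ closure {(snd T X).left ((orb a q).left ξ')} := by
    refine (Set.image_mono h2).trans ?_
    have := image_closure_subset_closure_image (snd T X).left.continuous
      (s := {(orb a q).left ξ'})
    rwa [Set.image_singleton] at this
  have h4 : C ⊆ closure {(snd T X).left ((orb a q).left ξ')} := by
    rw [← hEC]
    exact closure_minimal h3 isClosed_closure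
  obtain ⟨u, huC, huU⟩ := hne
  have h5 : (snd T X).left ((orb a q).left ξ') ∈ U := by
    obtain ⟨v, hvU, hv⟩ := mem_closure_iff.mp (h4 huC) U hU huU
    rw [Set.mem_singleton_iff] at hv
    exact hv ▸ hvU
  obtain ⟨T', r, t0', hr, -, -⟩ := exists_fieldPoint (T ⊗ G) ξ'
  set g : T' ⟶ G := r ≫ snd T G with hg
  set f' : T' ⟶ T := r ≫ fst T G with hf'
  have hgZ : g.left t0' ∈ Z0 k G pt := by
    rw [hg, Over.comp_left, Scheme.Hom.comp_apply, hr]
    exact hξ'.mem
  have hx' : r ≫ orb a q ≫ snd T X = smul a g (f' ≫ q) := by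
    rw [orb_snd, comp_smul, Category.assoc]
  have hx'U : (smul a g (f' ≫ q)).left t0' ∈ U := by
    rw [← hx']
    simp only [Over.comp_left, Scheme.Hom.comp_apply]
    rw [hr]
    exact h5
  have hft : f'.left t0' = t0 := Subsingleton.elim _ _
  have hy0e : y0 = (smul a g⁻¹ (smul a g (f' ≫ q))).left t0' := by
    rw [inv_smul_smul, Over.comp_left, Scheme.Hom.comp_apply, hft, hq]
  rw [hy0e]
  exact smul_mem_smulSet a _ _ t0' (inv_mem_Z0 k G pt g t0' hgZ) hx'U

theorem isOpen_smulSet_Z0 (U : X.left.Opens) :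
    IsOpen (smulSet a (Z0 k G pt) (U : Set ↥X.left)) := by
  obtain ⟨Z, i, e, hcl, hr, hirr, he, hgi⟩ := exists_Z0_subscheme k G pt
  let Ũ : Over (Spec (CommRingCat.of k)) := Over.mk (U.ι ≫ X.hom)
  let jU : Ũ ⟶ X := Over.homMk U.ι rfl
  have hjU : Set.range jU.left = (U : Set ↥X.left) := Scheme.Opens.range_ι U
  rw [← hr, ← hjU]
  exact isOpen_smulSet_range a i jU (hjU ▸ U.isOpen)

theorem isCompact_smulSet_Z0 (U : X.left.Opens) (hUc : IsCompact (U : Set ↥X.left)) :
    IsCompact (smulSet a (Z0 k G pt) (U : Set ↥X.left)) := by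
  obtain ⟨Z, i, e, hcl, hr, hirr, he, hgi⟩ := exists_Z0_subscheme k G pt
  let Ũ : Over (Spec (CommRingCat.of k)) := Over.mk (U.ι ≫ X.hom)
  let jU : Ũ ⟶ X := Over.homMk U.ι rfl
  have hjU : Set.range jU.left = (U : Set ↥X.left) := Scheme.Opens.range_ι U
  rw [← hr, ← hjU, ← range_tensor_act]
  haveI : CompactSpace ↥Z.left := by
    rw [← isCompact_univ_iff, i.left.isEmbedding.isCompact_iff, Set.image_univ, hr]
    exact isCompact_Z0 k G pt
  haveI : CompactSpace ↥Ũ.left := isCompact_iff_compactSpace.mp hUc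
  haveI : QuasiCompact Z.hom := quasiCompact_of_compactSpace _
  haveI : CompactSpace ↥(Z ⊗ Ũ).left :=
    inferInstanceAs (CompactSpace ↥(pullback Z.hom Ũ.hom))
  exact isCompact_range ((i ⊗ₘ jU) ≫ a.act).left.continuous

/-- `Z0 · U` is the union of the irreducible components whose generic point lies in `U`. -/
theorem smulSet_Z0_eq_sUnion (hΦ : Surjective (lift a.act (snd G X)).left)
    (U : Set ↥X.left) (hU : IsOpen U) :
    smulSet a (Z0 k G pt) U =
      ⋃₀ {Z : Set ↥X.left | Z ∈ irreducibleComponents ↥X.left ∧ ∃ ξ ∈ U, closure {ξ} = Z} := by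
  apply Set.Subset.antisymm
  · intro v hv
    obtain ⟨T, g, x, t, hg, hx, rfl⟩ := exists_points_of_mem_smulSet a hv
    have hC := irreducibleComponent_mem_irreducibleComponents (x.left t)
    obtain ⟨ξ, hξ⟩ := QuasiSober.sober hC.1 isClosed_irreducibleComponent
    refine ⟨irreducibleComponent (x.left t), ⟨hC, ξ, ?_, hξ.def⟩, ?_⟩
    · exact (hξ.mem_open_set_iff hU).mpr ⟨x.left t, mem_irreducibleComponent, hx⟩
    · exact Z0_smulSet_subset a pt _ hC (smul_mem_smulSet a g x t hg mem_irreducibleComponent)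
  · rintro v ⟨Z, ⟨hZ, ξ, hξU, hξZ⟩, hvZ⟩
    exact comp_subset_smulSet_Z0 a pt hΦ Z hZ U hU ⟨ξ, hξZ ▸ subset_closure rfl, hξU⟩ hvZ

/-- `Z0 · U ⊆ closure U`. -/
theorem smulSet_Z0_subset_closure (U : Set ↥X.left) (hU : IsOpen U) :
    smulSet a (Z0 k G pt) U ⊆ closure U := by
  intro v hv
  obtain ⟨T, g, x, t, hg, hx, rfl⟩ := exists_points_of_mem_smulSet a hv
  have hC := irreducibleComponent_mem_irreducibleComponents (x.left t)
  obtain ⟨ξ, hξ⟩ := QuasiSober.sober hC.1 isClosed_irreducibleComponent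
  have hξU : ξ ∈ U := (hξ.mem_open_set_iff hU).mpr ⟨x.left t, mem_irreducibleComponent, hx⟩
  have h1 : (smul a g x).left t ∈ irreducibleComponent (x.left t) :=
    Z0_smulSet_subset a pt _ hC (smul_mem_smulSet a g x t hg mem_irreducibleComponent)
  rw [← hξ.def] at h1
  exact closure_mono (Set.singleton_subset_iff.mpr hξU) h1

end SmulSet

section Geom

variable (pt : ↥(𝟙_ (Over (Spec (CommRingCat.of k)))).left)

/-- the preimage in `T ⊗ X` (`T` a geometric point) of the irreducible component through a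
rational point is irreducible. -/
theorem isIrreducible_preimage_snd_comp (hΦ : Surjective (lift a.act (snd G X)).left)
    (x : 𝟙_ (Over (Spec (CommRingCat.of k))) ⟶ X) (C : Set ↥X.left)
    (hC : C ∈ irreducibleComponents ↥X.left) (hxC : x.left pt ∈ C)
    (T : Over (Spec (CommRingCat.of k))) (hT : IsGeomPt T) :
    IsIrreducible ((snd T X).left ⁻¹' C) := by
  haveI : Subsingleton ↥T.left := hT.sub
  haveI : IrreducibleSpace ↥T.left := hT.irr
  obtain ⟨t0⟩ : Nonempty ↥T.left := inferInstance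
  set y : T ⟶ X := toUnit T ≫ x with hy
  set ω : G ⟶ X := lift (𝟙 G) (toUnit G ≫ x) ≫ a.act with hω
  have horb : orb a y = T ◁ ω := by
    apply CartesianMonoidalCategory.hom_ext
    · rw [orb_fst, whiskerLeft_fst]
    · have h0 : fst T G ≫ y = snd T G ≫ toUnit G ≫ x := by
        rw [hy, ← Category.assoc, ← Category.assoc]
        congr 1
        exact toUnit_unique _ _
      rw [orb_snd, whiskerLeft_snd, h0, hω]
      unfold smul
      simp only [comp_lift_assoc, Category.comp_id, Category.assoc]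
  set ZT := (snd T G).left ⁻¹' Z0 k G pt with hZT
  have hπopen : IsOpenMap (snd T X).left := IdComp.isOpenMap_snd
  have hπsurj : Function.Surjective (snd T X).left := IdComp.surjective_snd
  have sq := ((isPullback_whiskerLeft_snd T ω).flip).map (Over.forget _)
  have himg : (T ◁ ω).left '' ZT = (snd T X).left ⁻¹' (ω.left '' Z0 k G pt) :=
    Scheme.image_preimage_eq_of_isPullback sq _
  set F := closure (ω.left '' Z0 k G pt) with hF
  have hFT : closure ((orb a y).left '' ZT) = (snd T X).left ⁻¹' F := by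
    rw [horb, himg, hF, hπopen.preimage_closure_eq_closure_preimage (snd T X).left.continuous]
  set yT := (lift (𝟙 T) y).left t0 with hyT
  have hπy : (snd T X).left yT = x.left pt := by
    rw [hyT, ← Scheme.Hom.comp_apply, ← Over.comp_left, lift_snd, hy, Over.comp_left,
      Scheme.Hom.comp_apply, pt_eq k pt ((toUnit T).left t0)]
  haveI : Flat (snd T X).left := IdComp.flat_snd
  obtain ⟨E', hE', hyE', hE'C⟩ := exists_comp_over (snd T X).left (snd T X).left.continuous
    (Flat.generalizingMap _) yT C hC (hπy ▸ hxC)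
  have hk := key a pt hΦ T hT y t0 E' hE' hyE'
  have hCF : C = F := by
    rw [← hE'C, hk, hFT, Set.image_preimage_eq _ hπsurj]
    exact isClosed_closure.closure_eq
  rw [hCF, ← hFT, ← hk]
  exact hE'.1

end Geom

end Groth.Agent.Lib.Helper10.HomSp
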