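import Mathlib
import Groth.Agent.Lib.Helper10.HomSp3

/-!
# Homogeneous spaces under group schemes over a field (SGA3 VI_A 2.6), part 4:
closure of the image of a quasi-compact morphism, `Z0 · U = closure U` for retrocompact `U`
-/

set_option autoImplicit false
set_option backward.isDefEq.respectTransparency.types false
set_option maxHeartbeats 4000000
set_option synthInstance.maxHeartbeats 400000

universe u

open CategoryTheory CategoryTheory.Limits AlgebraicGeometry MonoidalCategory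
  CartesianMonoidalCategory MonObj GrpObj

namespace Groth.Agent.Lib.Helper10.HomSp

open Groth.Agent.Lib.Helper10.GrpTranslate Groth.Agent.Lib.Helper10.IdComp

section QC

theorem exists_specializes_Spec {R S : CommRingCat.{u}} (φ : R ⟶ S) (y : ↥(Spec R))
    (hy : y ∈ closure (Set.range (Spec.map φ))) : ∃ x : ↥(Spec S), (Spec.map φ) x ⤳ y := by
  let p : PrimeSpectrum R := y
  have hy' : p ∈ closure (Set.range (PrimeSpectrum.comap φ.hom)) := hy
  rw [PrimeSpectrum.closure_range_comap] at hy'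
  have hp : Ideal.comap φ.hom ⊥ ≤ p.asIdeal := by
    rw [← RingHom.ker_eq_comap_bot]
    exact SetLike.coe_subset_coe.mp ((PrimeSpectrum.mem_zeroLocus _ _).mp hy')
  obtain ⟨Q, -, hQ, hQle⟩ := Ideal.exists_ideal_comap_le_prime p.asIdeal ⊥ hp
  refine ⟨(⟨Q, hQ⟩ : PrimeSpectrum S), ?_⟩
  exact (PrimeSpectrum.le_iff_specializes (PrimeSpectrum.comap φ.hom ⟨Q, hQ⟩) p).mp hQle

/-- every point of the closure of the image of a quasi-compact morphism is a specialization of
a point of the image. -/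
theorem exists_specializes_of_mem_closure_range {X Y : Scheme.{u}} (f : X ⟶ Y) [QuasiCompact f]
    (y : ↥Y) (hy : y ∈ closure (Set.range f)) : ∃ x : ↥X, f x ⤳ y := by
  obtain ⟨_, ⟨V₀, hV₀, rfl⟩, hyV₀, -⟩ := Y.isBasis_affineOpens.exists_subset_of_mem_open
    (Set.mem_univ y) isOpen_univ
  obtain ⟨V, hV, hyV⟩ : ∃ V : Y.Opens, IsAffineOpen V ∧ y ∈ V := ⟨V₀, hV₀, hyV₀⟩
  have hc : IsCompact ((f ⁻¹ᵁ V : X.Opens) : Set ↥X) :=
    QuasiCompact.isCompact_preimage _ V.isOpen hV.isCompact
  obtain ⟨R, g, hg⟩ := isCompact_iff_exists.mp hc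
  have hgV : ∀ r, f (g r) ∈ V := by
    intro r
    have : g r ∈ Set.range g := ⟨r, rfl⟩
    rw [hg] at this
    exact this
  have hrange : Set.range (g ≫ f) ⊆ Set.range V.ι := by
    rw [Scheme.Opens.range_ι]
    rintro _ ⟨r, rfl⟩
    rw [Scheme.Hom.comp_apply]
    exact hgV r
  let l : Spec R ⟶ ↑V := IsOpenImmersion.lift V.ι (g ≫ f) hrange
  have hl : l ≫ V.ι = g ≫ f := IsOpenImmersion.lift_fac _ _ _
  have hlapp : ∀ r, V.ι (l r) = f (g r) := fun r => by
    rw [← Scheme.Hom.comp_apply, hl, Scheme.Hom.comp_apply]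
  let h' : Spec R ⟶ Spec Γ(Y, V) := l ≫ hV.isoSpec.hom
  obtain ⟨φ, hφ⟩ := Spec.map_surjective h'
  let yV : ↥(V : Scheme.{u}) := ⟨y, hyV⟩
  have hyVι : V.ι yV = y := rfl
  have h2 : yV ∈ closure (Set.range l) := by
    rw [V.ι.isEmbedding.closure_eq_preimage_closure_image]
    change V.ι yV ∈ closure (V.ι '' Set.range l)
    rw [← Set.range_comp, hyVι]
    have h3 : Set.range (V.ι ∘ l) = (V : Set ↥Y) ∩ Set.range f := by
      ext z
      constructor
      · rintro ⟨r, rfl⟩
        rw [Function.comp_apply, hlapp]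
        exact ⟨hgV r, ⟨_, rfl⟩⟩
      · rintro ⟨hzV, ⟨x, rfl⟩⟩
        have hx : x ∈ Set.range g := by
          rw [hg]
          exact hzV
        obtain ⟨r, rfl⟩ := hx
        exact ⟨r, hlapp r⟩
    rw [h3]
    exact V.isOpen.inter_closure ⟨hyV, hy⟩
  let e := hV.isoSpec.hom.homeomorph
  have heapp : ∀ w, e w = hV.isoSpec.hom w := fun _ => rfl
  have hh' : ∀ r, h' r = e (l r) := fun r => by
    rw [heapp, ← Scheme.Hom.comp_apply]
  have h4 : e yV ∈ closure (Set.range (Spec.map φ)) := by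
    rw [hφ]
    have h5 : Set.range h' = e '' Set.range l := by
      ext z
      constructor
      · rintro ⟨r, rfl⟩
        exact ⟨l r, ⟨r, rfl⟩, (hh' r).symm⟩
      · rintro ⟨_, ⟨r, rfl⟩, rfl⟩
        exact ⟨r, hh' r⟩
    rw [h5, ← e.image_closure]
    exact ⟨yV, h2, rfl⟩
  obtain ⟨q, hq⟩ := exists_specializes_Spec φ (e yV) h4
  refine ⟨g q, ?_⟩
  rw [hφ, hh'] at hq
  have h6 : e.symm (e (l q)) ⤳ e.symm (e yV) := hq.map e.symm.continuous
  rw [e.symm_apply_apply, e.symm_apply_apply] at h6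
  have h8 := h6.map V.ι.continuous
  rwa [hlapp q, hyVι] at h8

end QC

section Retro

variable {k : Type u} [Field k] {G X : Over (Spec (CommRingCat.of k))} [GrpObj G]
  (a : AlgGrp.Action G X) (pt : ↥(𝟙_ (Over (Spec (CommRingCat.of k)))).left)

theorem closure_subset_smulSet_Z0 (hΦ : Surjective (lift a.act (snd G X)).left)
    (U : X.left.Opens) (hUr : IsRetrocompact (U : Set ↥X.left)) :
    closure (U : Set ↥X.left) ⊆ smulSet a (Z0 k G pt) (U : Set ↥X.left) := by
  intro x hx
  haveI : QuasiCompact U.ι :=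
    quasiCompact_iff_isSpectralMap.mpr (IsRetrocompact_iff_isSpectralMap_subtypeVal.mp hUr)
  have hx' : x ∈ closure (Set.range U.ι) := by
    rw [Scheme.Opens.range_ι]
    exact hx
  obtain ⟨u, hu⟩ := exists_specializes_of_mem_closure_range U.ι x hx'
  have hxC : x ∈ irreducibleComponent (U.ι u) := by
    have h1 : closure {U.ι u} ⊆ irreducibleComponent (U.ι u) :=
      isClosed_irreducibleComponent.closure_subset_iff.mpr
        (Set.singleton_subset_iff.mpr mem_irreducibleComponent)
    exact h1 (specializes_iff_mem_closure.mp hu)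
  exact comp_subset_smulSet_Z0 a pt hΦ _ (irreducibleComponent_mem_irreducibleComponents _)
    U U.isOpen ⟨U.ι u, mem_irreducibleComponent, u.2⟩ hxC

theorem smulSet_Z0_eq_closure (hΦ : Surjective (lift a.act (snd G X)).left)
    (U : X.left.Opens) (hUr : IsRetrocompact (U : Set ↥X.left)) :
    smulSet a (Z0 k G pt) (U : Set ↥X.left) = closure (U : Set ↥X.left) :=
  Set.Subset.antisymm (smulSet_Z0_subset_closure a pt U U.isOpen)
    (closure_subset_smulSet_Z0 a pt hΦ U hUr)

end Retro

end Groth.Agent.Lib.Helper10.HomSp
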