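import Mathlib
import Groth.Prelude.Def_NonAbH2
import Groth.Agent.Lib.Helper10.HomSp4
import Groth.Agent.Lib.Helper10.IdComp6

/-!
# Homogeneous spaces under group schemes over a field (SGA3 VI_A 2.6), part 5:
connected components; the case of a group acting on itself; local artinian bases
-/

set_option autoImplicit false
set_option backward.isDefEq.respectTransparency.types false
set_option maxHeartbeats 4000000
set_option synthInstance.maxHeartbeats 400000

universe u

open CategoryTheory CategoryTheory.Limits AlgebraicGeometry MonoidalCategory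
  CartesianMonoidalCategory MonObj GrpObj

namespace Groth.Agent.Lib.Helper10.HomSp

open Groth.Agent.Lib.Helper10.GrpTranslate Groth.Agent.Lib.Helper10.IdComp

section Top

theorem image_connectedComponent_homeo {X Y : Type*} [TopologicalSpace X] [TopologicalSpace Y]
    (h : X ≃ₜ Y) (x : X) : h '' connectedComponent x = connectedComponent (h x) := by
  apply Set.Subset.antisymm
  · exact h.continuous.image_connectedComponent_subset x
  · intro y hy
    have := h.symm.continuous.image_connectedComponent_subset (h x) ⟨y, hy, rfl⟩
    rw [h.symm_apply_apply] at this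
    exact ⟨h.symm y, this, h.apply_symm_apply y⟩

end Top

section Conn

variable {k : Type u} [Field k] {G X : Over (Spec (CommRingCat.of k))} [GrpObj G]
  (a : AlgGrp.Action G X)

/-- irreducible components of a homogeneous space are quasi-compact. -/
theorem isCompact_irreducibleComponent (hΦ : Surjective (lift a.act (snd G X)).left)
    (x : ↥X.left) : IsCompact (irreducibleComponent x) := by
  obtain ⟨pt⟩ := exists_pt (k := k)
  have hCmem := irreducibleComponent_mem_irreducibleComponents x
  have hCcl : IsClosed (irreducibleComponent x) := isClosed_irreducibleComponent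
  obtain ⟨_, ⟨U₀', hU₀', rfl⟩, hx₀, -⟩ := X.left.isBasis_affineOpens.exists_subset_of_mem_open
    (Set.mem_univ x) isOpen_univ
  obtain ⟨U₀, hU₀, hxU₀⟩ : ∃ U : X.left.Opens, IsAffineOpen U ∧ x ∈ U := ⟨_, hU₀', hx₀⟩
  have hCW₀ := comp_subset_smulSet_Z0 a pt hΦ (irreducibleComponent x) hCmem
    (U₀ : Set ↥X.left) U₀.isOpen ⟨x, mem_irreducibleComponent, hxU₀⟩
  exact (isCompact_smulSet_Z0 a pt U₀ hU₀.isCompact).of_isClosed_subset hCcl hCW₀

/-- the connected components of a quasi-separated homogeneous space are its irreducible
components. -/
theorem connectedComponent_eq_irreducibleComponent [QuasiSeparatedSpace ↥X.left]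
    (hΦ : Surjective (lift a.act (snd G X)).left) (x : ↥X.left) :
    connectedComponent x = irreducibleComponent x := by
  obtain ⟨pt⟩ := exists_pt (k := k)
  have hCmem := irreducibleComponent_mem_irreducibleComponents x
  have hCcl : IsClosed (irreducibleComponent x) := isClosed_irreducibleComponent
  have huniq := fun v => uniqueComp_X a hΦ v
  apply Set.Subset.antisymm
  swap
  · exact hCmem.1.isPreirreducible.isPreconnected.subset_connectedComponent
      mem_irreducibleComponent
  intro y hy
  by_contra hyC
  have hYmem := irreducibleComponent_mem_irreducibleComponents y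
  have hYcl : IsClosed (irreducibleComponent y) := isClosed_irreducibleComponent
  have hdisj : ∀ v ∈ irreducibleComponent y, v ∉ irreducibleComponent x := by
    intro v hvY hvC
    apply hyC
    rw [← (huniq v) _ hYmem _ hCmem hvY hvC]
    exact mem_irreducibleComponent
  have hCcpt : IsCompact (irreducibleComponent x) := isCompact_irreducibleComponent a hΦ x
  have hV : ∀ z ∈ irreducibleComponent x, ∃ V : X.left.Opens, IsAffineOpen V ∧ z ∈ V ∧
      (V : Set ↥X.left) ⊆ (irreducibleComponent y)ᶜ := by
    intro z hz
    obtain ⟨_, ⟨V, hVa, rfl⟩, hzV, hVY⟩ := X.left.isBasis_affineOpens.exists_subset_of_mem_open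
      (show z ∈ (irreducibleComponent y)ᶜ from fun hzy => hdisj z hzy hz) hYcl.isOpen_compl
    exact ⟨V, hVa, hzV, hVY⟩
  choose V hVa hzV hVY using hV
  obtain ⟨t, ht⟩ := hCcpt.elim_nhds_subcover' (fun z hz => (V z hz : Set ↥X.left))
    (fun z hz => (V z hz).isOpen.mem_nhds (hzV z hz))
  let Uset : Set ↥X.left := ⋃ z ∈ t, (V z.1 z.2 : Set ↥X.left)
  have hUopen : IsOpen Uset := isOpen_biUnion fun z _ => (V z.1 z.2).isOpen
  have hUcpt : IsCompact Uset := t.isCompact_biUnion fun z _ => (hVa z.1 z.2).isCompact
  have hUY : ∀ u ∈ Uset, u ∉ irreducibleComponent y := by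
    intro u hu
    simp only [Uset, Set.mem_iUnion] at hu
    obtain ⟨z, -, hz⟩ := hu
    exact hVY z.1 z.2 hz
  let UO : X.left.Opens := ⟨Uset, hUopen⟩
  have hretro : IsRetrocompact (UO : Set ↥X.left) := by
    intro W hWc hWo
    exact QuasiSeparatedSpace.inter_isCompact _ _ hUopen hUcpt hWo hWc
  have hW := smulSet_Z0_eq_closure a pt hΦ UO hretro
  have hWcl : IsClosed (smulSet a (Z0 k G pt) (UO : Set ↥X.left)) := by
    rw [hW]
    exact isClosed_closure
  have hWopen := isOpen_smulSet_Z0 a pt UO
  have hxU : x ∈ (UO : Set ↥X.left) := ht mem_irreducibleComponent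
  have hxW := subset_smulSet_Z0 a pt (UO : Set ↥X.left) hxU
  have hyW := (IsClopen.connectedComponent_subset ⟨hWcl, hWopen⟩ hxW) hy
  rw [smulSet_Z0_eq_sUnion a pt hΦ (UO : Set ↥X.left) hUopen] at hyW
  obtain ⟨Z, ⟨hZ, ξ, hξU, hξZ⟩, hyZ⟩ := hyW
  have hZY : Z = irreducibleComponent y := (huniq y) Z hZ _ hYmem hyZ mem_irreducibleComponent
  refine hUY ξ hξU ?_
  rw [← hZY, ← hξZ]
  exact subset_closure rfl

end Conn

section Grp

variable (K : Type u) [Field K] (G : Over (Spec (CommRingCat.of K))) [GrpObj G]

theorem surjective_shear_grp :
    Surjective (lift (NonAbH1.trivialAction G).act (snd G G)).left := by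
  haveI : IsIso (lift (NonAbH1.trivialAction G).act (snd G G)) :=
    NonAbH1.isPseudoTorsorSch_trivialAction G
  haveI : IsIso (lift (NonAbH1.trivialAction G).act (snd G G)).left :=
    (Over.forget _).map_isIso (lift (NonAbH1.trivialAction G).act (snd G G))
  infer_instance

/-- connected components of a group scheme over a field are irreducible components. -/
theorem connectedComponent_eq_irreducibleComponent_grp (g : ↥G.left) :
    connectedComponent g = irreducibleComponent g := by
  haveI := quasiSeparatedSpace_of_grp K G
  exact connectedComponent_eq_irreducibleComponent (NonAbH1.trivialAction G)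
    (surjective_shear_grp K G) g

/-- connected components of a group scheme over a field are quasi-compact. -/
theorem isCompact_connectedComponent_grp (g : ↥G.left) : IsCompact (connectedComponent g) := by
  rw [connectedComponent_eq_irreducibleComponent_grp K G g]
  exact isCompact_irreducibleComponent (NonAbH1.trivialAction G) (surjective_shear_grp K G) g

end Grp

section Artin

variable (A : Type u) [CommRing A] [IsArtinianRing A] [IsLocalRing A]

/-- the closed point of the spectrum of a local artinian ring. -/
noncomputable def resMap :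
    Spec (CommRingCat.of (IsLocalRing.ResidueField A)) ⟶ Spec (CommRingCat.of A) :=
  Spec.map (CommRingCat.ofHom (IsLocalRing.residue A))

instance : IsClosedImmersion (resMap A) :=
  IsClosedImmersion.spec_of_surjective _ IsLocalRing.residue_surjective

theorem subsingleton_Spec_artin : Subsingleton ↥(Spec (CommRingCat.of A)) := by
  refine ⟨fun p q => ?_⟩
  let p' : PrimeSpectrum A := p
  let q' : PrimeSpectrum A := q
  have hp : p'.asIdeal = IsLocalRing.maximalIdeal A :=
    IsLocalRing.eq_maximalIdeal (IsArtinianRing.isMaximal_of_isPrime p'.asIdeal)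
  have hq : q'.asIdeal = IsLocalRing.maximalIdeal A :=
    IsLocalRing.eq_maximalIdeal (IsArtinianRing.isMaximal_of_isPrime q'.asIdeal)
  exact PrimeSpectrum.ext (hp.trans hq.symm)

instance : Surjective (resMap A) := by
  refine ⟨fun w => ?_⟩
  obtain ⟨y⟩ : Nonempty ↥(Spec (CommRingCat.of (IsLocalRing.ResidueField A))) :=
    inferInstanceAs (Nonempty (PrimeSpectrum (IsLocalRing.ResidueField A)))
  haveI := subsingleton_Spec_artin A
  exact ⟨y, Subsingleton.elim _ _⟩

variable (G : Over (Spec (CommRingCat.of A)))

/-- the special fibre is homeomorphic to the whole scheme. -/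
noncomputable def fibreHomeo : ↥(pullback G.hom (resMap A)) ≃ₜ ↥G.left :=
  (pullback.fst G.hom (resMap A)).isClosedEmbedding.isEmbedding.toHomeomorphOfSurjective
    (pullback.fst G.hom (resMap A)).surjective

theorem fibreHomeo_apply (w : ↥(pullback G.hom (resMap A))) :
    fibreHomeo A G w = (pullback.fst G.hom (resMap A)) w := rfl

/-- connected components of a group scheme over a local artinian ring are quasi-compact. -/
theorem isCompact_connectedComponent_artin [GrpObj G] (g : ↥G.left) :
    IsCompact (connectedComponent g) := by
  letI : GrpObj ((Over.pullback (resMap A)).obj G) := Functor.grpObjObj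
  let h := fibreHomeo A G
  have h1 : IsCompact (connectedComponent (h.symm g)) :=
    isCompact_connectedComponent_grp (IsLocalRing.ResidueField A)
      ((Over.pullback (resMap A)).obj G) (h.symm g)
  have h2 : h '' connectedComponent (h.symm g) = connectedComponent (h (h.symm g)) :=
    image_connectedComponent_homeo h _
  rw [h.apply_symm_apply] at h2
  rw [← h2]
  exact h1.image h.continuous

end Artin

end Groth.Agent.Lib.Helper10.HomSp
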