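import Mathlib

/-!
# Reducedness ascends along smooth ring maps

* `isReduced_of_flat_of_isDomain`: a flat algebra over a domain whose generic fibre is reduced is reduced.
* `isReduced_of_etale_of_isDomain`: étale over a domain is reduced.
* `isReduced_of_smooth_of_isDomain`: smooth over a domain is reduced.
* `exists_one_sub_smul_eq_zero`: over an absolutely flat ring, elements of `m • ⊤` are killed by `1 - e`, `e ∈ m`.
* `isReduced_of_smooth`: smooth over a reduced ring is reduced.
-/

set_option autoImplicit false

universe u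

open TensorProduct

namespace Groth.Agent.Lib.Helper10.SmoothReduced

/-- An étale algebra over a domain is reduced. -/
theorem isReduced_of_etale_of_isDomain (D T : Type u) [CommRing D] [IsDomain D] [CommRing T]
    [Algebra D T] [Algebra.Etale D T] : IsReduced T := by
  let K := FractionRing D
  have h1 : IsReduced (K ⊗[D] T) := Algebra.FormallyUnramified.isReduced_of_field K (K ⊗[D] T)
  have h2 : Function.Injective (Algebra.TensorProduct.includeRight : T →ₐ[D] K ⊗[D] T) :=
    Algebra.TensorProduct.includeRight_injective (IsFractionRing.injective D K)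
  exact isReduced_of_injective (Algebra.TensorProduct.includeRight : T →ₐ[D] K ⊗[D] T) h2

/-- A standard smooth algebra over a domain is reduced. -/
theorem isReduced_of_isStandardSmooth_of_isDomain (D T : Type u) [CommRing D] [IsDomain D]
    [CommRing T] [Algebra D T] [Algebra.IsStandardSmooth D T] : IsReduced T := by
  have h : (algebraMap D T).IsStandardSmooth := by
    rw [RingHom.isStandardSmooth_algebraMap]; infer_instance
  obtain ⟨n, g, hg, hge⟩ := h.exists_etale_mvPolynomial
  algebraize [g]
  have : Algebra.Etale (MvPolynomial (Fin n) D) T := hge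
  exact isReduced_of_etale_of_isDomain (MvPolynomial (Fin n) D) T

/-- Reducedness can be checked on a standard open cover. -/
theorem isReduced_of_span_eq_top {T : Type u} [CommRing T] (s : Set T) (hs : Ideal.span s = ⊤)
    (h : ∀ t ∈ s, IsReduced (Localization.Away t)) : IsReduced T := by
  refine ⟨fun x hx => ?_⟩
  let I : Ideal T := LinearMap.ker (LinearMap.toSpanSingleton T T x)
  have hI : ∀ t ∈ s, t ∈ I.radical := by
    intro t ht
    have := h t ht
    have h0 : algebraMap T (Localization.Away t) x = 0 := (hx.map _).eq_zero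
    rw [IsLocalization.map_eq_zero_iff (Submonoid.powers t)] at h0
    obtain ⟨⟨_, n, rfl⟩, hn⟩ := h0
    refine ⟨n, ?_⟩
    change (LinearMap.toSpanSingleton T T x) (t ^ n) = 0
    simpa [LinearMap.toSpanSingleton_apply] using hn
  have h1 : I.radical = ⊤ := by
    rw [eq_top_iff, ← hs, Ideal.span_le]
    exact hI
  have h2 : (1 : T) ∈ I := by
    rw [Ideal.radical_eq_top] at h1
    rw [h1]; trivial
  have : (LinearMap.toSpanSingleton T T x) 1 = 0 := h2
  simpa [LinearMap.toSpanSingleton_apply] using this

/-- A smooth algebra over a domain is reduced. -/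
theorem isReduced_of_smooth_of_isDomain (D T : Type u) [CommRing D] [IsDomain D]
    [CommRing T] [Algebra D T] [Algebra.Smooth D T] : IsReduced T := by
  obtain ⟨s, hs, h⟩ := Algebra.Smooth.exists_span_eq_top_isStandardSmooth D T
  refine isReduced_of_span_eq_top s hs fun t ht => ?_
  have := h t ht
  exact isReduced_of_isStandardSmooth_of_isDomain D (Localization.Away t)


/-- Over an absolutely flat ring, an element of `m • ⊤` is killed by `1 - e` for some `e ∈ m`. -/
theorem exists_one_sub_smul_eq_zero {K M : Type*} [CommRing K] [AddCommGroup M] [Module K M]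
    (hK : ∀ a : K, ∃ b : K, a * a * b = a) (m : Ideal K) (t : M)
    (ht : t ∈ m • (⊤ : Submodule K M)) : ∃ e ∈ m, (1 - e) • t = 0 := by
  refine Submodule.smul_induction_on (p := fun t => ∃ e ∈ m, (1 - e) • t = 0) ht ?_ ?_
  · intro a ha n _
    obtain ⟨b, hb⟩ := hK a
    refine ⟨a * b, m.mul_mem_right _ ha, ?_⟩
    rw [smul_smul]
    have : (1 - a * b) * a = 0 := by linear_combination -hb
    rw [this, zero_smul]
  · intro x y hx hy
    obtain ⟨e, he, hex⟩ := hx
    obtain ⟨e', he', hey⟩ := hy
    refine ⟨e + e' - e * e', m.sub_mem (m.add_mem he he') (m.mul_mem_right _ he), ?_⟩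
    have h1 : (1 - (e + e' - e * e')) = (1 - e') * (1 - e) := by ring
    have h2 : (1 - (e + e' - e * e')) = (1 - e) * (1 - e') := by ring
    rw [smul_add]
    nth_rewrite 1 [h1]
    rw [h2, mul_smul, mul_smul, hex, hey, smul_zero, smul_zero, add_zero]

/-- A smooth algebra over an absolutely flat ring is reduced. -/
theorem isReduced_of_smooth_of_absolutelyFlat (K T : Type u) [CommRing K] [CommRing T] [Algebra K T]
    [Algebra.Smooth K T] (hK : ∀ a : K, ∃ b : K, a * a * b = a) : IsReduced T := by
  refine ⟨fun x hx => ?_⟩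
  let I : Ideal K := LinearMap.ker (LinearMap.toSpanSingleton K T x)
  by_cases hI : I = ⊤
  · have h2 : (1 : K) ∈ I := by rw [hI]; trivial
    have : (LinearMap.toSpanSingleton K T x) 1 = 0 := h2
    simpa [LinearMap.toSpanSingleton_apply] using this
  · exfalso
    obtain ⟨m, hm, hIm⟩ := Ideal.exists_le_maximal I hI
    have hred : IsReduced ((K ⧸ m) ⊗[K] T) :=
      isReduced_of_smooth_of_isDomain (K ⧸ m) ((K ⧸ m) ⊗[K] T)
    have h0 : ((1 : K ⧸ m) ⊗ₜ[K] x : (K ⧸ m) ⊗[K] T) = 0 := by
      have hn : IsNilpotent ((1 : K ⧸ m) ⊗ₜ[K] x : (K ⧸ m) ⊗[K] T) :=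
        hx.map (Algebra.TensorProduct.includeRight : T →ₐ[K] (K ⧸ m) ⊗[K] T)
      exact hn.eq_zero
    have h1 : x ∈ m • (⊤ : Submodule K T) := by
      have := congrArg (TensorProduct.quotTensorEquivQuotSMul T m) h0
      rw [show (1 : K ⧸ m) = Ideal.Quotient.mk m 1 from rfl,
        TensorProduct.quotTensorEquivQuotSMul_mk_tmul, map_zero, one_smul,
        Submodule.Quotient.mk_eq_zero] at this
      exact this
    obtain ⟨e, he, hex⟩ := exists_one_sub_smul_eq_zero hK m x h1
    have h3 : (1 - e) ∈ I := by
      change (LinearMap.toSpanSingleton K T x) (1 - e) = 0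
      simpa [LinearMap.toSpanSingleton_apply] using hex
    have h4 : (1 : K) ∈ m := by
      have := m.add_mem (hIm h3) he
      simpa using this
    exact hm.ne_top ((Ideal.eq_top_iff_one m).mpr h4)

/-- Reducedness ascends along smooth ring maps. -/
theorem isReduced_of_smooth (R S : Type u) [CommRing R] [CommRing S] [Algebra R S]
    [Algebra.Smooth R S] [IsReduced R] : IsReduced S := by
  let K := ∀ p : PrimeSpectrum R, p.asIdeal.ResidueField
  have hK : ∀ a : K, ∃ b : K, a * a * b = a := fun a =>
    ⟨fun p => (a p)⁻¹, funext fun p => mul_self_mul_inv (a p)⟩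
  have hinj : Function.Injective (algebraMap R K) := by
    rw [injective_iff_map_eq_zero]
    intro r hr
    have h1 : r ∈ nilradical R := by
      rw [nilradical_eq_sInf, Ideal.mem_sInf]
      intro J hJ
      have hJ' : J.IsPrime := hJ
      have := congrFun hr ⟨J, hJ⟩
      exact (Ideal.algebraMap_residueField_eq_zero (I := J)).mp this
    rwa [nilradical_eq_zero, Ideal.zero_eq_bot, Ideal.mem_bot] at h1
  have h1 : IsReduced (K ⊗[R] S) := isReduced_of_smooth_of_absolutelyFlat K (K ⊗[R] S) hK
  have h2 : Function.Injective (Algebra.TensorProduct.includeRight : S →ₐ[R] K ⊗[R] S) :=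
    Algebra.TensorProduct.includeRight_injective hinj
  exact isReduced_of_injective (Algebra.TensorProduct.includeRight : S →ₐ[R] K ⊗[R] S) h2


end Groth.Agent.Lib.Helper10.SmoothReduced
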