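import Mathlib
import Groth.Agent.Lib.Helper10.SmoothReduced

/-!
# A scheme smooth over a reduced scheme is reduced
-/

set_option autoImplicit false
universe u
open CategoryTheory AlgebraicGeometry

namespace Groth.Agent.Lib.Helper10.SmoothReduced

theorem isReduced_of_smooth_scheme {X S : Scheme.{u}} (φ : X ⟶ S) [Smooth φ] [IsReduced S] :
    IsReduced X := by
  have : ∀ x : X, _root_.IsReduced (X.presheaf.stalk x) := by
    intro x
    obtain ⟨U, hU, hxU, -⟩ := exists_isAffineOpen_mem_and_subset (x := φ.base x) (U := ⊤) trivial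
    obtain ⟨V, hV, hxV, hVU⟩ := exists_isAffineOpen_mem_and_subset (x := x) (U := φ ⁻¹ᵁ U) hxU
    have he : RingHom.Smooth (φ.appLE U V hVU).hom :=
      HasRingHomProperty.appLE (P := @Smooth) φ inferInstance ⟨U, hU⟩ ⟨V, hV⟩ hVU
    algebraize [(φ.appLE U V hVU).hom]
    have : Algebra.Smooth Γ(S, U) Γ(X, V) := he
    have hred : _root_.IsReduced Γ(X, V) :=
      Groth.Agent.Lib.Helper10.SmoothReduced.isReduced_of_smooth Γ(S, U) Γ(X, V)
    let _ : Algebra Γ(X, V) (X.presheaf.stalk x) :=
      TopCat.Presheaf.algebra_section_stalk X.presheaf ⟨x, hxV⟩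
    have hloc := hV.isLocalization_stalk ⟨x, hxV⟩
    exact isReduced_localizationPreserves (hV.primeIdealOf ⟨x, hxV⟩).asIdeal.primeCompl
      (X.presheaf.stalk x) hred
  exact isReduced_of_isReduced_stalk X

theorem isReduced_of_smooth_field {k : Type u} [Field k] {X : Scheme.{u}}
    (φ : X ⟶ Spec (CommRingCat.of k)) [Smooth φ] : IsReduced X :=
  isReduced_of_smooth_scheme φ

end Groth.Agent.Lib.Helper10.SmoothReduced
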