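import Mathlib
import Groth.Prelude.Def_AlgGrp
import Groth.Agent.Lib.Helper10.HomSp1
import Groth.Agent.Lib.Helper10.HomSp4
import Groth.Agent.Lib.Helper10.FlatPt2

/-!
# Quasi-compact dominant homomorphisms of group schemes over a field (SGA3 VI_B 1.2, 1.3.2)
-/

set_option autoImplicit false
set_option backward.isDefEq.respectTransparency.types false
set_option maxHeartbeats 4000000
set_option synthInstance.maxHeartbeats 400000
universe u
open CategoryTheory CategoryTheory.Limits AlgebraicGeometry MonoidalCategory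
  CartesianMonoidalCategory MonObj GrpObj

namespace Groth.Agent.Lib.Helper10.FlatPt

open Groth.Agent.Lib.Helper10.HomSp

section Points

/-- a nonempty reduced scheme has a point whose local ring is a field. -/
theorem exists_isField_stalk (X : Scheme.{u}) [IsReduced X] [Nonempty X] :
    ∃ ξ : X, IsField (X.presheaf.stalk ξ) := by
  obtain ⟨x⟩ := ‹Nonempty X›
  obtain ⟨_, ⟨U, hU, rfl⟩, hxU, -⟩ :=
    X.isBasis_affineOpens.exists_subset_of_mem_open (Set.mem_univ x) isOpen_univ
  let q : PrimeSpectrum Γ(X, U) := hU.primeIdealOf ⟨x, hxU⟩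
  obtain ⟨p, hp, -⟩ := Ideal.exists_minimalPrimes_le (I := (⊥ : Ideal Γ(X, U)))
    (J := q.asIdeal) bot_le
  have hp' : p ∈ minimalPrimes Γ(X, U) := hp
  haveI : p.IsPrime := hp.1.1
  let y : PrimeSpectrum Γ(X, U) := ⟨p, hp.1.1⟩
  have hy : hU.fromSpec y ∈ U := by
    have : hU.fromSpec y ∈ Set.range hU.fromSpec := ⟨y, rfl⟩
    rwa [hU.range_fromSpec] at this
  refine ⟨hU.fromSpec y, ?_⟩
  letI := TopCat.Presheaf.algebra_section_stalk X.presheaf ⟨hU.fromSpec y, hy⟩
  haveI : IsLocalization.AtPrime (X.presheaf.stalk (hU.fromSpec y)) p :=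
    hU.isLocalization_stalk' y hy
  haveI : Ring.KrullDimLE 0 (X.presheaf.stalk (hU.fromSpec y)) :=
    Ring.KrullDimLE.of_isLocalization p hp' _
  exact Ring.KrullDimLE.isField_of_isReduced

/-- a point whose local ring is a field has no proper generization. -/
theorem eq_of_specializes_of_isField_stalk {X : Scheme.{u}} (ξ y : X)
    (hF : IsField (X.presheaf.stalk ξ)) (h : y ⤳ ξ) : y = ξ := by
  have hy : y ∈ Set.range (X.fromSpecStalk ξ) := by
    rw [Scheme.range_fromSpecStalk]
    exact h
  obtain ⟨s, hs⟩ := hy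
  have hmax : IsLocalRing.maximalIdeal (X.presheaf.stalk ξ) = ⊥ :=
    IsLocalRing.isField_iff_maximalIdeal_eq.mp hF
  let s' : PrimeSpectrum (X.presheaf.stalk ξ) := s
  have hs' : s' = IsLocalRing.closedPoint (X.presheaf.stalk ξ) := by
    apply PrimeSpectrum.ext
    apply le_antisymm
    · exact IsLocalRing.le_maximalIdeal s'.isPrime.ne_top
    · change IsLocalRing.maximalIdeal _ ≤ _
      rw [hmax]
      exact bot_le
  rw [← hs]
  change X.fromSpecStalk ξ s' = ξ
  rw [hs']
  exact Scheme.fromSpecStalk_closedPoint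

/-- any ring map out of a field is flat. -/
theorem flat_of_isField {R S : Type u} [CommRing R] [CommRing S] (g : R →+* S)
    (hF : IsField R) : g.Flat := by
  letI : Field R := hF.toField
  letI := g.toAlgebra
  change Module.Flat R S
  infer_instance

theorem flatAt_of_isField {X Y : Scheme.{u}} (f : X ⟶ Y) (x : X)
    (hF : IsField (Y.presheaf.stalk (f x))) : (f.stalkMap x).hom.Flat :=
  flat_of_isField _ hF

/-- a quasi-compact dominant morphism hits all the maximal points. -/
theorem maximal_point_mem_range {X Y : Scheme.{u}} (f : X ⟶ Y) [QuasiCompact f]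
    (hf : DenseRange f) (p : Y) (hp : closure {p} ∈ irreducibleComponents Y) :
    p ∈ Set.range f := by
  obtain ⟨x, hx⟩ := exists_specializes_of_mem_closure_range f p (by
    rw [hf.closure_range]
    trivial)
  have h1 : closure {p} ⊆ closure {f x} := specializes_iff_closure_subset.mp hx
  have h2 : closure {f x} ⊆ closure {p} := hp.2 isIrreducible_singleton.closure h1
  have h3 : Inseparable (f x) p :=
    inseparable_iff_closure_eq.mpr (le_antisymm h2 h1)
  exact ⟨x, h3.eq⟩

end Points

section Field

variable {k : Type u} [Field k] {G H : Over (Spec (CommRingCat.of k))} [GrpObj G] [GrpObj H]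
  (f : G ⟶ H) [IsMonHom f]

/-- a quasi-compact dominant homomorphism is surjective, given that every point of the target
is a product of two maximal points. -/
theorem surjective_of_dominant [QuasiCompact f.left] (hf : DenseRange f.left)
    (hmax : ∀ y : H.left, ∃ z : ↥(H ⊗ H).left, μ[H].left z = y ∧
      closure {(fst H H).left z} ∈ irreducibleComponents ↥H.left ∧
      closure {(snd H H).left z} ∈ irreducibleComponents ↥H.left) :
    Surjective f.left := by
  refine ⟨fun y => ?_⟩
  obtain ⟨z, hz, hz1, hz2⟩ := hmax y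
  obtain ⟨x1, hx1⟩ := maximal_point_mem_range f.left hf _ hz1
  obtain ⟨x2, hx2⟩ := maximal_point_mem_range f.left hf _ hz2
  have sqA : IsPullback (f ▷ H).left (fst G H).left (fst H H).left f.left :=
    (isPullback_whiskerRight_fst f H).map (Over.forget _)
  obtain ⟨z1, hz1a, hz1b⟩ := exists_preimage_of_isPullback sqA z x1 hx1.symm
  have sqB : IsPullback (G ◁ f).left (snd G G).left (snd G H).left f.left :=
    (isPullback_whiskerLeft_snd G f).map (Over.forget _)
  have h3 : (snd G H).left z1 = f.left x2 := by
    have := congrArg (fun ψ => ψ.left z1) (whiskerRight_snd f H)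
    simp only [Over.comp_left, Scheme.Hom.comp_apply] at this
    rw [← this, hz1a, hx2]
  obtain ⟨z2, hz2a, hz2b⟩ := exists_preimage_of_isPullback sqB z1 x2 h3
  refine ⟨μ[G].left z2, ?_⟩
  have hmul : μ[G] ≫ f = (G ◁ f) ≫ (f ▷ H) ≫ μ[H] := by
    rw [IsMonHom.mul_hom, tensorHom_def', Category.assoc]
  have := congrArg (fun ψ => ψ.left z2) hmul
  simp only [Over.comp_left, Scheme.Hom.comp_apply] at this
  rw [this, hz2a, hz1a, hz]

/-- a quasi-compact dominant homomorphism to a reduced group scheme over a field is flat. -/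
theorem flat_of_dominant_reduced [QuasiCompact f.left] (hf : DenseRange f.left)
    [IsReduced H.left] : Flat f.left := by
  obtain ⟨pt⟩ : Nonempty ↥(𝟙_ (Over (Spec (CommRingCat.of k)))).left :=
    inferInstanceAs (Nonempty (PrimeSpectrum k))
  haveI : Nonempty H.left := ⟨η[H].left pt⟩
  obtain ⟨ξ, hξ⟩ := exists_isField_stalk H.left
  obtain ⟨x, hx⟩ := exists_specializes_of_mem_closure_range f.left ξ (by
    rw [hf.closure_range]
    trivial)
  have hfx : f.left x = ξ := eq_of_specializes_of_isField_stalk ξ _ hξ hx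
  have hflat : (f.left.stalkMap x).hom.Flat := flatAt_of_isField f.left x (hfx ▸ hξ)
  haveI : Subsingleton ↥(Spec (CommRingCat.of k)) :=
    inferInstanceAs (Subsingleton (PrimeSpectrum k))
  haveI : Flat G.hom := inferInstance
  exact flat_of_flatAt (Groth.Agent.Lib.Helper10.TrivLoc.translAction f) f
    (fun g g' => hom_equivariant f g g') x hflat

end Field

end Groth.Agent.Lib.Helper10.FlatPt
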