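import Mathlib
import Groth.Agent.Lib.Helper18.JacDim8
import Groth.Agent.Lib.Helper18.ZeroDim
import Groth.Agent.Lib.Helper18.UCat
import Groth.Agent.Lib.Helper12.UnivCat
import Groth.Agent.Lib.Helper11.GrPolyA

/-!
# Dimension of the boundary of a locally closed subset of a scheme of finite type over a field
-/

set_option autoImplicit false
set_option backward.isDefEq.respectTransparency.types false
set_option maxHeartbeats 4000000
set_option synthInstance.maxHeartbeats 400000
universe u
open CategoryTheory CategoryTheory.Limits AlgebraicGeometry TopologicalSpace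

namespace Groth.Agent.Lib.Helper10.OrbitDim

variable (k : Type u) [Field k]

/-- the local ring of `Spec k` is universally catenary. -/
theorem field_h2 (s : ↥(Spec (CommRingCat.of k))) :
    CAlg.IsUniversallyCatenary ((Spec (CommRingCat.of k)).presheaf.stalk s) := by
  let S : Scheme.{u} := Spec (CommRingCat.of k)
  have hU : IsAffineOpen (⊤ : S.Opens) := isAffineOpen_top S
  have hs : s ∈ (⊤ : S.Opens) := trivial
  letI : Algebra Γ(S, ⊤) (S.presheaf.stalk s) := S.presheaf.algebra_section_stalk ⟨s, hs⟩
  haveI : IsLocalization.AtPrime (S.presheaf.stalk s) (hU.primeIdealOf ⟨s, hs⟩).asIdeal :=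
    hU.isLocalization_stalk ⟨s, hs⟩
  haveI : IsNoetherianRing (S.presheaf.stalk s) := inferInstance
  refine Groth.Agent.Lib.Helper12.Codim.isUniversallyCatenary_of_isLocalization
    (hU.primeIdealOf ⟨s, hs⟩).asIdeal.primeCompl (S.presheaf.stalk s) ?_
  intro n
  let e : Γ(S, ⊤) ≃+* k := (Scheme.ΓSpecIso (CommRingCat.of k)).commRingCatIsoToRingEquiv
  have hcat : CAlg.IsCatenary (MvPolynomial (Fin n) k) := by
    haveI := Groth.Agent.Lib.Helper11.GrPoly.isCM k n
    exact Groth.Agent.Lib.Helper18.UCat.isCatenary_of_isCohenMacaulayRing _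
  refine Groth.Agent.Lib.Helper1.Catenary.isCatenary_of_surjective
    (MvPolynomial.map (σ := Fin n) e.symm.toRingHom) ?_ hcat
  exact MvPolynomial.map_surjective _ e.symm.surjective

theorem field_h3 :
    ∀ S' ∈ irreducibleComponents (↥(Spec (CommRingCat.of k)) : Type u),
      ∀ s ∈ S', IsClosed ({s} : Set ↥(Spec (CommRingCat.of k))) →
      topologicalKrullDim (↥S' : Type u) =
        topologicalKrullDim ↥{t : ↥(Spec (CommRingCat.of k)) | t ∈ S' ∧ t ⤳ s} := by
  intro S' _ s _ _
  haveI : Subsingleton ↥(Spec (CommRingCat.of k)) :=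
    inferInstanceAs (Subsingleton (PrimeSpectrum k))
  have : {t : ↥(Spec (CommRingCat.of k)) | t ∈ S' ∧ t ⤳ s} = S' := by
    ext t
    constructor
    · exact fun h => h.1
    · intro ht
      refine ⟨ht, ?_⟩
      rw [Subsingleton.elim t s]
  rw [this]

variable {k}
variable {X : Scheme.{u}} (f : X ⟶ Spec (CommRingCat.of k)) [LocallyOfFiniteType f]

include f in
theorem isLocallyNoetherian_of_lft : IsLocallyNoetherian X :=
  LocallyOfFiniteType.isLocallyNoetherian f

include f in
theorem jacobsonSpace_of_lft : JacobsonSpace ↥X :=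
  LocallyOfFiniteType.jacobsonSpace f

/-- a scheme of finite type over a field is finite dimensional. -/
theorem dim_lt_top [QuasiCompact f] : topologicalKrullDim ↥X < ⊤ := by
  classical
  haveI : IsLocallyNoetherian X := isLocallyNoetherian_of_lft f
  haveI : CompactSpace ↥X := QuasiCompact.compactSpace_of_compactSpace f
  haveI : IsNoetherian X := {}
  have hfin : (irreducibleComponents ↥X).Finite :=
    finite_irreducibleComponents_of_isNoetherian
  let T : Set ↥X := {ξ | closure ({ξ} : Set ↥X) ∈ irreducibleComponents ↥X}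
  have hT : T.Finite := by
    refine Set.Finite.of_injOn (f := fun ξ : ↥X => closure ({ξ} : Set ↥X)) (t := irreducibleComponents ↥X)
      (fun ξ hξ => hξ) ?_ hfin
    intro ξ _ ξ' _ h
    have h1 : ξ ⤳ ξ' := by
      rw [specializes_iff_closure_subset]
      exact (show closure ({ξ'} : Set ↥X) = closure {ξ} from h.symm).le
    have h2 : ξ' ⤳ ξ := by
      rw [specializes_iff_closure_subset]
      exact (show closure ({ξ} : Set ↥X) = closure {ξ'} from h).le
    exact (h1.antisymm h2).eq
  choose n hn using fun ξ : ↥X => Groth.Agent.Lib.Helper18.SchDim.exists_nat_trdeg_residueField f ξ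
  let E : ℕ := hT.toFinset.sup n
  have hE : ∀ ξ : X, closure {ξ} ∈ irreducibleComponents ↥X →
      @Algebra.trdeg ((Spec (CommRingCat.of k)).residueField (f ξ)) (X.residueField ξ) _ _
        (f.residueFieldMap ξ).hom.toAlgebra ≤ E := by
    intro ξ hξ
    rw [hn ξ]
    have : n ξ ≤ E := Finset.le_sup (f := n) (hT.mem_toFinset.mpr hξ)
    exact_mod_cast this
  have h1 := Groth.Agent.Lib.Helper18.SchDim.topologicalKrullDim_le_add f E hE
  haveI : DiscreteTopology ↥(Spec (CommRingCat.of k)) :=
    inferInstanceAs (DiscreteTopology (PrimeSpectrum k))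
  have h2 : topologicalKrullDim ↥(Spec (CommRingCat.of k)) ≤ 0 :=
    topologicalKrullDim_zero_of_discreteTopology _
  have h3 : topologicalKrullDim ↥X ≤ (0 : WithBot ℕ∞) + (E : WithBot ℕ∞) :=
    h1.trans (add_le_add h2 le_rfl)
  refine lt_of_le_of_lt h3 ?_
  rw [zero_add]
  show ((E : ℕ∞) : WithBot ℕ∞) < ((⊤ : ℕ∞) : WithBot ℕ∞)
  exact WithBot.coe_lt_coe.mpr (ENat.coe_lt_top E)

end Groth.Agent.Lib.Helper10.OrbitDim
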