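import Mathlib

/-!
# Filtered colimits of (faithfully) flat ring maps (helper10)

For a filtered small category `J`, functors `C A : J ⥤ CommRingCat` and a natural transformation
`φ : C ⟶ A`:
* `flat_colimMap`: if every `φ_j` is flat then `colim C → colim A` is flat (equational criterion);
* `faithfullyFlat_colimMap`: same for faithfully flat.
Also small element-level helpers for filtered colimits in `CommRingCat`
(`exists_rep`, `exists_rep_fin`, `exists_eq_of_rep_eq`, `ι_map`, `ι_φ`, `φ_map`).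
* `flat_of_approx`: abstract version: a ring map approximated along a filtered category by flat ring
  maps (legs jointly surjective, kernel of the legs of the target eventually killed) is flat.
-/

set_option autoImplicit false
set_option linter.unusedSectionVars false
universe u v w
open CategoryTheory CategoryTheory.Limits

namespace Groth.Agent.Lib.Helper10.ColimFlat

variable {J : Type u} [SmallCategory J] [IsFiltered J]

theorem exists_rep (F : J ⥤ CommRingCat.{u}) (x : (colimit F : CommRingCat.{u})) :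
    ∃ (j : J) (y : F.obj j), colimit.ι F j y = x :=
  Concrete.colimit_exists_rep F x

theorem exists_eq_of_rep_eq (F : J ⥤ CommRingCat.{u}) (j : J) (a b : F.obj j)
    (h : colimit.ι F j a = colimit.ι F j b) : ∃ (k : J) (f : j ⟶ k), F.map f a = F.map f b := by
  obtain ⟨k, f, g, hfg⟩ := (Concrete.colimit_rep_eq_iff_exists F a b).mp h
  refine ⟨IsFiltered.coeq f g, f ≫ IsFiltered.coeqHom f g, ?_⟩
  have h1 : F.map (f ≫ IsFiltered.coeqHom f g) a = F.map (IsFiltered.coeqHom f g) (F.map f a) := by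
    rw [F.map_comp]; rfl
  have h2 : F.map (f ≫ IsFiltered.coeqHom f g) b = F.map (IsFiltered.coeqHom f g) (F.map g b) := by
    rw [IsFiltered.coeq_condition, F.map_comp]; rfl
  rw [h1, h2, hfg]

theorem ι_map (F : J ⥤ CommRingCat.{u}) {j k : J} (f : j ⟶ k) (a : F.obj j) :
    colimit.ι F k (F.map f a) = colimit.ι F j a := by
  rw [← colimit.w F f]; rfl

/-- finitely many elements come from a common stage -/
theorem exists_rep_fin (F : J ⥤ CommRingCat.{u}) {l : ℕ} (x : Fin l → (colimit F : CommRingCat.{u})) :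
    ∃ (j : J) (y : Fin l → F.obj j), ∀ i, colimit.ι F j (y i) = x i := by
  induction l with
  | zero => exact ⟨Classical.choice IsFiltered.nonempty, Fin.elim0, fun i => i.elim0⟩
  | succ l ih =>
    obtain ⟨j₁, y₁, hy₁⟩ := ih (fun i => x i.succ)
    obtain ⟨j₂, y₂, hy₂⟩ := exists_rep F (x 0)
    refine ⟨IsFiltered.max j₁ j₂, Fin.cons (F.map (IsFiltered.rightToMax j₁ j₂) y₂)
      (fun i => F.map (IsFiltered.leftToMax j₁ j₂) (y₁ i)), ?_⟩
    intro i
    refine Fin.cases ?_ (fun i => ?_) i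
    · rw [Fin.cons_zero, ι_map, hy₂]
    · rw [Fin.cons_succ, ι_map, hy₁]

theorem ι_φ (C A : J ⥤ CommRingCat.{u}) (φ : C ⟶ A) (j : J) (c : C.obj j) :
    colimit.ι A j (φ.app j c) = colimMap φ (colimit.ι C j c) := by
  have := ι_colimMap φ j
  exact (congrArg (fun m => m c) this).symm

theorem φ_map (C A : J ⥤ CommRingCat.{u}) (φ : C ⟶ A) {j k : J} (g : j ⟶ k) (c : C.obj j) :
    φ.app k (C.map g c) = A.map g (φ.app j c) := by
  have := φ.naturality g
  exact congrArg (fun m => m c) this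

theorem flat_colimMap (C A : J ⥤ CommRingCat.{u}) (φ : C ⟶ A) (h : ∀ j, (φ.app j).hom.Flat) :
    (colimMap φ).hom.Flat := by
  let _ : Algebra (colimit C : CommRingCat.{u}) (colimit A : CommRingCat.{u}) := (colimMap φ).hom.toAlgebra
  change Module.Flat (colimit C : CommRingCat.{u}) (colimit A : CommRingCat.{u})
  rw [Module.Flat.iff_forall_isTrivialRelation]
  intro l f x hfx
  obtain ⟨j₁, fc, hfc⟩ := exists_rep_fin C f
  obtain ⟨j₂, xa, hxa⟩ := exists_rep_fin A x
  obtain ⟨j, u₁, u₂, -⟩ : ∃ (j : J) (u₁ : j₁ ⟶ j) (u₂ : j₂ ⟶ j), True :=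
    ⟨IsFiltered.max j₁ j₂, IsFiltered.leftToMax j₁ j₂, IsFiltered.rightToMax j₁ j₂, trivial⟩
  have hsmul : ∀ (c : (colimit C : CommRingCat.{u})) (a : (colimit A : CommRingCat.{u})),
      c • a = colimMap φ c * a := fun c a => rfl
  have hrel : colimit.ι A j (∑ i, φ.app j (C.map u₁ (fc i)) * A.map u₂ (xa i)) =
      colimit.ι A j 0 := by
    rw [map_sum, map_zero, ← hfx]
    refine Finset.sum_congr rfl fun i _ => ?_
    rw [map_mul, ι_φ, ι_map, ι_map, hfc, hxa, hsmul]
  obtain ⟨k, g, hk⟩ := exists_eq_of_rep_eq A j _ _ hrel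
  rw [map_sum, map_zero] at hk
  let _ : Algebra (C.obj k) (A.obj k) := (φ.app k).hom.toAlgebra
  have hflat : Module.Flat (C.obj k) (A.obj k) := h k
  have hsmulk : ∀ (c : C.obj k) (a : A.obj k), c • a = φ.app k c * a := fun c a => rfl
  obtain ⟨K, a, y, hy, ha⟩ := Module.Flat.iff_forall_isTrivialRelation.mp hflat
    (f := fun i => C.map g (C.map u₁ (fc i))) (x := fun i => A.map g (A.map u₂ (xa i))) (by
      rw [← hk]
      refine Finset.sum_congr rfl fun i _ => ?_
      rw [hsmulk, map_mul, φ_map])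
  refine ⟨K, fun i t => colimit.ι C k (a i t), fun t => colimit.ι A k (y t), ?_, ?_⟩
  · intro i
    have hyi : A.map g (A.map u₂ (xa i)) = ∑ t, a i t • y t := hy i
    change x i = ∑ t, colimit.ι C k (a i t) • colimit.ι A k (y t)
    rw [← hxa i, ← ι_map A u₂, ← ι_map A g, hyi, map_sum]
    refine Finset.sum_congr rfl fun t _ => ?_
    rw [hsmulk, map_mul, ι_φ, hsmul]
  · intro t
    have hat : ∑ i, C.map g (C.map u₁ (fc i)) * a i t = 0 := ha t
    have := congrArg (colimit.ι C k) hat
    rw [map_sum, map_zero] at this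
    change ∑ i, f i * colimit.ι C k (a i t) = 0
    rw [← this]
    refine Finset.sum_congr rfl fun i _ => ?_
    rw [map_mul, ι_map, ι_map, hfc]

/-- transport of membership in the extended contracted ideal along a transition map -/
theorem transport (C A : J ⥤ CommRingCat.{u}) (φ : C ⟶ A) (m : Ideal (colimit C : CommRingCat.{u}))
    {j k : J} (u : j ⟶ k) (a : A.obj j)
    (ha : a ∈ (m.comap (colimit.ι C j).hom).map (φ.app j).hom) :
    A.map u a ∈ (m.comap (colimit.ι C k).hom).map (φ.app k).hom := by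
  have h1 : A.map u a ∈ ((m.comap (colimit.ι C j).hom).map (φ.app j).hom).map (A.map u).hom :=
    Ideal.mem_map_of_mem _ ha
  rw [Ideal.map_map] at h1
  refine (Ideal.map_le_iff_le_comap.mpr ?_) h1
  intro c hc
  rw [Ideal.mem_comap] at hc ⊢
  change A.map u (φ.app j c) ∈ _
  rw [← φ_map]
  refine Ideal.mem_map_of_mem _ ?_
  rw [Ideal.mem_comap]
  change colimit.ι C k (C.map u c) ∈ m
  rw [ι_map]
  exact hc

theorem faithfullyFlat_colimMap (C A : J ⥤ CommRingCat.{u}) (φ : C ⟶ A)
    (h : ∀ j, (φ.app j).hom.FaithfullyFlat) : (colimMap φ).hom.FaithfullyFlat := by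
  have hflat : (colimMap φ).hom.Flat := flat_colimMap C A φ fun j => (h j).flat
  let _ : Algebra (colimit C : CommRingCat.{u}) (colimit A : CommRingCat.{u}) := (colimMap φ).hom.toAlgebra
  change Module.FaithfullyFlat (colimit C : CommRingCat.{u}) (colimit A : CommRingCat.{u})
  have hflat' : Module.Flat (colimit C : CommRingCat.{u}) (colimit A : CommRingCat.{u}) := hflat
  refine ⟨fun m hm htop => ?_⟩
  rw [Ideal.smul_top_eq_map] at htop
  have h1 : (1 : (colimit A : CommRingCat.{u})) ∈ m.map (colimMap φ).hom := by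
    have : (1 : (colimit A : CommRingCat.{u})) ∈
        (Submodule.restrictScalars (colimit C : CommRingCat.{u})
          (m.map (algebraMap (colimit C : CommRingCat.{u}) (colimit A : CommRingCat.{u})))) := by
      rw [htop]; exact Submodule.mem_top
    exact this
  -- the ideal of elements coming from an extended contracted ideal
  let I : Ideal (colimit A : CommRingCat.{u}) :=
    { carrier := {x | ∃ (j : J) (a : A.obj j),
        a ∈ (m.comap (colimit.ι C j).hom).map (φ.app j).hom ∧ colimit.ι A j a = x}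
      zero_mem' := ⟨Classical.choice IsFiltered.nonempty, 0, Ideal.zero_mem _, map_zero _⟩
      add_mem' := by
        rintro x y ⟨j, a, ha, rfl⟩ ⟨j', a', ha', rfl⟩
        refine ⟨IsFiltered.max j j', A.map (IsFiltered.leftToMax j j') a +
          A.map (IsFiltered.rightToMax j j') a', Ideal.add_mem _ (transport C A φ m _ a ha)
            (transport C A φ m _ a' ha'), ?_⟩
        rw [map_add, ι_map, ι_map]
      smul_mem' := by
        rintro c x ⟨j, a, ha, rfl⟩
        obtain ⟨j', c', rfl⟩ := exists_rep A c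
        refine ⟨IsFiltered.max j j', A.map (IsFiltered.rightToMax j j') c' *
          A.map (IsFiltered.leftToMax j j') a, Ideal.mul_mem_left _ _ (transport C A φ m _ a ha), ?_⟩
        rw [map_mul, ι_map, ι_map, smul_eq_mul] }
  have hI : m.map (colimMap φ).hom ≤ I := by
    rw [Ideal.map_le_iff_le_comap]
    intro c hc
    obtain ⟨j, c', rfl⟩ := exists_rep C c
    refine ⟨j, φ.app j c', Ideal.mem_map_of_mem _ hc, ?_⟩
    rw [ι_φ]
  obtain ⟨j, a, ha, ha1⟩ := hI h1
  have ha1' : colimit.ι A j a = colimit.ι A j 1 := by rw [ha1, map_one]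
  obtain ⟨k, u, hk⟩ := exists_eq_of_rep_eq A j _ _ ha1'
  rw [map_one] at hk
  have hk1 := transport C A φ m u a ha
  rw [hk] at hk1
  have htop' : (m.comap (colimit.ι C k).hom).map (φ.app k).hom = ⊤ := (Ideal.eq_top_iff_one _).mpr hk1
  let _ : Algebra (C.obj k) (A.obj k) := (φ.app k).hom.toAlgebra
  have hffk : Module.FaithfullyFlat (C.obj k) (A.obj k) := h k
  have h2 := Ideal.comap_map_eq_self_of_faithfullyFlat (B := A.obj k) (m.comap (colimit.ι C k).hom)
  have h3 : ((m.comap (colimit.ι C k).hom).map (algebraMap (C.obj k) (A.obj k))) = ⊤ := htop'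
  rw [h3, Ideal.comap_top] at h2
  have h4 : (1 : C.obj k) ∈ m.comap (colimit.ι C k).hom := by rw [← h2]; exact Submodule.mem_top
  rw [Ideal.mem_comap, map_one] at h4
  exact hm.ne_top ((Ideal.eq_top_iff_one _).mpr h4)

section
variable {R M : Type*} [CommRing R] [CommRing M] (ψ : R →+* M)
  {J : Type v} [Category.{w} J] [IsFiltered J]
  (Rj Mj : J → Type*) [∀ j, CommRing (Rj j)] [∀ j, CommRing (Mj j)]
  (φ : ∀ j, Rj j →+* Mj j) (α : ∀ j, Rj j →+* R) (β : ∀ j, Mj j →+* M)
  (tR : ∀ {j k : J} (_ : j ⟶ k), Rj j →+* Rj k) (tM : ∀ {j k : J} (_ : j ⟶ k), Mj j →+* Mj k)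

include tR in
theorem exists_rep_fin_aux (hα : ∀ {j k : J} (u : j ⟶ k) (x : Rj j), α k (tR u x) = α j x)
    (surjR : ∀ r : R, ∃ (j : J) (x : Rj j), α j x = r) {l : ℕ} (x : Fin l → R) :
    ∃ (j : J) (y : Fin l → Rj j), ∀ i, α j (y i) = x i := by
  induction l with
  | zero => exact ⟨Classical.choice IsFiltered.nonempty, Fin.elim0, fun i => i.elim0⟩
  | succ l ih =>
    obtain ⟨j₁, y₁, hy₁⟩ := ih (fun i => x i.succ)
    obtain ⟨j₂, y₂, hy₂⟩ := surjR (x 0)
    refine ⟨IsFiltered.max j₁ j₂, Fin.cons (tR (IsFiltered.rightToMax j₁ j₂) y₂)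
      (fun i => tR (IsFiltered.leftToMax j₁ j₂) (y₁ i)), ?_⟩
    intro i
    refine Fin.cases ?_ (fun i => ?_) i
    · rw [Fin.cons_zero, hα, hy₂]
    · rw [Fin.cons_succ, hα, hy₁]

/-- Flatness of a ring map which is approximated by flat ring maps along a filtered index
category. No functoriality of the transition maps is required. -/
theorem flat_of_approx (hφ : ∀ j, (φ j).Flat)
    (hcomm : ∀ j (x : Rj j), ψ (α j x) = β j (φ j x))
    (hα : ∀ {j k : J} (u : j ⟶ k) (x : Rj j), α k (tR u x) = α j x)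
    (hβ : ∀ {j k : J} (u : j ⟶ k) (x : Mj j), β k (tM u x) = β j x)
    (hφt : ∀ {j k : J} (u : j ⟶ k) (x : Rj j), φ k (tR u x) = tM u (φ j x))
    (surjR : ∀ r : R, ∃ (j : J) (x : Rj j), α j x = r)
    (surjM : ∀ m : M, ∃ (j : J) (x : Mj j), β j x = m)
    (injM : ∀ (j : J) (x : Mj j), β j x = 0 → ∃ (k : J) (u : j ⟶ k), tM u x = 0) :
    ψ.Flat := by
  let _ : Algebra R M := ψ.toAlgebra
  change Module.Flat R M
  rw [Module.Flat.iff_forall_isTrivialRelation]
  intro l f x hfx
  obtain ⟨j₁, fc, hfc⟩ := exists_rep_fin_aux Rj α tR hα surjR f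
  obtain ⟨j₂, xa, hxa⟩ := exists_rep_fin_aux Mj β tM hβ surjM x
  obtain ⟨j, u₁, u₂, -⟩ : ∃ (j : J) (u₁ : j₁ ⟶ j) (u₂ : j₂ ⟶ j), True :=
    ⟨IsFiltered.max j₁ j₂, IsFiltered.leftToMax j₁ j₂, IsFiltered.rightToMax j₁ j₂, trivial⟩
  have hsmul : ∀ (c : R) (a : M), c • a = ψ c * a := fun c a => rfl
  have hrel : β j (∑ i, φ j (tR u₁ (fc i)) * tM u₂ (xa i)) = 0 := by
    rw [map_sum, ← hfx]
    refine Finset.sum_congr rfl fun i _ => ?_
    rw [map_mul, ← hcomm, hα, hβ, hfc, hxa, hsmul]
  obtain ⟨k, g, hk⟩ := injM j _ hrel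
  rw [map_sum] at hk
  let _ : Algebra (Rj k) (Mj k) := (φ k).toAlgebra
  have hflat : Module.Flat (Rj k) (Mj k) := hφ k
  have hsmulk : ∀ (c : Rj k) (a : Mj k), c • a = φ k c * a := fun c a => rfl
  obtain ⟨K, a, y, hy, ha⟩ := Module.Flat.iff_forall_isTrivialRelation.mp hflat
    (f := fun i => tR g (tR u₁ (fc i))) (x := fun i => tM g (tM u₂ (xa i))) (by
      rw [← hk]
      refine Finset.sum_congr rfl fun i _ => ?_
      rw [hsmulk, map_mul, hφt])
  refine ⟨K, fun i t => α k (a i t), fun t => β k (y t), ?_, ?_⟩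
  · intro i
    have hyi : tM g (tM u₂ (xa i)) = ∑ t, a i t • y t := hy i
    change x i = ∑ t, α k (a i t) • β k (y t)
    rw [← hxa i, ← hβ u₂, ← hβ g, hyi, map_sum]
    refine Finset.sum_congr rfl fun t _ => ?_
    rw [hsmulk, map_mul, ← hcomm, hsmul]
  · intro t
    have hat : ∑ i, tR g (tR u₁ (fc i)) * a i t = 0 := ha t
    have := congrArg (α k) hat
    rw [map_sum, map_zero] at this
    change ∑ i, f i * α k (a i t) = 0
    rw [← this]
    refine Finset.sum_congr rfl fun i _ => ?_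
    rw [map_mul, hα, hα, hfc]
end

end Groth.Agent.Lib.Helper10.ColimFlat
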