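import Mathlib
import Groth.Prelude.Def_PBC
import Groth.Agent.Lib.Helper10.ColimFlat

/-!
# Ind-étale algebras (helper10)

* `under_exists_rep`, `under_exists_eq`: element-level description of filtered colimits in
  `Under (CommRingCat.of A)`.
* `weaklyEtale_of_data`: a filtered colimit of étale `A`-algebras is weakly étale.
* `isIndEtale_baseChange_core`: base change of ind-étale is ind-étale (via `CommRingCat.tensorProd`).
-/

set_option autoImplicit false
universe u
open CategoryTheory CategoryTheory.Limits TensorProduct

namespace Groth.Agent.Lib.Helper10.IndEtale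

open Groth.Agent.Lib.Helper10.ColimFlat

section
variable {A : Type u} [CommRing A] {J : Type u} [SmallCategory J] [IsFiltered J]
  (D : J ⥤ Under (CommRingCat.of A)) (c : Cocone D) (hc : IsColimit c)

include hc in
theorem under_exists_rep (x : c.pt.right) :
    ∃ (j : J) (y : (D.obj j).right), (c.ι.app j).right y = x := by
  have : IsConnected J := IsFiltered.isConnected J
  have hc' : IsColimit ((Under.forget _).mapCocone c) := isColimitOfPreserves (Under.forget _) hc
  exact Concrete.isColimit_exists_rep (D ⋙ Under.forget _) hc' x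

include hc in
theorem under_exists_eq (j : J) (a b : (D.obj j).right)
    (h : (c.ι.app j).right a = (c.ι.app j).right b) :
    ∃ (k : J) (u : j ⟶ k), (D.map u).right a = (D.map u).right b := by
  have : IsConnected J := IsFiltered.isConnected J
  have hc' : IsColimit ((Under.forget _).mapCocone c) := isColimitOfPreserves (Under.forget _) hc
  obtain ⟨k, f, g, hfg⟩ := Concrete.isColimit_exists_of_rep_eq (D ⋙ Under.forget _) hc' a b h
  refine ⟨IsFiltered.coeq f g, f ≫ IsFiltered.coeqHom f g, ?_⟩
  have h1 : (D.map (f ≫ IsFiltered.coeqHom f g)).right a =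
      (D.map (IsFiltered.coeqHom f g)).right ((D.map f).right a) := by
    rw [D.map_comp]; rfl
  have h2 : (D.map (f ≫ IsFiltered.coeqHom f g)).right b =
      (D.map (IsFiltered.coeqHom f g)).right ((D.map g).right b) := by
    rw [IsFiltered.coeq_condition, D.map_comp]; rfl
  rw [h1, h2]
  exact congrArg _ hfg

variable {B : Type u} [CommRing B] [Algebra A B]

/-- structure maps commute with transition maps -/
theorem under_w_apply {X Y : Under (CommRingCat.of A)} (f : X ⟶ Y) (a : A) :
    f.right (X.hom a) = Y.hom a := by
  have := Under.w f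
  exact congrArg (fun m => m a) this

include hc in
theorem weaklyEtale_of_data (e : c.pt ≅ Under.mk (CommRingCat.ofHom (algebraMap A B)))
    (hD : ∀ j, letI := (D.obj j).hom.hom.toAlgebra; Algebra.Etale A (D.obj j).right) :
    Algebra.WeaklyEtale A B := by
  let algD : ∀ j, Algebra A (D.obj j).right := fun j => (D.obj j).hom.hom.toAlgebra
  have hD' : ∀ j, Algebra.Etale A (D.obj j).right := hD
  -- the legs into `B`
  let β : ∀ j, (D.obj j).right →+* B := fun j => ((c.ι.app j).right ≫ e.hom.right).hom
  have hβdef : ∀ j (x : (D.obj j).right), β j x = e.hom.right ((c.ι.app j).right x) := fun j x => rfl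
  have hinv : ∀ b : B, e.hom.right (e.inv.right b) = b := by
    intro b
    have : e.inv.right ≫ e.hom.right = 𝟙 _ := by
      rw [← Under.comp_right, e.inv_hom_id]; rfl
    exact congrArg (fun m => m b) this
  have hinv' : ∀ x : c.pt.right, e.inv.right (e.hom.right x) = x := by
    intro b
    have : e.hom.right ≫ e.inv.right = 𝟙 _ := by
      rw [← Under.comp_right, e.hom_inv_id]; rfl
    exact congrArg (fun m => m b) this
  let tM : ∀ {j k : J} (_ : j ⟶ k), (D.obj j).right →+* (D.obj k).right := fun u => (D.map u).right.hom
  have hβ : ∀ {j k : J} (u : j ⟶ k) (x : (D.obj j).right), β k (tM u x) = β j x := by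
    intro j k u x
    rw [hβdef, hβdef]
    congr 1
    have := c.w u
    exact congrArg (fun m => m.right x) this
  have hβalg : ∀ j (a : A), β j (algebraMap A (D.obj j).right a) = algebraMap A B a := by
    intro j a
    rw [hβdef]
    change e.hom.right ((c.ι.app j).right ((D.obj j).hom a)) = _
    rw [under_w_apply]
    exact under_w_apply e.hom a
  have htalg : ∀ {j k : J} (u : j ⟶ k) (a : A),
      tM u (algebraMap A (D.obj j).right a) = algebraMap A (D.obj k).right a := by
    intro j k u a
    exact under_w_apply (D.map u) a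
  have surjM : ∀ m : B, ∃ (j : J) (x : (D.obj j).right), β j x = m := by
    intro m
    obtain ⟨j, y, hy⟩ := under_exists_rep D c hc (e.inv.right m)
    exact ⟨j, y, by rw [hβdef, hy, hinv]⟩
  have injM : ∀ (j : J) (x : (D.obj j).right), β j x = 0 → ∃ (k : J) (u : j ⟶ k), tM u x = 0 := by
    intro j x hx
    have h1 : (c.ι.app j).right x = (c.ι.app j).right 0 := by
      rw [map_zero, ← hinv' ((c.ι.app j).right x), ← hβdef, hx, map_zero]
    obtain ⟨k, u, hu⟩ := under_exists_eq D c hc j x 0 h1
    exact ⟨k, u, by rw [show tM u x = (D.map u).right x from rfl, hu, map_zero]⟩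
  -- (a) flatness of `A → B`
  have hflatAB : (algebraMap A B).Flat := by
    refine flat_of_approx (algebraMap A B) (J := J) (fun _ => A) (fun j => (D.obj j).right)
      (fun j => algebraMap A (D.obj j).right) (fun _ => RingHom.id A) β
      (fun _ => RingHom.id A) (fun u => tM u) ?_ ?_ ?_ ?_ ?_ ?_ surjM injM
    · intro j
      change Module.Flat A (D.obj j).right
      infer_instance
    · intro j x
      exact (hβalg j x).symm
    · intro j k u x
      rfl
    · intro j k u x
      exact hβ u x
    · intro j k u x
      exact (htalg u x).symm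
    · intro r
      exact ⟨Classical.choice IsFiltered.nonempty, r, rfl⟩
  have hflatAB' : Module.Flat A B := by
    have := hflatAB
    rwa [RingHom.flat_algebraMap_iff] at this
  -- algebra homs
  let βA : ∀ j, (D.obj j).right →ₐ[A] B := fun j => { β j with commutes' := hβalg j }
  let tA : ∀ {j k : J} (_ : j ⟶ k), (D.obj j).right →ₐ[A] (D.obj k).right :=
    fun u => { tM u with commutes' := htalg u }
  have hβA : ∀ {j k : J} (u : j ⟶ k), (βA k).comp (tA u) = βA j := by
    intro j k u
    ext x
    exact hβ u x
  refine { flat := hflatAB', flat_lmul' := ?_ }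
  refine flat_of_approx (Algebra.TensorProduct.lmul' A (S := B)).toRingHom (J := J)
    (fun j => (D.obj j).right ⊗[A] (D.obj j).right) (fun j => (D.obj j).right)
    (fun j => (Algebra.TensorProduct.lmul' A (S := (D.obj j).right)).toRingHom)
    (fun j => (Algebra.TensorProduct.map (βA j) (βA j)).toRingHom) β
    (fun u => (Algebra.TensorProduct.map (tA u) (tA u)).toRingHom) (fun u => tM u)
    ?_ ?_ ?_ ?_ ?_ ?_ surjM injM
  · intro j
    exact Algebra.WeaklyEtale.flat_lmul' A (D.obj j).right
  · intro j x
    induction x using TensorProduct.induction_on with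
    | zero => simp
    | tmul a b =>
      simp only [AlgHom.toRingHom_eq_coe, RingHom.coe_coe, Algebra.TensorProduct.map_tmul,
        Algebra.TensorProduct.lmul'_apply_tmul]
      exact (map_mul (β j) a b).symm
    | add x y hx hy => simp only [map_add, hx, hy]
  · intro j k u x
    change (Algebra.TensorProduct.map (βA k) (βA k)) ((Algebra.TensorProduct.map (tA u) (tA u)) x) = _
    rw [← AlgHom.comp_apply, ← Algebra.TensorProduct.map_comp, hβA]
    rfl
  · intro j k u x
    exact hβ u x
  · intro j k u x
    induction x using TensorProduct.induction_on with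
    | zero => simp
    | tmul a b =>
      simp only [AlgHom.toRingHom_eq_coe, RingHom.coe_coe, Algebra.TensorProduct.map_tmul,
        Algebra.TensorProduct.lmul'_apply_tmul]
      exact (map_mul (tM u) a b).symm
    | add x y hx hy => simp only [map_add, hx, hy]
  · intro r
    induction r using TensorProduct.induction_on with
    | zero => exact ⟨Classical.choice IsFiltered.nonempty, 0, map_zero _⟩
    | tmul a b =>
      obtain ⟨j₁, x₁, rfl⟩ := surjM a
      obtain ⟨j₂, x₂, rfl⟩ := surjM b
      refine ⟨IsFiltered.max j₁ j₂, (tA (IsFiltered.leftToMax j₁ j₂) x₁) ⊗ₜ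
        (tA (IsFiltered.rightToMax j₁ j₂) x₂), ?_⟩
      simp only [AlgHom.toRingHom_eq_coe, RingHom.coe_coe, Algebra.TensorProduct.map_tmul]
      congr 1
      · exact hβ _ x₁
      · exact hβ _ x₂
    | add x y hx hy =>
      obtain ⟨j₁, x₁, rfl⟩ := hx
      obtain ⟨j₂, x₂, rfl⟩ := hy
      refine ⟨IsFiltered.max j₁ j₂,
        (Algebra.TensorProduct.map (tA (IsFiltered.leftToMax j₁ j₂)) (tA (IsFiltered.leftToMax j₁ j₂))) x₁ +
        (Algebra.TensorProduct.map (tA (IsFiltered.rightToMax j₁ j₂)) (tA (IsFiltered.rightToMax j₁ j₂))) x₂, ?_⟩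
      simp only [AlgHom.toRingHom_eq_coe, RingHom.coe_coe, map_add]
      congr 1
      · rw [← AlgHom.comp_apply, ← Algebra.TensorProduct.map_comp, hβA]
      · rw [← AlgHom.comp_apply, ← Algebra.TensorProduct.map_comp, hβA]
end

/-- base change of an ind-étale algebra (for the algebra structure `φ₀.toAlgebra`) -/
theorem isIndEtale_baseChange_core (A A' B : Type u) [CommRing A] [CommRing A'] [CommRing B]
    [Algebra A A'] (φ₀ : A →+* B) :
    letI := φ₀.toAlgebra
    EtPBC.IsIndEtale A B → EtPBC.IsIndEtale A' (A' ⊗[A] B) := by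
  intro h
  obtain ⟨J, hJ1, hJ2, D, c, hc, hD, ⟨e⟩⟩ := h
  let _ : Algebra (CommRingCat.of A) (CommRingCat.of A') := inferInstanceAs (Algebra A A')
  let T : Under (CommRingCat.of A) ⥤ Under (CommRingCat.of A') :=
    CommRingCat.tensorProd (CommRingCat.of A) (CommRingCat.of A')
  have hpres : PreservesColimitsOfSize.{u, u} T := by
    have h1 : PreservesColimitsOfSize.{u, u}
        (Under.pushout (CommRingCat.ofHom (algebraMap (CommRingCat.of A) (CommRingCat.of A')))) :=
      (Under.mapPushoutAdj _).leftAdjoint_preservesColimits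
    exact preservesColimits_of_natIso
      (CommRingCat.tensorProdIsoPushout (CommRingCat.of A) (CommRingCat.of A')).symm
  refine ⟨J, hJ1, hJ2, D ⋙ T, T.mapCocone c, isColimitOfPreserves T hc, ?_, ?_⟩
  · intro j
    let _ : Algebra A (D.obj j).right := (D.obj j).hom.hom.toAlgebra
    have hj : Algebra.Etale A (D.obj j).right := hD j
    change @Algebra.Etale A' (A' ⊗[A] (D.obj j).right) _ _
      (RingHom.toAlgebra (algebraMap A' (A' ⊗[A] (D.obj j).right)))
    have : RingHom.toAlgebra (algebraMap A' (A' ⊗[A] (D.obj j).right)) =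
        Algebra.TensorProduct.leftAlgebra := Algebra.algebra_ext _ _ (fun _ => rfl)
    rw [this]
    infer_instance
  · exact ⟨T.mapIso e⟩

end Groth.Agent.Lib.Helper10.IndEtale
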