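import Mathlib
import Groth.Agent.Lib.Helper10.HomSp1
import Groth.Agent.Lib.Helper10.FlatPt2

/-!
# The largest open on which a homomorphism of group schemes is universally open
(SGA3 VI_B 2.2-type statements)
-/

set_option autoImplicit false
set_option backward.isDefEq.respectTransparency.types false
set_option maxHeartbeats 4000000
set_option synthInstance.maxHeartbeats 400000

universe u

open CategoryTheory CategoryTheory.Limits AlgebraicGeometry MonoidalCategory
  CartesianMonoidalCategory MonObj GrpObj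

namespace Groth.Agent.Lib.Helper10.MaxOpen

open Groth.Agent.Lib.Helper10.HomSp Groth.Agent.Lib.Helper10.GrpTranslate

/-- if `f` is surjective and `f ≫ g` is universally open then `g` is universally open. -/
theorem universallyOpen_of_comp_surjective {X Y Z : Scheme.{u}} (f : X ⟶ Y) (g : Y ⟶ Z)
    [Surjective f] (hfg : UniversallyOpen (f ≫ g)) : UniversallyOpen g := by
  rw [UniversallyOpen.eq]
  intro Y' Z' i₁ i₂ g' sq
  have sq' : IsPullback (pullback.snd f i₁) (pullback.fst f i₁) i₁ f :=
    (IsPullback.of_hasPullback f i₁).flip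
  have sq'' : IsPullback (pullback.snd f i₁ ≫ g') (pullback.fst f i₁) i₂ (f ≫ g) :=
    sq'.paste_horiz sq
  have ho : UniversallyOpen (pullback.snd f i₁ ≫ g') :=
    MorphismProperty.of_isPullback (P := @UniversallyOpen) sq''.flip hfg
  intro U hU
  have hs : Function.Surjective (pullback.snd f i₁) := (pullback.snd f i₁).surjective
  have e : g' '' U = (pullback.snd f i₁ ≫ g') '' ((pullback.snd f i₁) ⁻¹' U) := by
    ext z
    constructor
    · rintro ⟨y, hy, rfl⟩
      obtain ⟨x, rfl⟩ := hs y
      exact ⟨x, hy, by rw [Scheme.Hom.comp_apply]⟩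
    · rintro ⟨x, hx, rfl⟩
      exact ⟨pullback.snd f i₁ x, hx, by rw [Scheme.Hom.comp_apply]⟩
  show IsOpen (g' '' U)
  rw [e]
  exact (pullback.snd f i₁ ≫ g').isOpenMap _ (hU.preimage (pullback.snd f i₁).continuous)

variable {S : Scheme.{u}} {G H : Over S} [GrpObj G] [GrpObj H] (u : G ⟶ H) [IsMonHom u]

theorem transl_whiskerLeft {T : Over S} (p : T ⟶ G) :
    transl p ≫ (T ◁ u) = (T ◁ u) ≫ transl (p ≫ u) := by
  apply CartesianMonoidalCategory.hom_ext
  · rw [Category.assoc, Category.assoc, whiskerLeft_fst, transl_fst, transl_fst, whiskerLeft_fst]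
  · rw [Category.assoc, Category.assoc, whiskerLeft_snd, ← Category.assoc, transl_snd, transl_snd,
      MonObj.mul_comp, MonObj.comp_mul, whiskerLeft_snd, ← Category.assoc (T ◁ u),
      whiskerLeft_fst, Category.assoc]

/-- key lemma: the maximal open of universal openness is stable under translations by `T`-points
for `T` universally open over `S`. -/
theorem snd_mem_of_transl_mem {T : Over S} (hT : UniversallyOpen T.hom) (p : T ⟶ G)
    (V : G.left.Opens) (hV : UniversallyOpen (V.ι ≫ u.left))
    (hmax : ∀ W : G.left.Opens, UniversallyOpen (W.ι ≫ u.left) → W ≤ V)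
    (y : (T ⊗ G).left) (hy : (transl p ≫ snd T G).left y ∈ V) : (snd T G).left y ∈ V := by
  let W₂ : (T ⊗ G).left.Opens := (snd T G).left ⁻¹ᵁ V
  let W₃ : (T ⊗ G).left.Opens := (transl p).left ⁻¹ᵁ W₂
  have h1 : UniversallyOpen (W₂.ι ≫ (T ◁ u).left) := by
    have sqA : IsPullback W₂.ι ((snd T G).left ∣_ V) (snd T G).left V.ι :=
      (isPullback_morphismRestrict (snd T G).left V).flip
    have sqB : IsPullback (T ◁ u).left (snd T G).left (snd T H).left u.left :=
      (isPullback_whiskerLeft_snd T u).map (Over.forget S)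
    have sqC := sqA.paste_horiz sqB
    exact MorphismProperty.of_isPullback (P := @UniversallyOpen) sqC.flip hV
  have h2 : UniversallyOpen (W₃.ι ≫ (T ◁ u).left) := by
    haveI : IsIso (transl (p ≫ u)).left :=
      inferInstanceAs (IsIso ((Over.forget _).map (transl (p ≫ u))))
    haveI : IsIso (transl p).left :=
      inferInstanceAs (IsIso ((Over.forget _).map (transl p)))
    have e : W₃.ι ≫ (T ◁ u).left =
        ((transl p).left ∣_ W₂) ≫ (W₂.ι ≫ (T ◁ u).left) ≫ inv (transl (p ≫ u)).left := by
      rw [← Category.assoc, ← Category.assoc, IsIso.eq_comp_inv, morphismRestrict_ι,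
        Category.assoc, Category.assoc, ← Over.comp_left, ← Over.comp_left, transl_whiskerLeft]
    rw [e]
    infer_instance
  haveI : UniversallyOpen (snd T G).left := by
    rw [Over.snd_left]; infer_instance
  haveI : UniversallyOpen (snd T H).left := by
    rw [Over.snd_left]; infer_instance
  let O : G.left.Opens := ⟨(snd T G).left '' (W₃ : Set (T ⊗ G).left),
    (snd T G).left.isOpenMap _ W₃.isOpen⟩
  have hr : Set.range (W₃.ι ≫ (snd T G).left) ⊆ Set.range O.ι := by
    rw [Scheme.Opens.range_ι]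
    rintro _ ⟨w, rfl⟩
    rw [Scheme.Hom.comp_apply]
    exact ⟨W₃.ι w, w.2, rfl⟩
  let r : W₃.toScheme ⟶ O.toScheme := IsOpenImmersion.lift O.ι (W₃.ι ≫ (snd T G).left) hr
  have hrf : r ≫ O.ι = W₃.ι ≫ (snd T G).left := IsOpenImmersion.lift_fac _ _ _
  haveI : Surjective r := by
    refine ⟨fun o => ?_⟩
    obtain ⟨w, hw, hwo⟩ : (O.ι o) ∈ (snd T G).left '' (W₃ : Set (T ⊗ G).left) := o.2
    refine ⟨⟨w, hw⟩, ?_⟩
    apply O.ι.injective
    rw [← Scheme.Hom.comp_apply, hrf, Scheme.Hom.comp_apply]
    exact hwo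
  have h3 : UniversallyOpen (r ≫ (O.ι ≫ u.left)) := by
    have e : r ≫ (O.ι ≫ u.left) = (W₃.ι ≫ (T ◁ u).left) ≫ (snd T H).left := by
      rw [← Category.assoc, hrf, Category.assoc, Category.assoc, ← Over.comp_left,
        ← Over.comp_left, whiskerLeft_snd]
    rw [e]
    infer_instance
  have h4 : UniversallyOpen (O.ι ≫ u.left) := universallyOpen_of_comp_surjective r _ h3
  have h5 : O ≤ V := hmax O h4
  have hy3 : y ∈ W₃ := by
    show (snd T G).left ((transl p).left y) ∈ V
    rw [← Scheme.Hom.comp_apply, ← Over.comp_left]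
    exact hy
  exact h5 ⟨y, hy3, rfl⟩

/-- stability under inversion. -/
theorem inv_mem (V : G.left.Opens) (hV : UniversallyOpen (V.ι ≫ u.left))
    (hmax : ∀ W : G.left.Opens, UniversallyOpen (W.ι ≫ u.left) → W ≤ V)
    (g : G.left) (hg : g ∈ V) : ι[G].left g ∈ V := by
  haveI : IsIso ι[G].left := inferInstanceAs (IsIso ((Over.forget _).map ι[G]))
  haveI : IsIso ι[H].left := inferInstanceAs (IsIso ((Over.forget _).map ι[H]))
  let V' : G.left.Opens := ι[G].left ⁻¹ᵁ V
  have hu : ι[G] ≫ u ≫ ι[H] = u := by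
    have h1 : ι[G] ≫ u = u ≫ ι[H] := GrpObj.inv_hom u
    rw [← Category.assoc, h1, Category.assoc]
    have h2 : ι[H] ≫ ι[H] = 𝟙 H := GrpObj.inv_comp_inv H
    rw [h2, Category.comp_id]
  have e : V'.ι ≫ u.left = (ι[G].left ∣_ V) ≫ (V.ι ≫ u.left) ≫ ι[H].left := by
    rw [← Category.assoc, ← Category.assoc, morphismRestrict_ι, Category.assoc, Category.assoc,
      ← Over.comp_left, ← Over.comp_left, hu]
  have h : UniversallyOpen (V'.ι ≫ u.left) := by
    rw [e]; infer_instance
  have hle := hmax V' h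
  have hgg : ι[G].left g ∈ V' := by
    show ι[G].left (ι[G].left g) ∈ V
    rw [← Scheme.Hom.comp_apply, ← Over.comp_left, GrpObj.inv_comp_inv, Over.id_left]
    exact hg
  exact hle hgg

/-- stability under multiplication. -/
theorem mul_mem (V : G.left.Opens) (hVS : UniversallyOpen (V.ι ≫ G.hom))
    (hV : UniversallyOpen (V.ι ≫ u.left))
    (hmax : ∀ W : G.left.Opens, UniversallyOpen (W.ι ≫ u.left) → W ≤ V)
    (z : (G ⊗ G).left) (h1 : (fst G G).left z ∈ V) (h2 : (snd G G).left z ∈ V) :
    μ[G].left z ∈ V := by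
  let T : Over S := Over.mk (V.ι ≫ G.hom)
  let j : T ⟶ G := Over.homMk V.ι rfl
  have sq : IsPullback (j ▷ G).left (fst T G).left (fst G G).left j.left :=
    (isPullback_whiskerRight_fst j G).map (Over.forget S)
  obtain ⟨z', hz1, -⟩ := FlatPt.exists_preimage_of_isPullback sq z ⟨(fst G G).left z, h1⟩ rfl
  have key := snd_mem_of_transl_mem u (T := T) hVS j⁻¹ V hV hmax ((transl j).left z') (by
    rw [← Scheme.Hom.comp_apply, ← Over.comp_left, ← Category.assoc, transl_comp,
      inv_mul_cancel, transl_one, Category.id_comp]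
    have : (snd T G).left z' = (snd G G).left z := by
      rw [← hz1, ← Scheme.Hom.comp_apply, ← Over.comp_left, whiskerRight_snd]
    rw [this]
    exact h2)
  have e : transl j ≫ snd T G = (j ▷ G) ≫ μ[G] := by
    rw [transl_snd, Hom.mul_def]
    congr 1
  rw [← Scheme.Hom.comp_apply, ← Over.comp_left, e, Over.comp_left, Scheme.Hom.comp_apply,
    hz1] at key
  exact key

/-- the maximal open on which a homomorphism is universally open is an open subgroup. -/
theorem maxOpen_isSubgroup (hG : UniversallyOpen G.hom ∨ UniversallyOpen H.hom)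
    (V : G.left.Opens) (hV : UniversallyOpen (V.ι ≫ u.left))
    (hmax : ∀ W : G.left.Opens, UniversallyOpen (W.ι ≫ u.left) → W ≤ V) :
    IsOpen (G.hom.base '' (V : Set G.left)) ∧
    (∀ g ∈ V, ∀ p : ↥(𝟙_ (Over S)).left, (𝟙_ (Over S)).hom.base p = G.hom.base g →
      η[G].left.base p ∈ V) ∧
    (∀ g ∈ V, ι[G].left.base g ∈ V) ∧
    (∀ z : ↥(G ⊗ G).left, (fst G G).left.base z ∈ V → (snd G G).left.base z ∈ V →
      μ[G].left.base z ∈ V) := by
  have hVS : UniversallyOpen (V.ι ≫ G.hom) := by
    rcases hG with hG | hH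
    · infer_instance
    · have : V.ι ≫ G.hom = (V.ι ≫ u.left) ≫ H.hom := by rw [Category.assoc, Over.w]
      rw [this]; infer_instance
  have hinv := inv_mem u V hV hmax
  have hmul := mul_mem u V hVS hV hmax
  refine ⟨?_, ?_, hinv, hmul⟩
  · have : G.hom.base '' (V : Set G.left) = Set.range (V.ι ≫ G.hom) := by
      rw [Scheme.Hom.comp_base, TopCat.coe_comp, Set.range_comp]
      congr 1
      exact (Scheme.Opens.range_ι V).symm
    rw [this]
    exact (V.ι ≫ G.hom).isOpenMap.isOpen_range
  · intro g hg p hp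
    let z : (G ⊗ G).left := (lift (𝟙 G) ι[G]).left g
    have hz1 : (fst G G).left z = g := by
      show (fst G G).left ((lift (𝟙 G) ι[G]).left g) = g
      rw [← Scheme.Hom.comp_apply, ← Over.comp_left, lift_fst, Over.id_left]
      rfl
    have hz2 : (snd G G).left z = ι[G].left g := by
      show (snd G G).left ((lift (𝟙 G) ι[G]).left g) = _
      rw [← Scheme.Hom.comp_apply, ← Over.comp_left, lift_snd]
    have hz := hmul z (by rw [hz1]; exact hg) (by rw [hz2]; exact hinv g hg)
    have hμ : μ[G].left z = η[G].left ((toUnit G).left g) := by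
      show μ[G].left ((lift (𝟙 G) ι[G]).left g) = _
      rw [← Scheme.Hom.comp_apply, ← Scheme.Hom.comp_apply, ← Over.comp_left, ← Over.comp_left,
        GrpObj.right_inv]
    have hp' : (toUnit G).left g = p := by
      rw [Over.toUnit_left]
      have h0 : (𝟙_ (Over S)).hom = 𝟙 S := Over.tensorUnit_hom
      rw [h0] at hp
      exact hp.symm
    rw [hμ, hp'] at hz
    exact hz

end Groth.Agent.Lib.Helper10.MaxOpen
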