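import Mathlib
import Groth.Prelude.Def_AbDual
import Groth.Agent.Lib.Helper25.AbSchPow3
import Groth.Agent.S17448

/-!
# Torsion points over henselian local rings: multiplication by an invertible integer is étale
-/

set_option autoImplicit false
set_option linter.style.haveILetI false
set_option linter.unusedSectionVars false
universe u
open CategoryTheory CategoryTheory.Limits MonoidalCategory CartesianMonoidalCategory MonObj GrpObj
  AlgebraicGeometry

namespace Groth.Agent.Lib.Helper10.HensTors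

open Groth.Agent.Lib.Helper25.AbSchPow

set_option backward.isDefEq.respectTransparency.types false in
/-- On a commutative flat finitely presented group scheme, multiplication by an integer
invertible on the base is étale. -/
theorem etale_zpow {S : Scheme.{u}} (X : Over S) [GrpObj X] [IsCommMonObj X]
    [Flat X.hom] [LocallyOfFinitePresentation X.hom] [QuasiCompact X.hom]
    (n : ℤ) (hn : IsUnit (n : Γ(S, ⊤))) :
    Etale ((𝟙 X : X ⟶ X) ^ n).left := by
  rw [Groth.Agent.S2763.result X.hom X.hom ((𝟙 X : X ⟶ X) ^ n).left (Over.w _)]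
  intro s
  let h := S.fromSpecResidueField s
  let Xs : Over (Spec (S.residueField s)) := (Over.pullback h).obj X
  letI : GrpObj Xs := Functor.grpObjObj
  haveI : IsCommMonObj Xs := inferInstance
  have hXs : Xs.hom = pullback.snd X.hom h := rfl
  haveI : LocallyOfFiniteType Xs.hom := by rw [hXs]; infer_instance
  haveI : QuasiCompact Xs.hom := by rw [hXs]; infer_instance
  have hd : ((n : ℤ) : S.residueField s) ≠ 0 := by
    let ψ : Γ(S, ⊤) ⟶ S.residueField s := h.appTop ≫ (Scheme.ΓSpecIso _).hom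
    have h1 : IsUnit (ψ.hom (n : Γ(S, ⊤))) := hn.map ψ.hom
    rw [map_intCast] at h1
    exact h1.ne_zero
  have hE : Etale ((𝟙 Xs : Xs ⟶ Xs) ^ n).left :=
    etale_zpow_of_ne_zero (k := S.residueField s) Xs n hd
  have hmap : (Over.pullback h).map ((𝟙 X : X ⟶ X) ^ n) = (𝟙 Xs : Xs ⟶ Xs) ^ n := by
    rw [map_zpow_eq, (Over.pullback h).map_id]
  have sq := (isPullback_map_left h ((𝟙 X : X ⟶ X) ^ n)).flip
  rw [hmap] at sq
  have e2 : pullback.snd ((𝟙 X : X ⟶ X) ^ n).left (pullback.fst X.hom h) =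
      sq.isoPullback.inv ≫ ((𝟙 Xs : Xs ⟶ Xs) ^ n).left := by
    rw [Iso.eq_inv_comp]
    exact sq.isoPullback_hom_snd
  change Etale (pullback.snd ((𝟙 X : X ⟶ X) ^ n).left (pullback.fst X.hom h))
  rw [e2]
  infer_instance

section lift
variable (R : Type u) [CommRing R] [HenselianLocalRing R]
  (G : Over (Spec (CommRingCat.of R))) [GrpObj G] [IsCommMonObj G]
  [Smooth G.hom] [IsSeparated G.hom] [QuasiCompact G.hom]

theorem one_left (T : Over (Spec (CommRingCat.of R))) :
    (1 : T ⟶ G).left = T.hom ≫ η[G].left := rfl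

theorem pow_left (T : Over (Spec (CommRingCat.of R))) (a : T ⟶ G) (N : ℕ) :
    (a ^ N).left = a.left ≫ ((𝟙 G : G ⟶ G) ^ N).left := by
  rw [← Over.comp_left, MonObj.comp_pow, Category.comp_id]

set_option backward.isDefEq.respectTransparency.types false in
theorem torsion_lift (N : ℕ) (hN : IsUnit (N : R))
    (τ : Over.mk (Spec.map (CommRingCat.ofHom (IsLocalRing.residue R))) ⟶ G)
    (hτ : τ ^ N = 1) :
    ∃! σ : Over.mk (𝟙 (Spec (CommRingCat.of R))) ⟶ G,
      σ ^ N = 1 ∧
        Over.homMk (Spec.map (CommRingCat.ofHom (IsLocalRing.residue R))) (Category.comp_id _) ≫ σ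
          = τ := by
  let S := Spec (CommRingCat.of R)
  let res : Spec (CommRingCat.of (IsLocalRing.ResidueField R)) ⟶ S :=
    Spec.map (CommRingCat.ofHom (IsLocalRing.residue R))
  let φ : G.left ⟶ G.left := ((𝟙 G : G ⟶ G) ^ N).left
  let e : S ⟶ G.left := η[G].left
  have he : e ≫ G.hom = 𝟙 S := Over.w η[G]
  have hφ : φ ≫ G.hom = G.hom := Over.w _
  haveI : Etale φ := by
    have hu : IsUnit (((N : ℤ)) : Γ(S, ⊤)) := by
      have h1 : IsUnit ((Scheme.ΓSpecIso (CommRingCat.of R)).inv.hom (N : R)) := hN.map _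
      rw [map_natCast] at h1
      rw [Int.cast_natCast]
      exact h1
    have := etale_zpow G (N : ℤ) hu
    rw [zpow_natCast] at this
    exact this
  haveI : IsClosedImmersion e := by
    haveI : IsClosedImmersion (e ≫ G.hom) := by rw [he]; infer_instance
    exact IsClosedImmersion.of_comp e G.hom
  let f : pullback φ e ⟶ S := pullback.snd φ e
  have hf : f = pullback.fst φ e ≫ G.hom := by
    calc f = pullback.snd φ e ≫ e ≫ G.hom := by rw [he, Category.comp_id]
      _ = (pullback.fst φ e ≫ φ) ≫ G.hom := by rw [pullback.condition, Category.assoc]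
      _ = pullback.fst φ e ≫ G.hom := by rw [Category.assoc, hφ]
  haveI : Etale f := inferInstanceAs (Etale (pullback.snd φ e))
  haveI : IsSeparated f := by rw [hf]; infer_instance
  haveI : QuasiCompact f := by rw [hf]; infer_instance
  haveI : LocallyQuasiFinite f := Groth.Agent.Lib.Helper14.AS.etale_locallyQuasiFinite f
  -- the point of the kernel
  have hτw : τ.left ≫ G.hom = res := Over.w τ
  have hτφ : τ.left ≫ φ = res ≫ e := by
    have h1 : (τ ^ N).left = (1 : Over.mk res ⟶ G).left := congrArg (fun k => k.left) hτ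
    rw [pow_left, one_left] at h1
    exact h1
  let t : Spec (CommRingCat.of (IsLocalRing.ResidueField R)) ⟶ pullback φ e :=
    pullback.lift τ.left res hτφ
  have ht : t ≫ f = res := pullback.lift_snd _ _ _
  obtain ⟨s, ⟨hs1, hs2⟩, hsu⟩ := Groth.Agent.S17448.result R f t ht
  have hsG : (s ≫ pullback.fst φ e) ≫ G.hom = 𝟙 S := by
    rw [Category.assoc, ← hf]; exact hs1
  let σ : Over.mk (𝟙 S) ⟶ G := Over.homMk (s ≫ pullback.fst φ e) hsG
  refine ⟨σ, ⟨?_, ?_⟩, ?_⟩
  · ext1
    rw [pow_left, one_left]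
    change (s ≫ pullback.fst φ e) ≫ φ = 𝟙 S ≫ e
    rw [Category.assoc, pullback.condition, ← Category.assoc]
    change (s ≫ f) ≫ e = _
    rw [hs1]
  · ext1
    change res ≫ s ≫ pullback.fst φ e = τ.left
    rw [← Category.assoc, hs2]
    exact pullback.lift_fst _ _ _
  · rintro σ' ⟨hσ1, hσ2⟩
    have hσw : σ'.left ≫ G.hom = 𝟙 S := Over.w σ'
    have hσφ : σ'.left ≫ φ = 𝟙 S ≫ e := by
      have h1 : (σ' ^ N).left = (1 : Over.mk (𝟙 S) ⟶ G).left := congrArg (fun k => k.left) hσ1
      rw [pow_left, one_left] at h1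
      exact h1
    let s' : S ⟶ pullback φ e := pullback.lift σ'.left (𝟙 S) hσφ
    have hs'1 : s' ≫ f = 𝟙 S := pullback.lift_snd _ _ _
    have hs'2 : res ≫ s' = t := by
      apply pullback.hom_ext
      · rw [Category.assoc, pullback.lift_fst, pullback.lift_fst]
        exact congrArg (fun k => k.left) hσ2
      · rw [Category.assoc, pullback.lift_snd, pullback.lift_snd, Category.comp_id]
    have := hsu s' ⟨hs'1, hs'2⟩
    ext1
    change σ'.left = s ≫ pullback.fst φ e
    rw [← this]
    exact (pullback.lift_fst _ _ _).symm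

theorem torsion_lift' (N : ℕ) (hN : IsUnit (N : R))
    (τ : Over.mk (Spec.map (CommRingCat.ofHom (IsLocalRing.residue R))) ⟶ G)
    (hτ : τ ∈ AbDual.torsPts G N (Over.mk (Spec.map (CommRingCat.ofHom (IsLocalRing.residue R))))) :
    ∃! σ : Over.mk (𝟙 (Spec (CommRingCat.of R))) ⟶ G,
      σ ∈ AbDual.torsPts G N (Over.mk (𝟙 (Spec (CommRingCat.of R)))) ∧
        Over.homMk (Spec.map (CommRingCat.ofHom (IsLocalRing.residue R))) (Category.comp_id _) ≫ σ
          = τ := by
  have hτ' : τ ^ N = 1 := (AbDual.mem_torsPts G τ).mp hτ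
  obtain ⟨σ, ⟨h1, h2⟩, hu⟩ := torsion_lift R G N hN τ hτ'
  refine ⟨σ, ⟨(AbDual.mem_torsPts G σ).mpr h1, h2⟩, ?_⟩
  rintro σ' ⟨h1', h2'⟩
  exact hu σ' ⟨(AbDual.mem_torsPts G σ').mp h1', h2'⟩

end lift

end Groth.Agent.Lib.Helper10.HensTors
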