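import Mathlib
import Groth.Agent.Lib.Helper10.HensTors1

/-!
# Points of finite schemes over an affine base: finiteness, extension from the fraction field,
and rigidity of sections of unramified morphisms over a local base
-/

set_option autoImplicit false
set_option linter.style.haveILetI false
set_option linter.unusedSectionVars false
universe u
open CategoryTheory CategoryTheory.Limits AlgebraicGeometry

namespace Groth.Agent.Lib.Helper10.AbSchTors

section aff
variable {R : Type u} [CommRing R] {N : Scheme.{u}} (f : N ⟶ Spec (CommRingCat.of R)) [IsFinite f]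

/-- A finite scheme over `Spec R` has finitely many points with values in a field over `R`. -/
theorem finite_pts (L : Type u) [Field L] (α : R →+* L) :
    Finite {t : Spec (CommRingCat.of L) ⟶ N // t ≫ f = Spec.map (CommRingCat.ofHom α)} := by
  haveI : IsAffine N := isAffine_of_isAffineHom f
  let B : CommRingCat.{u} := Γ(N, ⊤)
  let e : N ≅ Spec B := N.isoSpec
  let φ : CommRingCat.of R ⟶ B := Spec.preimage (e.inv ≫ f)
  have hφ : Spec.map φ = e.inv ≫ f := Spec.map_preimage _
  haveI : IsFinite (Spec.map φ) := by rw [hφ]; infer_instance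
  have hfin : φ.hom.Finite := (IsFinite.SpecMap_iff φ).mp inferInstance
  letI : Algebra R B := φ.hom.toAlgebra
  letI : Algebra R L := α.toAlgebra
  haveI : Module.Finite R B := hfin
  have key : ∀ t : {t : Spec (CommRingCat.of L) ⟶ N // t ≫ f = Spec.map (CommRingCat.ofHom α)},
      φ ≫ Spec.preimage (t.1 ≫ e.hom) = CommRingCat.ofHom α := by
    intro t
    apply Spec.map_injective
    rw [Spec.map_comp, Spec.map_preimage, hφ, Category.assoc, Iso.hom_inv_id_assoc]
    exact t.2
  let F : {t : Spec (CommRingCat.of L) ⟶ N // t ≫ f = Spec.map (CommRingCat.ofHom α)} →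
      (B →ₐ[R] L) := fun t =>
    { toRingHom := (Spec.preimage (t.1 ≫ e.hom)).hom
      commutes' := fun r => by
        have := congrArg (fun k => k.hom r) (key t)
        exact this }
  have hF : Function.Injective F := by
    intro t t' h
    have h1 : (Spec.preimage (t.1 ≫ e.hom)).hom = (Spec.preimage (t'.1 ≫ e.hom)).hom :=
      congrArg (fun k : B →ₐ[R] L => k.toRingHom) h
    have h2 : Spec.preimage (t.1 ≫ e.hom) = Spec.preimage (t'.1 ≫ e.hom) := by
      ext1; exact h1
    have h3 := congrArg Spec.map h2
    rw [Spec.map_preimage, Spec.map_preimage] at h3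
    apply Subtype.ext
    exact (cancel_mono e.hom).mp h3
  exact Finite.of_injective F hF

/-- Over an integrally closed domain, points of a finite scheme with values in the fraction field
extend to sections. -/
theorem exists_section_of_fractionRing [IsDomain R] [IsIntegrallyClosed R]
    (K : Type u) [Field K] [Algebra R K] [IsFractionRing R K]
    (t : Spec (CommRingCat.of K) ⟶ N)
    (ht : t ≫ f = Spec.map (CommRingCat.ofHom (algebraMap R K))) :
    ∃ s : Spec (CommRingCat.of R) ⟶ N, s ≫ f = 𝟙 _ ∧
      Spec.map (CommRingCat.ofHom (algebraMap R K)) ≫ s = t := by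
  haveI : IsAffine N := isAffine_of_isAffineHom f
  let B : CommRingCat.{u} := Γ(N, ⊤)
  let e : N ≅ Spec B := N.isoSpec
  let φ : CommRingCat.of R ⟶ B := Spec.preimage (e.inv ≫ f)
  have hφ : Spec.map φ = e.inv ≫ f := Spec.map_preimage _
  haveI : IsFinite (Spec.map φ) := by rw [hφ]; infer_instance
  have hfin : φ.hom.Finite := (IsFinite.SpecMap_iff φ).mp inferInstance
  let ψ : B ⟶ CommRingCat.of K := Spec.preimage (t ≫ e.hom)
  have hψ : Spec.map ψ = t ≫ e.hom := Spec.map_preimage _
  have key : φ ≫ ψ = CommRingCat.ofHom (algebraMap R K) := by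
    apply Spec.map_injective
    rw [Spec.map_comp, hψ, hφ, Category.assoc, Iso.hom_inv_id_assoc]
    exact ht
  have key' : ∀ r : R, ψ.hom (φ.hom r) = algebraMap R K r := fun r =>
    congrArg (fun k => k.hom r) key
  have hinj : Function.Injective (algebraMap R K) := IsFractionRing.injective R K
  have hmem : ∀ b : B, ∃ r : R, algebraMap R K r = ψ.hom b := by
    intro b
    have hb : φ.hom.IsIntegralElem b := hfin.to_isIntegral b
    obtain ⟨p, hp, hp0⟩ := hb
    have : IsIntegral R (ψ.hom b) := by
      refine ⟨p, hp, ?_⟩
      have h1 := congrArg ψ.hom hp0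
      rw [Polynomial.hom_eval₂, map_zero] at h1
      have h2 : ψ.hom.comp φ.hom = algebraMap R K := RingHom.ext key'
      rw [h2] at h1
      exact h1
    exact IsIntegrallyClosed.algebraMap_eq_of_integral this
  choose ρf hρf using hmem
  let ρ : B →+* R :=
    { toFun := ρf
      map_one' := hinj (by rw [hρf, map_one, map_one])
      map_mul' := fun a b => hinj (by rw [hρf, map_mul, map_mul, hρf, hρf])
      map_zero' := hinj (by rw [hρf, map_zero, map_zero])
      map_add' := fun a b => hinj (by rw [hρf, map_add, map_add, hρf, hρf]) }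
  have hρ1 : φ ≫ CommRingCat.ofHom ρ = 𝟙 _ := by
    ext r
    apply hinj
    change algebraMap R K (ρf (φ.hom r)) = algebraMap R K r
    rw [hρf, key']
  have hρ2 : CommRingCat.ofHom ρ ≫ CommRingCat.ofHom (algebraMap R K) = ψ := by
    ext b
    change algebraMap R K (ρf b) = ψ.hom b
    exact hρf b
  refine ⟨Spec.map (CommRingCat.ofHom ρ) ≫ e.inv, ?_, ?_⟩
  · rw [Category.assoc, ← hφ, ← Spec.map_comp, hρ1, Spec.map_id]
  · rw [← Category.assoc, ← Spec.map_comp, hρ2, hψ, Category.assoc, Iso.hom_inv_id, Category.comp_id]

end aff

section rigid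
variable {R : Type u} [CommRing R] [IsLocalRing R] {N : Scheme.{u}}
  (f : N ⟶ Spec (CommRingCat.of R)) [Etale f]

/-- Sections of an étale morphism over a local base which agree at the closed point agree. -/
theorem section_ext (s s' : Spec (CommRingCat.of R) ⟶ N) (hs : s ≫ f = 𝟙 _) (hs' : s' ≫ f = 𝟙 _)
    (h : Spec.map (CommRingCat.ofHom (IsLocalRing.residue R)) ≫ s =
      Spec.map (CommRingCat.ofHom (IsLocalRing.residue R)) ≫ s') : s = s' := by
  let S := Spec (CommRingCat.of R)
  let res : Spec (CommRingCat.of (IsLocalRing.ResidueField R)) ⟶ S :=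
    Spec.map (CommRingCat.ofHom (IsLocalRing.residue R))
  let d : S ⟶ pullback f f := pullback.lift s s' (by rw [hs, hs'])
  let ι : pullback d (pullback.diagonal f) ⟶ S := pullback.fst d (pullback.diagonal f)
  haveI : IsOpenImmersion ι := inferInstanceAs (IsOpenImmersion (pullback.fst d (pullback.diagonal f)))
  have h1 : ι ≫ s = pullback.snd d (pullback.diagonal f) := by
    have := pullback.condition (f := d) (g := pullback.diagonal f) =≫ pullback.fst f f
    simp only [Category.assoc, pullback.diagonal_fst, Category.comp_id] at this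
    rw [← this]
    change ι ≫ s = ι ≫ d ≫ pullback.fst f f
    rw [pullback.lift_fst]
  have h2 : ι ≫ s' = pullback.snd d (pullback.diagonal f) := by
    have := pullback.condition (f := d) (g := pullback.diagonal f) =≫ pullback.snd f f
    simp only [Category.assoc, pullback.diagonal_snd, Category.comp_id] at this
    rw [← this]
    change ι ≫ s' = ι ≫ d ≫ pullback.snd f f
    rw [pullback.lift_snd]
  let c : Spec (CommRingCat.of (IsLocalRing.ResidueField R)) ⟶ pullback d (pullback.diagonal f) :=
    pullback.lift res (res ≫ s) (by
      apply pullback.hom_ext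
      · simp only [Category.assoc, pullback.diagonal_fst, Category.comp_id]
        change res ≫ d ≫ pullback.fst f f = _
        rw [pullback.lift_fst]
      · simp only [Category.assoc, pullback.diagonal_snd, Category.comp_id]
        change res ≫ d ≫ pullback.snd f f = _
        rw [pullback.lift_snd]
        exact h.symm)
  have hc : c ≫ ι = res := pullback.lift_fst _ _ _
  haveI : Surjective ι := by
    constructor
    have hmem : IsLocalRing.closedPoint R ∈ ι.opensRange := by
      refine ⟨c (IsLocalRing.closedPoint (IsLocalRing.ResidueField R)), ?_⟩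
      rw [← Scheme.Hom.comp_apply, hc]
      exact (IsLocalRing.PrimeSpectrum.comap_residue R _)
    have htop : ι.opensRange = ⊤ := IsLocalRing.closed_point_mem_iff.mp hmem
    intro x
    have : x ∈ ι.opensRange := by rw [htop]; trivial
    exact this
  haveI : IsIso ι := (isIso_iff_isOpenImmersion_and_surjective ι).mpr ⟨inferInstance, inferInstance⟩
  rw [← cancel_epi ι, h1, h2]

end rigid

end Groth.Agent.Lib.Helper10.AbSchTors
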