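import Mathlib
import Groth.Agent.Lib.Helper10.AbSchTors1

/-!
# Torsion points of abelian schemes over normal local domains: generic torsion injects into special torsion
-/

set_option autoImplicit false
set_option linter.style.haveILetI false
set_option linter.unusedSectionVars false
universe u
open CategoryTheory CategoryTheory.Limits MonoidalCategory CartesianMonoidalCategory MonObj GrpObj
  AlgebraicGeometry

namespace Groth.Agent.Lib.Helper10.AbSchTors

section ker
variable {S : Scheme.{u}} (G : Over S) [GrpObj G] [IsCommMonObj G] (m : ℕ)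

theorem one_left' (T : Over S) : (1 : T ⟶ G).left = T.hom ≫ η[G].left := rfl

theorem pow_left' (T : Over S) (a : T ⟶ G) : (a ^ m).left = a.left ≫ ((𝟙 G : G ⟶ G) ^ m).left := by
  rw [← Over.comp_left, MonObj.comp_pow, Category.comp_id]

/-- `m`-torsion points are points of the kernel of multiplication by `m`. -/
noncomputable def ptsEquiv {X : Scheme.{u}} (a : X ⟶ S) :
    AbDual.torsPts G m (Over.mk a) ≃
      {t : X ⟶ pullback ((𝟙 G : G ⟶ G) ^ m).left η[G].left // t ≫ pullback.snd _ _ = a} where
  toFun τ := ⟨pullback.lift τ.1.left a (by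
      have h1 : (τ.1 ^ m).left = (1 : Over.mk a ⟶ G).left :=
        congrArg (fun k => k.left) ((AbDual.mem_torsPts G τ.1).mp τ.2)
      rw [pow_left', one_left'] at h1
      exact h1), pullback.lift_snd _ _ _⟩
  invFun t := ⟨Over.homMk (t.1 ≫ pullback.fst _ _) (by
      have hw : ((𝟙 G : G ⟶ G) ^ m).left ≫ G.hom = G.hom := Over.w _
      have he : η[G].left ≫ G.hom = 𝟙 S := Over.w η[G]
      change (t.1 ≫ pullback.fst _ _) ≫ G.hom = a
      have h3 : pullback.fst ((𝟙 G : G ⟶ G) ^ m).left η[G].left ≫ G.hom = pullback.snd _ _ := by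
        calc pullback.fst ((𝟙 G : G ⟶ G) ^ m).left η[G].left ≫ G.hom
            = pullback.fst ((𝟙 G : G ⟶ G) ^ m).left η[G].left ≫ ((𝟙 G : G ⟶ G) ^ m).left ≫ G.hom := by
              rw [hw]
          _ = (pullback.snd ((𝟙 G : G ⟶ G) ^ m).left η[G].left ≫ η[G].left) ≫ G.hom := by
              rw [← Category.assoc, pullback.condition]
          _ = pullback.snd _ _ := by rw [Category.assoc, he]; exact Category.comp_id _
      rw [Category.assoc, h3]
      exact t.2), by
      rw [AbDual.mem_torsPts]
      ext1
      rw [pow_left', one_left']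
      change (t.1 ≫ pullback.fst _ _) ≫ _ = a ≫ _
      rw [Category.assoc, pullback.condition, ← Category.assoc, t.2]⟩
  left_inv τ := by
    apply Subtype.ext
    ext1
    exact pullback.lift_fst _ _ _
  right_inv t := by
    apply Subtype.ext
    apply pullback.hom_ext
    · exact pullback.lift_fst _ _ _
    · rw [pullback.lift_snd]; exact t.2.symm

end ker

set_option backward.isDefEq.respectTransparency.types false in
theorem card_torsPts_le (R : Type u) [CommRing R] [IsDomain R] [IsLocalRing R] [IsIntegrallyClosed R]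
    (A : Over (Spec (CommRingCat.of R))) [GrpObj A] [IsCommMonObj A] [Smooth A.hom] [IsProper A.hom]
    (m : ℕ) (hm : IsUnit (m : R)) :
    Nat.card (AbDual.torsPts A m
        (Over.mk (Spec.map (CommRingCat.ofHom (algebraMap R (FractionRing R)))))) ≤
      Nat.card (AbDual.torsPts A m
        (Over.mk (Spec.map (CommRingCat.ofHom (IsLocalRing.residue R))))) := by
  let S := Spec (CommRingCat.of R)
  let K := FractionRing R
  let res : Spec (CommRingCat.of (IsLocalRing.ResidueField R)) ⟶ S :=
    Spec.map (CommRingCat.ofHom (IsLocalRing.residue R))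
  let gen : Spec (CommRingCat.of K) ⟶ S := Spec.map (CommRingCat.ofHom (algebraMap R K))
  let φ : A.left ⟶ A.left := ((𝟙 A : A ⟶ A) ^ m).left
  let e : S ⟶ A.left := η[A].left
  have he : e ≫ A.hom = 𝟙 S := Over.w η[A]
  have hφ : φ ≫ A.hom = A.hom := Over.w _
  haveI : Etale φ := by
    have hu : IsUnit (((m : ℤ)) : Γ(S, ⊤)) := by
      have h1 : IsUnit ((Scheme.ΓSpecIso (CommRingCat.of R)).inv.hom (m : R)) := hm.map _
      rw [map_natCast] at h1
      rw [Int.cast_natCast]
      exact h1
    have := HensTors.etale_zpow A (m : ℤ) hu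
    rw [zpow_natCast] at this
    exact this
  haveI : IsClosedImmersion e := by
    haveI : IsClosedImmersion (e ≫ A.hom) := by rw [he]; infer_instance
    exact IsClosedImmersion.of_comp e A.hom
  let f : pullback φ e ⟶ S := pullback.snd φ e
  have hf : f = pullback.fst φ e ≫ A.hom := by
    calc f = pullback.snd φ e ≫ e ≫ A.hom := by rw [he, Category.comp_id]
      _ = (pullback.fst φ e ≫ φ) ≫ A.hom := by rw [pullback.condition, Category.assoc]
      _ = pullback.fst φ e ≫ A.hom := by rw [Category.assoc, hφ]
  haveI : Etale f := inferInstanceAs (Etale (pullback.snd φ e))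
  haveI : IsProper f := by rw [hf]; infer_instance
  haveI : LocallyQuasiFinite f := Groth.Agent.Lib.Helper14.AS.etale_locallyQuasiFinite f
  haveI : IsFinite f := IsFinite.of_isProper_of_locallyQuasiFinite f
  let EK := ptsEquiv A m gen
  let Ek := ptsEquiv A m res
  haveI : Finite {t : Spec (CommRingCat.of (IsLocalRing.ResidueField R)) ⟶ pullback φ e //
      t ≫ f = res} := finite_pts f (IsLocalRing.ResidueField R) (IsLocalRing.residue R)
  haveI : Finite (AbDual.torsPts A m (Over.mk res)) := Finite.of_equiv _ Ek.symm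
  have hex : ∀ t : {t : Spec (CommRingCat.of K) ⟶ pullback φ e // t ≫ f = gen},
      ∃ s : S ⟶ pullback φ e, s ≫ f = 𝟙 _ ∧ gen ≫ s = t.1 := fun t =>
    exists_section_of_fractionRing f K t.1 t.2
  choose σ hσ1 hσ2 using hex
  let Ψ : AbDual.torsPts A m (Over.mk gen) → AbDual.torsPts A m (Over.mk res) := fun x =>
    Ek.symm ⟨res ≫ σ (EK x), by rw [Category.assoc]; change res ≫ σ (EK x) ≫ f = res; rw [hσ1, Category.comp_id]⟩
  have hΨ : Function.Injective Ψ := by
    intro x y hxy
    have h1 := Ek.symm.injective hxy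
    have h2 : res ≫ σ (EK x) = res ≫ σ (EK y) := congrArg Subtype.val h1
    have h3 : σ (EK x) = σ (EK y) := section_ext f _ _ (hσ1 _) (hσ1 _) h2
    apply EK.injective
    apply Subtype.ext
    rw [← hσ2 (EK x), ← hσ2 (EK y), h3]
  exact Nat.card_le_card_of_injective Ψ hΨ

end Groth.Agent.Lib.Helper10.AbSchTors
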