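import Mathlib
import Groth.Agent.Lib.Helper10.HomSp1

/-!
# Group structure on an fppf quotient `G/H` (abstract part)

Abstract setting: a cartesian monoidal category, `u : H ⟶ G` a mono of group objects,
`q : G ⟶ Q` a morphism whose kernel pair is `G ⊗ H ⇉ G` and such that `q`, `q ⊗ q`,
`(q ⊗ q) ⊗ q` are epi and `q`, `q ⊗ q` are effective (descent of morphisms).
-/

set_option autoImplicit false
set_option backward.isDefEq.respectTransparency.types false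
set_option maxHeartbeats 4000000
set_option synthInstance.maxHeartbeats 400000

universe v u

open CategoryTheory CategoryTheory.Limits MonoidalCategory CartesianMonoidalCategory MonObj GrpObj

namespace Groth.Agent.Lib.Helper10.FppfQuot

variable {𝒯 : Type u} [Category.{v} 𝒯] [CartesianMonoidalCategory 𝒯]

/-- a morphism along which morphisms descend -/
def Desc {X B : 𝒯} (f : X ⟶ B) : Prop :=
  ∀ {W : 𝒯} (e : X ⟶ W), (∀ {Z : 𝒯} (g₁ g₂ : Z ⟶ X), g₁ ≫ f = g₂ ≫ f → g₁ ≫ e = g₂ ≫ e) →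
    ∃ d : B ⟶ W, f ≫ d = e

theorem desc_of_effectiveEpi {X B : 𝒯} (f : X ⟶ B) [EffectiveEpi f] : Desc f :=
  fun e h => ⟨EffectiveEpi.desc f e h, EffectiveEpi.fac f e h⟩

section Defs

variable {G H Q : 𝒯} [GrpObj G] (u : H ⟶ G) (q : G ⟶ Q)

theorem comp_mul' {Y : 𝒯} (g : Y ⟶ G ⊗ G) : g ≫ μ = (g ≫ fst G G) * (g ≫ snd G G) := by
  rw [Hom.mul_def, lift_comp_fst_snd]

theorem lift_act {Y : 𝒯} (a : Y ⟶ G) (h : Y ⟶ H) : lift a h ≫ (G ◁ u) ≫ μ = a * (h ≫ u) := by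
  rw [Hom.mul_def, ← Category.assoc, lift_whiskerLeft]

theorem comp_act {Y : 𝒯} (f : Y ⟶ G ⊗ H) :
    f ≫ (G ◁ u) ≫ μ = (f ≫ fst G H) * (f ≫ snd G H ≫ u) := by
  conv_lhs => rw [← lift_comp_fst_snd f]
  rw [lift_act, Category.assoc]

variable {u q}

theorem mul_π (w : fst G H ≫ q = ((G ◁ u) ≫ μ) ≫ q) {Y : 𝒯} (a : Y ⟶ G) (h : Y ⟶ H) :
    (a * (h ≫ u)) ≫ q = a ≫ q := by
  rw [← lift_act, Category.assoc, Category.assoc]
  rw [Category.assoc] at w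
  rw [← w, lift_fst_assoc]

theorem exists_of_π_eq (k : IsPullback (fst G H) ((G ◁ u) ≫ μ) q q) {Y : 𝒯} (a b : Y ⟶ G)
    (hab : a ≫ q = b ≫ q) : ∃ h : Y ⟶ H, b = a * (h ≫ u) := by
  refine ⟨k.lift a b hab ≫ snd G H, ?_⟩
  have h₁ := k.lift_fst a b hab
  have h₂ := k.lift_snd a b hab
  rw [comp_act, h₁] at h₂
  exact h₂.symm.trans (by rw [Category.assoc])

end Defs

theorem hom_ext₂ {X₁ B₁ X₂ B₂ W : 𝒯} (e₁ : X₁ ⟶ B₁) (e₂ : X₂ ⟶ B₂) [Epi (e₁ ⊗ₘ e₂)]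
    (f g : B₁ ⊗ B₂ ⟶ W)
    (h : ∀ {Y : 𝒯} (a : Y ⟶ X₁) (b : Y ⟶ X₂),
      lift (a ≫ e₁) (b ≫ e₂) ≫ f = lift (a ≫ e₁) (b ≫ e₂) ≫ g) : f = g := by
  rw [← cancel_epi (e₁ ⊗ₘ e₂)]
  have := h (fst _ _) (snd _ _)
  rwa [lift_fst_comp_snd_comp] at this

theorem hom_ext₃ {X₁ B₁ X₂ B₂ X₃ B₃ W : 𝒯} (e₁ : X₁ ⟶ B₁) (e₂ : X₂ ⟶ B₂) (e₃ : X₃ ⟶ B₃)
    [Epi ((e₁ ⊗ₘ e₂) ⊗ₘ e₃)] (f g : (B₁ ⊗ B₂) ⊗ B₃ ⟶ W)
    (h : ∀ {Y : 𝒯} (a : Y ⟶ X₁) (b : Y ⟶ X₂) (c : Y ⟶ X₃),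
      lift (lift (a ≫ e₁) (b ≫ e₂)) (c ≫ e₃) ≫ f = lift (lift (a ≫ e₁) (b ≫ e₂)) (c ≫ e₃) ≫ g) :
    f = g := by
  rw [← cancel_epi ((e₁ ⊗ₘ e₂) ⊗ₘ e₃)]
  have := h (fst _ _ ≫ fst _ _) (fst _ _ ≫ snd _ _) (snd (X₁ ⊗ X₂) X₃)
  have e : lift (lift ((fst (X₁ ⊗ X₂) X₃ ≫ fst _ _) ≫ e₁) ((fst (X₁ ⊗ X₂) X₃ ≫ snd _ _) ≫ e₂))
      (snd (X₁ ⊗ X₂) X₃ ≫ e₃) = (e₁ ⊗ₘ e₂) ⊗ₘ e₃ := by
    apply CartesianMonoidalCategory.hom_ext
    · apply CartesianMonoidalCategory.hom_ext <;> simp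
    · simp
  rwa [e] at this

section Quot

variable {G H Q : 𝒯} [GrpObj G] [GrpObj H] (u : H ⟶ G) [IsMonHom u] (q : G ⟶ Q)
variable (k : IsPullback (fst G H) ((G ◁ u) ≫ μ) q q)
variable (hn : ∀ {Y : 𝒯} (g : Y ⟶ G) (h : Y ⟶ H), ∃ h' : Y ⟶ H, g * (h ≫ u) * g⁻¹ = h' ≫ u)
include k hn

theorem mul_welldef {Z : 𝒯} (g₁ g₂ : Z ⟶ G ⊗ G)
    (h : g₁ ≫ (q ⊗ₘ q) = g₂ ≫ (q ⊗ₘ q)) :
    g₁ ≫ μ ≫ q = g₂ ≫ μ ≫ q := by
  have h₁ : (g₁ ≫ fst G G) ≫ q = (g₂ ≫ fst G G) ≫ q := by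
    have := congrArg (fun m => m ≫ fst _ _) h
    simpa using this
  have h₂ : (g₁ ≫ snd G G) ≫ q = (g₂ ≫ snd G G) ≫ q := by
    have := congrArg (fun m => m ≫ snd _ _) h
    simpa using this
  obtain ⟨y₁, hy₁⟩ := exists_of_π_eq k _ _ h₁
  obtain ⟨y₂, hy₂⟩ := exists_of_π_eq k _ _ h₂
  obtain ⟨y', hy'⟩ := hn (g₁ ≫ snd G G)⁻¹ y₁
  have e : g₂ ≫ μ = (g₁ ≫ μ) * ((y' * y₂) ≫ u) := by
    rw [comp_mul' g₂, comp_mul' g₁, hy₁, hy₂, MonObj.mul_comp, ← hy']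
    group
  rw [← Category.assoc, ← Category.assoc, e, mul_π k.w]

theorem inv_welldef {Z : 𝒯} (a a' : Z ⟶ G) (h : a ≫ q = a' ≫ q) :
    a ≫ ι ≫ q = a' ≫ ι ≫ q := by
  obtain ⟨y, hy⟩ := exists_of_π_eq k _ _ h
  obtain ⟨y', hy'⟩ := hn a y⁻¹
  have e : a'⁻¹ = a⁻¹ * (y' ≫ u) := by
    rw [hy, ← hy', GrpObj.inv_comp]
    group
  rw [← Category.assoc, ← Category.assoc, ← Hom.inv_def, ← Hom.inv_def, e, mul_π k.w]

theorem existsUnique_grpObj [Epi q] [Epi (q ⊗ₘ q)] [Epi ((q ⊗ₘ q) ⊗ₘ q)]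
    [Epi (𝟙 (𝟙_ 𝒯) ⊗ₘ q)] [Epi (q ⊗ₘ 𝟙 (𝟙_ 𝒯))]
    (d₁ : Desc q) (d₂ : Desc (q ⊗ₘ q)) :
    ∃! str : GrpObj Q, @IsMonHom 𝒯 _ _ G Q _ str.toMonObj q := by
  obtain ⟨m, hm⟩ := d₂ (μ ≫ q) (fun g₁ g₂ h => mul_welldef u q k hn g₁ g₂ h)
  obtain ⟨i, hi⟩ := d₁ (ι ≫ q) (fun g₁ g₂ h => inv_welldef u q k hn g₁ g₂ h)
  have key : ∀ {Y : 𝒯} (a b : Y ⟶ G),
      lift (a ≫ q) (b ≫ q) ≫ m = (a * b) ≫ q := by
    intro Y a b
    rw [← lift_map, Category.assoc, hm, ← Category.assoc, Hom.mul_def]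
  have h_one_mul : ((η ≫ q) ▷ Q) ≫ m = (λ_ Q).hom := by
    apply hom_ext₂ (𝟙 (𝟙_ 𝒯)) q
    intro Y a b
    simp only [Category.comp_id]
    rw [lift_whiskerRight_assoc, ← Category.assoc a, key, lift_leftUnitor_hom]
    have : a ≫ η = (1 : Y ⟶ G) := by rw [toUnit_unique a (toUnit Y)]; rfl
    rw [this, _root_.one_mul]
  have h_mul_one : (Q ◁ (η ≫ q)) ≫ m = (ρ_ Q).hom := by
    apply hom_ext₂ q (𝟙 (𝟙_ 𝒯))
    intro Y a b
    simp only [Category.comp_id]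
    rw [lift_whiskerLeft_assoc, ← Category.assoc b, key, lift_rightUnitor_hom]
    have : b ≫ η = (1 : Y ⟶ G) := by rw [toUnit_unique b (toUnit Y)]; rfl
    rw [this, _root_.mul_one]
  have h_mul_assoc : (m ▷ Q) ≫ m = (α_ Q Q Q).hom ≫ (Q ◁ m) ≫ m := by
    apply hom_ext₃ q q q
    intro Y a b c
    have L : lift (lift (a ≫ q) (b ≫ q)) (c ≫ q) ≫ (m ▷ Q) ≫ m =
        ((a * b) * c) ≫ q := by
      rw [lift_whiskerRight_assoc, key, key]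
    have R : lift (lift (a ≫ q) (b ≫ q)) (c ≫ q) ≫
        (α_ Q Q Q).hom ≫ (Q ◁ m) ≫ m = (a * (b * c)) ≫ q := by
      rw [lift_lift_associator_hom_assoc, lift_whiskerLeft_assoc, key, key]
    rw [L, R, _root_.mul_assoc]
  have keyπ : ∀ (a b : G ⟶ G), lift (a ≫ q) (b ≫ q) ≫ m = (a * b) ≫ q :=
    fun a b => key a b
  have h_left_inv : lift i (𝟙 Q) ≫ m = toUnit Q ≫ η ≫ q := by
    rw [← cancel_epi q, ← Category.assoc, comp_lift, hi, Category.comp_id]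
    have := keyπ ι (𝟙 G)
    rw [Category.id_comp] at this
    rw [this, GrpObj.inv_eq_inv, inv_mul_cancel, comp_toUnit_assoc, Hom.one_def, Category.assoc]
  have h_right_inv : lift (𝟙 Q) i ≫ m = toUnit Q ≫ η ≫ q := by
    rw [← cancel_epi q, ← Category.assoc, comp_lift, hi, Category.comp_id]
    have := keyπ (𝟙 G) ι
    rw [Category.id_comp] at this
    rw [this, GrpObj.inv_eq_inv, mul_inv_cancel, comp_toUnit_assoc, Hom.one_def, Category.assoc]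
  let str : GrpObj Q :=
    { one := η ≫ q, mul := m, one_mul := h_one_mul, mul_one := h_mul_one,
      mul_assoc := h_mul_assoc, inv := i, left_inv := h_left_inv,
      right_inv := h_right_inv }
  refine ⟨str, @IsMonHom.mk 𝒯 _ _ G Q _ str.toMonObj q rfl hm.symm, ?_⟩
  intro str' h'
  apply GrpObj.ext
  apply MonObj.ext
  show str'.toMonObj.mul = m
  rw [← cancel_epi (q ⊗ₘ q), hm]
  exact (@IsMonHom.mul_hom 𝒯 _ _ G Q _ str'.toMonObj q h').symm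

end Quot

section Factor

variable {G H Q K : 𝒯} [GrpObj G] [GrpObj Q] [GrpObj K]
  (u : H ⟶ G) (q : G ⟶ Q) [IsMonHom q]
  (k : IsPullback (fst G H) ((G ◁ u) ≫ μ) q q)
include k

theorem existsUnique_factor [Epi q] [Epi (q ⊗ₘ q)] (d₁ : Desc q)
    (f : G ⟶ K) [IsMonHom f] (hf : u ≫ f = 1) :
    ∃! g : Q ⟶ K, q ≫ g = f ∧ IsMonHom g := by
  obtain ⟨g, hg⟩ := d₁ f (fun g₁ g₂ h => by
    obtain ⟨y, hy⟩ := exists_of_π_eq k _ _ h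
    rw [hy, MonObj.mul_comp, Category.assoc, hf, MonObj.comp_one, _root_.mul_one])
  refine ⟨g, ⟨hg, ⟨?_, ?_⟩⟩, ?_⟩
  · rw [← IsMonHom.one_hom q, Category.assoc, hg, IsMonHom.one_hom]
  · rw [← cancel_epi (q ⊗ₘ q), ← Category.assoc, ← IsMonHom.mul_hom q, Category.assoc, hg,
      IsMonHom.mul_hom f, ← Category.assoc, MonoidalCategory.tensorHom_comp_tensorHom, hg]
  · rintro g' ⟨hg', -⟩
    rw [← cancel_epi q, hg, hg']

end Factor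

section Kernel

variable {G H Q : 𝒯} [GrpObj G] [GrpObj Q] (u : H ⟶ G) (q : G ⟶ Q) [IsMonHom q]

/-- the kernel square of a homomorphism gives the kernel pair. -/
theorem isPullback_of_kernel (hk : IsPullback u (toUnit H) q η[Q]) :
    IsPullback (fst G H) ((G ◁ u) ≫ μ) q q := by
  have hu1 : u ≫ q = 1 := by rw [hk.w, Hom.one_def]
  haveI : Mono u := by
    have hη : Mono η[Q] := by
      refine ⟨fun a b _ => ?_⟩
      exact toUnit_unique _ _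
    exact ⟨fun a b hab => hk.hom_ext hab (toUnit_unique _ _)⟩
  refine Groth.Agent.Lib.Helper10.HomSp.isPullback_of_lift _ _ _ _ ?_
    (fun {W} a b hab => lift a (hk.lift (a⁻¹ * b) (toUnit W) (by
      rw [MonObj.mul_comp, GrpObj.inv_comp, hab, inv_mul_cancel, Hom.one_def]))) ?_ ?_ ?_
  · have h0 := comp_act u (𝟙 (G ⊗ H))
    simp only [Category.id_comp] at h0
    rw [h0, MonObj.mul_comp, Category.assoc, hu1, MonObj.comp_one, _root_.mul_one]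
  · intro W a b hab
    exact lift_fst _ _
  · intro W a b hab
    rw [lift_act, hk.lift_fst, mul_inv_cancel_left]
  · intro W m m' h1 h2
    apply CartesianMonoidalCategory.hom_ext _ _ h1
    rw [comp_act, comp_act, h1] at h2
    have h3 : m ≫ snd G H ≫ u = m' ≫ snd G H ≫ u := mul_left_cancel h2
    rw [← cancel_mono u]
    simpa using h3

end Kernel

end Groth.Agent.Lib.Helper10.FppfQuot
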