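import Mathlib
import Groth.Agent.Lib.Helper10.FppfQuot1

/-!
# Group structure on an fppf quotient `G/H`: instantiation in `Over S`
-/

set_option autoImplicit false
set_option backward.isDefEq.respectTransparency.types false
set_option maxHeartbeats 4000000
set_option synthInstance.maxHeartbeats 400000

universe u

open CategoryTheory CategoryTheory.Limits AlgebraicGeometry MonoidalCategory
  CartesianMonoidalCategory MonObj GrpObj

namespace Groth.Agent.Lib.Helper10.FppfQuot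

open Groth.Agent.Lib.Helper10.HomSp

/-- fppf covering morphisms -/
def Fppf {X Y : Scheme.{u}} (f : X ⟶ Y) : Prop :=
  Surjective f ∧ Flat f ∧ LocallyOfFinitePresentation f

theorem Fppf.comp {X Y Z : Scheme.{u}} {f : X ⟶ Y} {g : Y ⟶ Z} (hf : Fppf f) (hg : Fppf g) :
    Fppf (f ≫ g) := by
  obtain ⟨_, _, _⟩ := hf
  obtain ⟨_, _, _⟩ := hg
  exact ⟨inferInstance, inferInstance, inferInstance⟩

theorem Fppf.of_isPullback {P X Y Z : Scheme.{u}} {f' : P ⟶ X} {g' : P ⟶ Y} {g : X ⟶ Z}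
    {f : Y ⟶ Z} (sq : IsPullback f' g' g f) (hg : Fppf g) : Fppf g' := by
  obtain ⟨h1, h2, h3⟩ := hg
  exact ⟨MorphismProperty.of_isPullback (P := @Surjective) sq h1,
    MorphismProperty.of_isPullback (P := @Flat) sq h2,
    MorphismProperty.of_isPullback (P := @LocallyOfFinitePresentation) sq h3⟩

theorem Fppf.of_isIso {X Y : Scheme.{u}} (f : X ⟶ Y) [IsIso f] : Fppf f :=
  ⟨inferInstance, inferInstance, inferInstance⟩

variable {S : Scheme.{u}}

theorem fppf_whiskerRight {A B : Over S} (f : A ⟶ B) (X : Over S) (h : Fppf f.left) :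
    Fppf (f ▷ X).left := by
  have sq := (isPullback_whiskerRight_fst f X).map (Over.forget S)
  exact Fppf.of_isPullback sq.flip h

theorem fppf_whiskerLeft (X : Over S) {A B : Over S} (f : A ⟶ B) (h : Fppf f.left) :
    Fppf (X ◁ f).left := by
  have sq := (isPullback_whiskerLeft_snd X f).map (Over.forget S)
  exact Fppf.of_isPullback sq.flip h

theorem fppf_tensorHom {A B A' B' : Over S} (f : A ⟶ B) (g : A' ⟶ B') (hf : Fppf f.left)
    (hg : Fppf g.left) : Fppf (f ⊗ₘ g).left := by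
  rw [MonoidalCategory.tensorHom_def, Over.comp_left]
  exact (fppf_whiskerRight f A' hf).comp (fppf_whiskerLeft B g hg)

theorem epi_of_fppf {A B : Over S} (f : A ⟶ B) (h : Fppf f.left) : Epi f := by
  obtain ⟨_, _, _⟩ := h
  have : Epi ((Over.forget S).map f) := by
    show Epi f.left
    infer_instance
  exact (Over.forget S).epi_of_epi_map this

theorem desc_of_fppf {A B : Over S} (f : A ⟶ B) (h : Fppf f.left) : Desc f := by
  obtain ⟨_, _, _⟩ := h
  intro W e h
  have h' : ∀ {Z : Scheme.{u}} (g₁ g₂ : Z ⟶ A.left), g₁ ≫ f.left = g₂ ≫ f.left →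
      g₁ ≫ e.left = g₂ ≫ e.left := by
    intro Z g₁ g₂ hg
    have hZ : g₁ ≫ A.hom = g₂ ≫ A.hom := by
      rw [← Over.w f, ← Category.assoc, hg, Category.assoc]
    let Z' : Over S := Over.mk (g₁ ≫ A.hom)
    let a₁ : Z' ⟶ A := Over.homMk g₁ rfl
    let a₂ : Z' ⟶ A := Over.homMk g₂ hZ.symm
    have := h a₁ a₂ (by ext; exact hg)
    exact congrArg (·.left) this
  let d := EffectiveEpi.desc f.left e.left h'
  have hd : f.left ≫ d = e.left := EffectiveEpi.fac f.left e.left h'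
  refine ⟨Over.homMk d ?_, ?_⟩
  · rw [← cancel_epi f.left, ← Category.assoc, hd, Over.w, Over.w]
  · ext; exact hd

theorem fppf_id (X : Over S) : Fppf (Over.Hom.left (𝟙 X : X ⟶ X)) := by
  rw [Over.id_left]; exact Fppf.of_isIso _

theorem existsUnique_grpObj_over {H G Q : Over S} [GrpObj H] [hG : GrpObj G]
    (i : H ⟶ G) [IsMonHom i]
    (hn : ∀ {Y : Over S} (g : Y ⟶ G) (h : Y ⟶ H), ∃ h' : Y ⟶ H, g * (h ≫ i) * g⁻¹ = h' ≫ i)
    (q : G ⟶ Q) (F1 : Fppf q.left) (k : IsPullback (fst G H) ((G ◁ i) ≫ μ) q q) :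
    ∃! s : GrpObj Q, @IsMonHom (Over S) _ _ G Q hG.toMonObj s.toMonObj q := by
  have F2 : Fppf (q ⊗ₘ q).left := fppf_tensorHom q q F1 F1
  have F3 : Fppf ((q ⊗ₘ q) ⊗ₘ q).left := fppf_tensorHom _ q F2 F1
  have F4 : Fppf (𝟙 (𝟙_ (Over S)) ⊗ₘ q).left := fppf_tensorHom _ q (fppf_id _) F1
  have F5 : Fppf (q ⊗ₘ 𝟙 (𝟙_ (Over S))).left := fppf_tensorHom q _ F1 (fppf_id _)
  haveI := epi_of_fppf _ F1
  haveI := epi_of_fppf _ F2
  haveI := epi_of_fppf _ F3
  haveI := epi_of_fppf _ F4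
  haveI := epi_of_fppf _ F5
  exact existsUnique_grpObj i q k hn (desc_of_fppf q F1) (desc_of_fppf _ F2)

theorem existsUnique_factor_over {H G Q K : Over S} [GrpObj G] [GrpObj Q] [GrpObj K]
    (i : H ⟶ G) (q : G ⟶ Q) [IsMonHom q] (F1 : Fppf q.left)
    (k : IsPullback (fst G H) ((G ◁ i) ≫ μ) q q)
    (f : G ⟶ K) [IsMonHom f] (hf : i ≫ f = 1) :
    ∃! g : Q ⟶ K, q ≫ g = f ∧ IsMonHom g := by
  have F2 : Fppf (q ⊗ₘ q).left := fppf_tensorHom q q F1 F1
  haveI := epi_of_fppf _ F1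
  haveI := epi_of_fppf _ F2
  exact existsUnique_factor i q k (desc_of_fppf q F1) f hf

end Groth.Agent.Lib.Helper10.FppfQuot
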