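import Mathlib
import Groth.Agent.Lib.Helper10.FppfQuot2
import Groth.Agent.Lib.Helper9.FFDescent

/-!
# Towers of quotients `G/H → G/H'` for `H ⊆ H' ⊆ G`

The base change of `G/H → G/H'` along `G → G/H'` is the trivial bundle `G × (H'/H) → G`.
Also: flatness cancels on the left along faithfully flat morphisms.
-/

set_option autoImplicit false
set_option backward.isDefEq.respectTransparency.types false
set_option maxHeartbeats 4000000
set_option synthInstance.maxHeartbeats 400000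
universe v u
open CategoryTheory CategoryTheory.Limits AlgebraicGeometry MonoidalCategory
  CartesianMonoidalCategory MonObj GrpObj

namespace Groth.Agent.Lib.Helper10.QuotTower

open Groth.Agent.Lib.Helper10.FppfQuot

/-- flatness cancels along a faithfully flat morphism -/
theorem flat_of_surjective_flat_comp {X Y Z : Scheme.{u}} (f : X ⟶ Y) (g : Y ⟶ Z)
    [Surjective f] [Flat f] [Flat (f ≫ g)] : Flat g := by
  rw [Flat.iff_flat_stalkMap]
  intro y
  obtain ⟨x, rfl⟩ := f.surjective y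
  have h1 : ((f.stalkMap x).hom.comp (g.stalkMap (f x)).hom).Flat := by
    have := Flat.stalkMap (f ≫ g) x
    rw [Scheme.Hom.stalkMap_comp] at this
    exact this
  have h2 : (f.stalkMap x).hom.Flat := Flat.stalkMap f x
  have hloc : IsLocalHom (f.stalkMap x).hom := f.toLRSHom.prop x
  generalize (g.stalkMap (f x)).hom = φ at h1 ⊢
  generalize (f.stalkMap x).hom = ψ at h1 h2 hloc
  algebraize [φ, ψ, ψ.comp φ]
  haveI : Module.FaithfullyFlat (Y.presheaf.stalk (f x)) (X.presheaf.stalk x) :=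
    Module.FaithfullyFlat.of_flat_of_isLocalHom
  exact Groth.Agent.Lib.Helper9.FFDescent.flat_of_faithfullyFlat_comp _
    (Y.presheaf.stalk (f x)) (X.presheaf.stalk x)

section Abstract

variable {𝒯 : Type u} [Category.{v} 𝒯] [CartesianMonoidalCategory 𝒯]

/-- two effective epimorphisms identifying the same pairs of points have isomorphic targets -/
theorem iso_of_desc {A W V : 𝒯} (α : A ⟶ W) (β : A ⟶ V) [Epi α] [Epi β] (dα : Desc α)
    (dβ : Desc β) (h : ∀ {T : 𝒯} (u v : T ⟶ A), u ≫ α = v ≫ α ↔ u ≫ β = v ≫ β) :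
    ∃ e : W ≅ V, α ≫ e.hom = β := by
  obtain ⟨d, hd⟩ := dα β (fun u v huv => (h u v).1 huv)
  obtain ⟨d', hd'⟩ := dβ α (fun u v huv => (h u v).2 huv)
  refine ⟨⟨d, d', ?_, ?_⟩, hd⟩
  · rw [← cancel_epi α, ← Category.assoc, hd, hd', Category.comp_id]
  · rw [← cancel_epi β, ← Category.assoc, hd', hd, Category.comp_id]

variable {G H H' X X' Y W : 𝒯} [GrpObj G] [GrpObj H] [GrpObj H']
  (i : H ⟶ G) (i' : H' ⟶ G) (l : H ⟶ H') [IsMonHom i'] [IsMonHom l] [Mono i']
  (hl : l ≫ i' = i)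
  (π : G ⟶ X) (π' : G ⟶ X') (ρ : H' ⟶ Y) (qbar : X ⟶ X') (hq : π ≫ qbar = π')
  (hX : IsPullback (fst G H) ((G ◁ i) ≫ μ) π π)
  (hX' : IsPullback (fst G H') ((G ◁ i') ≫ μ) π' π')
  (hY : IsPullback (fst H' H) ((H' ◁ l) ≫ μ) ρ ρ)
  {p₁ : W ⟶ G} {p₂ : W ⟶ X} (hW : IsPullback p₁ p₂ π' qbar)

include hq hX' in
theorem tower_w : fst G H' ≫ π' = (((G ◁ i') ≫ μ) ≫ π) ≫ qbar := by
  rw [Category.assoc, hq]
  exact hX'.w

/-- the comparison map `G × H' → G ×_{G/H'} G/H` -/
noncomputable def towerMap : G ⊗ H' ⟶ W :=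
  hW.lift (fst G H') (((G ◁ i') ≫ μ) ≫ π) (tower_w i' π π' qbar hq hX')

theorem towerMap_fst : towerMap i' π π' qbar hq hX' hW ≫ p₁ = fst G H' :=
  hW.lift_fst _ _ _

theorem towerMap_snd : towerMap i' π π' qbar hq hX' hW ≫ p₂ = ((G ◁ i') ≫ μ) ≫ π :=
  hW.lift_snd _ _ _

/-- the comparison map is a base change of `G → G/H` -/
theorem isPullback_towerMap :
    IsPullback (towerMap i' π π' qbar hq hX' hW) ((G ◁ i') ≫ μ) p₂ π := by
  refine IsPullback.of_right ?_ (towerMap_snd i' π π' qbar hq hX' hW) hW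
  rw [towerMap_fst, hq]
  exact hX'

include hl hX hY in
/-- the comparison map and `G × H' → G × H'/H` identify the same pairs of points -/
theorem towerMap_eq_iff {T : 𝒯} (u v : T ⟶ G ⊗ H') :
    u ≫ towerMap i' π π' qbar hq hX' hW = v ≫ towerMap i' π π' qbar hq hX' hW ↔
      u ≫ (G ◁ ρ) = v ≫ (G ◁ ρ) := by
  have key : ∀ (g : T ⟶ G) (h₁ h₂ : T ⟶ H'),
      (g * (h₁ ≫ i')) ≫ π = (g * (h₂ ≫ i')) ≫ π ↔ h₁ ≫ ρ = h₂ ≫ ρ := by
    intro g h₁ h₂
    constructor
    · intro h
      obtain ⟨c, hc⟩ := exists_of_π_eq hX _ _ h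
      have h3 : h₂ ≫ i' = (h₁ * (c ≫ l)) ≫ i' := by
        rw [MonObj.mul_comp h₁ (c ≫ l) i', Category.assoc, hl]
        rw [_root_.mul_assoc] at hc
        exact mul_left_cancel hc
      have h4 : h₂ = h₁ * (c ≫ l) := (cancel_mono i').1 h3
      rw [h4, mul_π hY.w]
    · intro h
      obtain ⟨c, hc⟩ := exists_of_π_eq hY _ _ h
      rw [hc, MonObj.mul_comp h₁ (c ≫ l) i', Category.assoc, hl, ← _root_.mul_assoc, mul_π hX.w]
  have hα : ∀ w : T ⟶ G ⊗ H', w ≫ towerMap i' π π' qbar hq hX' hW ≫ p₂ =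
      ((w ≫ fst G H') * ((w ≫ snd G H') ≫ i')) ≫ π := by
    intro w
    rw [towerMap_snd, ← Category.assoc, comp_act, Category.assoc]
  constructor
  · intro h
    have h1 : u ≫ fst G H' = v ≫ fst G H' := by
      have := congrArg (· ≫ p₁) h
      simpa only [Category.assoc, towerMap_fst] using this
    have h2 := congrArg (· ≫ p₂) h
    simp only [Category.assoc] at h2
    rw [hα, hα, ← h1] at h2
    have h3 := (key _ _ _).1 h2
    apply CartesianMonoidalCategory.hom_ext
    · rw [Category.assoc, Category.assoc, whiskerLeft_fst, h1]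
    · rw [Category.assoc, Category.assoc, whiskerLeft_snd, ← Category.assoc, ← Category.assoc, h3]
  · intro h
    have h1 : u ≫ fst G H' = v ≫ fst G H' := by
      have := congrArg (· ≫ fst G Y) h
      simpa only [Category.assoc, whiskerLeft_fst] using this
    have h2 : (u ≫ snd G H') ≫ ρ = (v ≫ snd G H') ≫ ρ := by
      have := congrArg (· ≫ snd G Y) h
      simpa only [Category.assoc, whiskerLeft_snd] using this
    apply hW.hom_ext
    · rw [Category.assoc, Category.assoc, towerMap_fst, h1]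
    · rw [Category.assoc, Category.assoc, hα, hα, ← h1]
      exact (key _ _ _).2 h2

end Abstract

section Schemes

variable {S : Scheme.{u}} {G H H' X X' Y W : Over S} [GrpObj G] [GrpObj H] [GrpObj H']
  (i : H ⟶ G) (i' : H' ⟶ G) (l : H ⟶ H') [IsMonHom i'] [IsMonHom l] [Mono i']
  (hl : l ≫ i' = i)
  (π : G ⟶ X) (π' : G ⟶ X') (ρ : H' ⟶ Y) (qbar : X ⟶ X') (hq : π ≫ qbar = π')
  (hX : IsPullback (fst G H) ((G ◁ i) ≫ μ) π π)
  (hX' : IsPullback (fst G H') ((G ◁ i') ≫ μ) π' π')
  (hY : IsPullback (fst H' H) ((H' ◁ l) ≫ μ) ρ ρ)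
  {p₁ : W ⟶ G} {p₂ : W ⟶ X} (hW : IsPullback p₁ p₂ π' qbar)

include hl hq hX hX' hY hW in
/-- the base change of `G/H → G/H'` to `G` is the trivial bundle with fibre `H'/H` -/
theorem exists_iso_tower (fπ : Fppf π.left) (fρ : Fppf ρ.left) :
    ∃ e : W ≅ G ⊗ Y, e.hom ≫ fst G Y = p₁ := by
  have hα : Fppf (towerMap i' π π' qbar hq hX' hW).left :=
    Fppf.of_isPullback ((isPullback_towerMap i' π π' qbar hq hX' hW).flip.map (Over.forget S)) fπ
  have hβ : Fppf (G ◁ ρ).left := fppf_whiskerLeft G ρ fρ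
  haveI := epi_of_fppf _ hα
  haveI := epi_of_fppf _ hβ
  obtain ⟨e, he⟩ := iso_of_desc (towerMap i' π π' qbar hq hX' hW) (G ◁ ρ)
    (desc_of_fppf _ hα) (desc_of_fppf _ hβ)
    (fun u v => towerMap_eq_iff i i' l hl π π' ρ qbar hq hX hX' hY hW u v)
  refine ⟨e, ?_⟩
  rw [← cancel_epi (towerMap i' π π' qbar hq hX' hW), ← Category.assoc, he, whiskerLeft_fst,
    towerMap_fst]

include hl hq hX hX' hY in
/-- a property of `H'/H → S` which is stable under base change and descends along `G → G/H'`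
holds for `G/H → G/H'` -/
theorem P_qbar (P Q : MorphismProperty Scheme.{u}) [P.IsStableUnderBaseChange]
    [P.DescendsAlong Q] (fπ : Fppf π.left) (fρ : Fppf ρ.left) (hQ : Q π'.left)
    (hP : P Y.hom) : P qbar.left := by
  have hW := IsPullback.of_hasPullback π' qbar
  obtain ⟨e, he⟩ := exists_iso_tower i i' l hl π π' ρ qbar hq hX hX' hY hW fπ fρ
  have h1 : P (fst G Y).left := by
    change P (pullback.fst G.hom Y.hom)
    exact P.pullback_fst _ _ hP
  have h2 : P (pullback.fst π' qbar).left := by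
    rw [← he, Over.comp_left]
    haveI : IsIso e.hom.left := inferInstanceAs (IsIso ((Over.forget S).map e.hom))
    exact (P.cancel_left_of_respectsIso _ _).2 h1
  exact MorphismProperty.of_isPullback_of_descendsAlong (P := P) (Q := Q)
    (hW.map (Over.forget S)) hQ h2

end Schemes

end Groth.Agent.Lib.Helper10.QuotTower
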