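import Mathlib
import Groth.Agent.Lib.Helper10.QuotTower3

/-!
# Descending an action of `G` to the quotient `G/N` when `N` acts trivially
-/

set_option autoImplicit false
set_option backward.isDefEq.respectTransparency.types false
set_option maxHeartbeats 4000000
set_option synthInstance.maxHeartbeats 400000
universe v u
open CategoryTheory CategoryTheory.Limits AlgebraicGeometry MonoidalCategory
  CartesianMonoidalCategory MonObj GrpObj

namespace Groth.Agent.Lib.Helper10.ActDesc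

open Groth.Agent.Lib.Helper10.FppfQuot Groth.Agent.Lib.Helper10.HomSp

variable {S : Scheme.{u}}

theorem action_ext {G X : Over S} [GrpObj G] (b b' : AlgGrp.Action G X) (h : b.act = b'.act) :
    b = b' := by
  cases b; cases b'
  simp only at h
  subst h
  rfl

variable {G N Q X : Over S} [GrpObj G] [GrpObj N] [GrpObj Q]
  (a : AlgGrp.Action G X) (n : N ⟶ G) (π : G ⟶ Q) [IsMonHom π]

theorem lift_whiskerRight' {T : Over S} (g : T ⟶ G) (x : T ⟶ X) :
    lift g x ≫ (π ▷ X) = lift (g ≫ π) x := by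
  apply CartesianMonoidalCategory.hom_ext <;> simp

/-- the action descends to the quotient when the kernel acts trivially -/
theorem exists_desc (hπ : Fppf π.left) (hker : AlgGrp.IsKernel n π)
    (htriv : ∀ (T : Over S) (m : T ⟶ N) (x : T ⟶ X), lift (m ≫ n) x ≫ a.act = x) :
    ∃ d : Q ⊗ X ⟶ X, (π ▷ X) ≫ d = a.act := by
  have hd : Desc (π ▷ X) := desc_of_fppf _ (fppf_whiskerRight π X hπ)
  have kp := isPullback_of_kernel (u := n) (q := π) hker
  refine hd a.act ?_
  intro Z g₁ g₂ h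
  have h1 : (g₁ ≫ fst G X) ≫ π = (g₂ ≫ fst G X) ≫ π := by
    have := congrArg (fun φ => φ ≫ fst Q X) h
    simpa using this
  have h2 : g₁ ≫ snd G X = g₂ ≫ snd G X := by
    have := congrArg (fun φ => φ ≫ snd Q X) h
    simpa using this
  obtain ⟨m, hm⟩ := exists_of_π_eq kp _ _ h1
  have e1 : g₁ ≫ a.act = smul a (g₁ ≫ fst G X) (g₁ ≫ snd G X) := by
    unfold smul
    rw [lift_comp_fst_snd]
  have e2 : g₂ ≫ a.act = smul a (g₂ ≫ fst G X) (g₂ ≫ snd G X) := by
    unfold smul
    rw [lift_comp_fst_snd]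
  rw [e1, e2, hm, ← h2, HomSp.mul_smul]
  congr 1
  exact (htriv Z m _).symm

variable {a π}

theorem lift_desc {d : Q ⊗ X ⟶ X} (hd : (π ▷ X) ≫ d = a.act) {T : Over S} (g : T ⟶ G)
    (x : T ⟶ X) : lift (g ≫ π) x ≫ d = smul a g x := by
  unfold smul
  rw [← hd, ← Category.assoc, lift_whiskerRight']

/-- the descended morphism is an action -/
theorem exists_action_of_desc (hπ : Fppf π.left) {d : Q ⊗ X ⟶ X} (hd : (π ▷ X) ≫ d = a.act) :
    ∃ b : AlgGrp.Action Q X, b.act = d := by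
  have hone : (η[Q] ▷ X) ≫ d = (λ_ X).hom := by
    have : η[Q] ▷ X = (η[G] ▷ X) ≫ (π ▷ X) := by
      rw [← MonoidalCategory.comp_whiskerRight, IsMonHom.one_hom]
    rw [this, Category.assoc, hd, a.one_act]
  have hmul : (μ[Q] ▷ X) ≫ d = (α_ Q Q X).hom ≫ (Q ◁ d) ≫ d := by
    have hfp : Fppf (((π ⊗ₘ π) ▷ X)).left :=
      fppf_whiskerRight _ X (fppf_tensorHom π π hπ hπ)
    haveI := epi_of_fppf _ hfp
    rw [← cancel_epi ((π ⊗ₘ π) ▷ X)]
    set p₁ : (G ⊗ G) ⊗ X ⟶ G := fst _ _ ≫ fst _ _ with hp₁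
    set p₂ : (G ⊗ G) ⊗ X ⟶ G := fst _ _ ≫ snd _ _ with hp₂
    set p₃ : (G ⊗ G) ⊗ X ⟶ X := snd _ _ with hp₃
    have el : ((π ⊗ₘ π) ▷ X) ≫ (μ[Q] ▷ X) ≫ d = lift ((p₁ * p₂) ≫ π) p₃ ≫ d := by
      rw [← Category.assoc]
      congr 1
      apply CartesianMonoidalCategory.hom_ext
      · simp only [Category.assoc, whiskerRight_fst, whiskerRight_fst_assoc, lift_fst]
        rw [← IsMonHom.mul_hom (f := π), ← Category.assoc]
        congr 1
        rw [Hom.mul_def, hp₁, hp₂]
        congr 1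
        apply CartesianMonoidalCategory.hom_ext <;> simp
      · simp [hp₃]
    have er : ((π ⊗ₘ π) ▷ X) ≫ (α_ Q Q X).hom ≫ (Q ◁ d) ≫ d =
        lift (p₁ ≫ π) (lift (p₂ ≫ π) p₃ ≫ d) ≫ d := by
      rw [← Category.assoc, ← Category.assoc]
      congr 1
      apply CartesianMonoidalCategory.hom_ext
      · simp [hp₁]
      · simp only [Category.assoc, whiskerLeft_snd, lift_snd]
        rw [← Category.assoc, ← Category.assoc]
        congr 1
        apply CartesianMonoidalCategory.hom_ext <;> simp [hp₂, hp₃]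
    rw [el, er, lift_desc hd, lift_desc hd, lift_desc hd, HomSp.mul_smul]
  exact ⟨⟨d, hone, hmul⟩, rfl⟩

/-- faithfulness of the descended action when `N` is exactly the kernel of the action -/
theorem eq_one_of_trivial (hπ : Fppf π.left) (hker : AlgGrp.IsKernel n π)
    {d : Q ⊗ X ⟶ X} (hd : (π ▷ X) ≫ d = a.act)
    (hN : ∀ (T : Over S) (g : T ⟶ G),
      (∀ (T' : Over S) (s : T' ⟶ T) (x : T' ⟶ X), lift (s ≫ g) x ≫ a.act = x) →
        ∃ m : T ⟶ N, m ≫ n = g)
    {T : Over S} (q : T ⟶ Q)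
    (hq : ∀ (T' : Over S) (s : T' ⟶ T) (x : T' ⟶ X), lift (s ≫ q) x ≫ d = x) : q = 1 := by
  obtain ⟨T', c, hc, g, hg⟩ := Groth.Agent.Lib.Helper10.QuotTower.exists_local_lift π hπ q
  haveI := epi_of_fppf _ hc
  rw [← cancel_epi c, MonObj.comp_one, ← hg]
  obtain ⟨m, hm⟩ := hN T' g (by
    intro T'' s x
    have := hq T'' (s ≫ c) x
    rw [Category.assoc, ← hg, ← Category.assoc, lift_desc hd] at this
    exact this)
  rw [← hm, Category.assoc, hker.w, ← Category.assoc, Hom.one_def]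
  congr 1
  exact toUnit_unique _ _

end Groth.Agent.Lib.Helper10.ActDesc
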