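import Mathlib
import Groth.Agent.Lib.Helper10.KPts1

/-!
# More on `K`-points: open subsets containing all `K`-points
-/

set_option autoImplicit false
set_option backward.isDefEq.respectTransparency.types false
set_option maxHeartbeats 4000000
set_option synthInstance.maxHeartbeats 400000
universe u
open CategoryTheory CategoryTheory.Limits AlgebraicGeometry

namespace Groth.Agent.Lib.Helper10.KPts

variable {k K : Type u} [Field k] [Field K] [Algebra k K] [IsAlgClosed K]

/-- a nonempty closed subset of a scheme locally of finite type over `k` contains the image of a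
`K`-point -/
theorem exists_kpoint_mem_of_isClosed {Y : Over (Spec (CommRingCat.of k))}
    [LocallyOfFiniteType Y.hom] (C : Set Y.left) (hC : IsClosed C) (hne : C.Nonempty) :
    ∃ y : SpK k K ⟶ Y, y.left (pt K) ∈ C := by
  let YK := pullback Y.hom (Spec.map (CommRingCat.ofHom (algebraMap k K)))
  let π : YK ⟶ Y.left := pullback.fst _ _
  let σ : YK ⟶ Spec (CommRingCat.of K) := pullback.snd _ _
  haveI : LocallyOfFiniteType σ := inferInstance
  haveI : JacobsonSpace YK := LocallyOfFiniteType.jacobsonSpace σ
  haveI : Surjective (Spec.map (CommRingCat.ofHom (algebraMap k K))) := by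
    refine ⟨fun y => ⟨pt K, ?_⟩⟩
    exact Subsingleton.elim (α := PrimeSpectrum k) _ _
  haveI : Surjective π := inferInstance
  have hC' : IsClosed (π ⁻¹' C) := hC.preimage π.continuous
  have hne' : (π ⁻¹' C ∩ closedPoints YK).Nonempty := by
    by_contra h
    rw [Set.not_nonempty_iff_eq_empty] at h
    have h1 := closure_inter_closedPoints hC'
    rw [h, closure_empty] at h1
    obtain ⟨c, hc⟩ := hne
    obtain ⟨z, rfl⟩ := π.surjective c
    have : z ∈ π ⁻¹' C := hc
    rw [← h1] at this
    exact this
  obtain ⟨z, hzC, hz⟩ := hne'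
  let ξ := pointOfClosedPoint σ z hz
  have hξ : ξ ≫ σ = 𝟙 _ := pointOfClosedPoint_comp σ z hz
  let y : SpK k K ⟶ Y := Over.homMk (ξ ≫ π) (by
    change (ξ ≫ π) ≫ Y.hom = Spec.map (CommRingCat.ofHom (algebraMap k K))
    rw [Category.assoc, pullback.condition, ← Category.assoc]
    change (ξ ≫ σ) ≫ _ = _
    rw [hξ, Category.id_comp])
  refine ⟨y, ?_⟩
  change (ξ ≫ π) (pt K) ∈ C
  rw [Scheme.Hom.comp_apply, pointOfClosedPoint_apply]
  exact hzC

/-- an open subset containing the images of all `K`-points is everything -/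
theorem eq_univ_of_isOpen_of_kpoints {Y : Over (Spec (CommRingCat.of k))}
    [LocallyOfFiniteType Y.hom] (A : Set Y.left) (hA : IsOpen A)
    (h : ∀ y : SpK k K ⟶ Y, y.left (pt K) ∈ A) : A = Set.univ := by
  by_contra hne
  have hne' : (Aᶜ).Nonempty := by
    rw [Set.nonempty_compl]
    exact hne
  obtain ⟨y, hy⟩ := exists_kpoint_mem_of_isClosed (K := K) Aᶜ hA.isClosed_compl hne'
  exact hy (h y)

/-- a nonempty open subset contains the image of a `K`-point -/
theorem exists_kpoint_mem_of_isOpen {Y : Over (Spec (CommRingCat.of k))}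
    [LocallyOfFiniteType Y.hom] (A : Set Y.left) (hA : IsOpen A) (hne : A.Nonempty) :
    ∃ y : SpK k K ⟶ Y, y.left (pt K) ∈ A := by
  by_contra hcon
  push_neg at hcon
  have hd : Dense Aᶜ := dense_of_kpoints (K := K) Aᶜ hcon
  have h1 : Aᶜ = Set.univ := by
    rw [← hA.isClosed_compl.closure_eq]
    exact hd.closure_eq
  obtain ⟨a, ha⟩ := hne
  have : a ∈ Aᶜ := by rw [h1]; trivial
  exact this ha

end Groth.Agent.Lib.Helper10.KPts
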