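import Mathlib
import Groth.Agent.Lib.Helper10.KPts2
import Groth.Agent.Lib.Helper10.FlatPt2
import Groth.Agent.Lib.Helper10.QuotTower1
import Groth.Agent.Lib.Helper25.GFScheme

/-!
# Equivariant morphisms to a homogeneous space are faithfully flat
-/

set_option autoImplicit false
set_option backward.isDefEq.respectTransparency.types false
set_option maxHeartbeats 4000000
set_option synthInstance.maxHeartbeats 400000
universe u
open CategoryTheory CategoryTheory.Limits AlgebraicGeometry MonoidalCategory
  CartesianMonoidalCategory MonObj GrpObj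

namespace Groth.Agent.Lib.Helper10.Homog

open Groth.Agent.Lib.Helper10.HomSp Groth.Agent.Lib.Helper10.FlatPt Groth.Agent.Lib.Helper10.KPts

section General

variable {S : Scheme.{u}} {G X Y : Over S} [GrpObj G] (a : AlgGrp.Action G X)
  (b : AlgGrp.Action G Y) (f : X ⟶ Y) (hf : (G ◁ f) ≫ b.act = a.act ≫ f)

include hf in
theorem smul_comp {T : Over S} (g : T ⟶ G) (x : T ⟶ X) :
    smul a g x ≫ f = smul b g (x ≫ f) := by
  unfold smul
  rw [Category.assoc, ← hf, ← Category.assoc, lift_whiskerLeft]

include hf in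
/-- an equivariant morphism is a base change of itself along the action -/
theorem isPullback_act : IsPullback (G ◁ f) a.act b.act f := by
  refine isPullback_of_lift _ _ _ _ hf
    (fun α β _ => lift (α ≫ fst G Y) (smul a (α ≫ fst G Y)⁻¹ β)) ?_ ?_ ?_
  · intro W α β h
    have h2 : α ≫ b.act = smul b (α ≫ fst G Y) (α ≫ snd G Y) := by
      unfold smul
      rw [lift_comp_fst_snd]
    apply CartesianMonoidalCategory.hom_ext
    · rw [Category.assoc, whiskerLeft_fst, lift_fst]
    · rw [Category.assoc, whiskerLeft_snd, ← Category.assoc, lift_snd, smul_comp a b f hf, ← h,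
        h2, HomSp.inv_smul_smul]
  · intro W α β h
    change smul a (α ≫ fst G Y) (smul a (α ≫ fst G Y)⁻¹ β) = β
    rw [HomSp.smul_inv_smul]
  · intro W m m' e1 e2
    have hfst : m ≫ fst G X = m' ≫ fst G X := by
      have := congrArg (fun ψ => ψ ≫ fst G Y) e1
      simpa using this
    have h3 : ∀ n : W ⟶ G ⊗ X, n ≫ a.act = smul a (n ≫ fst G X) (n ≫ snd G X) := by
      intro n
      unfold smul
      rw [lift_comp_fst_snd]
    rw [h3, h3, hfst] at e2
    apply CartesianMonoidalCategory.hom_ext _ _ hfst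
    have := congrArg (smul a (m' ≫ fst G X)⁻¹) e2
    rwa [HomSp.inv_smul_smul, HomSp.inv_smul_smul] at this

end General

variable {k K : Type u} [Field k] [Field K] [Algebra k K] [IsAlgClosed K]

theorem lft_tensor {A B : Over (Spec (CommRingCat.of k))} [LocallyOfFiniteType A.hom]
    [LocallyOfFiniteType B.hom] : LocallyOfFiniteType (A ⊗ B).hom := by
  rw [Over.tensorObj_hom]
  infer_instance

theorem lfp_of_lft {A B : Over (Spec (CommRingCat.of k))} [LocallyOfFiniteType A.hom]
    [LocallyOfFiniteType B.hom] (π : A ⟶ B) : LocallyOfFinitePresentation π.left := by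
  haveI : IsLocallyNoetherian B.left := LocallyOfFiniteType.isLocallyNoetherian B.hom
  have hw : π.left ≫ B.hom = A.hom := Over.w π
  haveI : LocallyOfFiniteType (π.left ≫ B.hom) := by rw [hw]; infer_instance
  haveI : LocallyOfFiniteType π.left := locallyOfFiniteType_of_comp π.left B.hom
  infer_instance

theorem apply_comp {A B C : Over (Spec (CommRingCat.of k))} (u : A ⟶ B) (v : B ⟶ C)
    (z : A.left) : v.left (u.left z) = (u ≫ v).left z := by
  rw [Over.comp_left, Scheme.Hom.comp_apply]

/-- Let `G` act on `X` and `Y`, `f : X → Y` equivariant, `X` nonempty, `Y` reduced and `G(K)`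
transitive on `Y(K)`. Then `f` is faithfully flat. -/
theorem flat_surjective_of_transitive {G X Y : Over (Spec (CommRingCat.of k))} [GrpObj G]
    [LocallyOfFiniteType G.hom] [LocallyOfFiniteType X.hom] [QuasiCompact X.hom]
    [LocallyOfFiniteType Y.hom] [Nonempty X.left] [IsReduced Y.left]
    (a : AlgGrp.Action G X) (b : AlgGrp.Action G Y) (f : X ⟶ Y)
    (hf : (G ◁ f) ≫ b.act = a.act ≫ f)
    (htr : ∀ y y' : SpK k K ⟶ Y, ∃ g : SpK k K ⟶ G, lift g y ≫ b.act = y') :
    Flat f.left ∧ Surjective f.left := by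
  obtain ⟨x₀⟩ := ‹Nonempty X.left›
  haveI : Nonempty Y.left := ⟨f.left x₀⟩
  haveI : IsLocallyNoetherian Y.left := LocallyOfFiniteType.isLocallyNoetherian Y.hom
  haveI : LocallyOfFinitePresentation f.left := lfp_of_lft f
  haveI : LocallyOfFiniteType (G ⊗ Y).hom := lft_tensor
  haveI : LocallyOfFinitePresentation b.act.left := lfp_of_lft b.act
  haveI : Flat b.act.left := flat_act b
  haveI : Flat a.act.left := flat_act a
  haveI : QuasiCompact f.left := by
    haveI : QuasiCompact (f.left ≫ Y.hom) := by rw [Over.w]; infer_instance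
    exact QuasiCompact.of_comp f.left Y.hom
  obtain ⟨U, hUd, hUfl, -⟩ := Groth.Agent.Lib.Helper25.GFScheme.generic_flatness f.left
  haveI := hUfl
  -- the open subscheme of `X` over `U`
  let W : X.left.Opens := f.left ⁻¹ᵁ U
  let XW : Over (Spec (CommRingCat.of k)) := Over.mk (W.ι ≫ X.hom)
  let j : XW ⟶ X := Over.homMk W.ι rfl
  have hjf : Flat (j ≫ f).left := by
    change Flat (W.ι ≫ f.left)
    rw [← morphismRestrict_ι]
    infer_instance
  -- `K`-points in nonempty opens and transitivity
  have hmove : ∀ (A : Set Y.left), IsOpen A → A.Nonempty → ∀ y₁ : SpK k K ⟶ Y,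
      ∃ w : (G ⊗ Y).left, (snd G Y).left w ∈ A ∧ b.act.left w = y₁.left (pt K) := by
    intro A hA hne y₁
    obtain ⟨y₀, hy₀⟩ := exists_kpoint_mem_of_isOpen (K := K) A hA hne
    obtain ⟨g, hg⟩ := htr y₀ y₁
    refine ⟨(lift g y₀).left (pt K), ?_, ?_⟩
    · rw [apply_comp, lift_snd]; exact hy₀
    · rw [apply_comp, hg]
  -- every point of `Y` is a translate of a point of `U`
  have hB : b.act.left '' ((snd G Y).left ⁻¹' (U : Set Y.left)) = Set.univ := by
    apply eq_univ_of_isOpen_of_kpoints (K := K)
    · exact b.act.left.isOpenMap _ (U.2.preimage (snd G Y).left.continuous)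
    · intro y₁
      obtain ⟨w, hw1, hw2⟩ := hmove U U.2 hUd.nonempty y₁
      exact ⟨w, hw1, hw2⟩
  -- the covering `G × f⁻¹U → X`
  let c : G ⊗ XW ⟶ X := (G ◁ j) ≫ a.act
  have sqj : IsPullback (G ◁ j).left (snd G XW).left (snd G X).left j.left :=
    (isPullback_whiskerLeft_snd G j).map (Over.forget _)
  have sqf : IsPullback (G ◁ f).left (snd G X).left (snd G Y).left f.left :=
    (isPullback_whiskerLeft_snd G f).map (Over.forget _)
  have sqjf : IsPullback (G ◁ (j ≫ f)).left (snd G XW).left (snd G Y).left (j ≫ f).left :=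
    (isPullback_whiskerLeft_snd G (j ≫ f)).map (Over.forget _)
  have sqa : IsPullback (G ◁ f).left a.act.left b.act.left f.left :=
    (isPullback_act a b f hf).map (Over.forget _)
  haveI : Flat (G ◁ j).left :=
    MorphismProperty.of_isPullback (P := @Flat) sqj.flip (inferInstanceAs (Flat W.ι))
  haveI : Flat (G ◁ (j ≫ f)).left := MorphismProperty.of_isPullback (P := @Flat) sqjf.flip hjf
  haveI hcfl : Flat c.left := by
    change Flat ((G ◁ j).left ≫ a.act.left)
    infer_instance
  have hcf : c ≫ f = (G ◁ (j ≫ f)) ≫ b.act := by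
    change ((G ◁ j) ≫ a.act) ≫ f = _
    rw [Category.assoc, ← hf, ← Category.assoc, ← MonoidalCategory.whiskerLeft_comp]
  haveI hcffl : Flat (c.left ≫ f.left) := by
    rw [← Over.comp_left, hcf, Over.comp_left]
    infer_instance
  haveI hcsurj : Surjective c.left := by
    refine ⟨fun x => ?_⟩
    have hx : f.left x ∈ b.act.left '' ((snd G Y).left ⁻¹' (U : Set Y.left)) := by
      rw [hB]; trivial
    obtain ⟨w, hwU, hbw⟩ := hx
    obtain ⟨z, hz1, hz2⟩ := exists_preimage_of_isPullback sqa w x hbw
    have hzW : (snd G X).left z ∈ W := by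
      change f.left ((snd G X).left z) ∈ U
      rw [apply_comp, ← whiskerLeft_snd, ← apply_comp, hz1]
      exact hwU
    obtain ⟨z', hz'1, -⟩ := exists_preimage_of_isPullback sqj z (⟨_, hzW⟩ : W) rfl
    refine ⟨z', ?_⟩
    change a.act.left ((G ◁ j).left z') = x
    rw [hz'1, hz2]
  haveI hflat : Flat f.left :=
    Groth.Agent.Lib.Helper10.QuotTower.flat_of_surjective_flat_comp c.left f.left
  refine ⟨hflat, ?_⟩
  -- surjectivity
  have hR : Set.range f.left = Set.univ := by
    apply eq_univ_of_isOpen_of_kpoints (K := K)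
    · exact f.left.isOpenMap.isOpen_range
    · intro y₁
      obtain ⟨w, ⟨x₁, hx₁⟩, hw2⟩ := hmove (Set.range f.left) f.left.isOpenMap.isOpen_range
        ⟨_, x₀, rfl⟩ y₁
      obtain ⟨z, hz1, -⟩ := exists_preimage_of_isPullback sqf w x₁ hx₁.symm
      refine ⟨a.act.left z, ?_⟩
      rw [apply_comp, ← hf, ← apply_comp, hz1, hw2]
  exact ⟨fun y => by rw [← Set.mem_range, hR]; trivial⟩

end Groth.Agent.Lib.Helper10.Homog
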