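import Mathlib
import Groth.Agent.Lib.Helper10.HomSp1
import Groth.Agent.Lib.Helper10.Homog1

/-!
# Actions of locally algebraic groups over a field: the action is universally open; saturation of
open sets
-/

set_option autoImplicit false
set_option backward.isDefEq.respectTransparency.types false
set_option maxHeartbeats 4000000
set_option synthInstance.maxHeartbeats 400000
universe u
open CategoryTheory CategoryTheory.Limits AlgebraicGeometry MonoidalCategory
  CartesianMonoidalCategory MonObj GrpObj

namespace Groth.Agent.Lib.Helper10.ActOpen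

open Groth.Agent.Lib.Helper10.HomSp

variable {S : Scheme.{u}} {G X : Over S} [GrpObj G] (a : AlgGrp.Action G X)

/-- the action morphism is isomorphic to the second projection -/
theorem act_eq : a.act = actT a (𝟙 G) ≫ snd G X := by
  rw [actT_snd_eq, id_whiskerRight, Category.id_comp]

theorem P_act (P : MorphismProperty Scheme.{u}) [P.RespectsIso]
    (h : P (snd G X).left) : P a.act.left := by
  rw [act_eq a, Over.comp_left]
  haveI : IsIso (actT a (𝟙 G)).left :=
    inferInstanceAs (IsIso ((Over.forget _).map (actT a (𝟙 G))))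
  exact (P.cancel_left_of_respectsIso _ _).mpr h

theorem universallyOpen_act [UniversallyOpen G.hom] : UniversallyOpen a.act.left := by
  apply P_act a @UniversallyOpen
  rw [Over.snd_left]
  infer_instance

theorem flat_act' [Flat G.hom] : Flat a.act.left := by
  apply P_act a @Flat
  rw [Over.snd_left]
  infer_instance

/-- the unit section of `G ⊗ X` over `X` -/
noncomputable def unitSec : X ⟶ G ⊗ X := lift (toUnit X ≫ η[G]) (𝟙 X)

theorem unitSec_snd : unitSec (G := G) (X := X) ≫ snd G X = 𝟙 X := lift_snd _ _

theorem unitSec_act : unitSec (G := G) (X := X) ≫ a.act = 𝟙 X := by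
  unfold unitSec
  have := one_smul a (𝟙 X)
  unfold smul at this
  rw [Hom.one_def] at this
  exact this

/-- `(g, (h, x)) ↦ (g h, x)` -/
noncomputable def mulMap : G ⊗ (G ⊗ X) ⟶ G ⊗ X := (α_ G G X).inv ≫ (μ[G] ▷ X)

theorem mulMap_act : mulMap (G := G) (X := X) ≫ a.act = (G ◁ a.act) ≫ a.act := by
  unfold mulMap
  rw [Category.assoc, a.mul_act, Iso.inv_hom_id_assoc]

theorem mulMap_snd : mulMap (G := G) (X := X) ≫ snd G X = snd G (G ⊗ X) ≫ snd G X := by
  unfold mulMap
  rw [Category.assoc, whiskerRight_snd]
  simp

section Sat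

variable (U : Set ↥X.left)

/-- `G · U` -/
def sat : Set ↥X.left := a.act.left.base '' ((snd G X).left.base ⁻¹' U)

theorem subset_sat : U ⊆ sat a U := by
  intro u hu
  refine ⟨(unitSec (G := G) (X := X)).left u, ?_, ?_⟩
  · show (snd G X).left ((unitSec (G := G) (X := X)).left u) ∈ U
    rw [← Scheme.Hom.comp_apply, ← Over.comp_left, unitSec_snd]
    exact hu
  · show a.act.left ((unitSec (G := G) (X := X)).left u) = u
    rw [← Scheme.Hom.comp_apply, ← Over.comp_left, unitSec_act]
    rfl

theorem sat_sat_subset : sat a (sat a U) ⊆ sat a U := by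
  rintro _ ⟨z, hz, rfl⟩
  obtain ⟨w, hw, hwz⟩ := hz
  have sq : IsPullback (G ◁ a.act).left (snd G (G ⊗ X)).left (snd G X).left a.act.left :=
    (isPullback_whiskerLeft_snd G a.act).map (Over.forget S)
  obtain ⟨ξ', h1', h2'⟩ := Scheme.Pullback.exists_preimage_pullback
    (f := (snd G X).left) (g := a.act.left) z w hwz.symm
  -- transport to the chosen pullback
  let e := sq.isoPullback
  let ξ := e.inv ξ'
  have h1 : (G ◁ a.act).left ξ = z := by
    show (G ◁ a.act).left (e.inv ξ') = z
    rw [← Scheme.Hom.comp_apply, sq.isoPullback_inv_fst]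
    exact h1'
  have h2 : (snd G (G ⊗ X)).left ξ = w := by
    show (snd G (G ⊗ X)).left (e.inv ξ') = w
    rw [← Scheme.Hom.comp_apply, sq.isoPullback_inv_snd]
    exact h2'
  refine ⟨(mulMap (G := G) (X := X)).left ξ, ?_, ?_⟩
  · show (snd G X).left ((mulMap (G := G) (X := X)).left ξ) ∈ U
    rw [← Scheme.Hom.comp_apply, ← Over.comp_left, mulMap_snd, Over.comp_left,
      Scheme.Hom.comp_apply, h2]
    exact hw
  · show a.act.left ((mulMap (G := G) (X := X)).left ξ) = a.act.left z
    rw [← Scheme.Hom.comp_apply, ← Over.comp_left, mulMap_act, Over.comp_left,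
      Scheme.Hom.comp_apply, h1]

theorem isOpen_sat [UniversallyOpen G.hom] (hU : IsOpen U) : IsOpen (sat a U) := by
  haveI := universallyOpen_act a
  exact a.act.left.isOpenMap _ (hU.preimage (snd G X).left.continuous)

theorem sat_mono {U W : Set ↥X.left} (h : U ⊆ W) : sat a U ⊆ sat a W :=
  Set.image_mono (Set.preimage_mono h)

end Sat

end Groth.Agent.Lib.Helper10.ActOpen
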