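import Mathlib
import Groth.Agent.Lib.Helper10.ActOpen1

/-!
# The largest open over which an equivariant morphism has a property is stable
-/

set_option autoImplicit false
set_option backward.isDefEq.respectTransparency.types false
set_option maxHeartbeats 4000000
set_option synthInstance.maxHeartbeats 400000
universe u
open CategoryTheory CategoryTheory.Limits AlgebraicGeometry MonoidalCategory
  CartesianMonoidalCategory MonObj GrpObj

namespace Groth.Agent.Lib.Helper10.ActOpen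

open Groth.Agent.Lib.Helper10.HomSp

section Restrict

/-- restricting a pullback square to opens -/
theorem isPullback_restrict {P B X' Y' : Scheme.{u}} {a : P ⟶ B} {b : P ⟶ X'} {c : B ⟶ Y'}
    {F : X' ⟶ Y'} (sq : IsPullback a b c F) (O : B.Opens) (V : Y'.Opens)
    (c' : (O : Scheme.{u}) ⟶ V) (hc : c' ≫ V.ι = O.ι ≫ c) :
    ∃ b' : ((a ⁻¹ᵁ O : P.Opens) : Scheme.{u}) ⟶ (F ⁻¹ᵁ V : X'.Opens),
      IsPullback (a ∣_ O) b' c' (F ∣_ V) := by
  have s₁ : IsPullback (a ∣_ O) (a ⁻¹ᵁ O).ι O.ι a := isPullback_morphismRestrict a O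
  have big : IsPullback (a ∣_ O) ((a ⁻¹ᵁ O).ι ≫ b) (O.ι ≫ c) F := s₁.paste_vert sq
  have bot : IsPullback (F ∣_ V) (F ⁻¹ᵁ V).ι V.ι F := isPullback_morphismRestrict F V
  have hw : ((a ∣_ O) ≫ c') ≫ V.ι = ((a ⁻¹ᵁ O).ι ≫ b) ≫ F := by
    rw [Category.assoc, hc, big.w]
  refine ⟨bot.lift ((a ∣_ O) ≫ c') ((a ⁻¹ᵁ O).ι ≫ b) hw, ?_⟩
  have h1 : bot.lift ((a ∣_ O) ≫ c') ((a ⁻¹ᵁ O).ι ≫ b) hw ≫ (F ∣_ V) = (a ∣_ O) ≫ c' :=
    bot.lift_fst _ _ _
  have h2 : bot.lift ((a ∣_ O) ≫ c') ((a ⁻¹ᵁ O).ι ≫ b) hw ≫ (F ⁻¹ᵁ V).ι = (a ⁻¹ᵁ O).ι ≫ b :=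
    bot.lift_snd _ _ _
  have big' : IsPullback (a ∣_ O)
      (bot.lift ((a ∣_ O) ≫ c') ((a ⁻¹ᵁ O).ι ≫ b) hw ≫ (F ⁻¹ᵁ V).ι) (c' ≫ V.ι) F := by
    rw [h2, hc]; exact big
  exact IsPullback.of_bot big' h1.symm bot

end Restrict

section Largest

variable {X' Y' : Scheme.{u}} (F : X' ⟶ Y') (P : MorphismProperty Scheme.{u})
  [IsZariskiLocalAtTarget P]

/-- the largest open over which `F` has `P` -/
noncomputable def largest : Y'.Opens := ⨆ V' : {V' : Y'.Opens // P (F ∣_ V')}, V'.1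

theorem le_largest (V' : Y'.Opens) (h : P (F ∣_ V')) : V' ≤ largest F P :=
  le_iSup (fun V' : {V' : Y'.Opens // P (F ∣_ V')} => V'.1) ⟨V', h⟩

theorem P_largest : P (F ∣_ largest F P) := by
  set V := largest F P with hV
  let W : {V' : Y'.Opens // P (F ∣_ V')} → (V : Scheme.{u}).Opens := fun V' => V.ι ⁻¹ᵁ V'.1
  have hW : ∀ V' : {V' : Y'.Opens // P (F ∣_ V')}, V.ι ''ᵁ (W V') = V'.1 := by
    intro V'
    have hle : V'.1 ≤ V := le_largest F P V'.1 V'.2
    ext y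
    simp only [W, Scheme.Hom.image_preimage_eq_opensRange_inf, Scheme.Opens.opensRange_ι]
    constructor
    · intro h; exact h.2
    · intro h; exact ⟨hle h, h⟩
  have hsup : iSup W = ⊤ := by
    rw [eq_top_iff]
    rintro ⟨y, hy⟩ -
    have hy' : y ∈ (⨆ V' : {V' : Y'.Opens // P (F ∣_ V')}, V'.1 : Y'.Opens) := hy
    rw [TopologicalSpace.Opens.mem_iSup] at hy' ⊢
    obtain ⟨V', hV'⟩ := hy'
    exact ⟨V', hV'⟩
  apply IsZariskiLocalAtTarget.of_iSup_eq_top W hsup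
  intro V'
  rw [P.arrow_mk_iso_iff (morphismRestrictRestrict F V (W V')),
    P.arrow_mk_iso_iff (morphismRestrictEq F (hW V'))]
  exact V'.2

end Largest

section Main

variable {k : Type u} [Field k] {G X Y : Over (Spec (CommRingCat.of k))} [GrpObj G]
  [LocallyOfFiniteType G.hom]
  (aX : AlgGrp.Action G X) (aY : AlgGrp.Action G Y) (f : X ⟶ Y)
  (hf : (G ◁ f) ≫ aY.act = aX.act ≫ f)
  (P : MorphismProperty Scheme.{u}) [IsZariskiLocalAtTarget P] [P.IsStableUnderBaseChange]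
  [P.DescendsAlong (@Flat ⊓ @Surjective ⊓ @UniversallyOpen)]

include hf in
theorem stable_of_P (V : Y.left.Opens) (hV : P (f.left ∣_ V))
    (hmax : ∀ V' : Y.left.Opens, P (f.left ∣_ V') → V' ≤ V) :
    (snd G Y).left ⁻¹ᵁ V ≤ aY.act.left ⁻¹ᵁ V := by
  haveI : Flat G.hom := inferInstance
  haveI : LocallyOfFinitePresentation G.hom := inferInstance
  haveI : UniversallyOpen G.hom := inferInstance
  haveI hAo : UniversallyOpen aY.act.left := universallyOpen_act aY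
  haveI hAf : Flat aY.act.left := flat_act' aY
  have sqA : IsPullback (G ◁ f).left aX.act.left aY.act.left f.left :=
    (Groth.Agent.Lib.Helper10.Homog.isPullback_act aX aY f hf).map (Over.forget _)
  have sqP : IsPullback (G ◁ f).left (snd G X).left (snd G Y).left f.left :=
    (isPullback_whiskerLeft_snd G f).map (Over.forget _)
  set O : (G ⊗ Y).left.Opens := (snd G Y).left ⁻¹ᵁ V with hO
  -- stage 1 : base change
  obtain ⟨b₁, s₁⟩ := isPullback_restrict sqP O V ((snd G Y).left ∣_ V)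
    (morphismRestrict_ι _ _)
  have h₁ : P ((G ◁ f).left ∣_ O) := P.of_isPullback s₁.flip hV
  -- stage 2 : descent
  let V₂ : Y.left.Opens := ⟨aY.act.left '' (O : Set (G ⊗ Y).left),
    aY.act.left.isOpenMap _ O.2⟩
  have hle : O ≤ aY.act.left ⁻¹ᵁ V₂ := by
    intro z hz
    exact ⟨z, hz, rfl⟩
  let α : (O : Scheme.{u}) ⟶ V₂ := (G ⊗ Y).left.homOfLE hle ≫ (aY.act.left ∣_ V₂)
  have hα : α ≫ V₂.ι = O.ι ≫ aY.act.left := by
    simp only [α, Category.assoc, morphismRestrict_ι, Scheme.homOfLE_ι_assoc]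
  obtain ⟨b₂, s₂⟩ := isPullback_restrict sqA O V₂ α hα
  haveI : Flat (aY.act.left ∣_ V₂) := IsZariskiLocalAtTarget.restrict hAf V₂
  haveI : UniversallyOpen (aY.act.left ∣_ V₂) := IsZariskiLocalAtTarget.restrict hAo V₂
  have hQ : (@Flat ⊓ @Surjective ⊓ @UniversallyOpen : MorphismProperty Scheme.{u}) α := by
    refine ⟨⟨?_, ?_⟩, ?_⟩
    · show Flat α
      infer_instance
    · show Surjective α
      refine ⟨fun v => ?_⟩
      obtain ⟨z, hz, hzv⟩ := v.2
      refine ⟨⟨z, hz⟩, ?_⟩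
      apply V₂.ι.injective
      rw [← Scheme.Hom.comp_apply, hα, Scheme.Hom.comp_apply]
      exact hzv
    · show UniversallyOpen α
      infer_instance
  have h₂ : P (f.left ∣_ V₂) :=
    MorphismProperty.of_isPullback_of_descendsAlong
      (Q := (@Flat ⊓ @Surjective ⊓ @UniversallyOpen : MorphismProperty Scheme.{u})) s₂ hQ h₁
  have h₃ : V₂ ≤ V := hmax V₂ h₂
  intro z hz
  exact h₃ ⟨z, hz, rfl⟩

end Main

end Groth.Agent.Lib.Helper10.ActOpen
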