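import Mathlib
import Groth.Agent.Lib.Helper10.ClosedSubF

/-!
# Closed conditions on a functor of `R`-algebras represented (on affine schemes) by a scheme
-/

set_option autoImplicit false
set_option linter.unusedSectionVars false
set_option linter.style.haveILetI false
set_option backward.isDefEq.respectTransparency.types false
set_option maxHeartbeats 4000000
set_option synthInstance.maxHeartbeats 400000
universe u
open CategoryTheory CategoryTheory.Limits AlgebraicGeometry Opposite

namespace Groth.Agent.Lib.Helper10.AffPtClosed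

open Groth.Agent.Lib.Helper10.ClosedSubF

variable (R : Type u) [CommRing R]

/-- the affine scheme of an `R`-algebra, over `Spec R`. -/
noncomputable abbrev SpA (A : CommAlgCat.{u} R) : Over (Spec (CommRingCat.of R)) :=
  Over.mk (Spec.map (CommRingCat.ofHom (algebraMap R A)))

variable {R} (X : Over (Spec (CommRingCat.of R)))

/-- every morphism from an affine scheme to `X` is an affine point. -/
theorem exists_pt (B : CommRingCat.{u}) (m : Spec B ⟶ X.left) :
    ∃ (_ : Algebra R B) (g : SpA R (CommAlgCat.of R B) ⟶ X), g.left = m := by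
  let ρ : CommRingCat.of R ⟶ B := Spec.preimage (m ≫ X.hom)
  letI : Algebra R B := ρ.hom.toAlgebra
  refine ⟨inferInstance, Over.homMk m ?_, rfl⟩
  change m ≫ X.hom = Spec.map (CommRingCat.ofHom (algebraMap R B))
  have h1 : (algebraMap R B) = ρ.hom := RingHom.algebraMap_toAlgebra ρ.hom
  rw [h1]
  exact (Spec.map_preimage (m ≫ X.hom)).symm

/-- morphisms of affine points come from algebra homomorphisms. -/
theorem exists_algHom {A C : CommAlgCat.{u} R} (g : SpA R A ⟶ X) (g' : SpA R C ⟶ X)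
    (a : (SpA R C).left ⟶ (SpA R A).left) (h : a ≫ g.left = g'.left) :
    ∃ φ : A ⟶ C, a = Spec.map (CommRingCat.ofHom φ.hom.toRingHom) := by
  let φ₀ : CommRingCat.of A ⟶ CommRingCat.of C := Spec.preimage a
  have hφ₀ : Spec.map φ₀ = a := Spec.map_preimage a
  have h1 : CommRingCat.ofHom (algebraMap R A) ≫ φ₀ = CommRingCat.ofHom (algebraMap R C) := by
    apply Spec.map_injective
    rw [Spec.map_comp, hφ₀]
    have e1 : g.left ≫ X.hom = Spec.map (CommRingCat.ofHom (algebraMap R A)) := Over.w g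
    have e2 : g'.left ≫ X.hom = Spec.map (CommRingCat.ofHom (algebraMap R C)) := Over.w g'
    rw [← e1, ← e2, ← h, Category.assoc]
  let ψ : A →ₐ[R] C :=
    { φ₀.hom with
      commutes' := fun r => by
        have := congrArg (fun f => f.hom r) h1
        exact this }
  refine ⟨CommAlgCat.ofHom ψ, ?_⟩
  rw [← hφ₀]
  rfl


/-- an element of a ring vanishing Zariski locally vanishes. -/
theorem eq_zero_of_forall_exists_localization {A : Type u} [CommRing A] (j : A)
    (h : ∀ p : PrimeSpectrum A, ∃ f : A, f ∉ p.asIdeal ∧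
      algebraMap A (Localization.Away f) j = 0) : j = 0 := by
  by_contra hj
  have hne : Ideal.span {j} ≠ ⊥ := by
    intro e
    apply hj
    have : j ∈ Ideal.span {j} := Ideal.subset_span rfl
    rw [e] at this
    exact this
  let I : Ideal A := (Ideal.span {j}).annihilator
  have hI : I ≠ ⊤ := by
    intro e
    apply hj
    have h1 : (1 : A) ∈ I := by rw [e]; trivial
    have h2 := Submodule.mem_annihilator.mp h1 j (Ideal.subset_span rfl)
    simpa using h2
  obtain ⟨m, hm, hle⟩ := Ideal.exists_le_maximal I hI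
  obtain ⟨f, hf, hfj⟩ := h ⟨m, hm.isPrime⟩
  obtain ⟨⟨c, hc⟩, hcj⟩ := (IsLocalization.map_eq_zero_iff (Submonoid.powers f)
    (Localization.Away f) j).mp hfj
  obtain ⟨n, rfl⟩ := hc
  apply hf
  have h3 : f ^ n ∈ I := by
    apply Submodule.mem_annihilator.mpr
    intro y hy
    obtain ⟨c', rfl⟩ := Ideal.mem_span_singleton'.mp hy
    change f ^ n * (c' * j) = 0
    have : f ^ n * j = 0 := hcj
    rw [mul_left_comm, this, mul_zero]
  exact hm.isPrime.mem_of_pow_mem n (hle h3)

variable (F : CommAlgCat.{u} R ⥤ Type u)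
  (eX : ∀ A : CommAlgCat.{u} R, (SpA R A ⟶ X) ≃ F.obj A)
  (heX : ∀ (A C : CommAlgCat.{u} R) (φ : A ⟶ C) (g : SpA R A ⟶ X) (g' : SpA R C ⟶ X),
    g'.left = Spec.map (CommRingCat.ofHom φ.hom.toRingHom) ≫ g.left →
      eX C g' = F.map φ (eX A g))
  (Cond : ∀ A : CommAlgCat.{u} R, F.obj A → Prop)
  (hCond : ∀ (A : CommAlgCat.{u} R) (N : F.obj A), ∃ J : Ideal A,
    ∀ (C : CommAlgCat.{u} R) (φ : A ⟶ C), Cond C (F.map φ N) ↔ J ≤ RingHom.ker φ.hom.toRingHom)

theorem cond_iff_eq_bot (A : CommAlgCat.{u} R) (N : F.obj A) (J : Ideal A)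
    (hJ : ∀ (C : CommAlgCat.{u} R) (φ : A ⟶ C),
      Cond C (F.map φ N) ↔ J ≤ RingHom.ker φ.hom.toRingHom) : Cond A N ↔ J = ⊥ := by
  have h1 := hJ A (𝟙 A)
  rw [F.map_id] at h1
  have h2 : RingHom.ker (CommAlgCat.Hom.hom (𝟙 A)).toRingHom = ⊥ := by
    ext x
    rw [RingHom.mem_ker, Ideal.mem_bot]
    rfl
  rw [h2, le_bot_iff] at h1
  exact h1


/-- the subfunctor of points satisfying the condition. -/
def condSubF : SubF X.left where
  P T t := ∀ (A : CommAlgCat.{u} R) (g : SpA R A ⟶ X) (a : (SpA R A).left ⟶ T),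
    a ≫ t = g.left → Cond A (eX A g)
  pre T T' s t h A g a hag := h A g (a ≫ s) (by rw [Category.assoc]; exact hag)

include heX hCond in
theorem condSubF_isZarLocal : (condSubF X F eX Cond).IsZarLocal := by
  intro T 𝒱 t ht A g a hag
  obtain ⟨J, hJ⟩ := hCond A (eX A g)
  rw [cond_iff_eq_bot F Cond A _ J hJ, eq_bot_iff]
  intro j hj
  rw [Ideal.mem_bot]
  apply eq_zero_of_forall_exists_localization
  intro p
  obtain ⟨k, y, hy⟩ := 𝒱.exists_eq (a p)
  have hopen : IsOpen (a ⁻¹' Set.range (𝒱.f k)) :=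
    (𝒱.f k).isOpenEmbedding.isOpen_range.preimage a.continuous
  obtain ⟨_, ⟨f, rfl⟩, hpf, hfsub⟩ :=
    PrimeSpectrum.isTopologicalBasis_basic_opens.exists_subset_of_mem_open
      (show p ∈ a ⁻¹' Set.range (𝒱.f k) from ⟨y, hy⟩) hopen
  refine ⟨f, hpf, ?_⟩
  let C : CommAlgCat.{u} R := CommAlgCat.of R (Localization.Away f)
  let φ : A ⟶ C := CommAlgCat.ofHom (IsScalarTower.toAlgHom R A (Localization.Away f))
  let af : (SpA R C).left ⟶ (SpA R A).left := Spec.map (CommRingCat.ofHom φ.hom.toRingHom)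
  have hr : Set.range (af ≫ a) ⊆ Set.range (𝒱.f k) := by
    rintro _ ⟨z, rfl⟩
    rw [Scheme.Hom.comp_apply]
    apply hfsub
    have h1 : af z ∈ Set.range (PrimeSpectrum.comap (algebraMap A (Localization.Away f))) :=
      ⟨z, rfl⟩
    rw [PrimeSpectrum.localization_away_comap_range (Localization.Away f) f] at h1
    exact h1
  let b : (SpA R C).left ⟶ 𝒱.X k := IsOpenImmersion.lift (𝒱.f k) (af ≫ a) hr
  have hb : b ≫ 𝒱.f k = af ≫ a := IsOpenImmersion.lift_fac _ _ _
  let gf : SpA R C ⟶ X := Over.homMk (af ≫ g.left) (by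
    change (af ≫ g.left) ≫ X.hom = Spec.map (CommRingCat.ofHom (algebraMap R (Localization.Away f)))
    have e1 : g.left ≫ X.hom = Spec.map (CommRingCat.ofHom (algebraMap R A)) := Over.w g
    rw [Category.assoc, e1, ← Spec.map_comp]
    congr 1)
  have h2 : Cond C (eX C gf) := ht k C gf b (by
    rw [← Category.assoc, hb, Category.assoc, hag]
    rfl)
  rw [heX A C φ g gf rfl, hJ C φ] at h2
  exact h2 hj

include heX hCond in
theorem condSubF_good (x : X.left) : ∃ V : X.left.Opens, IsAffineOpen V ∧ x ∈ V ∧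
    SubF.Good (condSubF X F eX Cond) V := by
  obtain ⟨V, hV, hxV, -⟩ := exists_isAffineOpen_mem_and_subset (x := x) (U := ⊤) trivial
  refine ⟨V, hV, hxV, ?_⟩
  obtain ⟨algB, gV, hgV⟩ := exists_pt X Γ(X.left, V) hV.fromSpec
  letI := algB
  let AV : CommAlgCat.{u} R := CommAlgCat.of R ↑Γ(X.left, V)
  obtain ⟨J, hJ⟩ := hCond AV (eX AV gV)
  haveI : IsClosedImmersion (Spec.map (CommRingCat.ofHom (Ideal.Quotient.mk J))) :=
    IsClosedImmersion.spec_of_surjective _ Ideal.Quotient.mk_surjective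
  refine ⟨Spec (CommRingCat.of (↑Γ(X.left, V) ⧸ J)),
    Spec.map (CommRingCat.ofHom (Ideal.Quotient.mk J)) ≫ hV.isoSpec.inv, inferInstance,
    fun T t => ⟨?_, ?_⟩⟩
  · intro hP
    have key : ∀ k, ∃ w : T.affineOpenCover.openCover.X k ⟶
        Spec (CommRingCat.of (↑Γ(X.left, V) ⧸ J)),
        w ≫ (Spec.map (CommRingCat.ofHom (Ideal.Quotient.mk J)) ≫ hV.isoSpec.inv) =
          T.affineOpenCover.openCover.f k ≫ t := by
      intro k
      let tk : Spec (T.affineOpenCover.X k) ⟶ V.toScheme := T.affineOpenCover.openCover.f k ≫ t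
      obtain ⟨algk, gk, hgk⟩ := exists_pt X (T.affineOpenCover.X k) (tk ≫ V.ι)
      letI := algk
      let Ak : CommAlgCat.{u} R := CommAlgCat.of R ↑(T.affineOpenCover.X k)
      let a' : (SpA R Ak).left ⟶ (SpA R AV).left := tk ≫ hV.isoSpec.hom
      have h : a' ≫ gV.left = gk.left := by
        rw [hgV, hgk]
        change (tk ≫ hV.isoSpec.hom) ≫ hV.isoSpec.inv ≫ V.ι = tk ≫ V.ι
        rw [Category.assoc, Iso.hom_inv_id_assoc]
      obtain ⟨φ, hφ⟩ := exists_algHom X gV gk a' h
      have hc : Cond Ak (eX Ak gk) := hP Ak gk (T.affineOpenCover.openCover.f k) (by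
        rw [hgk]
        exact (Category.assoc _ _ _).symm)
      rw [heX AV Ak φ gV gk (by rw [← hφ, h]), hJ Ak φ] at hc
      let χ : (↑Γ(X.left, V) ⧸ J) →+* ↑(T.affineOpenCover.X k) :=
        Ideal.Quotient.lift J φ.hom.toRingHom (fun j hj => hc hj)
      refine ⟨Spec.map (CommRingCat.ofHom χ), ?_⟩
      have e1 : CommRingCat.ofHom (Ideal.Quotient.mk J) ≫ CommRingCat.ofHom χ =
          CommRingCat.ofHom φ.hom.toRingHom := by
        apply CommRingCat.hom_ext
        exact Ideal.Quotient.lift_comp_mk J _ _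
      have e0 : Spec.map (CommRingCat.ofHom χ) ≫
          Spec.map (CommRingCat.ofHom (Ideal.Quotient.mk J)) = a' :=
        ((Spec.map_comp _ _).symm.trans (congrArg Spec.map e1)).trans hφ.symm
      have e2 : a' ≫ hV.isoSpec.inv = tk := by
        change (tk ≫ hV.isoSpec.hom) ≫ hV.isoSpec.inv = tk
        rw [Category.assoc, Iso.hom_inv_id, Category.comp_id]
      exact (Category.assoc _ _ _).symm.trans
        ((congrArg (fun m => m ≫ hV.isoSpec.inv) e0).trans e2)
    choose w hw using key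
    exact exists_lift_of_mono T.affineOpenCover.openCover _ t w hw
  · rintro ⟨w, rfl⟩ A g a hag
    let a' : (SpA R A).left ⟶ (SpA R AV).left :=
      a ≫ w ≫ Spec.map (CommRingCat.ofHom (Ideal.Quotient.mk J))
    have h : a' ≫ gV.left = g.left := by
      rw [hgV, ← hag]
      change (a ≫ w ≫ Spec.map (CommRingCat.ofHom (Ideal.Quotient.mk J))) ≫
        hV.isoSpec.inv ≫ V.ι = _
      simp only [Category.assoc]
    obtain ⟨φ, hφ⟩ := exists_algHom X gV g a' h
    rw [heX AV A φ gV g (by rw [← hφ, h]), hJ A φ]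
    let χ₀ : CommRingCat.of (↑Γ(X.left, V) ⧸ J) ⟶ CommRingCat.of A := Spec.preimage (a ≫ w)
    have e1 : CommRingCat.ofHom φ.hom.toRingHom =
        CommRingCat.ofHom (Ideal.Quotient.mk J) ≫ χ₀ := by
      apply Spec.map_injective
      rw [← hφ, Spec.map_comp, Spec.map_preimage]
      exact (Category.assoc _ _ _).symm
    intro j hj
    rw [RingHom.mem_ker]
    have e2 := congrArg (fun f => f.hom j) e1
    change φ.hom.toRingHom j = χ₀.hom (Ideal.Quotient.mk J j) at e2
    rw [e2, Ideal.Quotient.eq_zero_iff_mem.mpr hj, map_zero]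

include heX hCond in
/-- **closed conditions are represented by closed subschemes.** -/
theorem exists_closed : ∃ (Z : Scheme.{u}) (ι : Z ⟶ X.left), IsClosedImmersion ι ∧
    ∀ (A : CommAlgCat.{u} R) (g : SpA R A ⟶ X),
      (∃ h : (SpA R A).left ⟶ Z, h ≫ ι = g.left) ↔ Cond A (eX A g) := by
  obtain ⟨Z, ι, hι, hrep⟩ := exists_repBy_of_good (condSubF X F eX Cond)
    (condSubF_good X F eX heX Cond hCond) (condSubF_isZarLocal X F eX heX Cond hCond)
  refine ⟨Z, ι, hι, fun A g => ?_⟩
  rw [← hrep g.left]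
  constructor
  · intro hP
    exact hP A g (𝟙 _) (Category.id_comp _)
  · intro hc A' g' a hag
    obtain ⟨φ, hφ⟩ := exists_algHom X g g' a hag
    obtain ⟨J, hJ⟩ := hCond A (eX A g)
    rw [heX A A' φ g g' (by rw [← hφ, hag]), hJ A' φ, (cond_iff_eq_bot F Cond A _ J hJ).mp hc]
    exact bot_le

end Groth.Agent.Lib.Helper10.AffPtClosed
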