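import Mathlib
import Groth.Agent.Lib.Helper10.AffPtClosed

/-!
# Morphisms between schemes representing functors of `R`-algebras on affine schemes
-/

set_option autoImplicit false
set_option linter.unusedSectionVars false
set_option linter.style.haveILetI false
set_option backward.isDefEq.respectTransparency.types false
set_option maxHeartbeats 4000000
set_option synthInstance.maxHeartbeats 400000
universe u
open CategoryTheory CategoryTheory.Limits AlgebraicGeometry Opposite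

namespace Groth.Agent.Lib.Helper10.AffPtClosed

variable {R : Type u} [CommRing R] (X : Over (Spec (CommRingCat.of R)))

/-- restriction of an affine point along an algebra homomorphism. -/
noncomputable def restrPt {A C : CommAlgCat.{u} R} (φ : A ⟶ C) (g : SpA R A ⟶ X) : SpA R C ⟶ X :=
  Over.homMk (Spec.map (CommRingCat.ofHom φ.hom.toRingHom) ≫ g.left) (by
    change (Spec.map (CommRingCat.ofHom φ.hom.toRingHom) ≫ g.left) ≫ X.hom =
      Spec.map (CommRingCat.ofHom (algebraMap R C))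
    have e1 : g.left ≫ X.hom = Spec.map (CommRingCat.ofHom (algebraMap R A)) := Over.w g
    rw [Category.assoc, e1, ← Spec.map_comp]
    congr 1
    apply CommRingCat.hom_ext
    exact φ.hom.comp_algebraMap)

lemma restrPt_left {A C : CommAlgCat.{u} R} (φ : A ⟶ C) (g : SpA R A ⟶ X) :
    (restrPt X φ g).left = Spec.map (CommRingCat.ofHom φ.hom.toRingHom) ≫ g.left := rfl

lemma pt_ext {A : CommAlgCat.{u} R} {g g' : SpA R A ⟶ X} (h : g.left = g'.left) : g = g' :=
  Over.OverMorphism.ext h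

/-- the localisation of an algebra. -/
noncomputable abbrev locAlg (A : CommAlgCat.{u} R) (f : A) : CommAlgCat.{u} R :=
  CommAlgCat.of R (Localization.Away f)

/-- the localisation homomorphism. -/
noncomputable abbrev locHom (A : CommAlgCat.{u} R) (f : A) : A ⟶ locAlg A f :=
  CommAlgCat.ofHom (IsScalarTower.toAlgHom R A (Localization.Away f))

/-- points agreeing Zariski locally agree. -/
theorem pt_ext_of_local {A : CommAlgCat.{u} R} (g g' : SpA R A ⟶ X)
    (h : ∀ p : PrimeSpectrum A, ∃ f : A, f ∉ p.asIdeal ∧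
      restrPt X (locHom A f) g = restrPt X (locHom A f) g') : g = g' := by
  choose f hf hg using h
  have hs : Ideal.span (Set.range f) = ⊤ := by
    by_contra hne
    obtain ⟨m, hm, hle⟩ := Ideal.exists_le_maximal _ hne
    exact hf ⟨m, hm.isPrime⟩ (hle (Ideal.subset_span ⟨_, rfl⟩))
  let 𝒰 := (Scheme.affineOpenCoverOfSpanRangeEqTop (R := CommRingCat.of A) f hs).openCover
  apply pt_ext
  refine 𝒰.hom_ext _ _ (fun p => ?_)
  exact congrArg (fun m => m.left) (hg p)

/-- affine points factor locally through the members of an open cover. -/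
theorem exists_local_lift {T : Scheme.{u}} (𝒱 : Scheme.OpenCover.{u} T) {A : Type u} [CommRing A]
    (a : Spec (CommRingCat.of A) ⟶ T) (p : PrimeSpectrum A) :
    ∃ (k : 𝒱.I₀) (f : A), f ∉ p.asIdeal ∧
      ∃ b : Spec (CommRingCat.of (Localization.Away f)) ⟶ 𝒱.X k,
        b ≫ 𝒱.f k = Spec.map (CommRingCat.ofHom (algebraMap A (Localization.Away f))) ≫ a := by
  obtain ⟨k, y, hy⟩ := 𝒱.exists_eq (a p)
  have hopen : IsOpen (a ⁻¹' Set.range (𝒱.f k)) :=
    (𝒱.f k).isOpenEmbedding.isOpen_range.preimage a.continuous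
  obtain ⟨_, ⟨f, rfl⟩, hpf, hfsub⟩ :=
    PrimeSpectrum.isTopologicalBasis_basic_opens.exists_subset_of_mem_open
      (show p ∈ a ⁻¹' Set.range (𝒱.f k) from ⟨y, hy⟩) hopen
  refine ⟨k, f, hpf, ?_⟩
  have hr : Set.range (Spec.map (CommRingCat.ofHom (algebraMap A (Localization.Away f))) ≫ a) ⊆
      Set.range (𝒱.f k) := by
    rintro _ ⟨z, rfl⟩
    rw [Scheme.Hom.comp_apply]
    apply hfsub
    have h1 : Spec.map (CommRingCat.ofHom (algebraMap A (Localization.Away f))) z ∈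
        Set.range (PrimeSpectrum.comap (algebraMap A (Localization.Away f))) := ⟨z, rfl⟩
    rw [PrimeSpectrum.localization_away_comap_range (Localization.Away f) f] at h1
    exact h1
  exact ⟨IsOpenImmersion.lift (𝒱.f k) _ hr, IsOpenImmersion.lift_fac _ _ _⟩

/-- morphisms agreeing on affine points agree. -/
theorem hom_ext_of_pts {Y Y' : Over (Spec (CommRingCat.of R))} (c c' : Y ⟶ Y')
    (h : ∀ (A : CommAlgCat.{u} R) (g : SpA R A ⟶ Y), g ≫ c = g ≫ c') : c = c' := by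
  apply Over.OverMorphism.ext
  refine Y.left.affineOpenCover.openCover.hom_ext _ _ (fun k => ?_)
  obtain ⟨alg, g, hg⟩ := exists_pt Y (Y.left.affineOpenCover.X k) (Y.left.affineOpenCover.f k)
  letI := alg
  have h1 := congrArg (fun m => m.left) (h _ g)
  change g.left ≫ c.left = g.left ≫ c'.left at h1
  rw [hg] at h1
  exact h1

section Yoneda

variable (X₁ X₂ : Over (Spec (CommRingCat.of R))) (F₁ F₂ : CommAlgCat.{u} R ⥤ Type u)
  (e₁ : ∀ A : CommAlgCat.{u} R, (SpA R A ⟶ X₁) ≃ F₁.obj A)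
  (he₁ : ∀ (A C : CommAlgCat.{u} R) (φ : A ⟶ C) (g : SpA R A ⟶ X₁) (g' : SpA R C ⟶ X₁),
    g'.left = Spec.map (CommRingCat.ofHom φ.hom.toRingHom) ≫ g.left →
      e₁ C g' = F₁.map φ (e₁ A g))
  (e₂ : ∀ A : CommAlgCat.{u} R, (SpA R A ⟶ X₂) ≃ F₂.obj A)
  (he₂ : ∀ (A C : CommAlgCat.{u} R) (φ : A ⟶ C) (g : SpA R A ⟶ X₂) (g' : SpA R C ⟶ X₂),
    g'.left = Spec.map (CommRingCat.ofHom φ.hom.toRingHom) ≫ g.left →
      e₂ C g' = F₂.map φ (e₂ A g))
  (τ : ∀ A : CommAlgCat.{u} R, F₂.obj A → F₁.obj A)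
  (hτ : ∀ (A C : CommAlgCat.{u} R) (φ : A ⟶ C) (N : F₂.obj A),
    τ C (F₂.map φ N) = F₁.map φ (τ A N))

include he₁ he₂ hτ in
/-- the key computation: restriction of transformed points. -/
theorem restr_transform {A C : CommAlgCat.{u} R} (ψ : A ⟶ C) (g : SpA R A ⟶ X₂)
    (c₀ : SpA R A ⟶ X₁) (hc₀ : e₁ A c₀ = τ A (e₂ A g)) :
    e₁ C (restrPt X₁ ψ c₀) = τ C (e₂ C (restrPt X₂ ψ g)) := by
  rw [he₁ A C ψ c₀ (restrPt X₁ ψ c₀) rfl, hc₀, he₂ A C ψ g (restrPt X₂ ψ g) rfl, hτ]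

include he₁ he₂ hτ in
/-- **Yoneda for affine points**: a transformation of the represented functors is induced by a
morphism. -/
theorem exists_hom_of_transform :
    ∃ c : X₂ ⟶ X₁, ∀ (A : CommAlgCat.{u} R) (g : SpA R A ⟶ X₂),
      e₁ A (g ≫ c) = τ A (e₂ A g) := by
  let 𝒱 := X₂.left.affineOpenCover
  choose alg g hg using fun k => exists_pt X₂ (𝒱.X k) (𝒱.f k)
  letI : ∀ k, Algebra R ↑(𝒱.X k) := alg
  let Ak : 𝒱.I₀ → CommAlgCat.{u} R := fun k => CommAlgCat.of R ↑(𝒱.X k)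
  let ck : ∀ k, SpA R (Ak k) ⟶ X₁ := fun k => (e₁ (Ak k)).symm (τ (Ak k) (e₂ (Ak k) (g k)))
  have hck : ∀ k, e₁ (Ak k) (ck k) = τ (Ak k) (e₂ (Ak k) (g k)) :=
    fun k => Equiv.apply_symm_apply _ _
  have compat : ∀ k l : 𝒱.I₀, pullback.fst (𝒱.openCover.f k) (𝒱.openCover.f l) ≫ (ck k).left =
      pullback.snd (𝒱.openCover.f k) (𝒱.openCover.f l) ≫ (ck l).left := by
    intro k l
    refine (pullback (𝒱.openCover.f k) (𝒱.openCover.f l)).affineOpenCover.openCover.hom_ext _ _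
      (fun i => ?_)
    let P := pullback (𝒱.openCover.f k) (𝒱.openCover.f l)
    let q : Spec (P.affineOpenCover.X i) ⟶ P := P.affineOpenCover.f i
    let ak : Spec (P.affineOpenCover.X i) ⟶ Spec (𝒱.X k) := q ≫ pullback.fst _ _
    let al : Spec (P.affineOpenCover.X i) ⟶ Spec (𝒱.X l) := q ≫ pullback.snd _ _
    obtain ⟨algD, gD, hgD⟩ := exists_pt X₂ (P.affineOpenCover.X i) (ak ≫ 𝒱.f k)
    letI := algD
    let D : CommAlgCat.{u} R := CommAlgCat.of R ↑(P.affineOpenCover.X i)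
    obtain ⟨φk, hφk⟩ := exists_algHom X₂ (g k) gD ak (by rw [hg k, hgD])
    obtain ⟨φl, hφl⟩ := exists_algHom X₂ (g l) gD al (by
      rw [hg l, hgD]
      change (q ≫ pullback.snd _ _) ≫ 𝒱.f l = (q ≫ pullback.fst _ _) ≫ 𝒱.f k
      rw [Category.assoc, Category.assoc]
      congr 1
      exact pullback.condition.symm)
    have h1 := restr_transform X₁ X₂ F₁ F₂ e₁ he₁ e₂ he₂ τ hτ φk (g k) (ck k) (hck k)
    have h2 := restr_transform X₁ X₂ F₁ F₂ e₁ he₁ e₂ he₂ τ hτ φl (g l) (ck l) (hck l)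
    have e3 : restrPt X₂ φk (g k) = gD := pt_ext X₂ (by rw [restrPt_left, ← hφk, hg k, hgD])
    have e4 : restrPt X₂ φl (g l) = gD := pt_ext X₂ (by
      rw [restrPt_left, ← hφl, hg l, hgD]
      change (q ≫ pullback.snd _ _) ≫ 𝒱.f l = (q ≫ pullback.fst _ _) ≫ 𝒱.f k
      rw [Category.assoc, Category.assoc]
      congr 1
      exact pullback.condition.symm)
    rw [e3] at h1
    rw [e4] at h2
    have e5 : restrPt X₁ φk (ck k) = restrPt X₁ φl (ck l) :=
      (e₁ D).injective (h1.trans h2.symm)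
    have e6 := congrArg (fun m => m.left) e5
    change Spec.map _ ≫ (ck k).left = Spec.map _ ≫ (ck l).left at e6
    rw [← hφk, ← hφl] at e6
    change q ≫ pullback.fst _ _ ≫ (ck k).left = q ≫ pullback.snd _ _ ≫ (ck l).left
    rw [← Category.assoc, ← Category.assoc]
    exact e6
  let cl : X₂.left ⟶ X₁.left := 𝒱.openCover.glueMorphisms (fun k => (ck k).left) compat
  have hcl : ∀ k, 𝒱.f k ≫ cl = (ck k).left := fun k =>
    Scheme.Cover.ι_glueMorphisms 𝒱.openCover (fun k => (ck k).left) compat k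
  have hover : cl ≫ X₁.hom = X₂.hom := by
    refine 𝒱.openCover.hom_ext _ _ (fun k => ?_)
    change 𝒱.f k ≫ cl ≫ X₁.hom = 𝒱.f k ≫ X₂.hom
    rw [← Category.assoc, hcl k, Over.w (ck k), ← hg k, Over.w (g k)]
  refine ⟨Over.homMk cl hover, fun A gA => ?_⟩
  let g'' : SpA R A ⟶ X₁ := (e₁ A).symm (τ A (e₂ A gA))
  have hg'' : e₁ A g'' = τ A (e₂ A gA) := Equiv.apply_symm_apply _ _
  suffices hs : gA ≫ Over.homMk cl hover = g'' by rw [hs, hg'']
  apply pt_ext_of_local X₁
  intro p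
  obtain ⟨k, f, hf, b, hb⟩ := exists_local_lift 𝒱.openCover gA.left p
  refine ⟨f, hf, ?_⟩
  let gC : SpA R (locAlg A f) ⟶ X₂ := restrPt X₂ (locHom A f) gA
  obtain ⟨ψ, hψ⟩ := exists_algHom X₂ (g k) gC b (by
    rw [hg k]
    exact hb)
  have h1 := restr_transform X₁ X₂ F₁ F₂ e₁ he₁ e₂ he₂ τ hτ ψ (g k) (ck k) (hck k)
  have e3 : restrPt X₂ ψ (g k) = gC := pt_ext X₂ (by
    rw [restrPt_left, ← hψ, hg k]
    exact hb)
  rw [e3] at h1
  have h2 := restr_transform X₁ X₂ F₁ F₂ e₁ he₁ e₂ he₂ τ hτ (locHom A f) gA g'' hg''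
  have e4 : restrPt X₁ (locHom A f) (gA ≫ Over.homMk cl hover) = restrPt X₁ ψ (ck k) :=
    pt_ext X₁ (by
      rw [restrPt_left, restrPt_left, ← hψ]
      change Spec.map _ ≫ gA.left ≫ cl = b ≫ (ck k).left
      rw [← hcl k]
      exact ((Category.assoc _ _ _).symm.trans (congrArg (· ≫ cl) hb.symm)).trans
        (Category.assoc _ _ _))
  rw [e4]
  exact (e₁ _).injective (h1.trans h2.symm)

end Yoneda

end Groth.Agent.Lib.Helper10.AffPtClosed
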