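import Mathlib
import Groth.Agent.Lib.Helper10.AffPtYoneda

/-!
# Isomorphisms of representing schemes; subfunctors represented by subschemes
-/

set_option autoImplicit false
set_option linter.unusedSectionVars false
set_option linter.style.haveILetI false
set_option backward.isDefEq.respectTransparency.types false
set_option maxHeartbeats 4000000
set_option synthInstance.maxHeartbeats 400000
universe u
open CategoryTheory CategoryTheory.Limits AlgebraicGeometry Opposite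

namespace Groth.Agent.Lib.Helper10.AffPtClosed

variable {R : Type u} [CommRing R]

section Iso

variable (X₁ X₂ : Over (Spec (CommRingCat.of R))) (F₁ F₂ : CommAlgCat.{u} R ⥤ Type u)
  (e₁ : ∀ A : CommAlgCat.{u} R, (SpA R A ⟶ X₁) ≃ F₁.obj A)
  (he₁ : ∀ (A C : CommAlgCat.{u} R) (φ : A ⟶ C) (g : SpA R A ⟶ X₁) (g' : SpA R C ⟶ X₁),
    g'.left = Spec.map (CommRingCat.ofHom φ.hom.toRingHom) ≫ g.left →
      e₁ C g' = F₁.map φ (e₁ A g))
  (e₂ : ∀ A : CommAlgCat.{u} R, (SpA R A ⟶ X₂) ≃ F₂.obj A)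
  (he₂ : ∀ (A C : CommAlgCat.{u} R) (φ : A ⟶ C) (g : SpA R A ⟶ X₂) (g' : SpA R C ⟶ X₂),
    g'.left = Spec.map (CommRingCat.ofHom φ.hom.toRingHom) ≫ g.left →
      e₂ C g' = F₂.map φ (e₂ A g))
  (τ : ∀ A : CommAlgCat.{u} R, F₂.obj A ≃ F₁.obj A)
  (hτ : ∀ (A C : CommAlgCat.{u} R) (φ : A ⟶ C) (N : F₂.obj A),
    τ C (F₂.map φ N) = F₁.map φ (τ A N))

include he₁ he₂ hτ in
/-- a natural bijection of represented functors is induced by an isomorphism. -/
theorem exists_iso_of_transform :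
    ∃ c : X₂ ≅ X₁, ∀ (A : CommAlgCat.{u} R) (g : SpA R A ⟶ X₂),
      e₁ A (g ≫ c.hom) = τ A (e₂ A g) := by
  obtain ⟨c, hc⟩ := exists_hom_of_transform X₁ X₂ F₁ F₂ e₁ he₁ e₂ he₂ (fun A => τ A) hτ
  have hτ' : ∀ (A C : CommAlgCat.{u} R) (φ : A ⟶ C) (N : F₁.obj A),
      (τ C).symm (F₁.map φ N) = F₂.map φ ((τ A).symm N) := by
    intro A C φ N
    apply (τ C).injective
    rw [Equiv.apply_symm_apply, hτ, Equiv.apply_symm_apply]
  obtain ⟨c', hc'⟩ := exists_hom_of_transform X₂ X₁ F₂ F₁ e₂ he₂ e₁ he₁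
    (fun A => (τ A).symm) hτ'
  refine ⟨⟨c, c', ?_, ?_⟩, hc⟩
  · apply hom_ext_of_pts
    intro A g
    apply (e₂ A).injective
    rw [← Category.assoc, hc', hc, Equiv.symm_apply_apply, Category.comp_id]
  · apply hom_ext_of_pts
    intro A g
    apply (e₁ A).injective
    rw [← Category.assoc, hc, hc', Equiv.apply_symm_apply, Category.comp_id]

end Iso

section Sub

variable (X₁ : Over (Spec (CommRingCat.of R))) (F₁ F₂ : CommAlgCat.{u} R ⥤ Type u)
  (e₁ : ∀ A : CommAlgCat.{u} R, (SpA R A ⟶ X₁) ≃ F₁.obj A)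
  (he₁ : ∀ (A C : CommAlgCat.{u} R) (φ : A ⟶ C) (g : SpA R A ⟶ X₁) (g' : SpA R C ⟶ X₁),
    g'.left = Spec.map (CommRingCat.ofHom φ.hom.toRingHom) ≫ g.left →
      e₁ C g' = F₁.map φ (e₁ A g))
  (τ : ∀ A : CommAlgCat.{u} R, F₂.obj A → F₁.obj A)
  (hτ : ∀ (A C : CommAlgCat.{u} R) (φ : A ⟶ C) (N : F₂.obj A),
    τ C (F₂.map φ N) = F₁.map φ (τ A N))
  (hτinj : ∀ A : CommAlgCat.{u} R, Function.Injective (τ A))
  (Z : Scheme.{u}) (ι : Z ⟶ X₁.left) [Mono ι]
  (hZ : ∀ (A : CommAlgCat.{u} R) (g : SpA R A ⟶ X₁),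
    (∃ h : (SpA R A).left ⟶ Z, h ≫ ι = g.left) ↔ e₁ A g ∈ Set.range (τ A))

/-- the subscheme as an object over the base. -/
noncomputable abbrev subOver : Over (Spec (CommRingCat.of R)) := Over.mk (ι ≫ X₁.hom)

/-- the inclusion as a morphism over the base. -/
noncomputable abbrev subHom : subOver X₁ Z ι ⟶ X₁ := Over.homMk ι rfl

include he₁ hτ hτinj hZ in
/-- a subscheme whose points are the image of an injective transformation represents the source. -/
theorem exists_rep_sub :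
    ∃ eZ : ∀ A : CommAlgCat.{u} R, (SpA R A ⟶ subOver X₁ Z ι) ≃ F₂.obj A,
      (∀ (A C : CommAlgCat.{u} R) (φ : A ⟶ C) (g : SpA R A ⟶ subOver X₁ Z ι)
        (g' : SpA R C ⟶ subOver X₁ Z ι),
        g'.left = Spec.map (CommRingCat.ofHom φ.hom.toRingHom) ≫ g.left →
          eZ C g' = F₂.map φ (eZ A g)) ∧
      ∀ (A : CommAlgCat.{u} R) (g : SpA R A ⟶ subOver X₁ Z ι),
        τ A (eZ A g) = e₁ A (g ≫ subHom X₁ Z ι) := by
  have hex : ∀ (A : CommAlgCat.{u} R) (g : SpA R A ⟶ subOver X₁ Z ι),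
      ∃ N : F₂.obj A, τ A N = e₁ A (g ≫ subHom X₁ Z ι) := by
    intro A g
    exact (hZ A (g ≫ subHom X₁ Z ι)).mp ⟨g.left, rfl⟩
  choose f hf using hex
  have hbij : ∀ A : CommAlgCat.{u} R, Function.Bijective (f A) := by
    intro A
    constructor
    · intro g g' h
      have h1 : e₁ A (g ≫ subHom X₁ Z ι) = e₁ A (g' ≫ subHom X₁ Z ι) := by
        rw [← hf, ← hf, h]
      have h2 := congrArg (fun m => m.left) ((e₁ A).injective h1)
      change g.left ≫ ι = g'.left ≫ ι at h2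
      exact pt_ext _ ((cancel_mono ι).mp h2)
    · intro N
      obtain ⟨h, hh⟩ := (hZ A ((e₁ A).symm (τ A N))).mpr
        ⟨N, (Equiv.apply_symm_apply _ _).symm⟩
      have hw : h ≫ (subOver X₁ Z ι).hom = (SpA R A).hom := by
        change h ≫ ι ≫ X₁.hom = _
        rw [← Category.assoc, hh]
        exact Over.w ((e₁ A).symm (τ A N))
      refine ⟨Over.homMk h hw, hτinj A ?_⟩
      rw [hf]
      have h3 : (Over.homMk h hw : SpA R A ⟶ subOver X₁ Z ι) ≫ subHom X₁ Z ι =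
          (e₁ A).symm (τ A N) := pt_ext _ hh
      rw [h3, Equiv.apply_symm_apply]
  refine ⟨fun A => Equiv.ofBijective (f A) (hbij A), ?_, fun A g => hf A g⟩
  intro A C φ g g' hgg
  apply hτinj C
  change τ C (f C g') = τ C (F₂.map φ (f A g))
  rw [hf, hτ, hf]
  exact he₁ A C φ _ _ (by
    change g'.left ≫ ι = Spec.map _ ≫ g.left ≫ ι
    rw [hgg, Category.assoc])

end Sub

end Groth.Agent.Lib.Helper10.AffPtClosed
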