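import Mathlib
import Groth.Agent.Lib.Helper10.AffPtYoneda2

/-!
# The subfunctor cut out by a closed condition is represented by a closed subscheme
-/

set_option autoImplicit false
set_option linter.unusedSectionVars false
set_option linter.style.haveILetI false
set_option backward.isDefEq.respectTransparency.types false
set_option maxHeartbeats 4000000
set_option synthInstance.maxHeartbeats 400000
universe u
open CategoryTheory CategoryTheory.Limits AlgebraicGeometry Opposite

namespace Groth.Agent.Lib.Helper10.AffPtCondRep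

open Groth.Agent.Lib.Helper10.AffPtClosed

variable {R : Type u} [CommRing R] (X : Over (Spec (CommRingCat.of R)))
  (F : CommAlgCat.{u} R ⥤ Type u)
  (eX : ∀ A : CommAlgCat.{u} R, (SpA R A ⟶ X) ≃ F.obj A)
  (heX : ∀ (A C : CommAlgCat.{u} R) (φ : A ⟶ C) (g : SpA R A ⟶ X) (g' : SpA R C ⟶ X),
    g'.left = Spec.map (CommRingCat.ofHom φ.hom.toRingHom) ≫ g.left →
      eX C g' = F.map φ (eX A g))
  (Cond : ∀ A : CommAlgCat.{u} R, F.obj A → Prop)
  (hCond : ∀ (A : CommAlgCat.{u} R) (N : F.obj A), ∃ J : Ideal A,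
    ∀ (C : CommAlgCat.{u} R) (φ : A ⟶ C), Cond C (F.map φ N) ↔ J ≤ RingHom.ker φ.hom.toRingHom)

include hCond in
/-- a closed condition is stable under base change. -/
theorem cond_map (A C : CommAlgCat.{u} R) (φ : A ⟶ C) (N : F.obj A) (h : Cond A N) :
    Cond C (F.map φ N) := by
  obtain ⟨J, hJ⟩ := hCond A N
  rw [hJ C φ, (cond_iff_eq_bot F Cond A N J hJ).mp h]
  exact bot_le

/-- the subfunctor of points satisfying a condition stable under base change. -/
def subFunctor (hstab : ∀ (A C : CommAlgCat.{u} R) (φ : A ⟶ C) (N : F.obj A),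
    Cond A N → Cond C (F.map φ N)) : CommAlgCat.{u} R ⥤ Type u where
  obj A := {N : F.obj A // Cond A N}
  map {A C} φ := TypeCat.ofHom (fun N => ⟨F.map φ N.1, hstab A C φ N.1 N.2⟩)
  map_id A := by
    apply ConcreteCategory.hom_ext
    intro N
    apply Subtype.ext
    change F.map (𝟙 A) N.1 = N.1
    rw [F.map_id]
    rfl
  map_comp φ χ := by
    apply ConcreteCategory.hom_ext
    intro N
    apply Subtype.ext
    change F.map (φ ≫ χ) N.1 = F.map χ (F.map φ N.1)
    rw [F.map_comp]
    rfl

include heX hCond in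
/-- **the points satisfying a closed condition are represented by a closed subscheme.** -/
theorem exists_rep_cond : ∃ (Z : Scheme.{u}) (ι : Z ⟶ X.left) (_ : IsClosedImmersion ι)
    (eZ : ∀ A : CommAlgCat.{u} R, (SpA R A ⟶ Over.mk (ι ≫ X.hom)) ≃ {N : F.obj A // Cond A N}),
    ∀ (A C : CommAlgCat.{u} R) (φ : A ⟶ C) (g : SpA R A ⟶ Over.mk (ι ≫ X.hom))
      (g' : SpA R C ⟶ Over.mk (ι ≫ X.hom)),
      g'.left = Spec.map (CommRingCat.ofHom φ.hom.toRingHom) ≫ g.left →
        (eZ C g').1 = F.map φ (eZ A g).1 := by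
  obtain ⟨Z, ι, hι, hZ⟩ := exists_closed X F eX heX Cond hCond
  haveI : Mono ι := inferInstance
  have hstab := cond_map F Cond hCond
  obtain ⟨eZ, heZ, -⟩ := exists_rep_sub X F (subFunctor F Cond hstab) eX heX
    (fun A N => N.1) (fun A C φ N => rfl) (fun A => Subtype.val_injective) Z ι (fun A g => by
      rw [hZ A g]
      constructor
      · intro h
        exact ⟨⟨eX A g, h⟩, rfl⟩
      · rintro ⟨N, hN⟩
        rw [← hN]
        exact N.2)
  refine ⟨Z, ι, hι, eZ, fun A C φ g g' hgg => ?_⟩
  exact congrArg Subtype.val (heZ A C φ g g' hgg)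

end Groth.Agent.Lib.Helper10.AffPtCondRep
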