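import Mathlib
import Groth.Agent.Lib.Helper10.AffPtYoneda2

/-!
# The functor of affine points of a scheme over `Spec R`
-/

set_option autoImplicit false
set_option linter.unusedSectionVars false
set_option linter.style.haveILetI false
set_option backward.isDefEq.respectTransparency.types false
set_option maxHeartbeats 4000000
set_option synthInstance.maxHeartbeats 400000
universe u
open CategoryTheory CategoryTheory.Limits AlgebraicGeometry Opposite

namespace Groth.Agent.Lib.Helper10.AffPtClosed

variable {R : Type u} [CommRing R] (H : Over (Spec (CommRingCat.of R)))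

lemma restrPt_id {A : CommAlgCat.{u} R} (g : SpA R A ⟶ H) : restrPt H (𝟙 A) g = g := by
  apply pt_ext
  rw [restrPt_left]
  have : CommRingCat.ofHom ((𝟙 A : A ⟶ A).hom.toRingHom) = 𝟙 (CommRingCat.of A) := rfl
  rw [this, Spec.map_id, Category.id_comp]

lemma restrPt_comp {A C D : CommAlgCat.{u} R} (φ : A ⟶ C) (χ : C ⟶ D) (g : SpA R A ⟶ H) :
    restrPt H (φ ≫ χ) g = restrPt H χ (restrPt H φ g) := by
  apply pt_ext
  rw [restrPt_left, restrPt_left, restrPt_left, ← Category.assoc, ← Spec.map_comp]
  rfl

/-- the functor of affine points. -/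
noncomputable def ptsFunctor : CommAlgCat.{u} R ⥤ Type u where
  obj A := SpA R A ⟶ H
  map φ := TypeCat.ofHom (restrPt H φ)
  map_id A := by
    apply ConcreteCategory.hom_ext
    intro g
    exact restrPt_id H g
  map_comp φ χ := by
    apply ConcreteCategory.hom_ext
    intro g
    exact restrPt_comp H φ χ g

lemma ptsFunctor_map {A C : CommAlgCat.{u} R} (φ : A ⟶ C) (g : SpA R A ⟶ H) :
    (ptsFunctor H).map φ g = restrPt H φ g := rfl

/-- the tautological representation of the functor of points. -/
noncomputable def ptsEquiv (A : CommAlgCat.{u} R) : (SpA R A ⟶ H) ≃ (ptsFunctor H).obj A :=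
  Equiv.refl _

lemma ptsEquiv_nat (A C : CommAlgCat.{u} R) (φ : A ⟶ C) (g : SpA R A ⟶ H) (g' : SpA R C ⟶ H)
    (h : g'.left = Spec.map (CommRingCat.ofHom φ.hom.toRingHom) ≫ g.left) :
    ptsEquiv H C g' = (ptsFunctor H).map φ (ptsEquiv H A g) :=
  pt_ext H h

end Groth.Agent.Lib.Helper10.AffPtClosed
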