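import Mathlib
import Groth.Agent.Lib.Helper10.AffPtFunctor

/-!
# Open conditions on affine points are represented by open subschemes
-/

set_option autoImplicit false
set_option linter.unusedSectionVars false
set_option linter.style.haveILetI false
set_option backward.isDefEq.respectTransparency.types false
set_option maxHeartbeats 4000000
set_option synthInstance.maxHeartbeats 400000
universe u
open CategoryTheory CategoryTheory.Limits AlgebraicGeometry Opposite

namespace Groth.Agent.Lib.Helper10.AffPtClosed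

variable {R : Type u} [CommRing R]

/-- affine points factor locally through the members of an open cover, landing in a given open
subset. -/
theorem exists_local_lift_open {T : Scheme.{u}} (𝒱 : Scheme.OpenCover.{u} T) {A : Type u}
    [CommRing A] (a : Spec (CommRingCat.of A) ⟶ T) (p : PrimeSpectrum A) (k : 𝒱.I₀)
    (O : Set (𝒱.X k)) (hO : IsOpen O) (hp : a p ∈ 𝒱.f k '' O) :
    ∃ f : A, f ∉ p.asIdeal ∧
      ∃ b : Spec (CommRingCat.of (Localization.Away f)) ⟶ 𝒱.X k,
        b ≫ 𝒱.f k = Spec.map (CommRingCat.ofHom (algebraMap A (Localization.Away f))) ≫ a ∧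
        ∀ z, b z ∈ O := by
  have hopen : IsOpen (a ⁻¹' (𝒱.f k '' O)) :=
    ((𝒱.f k).isOpenEmbedding.isOpenMap O hO).preimage a.continuous
  obtain ⟨_, ⟨f, rfl⟩, hpf, hfsub⟩ :=
    PrimeSpectrum.isTopologicalBasis_basic_opens.exists_subset_of_mem_open
      (show p ∈ a ⁻¹' (𝒱.f k '' O) from hp) hopen
  refine ⟨f, hpf, ?_⟩
  have hr' : ∀ z, (Spec.map (CommRingCat.ofHom (algebraMap A (Localization.Away f))) ≫ a) z ∈
      𝒱.f k '' O := by
    intro z
    rw [Scheme.Hom.comp_apply]
    apply hfsub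
    have h1 : Spec.map (CommRingCat.ofHom (algebraMap A (Localization.Away f))) z ∈
        Set.range (PrimeSpectrum.comap (algebraMap A (Localization.Away f))) := ⟨z, rfl⟩
    rw [PrimeSpectrum.localization_away_comap_range (Localization.Away f) f] at h1
    exact h1
  have hr : Set.range (Spec.map (CommRingCat.ofHom (algebraMap A (Localization.Away f))) ≫ a) ⊆
      Set.range (𝒱.f k) := by
    rintro _ ⟨z, rfl⟩
    obtain ⟨y, -, hy⟩ := hr' z
    exact ⟨y, hy⟩
  refine ⟨IsOpenImmersion.lift (𝒱.f k) _ hr, IsOpenImmersion.lift_fac _ _ _, fun z => ?_⟩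
  obtain ⟨y, hyO, hy⟩ := hr' z
  have h2 : (𝒱.f k) (IsOpenImmersion.lift (𝒱.f k) _ hr z) = (𝒱.f k) y := by
    rw [← Scheme.Hom.comp_apply, IsOpenImmersion.lift_fac, hy]
  rw [(𝒱.f k).isOpenEmbedding.injective h2]
  exact hyO

/-- an ideal that becomes the unit ideal Zariski locally is the unit ideal. -/
theorem ideal_eq_top_of_local {A : Type u} [CommRing A] (I : Ideal A)
    (h : ∀ p : PrimeSpectrum A, ∃ f : A, f ∉ p.asIdeal ∧
      I.map (algebraMap A (Localization.Away f)) = ⊤) : I = ⊤ := by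
  by_contra hne
  obtain ⟨m, hm, hle⟩ := Ideal.exists_le_maximal I hne
  obtain ⟨f, hf, hI⟩ := h ⟨m, hm.isPrime⟩
  have h1 := (IsLocalization.map_algebraMap_ne_top_iff_disjoint (Submonoid.powers f)
    (Localization.Away f) I).not.mp (by rw [not_not]; exact hI)
  rw [Set.not_disjoint_iff] at h1
  obtain ⟨x, ⟨n, rfl⟩, hx⟩ := h1
  exact hf (hm.isPrime.mem_of_pow_mem n (hle hx))

section Open

variable (X : Over (Spec (CommRingCat.of R))) (F : CommAlgCat.{u} R ⥤ Type u)
  (eX : ∀ A : CommAlgCat.{u} R, (SpA R A ⟶ X) ≃ F.obj A)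
  (heX : ∀ (A C : CommAlgCat.{u} R) (φ : A ⟶ C) (g : SpA R A ⟶ X) (g' : SpA R C ⟶ X),
    g'.left = Spec.map (CommRingCat.ofHom φ.hom.toRingHom) ≫ g.left →
      eX C g' = F.map φ (eX A g))
  (Cond : ∀ A : CommAlgCat.{u} R, F.obj A → Prop)
  (hI : ∀ (A : CommAlgCat.{u} R) (N : F.obj A), ∃ J : Ideal A,
    ∀ (C : CommAlgCat.{u} R) (φ : A ⟶ C), Cond C (F.map φ N) ↔ J.map φ.hom.toRingHom = ⊤)

include hI in
theorem cond_map (A C : CommAlgCat.{u} R) (φ : A ⟶ C) (N : F.obj A) (h : Cond A N) :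
    Cond C (F.map φ N) := by
  obtain ⟨J, hJ⟩ := hI A N
  have h1 := (hJ A (𝟙 A)).mp (by rw [F.map_id]; exact h)
  have h2 : J = ⊤ := by
    have : J.map (CommAlgCat.Hom.hom (𝟙 A)).toRingHom = J := Ideal.map_id J
    rw [← this]
    exact h1
  rw [hJ C φ, h2, Ideal.map_top]

include heX hI in
/-- **open conditions are represented by open subschemes.** -/
theorem exists_open : ∃ U : X.left.Opens, ∀ (A : CommAlgCat.{u} R) (g : SpA R A ⟶ X),
    Set.range g.left ⊆ (U : Set X.left) ↔ Cond A (eX A g) := by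
  let 𝒱 := X.left.affineOpenCover
  choose alg g hg using fun k => exists_pt X (𝒱.X k) (𝒱.f k)
  letI : ∀ k, Algebra R ↑(𝒱.X k) := alg
  let Ak : 𝒱.I₀ → CommAlgCat.{u} R := fun k => CommAlgCat.of R ↑(𝒱.X k)
  choose J hJ using fun k => hI (Ak k) (eX (Ak k) (g k))
  let O : ∀ k, Set (Spec (𝒱.X k)) := fun k => (PrimeSpectrum.zeroLocus (J k : Set (𝒱.X k)))ᶜ
  have hO : ∀ k, IsOpen (O k) := fun k => (PrimeSpectrum.isClosed_zeroLocus _).isOpen_compl
  let Uset : Set X.left := ⋃ k, 𝒱.f k '' O k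
  have hU : IsOpen Uset := isOpen_iUnion (fun k => (𝒱.f k).isOpenEmbedding.isOpenMap _ (hO k))
  -- the key computation on a local lift
  have key : ∀ (C : CommAlgCat.{u} R) (gC : SpA R C ⟶ X) (k : 𝒱.I₀) (f : C)
      (b : Spec (CommRingCat.of (Localization.Away f)) ⟶ Spec (𝒱.X k)),
      b ≫ 𝒱.f k = Spec.map (CommRingCat.ofHom (algebraMap C (Localization.Away f))) ≫ gC.left →
      (Cond (locAlg C f) (F.map (locHom C f) (eX C gC)) ↔ ∀ z, b z ∈ O k) := by
    intro C gC k f b hb
    let gf : SpA R (locAlg C f) ⟶ X := restrPt X (locHom C f) gC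
    obtain ⟨ψ, hψ⟩ := exists_algHom X (g k) gf b (by rw [hg k]; exact hb)
    have h1 : eX _ gf = F.map (locHom C f) (eX C gC) := heX C _ (locHom C f) gC gf rfl
    have h2 : eX _ gf = F.map ψ (eX (Ak k) (g k)) := heX (Ak k) _ ψ (g k) gf (by
      rw [hg k, ← hψ]
      exact hb.symm)
    rw [← h1, h2, hJ k _ ψ]
    constructor
    · intro htop z hz
      have hz' : (J k : Set (𝒱.X k)) ⊆ (b z).asIdeal := hz
      have h3 : (J k).map ψ.hom.toRingHom ≤ z.asIdeal := by
        rw [Ideal.map_le_iff_le_comap]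
        intro a ha
        have := hz' ha
        rw [hψ] at this
        exact this
      rw [htop] at h3
      exact z.isPrime.ne_top (top_le_iff.mp h3)
    · intro hall
      by_contra hne
      obtain ⟨m, hm, hle⟩ := Ideal.exists_le_maximal _ hne
      apply hall ⟨m, hm.isPrime⟩
      intro a ha
      have h4 : ψ.hom.toRingHom a ∈ m := hle (Ideal.mem_map_of_mem _ ha)
      rw [hψ]
      exact h4
  refine ⟨⟨Uset, hU⟩, fun C gC => ?_⟩
  constructor
  · intro hsub
    obtain ⟨JN, hJN⟩ := hI C (eX C gC)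
    have htop : JN = ⊤ := by
      apply ideal_eq_top_of_local
      intro p
      have hp : gC.left p ∈ Uset := hsub ⟨p, rfl⟩
      obtain ⟨_, ⟨k, rfl⟩, hk⟩ := hp
      obtain ⟨f, hf, b, hb, hbO⟩ := exists_local_lift_open 𝒱.openCover gC.left p k (O k) (hO k) hk
      refine ⟨f, hf, ?_⟩
      have h5 := (key C gC k f b hb).mpr hbO
      exact (hJN _ (locHom C f)).mp h5
    have h6 := (hJN C (𝟙 C)).mpr (by rw [htop, Ideal.map_top])
    rw [F.map_id] at h6
    exact h6
  · rintro hc _ ⟨p, rfl⟩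
    obtain ⟨k, f, hf, b, hb⟩ := exists_local_lift 𝒱.openCover gC.left p
    have h7 := (key C gC k f b hb).mp (cond_map F Cond hI C _ (locHom C f) _ hc)
    obtain ⟨z, hz⟩ : ∃ z : Spec (CommRingCat.of (Localization.Away f)),
        Spec.map (CommRingCat.ofHom (algebraMap C (Localization.Away f))) z = p := by
      have h8 : p ∈ Set.range (PrimeSpectrum.comap (algebraMap C (Localization.Away f))) := by
        rw [PrimeSpectrum.localization_away_comap_range (Localization.Away f) f]
        exact hf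
      exact h8
    refine Set.mem_iUnion.mpr ⟨k, b z, h7 z, ?_⟩
    have h9 : (b ≫ 𝒱.openCover.f k) z =
        (Spec.map (CommRingCat.ofHom (algebraMap C (Localization.Away f))) ≫ gC.left) z := by
      rw [hb]
    rw [Scheme.Hom.comp_apply, Scheme.Hom.comp_apply, hz] at h9
    exact h9

end Open

end Groth.Agent.Lib.Helper10.AffPtClosed
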