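import Mathlib
import Groth.Agent.Lib.Helper10.AffPtYoneda2

/-!
# Products of schemes representing functors on affine points
-/

set_option autoImplicit false
set_option linter.unusedSectionVars false
set_option linter.style.haveILetI false
set_option backward.isDefEq.respectTransparency.types false
set_option maxHeartbeats 4000000
set_option synthInstance.maxHeartbeats 400000
universe u
open CategoryTheory CategoryTheory.Limits AlgebraicGeometry Opposite

namespace Groth.Agent.Lib.Helper10.AffPtProd

open Groth.Agent.Lib.Helper10.AffPtClosed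

variable {R : Type u} [CommRing R]

section Prod

variable (X₁ X₂ : Over (Spec (CommRingCat.of R)))

/-- the fibre product over the base. -/
noncomputable abbrev prodOver : Over (Spec (CommRingCat.of R)) :=
  Over.mk (pullback.fst X₁.hom X₂.hom ≫ X₁.hom)

noncomputable def prodFst : prodOver X₁ X₂ ⟶ X₁ := Over.homMk (pullback.fst X₁.hom X₂.hom) rfl

noncomputable def prodSnd : prodOver X₁ X₂ ⟶ X₂ :=
  Over.homMk (pullback.snd X₁.hom X₂.hom) pullback.condition.symm

variable {X₁ X₂}

noncomputable def prodLift {T : Over (Spec (CommRingCat.of R))} (a : T ⟶ X₁) (b : T ⟶ X₂) :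
    T ⟶ prodOver X₁ X₂ :=
  Over.homMk (pullback.lift a.left b.left (by rw [Over.w a, Over.w b])) (by
    change pullback.lift a.left b.left _ ≫ pullback.fst X₁.hom X₂.hom ≫ X₁.hom = T.hom
    rw [pullback.lift_fst_assoc, Over.w a])

lemma prodLift_fst {T : Over (Spec (CommRingCat.of R))} (a : T ⟶ X₁) (b : T ⟶ X₂) :
    prodLift a b ≫ prodFst X₁ X₂ = a := by
  apply Over.OverMorphism.ext
  exact pullback.lift_fst _ _ _

lemma prodLift_snd {T : Over (Spec (CommRingCat.of R))} (a : T ⟶ X₁) (b : T ⟶ X₂) :
    prodLift a b ≫ prodSnd X₁ X₂ = b := by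
  apply Over.OverMorphism.ext
  exact pullback.lift_snd _ _ _

lemma prod_hom_ext {T : Over (Spec (CommRingCat.of R))} {g g' : T ⟶ prodOver X₁ X₂}
    (h1 : g ≫ prodFst X₁ X₂ = g' ≫ prodFst X₁ X₂) (h2 : g ≫ prodSnd X₁ X₂ = g' ≫ prodSnd X₁ X₂) :
    g = g' := by
  apply Over.OverMorphism.ext
  apply pullback.hom_ext
  · exact congrArg (fun m => m.left) h1
  · exact congrArg (fun m => m.left) h2

/-- morphisms to the product are pairs of morphisms. -/
noncomputable def prodEquiv (T : Over (Spec (CommRingCat.of R))) :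
    (T ⟶ prodOver X₁ X₂) ≃ (T ⟶ X₁) × (T ⟶ X₂) where
  toFun g := (g ≫ prodFst X₁ X₂, g ≫ prodSnd X₁ X₂)
  invFun p := prodLift p.1 p.2
  left_inv g := prod_hom_ext (prodLift_fst _ _) (prodLift_snd _ _)
  right_inv p := Prod.ext (prodLift_fst _ _) (prodLift_snd _ _)

end Prod

section Pi

/-- tuples of length `n + 1` are tuples of length `n` with a last entry. -/
def snocEquiv (α : Type u) (n : ℕ) : (Fin n → α) × α ≃ (Fin (n + 1) → α) where
  toFun p := Fin.snoc (α := fun _ => α) p.1 p.2
  invFun V := (Fin.init V, V (Fin.last n))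
  left_inv p := by
    refine Prod.ext ?_ ?_
    · change Fin.init (Fin.snoc (α := fun _ => α) p.1 p.2) = p.1
      exact Fin.init_snoc _ _
    · change Fin.snoc (α := fun _ => α) p.1 p.2 (Fin.last n) = p.2
      exact Fin.snoc_last _ _
  right_inv V := by
    change Fin.snoc (α := fun _ => α) (Fin.init V) (V (Fin.last n)) = V
    exact Fin.snoc_init_self V

lemma snocEquiv_apply (α : Type u) (n : ℕ) (p : (Fin n → α) × α) :
    snocEquiv α n p = Fin.snoc (α := fun _ => α) p.1 p.2 := rfl

variable (F : CommAlgCat.{u} R ⥤ Type u)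

/-- the functor of `n`-tuples. -/
def piFunctor (n : ℕ) : CommAlgCat.{u} R ⥤ Type u where
  obj A := Fin n → F.obj A
  map φ := TypeCat.ofHom (fun V i => F.map φ (V i))
  map_id A := by
    apply ConcreteCategory.hom_ext
    intro V
    funext i
    change F.map (𝟙 A) (V i) = V i
    rw [F.map_id]
    rfl
  map_comp φ χ := by
    apply ConcreteCategory.hom_ext
    intro V
    funext i
    change F.map (φ ≫ χ) (V i) = F.map χ (F.map φ (V i))
    rw [F.map_comp]
    rfl

lemma piFunctor_map (n : ℕ) {A C : CommAlgCat.{u} R} (φ : A ⟶ C) (V : Fin n → F.obj A)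
    (i : Fin n) : (piFunctor F n).map φ V i = F.map φ (V i) := rfl

variable (X : Over (Spec (CommRingCat.of R)))
  (e : ∀ A : CommAlgCat.{u} R, (SpA R A ⟶ X) ≃ F.obj A)
  (he : ∀ (A C : CommAlgCat.{u} R) (φ : A ⟶ C) (g : SpA R A ⟶ X) (g' : SpA R C ⟶ X),
    g'.left = Spec.map (CommRingCat.ofHom φ.hom.toRingHom) ≫ g.left →
      e C g' = F.map φ (e A g))

include he in
/-- **finite powers of a representing scheme represent the functor of tuples**, and properness
is inherited. -/
theorem exists_rep_pi (hP : IsProper X.hom) (n : ℕ) :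
    ∃ (Y : Over (Spec (CommRingCat.of R)))
      (eY : ∀ A : CommAlgCat.{u} R, (SpA R A ⟶ Y) ≃ (piFunctor F n).obj A),
      (∀ (A C : CommAlgCat.{u} R) (φ : A ⟶ C) (g : SpA R A ⟶ Y) (g' : SpA R C ⟶ Y),
        g'.left = Spec.map (CommRingCat.ofHom φ.hom.toRingHom) ≫ g.left →
          eY C g' = (piFunctor F n).map φ (eY A g)) ∧ IsProper Y.hom := by
  induction n with
  | zero =>
    refine ⟨Over.mk (𝟙 (Spec (CommRingCat.of R))), fun A =>
      { toFun := fun _ => Fin.elim0
        invFun := fun _ => Over.mkIdTerminal.from _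
        left_inv := fun g => Over.mkIdTerminal.hom_ext _ _
        right_inv := fun V => funext (fun i => Fin.elim0 i) }, ?_, ?_⟩
    · intro A C φ g g' _
      funext i
      exact Fin.elim0 i
    · change IsProper (𝟙 _)
      infer_instance
  | succ n ih =>
    obtain ⟨Y, eY, heY, hY⟩ := ih
    refine ⟨prodOver Y X, fun A => (prodEquiv (SpA R A)).trans
      (((eY A).prodCongr (e A)).trans (snocEquiv (F.obj A) n)), ?_, ?_⟩
    · intro A C φ g g' hgg
      funext i
      change Fin.snoc (α := fun _ => F.obj C) (eY C (g' ≫ prodFst Y X)) (e C (g' ≫ prodSnd Y X)) i =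
        F.map φ (Fin.snoc (α := fun _ => F.obj A) (eY A (g ≫ prodFst Y X))
          (e A (g ≫ prodSnd Y X)) i)
      have h1 : eY C (g' ≫ prodFst Y X) = (piFunctor F n).map φ (eY A (g ≫ prodFst Y X)) :=
        heY A C φ _ _ (by
          change g'.left ≫ pullback.fst _ _ = Spec.map _ ≫ g.left ≫ pullback.fst _ _
          rw [hgg, Category.assoc])
      have h2 : e C (g' ≫ prodSnd Y X) = F.map φ (e A (g ≫ prodSnd Y X)) :=
        he A C φ _ _ (by
          change g'.left ≫ pullback.snd _ _ = Spec.map _ ≫ g.left ≫ pullback.snd _ _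
          rw [hgg, Category.assoc])
      rw [h1, h2]
      refine Fin.lastCases ?_ (fun j => ?_) i
      · rw [Fin.snoc_last, Fin.snoc_last]
      · rw [Fin.snoc_castSucc, Fin.snoc_castSucc]
        rfl
    · change IsProper (pullback.fst Y.hom X.hom ≫ Y.hom)
      infer_instance

end Pi

end Groth.Agent.Lib.Helper10.AffPtProd
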