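import Mathlib
import Groth.Agent.Lib.Helper10.AffPtOpen
import Groth.Agent.Lib.Helper25.StdSmoothMvPoly

/-!
# Affine space over `Spec R`: functor of affine points and smoothness
-/

set_option autoImplicit false
set_option linter.unusedSectionVars false
set_option linter.style.haveILetI false
set_option backward.isDefEq.respectTransparency.types false
set_option maxHeartbeats 4000000
set_option synthInstance.maxHeartbeats 400000
universe u
open CategoryTheory CategoryTheory.Limits AlgebraicGeometry Opposite

namespace Groth.Agent.Lib.Helper10.AffSpaceRep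

open Groth.Agent.Lib.Helper10.AffPtClosed

variable (R : Type u) [CommRing R] (ι : Type u)

/-- the functor `A ↦ A^ι`. -/
def vecFunctor : CommAlgCat.{u} R ⥤ Type u where
  obj A := ι → A
  map φ := TypeCat.ofHom (fun v i => φ.hom (v i))
  map_id A := by
    apply ConcreteCategory.hom_ext
    intro v
    rfl
  map_comp φ χ := by
    apply ConcreteCategory.hom_ext
    intro v
    rfl

lemma vecFunctor_map {A C : CommAlgCat.{u} R} (φ : A ⟶ C) (v : ι → A) :
    (vecFunctor R ι).map φ v = fun i => φ.hom (v i) := rfl

/-- affine space over `Spec R`, as an object over `Spec R`. -/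
noncomputable abbrev affOver : Over (Spec (CommRingCat.of R)) :=
  Over.mk (𝔸(ι; Spec (CommRingCat.of R)) ↘ Spec (CommRingCat.of R))

/-- affine points of affine space are vectors. -/
noncomputable def affEquiv (A : CommAlgCat.{u} R) :
    (SpA R A ⟶ affOver R ι) ≃ (vecFunctor R ι).obj A where
  toFun g := fun i => (Scheme.ΓSpecIso (CommRingCat.of A)).hom.hom
    (g.left.appTop.hom (AffineSpace.coord (Spec (CommRingCat.of R)) i))
  invFun v := Over.homMk (AffineSpace.homOfVector (SpA R A).hom
    (fun i => (Scheme.ΓSpecIso (CommRingCat.of A)).inv.hom (v i)))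
    (AffineSpace.homOfVector_over _ _)
  left_inv g := by
    apply pt_ext
    apply AffineSpace.hom_ext
    · change AffineSpace.homOfVector _ _ ≫ _ = g.left ≫ (affOver R ι).hom
      rw [AffineSpace.homOfVector_over, Over.w g]
    · intro i
      change (AffineSpace.homOfVector _ _).appTop _ = _
      rw [AffineSpace.homOfVector_appTop_coord]
      change ((Scheme.ΓSpecIso (CommRingCat.of A)).hom ≫
        (Scheme.ΓSpecIso (CommRingCat.of A)).inv).hom _ = _
      rw [Iso.hom_inv_id]
      rfl
  right_inv v := by
    funext i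
    change (Scheme.ΓSpecIso (CommRingCat.of A)).hom.hom
      ((AffineSpace.homOfVector _ _).appTop.hom _) = v i
    rw [AffineSpace.homOfVector_appTop_coord]
    change ((Scheme.ΓSpecIso (CommRingCat.of A)).inv ≫
      (Scheme.ΓSpecIso (CommRingCat.of A)).hom).hom _ = _
    rw [Iso.inv_hom_id]
    rfl

theorem affEquiv_nat (A C : CommAlgCat.{u} R) (φ : A ⟶ C) (g : SpA R A ⟶ affOver R ι)
    (g' : SpA R C ⟶ affOver R ι)
    (h : g'.left = Spec.map (CommRingCat.ofHom φ.hom.toRingHom) ≫ g.left) :
    affEquiv R ι C g' = (vecFunctor R ι).map φ (affEquiv R ι A g) := by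
  funext i
  change (Scheme.ΓSpecIso (CommRingCat.of C)).hom.hom (g'.left.appTop.hom _) =
    φ.hom ((Scheme.ΓSpecIso (CommRingCat.of A)).hom.hom (g.left.appTop.hom _))
  rw [h, Scheme.Hom.comp_appTop]
  have h1 := congrArg (fun m => m.hom (g.left.appTop.hom
    (AffineSpace.coord (Spec (CommRingCat.of R)) i)))
    (Scheme.ΓSpecIso_naturality (CommRingCat.ofHom φ.hom.toRingHom))
  exact h1

section Smooth

/-- affine space of dimension `m` is smooth of relative dimension `m`. -/
theorem smoothOfRelativeDimension_affineSpace (m : ℕ) :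
    SmoothOfRelativeDimension m
      (𝔸(ULift.{u} (Fin m); Spec (CommRingCat.of R)) ↘ Spec (CommRingCat.of R)) := by
  have h1 : (𝔸(ULift.{u} (Fin m); Spec (CommRingCat.of R)) ↘ Spec (CommRingCat.of R)) =
      (AffineSpace.SpecIso (ULift.{u} (Fin m)) (CommRingCat.of R)).hom ≫
        Spec.map (CommRingCat.ofHom MvPolynomial.C) := by
    rw [← AffineSpace.SpecIso_inv_over, Iso.hom_inv_id_assoc]
  rw [h1, MorphismProperty.cancel_left_of_respectsIso (P := @SmoothOfRelativeDimension m),
    HasRingHomProperty.Spec_iff (P := @SmoothOfRelativeDimension m)]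
  apply RingHom.locally_of RingHom.isStandardSmoothOfRelativeDimension_respectsIso
  change (algebraMap R (MvPolynomial (ULift.{u} (Fin m)) R)).IsStandardSmoothOfRelativeDimension m
  rw [RingHom.isStandardSmoothOfRelativeDimension_algebraMap]
  haveI := Groth.Agent.Lib.Helper25.StdSmoothMvPoly.isStandardSmoothOfRelativeDimension_fin R m
  exact Algebra.IsStandardSmoothOfRelativeDimension.of_algEquiv m
    (MvPolynomial.renameEquiv R (Equiv.ulift.{u, 0} (α := Fin m))).symm

end Smooth

end Groth.Agent.Lib.Helper10.AffSpaceRep
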