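import Mathlib
import Groth.Prelude.Def_AlgGrp
import Groth.Agent.Lib.Helper10.HomFamBC
import Groth.Agent.Lib.Helper10.FlatPt2
import Groth.Agent.Lib.Helper13.SurjectiveDescent
import Groth.Agent.S5354

/-!
# Generation of a flat group scheme by a fibrewise dense flat morphism (SGA3 VI_B 7.?)
-/

set_option autoImplicit false
set_option backward.isDefEq.respectTransparency.types false
set_option maxHeartbeats 4000000
set_option synthInstance.maxHeartbeats 400000
universe u
open CategoryTheory CategoryTheory.Limits AlgebraicGeometry MonoidalCategory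
  CartesianMonoidalCategory MonObj GrpObj

namespace Groth.Agent.Lib.Helper10.FppfGen

open Groth.Agent.Lib.Helper10.HomSp Groth.Agent.Lib.Helper10.FlatPt
  Groth.Agent.Lib.Helper10.TrivLoc Groth.Agent.Lib.Helper10.HomFamBC

variable {S : Scheme.{u}} {G : Over S} [GrpObj G]

/-- every point of `G` is a product of two points which are maximal points of their fibre. -/
theorem exists_mul_maximal (Ω : Set G.left)
    (hΩ : ∀ (s : S) (g : ↥(G.hom ⁻¹' {s})),
      closure {g} ∈ irreducibleComponents ↥(G.hom ⁻¹' {s}) → g.1 ∈ Ω)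
    (g : G.left) : ∃ z : ↥(G ⊗ G).left, μ[G].left z = g ∧ (fst G G).left z ∈ Ω ∧
      (snd G G).left z ∈ Ω := by
  let s : S := G.hom g
  let σ : Spec (S.residueField s) ⟶ S := S.fromSpecResidueField s
  let Gs : Over (Spec (CommRingCat.of (S.residueField s))) := Red.bc σ G
  have hg : g ∈ Set.range (G.hom.fiberι s) := by
    rw [Scheme.Hom.range_fiberι]
    rfl
  obtain ⟨g', hg'⟩ := hg
  obtain ⟨z', hz', h1, h2⟩ := Groth.Agent.S5354.result (S.residueField s) Gs g'
  let τ : (Over.map σ).obj (Gs ⊗ Gs) ⟶ G ⊗ G := lift (tr σ (fst Gs Gs)) (tr σ (snd Gs Gs))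
  have hτμ : τ ≫ μ[G] = tr σ μ[Gs] := by
    have : μ[Gs] = fst Gs Gs * snd Gs Gs := by
      rw [Hom.mul_def, lift_fst_snd, Category.id_comp]
    rw [this, tr_mul, lift_comp_mul]
  have hmax : ∀ a : Gs.left, closure {a} ∈ irreducibleComponents ↥Gs.left →
      (pullback.fst G.hom σ) a ∈ Ω := by
    intro a ha
    have := Groth.Agent.S5354.maximal_image_of_homeomorph (G.hom.fiberHomeo s) a ha
    exact hΩ s _ this
  refine ⟨τ.left z', ?_, ?_, ?_⟩
  · have := congrArg (fun ψ => ψ.left z') hτμ
    simp only [Over.comp_left, Scheme.Hom.comp_apply, tr_left] at this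
    rw [this]
    change (pullback.fst G.hom σ) (μ[Gs].left z') = g
    rw [show μ[Gs].left z' = g' from hz']
    exact hg'
  · have := congrArg (fun ψ => ψ.left z') (lift_fst (tr σ (fst Gs Gs)) (tr σ (snd Gs Gs)))
    simp only [Over.comp_left, Scheme.Hom.comp_apply, tr_left] at this
    rw [this]
    exact hmax _ h1
  · have := congrArg (fun ψ => ψ.left z') (lift_snd (tr σ (fst Gs Gs)) (tr σ (snd Gs Gs)))
    simp only [Over.comp_left, Scheme.Hom.comp_apply, tr_left] at this
    rw [this]
    exact hmax _ h2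

omit [GrpObj G] in
/-- points of `G ×_S G` whose projections are in the image of `φ` are in the image of `φ × φ`. -/
theorem mem_range_tensorHom {X' : Over S} (φ : X' ⟶ G) (z : ↥(G ⊗ G).left)
    (h1 : (fst G G).left z ∈ Set.range φ.left) (h2 : (snd G G).left z ∈ Set.range φ.left) :
    z ∈ Set.range (φ ⊗ₘ φ).left := by
  obtain ⟨x1, hx1⟩ := h1
  obtain ⟨x2, hx2⟩ := h2
  have sqA : IsPullback (φ ▷ G).left (fst X' G).left (fst G G).left φ.left :=
    (isPullback_whiskerRight_fst φ G).map (Over.forget _)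
  obtain ⟨z1, hz1a, hz1b⟩ := exists_preimage_of_isPullback sqA z x1 hx1.symm
  have sqB : IsPullback (X' ◁ φ).left (snd X' X').left (snd X' G).left φ.left :=
    (isPullback_whiskerLeft_snd X' φ).map (Over.forget _)
  have h3 : (snd X' G).left z1 = φ.left x2 := by
    have := congrArg (fun ψ => ψ.left z1) (whiskerRight_snd φ G)
    simp only [Over.comp_left, Scheme.Hom.comp_apply] at this
    rw [← this, hz1a, hx2]
  obtain ⟨z2, hz2a, hz2b⟩ := exists_preimage_of_isPullback sqB z1 x2 h3
  refine ⟨z2, ?_⟩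
  have hdef : φ ⊗ₘ φ = (X' ◁ φ) ≫ (φ ▷ G) := tensorHom_def' φ φ
  have := congrArg (fun ψ => ψ.left z2) hdef
  simp only [Over.comp_left, Scheme.Hom.comp_apply] at this
  rw [this, hz2a, hz1a]

section Props

variable {X' : Over S} (φ : X' ⟶ G)

theorem mul_eq_translAct : μ[G] = translAct (𝟙 G) := by
  unfold translAct
  rw [Category.comp_id, Hom.mul_def, lift_fst_snd, Category.id_comp]

theorem flat_mul [Flat G.hom] : Flat μ[G].left := by
  rw [mul_eq_translAct]
  exact flat_act (translAction (𝟙 G))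

theorem lfp_mul [LocallyOfFinitePresentation G.hom] : LocallyOfFinitePresentation μ[G].left := by
  have h1 : actT (translAction (𝟙 G)) (𝟙 G) ≫ snd G G = μ[G] := by
    rw [actT_snd_eq, id_whiskerRight, Category.id_comp, mul_eq_translAct]
    rfl
  rw [← h1, Over.comp_left]
  haveI : IsIso (actT (translAction (𝟙 G)) (𝟙 G)).left :=
    inferInstanceAs (IsIso ((Over.forget _).map (actT (translAction (𝟙 G)) (𝟙 G))))
  haveI : LocallyOfFinitePresentation (snd G G).left := by
    rw [Over.snd_left]
    infer_instance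
  infer_instance

omit [GrpObj G] in
theorem tensorHom_of_stable (P : MorphismProperty Scheme.{u}) [P.IsStableUnderBaseChange]
    [P.IsStableUnderComposition] (h : P φ.left) : P (φ ⊗ₘ φ).left := by
  have sqA : IsPullback (φ ▷ G).left (fst X' G).left (fst G G).left φ.left :=
    (isPullback_whiskerRight_fst φ G).map (Over.forget _)
  have sqB : IsPullback (X' ◁ φ).left (snd X' X').left (snd X' G).left φ.left :=
    (isPullback_whiskerLeft_snd X' φ).map (Over.forget _)
  have hA : P (φ ▷ G).left := P.of_isPullback sqA.flip h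
  have hB : P (X' ◁ φ).left := P.of_isPullback sqB.flip h
  rw [tensorHom_def' φ φ, Over.comp_left]
  exact P.comp_mem _ _ hB hA

/-- the product map `(x, y) ↦ φ(x) φ(y)` is an fppf covering as soon as `φ` is flat, locally of
finite presentation, and hits the maximal points of all the fibres. -/
theorem fppf_mul [Flat G.hom] [LocallyOfFinitePresentation G.hom] (hfl : Flat φ.left)
    (hfp : LocallyOfFinitePresentation φ.left)
    (hmax : ∀ (s : S) (g : ↥(G.hom ⁻¹' {s})),
      closure {g} ∈ irreducibleComponents ↥(G.hom ⁻¹' {s}) → g.1 ∈ Set.range φ.left) :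
    Flat ((φ ⊗ₘ φ) ≫ μ[G]).left ∧ LocallyOfFinitePresentation ((φ ⊗ₘ φ) ≫ μ[G]).left ∧
      Surjective ((φ ⊗ₘ φ) ≫ μ[G]).left := by
  haveI := flat_mul (G := G)
  haveI := lfp_mul (G := G)
  haveI : Flat (φ ⊗ₘ φ).left := tensorHom_of_stable φ @Flat hfl
  haveI : LocallyOfFinitePresentation (φ ⊗ₘ φ).left :=
    tensorHom_of_stable φ @LocallyOfFinitePresentation hfp
  refine ⟨?_, ?_, ⟨fun g => ?_⟩⟩
  · rw [Over.comp_left]
    infer_instance
  · rw [Over.comp_left]
    infer_instance
  · obtain ⟨z, hz, h1, h2⟩ := exists_mul_maximal (Set.range φ.left) hmax g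
    obtain ⟨w, hw⟩ := mem_range_tensorHom φ z h1 h2
    refine ⟨w, ?_⟩
    rw [Over.comp_left, Scheme.Hom.comp_apply, hw, hz]

end Props

end Groth.Agent.Lib.Helper10.FppfGen
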