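import Mathlib
import Groth.Prelude.Def_SGA3x
import Groth.Agent.Lib.Helper10.IdComp6
import Groth.Agent.Lib.Helper10.AMonPts
import Groth.Agent.Lib.Helper10.HomFamBC

/-!
# The union of the neutral components of the fibres of a group scheme: fibre dictionary
-/

set_option autoImplicit false
set_option backward.isDefEq.respectTransparency.types false
set_option maxHeartbeats 4000000
set_option synthInstance.maxHeartbeats 400000

universe u

open CategoryTheory CategoryTheory.Limits AlgebraicGeometry MonoidalCategory
  CartesianMonoidalCategory MonObj GrpObj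

namespace Groth.Agent.Lib.Helper10.NeutFib

open Groth.Agent.Lib.Helper10.IdComp Groth.Agent.Lib.Helper10.HomFamBC

theorem homeomorph_image_connectedComponent {X Y : Type*} [TopologicalSpace X]
    [TopologicalSpace Y] (h : X ≃ₜ Y) (x : X) :
    h '' connectedComponent x = connectedComponent (h x) := by
  apply Set.Subset.antisymm (h.continuous.image_connectedComponent_subset x)
  intro y hy
  have := h.symm.continuous.image_connectedComponent_subset (h x) ⟨y, hy, rfl⟩
  rw [h.symm_apply_apply] at this
  exact ⟨h.symm y, this, h.apply_symm_apply y⟩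

variable {S : Scheme.{u}} (G : Over S) [GrpObj G] (s : S)

/-- the fibre of `G` over `s` as a group scheme over the residue field. -/
noncomputable abbrev fib : Over (Spec (CommRingCat.of (S.residueField s))) :=
  Red.bc (S.fromSpecResidueField s) G

/-- the point of `Spec κ(s)`. -/
noncomputable def kpt : ↥(𝟙_ (Over (Spec (CommRingCat.of (S.residueField s))))).left :=
  Classical.choice (inferInstanceAs (Nonempty (PrimeSpectrum (S.residueField s))))

/-- the inclusion of the fibre. -/
noncomputable abbrev incl : (fib G s).left ⟶ G.left :=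
  pullback.fst G.hom (S.fromSpecResidueField s)

/-- a point of `S` as a point of the unit object. -/
def upt (s : S) : ↥(𝟙_ (Over S)).left := s

theorem hom_upt (s : S) : (𝟙_ (Over S)).hom (upt s) = s := rfl

theorem upt_hom (p : ↥(𝟙_ (Over S)).left) : upt ((𝟙_ (Over S)).hom p) = p := rfl

theorem hom_incl (x : (fib G s).left) : G.hom (incl G s x) = s := by
  have h : incl G s x ∈ Set.range (G.hom.fiberι s) := ⟨x, rfl⟩
  rw [Scheme.Hom.range_fiberι] at h
  exact h

theorem exists_incl (g : G.left) (hg : G.hom g = s) : ∃ x : (fib G s).left, incl G s x = g := by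
  have h : g ∈ Set.range (G.hom.fiberι s) := by
    rw [Scheme.Hom.range_fiberι]; exact hg
  exact h

theorem incl_injective : Function.Injective (incl G s) :=
  (G.hom.fiberι s).isEmbedding.injective

theorem incl_unit : incl G s (η[fib G s].left (kpt s)) = η[G].left (upt s) := by
  have h := AMonPts.bc_one_left_fst (S.fromSpecResidueField s) G
    (X := 𝟙_ (Over (Spec (CommRingCat.of (S.residueField s)))))
  have h1 : (1 : 𝟙_ (Over (Spec (CommRingCat.of (S.residueField s)))) ⟶ fib G s) =
      η[fib G s] := by
    rw [Hom.one_def, toUnit_unique (toUnit _) (𝟙 _), Category.id_comp]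
  rw [h1] at h
  have h2 := congrArg (fun ψ => ψ (kpt s)) (congrArg (fun ψ : _ ⟶ G.left => ψ.base) h)
  simp only [Scheme.Hom.comp_base, TopCat.comp_app] at h2
  refine h2.trans ?_
  congr 1
  have h3 : (S.fromSpecResidueField s)
      ((𝟙_ (Over (Spec (CommRingCat.of (S.residueField s))))).hom (kpt s)) ∈
      Set.range (S.fromSpecResidueField s) := ⟨_, rfl⟩
  rw [Scheme.range_fromSpecResidueField] at h3
  exact h3

/-- connected components of the set-theoretic fibre and of the scheme-theoretic fibre. -/
theorem connectedComponentIn_incl (x : (fib G s).left) :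
    connectedComponentIn (G.hom ⁻¹' {s}) (incl G s x) = incl G s '' connectedComponent x := by
  have he : incl G s x ∈ G.hom ⁻¹' {s} := hom_incl G s x
  rw [connectedComponentIn_eq_image he]
  have h1 : (⟨incl G s x, he⟩ : ↥(G.hom ⁻¹' {s})) = G.hom.fiberHomeo s x := rfl
  rw [h1, ← homeomorph_image_connectedComponent, Set.image_image]
  rfl

/-- the neutral set meets the fibre over `s` in the image of the neutral component of the
fibre. -/
theorem incl_mem_neutralSet_iff (x : (fib G s).left) :
    incl G s x ∈ SGA3x.neutralSet G ↔ x ∈ connectedComponent (η[fib G s].left (kpt s)) := by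
  unfold SGA3x.neutralSet
  rw [Set.mem_iUnion]
  constructor
  · rintro ⟨p, hp⟩
    have hsub := connectedComponentIn_subset _ _ hp
    have hs : s = (𝟙_ (Over S)).hom p := by
      rw [← hom_incl G s x]; exact hsub
    subst hs
    change incl G s x ∈ connectedComponentIn (G.hom ⁻¹' {s}) (η[G].left (upt s)) at hp
    rw [← incl_unit, connectedComponentIn_incl] at hp
    obtain ⟨y, hy, hxy⟩ := hp
    rw [← incl_injective G _ hxy]
    exact hy
  · intro hx
    refine ⟨upt s, ?_⟩
    rw [hom_upt, ← incl_unit, connectedComponentIn_incl]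
    exact ⟨x, hx, rfl⟩

theorem mem_neutralSet_iff (g : G.left) :
    g ∈ SGA3x.neutralSet G ↔ ∃ x : (fib G (G.hom g)).left,
      incl G (G.hom g) x = g ∧ x ∈ connectedComponent (η[fib G (G.hom g)].left (kpt (G.hom g))) := by
  obtain ⟨x, hx⟩ := exists_incl G (G.hom g) g rfl
  constructor
  · intro hg
    refine ⟨x, hx, ?_⟩
    rw [← hx] at hg
    exact (incl_mem_neutralSet_iff G _ x).mp hg
  · rintro ⟨y, hy, hy'⟩
    rw [← hy]
    exact (incl_mem_neutralSet_iff G _ y).mpr hy'

end Groth.Agent.Lib.Helper10.NeutFib
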