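import Mathlib
import Groth.Agent.Lib.Helper10.NeutFib1
import Groth.Agent.Lib.Helper10.FppfGen1

/-!
# Quasi-compactness results for group schemes with connected fibres
-/

set_option autoImplicit false
set_option backward.isDefEq.respectTransparency.types false
set_option maxHeartbeats 4000000
set_option synthInstance.maxHeartbeats 400000

universe u

open CategoryTheory CategoryTheory.Limits AlgebraicGeometry MonoidalCategory
  CartesianMonoidalCategory MonObj GrpObj

namespace Groth.Agent.Lib.Helper10.NeutFib

open Groth.Agent.Lib.Helper10.IdComp Groth.Agent.Lib.Helper10.HomFamBC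

variable {S : Scheme.{u}} (G : Over S)

/-- `W ×_S W` is quasi-compact when `W` is a quasi-compact open lying over a quasi-separated
open of the base. -/
theorem isCompact_prod (W : G.left.Opens) (hW : IsCompact (W : Set G.left)) (U : S.Opens)
    [QuasiSeparatedSpace U] (hWU : W ≤ G.hom ⁻¹ᵁ U) :
    IsCompact {z : ↥(G ⊗ G).left | (fst G G).left z ∈ W ∧ (snd G G).left z ∈ W} := by
  have hr : Set.range (W.ι ≫ G.hom) ⊆ Set.range U.ι := by
    rw [Scheme.Opens.range_ι]
    rintro _ ⟨w, rfl⟩
    rw [Scheme.Hom.comp_apply]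
    exact hWU w.2
  let fU : W.toScheme ⟶ U.toScheme := IsOpenImmersion.lift U.ι (W.ι ≫ G.hom) hr
  have hfU : fU ≫ U.ι = W.ι ≫ G.hom := IsOpenImmersion.lift_fac _ _ _
  haveI : CompactSpace W.toScheme := isCompact_iff_compactSpace.mp hW
  haveI : QuasiCompact fU := inferInstance
  let m : pullback fU fU ⟶ pullback G.hom G.hom :=
    pullback.map fU fU G.hom G.hom W.ι W.ι U.ι hfU hfU
  have hm : Set.range m = pullback.fst G.hom G.hom ⁻¹' Set.range W.ι ∩
      pullback.snd G.hom G.hom ⁻¹' Set.range W.ι :=
    Scheme.Pullback.range_map fU fU G.hom G.hom W.ι W.ι U.ι hfU hfU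
  have hc : IsCompact (Set.range m) := isCompact_range m.continuous
  rw [hm, Scheme.Opens.range_ι] at hc
  have e : {z : ↥(G ⊗ G).left | (fst G G).left z ∈ W ∧ (snd G G).left z ∈ W} =
      pullback.fst G.hom G.hom ⁻¹' (W : Set G.left) ∩
        pullback.snd G.hom G.hom ⁻¹' (W : Set G.left) := by
    ext z
    simp only [Set.mem_setOf_eq, Set.mem_inter_iff, Set.mem_preimage, SetLike.mem_coe]
    rw [Over.fst_left, Over.snd_left]
  rw [e]
  exact hc

variable [GrpObj G]

/-- a connected fibre is irreducible. -/
theorem irreducibleSpace_fibre (s : S) (hconn : _root_.IsConnected (G.hom ⁻¹' {s})) :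
    IrreducibleSpace ↥(G.hom ⁻¹' {s}) := by
  haveI : ConnectedSpace ↥(G.hom ⁻¹' {s}) := isConnected_iff_connectedSpace.mp hconn
  haveI : ConnectedSpace ↥(fib G s).left :=
    (G.hom.fiberHomeo s).symm.surjective.connectedSpace (G.hom.fiberHomeo s).symm.continuous
  have h1 : connectedComponent (η[fib G s].left (kpt s)) = Set.univ :=
    PreconnectedSpace.connectedComponent_eq_univ _
  have h2 := (connectedComponent_unit_irreducible_compact _ (fib G s) (kpt s)).1
  rw [h1] at h2
  haveI : IrreducibleSpace ↥(G.hom.fiber s) := (irreducibleSpace_def _).mpr h2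
  exact (G.hom.fiberHomeo s).surjective.irreducibleSpace (G.hom.fiberHomeo s).continuous

theorem hom_unit (p : ↥(𝟙_ (Over S)).left) : G.hom (η[G].left p) = (𝟙_ (Over S)).hom p := by
  rw [← Scheme.Hom.comp_apply, Over.w]

theorem hom_fst_eq_hom_mul (z : ↥(G ⊗ G).left) : G.hom ((fst G G).left z) = G.hom (μ[G].left z) := by
  rw [← Scheme.Hom.comp_apply, ← Scheme.Hom.comp_apply, Over.w, Over.w]

theorem hom_snd_eq_hom_mul (z : ↥(G ⊗ G).left) : G.hom ((snd G G).left z) = G.hom (μ[G].left z) := by
  rw [← Scheme.Hom.comp_apply, ← Scheme.Hom.comp_apply, Over.w, Over.w]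

/-- a group scheme with connected fibres is quasi-compact over the base. -/
theorem quasiCompact_of_connected_fibres
    (hconn : ∀ s : S, _root_.IsConnected (G.hom ⁻¹' {s})) : QuasiCompact G.hom := by
  rw [quasiCompact_iff_forall_isAffineOpen]
  intro U hU
  let K : Set G.left := η[G].left '' {p | (𝟙_ (Over S)).hom p ∈ U}
  have hK : IsCompact K := by
    apply IsCompact.image _ η[G].left.continuous
    exact hU.isCompact
  have hKU : K ⊆ (G.hom ⁻¹ᵁ U : Set G.left) := by
    rintro _ ⟨p, hp, rfl⟩
    show G.hom (η[G].left p) ∈ U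
    rw [hom_unit]
    exact hp
  obtain ⟨W, hWc, hWo, hKW, hWU⟩ :=
    PrespectralSpace.exists_isCompact_and_isOpen_between hK (G.hom ⁻¹ᵁ U).isOpen hKU
  let W' : G.left.Opens := ⟨W, hWo⟩
  haveI : IsAffine U.toScheme := hU
  haveI : QuasiSeparatedSpace U := inferInstanceAs (QuasiSeparatedSpace U.toScheme)
  have hP := isCompact_prod G W' hWc U hWU
  have hμ : (G.hom ⁻¹ᵁ U : Set G.left) = μ[G].left ''
      {z : ↥(G ⊗ G).left | (fst G G).left z ∈ W' ∧ (snd G G).left z ∈ W'} := by
    apply Set.Subset.antisymm
    · intro g hg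
      have hΩ : ∀ (s : S) (g' : ↥(G.hom ⁻¹' {s})),
          closure {g'} ∈ irreducibleComponents ↥(G.hom ⁻¹' {s}) →
          g'.1 ∈ W ∪ (G.hom ⁻¹ᵁ U : Set G.left)ᶜ := by
        intro s g' hg'
        by_cases hs : s ∈ U
        · left
          haveI := irreducibleSpace_fibre G s (hconn s)
          have huniv : closure {g'} = Set.univ := by
            have := hg'.2 (IrreducibleSpace.isIrreducible_univ _) (Set.subset_univ _)
            exact Set.eq_univ_of_univ_subset this
          have he : η[G].left (upt s) ∈ G.hom ⁻¹' {s} := by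
            show G.hom (η[G].left (upt s)) = s
            rw [hom_unit]; rfl
          have heW : η[G].left (upt s) ∈ W := hKW ⟨upt s, hs, rfl⟩
          have hmem : (⟨_, he⟩ : ↥(G.hom ⁻¹' {s})) ∈ closure {g'} := by
            rw [huniv]; trivial
          rw [mem_closure_iff] at hmem
          obtain ⟨y, hy1, hy2⟩ := hmem (Subtype.val ⁻¹' W) (hWo.preimage continuous_subtype_val) heW
          rw [Set.mem_singleton_iff] at hy2
          rw [← hy2]
          exact hy1
        · right
          intro h
          apply hs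
          have : G.hom g'.1 = s := g'.2
          rw [← this]
          exact h
      obtain ⟨z, hz, h1, h2⟩ := FppfGen.exists_mul_maximal _ hΩ g
      refine ⟨z, ⟨?_, ?_⟩, hz⟩
      · rcases h1 with h1 | h1
        · exact h1
        · exfalso
          apply h1
          show G.hom ((fst G G).left z) ∈ U
          rw [hom_fst_eq_hom_mul, hz]
          exact hg
      · rcases h2 with h2 | h2
        · exact h2
        · exfalso
          apply h2
          show G.hom ((snd G G).left z) ∈ U
          rw [hom_snd_eq_hom_mul, hz]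
          exact hg
    · rintro _ ⟨z, ⟨h1, -⟩, rfl⟩
      show G.hom (μ[G].left z) ∈ U
      rw [← hom_fst_eq_hom_mul]
      exact hWU h1
  rw [hμ]
  exact hP.image μ[G].left.continuous

end Groth.Agent.Lib.Helper10.NeutFib
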