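import Mathlib
import Groth.Agent.Lib.Helper10.NeutFib2
import Groth.Agent.S5354

/-!
# Points of the neutral component are products of two points of any open neighbourhood of the unit
-/

set_option autoImplicit false
set_option backward.isDefEq.respectTransparency.types false
set_option maxHeartbeats 4000000
set_option synthInstance.maxHeartbeats 400000

universe u

open CategoryTheory CategoryTheory.Limits AlgebraicGeometry MonoidalCategory
  CartesianMonoidalCategory MonObj GrpObj

namespace Groth.Agent.Lib.Helper10.NeutFib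

open Groth.Agent.Lib.Helper10.IdComp Groth.Agent.Lib.Helper10.HomFamBC

section Field

variable (k : Type u) [Field k] (G : Over (Spec (CommRingCat.of k))) [GrpObj G]
  (pt : ↥(𝟙_ (Over (Spec (CommRingCat.of k)))).left)

/-- a maximal point lying in `Z0` lies in every open neighbourhood of the unit. -/
theorem mem_of_maximal_of_mem_Z0 (b : G.left) (hb : b ∈ Z0 k G pt)
    (hmax : closure {b} ∈ irreducibleComponents ↥G.left) (W : Set G.left) (hW : IsOpen W)
    (he : η[G].left pt ∈ W) : b ∈ W := by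
  have h1 : closure {b} = Z0 k G pt :=
    uniqueComp k G b _ hmax _ (Z0_mem k G pt) (subset_closure rfl) hb
  have h2 : η[G].left pt ∈ closure {b} := by rw [h1]; exact unit_mem_Z0 k G pt
  rw [mem_closure_iff] at h2
  obtain ⟨y, hy1, hy2⟩ := h2 W hW he
  rw [Set.mem_singleton_iff] at hy2
  rw [← hy2]; exact hy1

/-- every point of the neutral component is a product of two points of any open neighbourhood of
the unit. -/
theorem exists_mul_of_mem_Z0 (x : G.left) (hx : x ∈ Z0 k G pt) (W : Set G.left) (hW : IsOpen W)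
    (he : η[G].left pt ∈ W) :
    ∃ z : ↥(G ⊗ G).left, μ[G].left z = x ∧ (fst G G).left z ∈ W ∧ (snd G G).left z ∈ W := by
  obtain ⟨T, xT, t0, hxT, hT, hirr⟩ := exists_fieldPoint G x
  haveI := hirr
  have hZTmem := preimage_snd_Z0_mem k G pt T
  have hZTcl := isClosed_of_mem_irreducibleComponents _ hZTmem
  obtain ⟨ξ, hξ⟩ := QuasiSober.sober hZTmem.1 hZTcl
  have hξmax : closure {ξ} ∈ irreducibleComponents ↥(T ⊗ G).left := by
    rw [hξ.def]
    exact hZTmem
  have hξZ : (snd T G).left ξ ∈ Z0 k G pt := by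
    have : ξ ∈ (snd T G).left ⁻¹' Z0 k G pt := by
      rw [← hξ.def]; exact subset_closure rfl
    exact this
  haveI : Flat (snd T G).left := flat_snd
  haveI : IsIso ι[G] := ⟨⟨ι[G], GrpObj.inv_comp_inv G, GrpObj.inv_comp_inv G⟩⟩
  let θ : T ⊗ G ⟶ T ⊗ G := (T ◁ ι[G]) ≫ GrpTranslate.transl xT
  haveI : IsIso θ := inferInstance
  haveI : IsIso θ.left := (Over.forget _).map_isIso θ
  have hθmax : closure {θ.left ξ} ∈ irreducibleComponents ↥(T ⊗ G).left :=
    Groth.Agent.S5354.maximal_image_of_homeomorph θ.left.homeomorph ξ hξmax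
  have h1 := Groth.Agent.S5354.maximal_image_of_generalizing (snd T G).left
    (snd T G).left.continuous (Flat.generalizingMap _) ξ hξmax
  have h2 := Groth.Agent.S5354.maximal_image_of_generalizing (snd T G).left
    (snd T G).left.continuous (Flat.generalizingMap _) (θ.left ξ) hθmax
  obtain ⟨T', q, t0', hq, hT', -⟩ := exists_fieldPoint (T ⊗ G) ξ
  have hθsnd : q ≫ θ ≫ snd T G = (q ≫ fst T G ≫ xT) * (q ≫ snd T G)⁻¹ := by
    simp only [θ, Category.assoc]
    rw [GrpTranslate.transl_snd, MonObj.comp_mul, MonObj.comp_mul,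
      whiskerLeft_fst_assoc, whiskerLeft_snd, Hom.inv_def, Category.assoc]
  have hb : (q ≫ snd T G).left t0' = (snd T G).left ξ := by
    rw [Over.comp_left, Scheme.Hom.comp_apply, hq]
  have hxq : (q ≫ fst T G ≫ xT).left t0' = x := by
    rw [← Category.assoc, Over.comp_left, Scheme.Hom.comp_apply, hT ((q ≫ fst T G).left t0'), hxT]
  have ha : (snd T G).left (θ.left ξ) = ((q ≫ fst T G ≫ xT) * (q ≫ snd T G)⁻¹).left t0' := by
    rw [← hθsnd]
    simp only [Over.comp_left, Scheme.Hom.comp_apply]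
    rw [hq]
  have haZ : (snd T G).left (θ.left ξ) ∈ Z0 k G pt := by
    rw [ha]
    apply mul_mem_Z0
    · rw [hxq]; exact hx
    · apply inv_mem_Z0
      rw [hb]; exact hξZ
  refine ⟨(lift ((q ≫ fst T G ≫ xT) * (q ≫ snd T G)⁻¹) (q ≫ snd T G)).left t0', ?_, ?_, ?_⟩
  · rw [← Scheme.Hom.comp_apply, ← Over.comp_left, ← Hom.mul_def, inv_mul_cancel_right]
    exact hxq
  · rw [← Scheme.Hom.comp_apply, ← Over.comp_left, lift_fst, ← ha]
    exact mem_of_maximal_of_mem_Z0 k G pt _ haZ h2 W hW he
  · rw [← Scheme.Hom.comp_apply, ← Over.comp_left, lift_snd, hb]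
    exact mem_of_maximal_of_mem_Z0 k G pt _ hξZ h1 W hW he

end Field

variable {S : Scheme.{u}} (G : Over S) [GrpObj G]

theorem exists_mul_of_incl (W : Set G.left) (hW : IsOpen W)
    (he : ∀ p : ↥(𝟙_ (Over S)).left, η[G].left p ∈ W) (s : S) (x : (fib G s).left)
    (hx : x ∈ Z0 _ (fib G s) (kpt s)) :
    ∃ z : ↥(G ⊗ G).left, μ[G].left z = incl G s x ∧ (fst G G).left z ∈ W ∧
      (snd G G).left z ∈ W := by
  let σ : Spec (S.residueField s) ⟶ S := S.fromSpecResidueField s
  let Gs := fib G s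
  have hW' : IsOpen ((incl G s) ⁻¹' W) := hW.preimage (incl G s).continuous
  have he' : η[Gs].left (kpt s) ∈ (incl G s) ⁻¹' W := by
    show incl G s (η[Gs].left (kpt s)) ∈ W
    rw [incl_unit]; exact he _
  obtain ⟨z', hz', h1, h2⟩ := exists_mul_of_mem_Z0 _ Gs (kpt s) x hx _ hW' he'
  let τ : (Over.map σ).obj (Gs ⊗ Gs) ⟶ G ⊗ G := lift (tr σ (fst Gs Gs)) (tr σ (snd Gs Gs))
  have hτμ : τ ≫ μ[G] = tr σ μ[Gs] := by
    have : μ[Gs] = fst Gs Gs * snd Gs Gs := by
      rw [Hom.mul_def, lift_fst_snd, Category.id_comp]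
    rw [this, tr_mul, FlatPt.lift_comp_mul]
  refine ⟨τ.left z', ?_, ?_, ?_⟩
  · have := congrArg (fun ψ => ψ.left z') hτμ
    simp only [Over.comp_left, Scheme.Hom.comp_apply, tr_left] at this
    rw [this]
    change (pullback.fst G.hom σ) (μ[Gs].left z') = _
    rw [show μ[Gs].left z' = x from hz']
  · have := congrArg (fun ψ => ψ.left z') (lift_fst (tr σ (fst Gs Gs)) (tr σ (snd Gs Gs)))
    simp only [Over.comp_left, Scheme.Hom.comp_apply, tr_left] at this
    rw [this]
    exact h1
  · have := congrArg (fun ψ => ψ.left z') (lift_snd (tr σ (fst Gs Gs)) (tr σ (snd Gs Gs)))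
    simp only [Over.comp_left, Scheme.Hom.comp_apply, tr_left] at this
    rw [this]
    exact h2

/-- every point of the neutral set is a product of two points of any open neighbourhood of the
unit section. -/
theorem exists_mul_of_mem_neutralSet (W : Set G.left) (hW : IsOpen W)
    (he : ∀ p : ↥(𝟙_ (Over S)).left, η[G].left p ∈ W) (g : G.left)
    (hg : g ∈ SGA3x.neutralSet G) :
    ∃ z : ↥(G ⊗ G).left, μ[G].left z = g ∧ (fst G G).left z ∈ W ∧ (snd G G).left z ∈ W := by
  obtain ⟨x, hxg, hx⟩ := (mem_neutralSet_iff G g).mp hg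
  rw [connectedComponent_unit_eq_Z0] at hx
  obtain ⟨z, hz, h1, h2⟩ := exists_mul_of_incl G W hW he _ x hx
  exact ⟨z, hz.trans hxg, h1, h2⟩

/-- for a quasi-compact quasi-separated base, the neutral set is contained in a quasi-compact
open. -/
theorem exists_compact_open_supset_neutralSet [CompactSpace S] [QuasiSeparatedSpace S] :
    ∃ U : G.left.Opens, IsCompact (U : Set G.left) ∧ SGA3x.neutralSet G ⊆ U := by
  let K : Set G.left := Set.range η[G].left
  haveI : CompactSpace ↥(𝟙_ (Over S)).left := inferInstanceAs (CompactSpace S)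
  have hK : IsCompact K := isCompact_range η[G].left.continuous
  obtain ⟨W, hWc, hWo, hKW, -⟩ :=
    PrespectralSpace.exists_isCompact_and_isOpen_between hK isOpen_univ (Set.subset_univ _)
  let W' : G.left.Opens := ⟨W, hWo⟩
  haveI : QuasiSeparatedSpace (⊤ : S.Opens) :=
    (⊤ : S.Opens).ι.isOpenEmbedding.quasiSeparatedSpace
  have hP := isCompact_prod G W' hWc ⊤ (fun _ _ => trivial)
  have hP' := hP.image μ[G].left.continuous
  obtain ⟨U, hUc, hUo, hPU, -⟩ :=
    PrespectralSpace.exists_isCompact_and_isOpen_between hP' isOpen_univ (Set.subset_univ _)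
  refine ⟨⟨U, hUo⟩, hUc, ?_⟩
  intro g hg
  obtain ⟨z, hz, h1, h2⟩ := exists_mul_of_mem_neutralSet G W hWo (fun p => hKW ⟨p, rfl⟩) g hg
  exact hPU ⟨z, ⟨h1, h2⟩, hz⟩

end Groth.Agent.Lib.Helper10.NeutFib
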