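import Mathlib
import Groth.Agent.Lib.Helper10.NeutFib3

/-!
# The neutral set and open subgroups
-/

set_option autoImplicit false
set_option backward.isDefEq.respectTransparency.types false
set_option maxHeartbeats 4000000
set_option synthInstance.maxHeartbeats 400000

universe u

open CategoryTheory CategoryTheory.Limits AlgebraicGeometry MonoidalCategory
  CartesianMonoidalCategory MonObj GrpObj

namespace Groth.Agent.Lib.Helper10.NeutFib

variable {S : Scheme.{u}} (G H : Over S) [GrpObj G] [GrpObj H] (i : H ⟶ G) [IsMonHom i]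

theorem unit_comp_left (p : ↥(𝟙_ (Over S)).left) : i.left (η[H].left p) = η[G].left p := by
  rw [← Scheme.Hom.comp_apply, ← Over.comp_left, IsMonHom.one_hom]

theorem hom_comp_left (h : H.left) : G.hom (i.left h) = H.hom h := by
  rw [← Scheme.Hom.comp_apply, Over.w]

/-- a homomorphism maps the neutral set into the neutral set. -/
theorem image_neutralSet_subset : i.left '' SGA3x.neutralSet H ⊆ SGA3x.neutralSet G := by
  rintro _ ⟨h, hh, rfl⟩
  unfold SGA3x.neutralSet at hh ⊢
  rw [Set.mem_iUnion] at hh ⊢
  obtain ⟨p, hp⟩ := hh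
  refine ⟨p, ?_⟩
  have hpre : _root_.IsPreconnected (i.left ''
      connectedComponentIn (H.hom ⁻¹' {(𝟙_ (Over S)).hom p}) (η[H].left p)) :=
    isPreconnected_connectedComponentIn.image _ i.left.continuous.continuousOn
  have he : η[H].left p ∈ H.hom ⁻¹' {(𝟙_ (Over S)).hom p} := hom_unit H p
  have h1 : η[G].left p ∈ i.left ''
      connectedComponentIn (H.hom ⁻¹' {(𝟙_ (Over S)).hom p}) (η[H].left p) :=
    ⟨_, mem_connectedComponentIn he, unit_comp_left G H i p⟩
  have h2 : i.left '' connectedComponentIn (H.hom ⁻¹' {(𝟙_ (Over S)).hom p}) (η[H].left p) ⊆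
      G.hom ⁻¹' {(𝟙_ (Over S)).hom p} := by
    rintro _ ⟨y, hy, rfl⟩
    have := connectedComponentIn_subset _ _ hy
    show G.hom (i.left y) = _
    rw [hom_comp_left]
    exact this
  exact hpre.subset_connectedComponentIn h1 h2 ⟨h, hp, rfl⟩

/-- the neutral set is contained in every open subgroup. -/
theorem neutralSet_subset_range [IsOpenImmersion i.left] :
    SGA3x.neutralSet G ⊆ Set.range i.left := by
  intro g hg
  obtain ⟨z, hz, h1, h2⟩ := exists_mul_of_mem_neutralSet G (Set.range i.left)
    i.left.isOpenEmbedding.isOpen_range (fun p => ⟨_, unit_comp_left G H i p⟩) g hg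
  obtain ⟨z', hz'⟩ := FppfGen.mem_range_tensorHom i z h1 h2
  refine ⟨μ[H].left z', ?_⟩
  rw [← Scheme.Hom.comp_apply, ← Over.comp_left, IsMonHom.mul_hom, Over.comp_left,
    Scheme.Hom.comp_apply, hz', hz]

/-- the neutral set of an open subgroup is the neutral set of the group. -/
theorem image_neutralSet_eq [IsOpenImmersion i.left] :
    i.left '' SGA3x.neutralSet H = SGA3x.neutralSet G := by
  apply Set.Subset.antisymm (image_neutralSet_subset G H i)
  intro g hg
  have hsub := neutralSet_subset_range G H i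
  obtain ⟨h, rfl⟩ := hsub hg
  refine ⟨h, ?_, rfl⟩
  unfold SGA3x.neutralSet at hg ⊢
  rw [Set.mem_iUnion] at hg ⊢
  obtain ⟨p, hp⟩ := hg
  refine ⟨p, ?_⟩
  set C := connectedComponentIn (G.hom ⁻¹' {(𝟙_ (Over S)).hom p}) (η[G].left p) with hC
  have hCsub : C ⊆ Set.range i.left := by
    intro c hc
    apply hsub
    unfold SGA3x.neutralSet
    rw [Set.mem_iUnion]
    exact ⟨p, hc⟩
  have hpre : _root_.IsPreconnected (i.left ⁻¹' C) := by
    rw [← i.left.isOpenEmbedding.isInducing.isPreconnected_image, Set.image_preimage_eq_inter_range,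
      Set.inter_eq_left.mpr hCsub]
    exact isPreconnected_connectedComponentIn
  have heG : η[G].left p ∈ G.hom ⁻¹' {(𝟙_ (Over S)).hom p} := hom_unit G p
  have h1 : η[H].left p ∈ i.left ⁻¹' C := by
    show i.left (η[H].left p) ∈ C
    rw [unit_comp_left]
    exact mem_connectedComponentIn heG
  have h2 : i.left ⁻¹' C ⊆ H.hom ⁻¹' {(𝟙_ (Over S)).hom p} := by
    intro y hy
    have := connectedComponentIn_subset _ _ hy
    show H.hom y = _
    rw [← hom_comp_left G H i]
    exact this
  exact hpre.subset_connectedComponentIn h1 h2 hp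

end Groth.Agent.Lib.Helper10.NeutFib
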