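import Mathlib.FieldTheory.IsAlgClosed.Classification
import Mathlib.RingTheory.AlgebraicIndependent.TranscendenceBasis
import Mathlib.FieldTheory.IsAlgClosed.AlgebraicClosure
import Mathlib.RingTheory.Localization.Integral
import Mathlib.SetTheory.Cardinal.Arithmetic

set_option autoImplicit false
universe u

namespace Groth.Agent.Lib.Helper10.AlgClosedExt

open Cardinal

/-- Two algebraically closed extensions of `k` with equipotent transcendence bases are isomorphic
over `k`. -/
theorem exists_ringEquiv_of_transcendenceBasis {k K L : Type*} [Field k] [Field K] [Field L]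
    [Algebra k K] [Algebra k L] [IsAlgClosed K] [IsAlgClosed L] {ι κ : Type*} (v : ι → K)
    (w : κ → L) (e : ι ≃ κ) (hv : IsTranscendenceBasis k v) (hw : IsTranscendenceBasis k w) :
    ∃ φ : K ≃+* L, ∀ a, φ (algebraMap k K a) = algebraMap k L a := by
  let := IsAlgClosed.isAlgClosure_of_transcendence_basis v hv
  let := IsAlgClosed.isAlgClosure_of_transcendence_basis w hw
  let e' : Algebra.adjoin k (Set.range v) ≃ₐ[k] Algebra.adjoin k (Set.range w) :=
    (hv.1.aevalEquiv.symm.trans
      (AlgEquiv.ofAlgHom (MvPolynomial.rename e) (MvPolynomial.rename e.symm)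
        (by ext; simp) (by ext; simp))).trans hw.1.aevalEquiv
  refine ⟨IsAlgClosure.equivOfEquiv K L e'.toRingEquiv, fun a => ?_⟩
  have h1 : algebraMap k K a =
      algebraMap (Algebra.adjoin k (Set.range v)) K (algebraMap k _ a) := rfl
  rw [h1, IsAlgClosure.equivOfEquiv_algebraMap]
  have h2 : e'.toRingEquiv (algebraMap k _ a) = algebraMap k _ a := e'.commutes a
  rw [h2]
  rfl

/-- Ring-hom version: if `K` and `L` have the same transcendence degree over `k` (through `f`,
`g`), there is an isomorphism `K ≃ L` carrying `f` to `g`. -/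
theorem exists_ringEquiv_of_trdeg_eq {k K L : Type u} [Field k] [Field K] [Field L]
    [IsAlgClosed K] [IsAlgClosed L] (f : k →+* K) (g : k →+* L)
    (h : @Algebra.trdeg k K _ _ f.toAlgebra = @Algebra.trdeg k L _ _ g.toAlgebra) :
    ∃ φ : K ≃+* L, ∀ a, φ (f a) = g a := by
  let := f.toAlgebra
  let := g.toAlgebra
  obtain ⟨s, hs⟩ := exists_isTranscendenceBasis k K
  obtain ⟨t, ht⟩ := exists_isTranscendenceBasis k L
  have h1 : #s = Algebra.trdeg k K := hs.cardinalMk_eq_trdeg
  have h2 : #t = Algebra.trdeg k L := ht.cardinalMk_eq_trdeg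
  have h3 : #s = #t := by rw [h1, h2]; exact h
  obtain ⟨e⟩ := Cardinal.eq.1 h3
  exact exists_ringEquiv_of_transcendenceBasis _ _ e hs ht


section
variable (κ : Type u) [Field κ]

/-- A big algebraically closed extension of `κ`. -/
abbrev BigClosure : Type u :=
  AlgebraicClosure (FractionRing (MvPolynomial (κ × ℕ) κ))

lemma trdeg_bigClosure : Algebra.trdeg κ (BigClosure κ) = #(κ × ℕ) := by
  have hinj : Function.Injective (algebraMap (MvPolynomial (κ × ℕ) κ) (BigClosure κ)) := by
    rw [IsScalarTower.algebraMap_eq (MvPolynomial (κ × ℕ) κ)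
      (FractionRing (MvPolynomial (κ × ℕ) κ)) (BigClosure κ)]
    exact (algebraMap (FractionRing (MvPolynomial (κ × ℕ) κ)) (BigClosure κ)).injective.comp
      (IsFractionRing.injective _ _)
  have : FaithfulSMul (MvPolynomial (κ × ℕ) κ) (BigClosure κ) :=
    (faithfulSMul_iff_algebraMap_injective _ _).mpr hinj
  have h1 : Algebra.trdeg κ (MvPolynomial (κ × ℕ) κ) +
      Algebra.trdeg (MvPolynomial (κ × ℕ) κ) (BigClosure κ) = Algebra.trdeg κ (BigClosure κ) :=
    trdeg_add_eq κ (MvPolynomial (κ × ℕ) κ) (A := BigClosure κ)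
  have h2 : Algebra.trdeg (MvPolynomial (κ × ℕ) κ) (BigClosure κ) = 0 := by
    have : Algebra.IsAlgebraic (MvPolynomial (κ × ℕ) κ) (BigClosure κ) :=
      (IsFractionRing.comap_isAlgebraic_iff
        (K := FractionRing (MvPolynomial (κ × ℕ) κ))).mpr inferInstance
    exact trdeg_eq_zero
  rw [h2, add_zero, MvPolynomial.trdeg_of_isDomain, lift_id] at h1
  exact h1.symm

end

lemma trdeg_comp {k κ K' : Type u} [Field k] [Field κ] [Field K'] [Algebra κ K'] (c : Cardinal.{u})
    (hc : Algebra.trdeg κ K' = c) (h4 : ℵ₀ ≤ c) (h5 : #κ ≤ c) (ρ : k →+* κ) :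
    @Algebra.trdeg k K' _ _ ((algebraMap κ K').comp ρ).toAlgebra = c := by
  let : Algebra k κ := ρ.toAlgebra
  let : Algebra k K' := ((algebraMap κ K').comp ρ).toAlgebra
  have : IsScalarTower k κ K' := IsScalarTower.of_algebraMap_eq (fun _ => rfl)
  have h1 : Algebra.trdeg k κ + Algebra.trdeg κ K' = Algebra.trdeg k K' :=
    trdeg_add_eq k κ (A := K')
  have h3 : Algebra.trdeg k κ ≤ #κ := by
    unfold Algebra.trdeg
    exact ciSup_le' fun s => Cardinal.mk_set_le _
  rw [← h1, hc]
  exact Cardinal.add_eq_right h4 (h3.trans h5)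

/-- Given two embeddings `σ τ : k → κ` of fields, there are an algebraically closed extension
`j : κ → k'` and an automorphism `b` of `k'` with `b ∘ j ∘ τ = j ∘ σ`. -/
theorem exists_algClosed_aut {k κ : Type u} [Field k] [Field κ] (σ τ : k →+* κ) :
    ∃ (k' : Type u) (_ : Field k') (_ : IsAlgClosed k') (j : κ →+* k') (b : k' ≃+* k'),
      ∀ a, b (j (τ a)) = j (σ a) := by
  have h4 : ℵ₀ ≤ #(κ × ℕ) := by
    rw [Cardinal.mk_prod, Cardinal.mk_nat, lift_uzero, lift_aleph0]
    exact Cardinal.le_mul_left (Cardinal.mk_ne_zero κ)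
  have h5 : #κ ≤ #(κ × ℕ) := by
    rw [Cardinal.mk_prod, Cardinal.mk_nat, lift_uzero, lift_aleph0]
    exact Cardinal.le_mul_right Cardinal.aleph0_ne_zero
  have hτ := trdeg_comp _ (trdeg_bigClosure κ) h4 h5 τ
  have hσ := trdeg_comp _ (trdeg_bigClosure κ) h4 h5 σ
  obtain ⟨φ, hφ⟩ := exists_ringEquiv_of_trdeg_eq
    ((algebraMap κ (BigClosure κ)).comp τ) ((algebraMap κ (BigClosure κ)).comp σ)
    (hτ.trans hσ.symm)
  exact ⟨BigClosure κ, inferInstance, inferInstance, algebraMap κ (BigClosure κ), φ, hφ⟩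

/-- Version of `exists_algClosed_aut` for a commutative ring which is a field. -/
theorem exists_algClosed_aut' {k κ : Type u} [Field k] [CommRing κ] (hκ : IsField κ)
    (σ τ : k →+* κ) :
    ∃ (k' : Type u) (_ : Field k') (_ : IsAlgClosed k') (j : κ →+* k') (b : k' ≃+* k'),
      ∀ a, b (j (τ a)) = j (σ a) := by
  let _ : Field κ := hκ.toField
  exact exists_algClosed_aut σ τ

end Groth.Agent.Lib.Helper10.AlgClosedExt
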