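import Groth.Prelude.Def_AlgSpInf

set_option autoImplicit false
universe u

namespace Groth.Agent.Lib.Helper10.AlgSpInf

open CategoryTheory CategoryTheory.Limits AlgebraicGeometry Opposite AlgSp

variable {S : Scheme.{u}}

/-- Change the morphism (and the top and bottom arrows) of an infinitesimal lifting square, keeping the thickening. -/
noncomputable def change {F G F' G' : Sp S} {f : F ⟶ G} (sq : InfSq f) (f' : F' ⟶ G')
    (top' : (yon S).obj sq.ptT ⟶ F') (bot' : (yon S).obj sq.ptT' ⟶ G')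
    (comm' : top' ≫ f' = (yon S).map sq.j ≫ bot') : InfSq f' :=
  { A := sq.A, I := sq.I, sq_zero := sq.sq_zero, str := sq.str, top := top', bot := bot', comm := comm' }

lemma hasLift_change {F G F' G' : Sp S} {f : F ⟶ G} (sq : InfSq f) (f' : F' ⟶ G')
    (top' : (yon S).obj sq.ptT ⟶ F') (bot' : (yon S).obj sq.ptT' ⟶ G')
    (comm' : top' ≫ f' = (yon S).map sq.j ≫ bot') (h : (change sq f' top' bot' comm').HasLift) :
    ∃ l : (yon S).obj sq.ptT' ⟶ F', (yon S).map sq.j ≫ l = top' ∧ l ≫ f' = bot' := h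

lemma hasUniq_change {F G F' G' : Sp S} {f : F ⟶ G} (sq : InfSq f) (f' : F' ⟶ G')
    (top' : (yon S).obj sq.ptT ⟶ F') (bot' : (yon S).obj sq.ptT' ⟶ G')
    (comm' : top' ≫ f' = (yon S).map sq.j ≫ bot') (h : (change sq f' top' bot' comm').HasUniq)
    (l l' : (yon S).obj sq.ptT' ⟶ F') (h1 : (yon S).map sq.j ≫ l = top') (h2 : l ≫ f' = bot')
    (h1' : (yon S).map sq.j ≫ l' = top') (h2' : l' ≫ f' = bot') : l = l' := h l l' h1 h2 h1' h2'

lemma hasUniqLift_iff {F G : Sp S} {f : F ⟶ G} (sq : InfSq f) :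
    sq.HasUniqLift ↔ sq.HasLift ∧ sq.HasUniq := by
  constructor
  · rintro ⟨l, ⟨h1, h2⟩, hu⟩
    refine ⟨⟨l, h1, h2⟩, fun l₁ l₂ a1 a2 b1 b2 => ?_⟩
    rw [hu l₁ ⟨a1, a2⟩, hu l₂ ⟨b1, b2⟩]
  · rintro ⟨⟨l, h1, h2⟩, hu⟩
    exact ⟨l, ⟨h1, h2⟩, fun l' h' => hu l' l h'.1 h'.2 h1 h2⟩

lemma isFormallyEtaleMor_iff {F G : Sp S} (f : F ⟶ G) :
    IsFormallyEtaleMor f ↔ IsFormallySmoothMor f ∧ IsFormallyUnramifiedMor f := by
  constructor
  · intro h
    exact ⟨fun sq => ((hasUniqLift_iff sq).1 (h sq)).1, fun sq => ((hasUniqLift_iff sq).1 (h sq)).2⟩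
  · rintro ⟨h1, h2⟩ sq
    exact (hasUniqLift_iff sq).2 ⟨h1 sq, h2 sq⟩

/-! ### Composition -/

lemma smooth_comp {F G H : Sp S} (a : F ⟶ G) (b : G ⟶ H) (ha : IsFormallySmoothMor a)
    (hb : IsFormallySmoothMor b) : IsFormallySmoothMor (a ≫ b) := by
  intro sq
  obtain ⟨lb, hlb1, hlb2⟩ := hasLift_change sq b (sq.top ≫ a) sq.bot
    (by rw [Category.assoc]; exact sq.comm) (hb _)
  obtain ⟨l, hl1, hl2⟩ := hasLift_change sq a sq.top lb hlb1.symm (ha _)
  refine ⟨l, hl1, ?_⟩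
  rw [← Category.assoc]
  exact (congrArg (· ≫ b) hl2).trans hlb2

lemma unramified_comp {F G H : Sp S} (a : F ⟶ G) (b : G ⟶ H) (ha : IsFormallyUnramifiedMor a)
    (hb : IsFormallyUnramifiedMor b) : IsFormallyUnramifiedMor (a ≫ b) := by
  intro sq l l' h1 h2 h1' h2'
  have hsqb : (sq.top ≫ a) ≫ b = (yon S).map sq.j ≫ sq.bot := by
    rw [Category.assoc]; exact sq.comm
  have e : l ≫ a = l' ≫ a := by
    refine hasUniq_change sq b (sq.top ≫ a) sq.bot hsqb (hb _) (l ≫ a) (l' ≫ a) ?_ ?_ ?_ ?_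
    · exact (Category.assoc _ _ _).symm.trans (congrArg (· ≫ a) h1)
    · exact (Category.assoc _ _ _).trans h2
    · exact (Category.assoc _ _ _).symm.trans (congrArg (· ≫ a) h1')
    · exact (Category.assoc _ _ _).trans h2'
  have hsqa : sq.top ≫ a = (yon S).map sq.j ≫ (l ≫ a) := by
    rw [← Category.assoc]; exact (congrArg (· ≫ a) h1).symm
  exact hasUniq_change sq a sq.top (l ≫ a) hsqa (ha _) l l' h1 rfl h1' e.symm

lemma etale_comp {F G H : Sp S} (a : F ⟶ G) (b : G ⟶ H) (ha : IsFormallyEtaleMor a)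
    (hb : IsFormallyEtaleMor b) : IsFormallyEtaleMor (a ≫ b) := by
  rw [isFormallyEtaleMor_iff] at *
  exact ⟨smooth_comp a b ha.1 hb.1, unramified_comp a b ha.2 hb.2⟩

/-! ### Permanence -/

lemma unramified_of_comp {F G H : Sp S} (a : F ⟶ G) (b : G ⟶ H)
    (hab : IsFormallyUnramifiedMor (a ≫ b)) : IsFormallyUnramifiedMor a := by
  intro sq l l' h1 h2 h1' h2'
  have hsq : sq.top ≫ a ≫ b = (yon S).map sq.j ≫ (sq.bot ≫ b) := by
    rw [← Category.assoc, ← Category.assoc]; exact congrArg (· ≫ b) sq.comm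
  refine hasUniq_change sq (a ≫ b) sq.top (sq.bot ≫ b) hsq (hab _) l l' h1 ?_ h1' ?_
  · exact (Category.assoc _ _ _).symm.trans (congrArg (· ≫ b) h2)
  · exact (Category.assoc _ _ _).symm.trans (congrArg (· ≫ b) h2')

lemma smooth_of_comp {F G H : Sp S} (a : F ⟶ G) (b : G ⟶ H) (hb : IsFormallyUnramifiedMor b)
    (hab : IsFormallySmoothMor (a ≫ b)) : IsFormallySmoothMor a := by
  intro sq
  have hsq : sq.top ≫ a ≫ b = (yon S).map sq.j ≫ (sq.bot ≫ b) := by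
    rw [← Category.assoc, ← Category.assoc]; exact congrArg (· ≫ b) sq.comm
  obtain ⟨l, hl1, hl2⟩ := hasLift_change sq (a ≫ b) sq.top (sq.bot ≫ b) hsq (hab _)
  refine ⟨l, hl1, ?_⟩
  have hsqb : (sq.top ≫ a) ≫ b = (yon S).map sq.j ≫ (sq.bot ≫ b) :=
    (Category.assoc _ _ _).trans hsq
  refine hasUniq_change sq b (sq.top ≫ a) (sq.bot ≫ b) hsqb (hb _) (l ≫ a) sq.bot ?_ ?_ ?_ rfl
  · exact (Category.assoc _ _ _).symm.trans (congrArg (· ≫ a) hl1)
  · exact (Category.assoc _ _ _).trans hl2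
  · exact sq.comm.symm

lemma etale_of_comp {F G H : Sp S} (a : F ⟶ G) (b : G ⟶ H) (hb : IsFormallyUnramifiedMor b)
    (hab : IsFormallyEtaleMor (a ≫ b)) : IsFormallyEtaleMor a := by
  rw [isFormallyEtaleMor_iff] at *
  exact ⟨smooth_of_comp a b hb hab.1, unramified_of_comp a b hab.2⟩

/-! ### Base change -/

lemma smooth_baseChange {F G H P : Sp S} (a : F ⟶ G) (b : H ⟶ G) (b' : P ⟶ F) (a' : P ⟶ H)
    (hP : IsPullback b' a' a b) (ha : IsFormallySmoothMor a) : IsFormallySmoothMor a' := by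
  intro sq
  have hsq : (sq.top ≫ b') ≫ a = (yon S).map sq.j ≫ (sq.bot ≫ b) := by
    rw [Category.assoc, hP.w, ← Category.assoc, ← Category.assoc]
    exact congrArg (· ≫ b) sq.comm
  obtain ⟨lF, h1, h2⟩ := hasLift_change sq a (sq.top ≫ b') (sq.bot ≫ b) hsq (ha _)
  refine ⟨hP.lift lF sq.bot h2, ?_, hP.lift_snd _ _ _⟩
  apply hP.hom_ext
  · rw [Category.assoc, hP.lift_fst]; exact h1
  · rw [Category.assoc, hP.lift_snd]; exact sq.comm.symm

lemma unramified_baseChange {F G H P : Sp S} (a : F ⟶ G) (b : H ⟶ G) (b' : P ⟶ F) (a' : P ⟶ H)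
    (hP : IsPullback b' a' a b) (ha : IsFormallyUnramifiedMor a) : IsFormallyUnramifiedMor a' := by
  intro sq l l' h1 h2 h1' h2'
  have hsq : (sq.top ≫ b') ≫ a = (yon S).map sq.j ≫ (sq.bot ≫ b) := by
    rw [Category.assoc, hP.w, ← Category.assoc, ← Category.assoc]
    exact congrArg (· ≫ b) sq.comm
  apply hP.hom_ext
  · refine hasUniq_change sq a (sq.top ≫ b') (sq.bot ≫ b) hsq (ha _) (l ≫ b') (l' ≫ b') ?_ ?_ ?_ ?_
    · exact (Category.assoc _ _ _).symm.trans (congrArg (· ≫ b') h1)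
    · rw [Category.assoc, hP.w, ← Category.assoc]; exact congrArg (· ≫ b) h2
    · exact (Category.assoc _ _ _).symm.trans (congrArg (· ≫ b') h1')
    · rw [Category.assoc, hP.w, ← Category.assoc]; exact congrArg (· ≫ b) h2'
  · exact h2.trans h2'.symm

lemma etale_baseChange {F G H P : Sp S} (a : F ⟶ G) (b : H ⟶ G) (b' : P ⟶ F) (a' : P ⟶ H)
    (hP : IsPullback b' a' a b) (ha : IsFormallyEtaleMor a) : IsFormallyEtaleMor a' := by
  rw [isFormallyEtaleMor_iff] at *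
  exact ⟨smooth_baseChange a b b' a' hP ha.1, unramified_baseChange a b b' a' hP ha.2⟩

end Groth.Agent.Lib.Helper10.AlgSpInf
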