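import Mathlib

/-!
# Exactness of the Amitsur complex in degree one (additive Hilbert 90)
-/

set_option autoImplicit false
set_option backward.isDefEq.respectTransparency.types false
set_option maxHeartbeats 4000000
set_option synthInstance.maxHeartbeats 400000
universe u

namespace Groth.Agent.Lib.Helper10.Amitsur

open TensorProduct

variable (R : Type u) (B : Type u) [CommRing R] [CommRing B] [Algebra R B]

/-- `b ↦ b ⊗ 1`. -/
noncomputable abbrev j1 : B →ₐ[R] B ⊗[R] B := Algebra.TensorProduct.includeLeft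
/-- `b ↦ 1 ⊗ b`. -/
noncomputable abbrev j2 : B →ₐ[R] B ⊗[R] B := Algebra.TensorProduct.includeRight

/-- `x ⊗ y ↦ (x ⊗ y) ⊗ 1`. -/
noncomputable abbrev j12 : B ⊗[R] B →ₐ[R] (B ⊗[R] B) ⊗[R] B := Algebra.TensorProduct.includeLeft
/-- `x ⊗ y ↦ (x ⊗ 1) ⊗ y`. -/
noncomputable abbrev j13 : B ⊗[R] B →ₐ[R] (B ⊗[R] B) ⊗[R] B :=
  Algebra.TensorProduct.map (j1 R B) (AlgHom.id R B)
/-- `x ⊗ y ↦ (1 ⊗ x) ⊗ y`. -/
noncomputable abbrev j23 : B ⊗[R] B →ₐ[R] (B ⊗[R] B) ⊗[R] B :=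
  Algebra.TensorProduct.map (j2 R B) (AlgHom.id R B)

theorem j12_comp_j1 : (j12 R B).comp (j1 R B) = (j13 R B).comp (j1 R B) := by
  ext b; simp
theorem j12_comp_j2 : (j12 R B).comp (j2 R B) = (j23 R B).comp (j1 R B) := by
  ext b; simp
theorem j13_comp_j2 : (j13 R B).comp (j2 R B) = (j23 R B).comp (j2 R B) := by
  ext b; simp

/-- `d⁰ b = b ⊗ 1 - 1 ⊗ b`. -/
noncomputable def d0 : B →ₗ[R] B ⊗[R] B := (j1 R B).toLinearMap - (j2 R B).toLinearMap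

/-- `d¹ z = z₁₂ - z₁₃ + z₂₃`. -/
noncomputable def d1 : B ⊗[R] B →ₗ[R] (B ⊗[R] B) ⊗[R] B :=
  (j12 R B).toLinearMap - (j13 R B).toLinearMap + (j23 R B).toLinearMap

theorem d0_apply (b : B) : d0 R B b = b ⊗ₜ 1 - 1 ⊗ₜ b := rfl

theorem d1_tmul (x y : B) :
    d1 R B (x ⊗ₜ y) = (x ⊗ₜ y) ⊗ₜ 1 - (x ⊗ₜ 1) ⊗ₜ y + (1 ⊗ₜ x) ⊗ₜ y := by
  simp [d1]

theorem d1_d0 (b : B) : d1 R B (d0 R B b) = 0 := by
  rw [d0_apply, map_sub, d1_tmul, d1_tmul]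
  abel

/-- `c ⊗ (x ⊗ y) ↦ cx ⊗ y`. -/
noncomputable def s1 : B ⊗[R] (B ⊗[R] B) →ₗ[R] B ⊗[R] B :=
  (LinearMap.rTensor B (LinearMap.mul' R B)) ∘ₗ (TensorProduct.assoc R B B B).symm.toLinearMap

/-- `c ⊗ ((x ⊗ y) ⊗ w) ↦ cx ⊗ (y ⊗ w)`. -/
noncomputable def s2 : B ⊗[R] ((B ⊗[R] B) ⊗[R] B) →ₗ[R] B ⊗[R] (B ⊗[R] B) :=
  (LinearMap.rTensor (B ⊗[R] B) (LinearMap.mul' R B)) ∘ₗ
    (TensorProduct.assoc R B B (B ⊗[R] B)).symm.toLinearMap ∘ₗ
    (LinearMap.lTensor B (TensorProduct.assoc R B B B).toLinearMap)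

theorem s1_tmul (c x y : B) : s1 R B (c ⊗ₜ (x ⊗ₜ y)) = (c * x) ⊗ₜ y := by
  simp [s1]

theorem s2_tmul (c x y w : B) : s2 R B (c ⊗ₜ ((x ⊗ₜ y) ⊗ₜ w)) = (c * x) ⊗ₜ (y ⊗ₜ w) := by
  simp [s2]

theorem homotopy_aux :
    s2 R B ∘ₗ (d1 R B).lTensor B - (d0 R B).lTensor B ∘ₗ s1 R B = LinearMap.id := by
  apply TensorProduct.ext
  ext c : 1
  apply TensorProduct.ext'
  intro x y
  change s2 R B ((d1 R B).lTensor B (c ⊗ₜ (x ⊗ₜ y))) -
    (d0 R B).lTensor B (s1 R B (c ⊗ₜ (x ⊗ₜ y))) = c ⊗ₜ (x ⊗ₜ y)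
  rw [LinearMap.lTensor_tmul, d1_tmul, s1_tmul, LinearMap.lTensor_tmul, d0_apply]
  simp only [TensorProduct.tmul_add, TensorProduct.tmul_sub, map_add, map_sub, s2_tmul,
    mul_one]
  abel

theorem homotopy (z : B ⊗[R] (B ⊗[R] B)) :
    s2 R B ((d1 R B).lTensor B z) - (d0 R B).lTensor B (s1 R B z) = z :=
  congrArg (fun f : B ⊗[R] (B ⊗[R] B) →ₗ[R] B ⊗[R] (B ⊗[R] B) => f z) (homotopy_aux R B)

/-- **Additive Hilbert 90 (Amitsur)**: the Amitsur complex is exact in degree one. -/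
theorem exact [Module.FaithfullyFlat R B] : Function.Exact (d0 R B) (d1 R B) := by
  apply Module.FaithfullyFlat.lTensor_reflects_exact R B
  intro z
  constructor
  · intro hz
    have h := homotopy R B z
    rw [hz, map_zero, zero_sub] at h
    exact ⟨-(s1 R B z), by rw [map_neg]; exact h⟩
  · rintro ⟨w, rfl⟩
    rw [← LinearMap.comp_apply, ← LinearMap.lTensor_comp]
    have : d1 R B ∘ₗ d0 R B = 0 := by
      ext b
      exact d1_d0 R B b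
    rw [this, LinearMap.lTensor_zero, LinearMap.zero_apply]

/-- cocycles are coboundaries. -/
theorem exists_of_cocycle [Module.FaithfullyFlat R B] (g : B ⊗[R] B)
    (hg : j12 R B g + j23 R B g = j13 R B g) : ∃ h : B, g = j1 R B h - j2 R B h := by
  have h1 : d1 R B g = 0 := by
    change j12 R B g - j13 R B g + j23 R B g = 0
    rw [← hg]; abel
  obtain ⟨h, hh⟩ := (exact R B g).mp h1
  exact ⟨h, hh.symm⟩

end Groth.Agent.Lib.Helper10.Amitsur
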