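import Mathlib.CategoryTheory.Sites.DenseSubsite.SheafEquiv
import Mathlib.Algebra.Category.Grp.Limits
import Groth.Prelude.Def_AnCl
set_option autoImplicit false
universe u
open CategoryTheory TopologicalSpace Topology Opposite

namespace Groth.Agent.Lib.Helper10.AnCl
open An

variable (T : Type u) [TopologicalSpace T]

instance full_opensToCl : (opensToCl T).Full where
  map_surjective {U V} f := by
    have hle : U ≤ V := by
      intro x hx
      have h1 : ((opensToCl T).obj V).p (f.toFun ⟨x, hx⟩) = x := f.over ⟨x, hx⟩
      rw [← h1]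
      exact Subtype.property (p := fun t => t ∈ V) (f.toFun ⟨x, hx⟩)
    refine ⟨homOfLE hle, ?_⟩
    apply Cl.hom_ext
    funext a
    apply Subtype.ext
    have h1 := f.over a
    exact h1.symm

instance faithful_opensToCl : (opensToCl T).Faithful where
  map_injective _ := Subsingleton.elim _ _

instance isCoverDense_opensToCl : (opensToCl T).IsCoverDense (Cl.topology T) where
  is_cover A := by
    intro a
    obtain ⟨e, hae, hpe⟩ := A.lh a
    refine ⟨Cl.restrictOpen A e.source e.open_source, Cl.restrictOpenι A e.source e.open_source,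
      ?_, e.open_source.isOpenEmbedding_subtypeVal, ⟨⟨a, hae⟩, rfl⟩⟩
    refine ⟨⟨⟨e.target, e.open_target⟩, ?_, ?_, ?_⟩⟩
    · exact ⟨fun w => ⟨e w.1, e.map_source w.2⟩,
        (e.continuousOn.comp_continuous continuous_subtype_val (fun w => w.2)).subtype_mk _,
        fun w => by
          change e w.1 = A.p w.1
          rw [hpe]⟩
    · exact ⟨fun v => e.symm v.1,
        e.continuousOn_symm.comp_continuous continuous_subtype_val (fun v => v.2),
        fun v => by
          change A.p (e.symm v.1) = v.1
          rw [hpe]
          exact e.right_inv v.2⟩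
    · apply Cl.hom_ext
      funext w
      exact e.left_inv w.2

theorem isDenseSubsite_opensToCl :
    (opensToCl T).IsDenseSubsite (Opens.grothendieckTopology T) (Cl.topology T) where
  functorPushforward_mem_iff := by
    intro U S
    constructor
    · intro h x hx
      obtain ⟨B, g, ⟨Z, g', k, hSg', hfac⟩, -, b, hb⟩ := h ⟨x, hx⟩
      refine ⟨Z, g', hSg', ?_⟩
      have h1 : ((opensToCl T).obj U).p (g.toFun b) = x := congrArg Subtype.val hb
      rw [hfac] at h1
      have h2 : ((opensToCl T).obj Z).p (k.toFun b) = x := h1
      rw [← h2]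
      exact Subtype.property (p := fun t => t ∈ Z) (k.toFun b)
    · intro h a
      obtain ⟨V, f, hSf, haV⟩ := h a.1 a.2
      refine ⟨(opensToCl T).obj V, (opensToCl T).map f, ⟨V, f, 𝟙 _, hSf, by simp⟩, ?_,
        ⟨⟨a.1, haV⟩, rfl⟩⟩
      exact IsOpenEmbedding.inclusion f.le (V.2.preimage continuous_subtype_val)


theorem opCont : An.OpCont T := by
  have := isDenseSubsite_opensToCl T
  infer_instance

theorem resOpens_isEquivalence [An.OpCont T] : (An.resOpens T).IsEquivalence := by
  have := isDenseSubsite_opensToCl T
  exact inferInstanceAs ((opensToCl T).sheafPushforwardContinuous AddCommGrpCat.{u + 1}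
    (Opens.grothendieckTopology T) (Cl.topology T)).IsEquivalence

end Groth.Agent.Lib.Helper10.AnCl
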