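import Mathlib.AlgebraicGeometry.OpenImmersion
import Mathlib.AlgebraicGeometry.Morphisms.ClosedImmersion
import Mathlib.AlgebraicGeometry.Morphisms.Immersion
import Mathlib.AlgebraicGeometry.PullbackCarrier
import Mathlib.AlgebraicGeometry.AlgClosed.Basic
import Mathlib.Analysis.Complex.Polynomial.Basic
import Groth.Prelude.Def_AnPts
set_option autoImplicit false
open AlgebraicGeometry CategoryTheory TopologicalSpace Opposite

namespace Groth.Agent.Lib.Helper10.AnPts
open An

variable {X : Scheme.{0}} [X.Over SC]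

/-- Evaluation at a ℂ-point as a ring homomorphism. -/
noncomputable def evHom (x : Pts X) (U : X.Opens) (h : x.pt ∈ U) : Γ(X, U) →+* ℂ :=
  (Scheme.ΓSpecIso (CommRingCat.of ℂ)).hom.hom.comp
    (x.1.appLE U ⊤ (Pts.top_le_preimage x h)).hom

lemma evHom_apply (x : Pts X) (U : X.Opens) (h : x.pt ∈ U) (f : Γ(X, U)) :
    evHom x U h f = x.ev U h f := rfl

/-- `ev` is compatible with restriction of sections. -/
lemma ev_res (x : Pts X) {U U' : X.Opens} (hUU' : U' ≤ U) (h' : x.pt ∈ U') (f : Γ(X, U)) :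
    x.ev U' h' (X.presheaf.map (homOfLE hUU').op f) = x.ev U (hUU' h') f := by
  unfold Pts.ev
  congr 1
  have := x.1.map_appLE (U := U') (V := ⊤) (Pts.top_le_preimage x h') (homOfLE hUU').op
  exact congrArg (fun φ => φ.hom f) this

lemma basicSet_eqToHom {U U' : X.Opens} (e : U = U') (g : Γ(X, U')) (V : Set ℂ) :
    Pts.basicSet U (X.presheaf.map (eqToHom e).op g) V = Pts.basicSet U' g V := by
  subst e
  simp

section Mono

variable {Y : Scheme.{0}} [Y.Over SC] (f : X ⟶ Y) [f.IsOver SC]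

lemma map_injective_of_mono [Mono f] : Function.Injective (Pts.map f) := by
  intro x x' h
  apply Subtype.ext
  have := congrArg Subtype.val h
  simp only [Pts.map_val] at this
  exact (cancel_mono f).mp this

/-- A morphism `SC ⟶ X` lifting a ℂ-point of `Y` along `f` is a ℂ-point of `X`. -/
def liftPt (y : Pts Y) (l : SC ⟶ X) (hl : l ≫ f = y.1) : Pts X :=
  ⟨l, by rw [← comp_over f SC, ← Category.assoc, hl]; exact y.2⟩

lemma map_liftPt (y : Pts Y) (l : SC ⟶ X) (hl : l ≫ f = y.1) : Pts.map f (liftPt f y l hl) = y :=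
  Subtype.ext hl

end Mono

section OpenImmersion

variable {Y : Scheme.{0}} [Y.Over SC] (f : X ⟶ Y) [f.IsOver SC] [IsOpenImmersion f]

lemma range_map_of_isOpenImmersion :
    Set.range (Pts.map f) = Pts.pt ⁻¹' (f.opensRange : Set Y) := by
  ext y
  constructor
  · rintro ⟨x, rfl⟩
    rw [Set.mem_preimage, Pts.pt_map]
    exact ⟨x.pt, rfl⟩
  · intro hy
    have hr : Set.range y.1 ⊆ Set.range f := by
      rintro _ ⟨p, rfl⟩
      rw [eq_cpt p]
      exact hy
    exact ⟨liftPt f y (IsOpenImmersion.lift f y.1 hr) (IsOpenImmersion.lift_fac f y.1 hr),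
      map_liftPt _ _ _ _⟩

lemma isInducing_map_of_isOpenImmersion : Topology.IsInducing (Pts.map f) := by
  constructor
  apply le_antisymm
  · exact (Pts.continuous_map f).le_induced
  · apply le_generateFrom
    rintro _ ⟨U, g, V, hV, rfl⟩
    have hg : g = X.presheaf.map (eqToHom (f.preimage_image_eq U).symm).op
        (f.app (f ''ᵁ U) ((f.appIso U).inv g)) := by
      have := f.appIso_hom U
      have h2 : (f.appIso U).hom ((f.appIso U).inv g) = g := by
        rw [← CommRingCat.comp_apply, Iso.inv_hom_id]; rfl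
      rw [this] at h2
      exact h2.symm
    have : Pts.basicSet U g V = Pts.map f ⁻¹' Pts.basicSet (f ''ᵁ U) ((f.appIso U).inv g) V := by
      rw [Pts.preimage_basicSet]
      conv_lhs => rw [hg]
      rw [basicSet_eqToHom]
    rw [this]
    exact isOpen_induced (Pts.isOpen_basicSet _ _ hV)

theorem isOpenEmbedding_map_of_isOpenImmersion : Topology.IsOpenEmbedding (Pts.map f) := by
  refine ⟨⟨isInducing_map_of_isOpenImmersion f, map_injective_of_mono f⟩, ?_⟩
  rw [range_map_of_isOpenImmersion]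
  exact Pts.isOpen_preimage_pt _

end OpenImmersion

lemma basicSet_res {U U' : X.Opens} (hUU' : U' ≤ U) (g : Γ(X, U)) (V : Set ℂ) :
    Pts.basicSet U' (X.presheaf.map (homOfLE hUU').op g) V
      = Pts.basicSet U g V ∩ Pts.pt ⁻¹' (U' : Set X) := by
  ext x
  constructor
  · rintro ⟨h, hv⟩
    rw [ev_res] at hv
    exact ⟨⟨hUU' h, hv⟩, h⟩
  · rintro ⟨⟨h, hv⟩, h'⟩
    refine ⟨h', ?_⟩
    rw [ev_res]
    exact hv

section ClosedImmersion

variable {Y : Scheme.{0}} [Y.Over SC] (f : X ⟶ Y) [f.IsOver SC] [IsClosedImmersion f]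

omit [X.Over SC] [f.IsOver SC] in
lemma exists_lift_of_isClosedImmersion (y : Pts Y) (hy : y.pt ∈ Set.range f) :
    ∃ l : SC ⟶ X, l ≫ f = y.1 := by
  obtain ⟨x₀, hx₀⟩ := hy
  obtain ⟨w, -, -⟩ := Scheme.Pullback.exists_preimage_pullback (f := f) (g := y.1) x₀ cpt hx₀
  have hs : Surjective (Limits.pullback.snd f y.1) :=
    ⟨fun p => ⟨w, Subsingleton.elim (α := PrimeSpectrum ℂ) _ _⟩⟩
  have : IsIso (Limits.pullback.snd f y.1) := isIso_of_isClosedImmersion_of_surjective _
  exact ⟨inv (Limits.pullback.snd f y.1) ≫ Limits.pullback.fst f y.1, by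
    rw [Category.assoc, Limits.pullback.condition, IsIso.inv_hom_id_assoc]⟩

lemma range_map_of_isClosedImmersion :
    Set.range (Pts.map f) = Pts.pt ⁻¹' (Set.range f) := by
  ext y
  constructor
  · rintro ⟨x, rfl⟩
    rw [Set.mem_preimage, Pts.pt_map]
    exact ⟨x.pt, rfl⟩
  · intro hy
    obtain ⟨l, hl⟩ := exists_lift_of_isClosedImmersion f y hy
    exact ⟨liftPt f y l hl, map_liftPt _ _ _ _⟩

lemma isInducing_map_of_isClosedImmersion : Topology.IsInducing (Pts.map f) := by
  constructor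
  apply le_antisymm
  · exact (Pts.continuous_map f).le_induced
  · apply le_generateFrom
    rintro _ ⟨U, g, V, hV, rfl⟩
    rw [@isOpen_iff_forall_mem_open]
    rintro x₀ ⟨h₀, hv₀⟩
    -- `U` is the preimage of an open of `Y`
    obtain ⟨U', hU', hUU'⟩ := f.isEmbedding.isInducing.isOpen_iff.mp U.2
    have hx₀ : f x₀.pt ∈ U' := by
      have : x₀.pt ∈ f ⁻¹' U' := by rw [hUU']; exact h₀
      exact this
    have hx₀' : f x₀.pt ∈ (⟨U', hU'⟩ : Y.Opens) := hx₀
    obtain ⟨W, hW, hxW, hWU'⟩ := Opens.isBasis_iff_nbhd.mp Y.isBasis_affineOpens hx₀'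
    have hle : f ⁻¹ᵁ W ≤ U := by
      intro z hz
      have : z ∈ f ⁻¹' U' := hWU' hz
      rw [hUU'] at this
      exact this
    obtain ⟨g', hg'⟩ := f.app_surjective W hW (X.presheaf.map (homOfLE hle).op g)
    refine ⟨Pts.map f ⁻¹' Pts.basicSet W g' V, ?_, ?_, ?_⟩
    · rw [Pts.preimage_basicSet, hg', basicSet_res]
      exact Set.inter_subset_left
    · exact isOpen_induced (Pts.isOpen_basicSet _ _ hV)
    · rw [Pts.preimage_basicSet, hg', basicSet_res]
      exact ⟨⟨h₀, hv₀⟩, hxW⟩

theorem isClosedEmbedding_map_of_isClosedImmersion :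
    Topology.IsClosedEmbedding (Pts.map f) := by
  refine ⟨⟨isInducing_map_of_isClosedImmersion f, map_injective_of_mono f⟩, ?_⟩
  rw [range_map_of_isClosedImmersion]
  exact f.isClosedEmbedding.isClosed_range.preimage Pts.continuous_pt

end ClosedImmersion

section Immersion

variable {X Y : Scheme.{0}} [X.Over SC] [Y.Over SC] (f : X ⟶ Y) [f.IsOver SC] [IsImmersion f]

theorem isEmbedding_map_of_isImmersion :
    Topology.IsEmbedding (Pts.map f) ∧ IsLocallyClosed (Set.range (Pts.map f)) := by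
  let _ : f.coborderRange.toScheme.Over SC := ⟨f.coborderRange.ι ≫ (Y ↘ SC)⟩
  have : f.coborderRange.ι.IsOver SC := ⟨rfl⟩
  have : f.liftCoborder.IsOver SC := ⟨by
    change f.liftCoborder ≫ f.coborderRange.ι ≫ (Y ↘ SC) = X ↘ SC
    rw [← Category.assoc, f.liftCoborder_ι, comp_over f SC]⟩
  have hcomp : Pts.map f = Pts.map f.coborderRange.ι ∘ Pts.map f.liftCoborder := by
    funext x
    apply Subtype.ext
    change x.1 ≫ f = (x.1 ≫ f.liftCoborder) ≫ f.coborderRange.ι
    rw [Category.assoc, f.liftCoborder_ι]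
  have h1 := isClosedEmbedding_map_of_isClosedImmersion f.liftCoborder
  have h2 := isOpenEmbedding_map_of_isOpenImmersion f.coborderRange.ι
  rw [hcomp]
  refine ⟨h2.isEmbedding.comp h1.isEmbedding, ?_⟩
  rw [Set.range_comp]
  exact h1.isClosed_range.isLocallyClosed.image h2.isInducing h2.isOpen_range.isLocallyClosed

end Immersion

section ClosedPoints

variable {X : Scheme.{0}} [X.Over SC]

lemma range_val (x : Pts X) : Set.range x.1 = {x.pt} := by
  ext p
  constructor
  · rintro ⟨q, rfl⟩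
    rw [eq_cpt q]
    rfl
  · rintro rfl
    exact ⟨cpt, rfl⟩

/-- The point underlying a ℂ-point is closed. -/
lemma isClosed_singleton_pt (x : Pts X) : IsClosed ({x.pt} : Set X) := by
  have := isClosedImmersion_of_comp_eq_id _ _ x.2
  have h := x.1.isClosedEmbedding.isClosed_range
  rwa [range_val] at h

variable [LocallyOfFiniteType (X ↘ SC)]

/-- Closed points of a scheme locally of finite type over ℂ are ℂ-points. -/
lemma exists_pt_eq_of_isClosed (ξ : X) (hξ : IsClosed ({ξ} : Set X)) : ∃ x : Pts X, x.pt = ξ :=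
  ⟨⟨pointOfClosedPoint (X ↘ SC) ξ hξ, pointOfClosedPoint_comp _ _ _⟩,
    pointOfClosedPoint_apply _ _ _ _⟩

/-- A ℂ-point is determined by its underlying point. -/
lemma pt_injective : Function.Injective (Pts.pt : Pts X → X) := by
  intro x x' h
  apply Subtype.ext
  refine ext_of_apply_closedPoint_eq (X ↘ SC) x.2 x'.2 ?_
  have e : IsLocalRing.closedPoint ℂ = cpt := Subsingleton.elim (α := PrimeSpectrum ℂ) _ _
  rw [e]
  exact h

lemma range_pt : Set.range (Pts.pt : Pts X → X) = closedPoints X := by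
  ext ξ
  constructor
  · rintro ⟨x, rfl⟩
    exact isClosed_singleton_pt x
  · intro h
    exact exists_pt_eq_of_isClosed ξ h

instance jacobsonSpace_of_lft : JacobsonSpace X := LocallyOfFiniteType.jacobsonSpace (X ↘ SC)

end ClosedPoints

end Groth.Agent.Lib.Helper10.AnPts
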