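import Mathlib.Topology.Constructible
import Mathlib.Topology.JacobsonSpace
import Mathlib.Topology.LocallyClosed
set_option autoImplicit false
open Topology Set

namespace Groth.Agent.Lib.Helper10.AnPts

section QC

variable {T : Type*} [TopologicalSpace T]

/-- Finite unions of locally closed sets. -/
def FULC (s : Set T) : Prop :=
  ∃ F : Set (Set T), F.Finite ∧ (∀ t ∈ F, IsLocallyClosed t) ∧ s = ⋃₀ F

lemma FULC.of_isLocallyClosed {s : Set T} (hs : IsLocallyClosed s) : FULC s :=
  ⟨{s}, finite_singleton _, by rintro t rfl; exact hs, by simp⟩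

lemma FULC.union {A B : Set T} (hA : FULC A) (hB : FULC B) : FULC (A ∪ B) := by
  obtain ⟨F, hFf, hF, rfl⟩ := hA
  obtain ⟨G, hGf, hG, rfl⟩ := hB
  refine ⟨F ∪ G, hFf.union hGf, ?_, (sUnion_union F G).symm⟩
  rintro t (ht | ht)
  · exact hF t ht
  · exact hG t ht

lemma FULC.inter_isLocallyClosed {A s : Set T} (hA : FULC A) (hs : IsLocallyClosed s) :
    FULC (A ∩ s) := by
  obtain ⟨F, hFf, hF, rfl⟩ := hA
  refine ⟨(fun t => t ∩ s) '' F, hFf.image _, ?_, ?_⟩
  · rintro _ ⟨t, ht, rfl⟩
    exact (hF t ht).inter hs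
  · rw [sUnion_image, sUnion_eq_biUnion, iUnion₂_inter]

lemma FULC.inter {A B : Set T} (hA : FULC A) (hB : FULC B) : FULC (A ∩ B) := by
  obtain ⟨G, hGf, hG, rfl⟩ := hB
  induction G, hGf using Set.Finite.induction_on with
  | empty => simpa using FULC.of_isLocallyClosed (isOpen_empty (X := T)).isLocallyClosed
  | @insert s S _ _ ih =>
    rw [sUnion_insert, inter_union_distrib_left]
    exact (hA.inter_isLocallyClosed (hG s (mem_insert _ _))).union
      (ih fun t ht => hG t (mem_insert_of_mem _ ht))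

lemma FULC.compl_of_isLocallyClosed {s : Set T} (hs : IsLocallyClosed s) : FULC sᶜ := by
  obtain ⟨U, C, hU, hC, rfl⟩ := hs
  rw [compl_inter]
  exact (FULC.of_isLocallyClosed hU.isClosed_compl.isLocallyClosed).union
    (FULC.of_isLocallyClosed hC.isOpen_compl.isLocallyClosed)

lemma FULC.compl {A : Set T} (hA : FULC A) : FULC Aᶜ := by
  obtain ⟨F, hFf, hF, rfl⟩ := hA
  induction F, hFf using Set.Finite.induction_on with
  | empty => simpa using FULC.of_isLocallyClosed (isOpen_univ (X := T)).isLocallyClosed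
  | @insert s S _ _ ih =>
    rw [sUnion_insert, compl_union]
    exact (FULC.compl_of_isLocallyClosed (hF s (mem_insert _ _))).inter
      (ih fun t ht => hF t (mem_insert_of_mem _ ht))

lemma FULC.of_isConstructible {s : Set T} (hs : IsConstructible s) : FULC s := by
  induction hs using IsConstructible.empty_union_induction with
  | open_retrocompact U hU _ => exact FULC.of_isLocallyClosed hU.isLocallyClosed
  | union s _ t _ hs ht => exact hs.union ht
  | compl s _ hs => exact hs.compl

lemma isLocallyConstructible_compl {s : Set T} (hs : IsLocallyConstructible s) :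
    IsLocallyConstructible sᶜ := by
  intro x
  obtain ⟨U, hUx, hU, hUs⟩ := hs x
  exact ⟨U, hUx, hU, by rw [Set.preimage_compl]; exact hUs.compl⟩

/-- In a Jacobson space, a nonempty locally constructible set contains a closed point. -/
lemma exists_isClosed_singleton_of_isLocallyConstructible [JacobsonSpace T] {s : Set T}
    (hs : IsLocallyConstructible s) (hne : s.Nonempty) : ∃ x ∈ s, IsClosed ({x} : Set T) := by
  obtain ⟨t, ht⟩ := hne
  obtain ⟨U, hUt, hU, hUs⟩ := hs t
  obtain ⟨F, -, hF, hFU⟩ := FULC.of_isConstructible hUs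
  have htU : t ∈ U := mem_of_mem_nhds hUt
  have : (⟨t, htU⟩ : U) ∈ (Subtype.val ⁻¹' s : Set U) := ht
  rw [hFU] at this
  obtain ⟨L, hLF, htL⟩ := this
  have hL : IsLocallyClosed (Subtype.val '' L : Set T) :=
    (hF L hLF).image hU.isOpenEmbedding_subtypeVal.isInducing
      (by rw [Subtype.range_coe]; exact hU.isLocallyClosed)
  have hne' : (Subtype.val '' L : Set T).Nonempty := ⟨t, ⟨⟨t, htU⟩, htL, rfl⟩⟩
  obtain ⟨x, ⟨⟨x', hx'L, rfl⟩, hx⟩⟩ := nonempty_inter_closedPoints hne' hL
  refine ⟨x', ?_, hx⟩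
  have : x' ∈ (Subtype.val ⁻¹' s : Set U) := by rw [hFU]; exact ⟨L, hLF, hx'L⟩
  exact this

end QC

end Groth.Agent.Lib.Helper10.AnPts
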