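import Mathlib.AlgebraicGeometry.Morphisms.FinitePresentation
import Mathlib.AlgebraicGeometry.Noetherian
import Mathlib.AlgebraicGeometry.Morphisms.Immersion
import Groth.Agent.Lib.Helper10.AnPts
import Groth.Agent.Lib.Helper10.JacobsonConstr
set_option autoImplicit false
open AlgebraicGeometry CategoryTheory TopologicalSpace Opposite Topology

namespace Groth.Agent.Lib.Helper10.AnPts
open An

section Surj

variable {X Y : Scheme.{0}} [X.Over SC] [LocallyOfFiniteType (X ↘ SC)]
  [Y.Over SC] [LocallyOfFiniteType (Y ↘ SC)] (f : X ⟶ Y) [f.IsOver SC]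

include f in
omit [LocallyOfFiniteType (Y ↘ SC)] in
lemma locallyOfFiniteType_of_isOver : LocallyOfFiniteType f := by
  have : LocallyOfFiniteType (f ≫ (Y ↘ SC)) := by rw [comp_over f SC]; infer_instance
  exact locallyOfFiniteType_of_comp f (Y ↘ SC)

omit [LocallyOfFiniteType (X ↘ SC)] in
lemma isLocallyNoetherian_of_lft : IsLocallyNoetherian Y :=
  LocallyOfFiniteType.isLocallyNoetherian (Y ↘ SC)

omit [LocallyOfFiniteType (Y ↘ SC)] in
/-- A ℂ-point of `Y` whose underlying point is in the image of `f` lifts to a ℂ-point of `X`. -/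
lemma exists_map_eq_of_pt_mem_range (y : Pts Y) (hy : y.pt ∈ Set.range f) :
    ∃ x : Pts X, Pts.map f x = y := by
  have hlft : LocallyOfFiniteType f := locallyOfFiniteType_of_isOver f
  obtain ⟨x₀, hx₀⟩ := hy
  obtain ⟨w, -, -⟩ := Scheme.Pullback.exists_preimage_pullback (f := f) (g := y.1) x₀ cpt hx₀
  have : JacobsonSpace ↥(Limits.pullback f y.1) :=
    LocallyOfFiniteType.jacobsonSpace (Limits.pullback.snd f y.1)
  obtain ⟨w', -, hw'⟩ := nonempty_inter_closedPoints (Z := (Set.univ : Set ↥(Limits.pullback f y.1)))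
    ⟨w, trivial⟩ isOpen_univ.isLocallyClosed
  have hl := pointOfClosedPoint_comp (Limits.pullback.snd f y.1) w' hw'
  refine ⟨liftPt f y (pointOfClosedPoint (Limits.pullback.snd f y.1) w' hw' ≫
    Limits.pullback.fst f y.1) ?_, map_liftPt _ _ _ _⟩
  rw [Category.assoc, Limits.pullback.condition, ← Category.assoc, hl, Category.id_comp]

omit [LocallyOfFiniteType (Y ↘ SC)] in
lemma range_map_eq : Set.range (Pts.map f) = Pts.pt ⁻¹' (Set.range f) := by
  ext y
  constructor
  · rintro ⟨x, rfl⟩
    rw [Set.mem_preimage, Pts.pt_map]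
    exact ⟨x.pt, rfl⟩
  · intro hy
    exact exists_map_eq_of_pt_mem_range f y hy

theorem surjective_iff_pts [QuasiCompact f] :
    Function.Surjective f.base ↔ Function.Surjective (Pts.map f) := by
  constructor
  · intro hf y
    exact exists_map_eq_of_pt_mem_range f y (hf y.pt)
  · intro hf
    by_contra hns
    have hlft : LocallyOfFiniteType f := locallyOfFiniteType_of_isOver f
    have hY : IsLocallyNoetherian Y := isLocallyNoetherian_of_lft
    have hT : IsLocallyConstructible (Set.range f)ᶜ := by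
      have := f.isLocallyConstructible_image IsLocallyConstructible.univ
      rw [Set.image_univ] at this
      exact isLocallyConstructible_compl this
    have hne : ((Set.range f)ᶜ).Nonempty := by
      by_contra h
      rw [Set.not_nonempty_iff_eq_empty, Set.compl_empty_iff] at h
      apply hns
      intro y
      have : y ∈ Set.range f := by rw [h]; trivial
      exact this
    obtain ⟨η, hη, hηc⟩ := exists_isClosed_singleton_of_isLocallyConstructible hT hne
    obtain ⟨y, rfl⟩ := exists_pt_eq_of_isClosed η hηc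
    obtain ⟨x, rfl⟩ := hf y
    exact hη ⟨x.pt, (Pts.pt_map f x).symm⟩

instance locallyOfFiniteType_pullback_over {S : Scheme.{0}} [S.Over SC] (f : X ⟶ S) (g : Y ⟶ S)
    [f.IsOver SC] [g.IsOver SC] [LocallyOfFiniteType g] :
    LocallyOfFiniteType ((Limits.pullback f g) ↘ SC) := by
  change LocallyOfFiniteType (Limits.pullback.fst f g ≫ (X ↘ SC))
  infer_instance

omit [LocallyOfFiniteType (Y ↘ SC)] in
theorem injective_iff_pts :
    Function.Injective f.base ↔ Function.Injective (Pts.map f) := by
  constructor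
  · intro hf x x' h
    apply pt_injective
    apply hf
    have := congrArg Pts.pt h
    rwa [Pts.pt_map, Pts.pt_map] at this
  · intro hf ξ₁ ξ₂ h
    by_contra hne
    have hlft : LocallyOfFiniteType f := locallyOfFiniteType_of_isOver f
    obtain ⟨w, hw1, hw2⟩ := Scheme.Pullback.exists_preimage_pullback (f := f) (g := f) ξ₁ ξ₂ h
    have hΔ : IsLocallyClosed (Set.range (Limits.pullback.diagonal f)) :=
      (Limits.pullback.diagonal f).isLocallyClosed_range
    have hw : w ∉ Set.range (Limits.pullback.diagonal f) := by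
      rintro ⟨x', rfl⟩
      apply hne
      rw [← hw1, ← hw2, ← Scheme.Hom.comp_apply, ← Scheme.Hom.comp_apply,
        Limits.pullback.diagonal_fst, Limits.pullback.diagonal_snd]
    obtain ⟨w', hw'1, hw'c⟩ : ∃ w', w' ∉ Set.range (Limits.pullback.diagonal f) ∧
        IsClosed ({w'} : Set ↥(Limits.pullback f f)) := by
      obtain ⟨U, C, hU, hC, hUC⟩ := hΔ
      by_cases hwU : w ∈ U
      · have hwC : w ∈ Cᶜ := fun hc => hw (hUC ▸ ⟨hwU, hc⟩)
        obtain ⟨w', hw'C, hw'c⟩ := nonempty_inter_closedPoints ⟨w, hwC⟩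
          hC.isOpen_compl.isLocallyClosed
        exact ⟨w', fun h => hw'C (hUC ▸ h : w' ∈ U ∩ C).2, hw'c⟩
      · obtain ⟨w', hw'U, hw'c⟩ := nonempty_inter_closedPoints (Z := Uᶜ) ⟨w, hwU⟩
          hU.isClosed_compl.isLocallyClosed
        exact ⟨w', fun h => hw'U (hUC ▸ h : w' ∈ U ∩ C).1, hw'c⟩
    obtain ⟨z, rfl⟩ := exists_pt_eq_of_isClosed w' hw'c
    have hx : Pts.map (Limits.pullback.fst f f) z = Pts.map (Limits.pullback.snd f f) z :=
      hf (Pts.map_pullback_condition f f z)
    have hx' : z.1 ≫ Limits.pullback.fst f f = z.1 ≫ Limits.pullback.snd f f :=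
      congrArg Subtype.val hx
    apply hw'1
    refine ⟨(z.1 ≫ Limits.pullback.fst f f) cpt, ?_⟩
    have hz : z.1 = (z.1 ≫ Limits.pullback.fst f f) ≫ Limits.pullback.diagonal f := by
      apply Limits.pullback.hom_ext
      · simp
      · simp [hx']
    conv_rhs => rw [Pts.pt, hz]
    rw [Scheme.Hom.comp_apply]
    rfl

end Surj

end Groth.Agent.Lib.Helper10.AnPts
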