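import Mathlib.AlgebraicGeometry.Morphisms.Flat
import Mathlib.Analysis.Normed.Field.Lemmas
import Mathlib.Analysis.Complex.Basic
import Groth.Agent.Lib.Helper10.AnPts
import Groth.Agent.Lib.Helper21.AnPts
set_option autoImplicit false
open AlgebraicGeometry CategoryTheory TopologicalSpace Opposite Topology

namespace Groth.Agent.Lib.Helper10.AnPts
open An

section Generation

/-- In a pushout square of commutative rings, the pushout is generated by the two images. -/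
lemma mem_closure_of_isPushout {R A B C : CommRingCat.{0}} {f : R ⟶ A} {g : R ⟶ B}
    {inl : A ⟶ C} {inr : B ⟶ C} (h : IsPushout f g inl inr) (c : C) :
    c ∈ Subring.closure (Set.range inl.hom ∪ Set.range inr.hom) := by
  obtain ⟨B₀, hB₀⟩ : ∃ B₀ : Subring C,
      B₀ = Subring.closure (Set.range inl.hom ∪ Set.range inr.hom) := ⟨_, rfl⟩
  rw [← hB₀]
  have hl : ∀ a, inl.hom a ∈ B₀ := fun a => hB₀ ▸ Subring.subset_closure (Or.inl ⟨a, rfl⟩)
  have hr : ∀ b, inr.hom b ∈ B₀ := fun b => hB₀ ▸ Subring.subset_closure (Or.inr ⟨b, rfl⟩)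
  let ι : CommRingCat.of B₀ ⟶ C := CommRingCat.ofHom B₀.subtype
  let α : A ⟶ CommRingCat.of B₀ := CommRingCat.ofHom (inl.hom.codRestrict B₀ hl)
  let α' : B ⟶ CommRingCat.of B₀ := CommRingCat.ofHom (inr.hom.codRestrict B₀ hr)
  have hαι : α ≫ ι = inl := by ext; rfl
  have hα'ι : α' ≫ ι = inr := by ext; rfl
  have hmono : Mono ι := ConcreteCategory.mono_of_injective _ Subtype.val_injective
  have hw : f ≫ α = g ≫ α' := by
    rw [← cancel_mono ι, Category.assoc, Category.assoc, hαι, hα'ι, h.w]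
  have hρ : h.desc α α' hw ≫ ι = 𝟙 C := by
    apply h.hom_ext
    · rw [h.inl_desc_assoc, hαι, Category.comp_id]
    · rw [h.inr_desc_assoc, hα'ι, Category.comp_id]
  have : c = ι (h.desc α α' hw c) := by
    have := congrArg (fun φ => φ.hom c) hρ
    simpa using this.symm
  rw [this]
  exact (h.desc α α' hw c).2

variable {X Y S : Scheme.{0}} (f : X ⟶ S) (g : Y ⟶ S) {S' : S.Opens} {X' : X.Opens} {Y' : Y.Opens}

lemma isAffineOpen_pullback_inf (hS' : IsAffineOpen S') (hX' : IsAffineOpen X')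
    (hY' : IsAffineOpen Y') (hXS : X' ≤ f ⁻¹ᵁ S') (hYS : Y' ≤ g ⁻¹ᵁ S') :
    IsAffineOpen (Limits.pullback.fst f g ⁻¹ᵁ X' ⊓ Limits.pullback.snd f g ⁻¹ᵁ Y') := by
  have : IsAffine _ := hS'
  have : IsAffine _ := hX'
  have : IsAffine _ := hY'
  exact .of_isIso (Scheme.Hom.isPullback_resLE (IsPullback.of_hasPullback f g) hYS hXS rfl).isoPullback.hom

lemma mem_closure_sections (hS' : IsAffineOpen S') (hX' : IsAffineOpen X')
    (hY' : IsAffineOpen Y') (hXS : X' ≤ f ⁻¹ᵁ S') (hYS : Y' ≤ g ⁻¹ᵁ S')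
    (c : Γ(Limits.pullback f g, Limits.pullback.fst f g ⁻¹ᵁ X' ⊓ Limits.pullback.snd f g ⁻¹ᵁ Y')) :
    c ∈ Subring.closure
      (Set.range ((Limits.pullback.fst f g).appLE X' _ inf_le_left).hom ∪
        Set.range ((Limits.pullback.snd f g).appLE Y' _ inf_le_right).hom) := by
  have H := IsPullback.of_hasPullback f g
  have hiso := isIso_pushoutSection_of_isAffineOpen H hYS hXS rfl hS' hY' hX'
  have hpo := (isIso_pushoutSection_iff H hYS hXS rfl).mp hiso
  exact mem_closure_of_isPushout hpo c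

end Generation

section EvD

variable {X : Scheme.{0}} [X.Over SC]

/-- Evaluation of a section over `U`, extended by zero outside `U(ℂ)`. -/
noncomputable def evD (U : X.Opens) (a : Γ(X, U)) (x : Pts X) : ℂ :=
  open Classical in if h : x.pt ∈ U then x.ev U h a else 0

lemma evD_of_mem (U : X.Opens) (a : Γ(X, U)) (x : Pts X) (h : x.pt ∈ U) :
    evD U a x = x.ev U h a := by
  unfold evD
  exact dif_pos h

lemma continuousOn_evD (U : X.Opens) (a : Γ(X, U)) :
    ContinuousOn (evD U a) (Pts.pt ⁻¹' (U : Set X)) := by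
  rw [continuousOn_open_iff (Pts.isOpen_preimage_pt U)]
  intro t ht
  have : Pts.pt ⁻¹' (U : Set X) ∩ evD U a ⁻¹' t = Pts.basicSet U a t := by
    ext x
    constructor
    · rintro ⟨h, hv⟩
      refine ⟨h, ?_⟩
      rw [Set.mem_preimage, evD_of_mem U a x h] at hv
      exact hv
    · rintro ⟨h, hv⟩
      refine ⟨h, ?_⟩
      rw [Set.mem_preimage, evD_of_mem U a x h]
      exact hv
  rw [this]
  exact Pts.isOpen_basicSet U a ht

variable {Y : Scheme.{0}} [Y.Over SC]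

/-- `ev` of a pulled back section (via `appLE`). -/
lemma ev_appLE (g : X ⟶ Y) [g.IsOver SC] (x : Pts X) (U : Y.Opens) (V : X.Opens)
    (e : V ≤ g ⁻¹ᵁ U) (h : x.pt ∈ V) (a : Γ(Y, U)) :
    x.ev V h (g.appLE U V e a) = (Pts.map g x).ev U (by rw [Pts.pt_map]; exact e h) a := by
  rw [Pts.ev_map]
  have : g.appLE U V e a = X.presheaf.map (homOfLE e).op (g.app U a) := rfl
  rw [this, ev_res]

end EvD

section Pullback

variable {X Y S : Scheme.{0}} [X.Over SC] [Y.Over SC] [S.Over SC] (f : X ⟶ S) (g : Y ⟶ S)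
  [f.IsOver SC] [g.IsOver SC]

/-- The canonical map `(X ×_S Y)(ℂ) → X(ℂ) × Y(ℂ)`. -/
noncomputable def pbMap (z : Pts (Limits.pullback f g)) : Pts X × Pts Y :=
  (Pts.map (Limits.pullback.fst f g) z, Pts.map (Limits.pullback.snd f g) z)

lemma continuous_pbMap : Continuous (pbMap f g) :=
  (Pts.continuous_map _).prodMk (Pts.continuous_map _)

variable {S' : S.Opens} {X' : X.Opens} {Y' : Y.Opens}

lemma exists_continuousOn_of_section (hS' : IsAffineOpen S') (hX' : IsAffineOpen X')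
    (hY' : IsAffineOpen Y') (hXS : X' ≤ f ⁻¹ᵁ S') (hYS : Y' ≤ g ⁻¹ᵁ S')
    (c : Γ(Limits.pullback f g, Limits.pullback.fst f g ⁻¹ᵁ X' ⊓ Limits.pullback.snd f g ⁻¹ᵁ Y')) :
    ∃ F : Pts X × Pts Y → ℂ,
      ContinuousOn F ((Pts.pt ⁻¹' (X' : Set X)) ×ˢ (Pts.pt ⁻¹' (Y' : Set Y))) ∧
      ∀ (z : Pts (Limits.pullback f g))
        (hz : z.pt ∈ Limits.pullback.fst f g ⁻¹ᵁ X' ⊓ Limits.pullback.snd f g ⁻¹ᵁ Y'),
        z.ev _ hz c = F (pbMap f g z) := by
  induction mem_closure_sections f g hS' hX' hY' hXS hYS c using Subring.closure_induction with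
  | mem c hc =>
    rcases hc with ⟨a, rfl⟩ | ⟨a, rfl⟩
    · refine ⟨fun q => evD X' a q.1,
        (continuousOn_evD X' a).comp continuous_fst.continuousOn (fun q hq => hq.1), ?_⟩
      intro z hz
      have h' : (Pts.map (Limits.pullback.fst f g) z).pt ∈ X' := by
        rw [Pts.pt_map]; exact hz.1
      change _ = evD X' a (Pts.map (Limits.pullback.fst f g) z)
      rw [evD_of_mem X' a _ h']
      exact ev_appLE (Limits.pullback.fst f g) z X' _ inf_le_left hz a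
    · refine ⟨fun q => evD Y' a q.2,
        (continuousOn_evD Y' a).comp continuous_snd.continuousOn (fun q hq => hq.2), ?_⟩
      intro z hz
      have h' : (Pts.map (Limits.pullback.snd f g) z).pt ∈ Y' := by
        rw [Pts.pt_map]; exact hz.2
      change _ = evD Y' a (Pts.map (Limits.pullback.snd f g) z)
      rw [evD_of_mem Y' a _ h']
      exact ev_appLE (Limits.pullback.snd f g) z Y' _ inf_le_right hz a
  | zero =>
    exact ⟨fun _ => 0, continuousOn_const, fun z hz => Groth.Agent.Lib.Helper21.AnPts.ev_zero z _ hz⟩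
  | one =>
    exact ⟨fun _ => 1, continuousOn_const, fun z hz => Groth.Agent.Lib.Helper21.AnPts.ev_one z _ hz⟩
  | add c₁ c₂ _ _ h₁ h₂ =>
    obtain ⟨F₁, hF₁, hF₁'⟩ := h₁
    obtain ⟨F₂, hF₂, hF₂'⟩ := h₂
    refine ⟨F₁ + F₂, hF₁.add hF₂, fun z hz => ?_⟩
    rw [Groth.Agent.Lib.Helper21.AnPts.ev_add, hF₁' z hz, hF₂' z hz]
    rfl
  | mul c₁ c₂ _ _ h₁ h₂ =>
    obtain ⟨F₁, hF₁, hF₁'⟩ := h₁
    obtain ⟨F₂, hF₂, hF₂'⟩ := h₂
    refine ⟨F₁ * F₂, hF₁.mul hF₂, fun z hz => ?_⟩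
    rw [Groth.Agent.Lib.Helper21.AnPts.ev_mul, hF₁' z hz, hF₂' z hz]
    rfl
  | neg c₁ _ h₁ =>
    obtain ⟨F₁, hF₁, hF₁'⟩ := h₁
    refine ⟨-F₁, hF₁.neg, fun z hz => ?_⟩
    have : z.ev _ hz (-c₁) = - z.ev _ hz c₁ := map_neg (evHom z _ hz) c₁
    rw [this, hF₁' z hz]
    rfl

/-- Key local statement: a subbasic neighbourhood of `z₀` contains the preimage of a neighbourhood
of the image of `z₀` in the product. -/
lemma basicSet_mem_comap_nhds (z₀ : Pts (Limits.pullback f g))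
    (W : (Limits.pullback f g).Opens) (h : Γ(Limits.pullback f g, W)) (V : Set ℂ) (hV : IsOpen V)
    (hz₀ : z₀ ∈ Pts.basicSet W h V) :
    Pts.basicSet W h V ∈ Filter.comap (pbMap f g) (𝓝 (pbMap f g z₀)) := by
  obtain ⟨hz₀W, hv₀⟩ := hz₀
  -- affine charts
  obtain ⟨S', hS', hsS', -⟩ := Opens.isBasis_iff_nbhd.mp S.isBasis_affineOpens
    (Opens.mem_top (f (Limits.pullback.fst f g z₀.pt)))
  have hx₀ : Limits.pullback.fst f g z₀.pt ∈ f ⁻¹ᵁ S' := hsS'
  have hy₀ : Limits.pullback.snd f g z₀.pt ∈ g ⁻¹ᵁ S' := by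
    change g (Limits.pullback.snd f g z₀.pt) ∈ S'
    rw [← Scheme.Hom.comp_apply, ← Limits.pullback.condition, Scheme.Hom.comp_apply]
    exact hsS'
  obtain ⟨X', hX', hxX', hXS⟩ := Opens.isBasis_iff_nbhd.mp X.isBasis_affineOpens hx₀
  obtain ⟨Y', hY', hyY', hYS⟩ := Opens.isBasis_iff_nbhd.mp Y.isBasis_affineOpens hy₀
  have hP' := isAffineOpen_pullback_inf f g hS' hX' hY' hXS hYS
  have hp₀ : z₀.pt ∈ Limits.pullback.fst f g ⁻¹ᵁ X' ⊓ Limits.pullback.snd f g ⁻¹ᵁ Y' :=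
    ⟨hxX', hyY'⟩
  -- a basic open inside `W`
  obtain ⟨t, htW, hp₀t⟩ := hP'.exists_basicOpen_le ⟨z₀.pt, hz₀W⟩ hp₀
  have hDP' := (Limits.pullback f g).basicOpen_le t
  -- write `h` as a fraction on `D(t)`
  have hloc := hP'.isLocalization_basicOpen t
  obtain ⟨⟨c, ⟨_, n, rfl⟩⟩, hc⟩ := IsLocalization.surj (Submonoid.powers t)
    ((Limits.pullback f g).presheaf.map (homOfLE htW).op h)
  obtain ⟨Fc, hFc, hFc'⟩ := exists_continuousOn_of_section f g hS' hX' hY' hXS hYS c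
  obtain ⟨Ft, hFt, hFt'⟩ := exists_continuousOn_of_section f g hS' hX' hY' hXS hYS t
  -- the key relation
  have hrel : ∀ (z : Pts (Limits.pullback f g)) (hzD : z.pt ∈ (Limits.pullback f g).basicOpen t),
      z.ev W (htW hzD) h * (z.ev _ (hDP' hzD) t) ^ n = z.ev _ (hDP' hzD) c := by
    intro z hzD
    have h1 := congrArg (fun s => z.ev _ hzD s) hc
    simp only at h1
    rw [Groth.Agent.Lib.Helper21.AnPts.ev_mul] at h1
    have e1 : z.ev _ hzD ((Limits.pullback f g).presheaf.map (homOfLE htW).op h)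
        = z.ev W (htW hzD) h := ev_res z htW hzD h
    have e2 : ∀ a : Γ(Limits.pullback f g, _), z.ev _ hzD (algebraMap _ _ a)
        = z.ev _ (hDP' hzD) a := fun a => ev_res z hDP' hzD a
    rw [e1, e2, e2, Groth.Agent.Lib.Helper21.AnPts.ev_pow] at h1
    exact h1
  -- the neighbourhood
  set q₀ := pbMap f g z₀ with hq₀
  have hdom : (Pts.pt ⁻¹' (X' : Set X)) ×ˢ (Pts.pt ⁻¹' (Y' : Set Y)) ∈ 𝓝 q₀ := by
    apply ((Pts.isOpen_preimage_pt X').prod (Pts.isOpen_preimage_pt Y')).mem_nhds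
    constructor
    · change (Pts.map (Limits.pullback.fst f g) z₀).pt ∈ X'
      rw [Pts.pt_map]; exact hxX'
    · change (Pts.map (Limits.pullback.snd f g) z₀).pt ∈ Y'
      rw [Pts.pt_map]; exact hyY'
  have hFc₀ : ContinuousAt Fc q₀ := hFc.continuousAt hdom
  have hFt₀ : ContinuousAt Ft q₀ := hFt.continuousAt hdom
  have ht₀ : Ft q₀ ≠ 0 := by
    rw [← hFt' z₀ hp₀]
    exact (Groth.Agent.Lib.Helper21.AnPts.pt_mem_basicOpen_iff z₀ _ hp₀ t).mp hp₀t
  have hG₀ : ContinuousAt (fun q => Fc q / (Ft q) ^ n) q₀ :=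
    hFc₀.div (hFt₀.pow n) (pow_ne_zero n ht₀)
  have hGq₀ : Fc q₀ / (Ft q₀) ^ n = z₀.ev W hz₀W h := by
    rw [← hFc' z₀ hp₀, ← hFt' z₀ hp₀, ← hrel z₀ hp₀t, mul_div_assoc, div_self, mul_one]
    rw [hFt' z₀ hp₀]
    exact pow_ne_zero n ht₀
  have hV' : (fun q => Fc q / (Ft q) ^ n) ⁻¹' V ∈ 𝓝 q₀ := by
    apply hG₀.preimage_mem_nhds
    rw [hGq₀]
    exact hV.mem_nhds hv₀
  have hne : {q | Ft q ≠ 0} ∈ 𝓝 q₀ := hFt₀.eventually_ne ht₀
  rw [Filter.mem_comap]
  refine ⟨_, Filter.inter_mem (Filter.inter_mem hdom hne) hV', ?_⟩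
  rintro z ⟨⟨⟨hzX, hzY⟩, hzt⟩, hzV⟩
  have hzP' : z.pt ∈ Limits.pullback.fst f g ⁻¹ᵁ X' ⊓ Limits.pullback.snd f g ⁻¹ᵁ Y' := by
    constructor
    · have : (Pts.map (Limits.pullback.fst f g) z).pt ∈ X' := hzX
      rwa [Pts.pt_map] at this
    · have : (Pts.map (Limits.pullback.snd f g) z).pt ∈ Y' := hzY
      rwa [Pts.pt_map] at this
  have hzt' : z.ev _ hzP' t ≠ 0 := by
    rw [hFt' z hzP']; exact hzt
  have hzD : z.pt ∈ (Limits.pullback f g).basicOpen t :=
    (Groth.Agent.Lib.Helper21.AnPts.pt_mem_basicOpen_iff z _ hzP' t).mpr hzt'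
  refine ⟨htW hzD, ?_⟩
  have h2 : z.ev W (htW hzD) h = Fc (pbMap f g z) / (Ft (pbMap f g z)) ^ n := by
    rw [← hFc' z hzP', ← hFt' z hzP', ← hrel z hzD, mul_div_assoc, div_self (pow_ne_zero n hzt'),
      mul_one]
  rw [h2]
  exact hzV

theorem isInducing_pbMap : IsInducing (pbMap f g) := by
  rw [isInducing_iff_nhds]
  intro z₀
  apply le_antisymm
  · exact (continuous_pbMap f g).continuousAt.tendsto.le_comap
  · rw [show 𝓝 z₀ = _ from TopologicalSpace.nhds_generateFrom]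
    refine le_iInf₂ ?_
    rintro s ⟨hz₀s, W, h, V, hV, rfl⟩
    rw [Filter.le_principal_iff]
    exact basicSet_mem_comap_nhds f g z₀ W h V hV hz₀s

theorem isHomeomorph_pullback :
    IsHomeomorph (fun z : Pts (Limits.pullback f g) =>
      (⟨(Pts.map (Limits.pullback.fst f g) z, Pts.map (Limits.pullback.snd f g) z),
        Pts.map_pullback_condition f g z⟩ :
        {q : Pts X × Pts Y // Pts.map f q.1 = Pts.map g q.2})) := by
  rw [isHomeomorph_iff_isEmbedding_surjective]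
  have hcont : Continuous (fun z : Pts (Limits.pullback f g) =>
      (⟨(Pts.map (Limits.pullback.fst f g) z, Pts.map (Limits.pullback.snd f g) z),
        Pts.map_pullback_condition f g z⟩ :
        {q : Pts X × Pts Y // Pts.map f q.1 = Pts.map g q.2})) :=
    (continuous_pbMap f g).subtype_mk _
  refine ⟨⟨IsInducing.of_comp hcont continuous_subtype_val (isInducing_pbMap f g), ?_⟩, ?_⟩
  · intro z z' hzz'
    have h1 := congrArg (fun q => q.1.1.1) hzz'
    have h2 := congrArg (fun q => q.1.2.1) hzz'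
    simp only [Pts.map_val] at h1 h2
    exact Subtype.ext (Limits.pullback.hom_ext h1 h2)
  · rintro ⟨⟨x, y⟩, hxy⟩
    have hxy' : x.1 ≫ f = y.1 ≫ g := congrArg Subtype.val hxy
    refine ⟨⟨Limits.pullback.lift x.1 y.1 hxy', ?_⟩, ?_⟩
    · change Limits.pullback.lift x.1 y.1 hxy' ≫ Limits.pullback.fst f g ≫ (X ↘ SC) = _
      rw [Limits.pullback.lift_fst_assoc]
      exact x.2
    · apply Subtype.ext
      apply Prod.ext
      · exact Subtype.ext (Limits.pullback.lift_fst _ _ _)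
      · exact Subtype.ext (Limits.pullback.lift_snd _ _ _)

end Pullback

end Groth.Agent.Lib.Helper10.AnPts
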