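
import Groth.Prelude.Def_AnEps
import Groth.Agent.Lib.Helper10.AnPtsPullback
import Groth.Agent.Lib.Helper10.AnPtsJacobson
set_option autoImplicit false
open AlgebraicGeometry CategoryTheory CategoryTheory.Limits TopologicalSpace Opposite Topology

namespace Groth.Agent.Lib.Helper10.AnEps
open An Groth.Agent.Lib.Helper10.AnPts

section IsPullback

variable {P X Y S : Scheme.{0}} [P.Over SC] [X.Over SC] [Y.Over SC] [S.Over SC]
  {p₁ : P ⟶ X} {p₂ : P ⟶ Y} {f : X ⟶ S} {g : Y ⟶ S}
  [p₁.IsOver SC] [p₂.IsOver SC] [f.IsOver SC] [g.IsOver SC]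

lemma isInducing_of_isPullback (H : IsPullback p₁ p₂ f g) :
    IsInducing (fun z : Pts P => (Pts.map p₁ z, Pts.map p₂ z)) := by
  have h1 : H.isoPullback.hom.IsOver SC := ⟨by
    change H.isoPullback.hom ≫ Limits.pullback.fst f g ≫ (X ↘ SC) = P ↘ SC
    rw [← Category.assoc, H.isoPullback_hom_fst, comp_over p₁ SC]⟩
  have h2 : H.isoPullback.inv.IsOver SC := ⟨by
    change H.isoPullback.inv ≫ (P ↘ SC) = Limits.pullback.fst f g ≫ (X ↘ SC)
    rw [← comp_over p₁ SC, ← Category.assoc, H.isoPullback_inv_fst]⟩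
  have hcomp : (fun z : Pts P => (Pts.map p₁ z, Pts.map p₂ z))
      = pbMap f g ∘ Pts.map H.isoPullback.hom := by
    funext z
    apply Prod.ext
    · apply Subtype.ext
      change z.1 ≫ p₁ = (z.1 ≫ H.isoPullback.hom) ≫ Limits.pullback.fst f g
      rw [Category.assoc, H.isoPullback_hom_fst]
    · apply Subtype.ext
      change z.1 ≫ p₂ = (z.1 ≫ H.isoPullback.hom) ≫ Limits.pullback.snd f g
      rw [Category.assoc, H.isoPullback_hom_snd]
  rw [hcomp]
  refine (isInducing_pbMap f g).comp ?_
  refine IsInducing.of_comp (Pts.continuous_map _) (Pts.continuous_map H.isoPullback.inv) ?_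
  have : Pts.map H.isoPullback.inv ∘ Pts.map H.isoPullback.hom = id := by
    funext z
    apply Subtype.ext
    change (z.1 ≫ H.isoPullback.hom) ≫ H.isoPullback.inv = z.1
    rw [Category.assoc, Iso.hom_inv_id, Category.comp_id]
  rw [this]
  exact IsInducing.id

omit [P.Over SC] [X.Over SC] [Y.Over SC] [S.Over SC] [p₁.IsOver SC] [p₂.IsOver SC] [f.IsOver SC]
  [g.IsOver SC] in
lemma hom_ext_of_isPullback (H : IsPullback p₁ p₂ f g) {T : Scheme.{0}} (a b : T ⟶ P)
    (h1 : a ≫ p₁ = b ≫ p₁) (h2 : a ≫ p₂ = b ≫ p₂) : a = b := H.hom_ext h1 h2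

omit [S.Over SC] [f.IsOver SC] [g.IsOver SC] in
lemma injective_of_isPullback (H : IsPullback p₁ p₂ f g) :
    Function.Injective (fun z : Pts P => (Pts.map p₁ z, Pts.map p₂ z)) := by
  intro z z' h
  have h1 : z.1 ≫ p₁ = z'.1 ≫ p₁ := congrArg (fun q => q.1.1) h
  have h2 : z.1 ≫ p₂ = z'.1 ≫ p₂ := congrArg (fun q => q.2.1) h
  exact Subtype.ext (H.hom_ext h1 h2)

lemma exists_of_isPullback (H : IsPullback p₁ p₂ f g) (x : Pts X) (y : Pts Y)
    (h : Pts.map f x = Pts.map g y) : ∃ z : Pts P, Pts.map p₁ z = x ∧ Pts.map p₂ z = y := by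
  have h' : x.1 ≫ f = y.1 ≫ g := congrArg Subtype.val h
  refine ⟨⟨H.lift x.1 y.1 h', ?_⟩, Subtype.ext (H.lift_fst _ _ _), Subtype.ext (H.lift_snd _ _ _)⟩
  rw [← comp_over p₁ SC, ← Category.assoc, H.lift_fst]
  exact x.2

end IsPullback

section ClLimit

variable {T : Type} [TopologicalSpace T]

/-- A commutative square in the classical site whose apex is, topologically, the fibre product
is a pullback square. -/
noncomputable def Cl.isLimitPullbackCone {A B₁ B₂ C : Cl T} (a₁ : A ⟶ B₁) (a₂ : A ⟶ B₂)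
    (b₁ : B₁ ⟶ C) (b₂ : B₂ ⟶ C) (w : a₁ ≫ b₁ = a₂ ≫ b₂)
    (hind : IsInducing (fun x : A.E => (a₁.toFun x, a₂.toFun x)))
    (hinj : Function.Injective (fun x : A.E => (a₁.toFun x, a₂.toFun x)))
    (hsurj : ∀ y₁ y₂, b₁.toFun y₁ = b₂.toFun y₂ → ∃ x, a₁.toFun x = y₁ ∧ a₂.toFun x = y₂) :
    IsLimit (PullbackCone.mk a₁ a₂ w) := by
  have hcond : ∀ (s : PullbackCone b₁ b₂) (d : s.pt.E),
      b₁.toFun (s.fst.toFun d) = b₂.toFun (s.snd.toFun d) := fun s d =>
    congrFun (congrArg Cl.Hom.toFun s.condition) d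
  refine PullbackCone.IsLimit.mk w
    (fun s => ⟨fun d => (hsurj _ _ (hcond s d)).choose, ?_, ?_⟩) ?_ ?_ ?_
  · rw [hind.continuous_iff]
    have : (fun x : A.E => (a₁.toFun x, a₂.toFun x)) ∘ (fun d => (hsurj _ _ (hcond s d)).choose)
        = fun d => (s.fst.toFun d, s.snd.toFun d) := by
      funext d
      exact Prod.ext (hsurj _ _ (hcond s d)).choose_spec.1 (hsurj _ _ (hcond s d)).choose_spec.2
    rw [this]
    exact s.fst.continuous.prodMk s.snd.continuous
  · intro d
    rw [← a₁.over, (hsurj _ _ (hcond s d)).choose_spec.1, s.fst.over]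
  · intro s
    apply Cl.hom_ext
    funext d
    exact (hsurj _ _ (hcond s d)).choose_spec.1
  · intro s
    apply Cl.hom_ext
    funext d
    exact (hsurj _ _ (hcond s d)).choose_spec.2
  · intro s m h1 h2
    apply Cl.hom_ext
    funext d
    apply hinj
    apply Prod.ext
    · change a₁.toFun (m.toFun d) = a₁.toFun _
      rw [(hsurj _ _ (hcond s d)).choose_spec.1]
      exact congrFun (congrArg Cl.Hom.toFun h1) d
    · change a₂.toFun (m.toFun d) = a₂.toFun _
      rw [(hsurj _ _ (hcond s d)).choose_spec.2]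
      exact congrFun (congrArg Cl.Hom.toFun h2) d

end ClLimit


section Eps

variable (X : Scheme.{0}) [X.Over SC] [LocallyOfFiniteType (X ↘ SC)] [Fact EtaleLH]

instance lft_etale_left (U : X.Etale) : LocallyOfFiniteType (U.left ↘ SC) := by
  change LocallyOfFiniteType ((U.left ↘ X) ≫ (X ↘ SC))
  infer_instance

omit [X.Over SC] [LocallyOfFiniteType (X ↘ SC)] [Fact EtaleLH] in
set_option backward.isDefEq.respectTransparency.types false in
lemma isPullback_left {U V W : X.Etale} (f : U ⟶ W) (g : V ⟶ W) :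
    IsPullback (pullback.fst f g).left (pullback.snd f g).left f.left g.left :=
  (IsPullback.of_hasPullback f g).map (Scheme.Etale.forget X ⋙ Over.forget X)

noncomputable def isLimitEpsPullback {U V W : X.Etale} (f : U ⟶ W) (g : V ⟶ W) :
    IsLimit (PullbackCone.mk ((eps X).map (pullback.fst f g)) ((eps X).map (pullback.snd f g))
      (by rw [← Functor.map_comp, ← Functor.map_comp, pullback.condition])) :=
  Cl.isLimitPullbackCone _ _ _ _ _
    (isInducing_of_isPullback (isPullback_left X f g))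
    (injective_of_isPullback (isPullback_left X f g))
    (fun y₁ y₂ h => exists_of_isPullback (isPullback_left X f g) y₁ y₂ h)

instance eps_preservesPullback {U V W : X.Etale} (f : U ⟶ W) (g : V ⟶ W) :
    PreservesLimit (cospan f g) (eps X) :=
  preservesLimit_of_preserves_limit_cone (pullbackIsPullback f g)
    ((isLimitMapConePullbackConeEquiv (eps X) pullback.condition).symm (isLimitEpsPullback X f g))

instance eps_preservesPullbacks : PreservesLimitsOfShape WalkingCospan (eps X) :=
  ⟨fun {K} => preservesLimit_of_iso_diagram (eps X) (diagramIsoCospan K).symm⟩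

set_option backward.isDefEq.respectTransparency.types false in
instance eps_preservesTerminal : PreservesLimit (Functor.empty.{0} X.Etale) (eps X) :=
  preservesLimit_of_preserves_limit_cone (MorphismProperty.Over.mkIdTerminal EtCoh.etaleMP.{0} X)
    ((isLimitMapConeEmptyConeEquiv _ _).symm
      (IsTerminal.ofIso (Cl.selfIsTerminal _) (epsTopIso X).symm))

instance eps_preservesFiniteLimits : PreservesFiniteLimits (eps X) :=
  have := preservesLimitsOfShape_pempty_of_preservesTerminal (eps X)
  preservesFiniteLimits_of_preservesTerminal_and_pullbacks (eps X)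

instance eps_representablyFlat : RepresentablyFlat (eps X) :=
  flat_of_preservesFiniteLimits _

set_option backward.isDefEq.respectTransparency.types false in
theorem coverPreserving_eps :
    CoverPreserving X.smallEtaleTopology (Cl.topology (Pts X)) (eps X) := by
  constructor
  intro U S hS
  have eX : X.smallEtaleTopology =
      (X.smallPretopology (P := EtCoh.etaleMP) (Q := EtCoh.etaleMP)).toGrothendieck :=
    Scheme.smallGrothendieckTopology_eq_toGrothendieck_smallPretopology X le_rfl
  rw [eX] at hS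
  replace hS := (Scheme.mem_toGrothendieck_smallPretopology U S).1 hS
  intro a
  obtain ⟨V, g, v, hg, -, hv⟩ := hS (Pts.pt (X := U.left) a)
  obtain ⟨b, hb⟩ := exists_map_eq_of_pt_mem_range (X := V.left) (Y := U.left) g.left a ⟨v, hv⟩
  have hlh : IsLocalHomeomorph (Pts.map (X := V.left) (Y := U.left) g.left) :=
    (Fact.out : EtaleLH) V.left U.left g.left
  obtain ⟨e, hbe, he⟩ := hlh b
  refine ⟨Cl.restrictOpen ((eps X).obj V) e.source e.open_source,
     Cl.restrictOpenι _ _ _ ≫ (eps X).map g, ?_, ?_, ?_⟩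
  · exact ⟨V, g, Cl.restrictOpenι _ _ _, hg, rfl⟩
  · change IsOpenEmbedding ((Pts.map (X := V.left) (Y := U.left) g.left) ∘ Subtype.val)
    rw [he]
    exact e.isOpenEmbedding_restrict
  · exact ⟨⟨b, hbe⟩, hb⟩

theorem epsCont : EpsCont X :=
  Functor.isContinuous_of_coverPreserving (compatiblePreservingOfFlat _ _) (coverPreserving_eps X)

end Eps

end Groth.Agent.Lib.Helper10.AnEps
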