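import Mathlib.AlgebraicGeometry.AffineScheme
import Groth.Prelude.Def_AnPts
import Groth.Agent.Lib.Helper21.AnPts
set_option autoImplicit false
open AlgebraicGeometry CategoryTheory TopologicalSpace Opposite Topology

namespace Groth.Agent.Lib.Helper10.AnPtsSpec
open An Groth.Agent.Lib.Helper21.AnPts

variable {B : CommRingCat.{0}} [(Spec B).Over SC]

/-- The structure homomorphism `ℂ → B` of an affine scheme `Spec B` over `Spec ℂ`. -/
noncomputable def strS (B : CommRingCat.{0}) [(Spec B).Over SC] : ℂ →+* B :=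
  (Spec.preimage ((Spec B) ↘ SC)).hom

/-- Evaluation of elements of `B` at a `ℂ`-point of `Spec B`. -/
noncomputable def evS (x : Pts (Spec B)) : B →+* ℂ := (Spec.preimage x.1).hom

lemma val_eq (x : Pts (Spec B)) : x.1 = Spec.map (CommRingCat.ofHom (evS x)) := by
  unfold evS
  rw [CommRingCat.ofHom_hom, Spec.map_preimage]

lemma ext_evS (x y : Pts (Spec B)) (h : evS x = evS y) : x = y := by
  apply Subtype.ext
  rw [val_eq x, val_eq y, h]

lemma evS_strS (x : Pts (Spec B)) (c : ℂ) : evS x (strS B c) = c := by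
  have h := x.2
  have h2 : Spec.map (Spec.preimage ((Spec B) ↘ SC) ≫ Spec.preimage x.1) = Spec.map (𝟙 _) := by
    rw [Spec.map_comp, Spec.map_preimage, Spec.map_preimage, h, Spec.map_id]
  have h3 := Spec.map_injective h2
  exact congrArg (fun ψ => ψ.hom c) h3

/-- The `ℂ`-point of `Spec B` attached to a ring hom `B → ℂ` that is the identity on `ℂ`. -/
noncomputable def ofHomS (ψ : B →+* ℂ) (hψ : ∀ c, ψ (strS B c) = c) : Pts (Spec B) :=
  ⟨Spec.map (CommRingCat.ofHom ψ), by
    have : (Spec B) ↘ SC = Spec.map (Spec.preimage ((Spec B) ↘ SC)) := (Spec.map_preimage _).symm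
    rw [this, ← Spec.map_comp, ← Spec.map_id]
    congr 1
    ext c
    exact hψ c⟩

@[simp] lemma evS_ofHomS (ψ : B →+* ℂ) (hψ : ∀ c, ψ (strS B c) = c) : evS (ofHomS ψ hψ) = ψ := by
  unfold evS ofHomS
  rw [Spec.preimage_map]
  rfl

lemma evTop_eq_evS (x : Pts (Spec B)) (f : Γ(Spec B, ⊤)) :
    x.evTop f = evS x ((Scheme.ΓSpecIso B).hom f) := by
  rw [evTop_eq]
  have h := Scheme.ΓSpecIso_naturality (CommRingCat.ofHom (evS x))
  rw [← val_eq] at h
  exact congrArg (fun ψ => ψ.hom f) h

lemma evS_eq_evTop (x : Pts (Spec B)) (b : B) :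
    evS x b = x.evTop ((Scheme.ΓSpecIso B).inv b) := by
  rw [evTop_eq_evS]
  congr 1
  exact (congrArg (fun ψ => ψ.hom b) (Scheme.ΓSpecIso B).inv_hom_id).symm

lemma continuous_evS (b : B) : Continuous (fun x : Pts (Spec B) => evS x b) := by
  simp_rw [evS_eq_evTop]
  exact continuous_evTop _

/-- The topology on `(Spec B)(ℂ)` is induced by the evaluations at elements of `B`. -/
lemma isInducing_evS : IsInducing (fun (x : Pts (Spec B)) (b : B) => evS x b) := by
  have hcont : Continuous (fun (x : Pts (Spec B)) (b : B) => evS x b) :=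
    continuous_pi continuous_evS
  have hR : Continuous (fun (F : B → ℂ) (f : Γ(Spec B, ⊤)) => F ((Scheme.ΓSpecIso B).hom f)) :=
    continuous_pi fun f => continuous_apply _
  refine IsInducing.of_comp hcont hR ?_
  have : ((fun (F : B → ℂ) (f : Γ(Spec B, ⊤)) => F ((Scheme.ΓSpecIso B).hom f)) ∘
      fun (x : Pts (Spec B)) (b : B) => evS x b) = evTopMap (Spec B) := by
    funext x f
    exact (evTop_eq_evS x f).symm
  rw [this]
  exact isInducing_evTopMap

variable {A : CommRingCat.{0}} [(Spec A).Over SC]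

lemma evS_map (φ : A ⟶ B) [(Spec.map φ).IsOver SC] (x : Pts (Spec B)) :
    evS (Pts.map (Spec.map φ) x) = (evS x).comp φ.hom := by
  unfold evS
  change (Spec.preimage (x.1 ≫ Spec.map φ)).hom = _
  have : x.1 ≫ Spec.map φ = Spec.map (φ ≫ Spec.preimage x.1) := by
    rw [Spec.map_comp, Spec.map_preimage]
  rw [this, Spec.preimage_map]
  rfl

end Groth.Agent.Lib.Helper10.AnPtsSpec
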