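import Mathlib.Analysis.Calculus.ImplicitFunction.ProdDomain
import Mathlib.Analysis.Calculus.Deriv.Polynomial
import Mathlib.Analysis.Calculus.ContDiff.RCLike
import Mathlib.Analysis.Complex.Basic
import Mathlib.Topology.IsLocalHomeomorph
import Mathlib.Analysis.Calculus.ContDiff.Operations
set_option autoImplicit false
open Polynomial Topology Filter

namespace Groth.Agent.Lib.Helper10.SimpleRoot

/-- The universal monic polynomial of degree `d`, evaluated: `F(a,t) = t^d + Σ_{i<d} a_i t^i`. -/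
noncomputable def monicEval (d : ℕ) (v : (Fin d → ℂ) × ℂ) : ℂ :=
  v.2 ^ d + ∑ i : Fin d, v.1 i * v.2 ^ (i : ℕ)

/-- The universal monic polynomial of degree `d` with lower coefficients `a`. -/
noncomputable def monicPoly (d : ℕ) (a : Fin d → ℂ) : ℂ[X] :=
  X ^ d + ∑ i : Fin d, C (a i) * X ^ (i : ℕ)

lemma eval_monicPoly (d : ℕ) (a : Fin d → ℂ) (t : ℂ) :
    (monicPoly d a).eval t = monicEval d (a, t) := by
  simp [monicPoly, monicEval, eval_finsetSum]

lemma contDiff_monicEval (d : ℕ) : ContDiff ℂ 1 (monicEval d) := by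
  unfold monicEval
  fun_prop

lemma continuous_monicEval (d : ℕ) : Continuous (monicEval d) :=
  (contDiff_monicEval d).continuous

/-- The partial derivative of `monicEval` in the last variable is the derivative of the
polynomial. -/
lemma fderiv_monicEval_inr (d : ℕ) (a : Fin d → ℂ) (t : ℂ) :
    fderiv ℂ (monicEval d) (a, t) (0, 1) = (monicPoly d a).derivative.eval t := by
  have h1 : HasFDerivAt (monicEval d) (fderiv ℂ (monicEval d) (a, t)) (a, t) :=
    ((contDiff_monicEval d).differentiable one_ne_zero (a, t)).hasFDerivAt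
  have h2 : HasDerivAt (fun s : ℂ => (a, s)) ((0 : Fin d → ℂ), (1 : ℂ)) t :=
    (hasDerivAt_const t a).prodMk (hasDerivAt_id t)
  have h3 := h1.comp_hasDerivAt t h2
  have h4 : HasDerivAt (fun s : ℂ => (monicPoly d a).eval s) ((monicPoly d a).derivative.eval t) t :=
    (monicPoly d a).hasDerivAt t
  have h5 : (monicEval d ∘ fun s : ℂ => (a, s)) = fun s : ℂ => (monicPoly d a).eval s := by
    funext s
    exact (eval_monicPoly d a s).symm
  rw [h5] at h3
  exact h3.unique h4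

/-- **Continuity of simple roots.** Near a simple root `t₀` of the monic polynomial with
coefficients `a₀`, the roots of nearby monic polynomials are given by a continuous function of
the coefficients. -/
theorem exists_local_root (d : ℕ) (a₀ : Fin d → ℂ) (t₀ : ℂ) (h0 : monicEval d (a₀, t₀) = 0)
    (h1 : (monicPoly d a₀).derivative.eval t₀ ≠ 0) :
    ∃ (O : Set (Fin d → ℂ)) (D : Set ℂ) (ψ : (Fin d → ℂ) → ℂ), IsOpen O ∧ IsOpen D ∧ a₀ ∈ O ∧
      t₀ ∈ D ∧ ContinuousOn ψ O ∧ Set.MapsTo ψ O D ∧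
      ∀ a ∈ O, ∀ t ∈ D, monicEval d (a, t) = 0 ↔ ψ a = t := by
  set f' := fderiv ℂ (monicEval d) (a₀, t₀) with hf'
  have dfu : HasStrictFDerivAt (monicEval d) f' (a₀, t₀) :=
    (contDiff_monicEval d).contDiffAt.hasStrictFDerivAt one_ne_zero
  have hc : f' (0, 1) ≠ 0 := by rw [hf', fderiv_monicEval_inr]; exact h1
  have hinv : (f' ∘L ContinuousLinearMap.inr ℂ (Fin d → ℂ) ℂ).IsInvertible := by
    refine ⟨ContinuousLinearEquiv.unitsEquivAut ℂ (Units.mk0 _ hc), ?_⟩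
    ext
    simp
  set ψ := dfu.implicitFunctionOfProdDomain hinv with hψ
  have hev := dfu.eventually_apply_eq_iff_implicitFunctionOfProdDomain hinv
  rw [h0] at hev
  have hψ0 : ψ a₀ = t₀ := (hev.self_of_nhds).mp h0
  have hstrict := dfu.hasStrictFDerivAt_implicitFunctionOfProdDomain hinv
  obtain ⟨K, s, hs, hlip⟩ := hstrict.exists_lipschitzOnWith
  rw [nhds_prod_eq] at hev
  obtain ⟨O₁, hO₁, D₁, hD₁, hOD⟩ := Filter.eventually_prod_iff.mp hev
  obtain ⟨O₂, hO₂sub, hO₂open, ha₀O₂⟩ := mem_nhds_iff.mp hO₁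
  obtain ⟨D, hDsub, hDopen, ht₀D⟩ := mem_nhds_iff.mp hD₁
  have hcont : ContinuousOn ψ (O₂ ∩ interior s) :=
    hlip.continuousOn.mono (Set.inter_subset_right.trans interior_subset)
  have hopen : IsOpen (O₂ ∩ interior s) := hO₂open.inter isOpen_interior
  refine ⟨(O₂ ∩ interior s) ∩ ψ ⁻¹' D, D, ψ, hcont.isOpen_inter_preimage hopen hDopen, hDopen,
    ⟨⟨ha₀O₂, mem_interior_iff_mem_nhds.mpr hs⟩, by rw [Set.mem_preimage, hψ0]; exact ht₀D⟩, ht₀D,
    hcont.mono Set.inter_subset_left, fun a ha => ha.2, ?_⟩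
  intro a ha t ht
  exact hOD (hO₂sub ha.1.1) (hDsub ht)

/-- The family of simple roots of a continuously varying monic polynomial is a local
homeomorphism over the parameter space. -/
theorem isLocalHomeomorph_rootFamily {T : Type*} [TopologicalSpace T] (d : ℕ) (c : T → Fin d → ℂ)
    (hc : Continuous c) (G : Set (T × ℂ)) (hG : IsOpen G)
    (hder : ∀ p ∈ G, monicEval d (c p.1, p.2) = 0 →
      (monicPoly d (c p.1)).derivative.eval p.2 ≠ 0) :
    IsLocalHomeomorph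
      (fun p : {p : T × ℂ // p ∈ G ∧ monicEval d (c p.1, p.2) = 0} => p.1.1) := by
  rw [isLocalHomeomorph_iff_isOpenEmbedding_restrict]
  rintro ⟨⟨τ₀, t₀⟩, hG₀, hF₀⟩
  obtain ⟨O, D, ψ, hO, hD, ha₀, ht₀, hψc, hψm, hiff⟩ :=
    exists_local_root d (c τ₀) t₀ hF₀ (hder _ hG₀ hF₀)
  set N : Set {p : T × ℂ // p ∈ G ∧ monicEval d (c p.1, p.2) = 0} :=
    {z | c z.1.1 ∈ O ∧ z.1.2 ∈ D} with hNdef
  have hN : IsOpen N :=
    (hO.preimage (hc.comp (continuous_fst.comp continuous_subtype_val))).inter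
      (hD.preimage (continuous_snd.comp continuous_subtype_val))
  refine ⟨N, hN.mem_nhds ⟨ha₀, ht₀⟩, ?_⟩
  set σ : T → T × ℂ := fun τ => (τ, ψ (c τ)) with hσdef
  have hσ : ContinuousOn σ (c ⁻¹' O) :=
    continuousOn_id.prodMk (hψc.comp hc.continuousOn (fun _ h => h))
  rw [isOpenEmbedding_iff_continuous_injective_isOpenMap]
  refine ⟨continuous_fst.comp (continuous_subtype_val.comp continuous_subtype_val), ?_, ?_⟩
  · rintro ⟨⟨⟨τ, t⟩, hz⟩, hzN⟩ ⟨⟨⟨τ', t'⟩, hz'⟩, hzN'⟩ h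
    have h' : τ = τ' := h
    subst h'
    have e1 := (hiff _ hzN.1 _ hzN.2).mp hz.2
    have e2 := (hiff _ hzN'.1 _ hzN'.2).mp hz'.2
    have : t = t' := e1.symm.trans e2
    subst this
    rfl
  · intro Ω hΩ
    obtain ⟨Ω', hΩ', rfl⟩ := isOpen_induced_iff.mp hΩ
    obtain ⟨Ω'', hΩ'', rfl⟩ := isOpen_induced_iff.mp hΩ'
    have himg : (N.domRestrict fun p : {p : T × ℂ // p ∈ G ∧ monicEval d (c p.1, p.2) = 0} => p.1.1) ''
        (Subtype.val ⁻¹' (Subtype.val ⁻¹' Ω'')) = c ⁻¹' O ∩ σ ⁻¹' (G ∩ Ω'') := by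
      ext τ
      constructor
      · rintro ⟨⟨⟨⟨τ', t⟩, hz⟩, hzN⟩, hzΩ, rfl⟩
        have e1 : ψ (c τ') = t := (hiff _ hzN.1 _ hzN.2).mp hz.2
        refine ⟨hzN.1, ?_⟩
        change (τ', ψ (c τ')) ∈ G ∩ Ω''
        rw [e1]
        exact ⟨hz.1, hzΩ⟩
      · rintro ⟨hτO, hτG, hτΩ⟩
        have hD' : ψ (c τ) ∈ D := hψm hτO
        have hF : monicEval d (c τ, ψ (c τ)) = 0 := (hiff _ hτO _ hD').mpr rfl
        exact ⟨⟨⟨(τ, ψ (c τ)), hτG, hF⟩, hτO, hD'⟩, hτΩ, rfl⟩
    rw [himg]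
    exact hσ.isOpen_inter_preimage (hO.preimage hc) (hG.inter hΩ'')

end Groth.Agent.Lib.Helper10.SimpleRoot
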