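import Mathlib.RingTheory.Etale.StandardEtale
set_option autoImplicit false
open Polynomial

namespace Groth.Agent.Lib.Helper10.StdEtaleHom

variable {A B : Type*} [CommRing A] [CommRing B] [Algebra A B]
  (Q : StandardEtalePresentation A B) {K : Type*} [Field K]

/-- A ring hom `χ : B → K` as an `A`-algebra hom, for the `A`-algebra structure on `K` induced by
`χ ∘ algebraMap`. -/
def toAlgHom (χ : B →+* K) :
    letI := (χ.comp (algebraMap A B)).toAlgebra
    B →ₐ[A] K :=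
  let _ := (χ.comp (algebraMap A B)).toAlgebra
  { χ with commutes' := fun _ => rfl }

lemma aeval_eq (φ : A →+* K) (t : K) (p : A[X]) :
    letI := φ.toAlgebra
    aeval t p = (p.map φ).eval t := by
  let _ := φ.toAlgebra
  rw [aeval_def, eval_map]
  rfl

lemma hasMap_iff (φ : A →+* K) (t : K) :
    letI := φ.toAlgebra
    Q.HasMap t ↔ (Q.f.map φ).eval t = 0 ∧ (Q.g.map φ).eval t ≠ 0 := by
  let _ := φ.toAlgebra
  unfold StandardEtalePair.HasMap
  rw [aeval_eq, aeval_eq, isUnit_iff_ne_zero]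

lemma eval_apply_x (χ : B →+* K) :
    (Q.f.map (χ.comp (algebraMap A B))).eval (χ Q.x) = 0 ∧
      (Q.g.map (χ.comp (algebraMap A B))).eval (χ Q.x) ≠ 0 := by
  let _ := (χ.comp (algebraMap A B)).toAlgebra
  rw [← hasMap_iff]
  exact Q.hasMap.map (toAlgHom χ)

lemma eval_derivative_ne (φ : A →+* K) (t : K) (hf : (Q.f.map φ).eval t = 0)
    (hg : (Q.g.map φ).eval t ≠ 0) : (Q.f.map φ).derivative.eval t ≠ 0 := by
  let _ := φ.toAlgebra
  have h : Q.HasMap t := (hasMap_iff Q φ t).mpr ⟨hf, hg⟩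
  have := h.isUnit_derivative_f
  rw [aeval_eq, isUnit_iff_ne_zero] at this
  rwa [derivative_map]

lemma exists_hom (φ : A →+* K) (t : K) (hf : (Q.f.map φ).eval t = 0)
    (hg : (Q.g.map φ).eval t ≠ 0) :
    ∃ χ : B →+* K, χ.comp (algebraMap A B) = φ ∧ χ Q.x = t := by
  let _ := φ.toAlgebra
  have h : Q.HasMap t := (hasMap_iff Q φ t).mpr ⟨hf, hg⟩
  refine ⟨((Q.P.lift t h).comp Q.equivRing.toAlgHom).toRingHom, ?_, ?_⟩
  · ext a
    exact ((Q.P.lift t h).comp Q.equivRing.toAlgHom).commutes a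
  · change (Q.P.lift t h) (Q.equivRing Q.x) = t
    rw [Q.equivRing_x, StandardEtalePair.lift_X]

lemma hom_ext (χ χ' : B →+* K) (h1 : χ.comp (algebraMap A B) = χ'.comp (algebraMap A B))
    (h2 : χ Q.x = χ' Q.x) : χ = χ' := by
  let _ := (χ.comp (algebraMap A B)).toAlgebra
  let ψ : B →ₐ[A] K := toAlgHom χ
  let ψ' : B →ₐ[A] K := { χ' with commutes' := fun a => (congrArg (fun f => f a) h1).symm }
  have : ψ = ψ' := Q.hom_ext h2
  ext b
  exact congrArg (fun f : B →ₐ[A] K => f b) this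

lemma exists_repr (b : B) : ∃ (p : A[X]) (n : ℕ), ∀ χ : B →+* K,
    χ b * ((Q.g.map (χ.comp (algebraMap A B))).eval (χ Q.x)) ^ n =
      (p.map (χ.comp (algebraMap A B))).eval (χ Q.x) := by
  obtain ⟨p, n, h⟩ := Q.exists_mul_aeval_x_g_pow_eq_aeval_x b
  refine ⟨p, n, fun χ => ?_⟩
  let _ := (χ.comp (algebraMap A B)).toAlgebra
  have := congrArg (toAlgHom (A := A) χ) h
  rw [map_mul, map_pow, ← aeval_algHom_apply, ← aeval_algHom_apply, aeval_eq, aeval_eq] at this
  exact this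

end Groth.Agent.Lib.Helper10.StdEtaleHom
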