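import Mathlib.Topology.Algebra.Field
import Groth.Agent.Lib.Helper10.AnPtsSpec
import Groth.Agent.Lib.Helper10.StdEtaleHom
import Groth.Agent.Lib.Helper10.SimpleRoot
set_option autoImplicit false
open AlgebraicGeometry CategoryTheory TopologicalSpace Opposite Topology Polynomial

namespace Groth.Agent.Lib.Helper10.AnPtsSpec
open An Groth.Agent.Lib.Helper21.AnPts Groth.Agent.Lib.Helper10.SimpleRoot

section polyEv

variable {A : CommRingCat.{0}} [(Spec A).Over SC]

/-- Evaluation of a polynomial with coefficients in `A` at a pair (point of `Spec A`, number). -/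
noncomputable def polyEv (q : (A : Type)[X]) (w : Pts (Spec A) × ℂ) : ℂ :=
  (q.map (evS w.1)).eval w.2

lemma polyEv_eq_sum (q : (A : Type)[X]) (w : Pts (Spec A) × ℂ) :
    polyEv q w = ∑ i ∈ Finset.range (q.natDegree + 1), evS w.1 (q.coeff i) * w.2 ^ i := by
  unfold polyEv
  rw [Polynomial.eval_map, eval₂_eq_sum_range]

lemma continuous_polyEv (q : (A : Type)[X]) : Continuous (polyEv q) := by
  have : polyEv q = fun w : Pts (Spec A) × ℂ =>
      ∑ i ∈ Finset.range (q.natDegree + 1), evS w.1 (q.coeff i) * w.2 ^ i := by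
    funext w
    exact polyEv_eq_sum q w
  rw [this]
  refine continuous_finsetSum _ fun i _ => ?_
  exact ((continuous_evS _).comp continuous_fst).mul (continuous_snd.pow i)

/-- The coefficient map of a polynomial of degree `d`. -/
noncomputable def coeffMap (q : (A : Type)[X]) (d : ℕ) (y : Pts (Spec A)) : Fin d → ℂ :=
  fun i => evS y (q.coeff i)

lemma continuous_coeffMap (q : (A : Type)[X]) (d : ℕ) : Continuous (coeffMap q d) :=
  continuous_pi fun _ => continuous_evS _

lemma map_eq_monicPoly (q : (A : Type)[X]) (hq : q.Monic) (y : Pts (Spec A)) :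
    q.map (evS y) = monicPoly q.natDegree (coeffMap q q.natDegree y) := by
  conv_lhs => rw [hq.as_sum]
  unfold monicPoly coeffMap
  rw [Polynomial.map_add, Polynomial.map_pow, Polynomial.map_X, Polynomial.map_sum,
    Finset.sum_range]
  congr 1
  refine Finset.sum_congr rfl fun i _ => ?_
  rw [Polynomial.map_mul, Polynomial.map_C, Polynomial.map_pow, Polynomial.map_X]

lemma polyEv_eq_monicEval (q : (A : Type)[X]) (hq : q.Monic) (w : Pts (Spec A) × ℂ) :
    polyEv q w = monicEval q.natDegree (coeffMap q q.natDegree w.1, w.2) := by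
  unfold polyEv
  rw [map_eq_monicPoly q hq, eval_monicPoly]

end polyEv

section Main

variable {A B : CommRingCat.{0}} [(Spec A).Over SC] [(Spec B).Over SC] (φ : A ⟶ B)
  [(Spec.map φ).IsOver SC]

lemma strS_comp : φ.hom.comp (strS A) = strS B := by
  unfold strS
  have h := comp_over (Spec.map φ) SC
  have h2 : Spec.map (Spec.preimage ((Spec A) ↘ SC) ≫ φ) = Spec.map (Spec.preimage ((Spec B) ↘ SC)) := by
    rw [Spec.map_comp, Spec.map_preimage, Spec.map_preimage, h]
  have h3 := Spec.map_injective h2
  rw [← h3]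
  rfl

/-- The map `(Spec B)(ℂ) → (Spec A)(ℂ) × ℂ` given by a morphism and an element of `B`. -/
noncomputable def pairMap (b : B) (x : Pts (Spec B)) : Pts (Spec A) × ℂ :=
  (Pts.map (Spec.map φ) x, evS x b)

lemma continuous_pairMap (b : B) : Continuous (pairMap φ b) :=
  (Pts.continuous_map _).prodMk (continuous_evS b)

lemma polyEv_pairMap (q : (A : Type)[X]) (b : B) (x : Pts (Spec B)) :
    polyEv q (pairMap φ b x) = (q.map ((evS x).comp φ.hom)).eval (evS x b) := by
  unfold polyEv pairMap
  rw [evS_map]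

end Main

section Main2

variable {A B : CommRingCat.{0}} [(Spec A).Over SC] [(Spec B).Over SC] (φ : A ⟶ B)
  [(Spec.map φ).IsOver SC]

open Groth.Agent.Lib.Helper10 in
theorem isInducing_pairMap (Q : letI := φ.hom.toAlgebra; StandardEtalePresentation A B) :
    letI := φ.hom.toAlgebra
    IsInducing (pairMap φ Q.x) := by
  let _ := φ.hom.toAlgebra
  rw [isInducing_iff_nhds]
  intro x
  apply le_antisymm
  · exact ((continuous_pairMap φ Q.x).tendsto x).le_comap
  · rw [isInducing_evS.nhds_eq_comap, nhds_pi, Filter.pi, Filter.comap_iInf]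
    refine le_iInf fun b => ?_
    rw [Filter.comap_comap, ← Filter.tendsto_iff_comap]
    obtain ⟨p, n, hpn⟩ := StdEtaleHom.exists_repr (K := ℂ) Q b
    have hg : ∀ x' : Pts (Spec B), polyEv Q.g (pairMap φ Q.x x') ≠ 0 := by
      intro x'
      rw [polyEv_pairMap]
      exact (StdEtaleHom.eval_apply_x Q (evS x')).2
    have hfun : (Function.eval b ∘ fun (x : Pts (Spec B)) (b : B) => evS x b) =
        (fun w => polyEv p w / polyEv Q.g w ^ n) ∘ pairMap φ Q.x := by
      funext x'
      change evS x' b = polyEv p (pairMap φ Q.x x') / polyEv Q.g (pairMap φ Q.x x') ^ n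
      rw [eq_div_iff (pow_ne_zero _ (hg x')), polyEv_pairMap, polyEv_pairMap]
      exact hpn (evS x')
    rw [hfun]
    have hcont : ContinuousAt (fun w => polyEv p w / polyEv Q.g w ^ n) (pairMap φ Q.x x) :=
      (continuous_polyEv p).continuousAt.div ((continuous_polyEv Q.g).continuousAt.pow n)
        (pow_ne_zero _ (hg x))
    have := hcont.tendsto.comp (Filter.tendsto_comap (f := pairMap φ Q.x)
      (x := 𝓝 (pairMap φ Q.x x)))
    convert this using 2
    exact congrFun hfun x

end Main2

section Main3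

variable {A B : CommRingCat.{0}} [(Spec A).Over SC] [(Spec B).Over SC] (φ : A ⟶ B)
  [(Spec.map φ).IsOver SC]

open Groth.Agent.Lib.Helper10 in
/-- A standard étale morphism of affine schemes over `ℂ` induces a local homeomorphism on
`ℂ`-points. -/
theorem isLocalHomeomorph_map_Spec (Q : letI := φ.hom.toAlgebra; StandardEtalePresentation A B) :
    IsLocalHomeomorph (Pts.map (Spec.map φ)) := by
  let _ := φ.hom.toAlgebra
  set d := Q.f.natDegree with hd
  set c := coeffMap Q.f d with hc
  set G : Set (Pts (Spec A) × ℂ) := {w | polyEv Q.g w ≠ 0} with hGdef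
  have hG : IsOpen G := isOpen_ne_fun (continuous_polyEv _) continuous_const
  have hder : ∀ p ∈ G, monicEval d (c p.1, p.2) = 0 →
      (monicPoly d (c p.1)).derivative.eval p.2 ≠ 0 := by
    intro p hp h0
    rw [← polyEv_eq_monicEval Q.f Q.monic_f] at h0
    rw [← map_eq_monicPoly Q.f Q.monic_f]
    exact StdEtaleHom.eval_derivative_ne Q (evS p.1) p.2 h0 hp
  have hLH := isLocalHomeomorph_rootFamily d c (continuous_coeffMap _ _) G hG hder
  have hmem : ∀ x : Pts (Spec B), pairMap φ Q.x x ∈ G ∧
      monicEval d (c (pairMap φ Q.x x).1, (pairMap φ Q.x x).2) = 0 := by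
    intro x
    have h := StdEtaleHom.eval_apply_x Q (evS x)
    constructor
    · change polyEv Q.g (pairMap φ Q.x x) ≠ 0
      rw [polyEv_pairMap]
      exact h.2
    · rw [← polyEv_eq_monicEval Q.f Q.monic_f, polyEv_pairMap]
      exact h.1
  let Ψ : Pts (Spec B) → {p : Pts (Spec A) × ℂ // p ∈ G ∧ monicEval d (c p.1, p.2) = 0} :=
    fun x => ⟨pairMap φ Q.x x, hmem x⟩
  have hΨcont : Continuous Ψ := (continuous_pairMap φ Q.x).subtype_mk _
  have hΨ : IsHomeomorph Ψ := by
    rw [isHomeomorph_iff_isEmbedding_surjective]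
    refine ⟨⟨IsInducing.of_comp hΨcont continuous_subtype_val (isInducing_pairMap φ Q), ?_⟩, ?_⟩
    · intro x x' h
      have h' : pairMap φ Q.x x = pairMap φ Q.x x' := congrArg Subtype.val h
      have h1 : evS (Pts.map (Spec.map φ) x) = evS (Pts.map (Spec.map φ) x') :=
        congrArg (fun w => evS w.1) h'
      have h2 : evS x Q.x = evS x' Q.x := congrArg Prod.snd h'
      rw [evS_map, evS_map] at h1
      exact ext_evS _ _ (StdEtaleHom.hom_ext Q _ _ h1 h2)
    · rintro ⟨⟨y, t⟩, hyG, hy0⟩
      rw [← polyEv_eq_monicEval Q.f Q.monic_f] at hy0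
      obtain ⟨χ, hχ1, hχ2⟩ := StdEtaleHom.exists_hom Q (evS y) t hy0 hyG
      have hχ : ∀ z, χ (strS B z) = z := by
        intro z
        rw [← strS_comp φ]
        have := congrArg (fun f => f (strS A z)) hχ1
        exact this.trans (evS_strS y z)
      refine ⟨ofHomS χ hχ, ?_⟩
      apply Subtype.ext
      change pairMap φ Q.x (ofHomS χ hχ) = (y, t)
      unfold pairMap
      refine Prod.ext ?_ ?_
      · apply ext_evS
        rw [evS_map, evS_ofHomS]
        exact hχ1
      · change evS (ofHomS χ hχ) Q.x = t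
        rw [evS_ofHomS]
        exact hχ2
  have hcomp : Pts.map (Spec.map φ) =
      (fun p : {p : Pts (Spec A) × ℂ // p ∈ G ∧ monicEval d (c p.1, p.2) = 0} => p.1.1) ∘ Ψ := rfl
  rw [hcomp]
  exact hLH.comp hΨ.homeomorph.isLocalHomeomorph

end Main3

end Groth.Agent.Lib.Helper10.AnPtsSpec
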