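import Mathlib.AlgebraicGeometry.Morphisms.Etale
import Mathlib.RingTheory.Unramified.LocalStructure
import Groth.Prelude.Def_AnEps
import Groth.Agent.Lib.Helper10.AnPts
import Groth.Agent.Lib.Helper10.AnPtsStdEtale
set_option autoImplicit false
open AlgebraicGeometry CategoryTheory TopologicalSpace Opposite Topology

namespace Groth.Agent.Lib.Helper10.AnEtaleLH
open An Groth.Agent.Lib.Helper10.AnPts Groth.Agent.Lib.Helper10.AnPtsSpec

/-- Local homeomorphisms on `ℂ`-points can be checked on an open chart of source and target. -/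
lemma isLocalHomeomorphOn_of_square {X Y X' Y' : Scheme.{0}} [X.Over SC] [Y.Over SC]
    [X'.Over SC] [Y'.Over SC] (g : X ⟶ Y) [g.IsOver SC] (jX : X' ⟶ X) (jY : Y' ⟶ Y) (g' : X' ⟶ Y')
    [jX.IsOver SC] [jY.IsOver SC] [g'.IsOver SC] [IsOpenImmersion jX] [IsOpenImmersion jY]
    (sq : jX ≫ g = g' ≫ jY) (h : IsLocalHomeomorph (Pts.map g')) :
    IsLocalHomeomorphOn (Pts.map g) (Set.range (Pts.map jX)) := by
  have h1 : IsLocalHomeomorph (Pts.map jY ∘ Pts.map g') :=
    (isOpenEmbedding_map_of_isOpenImmersion jY).isLocalHomeomorph.comp h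
  have h2 : Pts.map jY ∘ Pts.map g' = Pts.map g ∘ Pts.map jX := by
    funext x
    apply Subtype.ext
    change (x.1 ≫ g') ≫ jY = (x.1 ≫ jX) ≫ g
    rw [Category.assoc, Category.assoc, sq]
  rw [h2] at h1
  have h3 := (isLocalHomeomorph_iff_isLocalHomeomorphOn_univ.mp h1).of_comp_right
    (isLocalHomeomorph_iff_isLocalHomeomorphOn_univ.mp
      (isOpenEmbedding_map_of_isOpenImmersion jX).isLocalHomeomorph)
  rwa [Set.image_univ] at h3

/-- **Étale morphisms induce local homeomorphisms on `ℂ`-points.** -/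
theorem etaleLH : EtaleLH := by
  intro X Y _ _ _ g _ _
  rw [isLocalHomeomorph_iff_isLocalHomeomorphOn_univ]
  intro x _
  obtain ⟨V, hV, hyV, -⟩ :=
    Opens.isBasis_iff_nbhd.mp Y.isBasis_affineOpens (Opens.mem_top (g x.pt))
  have hV : IsAffineOpen V := hV
  have hxgV : x.pt ∈ g ⁻¹ᵁ V := hyV
  obtain ⟨U, hU, hxU, hUV⟩ :=
    Opens.isBasis_iff_nbhd.mp X.isBasis_affineOpens hxgV
  have hU : IsAffineOpen U := hU
  set ρ := g.appLE V U hUV with hρdef
  have hρ : RingHom.Etale ρ.hom :=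
    HasRingHomProperty.appLE @Etale g inferInstance ⟨V, hV⟩ ⟨U, hU⟩ hUV
  let _ := ρ.hom.toAlgebra
  have hρ' : Algebra.Etale Γ(Y, V) Γ(X, U) := hρ
  set q := hU.primeIdealOf ⟨x.pt, hxU⟩ with hq
  have hEt : Algebra.IsEtaleAt Γ(Y, V) q.asIdeal := by
    have : q ∈ Algebra.etaleLocus Γ(Y, V) Γ(X, U) := by
      rw [Algebra.etaleLocus_eq_univ_iff_etale.mpr hρ']
      trivial
    exact this
  obtain ⟨f, hfq, hstd⟩ := Algebra.IsEtaleAt.exists_isStandardEtale (R := Γ(Y, V)) q.asIdeal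
  obtain ⟨Q⟩ := hstd.nonempty_standardEtalePresentation
  let B' : CommRingCat.{0} := CommRingCat.of (Localization.Away f)
  let loc : Γ(X, U) ⟶ B' := CommRingCat.ofHom (algebraMap Γ(X, U) (Localization.Away f))
  let φ : Γ(Y, V) ⟶ B' := ρ ≫ loc
  have hloc : IsOpenImmersion (Spec.map loc) := IsOpenImmersion.of_isLocalization f
  let jX : Spec B' ⟶ X := Spec.map loc ≫ hU.fromSpec
  let jY : Spec Γ(Y, V) ⟶ Y := hV.fromSpec
  have sq : jX ≫ g = Spec.map φ ≫ jY := by
    change (Spec.map loc ≫ hU.fromSpec) ≫ g = Spec.map (ρ ≫ loc) ≫ hV.fromSpec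
    rw [Spec.map_comp, Category.assoc, Category.assoc,
      IsAffineOpen.SpecMap_appLE_fromSpec g hV hU hUV]
  let iX : (Spec B').Over SC := ⟨jX ≫ (X ↘ SC)⟩
  let iY : (Spec Γ(Y, V)).Over SC := ⟨jY ≫ (Y ↘ SC)⟩
  have hjX : jX.IsOver SC := ⟨rfl⟩
  have hjY : jY.IsOver SC := ⟨rfl⟩
  have hφo : (Spec.map φ).IsOver SC := ⟨by
    change Spec.map φ ≫ jY ≫ (Y ↘ SC) = jX ≫ (X ↘ SC)
    rw [← Category.assoc, ← sq, Category.assoc, comp_over g SC]⟩
  have hLH : IsLocalHomeomorph (Pts.map (Spec.map φ)) := by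
    refine isLocalHomeomorph_map_Spec φ ?_
    have halg : (inferInstance : Algebra Γ(Y, V) (Localization.Away f)) = φ.hom.toAlgebra :=
      Algebra.algebra_ext _ _ (fun r => rfl)
    exact halg ▸ Q
  have hOn := isLocalHomeomorphOn_of_square g jX jY (Spec.map φ) sq hLH
  apply hOn
  rw [range_map_of_isOpenImmersion]
  change x.pt ∈ Set.range jX
  have hq' : q ∈ Set.range (Spec.map loc) := by
    have := PrimeSpectrum.localization_away_comap_range (Localization.Away f) f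
    change q ∈ Set.range (PrimeSpectrum.comap (algebraMap Γ(X, U) (Localization.Away f)))
    rw [this]
    exact hfq
  obtain ⟨q', hq'⟩ := hq'
  refine ⟨q', ?_⟩
  change hU.fromSpec (Spec.map loc q') = x.pt
  rw [hq', hq, hU.fromSpec_primeIdealOf]

end Groth.Agent.Lib.Helper10.AnEtaleLH
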