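import Mathlib.Topology.Maps.Proper.Basic
import Mathlib.RingTheory.Polynomial.IntegralNormalization
import Groth.Agent.Lib.Helper10.AnPtsSpec
import Groth.Agent.Lib.Helper10.AnPtsStdEtale
import Groth.Agent.Lib.Helper21.AnDensityRoots
set_option autoImplicit false
open AlgebraicGeometry CategoryTheory TopologicalSpace Opposite Topology Polynomial Filter

namespace Groth.Agent.Lib.Helper10.AnPtsSpec
open An Groth.Agent.Lib.Helper21.AnPts

section Integral

variable {A B : CommRingCat.{0}} [(Spec A).Over SC] [(Spec B).Over SC] (φ : A ⟶ B)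
  [(Spec.map φ).IsOver SC]

/-- Along an ultrafilter of points of `Spec B` whose images in `Spec A` converge, the values of
an integral element converge. -/
lemma exists_tendsto_evS_of_isIntegralElem (b : B) (hb : φ.hom.IsIntegralElem b)
    (𝒰 : Ultrafilter (Pts (Spec B))) (y : Pts (Spec A))
    (h𝒰 : Tendsto (Pts.map (Spec.map φ)) 𝒰 (𝓝 y)) :
    ∃ z : ℂ, Tendsto (fun x : Pts (Spec B) => evS x b) 𝒰 (𝓝 z) := by
  obtain ⟨p, hp, hpb⟩ := hb
  set d := p.natDegree with hd
  set M : ℝ := ∑ i ∈ Finset.range d, (‖evS y (p.coeff i)‖ + 1) with hM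
  have hterm : ∀ i ∈ Finset.range d, ‖evS y (p.coeff i)‖ + 1 ≤ M := by
    intro i hi
    exact Finset.single_le_sum (f := fun i => ‖evS y (p.coeff i)‖ + 1)
      (fun j _ => by positivity) hi
  have hev : ∀ᶠ x in (𝒰 : Filter (Pts (Spec B))), ∀ i ∈ Finset.range d,
      ‖evS (Pts.map (Spec.map φ) x) (p.coeff i)‖ ≤ ‖evS y (p.coeff i)‖ + 1 := by
    rw [Filter.eventually_all_finset]
    intro i _
    have ht : Tendsto (fun x => ‖evS (Pts.map (Spec.map φ) x) (p.coeff i)‖) 𝒰
        (𝓝 ‖evS y (p.coeff i)‖) :=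
      (((continuous_evS (p.coeff i)).tendsto y).comp h𝒰).norm
    exact (ht.eventually (gt_mem_nhds (lt_add_one _))).mono fun x hx => le_of_lt hx
  have hball : ∀ᶠ x in (𝒰 : Filter (Pts (Spec B))), evS x b ∈ Metric.closedBall (0 : ℂ) (M + 1) := by
    refine hev.mono fun x hx => ?_
    rw [mem_closedBall_zero_iff]
    have hq : (p.map ((evS x).comp φ.hom)).Monic := hp.map _
    refine Groth.Agent.Lib.Helper21.AnDensity.norm_root_le_of_monic _ hq M ?_ _ ?_
    · intro i hi
      rw [hp.natDegree_map] at hi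
      rw [coeff_map]
      have := hx i (Finset.mem_range.mpr hi)
      rw [evS_map] at this
      exact this.trans (hterm i (Finset.mem_range.mpr hi))
    · rw [IsRoot.def, Polynomial.eval_map, ← Polynomial.hom_eval₂, hpb, map_zero]
  have hle : ((𝒰.map fun x : Pts (Spec B) => evS x b : Ultrafilter ℂ) : Filter ℂ) ≤
      𝓟 (Metric.closedBall (0 : ℂ) (M + 1)) := by
    rw [Filter.le_principal_iff]
    exact hball
  obtain ⟨z, -, hz⟩ := (isCompact_closedBall (0 : ℂ) (M + 1)).ultrafilter_le_nhds _ hle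
  exact ⟨z, hz⟩

/-- An integral morphism of affine schemes over `ℂ` induces a proper map on `ℂ`-points. -/
theorem isProperMap_map_Spec_of_isIntegral (hφ : φ.hom.IsIntegral) :
    IsProperMap (Pts.map (Spec.map φ)) := by
  rw [isProperMap_iff_ultrafilter]
  refine ⟨Pts.continuous_map _, fun 𝒰 y h𝒰 => ?_⟩
  choose χ hχ using fun b : B => exists_tendsto_evS_of_isIntegralElem φ b (hφ b) 𝒰 y h𝒰
  have huniq : ∀ (b : B) (z : ℂ), Tendsto (fun x : Pts (Spec B) => evS x b) 𝒰 (𝓝 z) → χ b = z :=
    fun b z hz => tendsto_nhds_unique (hχ b) hz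
  let χ' : B →+* ℂ :=
    { toFun := χ
      map_one' := huniq 1 1 (by simp only [map_one]; exact tendsto_const_nhds)
      map_mul' := fun b b' => huniq _ _ (by
        simp only [map_mul]
        exact (hχ b).mul (hχ b'))
      map_zero' := huniq 0 0 (by simp only [map_zero]; exact tendsto_const_nhds)
      map_add' := fun b b' => huniq _ _ (by
        simp only [map_add]
        exact (hχ b).add (hχ b')) }
  have hχφ : ∀ a : A, χ (φ.hom a) = evS y a := by
    intro a
    apply huniq
    have : (fun x : Pts (Spec B) => evS x (φ.hom a)) =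
        (fun w : Pts (Spec A) => evS w a) ∘ Pts.map (Spec.map φ) := by
      funext x
      change _ = evS (Pts.map (Spec.map φ) x) a
      rw [evS_map]
      rfl
    rw [this]
    exact ((continuous_evS a).tendsto y).comp h𝒰
  have hstr : ∀ c, χ' (strS B c) = c := by
    intro c
    rw [← strS_comp φ]
    exact (hχφ (strS A c)).trans (evS_strS y c)
  refine ⟨ofHomS χ' hstr, ?_, ?_⟩
  · apply ext_evS
    rw [evS_map, evS_ofHomS]
    ext a
    exact hχφ a
  · rw [isInducing_evS.nhds_eq_comap, nhds_pi, Filter.pi, Filter.comap_iInf]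
    refine le_iInf fun b => ?_
    rw [Filter.comap_comap, ← Filter.tendsto_iff_comap]
    change Tendsto (fun x : Pts (Spec B) => evS x b) 𝒰 (𝓝 (evS (ofHomS χ' hstr) b))
    rw [evS_ofHomS]
    exact hχ b

end Integral

end Groth.Agent.Lib.Helper10.AnPtsSpec
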