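import Mathlib.Topology.Covering.Basic
set_option autoImplicit false
open Topology

namespace Groth.Agent.Lib.Helper10.CoverChart

/-- A map that is a covering map in an open chart of the target (whose preimage is an open chart
of the source) is a covering map over that chart. -/
lemma isCoveringMapOn_of_chart {E T E' T' : Type*} [TopologicalSpace E] [TopologicalSpace T]
    [TopologicalSpace E'] [TopologicalSpace T'] (p : E → T) (jE : E' → E) (jT : T' → T)
    (p' : E' → T') (hjE : IsOpenEmbedding jE) (hjT : IsOpenEmbedding jT)
    (comm : ∀ x, p (jE x) = jT (p' x)) (hrange : Set.range jE = p ⁻¹' Set.range jT)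
    (h : IsCoveringMap p') : IsCoveringMapOn p (Set.range jT) := by
  refine IsCoveringMapOn.of_isCoveringMap_restrictPreimage _ hjT.isOpen_range
    (hrange ▸ hjE.isOpen_range) ?_
  let hT : T' ≃ₜ Set.range jT := hjT.isEmbedding.toHomeomorph
  let hE : E' ≃ₜ Set.range jE := hjE.isEmbedding.toHomeomorph
  let e : Set.range jE ≃ₜ p ⁻¹' Set.range jT := Homeomorph.setCongr hrange
  have hcomp : (Set.range jT).restrictPreimage p ∘ (hE.trans e) = hT ∘ p' := by
    funext x
    apply Subtype.ext
    exact comm x
  have : (Set.range jT).restrictPreimage p = (hT ∘ p') ∘ (hE.trans e).symm := by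
    rw [← hcomp]
    funext w
    simp
  rw [this]
  exact (h.homeomorph_comp hT).comp_homeomorph (hE.trans e).symm

end Groth.Agent.Lib.Helper10.CoverChart
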