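import Mathlib.AlgebraicGeometry.Morphisms.QuasiFinite
import Mathlib.AlgebraicGeometry.Morphisms.Finite
import Groth.Prelude.Def_AnEps
import Groth.Agent.Lib.Helper10.AnPts
import Groth.Agent.Lib.Helper10.AnEtaleLH
import Groth.Agent.Lib.Helper10.AnPtsIntegral
import Groth.Agent.Lib.Helper10.CoverChart
import Groth.Agent.Lib.Helper21.AnPtsLft
set_option autoImplicit false
open AlgebraicGeometry CategoryTheory TopologicalSpace Opposite Topology

namespace Groth.Agent.Lib.Helper10.AnFiniteEtale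
open An Groth.Agent.Lib.Helper10.AnPts Groth.Agent.Lib.Helper10.AnPtsSpec

instance t2Space_pts_Spec {B : CommRingCat.{0}} [(Spec B).Over SC] : T2Space (Pts (Spec B)) := by
  have hemb : IsEmbedding (fun (x : Pts (Spec B)) (b : B) => evS x b) :=
    ⟨isInducing_evS, fun x y h => ext_evS x y (RingHom.ext fun b => congrFun h b)⟩
  exact hemb.t2Space

/-- Finite étale morphisms of affine schemes over `ℂ` induce covering maps on `ℂ`-points. -/
theorem isCoveringMap_map_Spec {A B : CommRingCat.{0}} [(Spec A).Over SC] [(Spec B).Over SC]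
    [LocallyOfFiniteType ((Spec A) ↘ SC)]
    (φ : A ⟶ B) [(Spec.map φ).IsOver SC] (hfin : φ.hom.Finite) (het : Etale (Spec.map φ)) :
    IsCoveringMap (Pts.map (Spec.map φ)) := by
  have hF : IsFinite (Spec.map φ) := (IsFinite.SpecMap_iff φ).mpr hfin
  rw [isCoveringMap_iff_isCoveringMapOn_univ]
  refine IsClosedMap.isCoveringMapOn_of_isLocalHomeomorphOn
    (isProperMap_map_Spec_of_isIntegral φ hfin.to_isIntegral).isClosedMap ?_ ?_
  · intro y _
    have hfin' := (Spec.map φ).finite_preimage_singleton y.pt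
    refine Set.Finite.of_injOn (f := Pts.pt) ?_
      (Groth.Agent.Lib.Helper21.AnPts.pt_injective_of_isAffine.injOn) hfin'
    intro x hx
    have hx' : Pts.map (Spec.map φ) x = y := hx
    change (Spec.map φ) x.pt ∈ ({y.pt} : Set _)
    rw [← Pts.pt_map, hx']
    rfl
  · rw [Set.preimage_univ, ← isLocalHomeomorph_iff_isLocalHomeomorphOn_univ]
    exact Groth.Agent.Lib.Helper10.AnEtaleLH.etaleLH (Spec B) (Spec A) (Spec.map φ)

/-- A finite étale morphism of schemes locally of finite type over `ℂ` induces a covering map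
with finite fibres on `ℂ`-points. -/
theorem isCoveringMap_map_of_finite_etale (X Y : Scheme.{0}) [X.Over SC]
    [LocallyOfFiniteType (X ↘ SC)] [Y.Over SC] [LocallyOfFiniteType (Y ↘ SC)] (f : X ⟶ Y)
    [f.IsOver SC] [IsFinite f] [Etale f] :
    IsCoveringMap (Pts.map f) ∧ ∀ y : Pts Y, (Pts.map f ⁻¹' {y}).Finite := by
  constructor
  · intro y
    obtain ⟨V, hV, hyV, -⟩ :=
      Opens.isBasis_iff_nbhd.mp Y.isBasis_affineOpens (Opens.mem_top y.pt)
    have hV : IsAffineOpen V := hV
    have hU : IsAffineOpen (f ⁻¹ᵁ V) := hV.preimage f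
    set U := f ⁻¹ᵁ V with hUdef
    let φ : Γ(Y, V) ⟶ Γ(X, U) := f.appLE V U le_rfl
    let jX : Spec Γ(X, U) ⟶ X := hU.fromSpec
    let jY : Spec Γ(Y, V) ⟶ Y := hV.fromSpec
    have sq : jX ≫ f = Spec.map φ ≫ jY :=
      (IsAffineOpen.SpecMap_appLE_fromSpec f hV hU le_rfl).symm
    let iX : (Spec Γ(X, U)).Over SC := ⟨jX ≫ (X ↘ SC)⟩
    let iY : (Spec Γ(Y, V)).Over SC := ⟨jY ≫ (Y ↘ SC)⟩
    have hjX : jX.IsOver SC := ⟨rfl⟩
    have hjY : jY.IsOver SC := ⟨rfl⟩
    have hφo : (Spec.map φ).IsOver SC := ⟨by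
      change Spec.map φ ≫ jY ≫ (Y ↘ SC) = jX ≫ (X ↘ SC)
      rw [← Category.assoc, ← sq, Category.assoc, comp_over f SC]⟩
    have hlftA : LocallyOfFiniteType ((Spec Γ(Y, V)) ↘ SC) := by
      change LocallyOfFiniteType (jY ≫ (Y ↘ SC))
      infer_instance
    have hφfin : φ.hom.Finite := by
      have := IsFinite.finite_app f V hV
      rwa [Scheme.Hom.app_eq_appLE] at this
    have hφet : Etale (Spec.map φ) := by
      rw [HasRingHomProperty.Spec_iff (P := @Etale)]
      exact HasRingHomProperty.appLE @Etale f inferInstance ⟨V, hV⟩ ⟨U, hU⟩ le_rfl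
    have hcov := isCoveringMap_map_Spec φ hφfin hφet
    have hrX : Set.range (Pts.map jX) = Pts.pt ⁻¹' (U : Set X) := by
      rw [range_map_of_isOpenImmersion]
      congr 2
      exact hU.opensRange_fromSpec
    have hrY : Set.range (Pts.map jY) = Pts.pt ⁻¹' (V : Set Y) := by
      rw [range_map_of_isOpenImmersion]
      congr 2
      exact hV.opensRange_fromSpec
    have hOn := CoverChart.isCoveringMapOn_of_chart (Pts.map f) (Pts.map jX) (Pts.map jY)
      (Pts.map (Spec.map φ)) (isOpenEmbedding_map_of_isOpenImmersion jX)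
      (isOpenEmbedding_map_of_isOpenImmersion jY)
      (fun x => by
        apply Subtype.ext
        change (x.1 ≫ jX) ≫ f = (x.1 ≫ Spec.map φ) ≫ jY
        rw [Category.assoc, Category.assoc, sq])
      (by
        rw [hrX, hrY]
        ext x
        simp only [Set.mem_preimage, Pts.pt_map]
        rfl) hcov
    apply hOn
    rw [hrY]
    exact hyV
  · intro y
    have hfin' := f.finite_preimage_singleton y.pt
    refine Set.Finite.of_injOn (f := Pts.pt) ?_ (pt_injective.injOn) hfin'
    intro x hx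
    have hx' : Pts.map f x = y := hx
    change f x.pt ∈ ({y.pt} : Set _)
    rw [← Pts.pt_map, hx']
    rfl

end Groth.Agent.Lib.Helper10.AnFiniteEtale
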