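import Mathlib

/-!
# `R[Y] → R[X]`, `Y ↦ g(X)` is finite free (faithfully flat) when `Y - g(X)` is monic in `X`
-/

set_option autoImplicit false
set_option backward.isDefEq.respectTransparency.types false
set_option maxHeartbeats 4000000
set_option synthInstance.maxHeartbeats 400000
universe u

namespace Groth.Agent.Lib.Helper10.ArtSch

open Polynomial

variable {R : Type u} [CommRing R]

/-- the ring map `R[Y] → R[X]`, `Y ↦ g`. -/
noncomputable def subst (g : R[X]) : R[X] →+* R[X] := eval₂RingHom (C : R →+* R[X]) g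

@[simp] theorem subst_C (g : R[X]) (r : R) : subst g (C r) = C r := by
  simp [subst]

@[simp] theorem subst_X (g : R[X]) : subst g X = g := by
  simp [subst]

/-- the polynomial `Y - g(X)` in `R[Y][X]`. -/
noncomputable def hpoly (g : R[X]) : R[X][X] := C (X : R[X]) - g.map (C : R →+* R[X])

theorem eval₂_hpoly (g : R[X]) : eval₂ (subst g) (X : R[X]) (hpoly g) = 0 := by
  rw [hpoly, eval₂_sub, eval₂_C, subst_X, eval₂_map]
  have : (subst g).comp (C : R →+* R[X]) = C := by
    ext r; simp
  rw [this, eval₂_C_X, sub_self]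

/-- forward map `R[Y][X]/(Y - g(X)) → R[X]`. -/
noncomputable def fwd (g : R[X]) : AdjoinRoot (hpoly g) →+* R[X] :=
  AdjoinRoot.lift (subst g) X (eval₂_hpoly g)

/-- backward map. -/
noncomputable def bwd (g : R[X]) : R[X] →+* AdjoinRoot (hpoly g) :=
  eval₂RingHom ((AdjoinRoot.of (hpoly g)).comp C) (AdjoinRoot.root (hpoly g))

theorem fwd_of (g : R[X]) (a : R[X]) : fwd g (AdjoinRoot.of (hpoly g) a) = subst g a := by
  rw [fwd, AdjoinRoot.lift_of]

theorem fwd_root (g : R[X]) : fwd g (AdjoinRoot.root (hpoly g)) = X := by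
  rw [fwd, AdjoinRoot.lift_root]

theorem fwd_bwd (g : R[X]) : (fwd g).comp (bwd g) = RingHom.id _ := by
  apply Polynomial.ringHom_ext
  · intro r
    simp [bwd, fwd_of]
  · simp [bwd, fwd_root]

theorem bwd_g (g : R[X]) : bwd g g = AdjoinRoot.of (hpoly g) X := by
  have h0 : eval₂ (AdjoinRoot.of (hpoly g)) (AdjoinRoot.root (hpoly g)) (hpoly g) = 0 :=
    AdjoinRoot.eval₂_root (hpoly g)
  have h1 : eval₂ (AdjoinRoot.of (hpoly g)) (AdjoinRoot.root (hpoly g))
      (C (X : R[X]) - g.map (C : R →+* R[X])) = 0 := h0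
  rw [eval₂_sub, eval₂_C, eval₂_map, sub_eq_zero] at h1
  rw [h1]
  rfl

theorem bwd_subst (g : R[X]) : (bwd g).comp (subst g) = AdjoinRoot.of (hpoly g) := by
  apply Polynomial.ringHom_ext
  · intro r
    simp [bwd]
  · simp only [RingHom.comp_apply, subst_X]
    exact bwd_g g

theorem bwd_fwd (g : R[X]) : (bwd g).comp (fwd g) = RingHom.id _ := by
  have hs : Function.Surjective (AdjoinRoot.mk (hpoly g)) := AdjoinRoot.mk_surjective
  apply RingHom.cancel_right hs |>.mp
  apply Polynomial.ringHom_ext
  · intro a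
    simp only [RingHom.comp_apply, RingHom.id_apply]
    rw [AdjoinRoot.mk_C, fwd_of]
    exact congrArg (fun f : R[X] →+* AdjoinRoot (hpoly g) => f a) (bwd_subst g)
  · simp only [RingHom.comp_apply, RingHom.id_apply]
    rw [AdjoinRoot.mk_X, fwd_root]
    simp [bwd]

theorem fwd_bijective (g : R[X]) : Function.Bijective (fwd g) := by
  refine ⟨?_, ?_⟩
  · intro a b hab
    have := congrArg (bwd g) hab
    have h1 : ∀ z, bwd g (fwd g z) = z := fun z =>
      congrArg (fun f : AdjoinRoot (hpoly g) →+* AdjoinRoot (hpoly g) => f z) (bwd_fwd g)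
    rwa [h1, h1] at this
  · intro b
    exact ⟨bwd g b, congrArg (fun f : R[X] →+* R[X] => f b) (fwd_bwd g)⟩

theorem subst_eq (g : R[X]) : subst g = (fwd g).comp (AdjoinRoot.of (hpoly g)) := by
  ext a <;> simp [fwd_of]

/-- `Y ↦ g(X)` is faithfully flat when `Y - g(X)` is monic in `X`. -/
theorem faithfullyFlat_subst (g : R[X]) (hg : (hpoly g).Monic) : (subst g).FaithfullyFlat := by
  rw [subst_eq]
  refine RingHom.FaithfullyFlat.stableUnderComposition _ _ ?_
    (RingHom.FaithfullyFlat.of_bijective (fwd_bijective g))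
  rcases subsingleton_or_nontrivial R with hR | hR
  · apply RingHom.FaithfullyFlat.of_bijective
    haveI : Subsingleton R[X] := inferInstance
    haveI : Subsingleton (AdjoinRoot (hpoly g)) :=
      (fwd_bijective g).1.subsingleton
    exact ⟨fun a b _ => Subsingleton.elim _ _, fun b => ⟨0, Subsingleton.elim _ _⟩⟩
  · change (algebraMap R[X] (AdjoinRoot (hpoly g))).FaithfullyFlat
    rw [RingHom.faithfullyFlat_algebraMap_iff]
    haveI : Module.Free R[X] (AdjoinRoot (hpoly g)) :=
      Module.Free.of_basis (AdjoinRoot.powerBasis' hg).basis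
    haveI : Nontrivial (AdjoinRoot (hpoly g)) := by
      haveI : Nontrivial R[X] := inferInstance
      exact (fwd_bijective g).2.nontrivial
    infer_instance

/-- the Artin–Schreier polynomial. -/
theorem monic_hpoly_AS (p : ℕ) (hp : 2 ≤ p) : (hpoly (X - X ^ p : R[X])).Monic := by
  rcases subsingleton_or_nontrivial R with hR | hR
  · exact Subsingleton.elim _ _
  have h1 : hpoly (X - X ^ p : R[X]) = X ^ p + (C (X : R[X]) - X) := by
    rw [hpoly]
    simp only [Polynomial.map_sub, Polynomial.map_pow, Polynomial.map_X]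
    ring
  rw [h1]
  apply Polynomial.Monic.add_of_left (monic_X_pow p)
  rw [degree_X_pow]
  calc (C (X : R[X]) - X : R[X][X]).degree ≤ max (C (X : R[X])).degree (X : R[X][X]).degree :=
        degree_sub_le _ _
    _ ≤ 1 := by
        apply max_le
        · exact le_trans degree_C_le (by norm_num)
        · exact degree_X_le
    _ < (p : WithBot ℕ) := by exact_mod_cast hp

theorem faithfullyFlat_AS (p : ℕ) (hp : 2 ≤ p) :
    (subst (X - X ^ p : R[X])).FaithfullyFlat :=
  faithfullyFlat_subst _ (monic_hpoly_AS p hp)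

end Groth.Agent.Lib.Helper10.ArtSch
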