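import Mathlib
import Groth.Agent.Lib.Helper21.GaPts
import Groth.Agent.Lib.Helper10.ArtSch1
import Groth.Agent.Lib.Helper10.HomSp1
import Groth.Agent.Lib.Helper10.BCProps

/-!
# The Artin–Schreier map on `𝔾_a` is flat and surjective
-/

set_option autoImplicit false
set_option backward.isDefEq.respectTransparency.types false
set_option maxHeartbeats 4000000
set_option synthInstance.maxHeartbeats 400000
universe u
open CategoryTheory CategoryTheory.Limits AlgebraicGeometry MonoidalCategory
  CartesianMonoidalCategory MonObj GrpObj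

namespace Groth.Agent.Lib.Helper10.ArtSch

open Groth.Agent.Lib.Helper21.GaPts Polynomial

variable {S : Scheme.{u}} {R : Type u} [CommRing R] (g : Spec (CommRingCat.of R) ⟶ S)

/-- the affine line over `Spec R`, as a scheme over `S`. -/
noncomputable abbrev V : Over S :=
  Over.mk (Spec.map (CommRingCat.ofHom (C : R →+* R[X])) ≫ g)

/-- the coordinate. -/
noncomputable def coordV : Γ((V g).left, ⊤) :=
  (Scheme.ΓSpecIso (CommRingCat.of R[X])).inv X

/-- the morphism to `𝔾_a`. -/
noncomputable def alpha : V g ⟶ Red.Ga S := gaPt (coordV g)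

theorem isPullback_alpha :
    IsPullback (alpha g).left (Spec.map (CommRingCat.ofHom (C : R →+* R[X])))
      (Red.Ga S).hom g := by
  refine Groth.Agent.Lib.Helper10.HomSp.isPullback_of_lift _ _ _ _ (Over.w (alpha g))
    (fun {W} a b hab =>
      ofRingHom (eval₂RingHom (evalHom b)
        (Red.gaFn (Over.homMk a hab : Over.mk (b ≫ g) ⟶ Red.Ga S)))) ?_ ?_ ?_
  · intro W a b hab
    set a' : Over.mk (b ≫ g) ⟶ Red.Ga S := Over.homMk a hab
    set l := ofRingHom (eval₂RingHom (evalHom b) (Red.gaFn a'))
    have hl : l ≫ (V g).hom = (Over.mk (b ≫ g)).hom := by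
      change l ≫ Spec.map _ ≫ g = b ≫ g
      rw [← Category.assoc]
      congr 1
      apply evalHom_injective
      rw [evalHom_specMap, evalHom_ofRingHom]
      ext r
      simp
    have : (Over.homMk l hl : Over.mk (b ≫ g) ⟶ V g) ≫ alpha g = a' := by
      apply gaFn_injective
      rw [gaFn_comp, alpha, gaFn_gaPt]
      change l.appTop (coordV g) = _
      rw [coordV, ← evalHom_apply, evalHom_ofRingHom]
      simp
    exact congrArg (fun f => f.left) this
  · intro W a b hab
    apply evalHom_injective
    rw [evalHom_specMap, evalHom_ofRingHom]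
    ext r
    simp
  · intro W m m' h1 h2
    apply evalHom_injective
    apply Polynomial.ringHom_ext
    · intro r
      have := congrArg (fun f => evalHom f r) h2
      simpa only [evalHom_specMap_apply] using this
    · have hm : m ≫ (V g).hom = m' ≫ (V g).hom := by
        change m ≫ Spec.map _ ≫ g = m' ≫ Spec.map _ ≫ g
        rw [← Category.assoc, ← Category.assoc, h2]
      have e1 : (Over.homMk m rfl : Over.mk (m ≫ (V g).hom) ⟶ V g) ≫ alpha g =
          (Over.homMk m' hm.symm : Over.mk (m ≫ (V g).hom) ⟶ V g) ≫ alpha g := by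
        apply Over.OverMorphism.ext
        exact h1
      have e2 := congrArg Red.gaFn e1
      rw [gaFn_comp, gaFn_comp, alpha, gaFn_gaPt] at e2
      change m.appTop (coordV g) = m'.appTop (coordV g) at e2
      rw [coordV, ← evalHom_apply, ← evalHom_apply] at e2
      exact e2

variable (p : ℕ)

/-- the Artin–Schreier endomorphism of the affine line over `Spec R`. -/
noncomputable def PhiV : V g ⟶ V g :=
  Over.homMk (Spec.map (CommRingCat.ofHom (subst (X - X ^ p : R[X])))) (by
    change Spec.map _ ≫ Spec.map _ ≫ g = Spec.map _ ≫ g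
    rw [← Category.assoc, ← Spec.map_comp, ← CommRingCat.ofHom_comp]
    congr 3
    ext r
    simp)

theorem PhiV_left_C : (PhiV g p).left ≫ Spec.map (CommRingCat.ofHom (C : R →+* R[X])) =
    Spec.map (CommRingCat.ofHom (C : R →+* R[X])) := by
  change Spec.map _ ≫ Spec.map _ = _
  rw [← Spec.map_comp, ← CommRingCat.ofHom_comp]
  congr 2
  ext r
  simp

theorem gaFn_PhiV_alpha :
    Red.gaFn (PhiV g p ≫ alpha g) = coordV g - coordV g ^ p := by
  rw [gaFn_comp, alpha, gaFn_gaPt]
  change (Spec.map (CommRingCat.ofHom (subst (X - X ^ p : R[X])))).appTop (coordV g) = _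
  rw [coordV]
  have h1 : (Spec.map (CommRingCat.ofHom (subst (X - X ^ p : R[X])))).appTop
      ((Scheme.ΓSpecIso (CommRingCat.of R[X])).inv X) =
      evalHom (𝟙 _ ≫ Spec.map (CommRingCat.ofHom (subst (X - X ^ p : R[X])))) X := by
    rw [Category.id_comp]; rfl
  rw [h1, evalHom_specMap_apply, evalHom_apply, subst_X]
  simp

/-- a morphism `P` of `𝔾_a` acting on functions by `x ↦ x - x^p` is flat and surjective -/
theorem flat_surjective_of_gaFn (hp : 2 ≤ p) (P : Red.Ga S ⟶ Red.Ga S)
    (hP : ∀ (T : Over S) (x : T ⟶ Red.Ga S), Red.gaFn (x ≫ P) = Red.gaFn x - Red.gaFn x ^ p) :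
    Flat P.left ∧ Surjective P.left := by
  have key : ∀ (Q : MorphismProperty Scheme.{u}) [IsZariskiLocalAtTarget Q],
      (∀ (R : Type u) [CommRing R], Q (Spec.map (CommRingCat.ofHom (subst (X - X ^ p : R[X]))))) →
      Q P.left := by
    intro Q _ hQ
    refine Groth.Agent.Lib.Helper10.BCProps.of_local_isPullback' Q P.left (fun y => ?_)
    obtain ⟨U, hU, hyU⟩ : ∃ U : S.Opens, IsAffineOpen U ∧ (Red.Ga S).hom.base y ∈ U := by
      obtain ⟨_, ⟨U, hU, rfl⟩, hyU, -⟩ := S.isBasis_affineOpens.exists_subset_of_mem_open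
        (Set.mem_univ ((Red.Ga S).hom.base y)) isOpen_univ
      exact ⟨U, hU, hyU⟩
    let R₀ : Type u := Γ(S, U)
    let g₀ : Spec (CommRingCat.of R₀) ⟶ S := hU.fromSpec
    haveI : IsOpenImmersion g₀ := inferInstanceAs (IsOpenImmersion hU.fromSpec)
    have hA := isPullback_alpha g₀
    haveI : IsOpenImmersion (alpha g₀).left :=
      MorphismProperty.of_isPullback (P := @IsOpenImmersion) hA.flip inferInstance
    have hcomm : PhiV g₀ p ≫ alpha g₀ = alpha g₀ ≫ P := by
      apply gaFn_injective
      rw [gaFn_PhiV_alpha, hP, alpha, gaFn_gaPt]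
    have hB : IsPullback (alpha g₀).left (PhiV g₀ p).left P.left (alpha g₀).left := by
      refine IsPullback.of_bot ?_ (congrArg (fun f => f.left) hcomm).symm hA
      rw [PhiV_left_C, Over.w P]
      exact hA
    refine ⟨_, _, (alpha g₀).left, (alpha g₀).left, (PhiV g₀ p).left, inferInstance, ?_, hB, ?_⟩
    · have hr : Set.range (alpha g₀).left = (Red.Ga S).hom ⁻¹' Set.range g₀ := by
        rw [← Scheme.Pullback.range_fst, ← hA.isoPullback_hom_fst]
        simp only [Scheme.Hom.comp_base, TopCat.hom_comp, ContinuousMap.coe_comp]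
        rw [Set.range_comp, Set.range_eq_univ.mpr, Set.image_univ]
        exact (hA.isoPullback.hom.homeomorph).surjective
      rw [hr, Set.mem_preimage, hU.range_fromSpec]
      exact hyU
    · exact hQ R₀
  constructor
  · apply key @Flat
    intro R _
    exact ((flat_and_surjective_SpecMap_iff (CommRingCat.ofHom _)).mpr
      (faithfullyFlat_AS p hp)).1
  · apply key @Surjective
    intro R _
    exact ((flat_and_surjective_SpecMap_iff (CommRingCat.ofHom _)).mpr
      (faithfullyFlat_AS p hp)).2

end Groth.Agent.Lib.Helper10.ArtSch
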