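import Mathlib

/-!
# Algebra in characteristic `p` for the Artin–Schreier sequence
-/

set_option autoImplicit false
set_option backward.isDefEq.respectTransparency.types false
set_option maxHeartbeats 4000000
set_option synthInstance.maxHeartbeats 400000
universe u

namespace Groth.Agent.Lib.Helper10.ArtSch

open Polynomial

section Alg

variable (p : ℕ) [hpp : Fact p.Prime] {B : Type*} [CommRing B] (hB : (p : B) = 0)

/-- the canonical map `𝔽_p → B` when `p = 0` in `B`. -/
noncomputable def psi : ZMod p →+* B :=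
  (Ideal.Quotient.lift (Ideal.span {(p : ℤ)}) (Int.castRingHom B) (by
    intro a ha
    obtain ⟨c, rfl⟩ := Ideal.mem_span_singleton.mp ha
    simp [hB])).comp (Int.quotientSpanNatEquivZMod p).symm.toRingHom

theorem psi_natCast (n : ℕ) : psi p hB (n : ZMod p) = (n : B) := map_natCast _ n

theorem psi_comp {B' : Type*} [CommRing B'] (f : B →+* B') (hB' : (p : B') = 0) (m : ZMod p) :
    f (psi p hB m) = psi p hB' m := by
  rw [← ZMod.natCast_zmod_val m, psi_natCast, psi_natCast, map_natCast]

include hB in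
theorem add_pow_p (a b : B) : (a + b) ^ p = a ^ p + b ^ p := by
  obtain ⟨r, hr⟩ := exists_add_pow_prime_eq hpp.out a b
  rw [hr, hB]
  ring

include hB in
theorem AS_add (a b : B) : (a + b) - (a + b) ^ p = (a - a ^ p) + (b - b ^ p) := by
  rw [add_pow_p p hB]
  ring

theorem psi_pow (m : ZMod p) : psi p hB m ^ p = psi p hB m := by
  rw [← map_pow, ZMod.pow_card]

theorem X_pow_sub_X_eq_prod : (X ^ p - X : (ZMod p)[X]) = ∏ a : ZMod p, (X - C a) := by
  have hroots := FiniteField.roots_X_pow_card_sub_X (ZMod p)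
  rw [ZMod.card p] at hroots
  have hdeg : (X ^ p - X : (ZMod p)[X]).natDegree = p :=
    FiniteField.X_pow_card_sub_X_natDegree_eq _ hpp.out.one_lt
  have hmonic : (X ^ p - X : (ZMod p)[X]).Monic := by
    apply monic_X_pow_sub
    rw [degree_X]
    exact_mod_cast hpp.out.one_lt
  have h1 := Polynomial.C_leadingCoeff_mul_prod_multiset_X_sub_C
    (p := (X ^ p - X : (ZMod p)[X])) (by rw [hroots, hdeg]; simp)
  rw [hmonic.leadingCoeff, C_1, one_mul, hroots] at h1
  rw [← h1]
  rfl

theorem pow_sub_eq_prod (x : B) : x ^ p - x = ∏ a : ZMod p, (x - psi p hB a) := by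
  have h := congrArg (Polynomial.eval₂ (psi p hB) x) (X_pow_sub_X_eq_prod p)
  rw [eval₂_sub, eval₂_pow, eval₂_X, eval₂_finset_prod] at h
  rw [h]
  refine Finset.prod_congr rfl (fun a _ => ?_)
  rw [eval₂_sub, eval₂_X, eval₂_C]

theorem isUnit_psi_sub (m m' : ZMod p) (h : m ≠ m') : IsUnit (psi p hB m - psi p hB m') := by
  rw [← map_sub]
  exact (IsUnit.mk0 _ (sub_ne_zero.mpr h)).map _

/-- the product over the other roots. -/
noncomputable def upoly (x : B) (m : ZMod p) : B :=
  ∏ a ∈ Finset.univ.erase m, (x - psi p hB a)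

theorem sub_mul_upoly (x : B) (m : ZMod p) :
    (x - psi p hB m) * upoly p hB x m = x ^ p - x := by
  rw [pow_sub_eq_prod p hB, upoly]
  exact Finset.mul_prod_erase Finset.univ (fun a => x - psi p hB a) (Finset.mem_univ m)

theorem upoly_mul_upoly (x : B) (hx : x ^ p - x = 0) (m m' : ZMod p) (h : m ≠ m') :
    upoly p hB x m * upoly p hB x m' = 0 := by
  have h1 : upoly p hB x m = (x - psi p hB m') *
      ∏ a ∈ (Finset.univ.erase m).erase m', (x - psi p hB a) := by
    rw [upoly]
    exact (Finset.mul_prod_erase (Finset.univ.erase m) (fun a => x - psi p hB a)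
      (Finset.mem_erase.mpr ⟨h.symm, Finset.mem_univ _⟩)).symm
  rw [h1, mul_assoc, mul_comm _ (upoly p hB x m'), ← mul_assoc, sub_mul_upoly, hx, zero_mul]

end Alg

end Groth.Agent.Lib.Helper10.ArtSch
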