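import Mathlib

/-!
# Morphisms to a constant scheme `∐_M S` and disjoint open covers
-/

set_option autoImplicit false
set_option backward.isDefEq.respectTransparency.types false
set_option maxHeartbeats 4000000
set_option synthInstance.maxHeartbeats 400000
universe v u
open CategoryTheory CategoryTheory.Limits AlgebraicGeometry

namespace Groth.Agent.Lib.Helper10.ConstSch

variable {S T : Scheme.{u}} {M : Type v} [Small.{u} M]

variable (S M) in
/-- the constant scheme. -/
noncomputable abbrev cst : Scheme.{u} := ∐ fun _ : M => S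

variable (S M) in
/-- the structure map. -/
noncomputable abbrev str : cst S M ⟶ S := Sigma.desc fun _ : M => 𝟙 S

variable (S) in
/-- the component opens -/
noncomputable def cmp (m : M) : (cst S M).Opens := (Sigma.ι (fun _ : M => S) m).opensRange

theorem disjoint_cmp (m m' : M) (h : m ≠ m') : Disjoint (cmp S m) (cmp S m') :=
  disjoint_opensRange_sigmaι _ m m' h

theorem exists_mem_cmp (x : cst S M) : ∃ m : M, x ∈ cmp S m := by
  obtain ⟨m, y, rfl⟩ := (sigmaOpenCover (fun _ : M => S)).exists_eq x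
  exact ⟨m, y, rfl⟩

/-- the preimage of the components. -/
noncomputable def pre (z : T ⟶ cst S M) (m : M) : T.Opens := z ⁻¹ᵁ cmp S m

theorem disjoint_pre (z : T ⟶ cst S M) (m m' : M) (h : m ≠ m') :
    Disjoint (pre z m) (pre z m') := by
  rw [disjoint_iff, eq_bot_iff]
  intro x hx
  have h1 := disjoint_cmp (S := S) m m' h
  rw [disjoint_iff, eq_bot_iff] at h1
  exact h1 (show z.base x ∈ cmp S m ⊓ cmp S m' from ⟨hx.1, hx.2⟩)

theorem iSup_pre (z : T ⟶ cst S M) : ⨆ m, pre z m = ⊤ := by
  rw [eq_top_iff]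
  intro x _
  obtain ⟨m, hm⟩ := exists_mem_cmp (z.base x)
  exact TopologicalSpace.Opens.mem_iSup.mpr ⟨m, hm⟩

theorem pre_ι_comp (z : T ⟶ cst S M) (m : M) :
    (pre z m).ι ≫ z = ((pre z m).ι ≫ z ≫ str S M) ≫ Sigma.ι (fun _ : M => S) m := by
  have hr : Set.range ((pre z m).ι ≫ z).base ⊆ Set.range (Sigma.ι (fun _ : M => S) m).base := by
    rintro _ ⟨x, rfl⟩
    exact x.2
  have h1 := IsOpenImmersion.lift_fac (Sigma.ι (fun _ : M => S) m) ((pre z m).ι ≫ z) hr
  set l := IsOpenImmersion.lift (Sigma.ι (fun _ : M => S) m) ((pre z m).ι ≫ z) hr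
  have h2 : (pre z m).ι ≫ z ≫ str S M = l := by
    rw [← Category.assoc, ← h1, Category.assoc, Sigma.ι_desc, Category.comp_id]
  rw [h2, h1]

theorem ι_comp_of_le (z : T ⟶ cst S M) (m : M) (U : T.Opens) (hU : U ≤ pre z m) :
    U.ι ≫ z = (U.ι ≫ z ≫ str S M) ≫ Sigma.ι (fun _ : M => S) m := by
  have h0 : U.ι = T.homOfLE hU ≫ (pre z m).ι := (Scheme.homOfLE_ι T hU).symm
  rw [h0, Category.assoc, pre_ι_comp]
  simp only [Category.assoc]

/-- two morphisms to the constant scheme over `S` with the same decomposition agree. -/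
theorem hom_ext_of_pre_le (z z' : T ⟶ cst S M) (h : z ≫ str S M = z' ≫ str S M)
    (hle : ∀ m, pre z m ≤ pre z' m) : z = z' := by
  have hc : TopologicalSpace.IsOpenCover (pre z) := iSup_pre z
  apply (T.openCoverOfIsOpenCover _ hc).hom_ext
  intro m
  change (pre z m).ι ≫ z = (pre z m).ι ≫ z'
  rw [pre_ι_comp z m, ι_comp_of_le z' m _ (hle m), h]

section OfCover

variable (V : M → T.Opens) (hc : ⨆ m, V m = ⊤)
  (hd : ∀ m m', m ≠ m' → Disjoint (V m) (V m')) (t : T ⟶ S)

include hc hd in
theorem nonempty_isColimit : Nonempty (IsColimit (Cofan.mk T fun m => (V m).ι)) := by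
  apply nonempty_isColimit_cofanMk_of
  · simpa using hc
  · intro m m' h
    simpa [Function.onFun] using hd m m' h

/-- the morphism to the constant scheme defined by a disjoint open cover. -/
noncomputable def ofCover : T ⟶ cst S M :=
  Cofan.IsColimit.desc (nonempty_isColimit V hc hd).some
    (fun m => (V m).ι ≫ t ≫ Sigma.ι (fun _ : M => S) m)

theorem ι_ofCover (m : M) :
    (V m).ι ≫ ofCover V hc hd t = (V m).ι ≫ t ≫ Sigma.ι (fun _ : M => S) m :=
  Cofan.IsColimit.fac (nonempty_isColimit V hc hd).some _ m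

theorem ofCover_str : ofCover V hc hd t ≫ str S M = t := by
  apply Cofan.IsColimit.hom_ext (nonempty_isColimit V hc hd).some
  intro m
  change (V m).ι ≫ _ = (V m).ι ≫ _
  rw [← Category.assoc, ι_ofCover, Category.assoc, Category.assoc, Sigma.ι_desc,
    Category.comp_id]

theorem le_pre_ofCover (m : M) : V m ≤ pre (ofCover V hc hd t) m := by
  intro x hx
  change (ofCover V hc hd t).base x ∈ cmp S m
  have h1 := ι_ofCover V hc hd t m
  have h2 : (ofCover V hc hd t).base x =
      ((V m).ι ≫ ofCover V hc hd t).base ⟨x, hx⟩ := rfl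
  rw [h2, h1]
  exact ⟨((V m).ι ≫ t).base ⟨x, hx⟩, by simp⟩

end OfCover

end Groth.Agent.Lib.Helper10.ConstSch
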