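import Mathlib
import Groth.Agent.Lib.Helper10.ArtSch2
import Groth.Agent.Lib.Helper10.ArtSch3
import Groth.Agent.Lib.Helper10.ConstSch1
import Groth.Agent.Lib.Helper10.DiagPts4
import Groth.Agent.Lib.Helper10.FppfQuot1
import Groth.Agent.Lib.Helper21.DSMap
import Groth.Prelude.Def_NonAbH2
import Groth.Prelude.Def_TwC

/-!
# The Artin–Schreier sequence is exact for the fpqc topology
-/

set_option autoImplicit false
set_option backward.isDefEq.respectTransparency.types false
set_option maxHeartbeats 4000000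
set_option synthInstance.maxHeartbeats 400000
universe u
open CategoryTheory CategoryTheory.Limits AlgebraicGeometry MonoidalCategory
  CartesianMonoidalCategory MonObj GrpObj

namespace Groth.Agent.Lib.Helper10.ArtSch

open Groth.Agent.Lib.Helper21.GaPts Groth.Agent.Lib.Helper10.ConstSch
  Groth.Agent.Lib.Helper10.DiagHom

variable {S : Scheme.{u}}

/-- restriction of an object over `S` to an open -/
noncomputable abbrev res (T : Over S) (U : T.left.Opens) : Over S := Over.mk (U.ι ≫ T.hom)

/-- the inclusion -/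
noncomputable abbrev resι (T : Over S) (U : T.left.Opens) : res T U ⟶ T := Over.homMk U.ι rfl

theorem hom_ext_cover {T X : Over S} {I : Type*} (V : I → T.left.Opens) (hc : ⨆ m, V m = ⊤)
    (f g : T ⟶ X) (h : ∀ m, resι T (V m) ≫ f = resι T (V m) ≫ g) : f = g := by
  apply Over.OverMorphism.ext
  have hc' : TopologicalSpace.IsOpenCover V := hc
  apply (T.left.openCoverOfIsOpenCover V hc').hom_ext
  intro m
  exact congrArg (fun k => k.left) (h m)

variable (p : ℕ) [hpp : Fact p.Prime] (hp : (p : Γ(S, ⊤)) = 0)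

include hp in
theorem charT (T : Over S) : (p : Γ(T.left, ⊤)) = 0 := by
  have := congrArg T.hom.appTop hp
  simpa using this

/-- the index group -/
abbrev MZ : Type := Multiplicative (ZMod p)

variable {G' : Over S} [GrpObj G'] (e : G' ≅ TwC.const S (MZ p))
  (he : TwC.IsConstGrp (MZ p) G' e)
  (i : G' ⟶ Red.Ga S) [hmi : IsMonHom i]
  (hi : Red.gaFn (TwC.pt S (MZ p) (Multiplicative.ofAdd 1) ≫ e.inv ≫ i) = 1)

/-- the constant sections -/
noncomputable def sec (m : MZ p) : 𝟙_ (Over S) ⟶ G' := TwC.pt S (MZ p) m ≫ e.inv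

include he in
theorem sec_mul (m m' : MZ p) : sec p e (m * m') = sec p e m * sec p e m' := (he m m').symm

include he in
theorem sec_one : sec p e 1 = 1 := by
  have h := sec_mul p e he 1 1
  rw [_root_.mul_one] at h
  have h2 : sec p e 1 * 1 = sec p e 1 * sec p e 1 := by rw [_root_.mul_one]; exact h
  exact (mul_left_cancel h2).symm

include he hi hmi in
theorem gaFn_sec (m : MZ p) :
    Red.gaFn (sec p e m ≫ i) = psi p (charT p hp (𝟙_ (Over S))) (Multiplicative.toAdd m) := by
  have key : ∀ n : ℕ, Red.gaFn (sec p e (Multiplicative.ofAdd (n : ZMod p)) ≫ i) =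
      (n : Γ((𝟙_ (Over S)).left, ⊤)) := by
    intro n
    induction n with
    | zero =>
      have : (Multiplicative.ofAdd ((0 : ℕ) : ZMod p)) = (1 : MZ p) := by simp
      rw [this, sec_one p e he, MonObj.one_comp i, gaFn_one]
      simp
    | succ n ih =>
      have : (Multiplicative.ofAdd ((n + 1 : ℕ) : ZMod p)) =
          (Multiplicative.ofAdd ((n : ℕ) : ZMod p)) * Multiplicative.ofAdd (1 : ZMod p) := by
        rw [← ofAdd_add]; simp
      rw [this, sec_mul p e he, MonObj.mul_comp _ _ i, gaFn_mul, ih]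
      have h1 : Red.gaFn (sec p e (Multiplicative.ofAdd (1 : ZMod p)) ≫ i) = 1 := by
        rw [sec, Category.assoc]; exact hi
      rw [h1]
      simp
  have hm : m = Multiplicative.ofAdd (((Multiplicative.toAdd m).val : ℕ) : ZMod p) := by
    rw [ZMod.natCast_zmod_val]; rfl
  conv_lhs => rw [hm]
  rw [key, ← psi_natCast p (charT p hp (𝟙_ (Over S))), ZMod.natCast_zmod_val]

theorem res_comp (T : Over S) (z : T ⟶ G') (m : MZ p) (U : T.left.Opens)
    (hU : U ≤ pre (z ≫ e.hom).left m) :
    resι T U ≫ z = toUnit (res T U) ≫ sec p e m := by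
  rw [← cancel_mono e.hom, Category.assoc, Category.assoc, sec, Category.assoc, e.inv_hom_id,
    Category.comp_id]
  apply Over.OverMorphism.ext
  have h1 := ι_comp_of_le (z ≫ e.hom).left m U hU
  have h2 : (z ≫ e.hom).left ≫ str S (MZ p) = T.hom := Over.w (z ≫ e.hom)
  rw [h2] at h1
  exact h1

include he hi hmi in
theorem gaFn_res (T : Over S) (z : T ⟶ G') (m : MZ p) (U : T.left.Opens)
    (hU : U ≤ pre (z ≫ e.hom).left m) :
    U.ι.appTop (Red.gaFn (z ≫ i)) =
      (U.ι ≫ T.hom).appTop (psi p (charT p hp (𝟙_ (Over S))) (Multiplicative.toAdd m)) := by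
  have h := res_comp p e T z m U hU
  have h1 : Red.gaFn (resι T U ≫ z ≫ i) = U.ι.appTop (Red.gaFn (z ≫ i)) := gaFn_comp _ _
  rw [← h1, ← Category.assoc, h, Category.assoc, gaFn_comp, gaFn_sec p hp e he i hi]
  rfl

include he hi hp hmi in
theorem mono_i : Mono i := by
  refine ⟨fun {T} z z' h => ?_⟩
  have key : ∀ (z z' : T ⟶ G'), z ≫ i = z' ≫ i →
      ∀ m, pre (z ≫ e.hom).left m ≤ pre (z' ≫ e.hom).left m := by
    intro z z' h m x hx
    obtain ⟨m', hm'⟩ := exists_mem_cmp ((z' ≫ e.hom).left.base x)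
    by_cases hmm : m' = m
    · subst hmm; exact hm'
    · exfalso
      set U := pre (z ≫ e.hom).left m ⊓ pre (z' ≫ e.hom).left m' with hUdef
      have hxU : x ∈ U := ⟨hx, hm'⟩
      have h1 := gaFn_res p hp e he i hi T z m U inf_le_left
      have h2 := gaFn_res p hp e he i hi T z' m' U inf_le_right
      rw [h, h2] at h1
      have hu : IsUnit ((U.ι ≫ T.hom).appTop
          (psi p (charT p hp (𝟙_ (Over S))) (Multiplicative.toAdd m') -
            psi p (charT p hp (𝟙_ (Over S))) (Multiplicative.toAdd m))) :=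
        (isUnit_psi_sub p _ _ _ (fun hh => hmm (Multiplicative.toAdd.injective hh))).map _
      rw [map_sub, h1, sub_self] at hu
      haveI := nontrivial_Γ_of_nonempty U.toScheme ⟨x, hxU⟩
      exact not_isUnit_zero hu
  have h3 : z ≫ e.hom = z' ≫ e.hom := by
    apply Over.OverMorphism.ext
    apply hom_ext_of_pre_le _ _ ?_ (key z z' h)
    have h2 : (z ≫ e.hom).left ≫ str S (MZ p) = T.hom := Over.w (z ≫ e.hom)
    have h2' : (z' ≫ e.hom).left ≫ str S (MZ p) = T.hom := Over.w (z' ≫ e.hom)
    rw [h2, h2']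
  exact (cancel_mono e.hom).mp h3

variable (P : Red.Ga S ⟶ Red.Ga S)
  (hP : ∀ (T : Over S) (x : T ⟶ Red.Ga S), Red.gaFn (x ≫ P) = Red.gaFn x - Red.gaFn x ^ p)

include he hi hp hP hmi in
theorem i_comp_P : i ≫ P = 1 := by
  apply hom_ext_cover (fun m => pre (e.hom).left m) (iSup_pre _)
  intro m
  have h := res_comp p e G' (𝟙 G') m (pre (e.hom).left m) (by rw [Category.id_comp])
  rw [Category.comp_id] at h
  have h1 : sec p e m ≫ i ≫ P = 1 := by
    apply gaFn_injective
    rw [← Category.assoc, hP, gaFn_sec p hp e he i hi, psi_pow, sub_self, gaFn_one]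
  rw [MonObj.comp_one, h, Category.assoc, h1, MonObj.comp_one]

include he hi hp hP hmi in
theorem exists_lift (T : Over S) (c : T ⟶ Red.Ga S) (hc : c ≫ P = 1) :
    ∃ z : T ⟶ G', z ≫ i = c := by
  classical
  set x := Red.gaFn c with hxdef
  have hT := charT p hp T
  have hx : x ^ p - x = 0 := by
    have h1 := congrArg Red.gaFn hc
    rw [hP, gaFn_one] at h1
    rw [← neg_sub, h1, neg_zero]
  let V : MZ p → T.left.Opens := fun m =>
    T.left.basicOpen (upoly p hT x (Multiplicative.toAdd m))
  have hd : ∀ m m', m ≠ m' → Disjoint (V m) (V m') := by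
    intro m m' h
    rw [disjoint_iff]
    change T.left.basicOpen _ ⊓ T.left.basicOpen _ = ⊥
    rw [← Scheme.basicOpen_mul, upoly_mul_upoly p hT x hx _ _
      (fun hh => h (Multiplicative.toAdd.injective hh)), Scheme.basicOpen_zero]
  have hcov : ⨆ m, V m = ⊤ := by
    rw [eq_top_iff]
    intro t _
    have h0 : t ∉ T.left.basicOpen (∏ a : ZMod p, (x - psi p hT a)) := by
      rw [← pow_sub_eq_prod, hx, Scheme.basicOpen_zero]
      exact fun h => h
    have h1 : ∃ a, t ∉ T.left.basicOpen (x - psi p hT a) := by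
      by_contra hcon
      push Not at hcon
      exact h0 (mem_basicOpen_prod _ _ t (fun a _ => hcon a))
    obtain ⟨a, ha⟩ := h1
    refine TopologicalSpace.Opens.mem_iSup.mpr ⟨Multiplicative.ofAdd a, ?_⟩
    change t ∈ T.left.basicOpen (upoly p hT x a)
    apply mem_basicOpen_prod
    intro b hb
    have hba : b ≠ a := (Finset.mem_erase.mp hb).1
    have hu : IsUnit (psi p hT a - psi p hT b) := isUnit_psi_sub p hT _ _ hba.symm
    have h2 : t ∈ T.left.basicOpen (psi p hT a - psi p hT b) := by
      rw [Scheme.basicOpen_of_isUnit _ hu]; trivial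
    have h3 : psi p hT a - psi p hT b = (x - psi p hT b) + (-1) * (x - psi p hT a) := by ring
    rw [h3] at h2
    rcases Scheme.basicOpen_add_le (X := T.left) _ _ h2 with h4 | h4
    · exact h4
    · rw [Scheme.basicOpen_mul] at h4
      exact absurd h4.2 ha
  let z₀ : T ⟶ TwC.const S (MZ p) :=
    Over.homMk (ofCover V hcov hd T.hom) (ofCover_str V hcov hd T.hom)
  refine ⟨z₀ ≫ e.inv, ?_⟩
  apply hom_ext_cover V hcov
  intro m
  apply gaFn_injective
  have hle : V m ≤ pre ((z₀ ≫ e.inv) ≫ e.hom).left m := by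
    rw [Category.assoc, e.inv_hom_id, Category.comp_id]
    exact le_pre_ofCover V hcov hd T.hom m
  have h1 := gaFn_res p hp e he i hi T (z₀ ≫ e.inv) m (V m) hle
  have h2 : Red.gaFn (resι T (V m) ≫ (z₀ ≫ e.inv) ≫ i) =
      (V m).ι.appTop (Red.gaFn ((z₀ ≫ e.inv) ≫ i)) := gaFn_comp _ _
  have h3 : Red.gaFn (resι T (V m) ≫ c) = (V m).ι.appTop x := gaFn_comp _ _
  rw [h2, h1, h3]
  have h4 : ((V m).ι ≫ T.hom).appTop
      (psi p (charT p hp (𝟙_ (Over S))) (Multiplicative.toAdd m)) =
      (V m).ι.appTop (psi p hT (Multiplicative.toAdd m)) := by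
    rw [Scheme.Hom.comp_appTop, CommRingCat.comp_apply]
    congr 1
    exact psi_comp p _ T.hom.appTop.hom hT _
  rw [h4]
  have h5 : (V m).ι.appTop (x - psi p hT (Multiplicative.toAdd m)) *
      (V m).ι.appTop (upoly p hT x (Multiplicative.toAdd m)) = 0 := by
    rw [← map_mul, sub_mul_upoly, hx, map_zero]
  have h6 : IsUnit ((V m).ι.appTop (upoly p hT x (Multiplicative.toAdd m))) :=
    isUnit_ι_appTop_basicOpen _
  have h7 := (h6.mul_left_eq_zero).mp h5
  rw [map_sub, sub_eq_zero] at h7
  exact h7.symm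

include he hi hp hP hmi in
theorem isKernel : IsPullback i (toUnit G') P η[Red.Ga S] := by
  haveI := mono_i p hp e he i hi
  have hone : ∀ {W : Over S} (a : W ⟶ Red.Ga S) (b : W ⟶ 𝟙_ (Over S)),
      a ≫ P = b ≫ η[Red.Ga S] → a ≫ P = 1 := by
    intro W a b hab
    rw [hab, Hom.one_def]
    congr 1
    exact toUnit_unique _ _
  refine Groth.Agent.Lib.Helper10.HomSp.isPullback_of_lift _ _ _ _ ?_
    (fun {W} a b hab => (exists_lift p hp e he i hi P hP W a (hone a b hab)).choose) ?_ ?_ ?_
  · rw [i_comp_P p hp e he i hi P hP, Hom.one_def]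
  · intro W a b hab
    exact (exists_lift p hp e he i hi P hP W a (hone a b hab)).choose_spec
  · intro W a b hab
    exact toUnit_unique _ _
  · intro W m m' h1 _
    exact (cancel_mono i).mp h1

include hp hP in
theorem isMonHom_P : IsMonHom P := by
  apply isMonHom_of_points
  · apply gaFn_injective
    rw [hP, gaFn_one, zero_pow hpp.out.ne_zero, sub_zero]
  · intro T x y
    apply gaFn_injective
    rw [hP, gaFn_mul, gaFn_mul, hP, hP]
    exact AS_add p (charT p hp T) _ _

theorem isAffineHom_Ga : IsAffineHom (Red.Ga S).hom := by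
  haveI : IsAffineHom (Red.GaZ.{u}).hom := by
    change IsAffineHom (Spec.map _)
    infer_instance
  exact MorphismProperty.pullback_snd (P := @IsAffineHom) _ _ this

include he hi hp hP hmi in
/-- **Artin–Schreier**. -/
theorem isExactSeq : NonAbH1.IsExactSeq Scheme.fpqcPrecoverage i P := by
  haveI := isMonHom_P p hp P hP
  refine ⟨inferInstance, inferInstance, i_comp_P p hp e he i hi P hP, ?_, ?_⟩
  · exact Groth.Agent.Lib.Helper10.FppfQuot.isPullback_of_kernel _ _
      (isKernel p hp e he i hi P hP)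
  · obtain ⟨h1, h2⟩ := flat_surjective_of_gaFn p hpp.out.two_le P hP
    haveI := h1
    haveI := h2
    haveI : IsAffineHom (Red.Ga S).hom := isAffineHom_Ga
    haveI : IsAffineHom P.left := by
      haveI : IsAffineHom (P.left ≫ (Red.Ga S).hom) := by
        rw [Over.w]; infer_instance
      exact IsAffineHom.of_comp _ (Red.Ga S).hom
    refine ⟨Presieve.singleton P.left, Scheme.Hom.singleton_mem_fpqcPrecoverage _, ?_⟩
    rintro S' g ⟨⟩
    exact ⟨𝟙 _, Category.id_comp _⟩

end Groth.Agent.Lib.Helper10.ArtSch
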