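import Mathlib

/-!
# Artin–Rees on the cohomology of `J^n ⊗ K`

For a Noetherian ring `A`, a complex `K` of finite flat modules and an ideal `J` annihilating the
cohomology of `K`, the maps `J^(n+k) ⊗ K → J^k ⊗ K` are zero on `H^q` for `n` large (uniformly in
`k`).
-/

set_option autoImplicit false
universe w u
open CategoryTheory CategoryTheory.Limits MonoidalCategory TensorProduct

namespace Groth.Agent.Lib.Helper10.ArtinReesCoh

variable {A : Type u} [CommRing A]

section bridge

/-- Elementwise criterion for a morphism of complexes of modules to vanish on `H^q`. -/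
theorem homologyMap_eq_zero_of_exists {P Q : CochainComplex (ModuleCat.{u} A) ℤ} (φ : P ⟶ Q)
    (q : ℤ)
    (h : ∀ z : P.X q, P.d q (q + 1) z = 0 → ∃ y : Q.X (q - 1), Q.d (q - 1) q y = φ.f q z) :
    HomologicalComplex.homologyMap φ q = 0 := by
  rw [← cancel_epi (P.homologyπ q), HomologicalComplex.homologyπ_naturality, comp_zero]
  ext z
  obtain ⟨y, hy⟩ := h (P.iCycles q z) (by
    rw [← ModuleCat.comp_apply, P.iCycles_d]
    rfl)
  have e : HomologicalComplex.cyclesMap φ q z = Q.toCycles (q - 1) q y := by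
    apply (ModuleCat.mono_iff_injective (Q.iCycles q)).mp inferInstance
    rw [← ModuleCat.comp_apply, ← ModuleCat.comp_apply, HomologicalComplex.cyclesMap_i,
      Q.toCycles_i, ModuleCat.comp_apply, hy]
  rw [ModuleCat.comp_apply, e, ← ModuleCat.comp_apply, Q.toCycles_comp_homologyπ]
  rfl

/-- If `x` kills `H^q(K)` then `x • z` is a boundary for every cycle `z`. -/
theorem exists_d_eq_smul (K : CochainComplex (ModuleCat.{u} A) ℤ) (q : ℤ) (x : A)
    (hx : ∀ c : K.homology q, x • c = 0) (z : K.X q) (hz : K.d q (q + 1) z = 0) :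
    ∃ y : K.X (q - 1), K.d (q - 1) q y = x • z := by
  have hker := K.cyclesIsKernel q (q + 1) (by simp)
  have hex1 : (ShortComplex.mk (K.iCycles q) (K.d q (q + 1)) (K.iCycles_d q (q + 1))).Exact :=
    ShortComplex.exact_of_f_is_kernel _ hker
  obtain ⟨z', hz'⟩ := (ShortComplex.moduleCat_exact_iff _).mp hex1 z hz
  have hcok := K.homologyIsCokernel (q - 1) q (by simp)
  have hex2 : (ShortComplex.mk (K.toCycles (q - 1) q) (K.homologyπ q)
      (K.toCycles_comp_homologyπ (q - 1) q)).Exact :=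
    ShortComplex.exact_of_g_is_cokernel _ hcok
  have h0 : K.homologyπ q (x • z') = 0 := by
    rw [map_smul]
    exact hx _
  obtain ⟨y, hy⟩ := (ShortComplex.moduleCat_exact_iff _).mp hex2 (x • z') h0
  refine ⟨y, ?_⟩
  have h1 : K.d (q - 1) q y = K.iCycles q (K.toCycles (q - 1) q y) := by
    rw [← ModuleCat.comp_apply, K.toCycles_i]
  have hy' : K.toCycles (q - 1) q y = x • z' := hy
  have hz'' : K.iCycles q z' = z := hz'
  rw [h1, hy', map_smul, hz'']

end bridge

section mu

variable (I : Ideal A) (M : Type u) [AddCommGroup M] [Module A M]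

/-- The multiplication map `I ⊗ M → M`. -/
noncomputable def μ : ↥I ⊗[A] M →ₗ[A] M :=
  TensorProduct.lift ((LinearMap.lsmul A M).comp I.subtype)

@[simp]
theorem μ_tmul (x : ↥I) (m : M) : μ I M (x ⊗ₜ[A] m) = (x : A) • m := by
  simp [μ]

theorem μ_eq : μ I M = (TensorProduct.lid A M).toLinearMap.comp (LinearMap.rTensor M I.subtype) := by
  apply TensorProduct.ext'
  intro x m
  simp

theorem μ_injective [Module.Flat A M] : Function.Injective (μ I M) := by
  rw [μ_eq]
  exact (TensorProduct.lid A M).injective.comp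
    (Module.Flat.rTensor_preserves_injective_linearMap I.subtype I.subtype_injective)

theorem range_μ : LinearMap.range (μ I M) = I • (⊤ : Submodule A M) := by
  apply le_antisymm
  · rintro _ ⟨w, rfl⟩
    induction w using TensorProduct.induction_on with
    | zero => simp
    | tmul x m =>
      rw [μ_tmul]
      exact Submodule.smul_mem_smul x.2 Submodule.mem_top
    | add x y hx hy =>
      rw [map_add]
      exact add_mem hx hy
  · rw [Submodule.smul_le]
    intro r hr m _
    exact ⟨(⟨r, hr⟩ : ↥I) ⊗ₜ[A] m, by simp⟩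

variable {M}

theorem μ_lTensor {M' : Type u} [AddCommGroup M'] [Module A M'] (f : M →ₗ[A] M')
    (w : ↥I ⊗[A] M) : μ I M' (LinearMap.lTensor (↥I) f w) = f (μ I M w) := by
  induction w using TensorProduct.induction_on with
  | zero => simp
  | tmul x m => simp
  | add x y hx hy => simp only [map_add, hx, hy]

theorem μ_rTensor {I I' : Ideal A} (h : I ≤ I') (w : ↥I ⊗[A] M) :
    μ I' M (LinearMap.rTensor M (Submodule.inclusion h) w) = μ I M w := by
  induction w using TensorProduct.induction_on with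
  | zero => simp
  | tmul x m => simp
  | add x y hx hy => simp only [map_add, hx, hy]

end mu

section core

variable (K : CochainComplex (ModuleCat.{u} A) ℤ) (J : Ideal A)

/-- The inclusion `J^e → J^e'` for `e' ≤ e`. -/
noncomputable def incl {e e' : ℕ} (h : e' ≤ e) :
    ModuleCat.of A ↥(J ^ e) ⟶ ModuleCat.of A ↥(J ^ e') :=
  ModuleCat.ofHom (Submodule.inclusion (Ideal.pow_le_pow_right h))

/-- The complex `I ⊗ K`. -/
noncomputable abbrev tK (I : Ideal A) : CochainComplex (ModuleCat.{u} A) ℤ :=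
  (((curriedTensor (ModuleCat.{u} A)).obj (ModuleCat.of A ↥I)).mapHomologicalComplex
    (ComplexShape.up ℤ)).obj K

/-- The morphism of complexes `J^e ⊗ K → J^e' ⊗ K`. -/
noncomputable abbrev φ {e e' : ℕ} (h : e' ≤ e) : tK K (J ^ e) ⟶ tK K (J ^ e') :=
  (NatTrans.mapHomologicalComplex ((curriedTensor (ModuleCat.{u} A)).map (incl J h))
    (ComplexShape.up ℤ)).app K

theorem tK_d_apply (I : Ideal A) (i j : ℤ) (w : ↥I ⊗[A] (K.X i)) :
    (tK K I).d i j w = LinearMap.lTensor (↥I) (K.d i j).hom w :=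
  rfl

theorem φ_f_apply {e e' : ℕ} (h : e' ≤ e) (q : ℤ) (w : ↥(J ^ e) ⊗[A] (K.X q)) :
    (φ K J h).f q w =
      LinearMap.rTensor (K.X q) (Submodule.inclusion (Ideal.pow_le_pow_right h)) w :=
  rfl

theorem φ_comp {e e' e'' : ℕ} (h : e' ≤ e) (h' : e'' ≤ e') :
    φ K J h ≫ φ K J h' = φ K J (h'.trans h) := by
  have : incl J h ≫ incl J h' = incl J (h'.trans h) := rfl
  rw [φ, φ, φ, ← this, CategoryTheory.Functor.map_comp, NatTrans.mapHomologicalComplex_comp, NatTrans.comp_app]

theorem φ_refl (e : ℕ) : φ K J (le_refl e) = 𝟙 _ := by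
  have : incl J (le_refl e) = 𝟙 _ := rfl
  rw [φ, this, CategoryTheory.Functor.map_id, NatTrans.mapHomologicalComplex_id, NatTrans.id_app]

variable [IsNoetherianRing A]

/-- Artin–Rees step in degree `q`. -/
theorem exists_homologyMap_eq_zero (q : ℤ) [Module.Finite A (K.X q)]
    [Module.Flat A (K.X q)] [Module.Flat A (K.X (q - 1))]
    (hJ : ∀ x ∈ J, ∀ c : ↑(K.homology q), x • c = 0) :
    ∃ c : ℕ, ∀ (n k : ℕ), c < n →
      HomologicalComplex.homologyMap (φ K J (Nat.le_add_left k n)) q = 0 := by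
  set N : Submodule A (K.X q) := LinearMap.ker (K.d q (q + 1)).hom with hN
  obtain ⟨c, hc⟩ := Ideal.exists_pow_inf_eq_pow_smul J N
  refine ⟨c, fun n k hn => ?_⟩
  apply homologyMap_eq_zero_of_exists
  intro w hw
  -- view `w` as a tensor
  change ↥(J ^ (n + k)) ⊗[A] (K.X q) at w
  rw [tK_d_apply] at hw
  set z : K.X q := μ (J ^ (n + k)) (K.X q) w with hz
  have hzN : z ∈ N := by
    rw [hN, LinearMap.mem_ker, hz, ← μ_lTensor, hw]
    exact map_zero _
  have hzJ : z ∈ J ^ (n + k) • (⊤ : Submodule A (K.X q)) := by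
    rw [← range_μ]
    exact ⟨w, rfl⟩
  have hz1 : z ∈ J ^ (n + k - c) • (J ^ c • ⊤ ⊓ N) := by
    rw [← hc (n + k) (by lia)]
    exact ⟨hzJ, hzN⟩
  have hz2 : z ∈ J ^ k • (J • N) := by
    have h1 : J ^ (n + k - c) • (J ^ c • ⊤ ⊓ N) ≤ J ^ (k + 1) • N :=
      Submodule.smul_mono (Ideal.pow_le_pow_right (by lia)) inf_le_right
    have h2 := h1 hz1
    rwa [pow_succ, Submodule.mul_smul] at h2
  -- `J • N` consists of boundaries
  have hB : J • N ≤ LinearMap.range (K.d (q - 1) q).hom := by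
    rw [Submodule.smul_le]
    intro x hx z₀ hz₀
    obtain ⟨y, hy⟩ := exists_d_eq_smul K q x (hJ x hx) z₀ hz₀
    exact ⟨y, hy⟩
  have hB' : J ^ k • (J • N) ≤
      Submodule.map (K.d (q - 1) q).hom (J ^ k • (⊤ : Submodule A (K.X (q - 1)))) := by
    rw [Submodule.smul_le]
    intro r hr n' hn'
    obtain ⟨y', hy'⟩ := hB hn'
    refine ⟨r • y', Submodule.smul_mem_smul hr Submodule.mem_top, ?_⟩
    rw [map_smul, hy']
  obtain ⟨y₀, hy₀, hy₀z⟩ := hB' hz2
  rw [← range_μ] at hy₀
  obtain ⟨y, rfl⟩ := hy₀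
  refine ⟨y, ?_⟩
  apply μ_injective (J ^ k) (K.X q)
  rw [tK_d_apply, μ_lTensor, φ_f_apply, μ_rTensor]
  exact hy₀z

end core

end Groth.Agent.Lib.Helper10.ArtinReesCoh
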