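import Mathlib
import Groth.Prelude.Def_W4bk4git07Quot
import Groth.Agent.Lib.Helper10.HomSp1

/-!
# Base change of a group action along a morphism of the quotient
-/

set_option autoImplicit false
set_option backward.isDefEq.respectTransparency.types false
set_option maxHeartbeats 4000000
set_option synthInstance.maxHeartbeats 400000
universe u
open CategoryTheory CategoryTheory.Limits AlgebraicGeometry MonoidalCategory
  CartesianMonoidalCategory MonObj GrpObj TopologicalSpace

namespace Groth.Agent.Lib.Helper10.BCAct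

open Groth.Agent.Lib.Helper10.HomSp

variable {S : Scheme.{u}} {G X Y X' Y' : Over S} [GrpObj G] (a : AlgGrp.Action G X) (φ : X ⟶ Y)
  (pr : X' ⟶ X) (φ' : X' ⟶ Y') (g : Y' ⟶ Y) (hpb : IsPullback pr φ' φ g)

include hpb in
theorem act_w (hinv : GIT.IsInvariant a φ) :
    ((G ◁ pr) ≫ a.act) ≫ φ = (snd G X' ≫ φ') ≫ g := by
  rw [Category.assoc, hinv, ← Category.assoc, whiskerLeft_snd, Category.assoc, Category.assoc,
    hpb.w]

include hpb in
/-- The induced action on a base change. -/
theorem exists_induced_action (hinv : GIT.IsInvariant a φ) :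
    ∃ a' : AlgGrp.Action G X', a'.act ≫ pr = (G ◁ pr) ≫ a.act ∧ GIT.IsInvariant a' φ' := by
  let act' : G ⊗ X' ⟶ X' := hpb.lift ((G ◁ pr) ≫ a.act) (snd G X' ≫ φ') (act_w a φ pr φ' g hpb hinv)
  have h1 : act' ≫ pr = (G ◁ pr) ≫ a.act := hpb.lift_fst _ _ _
  have h2 : act' ≫ φ' = snd G X' ≫ φ' := hpb.lift_snd _ _ _
  refine ⟨⟨act', ?_, ?_⟩, h1, h2⟩
  · apply hpb.hom_ext
    · rw [Category.assoc, h1, ← whisker_exchange_assoc, a.one_act, leftUnitor_naturality]
    · rw [Category.assoc, h2, ← Category.assoc, whiskerRight_snd, leftUnitor_hom]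
  · apply hpb.hom_ext
    · rw [Category.assoc, h1, ← whisker_exchange_assoc, a.mul_act]
      simp only [Category.assoc]
      rw [associator_naturality_right_assoc, h1,
        ← MonoidalCategory.whiskerLeft_comp_assoc G act' pr,
        h1, MonoidalCategory.whiskerLeft_comp, Category.assoc]
    · simp only [Category.assoc]
      rw [h2, whiskerLeft_snd_assoc, h2]
      simp

section Psi

theorem w_left {X Y X' Y' : Over S} {φ : X ⟶ Y} {pr : X' ⟶ X} {φ' : X' ⟶ Y'} {g : Y' ⟶ Y}
    (hpb : IsPullback pr φ' φ g) : pr.left ≫ φ.left = φ'.left ≫ g.left := by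
  rw [← Over.comp_left, ← Over.comp_left, hpb.w]

/-- The comparison map `X' ×_{Y'} X' ⟶ X ×_Y X`. -/
noncomputable def kmap {X Y X' Y' : Over S} {φ : X ⟶ Y} {pr : X' ⟶ X} {φ' : X' ⟶ Y'} {g : Y' ⟶ Y}
    (hpb : IsPullback pr φ' φ g) : pullback φ'.left φ'.left ⟶ pullback φ.left φ.left :=
  pullback.map φ'.left φ'.left φ.left φ.left pr.left pr.left g.left
    (w_left hpb).symm (w_left hpb).symm

variable {a φ pr φ' g}

theorem kmap_fst : kmap hpb ≫ pullback.fst φ.left φ.left =
    pullback.fst φ'.left φ'.left ≫ pr.left := pullback.lift_fst _ _ _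

theorem kmap_snd : kmap hpb ≫ pullback.snd φ.left φ.left =
    pullback.snd φ'.left φ'.left ≫ pr.left := pullback.lift_snd _ _ _

/-- `X' ×_{Y'} X'` is the base change of `X ×_Y X` along `pr` on the second factor. -/
theorem isPullback_kmap_snd :
    IsPullback (kmap hpb) (pullback.snd φ'.left φ'.left)
      (pullback.snd φ.left φ.left) pr.left := by
  have hL : IsPullback pr.left φ'.left φ.left g.left := hpb.map (Over.forget S)
  have back : IsPullback (pullback.fst φ'.left φ'.left) (pullback.snd φ'.left φ'.left)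
      φ'.left φ'.left := IsPullback.of_hasPullback _ _
  have front : IsPullback (pullback.fst φ.left φ.left) (pullback.snd φ.left φ.left)
      φ.left φ.left := IsPullback.of_hasPullback _ _
  have outer := back.paste_horiz hL
  have outer' : IsPullback (kmap hpb ≫ pullback.fst φ.left φ.left)
      (pullback.snd φ'.left φ'.left) φ.left (pr.left ≫ φ.left) := by
    rw [kmap_fst, w_left hpb]
    exact outer
  exact IsPullback.of_right outer' (kmap_snd hpb) front

variable (hinv : GIT.IsInvariant a φ) (a' : AlgGrp.Action G X')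
  (ha' : a'.act ≫ pr = (G ◁ pr) ≫ a.act) (hinv' : GIT.IsInvariant a' φ')

include ha' in
theorem PsiY_kmap : GIT.PsiY a' φ' hinv' ≫ kmap hpb =
    (G ◁ pr).left ≫ GIT.PsiY a φ hinv := by
  apply pullback.hom_ext
  · rw [Category.assoc, kmap_fst, Category.assoc]
    unfold GIT.PsiY
    rw [pullback.lift_fst_assoc, pullback.lift_fst, ← Over.comp_left, ← Over.comp_left, ha']
  · rw [Category.assoc, kmap_snd, Category.assoc]
    unfold GIT.PsiY
    rw [pullback.lift_snd_assoc, pullback.lift_snd, ← Over.comp_left, ← Over.comp_left,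
      whiskerLeft_snd]

include ha' in
/-- `(σ', p₂)` is the base change of `(σ, p₂)`. -/
theorem isPullback_PsiY :
    IsPullback (GIT.PsiY a' φ' hinv') (G ◁ pr).left (kmap hpb) (GIT.PsiY a φ hinv) := by
  have right := (isPullback_kmap_snd hpb).flip
  have outer0 : IsPullback (snd G X').left (G ◁ pr).left pr.left (snd G X).left :=
    ((isPullback_whiskerLeft_snd G pr).map (Over.forget S)).flip
  have e1 : GIT.PsiY a' φ' hinv' ≫ pullback.snd φ'.left φ'.left = (snd G X').left :=
    pullback.lift_snd _ _ _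
  have e2 : GIT.PsiY a φ hinv ≫ pullback.snd φ.left φ.left = (snd G X).left :=
    pullback.lift_snd _ _ _
  have outer : IsPullback (GIT.PsiY a' φ' hinv' ≫ pullback.snd φ'.left φ'.left) (G ◁ pr).left
      pr.left (GIT.PsiY a φ hinv ≫ pullback.snd φ.left φ.left) := by
    rw [e1, e2]
    exact outer0
  exact IsPullback.of_right outer (PsiY_kmap hpb hinv a' ha' hinv') right

include hpb ha' in
theorem surjective_PsiY (horb : Function.Surjective (GIT.PsiY a φ hinv).base) :
    Function.Surjective (GIT.PsiY a' φ' hinv').base := by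
  have h1 : Surjective (GIT.PsiY a φ hinv) := ⟨horb⟩
  have h2 : Surjective (GIT.PsiY a' φ' hinv') :=
    MorphismProperty.of_isPullback (isPullback_PsiY hpb hinv a' ha' hinv').flip h1
  exact h2.1

end Psi

end Groth.Agent.Lib.Helper10.BCAct
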