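import Mathlib
import Groth.Prelude.Def_ChGrp
import Groth.Agent.Lib.Helper10.IdComp8
import Groth.Agent.Lib.Helper10.KPts1
import Groth.Agent.Lib.Helper12.ConstrTop
import Groth.Agent.Lib.Helper16.ReducedSub

/-!
# Group actions over an algebraically closed field: rational points, translations of the space,
and connectedness of a group acting transitively with connected stabilizer
-/

set_option autoImplicit false
set_option backward.isDefEq.respectTransparency.types false
set_option maxHeartbeats 4000000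
set_option synthInstance.maxHeartbeats 400000
universe u
open CategoryTheory CategoryTheory.Limits AlgebraicGeometry MonoidalCategory
  CartesianMonoidalCategory MonObj GrpObj

namespace Groth.Agent.Lib.Helper10.OrbConn

open Groth.Agent.Lib.Helper10

variable {k : Type u} [Field k]

section Points

variable [IsAlgClosed k]

/-- a rational point in the image of a nonempty scheme locally of finite type over `k`. -/
theorem exists_point_mem_range {X : Over (Spec (CommRingCat.of k))} {Y : Scheme.{u}}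
    (f : Y ⟶ X.left) [LocallyOfFiniteType (f ≫ X.hom)] [Nonempty Y] :
    ∃ x : 𝟙_ (Over (Spec (CommRingCat.of k))) ⟶ X, ∀ pt, x.left pt ∈ Set.range f := by
  obtain ⟨φ, hφ⟩ := KPts.exists_section (f ≫ X.hom)
  refine ⟨Over.homMk (φ ≫ f) (by rw [Category.assoc]; exact hφ), fun pt => ⟨φ pt, rfl⟩⟩

theorem exists_point_mem_of_isOpen (X : Over (Spec (CommRingCat.of k))) [LocallyOfFiniteType X.hom]
    (U : Set X.left) (hU : IsOpen U) (hne : U.Nonempty) :
    ∃ x : 𝟙_ (Over (Spec (CommRingCat.of k))) ⟶ X, ∀ pt, x.left pt ∈ U := by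
  let U' : X.left.Opens := ⟨U, hU⟩
  haveI : Nonempty ↥U'.toScheme := by
    obtain ⟨x, hx⟩ := hne
    exact ⟨⟨x, hx⟩⟩
  obtain ⟨x, hx⟩ := exists_point_mem_range (X := X) U'.ι
  refine ⟨x, fun pt => ?_⟩
  have := hx pt
  rw [Scheme.Opens.range_ι] at this
  exact this

theorem exists_point_mem_of_isClosed (X : Over (Spec (CommRingCat.of k)))
    [LocallyOfFiniteType X.hom] (C : Set X.left) (hC : IsClosed C) (hne : C.Nonempty) :
    ∃ x : 𝟙_ (Over (Spec (CommRingCat.of k))) ⟶ X, ∀ pt, x.left pt ∈ C := by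
  let I := Scheme.IdealSheafData.vanishingIdeal (X := X.left) ⟨C, hC⟩
  have hrange : Set.range I.subschemeι = C := by
    rw [Scheme.IdealSheafData.range_subschemeι]
    simp [I]
  haveI : Nonempty ↥I.subscheme := by
    obtain ⟨x, hx⟩ := hne
    rw [← hrange] at hx
    obtain ⟨z, -⟩ := hx
    exact ⟨z⟩
  obtain ⟨x, hx⟩ := exists_point_mem_range (X := X) I.subschemeι
  refine ⟨x, fun pt => ?_⟩
  have := hx pt
  rw [hrange] at this
  exact this

/-- lifting a rational point lying in the image of a morphism locally of finite type. -/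
theorem exists_lift_point_of_mem {X Y : Over (Spec (CommRingCat.of k))} (f : X ⟶ Y)
    [LocallyOfFiniteType f.left] (y : 𝟙_ (Over (Spec (CommRingCat.of k))) ⟶ Y)
    (h : ∀ pt, y.left pt ∈ Set.range f.left) :
    ∃ x : 𝟙_ (Over (Spec (CommRingCat.of k))) ⟶ X, x ≫ f = y := by
  let F := pullback f.left y.left
  let σ : F ⟶ Spec (CommRingCat.of k) := pullback.snd f.left y.left
  haveI : LocallyOfFiniteType σ := inferInstanceAs (LocallyOfFiniteType (pullback.snd f.left y.left))
  haveI : Nonempty F := by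
    obtain ⟨a, ha⟩ := h (KPts.pt k)
    obtain ⟨z, -, -⟩ := Scheme.Pullback.exists_preimage_pullback (f := f.left) (g := y.left)
      a (KPts.pt k) ha
    exact ⟨z⟩
  obtain ⟨φ, hφ⟩ := KPts.exists_section σ
  have hw : (φ ≫ pullback.fst f.left y.left) ≫ f.left = y.left := by
    rw [Category.assoc, pullback.condition, ← Category.assoc]
    change (φ ≫ σ) ≫ y.left = y.left
    rw [hφ, Category.id_comp]
  have hy : y.left ≫ Y.hom = 𝟙 _ := Over.w y
  refine ⟨Over.homMk (φ ≫ pullback.fst f.left y.left) ?_, ?_⟩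
  · rw [← Over.w f, ← Category.assoc, hw]
    exact hy
  · ext
    exact hw

end Points

section Translate

variable {G X : Over (Spec (CommRingCat.of k))} [GrpObj G] (a : AlgGrp.Action G X)

/-- the automorphism of `X` given by a rational point of `G`. -/
noncomputable def atr (g : 𝟙_ (Over (Spec (CommRingCat.of k))) ⟶ G) : X ⟶ X :=
  lift (toUnit X ≫ g) (𝟙 X) ≫ a.act

theorem comp_atr {T : Over (Spec (CommRingCat.of k))} (x : T ⟶ X)
    (g : 𝟙_ (Over (Spec (CommRingCat.of k))) ⟶ G) :
    x ≫ atr a g = lift (toUnit T ≫ g) x ≫ a.act := by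
  rw [atr, comp_lift_assoc, Category.comp_id, ← Category.assoc,
    toUnit_unique (x ≫ toUnit X) (toUnit T)]

theorem atr_atr (g h : 𝟙_ (Over (Spec (CommRingCat.of k))) ⟶ G) :
    atr a g ≫ atr a h = atr a (h * g) := by
  rw [comp_atr]
  conv_rhs => rw [atr, MonObj.comp_mul, AlgGrp.Action.lift_mul_act]
  rfl

theorem atr_one : atr a (1 : 𝟙_ (Over (Spec (CommRingCat.of k))) ⟶ G) = 𝟙 X := by
  rw [atr, MonObj.comp_one, AlgGrp.Action.lift_one_act]

instance (g : 𝟙_ (Over (Spec (CommRingCat.of k))) ⟶ G) : IsIso (atr a g) :=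
  ⟨⟨atr a g⁻¹, by rw [atr_atr, inv_mul_cancel, atr_one], by rw [atr_atr, mul_inv_cancel, atr_one]⟩⟩

theorem ltr_orbitMap (g : 𝟙_ (Over (Spec (CommRingCat.of k))) ⟶ G)
    (x₀ : 𝟙_ (Over (Spec (CommRingCat.of k))) ⟶ X) :
    IdComp.ltr g ≫ a.orbitMap x₀ = a.orbitMap x₀ ≫ atr a g := by
  rw [comp_atr, AlgGrp.Action.comp_orbitMap, IdComp.ltr, AlgGrp.Action.lift_mul_act]
  rfl

end Translate

end Groth.Agent.Lib.Helper10.OrbConn
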