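import Mathlib
import Groth.Agent.Lib.Helper10.OrbConn1

/-!
# Closed orbits, part 1: a topological lemma on constructible sets, and stable subsets
-/

set_option autoImplicit false
set_option backward.isDefEq.respectTransparency.types false
set_option maxHeartbeats 4000000
set_option synthInstance.maxHeartbeats 400000
universe u
open CategoryTheory CategoryTheory.Limits AlgebraicGeometry MonoidalCategory
  CartesianMonoidalCategory MonObj GrpObj

namespace Groth.Agent.Lib.Helper10.ClosedOrb

open Groth.Agent.Lib.Helper10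

section Top

variable {X : Type*} [TopologicalSpace X]

/-- a finite union of irreducible constructible sets contains a nonempty relatively open subset of
its closure. -/
theorem exists_open_inter_subset (S : Finset (Set X)) (hne : S.Nonempty)
    (hirr : ∀ A ∈ S, IsIrreducible A) (hcons : ∀ A ∈ S, Topology.IsConstructible A) :
    ∃ U : Set X, IsOpen U ∧ (closure (⋃₀ (S : Set (Set X))) ∩ U).Nonempty ∧
      closure (⋃₀ (S : Set (Set X))) ∩ U ⊆ ⋃₀ (S : Set (Set X)) := by
  classical
  let S' : Finset (Set X) := S.image closure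
  have hS'ne : S'.Nonempty := hne.image _
  obtain ⟨Y, hYS', hYmax⟩ := S'.exists_maximal hS'ne
  obtain ⟨A₀, hA₀, rfl⟩ := Finset.mem_image.mp hYS'
  let T : Set X := ⋃₀ ((S'.filter (· ≠ closure A₀) : Finset (Set X)) : Set (Set X))
  have hTcl : IsClosed T := by
    change IsClosed (⋃₀ ((S'.filter (· ≠ closure A₀) : Finset (Set X)) : Set (Set X)))
    rw [Set.sUnion_eq_biUnion]
    apply Set.Finite.isClosed_biUnion (Finset.finite_toSet _)
    intro F hF
    rw [Finset.mem_coe, Finset.mem_filter] at hF
    obtain ⟨B, -, rfl⟩ := Finset.mem_image.mp hF.1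
    exact isClosed_closure
  have hYirr : IsIrreducible (closure A₀) := (hirr A₀ hA₀).closure
  have hcl : closure (⋃₀ (S : Set (Set X))) ⊆ closure A₀ ∪ T := by
    apply closure_minimal _ (isClosed_closure.union hTcl)
    rintro x ⟨B, hB, hxB⟩
    by_cases h : closure B = closure A₀
    · left; rw [← h]; exact subset_closure hxB
    · right
      refine ⟨closure B, ?_, subset_closure hxB⟩
      rw [Finset.mem_coe, Finset.mem_filter]
      exact ⟨Finset.mem_image_of_mem _ hB, h⟩
  have hYT : ¬ closure A₀ ⊆ T := by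
    intro hsub
    obtain ⟨F, hF, hYF⟩ := isIrreducible_iff_sUnion_isClosed.mp hYirr
      (S'.filter (· ≠ closure A₀)) (by
        intro F hF
        rw [Finset.mem_filter] at hF
        obtain ⟨B, -, rfl⟩ := Finset.mem_image.mp hF.1
        exact isClosed_closure) hsub
    rw [Finset.mem_filter] at hF
    exact hF.2 (le_antisymm (hYmax hF.1 hYF) hYF)
  obtain ⟨U, hU, hUne, hUsub⟩ := Groth.Agent.Lib.Helper12.exists_open_subset_of_dense
    (hcons A₀ hA₀) hYirr (by
      rw [Set.inter_eq_left.mpr subset_closure])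
  refine ⟨U ∩ Tᶜ, hU.inter hTcl.isOpen_compl, ?_, ?_⟩
  · have h1 : (closure A₀ ∩ U).Nonempty := by rwa [Set.inter_comm]
    have h2 : (closure A₀ ∩ Tᶜ).Nonempty := by
      rw [Set.not_subset] at hYT
      obtain ⟨y, hy, hyT⟩ := hYT
      exact ⟨y, hy, hyT⟩
    obtain ⟨y, hyY, hyU, hyT⟩ := hYirr.2 U Tᶜ hU hTcl.isOpen_compl h1 h2
    refine ⟨y, ?_, hyU, hyT⟩
    exact closure_mono (Set.subset_sUnion_of_mem (Finset.mem_coe.mpr hA₀)) hyY
  · rintro y ⟨hy, hyU, hyT⟩
    rcases hcl hy with h | h
    · exact Set.subset_sUnion_of_mem (Finset.mem_coe.mpr hA₀) (hUsub ⟨hyU, h⟩)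
    · exact absurd h hyT

end Top

end Groth.Agent.Lib.Helper10.ClosedOrb
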