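import Mathlib
import Groth.Agent.Lib.Helper10.ClosedOrb1

/-!
# Closed orbits, part 2: stable subsets and the existence of a closed orbit
-/

set_option autoImplicit false
set_option backward.isDefEq.respectTransparency.types false
set_option maxHeartbeats 4000000
set_option synthInstance.maxHeartbeats 400000
universe u
open CategoryTheory CategoryTheory.Limits AlgebraicGeometry MonoidalCategory
  CartesianMonoidalCategory MonObj GrpObj

namespace Groth.Agent.Lib.Helper10.ClosedOrb

open Groth.Agent.Lib.Helper10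

variable {k : Type u} [Field k] {G X : Over (Spec (CommRingCat.of k))} [GrpObj G]
  (a : AlgGrp.Action G X)

/-- subsets of `X` stable under the action. -/
def Stable (S : Set ↥X.left) : Prop :=
  ∀ w : ↥(G ⊗ X).left, (snd G X).left w ∈ S → a.act.left w ∈ S

/-- the involution `(g, y) ↦ (g⁻¹, g y)`. -/
noncomputable def flip : G ⊗ X ⟶ G ⊗ X := lift (fst G X)⁻¹ a.act

theorem flip_fst : flip a ≫ fst G X = (fst G X)⁻¹ := lift_fst _ _

theorem flip_snd : flip a ≫ snd G X = a.act := lift_snd _ _

theorem flip_act : flip a ≫ a.act = snd G X := by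
  calc flip a ≫ a.act = lift (fst G X)⁻¹ (lift (fst G X) (snd G X) ≫ a.act) ≫ a.act := by
        rw [lift_fst_snd, Category.id_comp]; rfl
    _ = lift ((fst G X)⁻¹ * fst G X) (snd G X) ≫ a.act :=
        (AlgGrp.Action.lift_mul_act a _ _ _).symm
    _ = snd G X := by rw [inv_mul_cancel, AlgGrp.Action.lift_one_act]

theorem flip_flip : flip a ≫ flip a = 𝟙 (G ⊗ X) := by
  apply CartesianMonoidalCategory.hom_ext
  · rw [Category.assoc, flip_fst, GrpObj.comp_inv, flip_fst, _root_.inv_inv, Category.id_comp]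
  · rw [Category.assoc, flip_snd, flip_act, Category.id_comp]

instance : IsIso (flip a) := ⟨⟨flip a, flip_flip a, flip_flip a⟩⟩

theorem flip_snd_apply (w : ↥(G ⊗ X).left) :
    (snd G X).left ((flip a).left w) = a.act.left w := by
  have := congrArg (fun t => t.left w) (flip_snd a)
  simpa only [Over.comp_left, Scheme.Hom.comp_apply] using this

theorem flip_act_apply (w : ↥(G ⊗ X).left) :
    a.act.left ((flip a).left w) = (snd G X).left w := by
  have := congrArg (fun t => t.left w) (flip_act a)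
  simpa only [Over.comp_left, Scheme.Hom.comp_apply] using this

variable {a}

theorem Stable.mem_iff {S : Set ↥X.left} (hS : Stable a S) (w : ↥(G ⊗ X).left) :
    a.act.left w ∈ S ↔ (snd G X).left w ∈ S := by
  refine ⟨fun h => ?_, hS w⟩
  rw [← flip_act_apply a w]
  apply hS
  rw [flip_snd_apply]
  exact h

theorem Stable.diff {Z O : Set ↥X.left} (hZ : Stable a Z) (hO : Stable a O) : Stable a (Z \ O) :=
  fun w hw => ⟨hZ w hw.1, fun h => hw.2 ((hO.mem_iff w).mp h)⟩

theorem Stable.closure {S : Set ↥X.left} (hS : Stable a S) : Stable a (closure S) := by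
  intro w hw
  have h1 : w ∈ _root_.closure ((snd G X).left ⁻¹' S) :=
    (IdComp.isOpenMap_snd (T := G) (G := X)).preimage_closure_subset_closure_preimage hw
  have h2 : a.act.left w ∈ _root_.closure (a.act.left '' ((snd G X).left ⁻¹' S)) :=
    image_closure_subset_closure_image a.act.left.continuous ⟨w, h1, rfl⟩
  refine closure_mono ?_ h2
  rintro _ ⟨v, hv, rfl⟩
  exact hS v hv

variable (a)

theorem whiskerLeft_orbitMap_act (x₀ : 𝟙_ (Over (Spec (CommRingCat.of k))) ⟶ X) :
    (G ◁ a.orbitMap x₀) ≫ a.act = μ[G] ≫ a.orbitMap x₀ := by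
  apply AlgGrp.Action.hom_ext_lift₂
  intro T g h
  rw [lift_whiskerLeft_assoc, AlgGrp.Action.comp_orbitMap, ← AlgGrp.Action.lift_mul_act,
    ← AlgGrp.Action.comp_orbitMap, ← Category.assoc, ← Hom.mul_def]

theorem stable_range_orbitMap (x₀ : 𝟙_ (Over (Spec (CommRingCat.of k))) ⟶ X) :
    Stable a (Set.range (a.orbitMap x₀).left) := by
  intro w hw
  have h1 : w ∈ Set.range (G ◁ a.orbitMap x₀).left := by
    rw [IdComp.range_whiskerLeft']
    exact hw
  obtain ⟨v, rfl⟩ := h1
  have h2 := congrArg (fun t => t.left v) (whiskerLeft_orbitMap_act a x₀)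
  simp only [Over.comp_left, Scheme.Hom.comp_apply] at h2
  rw [h2]
  exact ⟨_, rfl⟩

variable {a} in
theorem range_orbitMap_subset {S : Set ↥X.left} (hS : Stable a S)
    (x : 𝟙_ (Over (Spec (CommRingCat.of k))) ⟶ X) (hx : ∀ pt, x.left pt ∈ S) :
    Set.range (a.orbitMap x).left ⊆ S := by
  rintro _ ⟨g, rfl⟩
  have h1 : (a.orbitMap x).left g = a.act.left ((lift (𝟙 G) (toUnit G ≫ x)).left g) := rfl
  rw [h1]
  apply hS
  have h2 := congrArg (fun t => t.left g) (lift_snd (𝟙 G) (toUnit G ≫ x))
  simp only [Over.comp_left, Scheme.Hom.comp_apply] at h2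
  rw [h2]
  exact hx _

theorem isOpenMap_act : IsOpenMap a.act.left := by
  haveI : IsIso (flip a).left := (Over.forget _).map_isIso (flip a)
  have h : a.act.left = (flip a).left ≫ (snd G X).left := by
    rw [← Over.comp_left, flip_snd]
  rw [h]
  exact (IdComp.isOpenMap_snd (T := G) (G := X)).comp (flip a).left.isOpenEmbedding.isOpenMap

/-- **Existence of a closed orbit.** -/
theorem exists_closed_orbit [IsAlgClosed k] [LocallyOfFiniteType G.hom] [QuasiCompact G.hom]
    [LocallyOfFiniteType X.hom] [QuasiCompact X.hom] [Nonempty ↥X.left] :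
    ∃ x : 𝟙_ (Over (Spec (CommRingCat.of k))) ⟶ X, IsClosed (Set.range (a.orbitMap x).left) := by
  classical
  let pt : ↥(𝟙_ (Over (Spec (CommRingCat.of k)))).left := IsLocalRing.closedPoint k
  haveI : CompactSpace ↥G.left := QuasiCompact.compactSpace_of_compactSpace G.hom
  haveI : IsLocallyNoetherian G.left := LocallyOfFiniteType.isLocallyNoetherian G.hom
  haveI : IsNoetherian G.left := {}
  haveI : CompactSpace ↥X.left := QuasiCompact.compactSpace_of_compactSpace X.hom
  haveI : IsLocallyNoetherian X.left := LocallyOfFiniteType.isLocallyNoetherian X.hom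
  haveI : IsNoetherian X.left := {}
  -- a minimal nonempty closed stable subset
  let 𝓕 : Set (TopologicalSpace.Closeds ↥X.left) :=
    {Z | (Z : Set ↥X.left).Nonempty ∧ Stable a (Z : Set ↥X.left)}
  have h𝓕 : 𝓕.Nonempty := ⟨⊤, Set.univ_nonempty, fun _ _ => trivial⟩
  have hN : TopologicalSpace.NoetherianSpace ↥X.left := inferInstance
  haveI : WellFoundedLT (TopologicalSpace.Closeds ↥X.left) :=
    ((TopologicalSpace.noetherianSpace_TFAE ↥X.left).out 0 1).mp hN
  have hwf : WellFounded fun s t : TopologicalSpace.Closeds ↥X.left => s < t := wellFounded_lt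
  obtain ⟨Z, ⟨hZne, hZst⟩, hZmin⟩ := hwf.has_min 𝓕 h𝓕
  obtain ⟨x, hx⟩ := OrbConn.exists_point_mem_of_isClosed X (Z : Set ↥X.left) Z.isClosed hZne
  refine ⟨x, ?_⟩
  let orb := a.orbitMap x
  let O : Set ↥X.left := Set.range orb.left
  have hOZ : O ⊆ (Z : Set ↥X.left) := range_orbitMap_subset hZst x hx
  have hOst : Stable a O := stable_range_orbitMap a x
  have hOne : O.Nonempty := ⟨_, ⟨η[G].left pt, rfl⟩⟩
  -- closure O = Z
  have hcl : closure O = (Z : Set ↥X.left) := by
    by_contra hne
    let Z' : TopologicalSpace.Closeds ↥X.left := ⟨closure O, isClosed_closure⟩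
    have hmem : Z' ∈ 𝓕 := ⟨hOne.closure, hOst.closure⟩
    have hle : Z' ≤ Z := closure_minimal hOZ Z.isClosed
    have hlt : Z' < Z := lt_of_le_of_ne hle (fun h => hne (congrArg (fun t : TopologicalSpace.Closeds ↥X.left => (t : Set ↥X.left)) h))
    exact hZmin Z' hmem hlt
  -- a nonempty relatively open subset of `Z` contained in `O`
  haveI : LocallyOfFiniteType orb.left := by
    haveI : LocallyOfFiniteType (orb.left ≫ X.hom) := by rw [Over.w orb]; infer_instance
    exact locallyOfFiniteType_of_comp orb.left X.hom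
  have hfin : (irreducibleComponents ↥G.left).Finite :=
    finite_irreducibleComponents_of_isNoetherian
  let S : Finset (Set ↥X.left) := hfin.toFinset.image fun C => orb.left '' C
  have hSO : ⋃₀ (S : Set (Set ↥X.left)) = O := by
    apply Set.Subset.antisymm
    · rintro y ⟨A, hA, hyA⟩
      rw [Finset.mem_coe, Finset.mem_image] at hA
      obtain ⟨C, -, rfl⟩ := hA
      obtain ⟨z, -, rfl⟩ := hyA
      exact ⟨z, rfl⟩
    · rintro _ ⟨z, rfl⟩
      have hz : z ∈ ⋃₀ irreducibleComponents ↥G.left := by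
        rw [sUnion_irreducibleComponents]; trivial
      obtain ⟨C, hC, hzC⟩ := hz
      refine ⟨orb.left '' C, ?_, ⟨z, hzC, rfl⟩⟩
      rw [Finset.mem_coe, Finset.mem_image]
      exact ⟨C, by simpa using hC, rfl⟩
  have hSne : S.Nonempty := by
    have hz : η[G].left pt ∈ ⋃₀ irreducibleComponents ↥G.left := by
      rw [sUnion_irreducibleComponents]; trivial
    obtain ⟨C, hC, -⟩ := hz
    exact ⟨orb.left '' C, Finset.mem_image.mpr ⟨C, by simpa using hC, rfl⟩⟩
  obtain ⟨U, hU, hUne, hUsub⟩ := exists_open_inter_subset S hSne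
    (by
      intro A hA
      obtain ⟨C, hC, rfl⟩ := Finset.mem_image.mp hA
      have hC' : C ∈ irreducibleComponents ↥G.left := by simpa using hC
      exact hC'.1.image _ orb.left.continuous.continuousOn)
    (by
      intro A hA
      obtain ⟨C, hC, rfl⟩ := Finset.mem_image.mp hA
      have hC' : C ∈ irreducibleComponents ↥G.left := by simpa using hC
      exact Scheme.Hom.isConstructible_image orb.left
        (Groth.Agent.Lib.Helper12.isConstructible_of_isClosed
          (isClosed_of_mem_irreducibleComponents C hC')))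
  rw [hSO, hcl] at hUne hUsub
  -- the largest open subset `Us` with `Z ∩ Us ⊆ O`
  let Us : Set ↥X.left := ⋃₀ {V | IsOpen V ∧ (Z : Set ↥X.left) ∩ V ⊆ O}
  have hUs_open : IsOpen Us := isOpen_sUnion fun V hV => hV.1
  have hUs_sub : (Z : Set ↥X.left) ∩ Us ⊆ O := by
    rintro y ⟨hyZ, V, ⟨-, hV⟩, hyV⟩
    exact hV ⟨hyZ, hyV⟩
  have hUs_ne : ((Z : Set ↥X.left) ∩ Us).Nonempty := by
    obtain ⟨y, hyZ, hyU⟩ := hUne
    exact ⟨y, hyZ, U, ⟨hU, hUsub⟩, hyU⟩
  have hU'' : a.act.left '' ((snd G X).left ⁻¹' Us) ⊆ Us := by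
    apply Set.subset_sUnion_of_mem
    refine ⟨isOpenMap_act a _ (hUs_open.preimage (snd G X).left.continuous), ?_⟩
    rintro y ⟨hyZ, w, hw, rfl⟩
    have h1 : (snd G X).left w ∈ (Z : Set ↥X.left) := (hZst.mem_iff w).mp hyZ
    exact hOst w (hUs_sub ⟨h1, hw⟩)
  let B : TopologicalSpace.Closeds ↥X.left :=
    ⟨(Z : Set ↥X.left) ∩ Usᶜ, Z.isClosed.inter hUs_open.isClosed_compl⟩
  have hBst : Stable a (B : Set ↥X.left) := by
    rintro w ⟨hwZ, hwU⟩
    refine ⟨hZst w hwZ, fun hact => hwU ?_⟩
    apply hU''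
    refine ⟨(flip a).left w, ?_, flip_act_apply a w⟩
    change (snd G X).left ((flip a).left w) ∈ Us
    rw [flip_snd_apply]
    exact hact
  have hBempty : ¬ (B : Set ↥X.left).Nonempty := by
    intro hBne
    have hle : B ≤ Z := Set.inter_subset_left
    have hne : B ≠ Z := by
      intro h
      obtain ⟨y, hyZ, hyU⟩ := hUs_ne
      have : y ∈ (B : Set ↥X.left) := by rw [h]; exact hyZ
      exact this.2 hyU
    exact hZmin B ⟨hBne, hBst⟩ (lt_of_le_of_ne hle hne)
  have hOeq : O = (Z : Set ↥X.left) := by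
    apply Set.Subset.antisymm hOZ
    intro y hy
    apply hUs_sub
    refine ⟨hy, ?_⟩
    by_contra h
    exact hBempty ⟨y, hy, h⟩
  change IsClosed O
  rw [hOeq]
  exact Z.isClosed

end Groth.Agent.Lib.Helper10.ClosedOrb
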