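import Mathlib
import Groth.Prelude.Def_W4bk4git07Quot
import Groth.Agent.Lib.Helper10.BCAct1
import Groth.Agent.Lib.Helper10.ClosedOrb2

/-!
# Geometric quotients over a field are universally open
-/

set_option autoImplicit false
set_option backward.isDefEq.respectTransparency.types false
set_option maxHeartbeats 4000000
set_option synthInstance.maxHeartbeats 400000
universe u
open CategoryTheory CategoryTheory.Limits AlgebraicGeometry MonoidalCategory
  CartesianMonoidalCategory MonObj GrpObj TopologicalSpace

namespace Groth.Agent.Lib.Helper10.GeomQuot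

open Groth.Agent.Lib.Helper10

section General

variable {S : Scheme.{u}} {G X Y : Over S} [GrpObj G] (a : AlgGrp.Action G X) (φ : X ⟶ Y)

/-- The saturation of a subset is the image of its preimage under `p₂` by the action. -/
theorem preimage_image_eq (hinv : GIT.IsInvariant a φ)
    (horb : Function.Surjective (GIT.PsiY a φ hinv).base) (U : Set X.left) :
    φ.left ⁻¹' (φ.left '' U) = a.act.left '' ((snd G X).left ⁻¹' U) := by
  apply Set.Subset.antisymm
  · rintro x ⟨u, hu, he⟩
    obtain ⟨z, hz1, hz2⟩ := Scheme.Pullback.exists_preimage_pullback (f := φ.left) (g := φ.left)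
      x u he.symm
    obtain ⟨w, hw⟩ := horb z
    have h1 : a.act.left w = x := by
      rw [← hz1, ← hw]
      have : GIT.PsiY a φ hinv ≫ pullback.fst φ.left φ.left = a.act.left :=
        pullback.lift_fst _ _ _
      exact (congrArg (fun t => t.base w) this).symm
    have h2 : (snd G X).left w = u := by
      rw [← hz2, ← hw]
      have : GIT.PsiY a φ hinv ≫ pullback.snd φ.left φ.left = (snd G X).left :=
        pullback.lift_snd _ _ _
      exact (congrArg (fun t => t.base w) this).symm
    refine ⟨w, ?_, h1⟩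
    show (snd G X).left w ∈ U
    rw [h2]
    exact hu
  · rintro _ ⟨w, hw, rfl⟩
    refine ⟨(snd G X).left w, hw, ?_⟩
    have := congrArg (fun t => t.base w) hinv.left
    simpa only [Scheme.Hom.comp_base, TopCat.comp_app] using this.symm

/-- Lifting a pullback square of schemes over `φ.left` to `Over S`. -/
theorem exists_over_of_isPullback {X'' Y'' : Scheme.{u}} (f' : X'' ⟶ Y'') (i₁ : X'' ⟶ X.left)
    (i₂ : Y'' ⟶ Y.left) (hpb : IsPullback f' i₁ i₂ φ.left) :
    ∃ (X' Y' : Over S) (pr : X' ⟶ X) (φ' : X' ⟶ Y') (g : Y' ⟶ Y) (eX : X'.left = X'')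
      (eY : Y'.left = Y''), IsPullback pr φ' φ g ∧
      φ'.left = eqToHom eX ≫ f' ≫ eqToHom eY.symm := by
  have w1 : f' ≫ i₂ ≫ Y.hom = i₁ ≫ X.hom := by
    rw [← Category.assoc, hpb.w, Category.assoc, Over.w]
  refine ⟨Over.mk (i₁ ≫ X.hom), Over.mk (i₂ ≫ Y.hom), Over.homMk i₁ rfl, Over.homMk f' w1,
    Over.homMk i₂ rfl, rfl, rfl, ?_, ?_⟩
  · refine IsPullback.of_map (Over.forget S) ?_ ?_
    · apply Over.OverMorphism.ext
      simpa using hpb.w.symm
    · exact hpb.flip
  · simp

end General

section Field

variable {k : Type u} [Field k] {G X Y : Over (Spec (CommRingCat.of k))} [GrpObj G]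
  (a : AlgGrp.Action G X) (φ : X ⟶ Y)

/-- An invariant quotient map whose fibres are orbits is open. -/
theorem isOpenMap_of_orbit (hinv : GIT.IsInvariant a φ)
    (horb : Function.Surjective (GIT.PsiY a φ hinv).base)
    (hq : Topology.IsQuotientMap φ.left) : IsOpenMap φ.left := by
  intro U hU
  rw [← hq.isOpen_preimage, preimage_image_eq a φ hinv horb]
  exact ClosedOrb.isOpenMap_act a _ (hU.preimage (snd G X).left.continuous)

/-- A geometric quotient over a field is universally open. -/
theorem universallyOpen (h : GIT.IsGeomQuot a φ) : UniversallyOpen φ.left := by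
  refine ⟨fun X'' Y'' i₁ i₂ f' hpb => ?_⟩
  obtain ⟨X', Y', pr, φ', g, eX, eY, hpb', hφ'⟩ := exists_over_of_isPullback φ f' i₁ i₂ hpb
  subst eX eY
  simp only [eqToHom_refl, Category.id_comp, Category.comp_id] at hφ'
  subst hφ'
  obtain ⟨a', ha', hinv'⟩ := BCAct.exists_induced_action a φ pr φ' g hpb' h.inv
  have horb' := BCAct.surjective_PsiY hpb' h.inv a' ha' hinv' h.orbit
  have hq' : Topology.IsQuotientMap φ'.left := h.subm _ _ _ hpb
  exact isOpenMap_of_orbit a' φ' hinv' horb' hq'

end Field

end Groth.Agent.Lib.Helper10.GeomQuot
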