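import Mathlib

set_option autoImplicit false
set_option backward.isDefEq.respectTransparency.types false
set_option maxHeartbeats 4000000
set_option synthInstance.maxHeartbeats 400000

universe u

open CategoryTheory CategoryTheory.Limits AlgebraicGeometry TopologicalSpace

namespace Groth.Agent.Lib.Helper10.CatQuot

/-- Lifting a ring map through an injective ring map whose range contains its image. -/
theorem exists_lift_of_injective {A B C : CommRingCat.{u}} (f : A ⟶ B)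
    (hf : Function.Injective f) (r : C ⟶ B) (hr : ∀ c, r c ∈ Set.range f) :
    ∃ ρ : C ⟶ A, ρ ≫ f = r := by
  classical
  let e : A ≃+* f.hom.range := RingEquiv.ofBijective f.hom.rangeRestrict
    ⟨fun a b hab => hf (congrArg Subtype.val hab), f.hom.rangeRestrict_surjective⟩
  have hr' : ∀ c, r.hom c ∈ f.hom.range := fun c => by
    obtain ⟨a, ha⟩ := hr c
    exact ⟨a, ha⟩
  let ρ' : C →+* A := e.symm.toRingHom.comp (r.hom.codRestrict f.hom.range hr')
  refine ⟨CommRingCat.ofHom ρ', ?_⟩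
  ext c
  have := e.apply_symm_apply ⟨r.hom c, hr' c⟩
  exact congrArg Subtype.val this

/-- A morphism into a scheme whose restriction to an open lands in an affine open is determined
there by the ring map. -/
theorem toSpecΓ_map_appLE_fromSpec {X Z : Scheme.{u}} (ψ : X ⟶ Z) {V : Z.Opens}
    (hV : IsAffineOpen V) (U : X.Opens) (h : U ≤ ψ ⁻¹ᵁ V) :
    U.toSpecΓ ≫ Spec.map (ψ.appLE V U h) ≫ hV.fromSpec = U.ι ≫ ψ := by
  rw [Scheme.Opens.toSpecΓ_SpecMap_appLE_assoc, hV.toSpecΓ_fromSpec, Scheme.Hom.resLE_comp_ι]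

/-- A surjective morphism of schemes which is injective on sections over every open of the target
is an epimorphism of schemes. -/
theorem epi_of_surjective_of_app_injective {X Y : Scheme.{u}} (φ : X ⟶ Y)
    (hs : Function.Surjective φ)
    (hi : ∀ U : Y.Opens, Function.Injective (φ.app U)) : Epi φ := by
  constructor
  intro Z α β h
  have hpt : ∀ y, α y = β y := by
    intro y
    obtain ⟨x, rfl⟩ := hs y
    have := congrArg (fun f : X ⟶ Z => f x) h
    simpa using this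
  apply Scheme.hom_ext_of_forall
  intro y
  obtain ⟨V, hV, hyV, -⟩ := (Opens.isBasis_iff_nbhd.mp Z.isBasis_affineOpens)
    (show α y ∈ (⊤ : Z.Opens) from trivial)
  refine ⟨α ⁻¹ᵁ V, hyV, ?_⟩
  have hW : α ⁻¹ᵁ V ≤ β ⁻¹ᵁ V := fun z hz => by
    show β z ∈ V
    rw [← hpt]
    exact hz
  rw [← toSpecΓ_map_appLE_fromSpec α hV (α ⁻¹ᵁ V) le_rfl,
    ← toSpecΓ_map_appLE_fromSpec β hV (α ⁻¹ᵁ V) hW]
  congr 2
  apply congrArg
  apply CommRingCat.hom_ext
  apply RingHom.ext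
  intro s
  apply hi (α ⁻¹ᵁ V)
  have e1 : α.appLE V (α ⁻¹ᵁ V) le_rfl ≫ φ.app (α ⁻¹ᵁ V) =
      (φ ≫ α).appLE V (φ ⁻¹ᵁ (α ⁻¹ᵁ V)) le_rfl := by
    rw [Scheme.Hom.app_eq_appLE, Scheme.Hom.appLE_comp_appLE]
  have e2 : β.appLE V (α ⁻¹ᵁ V) hW ≫ φ.app (α ⁻¹ᵁ V) =
      (φ ≫ β).appLE V (φ ⁻¹ᵁ (α ⁻¹ᵁ V)) (fun z hz => hW hz) := by
    rw [Scheme.Hom.app_eq_appLE, Scheme.Hom.appLE_comp_appLE]
  have e3 : (φ ≫ α).appLE V (φ ⁻¹ᵁ (α ⁻¹ᵁ V)) le_rfl =
      (φ ≫ β).appLE V (φ ⁻¹ᵁ (α ⁻¹ᵁ V)) (fun z hz => hW hz) := by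
    subst_vars
    congr 1
  have := e1.trans (e3.trans e2.symm)
  exact congrArg (fun f => f.hom s) this

/-- Restriction to an open of the target preserves surjectivity. -/
theorem restrict_surjective {X Y : Scheme.{u}} (φ : X ⟶ Y) (hs : Function.Surjective φ)
    (U : Y.Opens) : Function.Surjective (φ ∣_ U) := by
  intro y
  obtain ⟨x, hx⟩ := hs y.1
  refine ⟨⟨x, ?_⟩, ?_⟩
  · show φ x ∈ U
    rw [hx]
    exact y.2
  · apply Subtype.ext
    rw [morphismRestrict_base_coe]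
    exact hx

/-- Restriction to an open of the target preserves injectivity on sections. -/
theorem restrict_app_injective {X Y : Scheme.{u}} (φ : X ⟶ Y)
    (hi : ∀ U : Y.Opens, Function.Injective (φ.app U)) (U : Y.Opens)
    (W : U.toScheme.Opens) : Function.Injective ((φ ∣_ U).app W) := by
  rw [morphismRestrict_app]
  intro s t hst
  apply hi (U.ι ''ᵁ W)
  have hiso : Function.Injective
      (X.presheaf.map (eqToHom (image_morphismRestrict_preimage φ U W)).op) := by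
    have : IsIso (X.presheaf.map (eqToHom (image_morphismRestrict_preimage φ U W)).op) :=
      inferInstance
    exact ((ConcreteCategory.isIso_iff_bijective _).mp this).1
  apply hiso
  exact hst

/-- The restriction of a surjective, sectionwise injective morphism is an epimorphism. -/
theorem epi_restrict {X Y : Scheme.{u}} (φ : X ⟶ Y) (hs : Function.Surjective φ)
    (hi : ∀ U : Y.Opens, Function.Injective (φ.app U)) (U : Y.Opens) : Epi (φ ∣_ U) :=
  epi_of_surjective_of_app_injective _ (restrict_surjective φ hs U)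
    (restrict_app_injective φ hi U)

/-- The base change of a surjective, sectionwise injective morphism along an open immersion is an
epimorphism. -/
theorem epi_pullback_snd {X Y Y' : Scheme.{u}} (φ : X ⟶ Y) (hs : Function.Surjective φ)
    (hi : ∀ U : Y.Opens, Function.Injective (φ.app U)) (g : Y' ⟶ Y) [IsOpenImmersion g] :
    Epi (pullback.snd φ g) := by
  have h1 : Epi (φ ∣_ g.opensRange) := epi_restrict φ hs hi _
  exact ((MorphismProperty.epimorphisms Scheme.{u}).arrow_mk_iso_iff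
    (morphismRestrictOpensRange φ g)).mp h1

/-- Local descent: a morphism `ψ` mapping `φ⁻¹U` into an affine open `V`, together with a
factorization of the ring map through `Γ(Y, U)`, descends to `U`. -/
theorem exists_desc_local {X Y Z : Scheme.{u}} (φ : X ⟶ Y) (ψ : X ⟶ Z) (U : Y.Opens)
    {V : Z.Opens} (hV : IsAffineOpen V) (hUV : φ ⁻¹ᵁ U ≤ ψ ⁻¹ᵁ V)
    (ρ : Γ(Z, V) ⟶ Γ(Y, U)) (hρ : ρ ≫ φ.app U = ψ.appLE V (φ ⁻¹ᵁ U) hUV) :
    ∃ χ : U.toScheme ⟶ Z, (φ ∣_ U) ≫ χ = (φ ⁻¹ᵁ U).ι ≫ ψ := by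
  refine ⟨U.toSpecΓ ≫ Spec.map ρ ≫ hV.fromSpec, ?_⟩
  rw [← Scheme.Opens.toSpecΓ_naturality_assoc, ← Spec.map_comp_assoc, hρ,
    toSpecΓ_map_appLE_fromSpec]

/-- Descent of a morphism along a surjective, sectionwise injective morphism, given local data. -/
theorem exists_desc {X Y Z : Scheme.{u}} (φ : X ⟶ Y) (ψ : X ⟶ Z)
    (hs : Function.Surjective φ)
    (hi : ∀ U : Y.Opens, Function.Injective (φ.app U))
    (hloc : ∀ y : Y, ∃ (U : Y.Opens) (V : Z.Opens), y ∈ U ∧ IsAffineOpen V ∧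
      ∃ hUV : φ ⁻¹ᵁ U ≤ ψ ⁻¹ᵁ V, ∀ s, ψ.appLE V (φ ⁻¹ᵁ U) hUV s ∈ Set.range (φ.app U)) :
    ∃ χ : Y ⟶ Z, φ ≫ χ = ψ := by
  choose U V hyU hV hUV hrange using hloc
  have hχ : ∀ y : Y, ∃ χ : (U y).toScheme ⟶ Z, (φ ∣_ (U y)) ≫ χ = (φ ⁻¹ᵁ (U y)).ι ≫ ψ := by
    intro y
    obtain ⟨ρ, hρ⟩ := exists_lift_of_injective (φ.app (U y)) (hi (U y))
      (ψ.appLE (V y) (φ ⁻¹ᵁ (U y)) (hUV y)) (hrange y)
    exact exists_desc_local φ ψ (U y) (hV y) (hUV y) ρ hρ
  choose χ hχ using hχ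
  let 𝒰 : Y.OpenCover := {
    I₀ := Y, X i := (U i), f i := (U i).ι,
    mem₀ := by
      rw [Scheme.presieve₀_mem_precoverage_iff]
      refine ⟨fun x ↦ ⟨x, by simpa using hyU x⟩, inferInstance⟩ }
  have hglue : ∀ x y : Y, pullback.fst (𝒰.f x) (𝒰.f y) ≫ χ x = pullback.snd _ _ ≫ χ y := by
    intro x y
    let p : pullback (𝒰.f x) (𝒰.f y) ⟶ Y := pullback.fst _ _ ≫ 𝒰.f x
    have hp : p = pullback.snd _ _ ≫ 𝒰.f y := pullback.condition
    haveI : IsOpenImmersion p := by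
      dsimp only [p]
      infer_instance
    haveI : Epi (pullback.snd φ p) := epi_pullback_snd φ hs hi p
    rw [← cancel_epi (pullback.snd φ p)]
    -- lifts of `pullback.fst φ p` to `φ⁻¹(U x)` and `φ⁻¹(U y)`
    have hx1 : Set.range (pullback.fst φ p) ⊆ Set.range (φ ⁻¹ᵁ (U x)).ι := by
      rintro _ ⟨z, rfl⟩
      rw [Scheme.Opens.range_ι]
      show φ (pullback.fst φ p z) ∈ U x
      have := congrArg (fun f : pullback φ p ⟶ Y => f z) (pullback.condition (f := φ) (g := p))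
      simp only [Scheme.Hom.comp_apply] at this
      rw [this]
      exact ((pullback.fst (𝒰.f x) (𝒰.f y)) (pullback.snd φ p z)).2
    have hy1 : Set.range (pullback.fst φ p) ⊆ Set.range (φ ⁻¹ᵁ (U y)).ι := by
      rintro _ ⟨z, rfl⟩
      rw [Scheme.Opens.range_ι]
      show φ (pullback.fst φ p z) ∈ U y
      have := congrArg (fun f : pullback φ p ⟶ Y => f z) (pullback.condition (f := φ) (g := p))
      simp only [Scheme.Hom.comp_apply] at this
      rw [this]
      have hp' := congrArg (fun f : pullback (𝒰.f x) (𝒰.f y) ⟶ Y => f (pullback.snd φ p z)) hp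
      simp only [Scheme.Hom.comp_apply] at hp'
      rw [hp']
      exact ((pullback.snd (𝒰.f x) (𝒰.f y)) (pullback.snd φ p z)).2
    let lx : pullback φ p ⟶ (φ ⁻¹ᵁ (U x)).toScheme :=
      IsOpenImmersion.lift (φ ⁻¹ᵁ (U x)).ι (pullback.fst φ p) hx1
    let ly : pullback φ p ⟶ (φ ⁻¹ᵁ (U y)).toScheme :=
      IsOpenImmersion.lift (φ ⁻¹ᵁ (U y)).ι (pullback.fst φ p) hy1
    have hlx : lx ≫ (φ ⁻¹ᵁ (U x)).ι = pullback.fst φ p := IsOpenImmersion.lift_fac _ _ _
    have hly : ly ≫ (φ ⁻¹ᵁ (U y)).ι = pullback.fst φ p := IsOpenImmersion.lift_fac _ _ _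
    have ex : lx ≫ (φ ∣_ (U x)) = pullback.snd φ p ≫ pullback.fst (𝒰.f x) (𝒰.f y) := by
      rw [← cancel_mono (U x).ι, Category.assoc, morphismRestrict_ι, reassoc_of% hlx,
        pullback.condition, Category.assoc]
    have ey : ly ≫ (φ ∣_ (U y)) = pullback.snd φ p ≫ pullback.snd (𝒰.f x) (𝒰.f y) := by
      rw [← cancel_mono (U y).ι, Category.assoc, morphismRestrict_ι, reassoc_of% hly,
        pullback.condition, Category.assoc]
      exact congrArg (fun f => pullback.snd φ p ≫ f) hp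
    rw [← reassoc_of% ex, ← reassoc_of% ey, hχ, hχ, reassoc_of% hlx, reassoc_of% hly]
  refine ⟨𝒰.glueMorphisms χ hglue, ?_⟩
  apply Scheme.Cover.hom_ext (𝒰.pullback₁ φ)
  intro (y : Y)
  show pullback.fst φ (𝒰.f y) ≫ φ ≫ 𝒰.glueMorphisms χ hglue = pullback.fst φ (𝒰.f y) ≫ ψ
  have h1 : pullback.fst φ (𝒰.f y) ≫ φ = pullback.snd φ (𝒰.f y) ≫ 𝒰.f y := pullback.condition
  rw [reassoc_of% h1, Scheme.Cover.ι_glueMorphisms]
  -- compare with the restriction
  have hz1 : Set.range (pullback.fst φ (𝒰.f y)) ⊆ Set.range (φ ⁻¹ᵁ (U y)).ι := by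
    rintro _ ⟨z, rfl⟩
    rw [Scheme.Opens.range_ι]
    show φ (pullback.fst φ (𝒰.f y) z) ∈ U y
    have := congrArg (fun f : pullback φ (𝒰.f y) ⟶ Y => f z)
      (pullback.condition (f := φ) (g := 𝒰.f y))
    simp only [Scheme.Hom.comp_apply] at this
    rw [this]
    exact ((pullback.snd φ (𝒰.f y) z)).2
  let l : pullback φ (𝒰.f y) ⟶ (φ ⁻¹ᵁ (U y)).toScheme :=
    IsOpenImmersion.lift (φ ⁻¹ᵁ (U y)).ι (pullback.fst φ (𝒰.f y)) hz1
  have hl : l ≫ (φ ⁻¹ᵁ (U y)).ι = pullback.fst φ (𝒰.f y) := IsOpenImmersion.lift_fac _ _ _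
  have el : l ≫ (φ ∣_ (U y)) = pullback.snd φ (𝒰.f y) := by
    rw [← cancel_mono (U y).ι, Category.assoc, morphismRestrict_ι, reassoc_of% hl,
      pullback.condition]
  rw [← el, Category.assoc, hχ, reassoc_of% hl]

end Groth.Agent.Lib.Helper10.CatQuot
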