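import Mathlib
import Groth.Prelude.Def_W4bk4git07Quot
import Groth.Agent.Lib.Helper10.CatQuot1

/-!
# Categorical quotients from local data
-/

set_option autoImplicit false
set_option backward.isDefEq.respectTransparency.types false
set_option maxHeartbeats 4000000
set_option synthInstance.maxHeartbeats 400000
universe u
open CategoryTheory CategoryTheory.Limits AlgebraicGeometry MonoidalCategory
  CartesianMonoidalCategory MonObj GrpObj TopologicalSpace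

namespace Groth.Agent.Lib.Helper10.CatQuot

variable {S : Scheme.{u}} {G X Y : Over S} [GrpObj G] (a : AlgGrp.Action G X) (φ : X ⟶ Y)

/-- The pull-back of a section along an invariant morphism is an invariant section. -/
theorem isInvSection_appLE {Z : Over S} (ψ : X ⟶ Z) (hψ : GIT.IsInvariant a ψ)
    (U : Y.left.Opens) (V : Z.left.Opens) (hUV : φ.left ⁻¹ᵁ U ≤ ψ.left ⁻¹ᵁ V)
    (s : Γ(Z.left, V)) :
    GIT.IsInvSection a φ U (ψ.left.appLE V (φ.left ⁻¹ᵁ U) hUV s) := by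
  unfold GIT.IsInvSection
  have e1 : ψ.left.appLE V (φ.left ⁻¹ᵁ U) hUV ≫ a.act.left.appLE (φ.left ⁻¹ᵁ U)
      (a.act.left ⁻¹ᵁ (φ.left ⁻¹ᵁ U) ⊓ (snd G X).left ⁻¹ᵁ (φ.left ⁻¹ᵁ U)) inf_le_left =
      (a.act.left ≫ ψ.left).appLE V
        (a.act.left ⁻¹ᵁ (φ.left ⁻¹ᵁ U) ⊓ (snd G X).left ⁻¹ᵁ (φ.left ⁻¹ᵁ U))
        (fun z hz => hUV hz.1) := by
    rw [Scheme.Hom.appLE_comp_appLE]
  have e2 : ψ.left.appLE V (φ.left ⁻¹ᵁ U) hUV ≫ (snd G X).left.appLE (φ.left ⁻¹ᵁ U)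
      (a.act.left ⁻¹ᵁ (φ.left ⁻¹ᵁ U) ⊓ (snd G X).left ⁻¹ᵁ (φ.left ⁻¹ᵁ U)) inf_le_right =
      ((snd G X).left ≫ ψ.left).appLE V
        (a.act.left ⁻¹ᵁ (φ.left ⁻¹ᵁ U) ⊓ (snd G X).left ⁻¹ᵁ (φ.left ⁻¹ᵁ U))
        (fun z hz => hUV hz.2) := by
    rw [Scheme.Hom.appLE_comp_appLE]
  have e3 : (a.act.left ≫ ψ.left).appLE V
        (a.act.left ⁻¹ᵁ (φ.left ⁻¹ᵁ U) ⊓ (snd G X).left ⁻¹ᵁ (φ.left ⁻¹ᵁ U))
        (fun z hz => hUV hz.1) =
      ((snd G X).left ≫ ψ.left).appLE V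
        (a.act.left ⁻¹ᵁ (φ.left ⁻¹ᵁ U) ⊓ (snd G X).left ⁻¹ᵁ (φ.left ⁻¹ᵁ U))
        (fun z hz => hUV hz.2) := by
    have := hψ.left
    congr 1
  have := e1.trans (e3.trans e2.symm)
  exact congrArg (fun f => f.hom s) this

/-- A surjective invariant morphism with `O_Y` the invariant functions, such that every invariant
morphism locally (on `Y`) lands in an affine open, is a categorical quotient. -/
theorem isCatQuot_of_local (hinv : GIT.IsInvariant a φ) (hs : Function.Surjective φ.left)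
    (hsec : ∀ U : Y.left.Opens, Function.Injective (φ.left.app U) ∧
      Set.range (φ.left.app U) = {f | GIT.IsInvSection a φ U f})
    (hloc : ∀ (Z : Over S) (ψ : X ⟶ Z), GIT.IsInvariant a ψ → ∀ y : Y.left,
      ∃ (U : Y.left.Opens) (V : Z.left.Opens), y ∈ U ∧ IsAffineOpen V ∧
        φ.left ⁻¹ᵁ U ≤ ψ.left ⁻¹ᵁ V) :
    GIT.IsCatQuot a φ := by
  refine ⟨hinv, fun Z ψ hψ => ?_⟩
  haveI : Epi φ.left := epi_of_surjective_of_app_injective φ.left hs (fun U => (hsec U).1)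
  obtain ⟨χ₀, hχ₀⟩ := exists_desc φ.left ψ.left hs (fun U => (hsec U).1) (fun y => by
    obtain ⟨U, V, hy, hV, hUV⟩ := hloc Z ψ hψ y
    refine ⟨U, V, hy, hV, hUV, fun s => ?_⟩
    rw [(hsec U).2]
    exact isInvSection_appLE a φ ψ hψ U V hUV s)
  have hw : χ₀ ≫ Z.hom = Y.hom := by
    rw [← cancel_epi φ.left, reassoc_of% hχ₀, Over.w ψ, Over.w φ]
  refine ⟨Over.homMk χ₀ hw, ?_, ?_⟩
  · apply Over.OverMorphism.ext
    simpa using hχ₀
  · intro χ' hχ'
    apply Over.OverMorphism.ext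
    rw [← cancel_epi φ.left]
    have := congrArg (fun t => t.left) hχ'
    simp only [Over.comp_left] at this
    rw [this]
    simpa using hχ₀.symm

end Groth.Agent.Lib.Helper10.CatQuot
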