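import Mathlib
import Groth.Agent.Lib.Helper10.ClosedOrb2

/-!
# Orbits of rational points are locally closed
-/

set_option autoImplicit false
set_option backward.isDefEq.respectTransparency.types false
set_option maxHeartbeats 4000000
set_option synthInstance.maxHeartbeats 400000
universe u
open CategoryTheory CategoryTheory.Limits AlgebraicGeometry MonoidalCategory
  CartesianMonoidalCategory MonObj GrpObj

namespace Groth.Agent.Lib.Helper10.OrbitDim

open Groth.Agent.Lib.Helper10 Groth.Agent.Lib.Helper10.ClosedOrb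

variable {k : Type u} [Field k] {G X : Over (Spec (CommRingCat.of k))} [GrpObj G]
  (a : AlgGrp.Action G X)

theorem Stable.inter {S T : Set ↥X.left} (hS : Stable a S) (hT : Stable a T) :
    Stable a (S ∩ T) := fun w hw => ⟨hS w hw.1, hT w hw.2⟩

/-- a stable subset meeting the orbit of a rational point contains it. -/
theorem range_orbitMap_subset_of_inter (x : 𝟙_ (Over (Spec (CommRingCat.of k))) ⟶ X)
    {S : Set ↥X.left} (hS : Stable a S)
    (h : (S ∩ Set.range (a.orbitMap x).left).Nonempty) :
    Set.range (a.orbitMap x).left ⊆ S := by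
  obtain ⟨y, hyS, g₀, rfl⟩ := h
  rintro _ ⟨g₁, rfl⟩
  haveI : Subsingleton ↥(Spec (CommRingCat.of k)) :=
    inferInstanceAs (Subsingleton (PrimeSpectrum k))
  have hs : G.hom g₀ = G.hom g₁ := Subsingleton.elim _ _
  let θ : G ⊗ G ⟶ G ⊗ G := lift (snd G G * (fst G G)⁻¹) (fst G G)
  have hθ1 : θ ≫ snd G G = fst G G := lift_snd _ _
  have hθ2 : θ ≫ μ[G] = snd G G := by
    rw [← Hom.mul_def, inv_mul_cancel_right]
  obtain ⟨w, hw1, hw2⟩ :=
    Scheme.Pullback.exists_preimage_pullback (f := G.hom) (g := G.hom) g₀ g₁ hs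
  let w' : (G ⊗ G).left := w
  have hw1' : (fst G G).left w' = g₀ := hw1
  have hw2' : (snd G G).left w' = g₁ := hw2
  let z : (G ⊗ G).left := θ.left w'
  have hz1 : (snd G G).left z = g₀ := by
    have := congrArg (fun ψ => ψ.left w') hθ1
    simp only [Over.comp_left, Scheme.Hom.comp_apply] at this
    rw [← hw1']
    exact this
  have hz2 : μ[G].left z = g₁ := by
    have := congrArg (fun ψ => ψ.left w') hθ2
    simp only [Over.comp_left, Scheme.Hom.comp_apply] at this
    rw [← hw2']
    exact this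
  let v : (G ⊗ X).left := (G ◁ a.orbitMap x).left z
  have hv1 : (snd G X).left v = (a.orbitMap x).left g₀ := by
    have := congrArg (fun ψ => ψ.left z) (whiskerLeft_snd G (a.orbitMap x))
    simp only [Over.comp_left, Scheme.Hom.comp_apply] at this
    rw [← hz1]
    exact this
  have hv2 : a.act.left v = (a.orbitMap x).left g₁ := by
    have := congrArg (fun ψ => ψ.left z) (whiskerLeft_orbitMap_act a x)
    simp only [Over.comp_left, Scheme.Hom.comp_apply] at this
    rw [← hz2]
    exact this
  rw [← hv2]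
  apply hS
  rw [hv1]
  exact hyS

/-- **The orbit of a rational point is locally closed**: it is open in its closure. -/
theorem exists_isOpen_closure_inter_eq [LocallyOfFiniteType G.hom] [QuasiCompact G.hom]
    [LocallyOfFiniteType X.hom] [QuasiCompact X.hom]
    (x : 𝟙_ (Over (Spec (CommRingCat.of k))) ⟶ X) :
    ∃ U : Set ↥X.left, IsOpen U ∧
      closure (Set.range (a.orbitMap x).left) ∩ U = Set.range (a.orbitMap x).left := by
  classical
  let pt : ↥(𝟙_ (Over (Spec (CommRingCat.of k)))).left := IsLocalRing.closedPoint k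
  haveI : CompactSpace ↥G.left := QuasiCompact.compactSpace_of_compactSpace G.hom
  haveI : IsLocallyNoetherian G.left := LocallyOfFiniteType.isLocallyNoetherian G.hom
  haveI : IsNoetherian G.left := {}
  haveI : CompactSpace ↥X.left := QuasiCompact.compactSpace_of_compactSpace X.hom
  haveI : IsLocallyNoetherian X.left := LocallyOfFiniteType.isLocallyNoetherian X.hom
  haveI : IsNoetherian X.left := {}
  let orb := a.orbitMap x
  let O : Set ↥X.left := Set.range orb.left
  let Z : Set ↥X.left := closure O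
  have hOZ : O ⊆ Z := subset_closure
  have hOst : Stable a O := stable_range_orbitMap a x
  have hZst : Stable a Z := hOst.closure
  have hOne : O.Nonempty := ⟨_, ⟨η[G].left pt, rfl⟩⟩
  haveI : LocallyOfFiniteType orb.left := by
    haveI : LocallyOfFiniteType (orb.left ≫ X.hom) := by rw [Over.w orb]; infer_instance
    exact locallyOfFiniteType_of_comp orb.left X.hom
  have hfin : (irreducibleComponents ↥G.left).Finite :=
    finite_irreducibleComponents_of_isNoetherian
  let S : Finset (Set ↥X.left) := hfin.toFinset.image fun C => orb.left '' C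
  have hSO : ⋃₀ (S : Set (Set ↥X.left)) = O := by
    apply Set.Subset.antisymm
    · rintro y ⟨A, hA, hyA⟩
      rw [Finset.mem_coe, Finset.mem_image] at hA
      obtain ⟨C, -, rfl⟩ := hA
      obtain ⟨z, -, rfl⟩ := hyA
      exact ⟨z, rfl⟩
    · rintro _ ⟨z, rfl⟩
      have hz : z ∈ ⋃₀ irreducibleComponents ↥G.left := by
        rw [sUnion_irreducibleComponents]; trivial
      obtain ⟨C, hC, hzC⟩ := hz
      refine ⟨orb.left '' C, ?_, ⟨z, hzC, rfl⟩⟩
      rw [Finset.mem_coe, Finset.mem_image]
      exact ⟨C, by simpa using hC, rfl⟩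
  have hSne : S.Nonempty := by
    have hz : η[G].left pt ∈ ⋃₀ irreducibleComponents ↥G.left := by
      rw [sUnion_irreducibleComponents]; trivial
    obtain ⟨C, hC, -⟩ := hz
    exact ⟨orb.left '' C, Finset.mem_image.mpr ⟨C, by simpa using hC, rfl⟩⟩
  obtain ⟨U, hU, hUne, hUsub⟩ := exists_open_inter_subset S hSne
    (by
      intro A hA
      obtain ⟨C, hC, rfl⟩ := Finset.mem_image.mp hA
      have hC' : C ∈ irreducibleComponents ↥G.left := by simpa using hC
      exact hC'.1.image _ orb.left.continuous.continuousOn)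
    (by
      intro A hA
      obtain ⟨C, hC, rfl⟩ := Finset.mem_image.mp hA
      have hC' : C ∈ irreducibleComponents ↥G.left := by simpa using hC
      exact Scheme.Hom.isConstructible_image orb.left
        (Groth.Agent.Lib.Helper12.isConstructible_of_isClosed
          (isClosed_of_mem_irreducibleComponents C hC')))
  rw [hSO] at hUne hUsub
  -- the largest open subset `Us` with `Z ∩ Us ⊆ O`
  let Us : Set ↥X.left := ⋃₀ {V | IsOpen V ∧ Z ∩ V ⊆ O}
  have hUs_open : IsOpen Us := isOpen_sUnion fun V hV => hV.1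
  have hUs_sub : Z ∩ Us ⊆ O := by
    rintro y ⟨hyZ, V, ⟨-, hV⟩, hyV⟩
    exact hV ⟨hyZ, hyV⟩
  have hUs_ne : (Z ∩ Us).Nonempty := by
    obtain ⟨y, hyZ, hyU⟩ := hUne
    exact ⟨y, hyZ, U, ⟨hU, hUsub⟩, hyU⟩
  have hU'' : a.act.left '' ((snd G X).left ⁻¹' Us) ⊆ Us := by
    apply Set.subset_sUnion_of_mem
    refine ⟨isOpenMap_act a _ (hUs_open.preimage (snd G X).left.continuous), ?_⟩
    rintro y ⟨hyZ, w, hw, rfl⟩
    have h1 : (snd G X).left w ∈ Z := (hZst.mem_iff w).mp hyZ
    exact hOst w (hUs_sub ⟨h1, hw⟩)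
  let B : Set ↥X.left := Z ∩ Usᶜ
  have hBst : Stable a B := by
    rintro w ⟨hwZ, hwU⟩
    refine ⟨hZst w hwZ, fun hact => hwU ?_⟩
    apply hU''
    refine ⟨(flip a).left w, ?_, flip_act_apply a w⟩
    change (snd G X).left ((flip a).left w) ∈ Us
    rw [flip_snd_apply]
    exact hact
  have hOB : ¬ (B ∩ O).Nonempty := by
    intro hne
    have hsub : O ⊆ B := range_orbitMap_subset_of_inter a x hBst hne
    obtain ⟨y, hyZ, hyU⟩ := hUs_ne
    exact (hsub (hUs_sub ⟨hyZ, hyU⟩)).2 hyU
  refine ⟨Us, hUs_open, Set.Subset.antisymm hUs_sub ?_⟩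
  intro y hy
  refine ⟨hOZ hy, ?_⟩
  by_contra h
  exact hOB ⟨y, ⟨hOZ hy, h⟩, hy⟩

end Groth.Agent.Lib.Helper10.OrbitDim
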