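import Mathlib
import Groth.Prelude.Def_AGF
import Groth.Agent.Lib.Helper10.OrbitDim1
import Groth.Agent.Lib.Helper10.HomSp2

/-!
# If `G/H` is proper then `G · Z` is closed for every `H`-stable closed subset `Z`
-/

set_option autoImplicit false
set_option backward.isDefEq.respectTransparency.types false
set_option maxHeartbeats 4000000
set_option synthInstance.maxHeartbeats 400000
universe u
open CategoryTheory CategoryTheory.Limits AlgebraicGeometry MonoidalCategory
  CartesianMonoidalCategory MonObj GrpObj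

namespace Groth.Agent.Lib.Helper10.ProperQuot

open Groth.Agent.Lib.Helper10 Groth.Agent.Lib.Helper10.ClosedOrb Groth.Agent.Lib.Helper10.HomSp

theorem exists_preimage_of_isPullback {P A B C : Scheme.{u}} {p₁ : P ⟶ A} {p₂ : P ⟶ B}
    {f : A ⟶ C} {g : B ⟶ C} (h : IsPullback p₁ p₂ f g) (x : ↥A) (y : ↥B) (hxy : f x = g y) :
    ∃ z : ↥P, p₁ z = x ∧ p₂ z = y := by
  obtain ⟨z, hz1, hz2⟩ := Scheme.Pullback.exists_preimage_pullback (f := f) (g := g) x y hxy
  refine ⟨h.isoPullback.inv z, ?_, ?_⟩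
  · rw [← Scheme.Hom.comp_apply, h.isoPullback_inv_fst]
    exact hz1
  · rw [← Scheme.Hom.comp_apply, h.isoPullback_inv_snd]
    exact hz2

section Base

variable {B : Scheme.{u}} {G H X Y : Over B} [GrpObj G] [GrpObj H]

/-- tensoring a pullback square with an object. -/
theorem isPullback_whiskerRight {P A A' C : Over B} {p₁ : P ⟶ A} {p₂ : P ⟶ A'} {f : A ⟶ C}
    {g : A' ⟶ C} (h : IsPullback p₁ p₂ f g) (X : Over B) :
    IsPullback (p₁ ▷ X) (p₂ ▷ X) (f ▷ X) (g ▷ X) := by
  have key : ∀ {W : Over B} (α : W ⟶ A ⊗ X) (β : W ⟶ A' ⊗ X), α ≫ (f ▷ X) = β ≫ (g ▷ X) →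
      (α ≫ fst A X) ≫ f = (β ≫ fst A' X) ≫ g := by
    intro W α β hαβ
    have := congrArg (fun t => t ≫ fst C X) hαβ
    simpa only [Category.assoc, whiskerRight_fst] using this
  refine isPullback_of_lift _ _ _ _ ?_ (fun α β hαβ =>
    lift (h.lift (α ≫ fst A X) (β ≫ fst A' X) (key α β hαβ)) (α ≫ snd A X)) ?_ ?_ ?_
  · rw [← comp_whiskerRight, ← comp_whiskerRight, h.w]
  · intro W α β hαβ
    apply CartesianMonoidalCategory.hom_ext
    · rw [Category.assoc, whiskerRight_fst, lift_fst_assoc, h.lift_fst]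
    · rw [Category.assoc, whiskerRight_snd, lift_snd]
  · intro W α β hαβ
    apply CartesianMonoidalCategory.hom_ext
    · rw [Category.assoc, whiskerRight_fst, lift_fst_assoc, h.lift_snd]
    · rw [Category.assoc, whiskerRight_snd, lift_snd]
      have := congrArg (fun t => t ≫ snd C X) hαβ
      simpa only [Category.assoc, whiskerRight_snd] using this
  · intro W m m' e1 e2
    apply CartesianMonoidalCategory.hom_ext
    · apply h.hom_ext
      · have := congrArg (fun t => t ≫ fst A X) e1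
        simpa only [Category.assoc, whiskerRight_fst] using this
      · have := congrArg (fun t => t ≫ fst A' X) e2
        simpa only [Category.assoc, whiskerRight_fst] using this
    · have := congrArg (fun t => t ≫ snd A X) e1
      simpa only [Category.assoc, whiskerRight_snd] using this

variable (a : AlgGrp.Action G X)

/-- `(g, y) ↦ g⁻¹ y`. -/
noncomputable def ψ : G ⊗ X ⟶ X := lift (fst G X)⁻¹ (snd G X) ≫ a.act

theorem lift_ψ {T : Over B} (g : T ⟶ G) (y : T ⟶ X) : lift g y ≫ ψ a = lift g⁻¹ y ≫ a.act := by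
  rw [ψ, ← Category.assoc, comp_lift, GrpObj.comp_inv, lift_fst, lift_snd]

/-- `(g, z) ↦ (g, g z)`. -/
noncomputable def Θ : G ⊗ X ⟶ G ⊗ X := lift (fst G X) a.act

/-- `(g, y) ↦ (g, g⁻¹ y)`. -/
noncomputable def Θ' : G ⊗ X ⟶ G ⊗ X := lift (fst G X) (ψ a)

theorem Θ_snd : Θ a ≫ snd G X = a.act := lift_snd _ _

theorem Θ'_snd : Θ' a ≫ snd G X = ψ a := lift_snd _ _

theorem Θ_ψ : Θ a ≫ ψ a = snd G X := by
  apply AlgGrp.Action.hom_ext_lift₂
  intro T g y
  rw [Θ, ← Category.assoc, comp_lift, lift_fst, lift_ψ, ← AlgGrp.Action.lift_mul_act,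
    inv_mul_cancel, AlgGrp.Action.lift_one_act, lift_snd]

theorem Θ'_act : Θ' a ≫ a.act = snd G X := by
  apply AlgGrp.Action.hom_ext_lift₂
  intro T g y
  rw [Θ', ← Category.assoc, comp_lift, lift_fst, lift_ψ, ← AlgGrp.Action.lift_mul_act,
    mul_inv_cancel, AlgGrp.Action.lift_one_act, lift_snd]

theorem image_act_eq (Z : Set ↥X.left) :
    a.act.left '' ((snd G X).left ⁻¹' Z) = (snd G X).left '' ((ψ a).left ⁻¹' Z) := by
  have e1 : ∀ w, (snd G X).left ((Θ a).left w) = a.act.left w := fun w => by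
    rw [← Scheme.Hom.comp_apply, ← Over.comp_left, Θ_snd]
  have e2 : ∀ w, (ψ a).left ((Θ a).left w) = (snd G X).left w := fun w => by
    rw [← Scheme.Hom.comp_apply, ← Over.comp_left, Θ_ψ]
  have e3 : ∀ w, (snd G X).left ((Θ' a).left w) = (ψ a).left w := fun w => by
    rw [← Scheme.Hom.comp_apply, ← Over.comp_left, Θ'_snd]
  have e4 : ∀ w, a.act.left ((Θ' a).left w) = (snd G X).left w := fun w => by
    rw [← Scheme.Hom.comp_apply, ← Over.comp_left, Θ'_act]
  apply Set.Subset.antisymm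
  · rintro _ ⟨w, hw, rfl⟩
    refine ⟨(Θ a).left w, ?_, e1 w⟩
    change (ψ a).left ((Θ a).left w) ∈ Z
    rw [e2]
    exact hw
  · rintro _ ⟨w, hw, rfl⟩
    refine ⟨(Θ' a).left w, ?_, e4 w⟩
    change (snd G X).left ((Θ' a).left w) ∈ Z
    rw [e3]
    exact hw

variable (i : H ⟶ G) [IsMonHom i]

/-- `((g, h), y) ↦ (h⁻¹, g⁻¹ y)`. -/
noncomputable def ρ : (G ⊗ H) ⊗ X ⟶ H ⊗ X :=
  lift (fst (G ⊗ H) X ≫ snd G H)⁻¹ (((fst G H) ▷ X) ≫ ψ a)

theorem lift_ρ {T : Over B} (g : T ⟶ G) (h : T ⟶ H) (y : T ⟶ X) :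
    lift (lift g h) y ≫ ρ a = lift h⁻¹ (lift g⁻¹ y ≫ a.act) := by
  rw [ρ, comp_lift, GrpObj.comp_inv, lift_fst_assoc, lift_snd, lift_whiskerRight_assoc, lift_fst,
    lift_ψ]

theorem ρ_snd : ρ a ≫ snd H X = ((fst G H) ▷ X) ≫ ψ a := lift_snd _ _

theorem ρ_act : ρ a ≫ (a.restrict i).act = (((G ◁ i) ≫ μ[G]) ▷ X) ≫ ψ a := by
  apply AlgGrp.Action.hom_ext_lift₃
  intro T g h y
  rw [← Category.assoc, lift_ρ, AlgGrp.Action.lift_restrict_act, ← AlgGrp.Action.lift_mul_act,
    lift_whiskerRight_assoc, lift_ψ, ← Category.assoc, lift_whiskerLeft, ← Hom.mul_def,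
    _root_.mul_inv_rev, GrpObj.inv_comp]

end Base

section Field

variable {k : Type u} [Field k] {G H X Y : Over (Spec (CommRingCat.of k))} [GrpObj G] [GrpObj H]
  (a : AlgGrp.Action G X) (i : H ⟶ G) [IsMonHom i] (b : AlgGrp.Action G Y)
  (o' : 𝟙_ (Over (Spec (CommRingCat.of k))) ⟶ Y)

/-- if `G/H` is proper and `Z` is a closed `H`-stable subset of `X`, then `G · Z` is closed. -/
theorem isClosed_act_image [LocallyOfFiniteType G.hom] (hY : AGF.IsQuotient i Y b o')
    [IsProper Y.hom] (Z : Set ↥X.left) (hZ : IsClosed Z) (hZst : Stable (a.restrict i) Z) :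
    IsClosed (a.act.left '' ((snd G X).left ⁻¹' Z)) := by
  obtain ⟨hlft, hflat, hsurj, hsq⟩ := hY
  let π : G ⟶ Y := b.orbitMap o'
  rw [image_act_eq]
  let M : Set ↥(G ⊗ X).left := (ψ a).left ⁻¹' Z
  have hM : IsClosed M := hZ.preimage (ψ a).left.continuous
  haveI : LocallyOfFiniteType π.left := by
    haveI : LocallyOfFiniteType (π.left ≫ Y.hom) := by rw [Over.w π]; infer_instance
    exact locallyOfFiniteType_of_comp π.left Y.hom
  haveI : IsLocallyNoetherian Y.left := LocallyOfFiniteType.isLocallyNoetherian Y.hom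
  haveI : Flat π.left := hflat
  haveI : Surjective π.left := hsurj
  haveI : LocallyOfFinitePresentation π.left := inferInstance
  haveI : UniversallyOpen π.left := inferInstance
  haveI : UniversallyOpen (π ▷ X).left :=
    whiskerRight_left_of_prop @UniversallyOpen π X inferInstance
  haveI : Surjective (π ▷ X).left :=
    whiskerRight_left_of_prop @Surjective π X inferInstance
  let N : Set ↥(Y ⊗ X).left := (π ▷ X).left '' M
  -- saturation
  have hsat : ∀ w w' : ↥(G ⊗ X).left, (π ▷ X).left w = (π ▷ X).left w' → w ∈ M → w' ∈ M := by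
    intro w w' hww' hw
    have sq := (isPullback_whiskerRight hsq X).map (Over.forget _)
    obtain ⟨v, hv1, hv2⟩ := exists_preimage_of_isPullback sq w w' hww'
    have hv1' : ((fst G H) ▷ X).left v = w := hv1
    have hv2' : (((G ◁ i) ≫ μ[G]) ▷ X).left v = w' := hv2
    have h1 : (snd H X).left ((ρ a).left v) ∈ Z := by
      rw [← Scheme.Hom.comp_apply, ← Over.comp_left, ρ_snd, Over.comp_left,
        Scheme.Hom.comp_apply, hv1']
      exact hw
    have h2 := hZst _ h1
    rw [← Scheme.Hom.comp_apply, ← Over.comp_left, ρ_act, Over.comp_left,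
      Scheme.Hom.comp_apply, hv2'] at h2
    exact h2
  have hN : IsClosed N := by
    rw [← isOpen_compl_iff]
    have : Nᶜ = (π ▷ X).left '' Mᶜ := by
      apply Set.Subset.antisymm
      · intro n hn
        obtain ⟨w', rfl⟩ := (‹Surjective (π ▷ X).left›).1 n
        refine ⟨w', fun hw' => hn ⟨w', hw', rfl⟩, rfl⟩
      · rintro _ ⟨w', hw', rfl⟩ ⟨w, hw, hww'⟩
        exact hw' (hsat w w' hww' hw)
    rw [this]
    exact (π ▷ X).left.isOpenMap _ hM.isOpen_compl
  have hsnd : (snd G X).left '' M = (snd Y X).left '' N := by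
    have e : ∀ w, (snd Y X).left ((π ▷ X).left w) = (snd G X).left w := fun w => by
      rw [← Scheme.Hom.comp_apply, ← Over.comp_left, whiskerRight_snd]
    apply Set.Subset.antisymm
    · rintro _ ⟨w, hw, rfl⟩
      exact ⟨(π ▷ X).left w, ⟨w, hw, rfl⟩, e w⟩
    · rintro _ ⟨_, ⟨w, hw, rfl⟩, rfl⟩
      exact ⟨w, hw, (e w).symm⟩
  change IsClosed ((snd G X).left '' M)
  rw [hsnd]
  haveI : UniversallyClosed (snd Y X).left := by
    rw [Over.snd_left]
    infer_instance
  exact (snd Y X).left.isClosedMap _ hN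

end Field

end Groth.Agent.Lib.Helper10.ProperQuot
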