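import Mathlib
import Groth.Prelude.Def_W4bk4git07Quot
import Groth.Agent.Lib.Helper10.HomSp1
import Groth.Agent.Lib.Helper10.ProperQuot1

/-!
# Invariant sections and restriction of an action to an invariant open subscheme
-/

set_option autoImplicit false
set_option backward.isDefEq.respectTransparency.types false
set_option maxHeartbeats 4000000
set_option synthInstance.maxHeartbeats 400000
universe u
open CategoryTheory CategoryTheory.Limits AlgebraicGeometry MonoidalCategory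
  CartesianMonoidalCategory MonObj GrpObj TopologicalSpace

namespace Groth.Agent.Lib.Helper10.InvSec

open Groth.Agent.Lib.Helper10 Groth.Agent.Lib.Helper10.HomSp

variable {S : Scheme.{u}} {G X XU : Over S} [GrpObj G] (a : AlgGrp.Action G X)
  (aU : AlgGrp.Action G XU) (jU : XU ⟶ X) (haU : aU.act ≫ jU = (G ◁ jU) ≫ a.act)

/-- invariance of a section over an open `V` of `X`, for the action `a`. -/
def IsInv (V : X.left.Opens) (f : Γ(X.left, V)) : Prop :=
  a.act.left.appLE V (a.act.left ⁻¹ᵁ V ⊓ (snd G X).left ⁻¹ᵁ V) inf_le_left f =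
    (snd G X).left.appLE V (a.act.left ⁻¹ᵁ V ⊓ (snd G X).left ⁻¹ᵁ V) inf_le_right f

theorem isInvSection_iff {Y : Over S} (φ : X ⟶ Y) (U : Y.left.Opens)
    (f : Γ(X.left, φ.left ⁻¹ᵁ U)) :
    GIT.IsInvSection a φ U f ↔ IsInv a (φ.left ⁻¹ᵁ U) f := Iff.rfl

theorem isOpenImmersion_whiskerLeft [IsOpenImmersion jU.left] :
    IsOpenImmersion (G ◁ jU).left :=
  MorphismProperty.of_isPullback
    ((isPullback_whiskerLeft_snd G jU).map (Over.forget S)).flip ‹IsOpenImmersion jU.left›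

include haU in
theorem act_jU_left : aU.act.left ≫ jU.left = (G ◁ jU).left ≫ a.act.left := by
  rw [← Over.comp_left, ← Over.comp_left, haU]

theorem snd_jU_left : (snd G XU).left ≫ jU.left = (G ◁ jU).left ≫ (snd G X).left := by
  rw [← Over.comp_left, ← Over.comp_left, whiskerLeft_snd]

include haU in
theorem preimage_W (V : X.left.Opens) :
    (G ◁ jU).left ⁻¹ᵁ (a.act.left ⁻¹ᵁ V ⊓ (snd G X).left ⁻¹ᵁ V) =
      aU.act.left ⁻¹ᵁ (jU.left ⁻¹ᵁ V) ⊓ (snd G XU).left ⁻¹ᵁ (jU.left ⁻¹ᵁ V) := by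
  ext p
  have e1 : a.act.left ((G ◁ jU).left p) = jU.left (aU.act.left p) := by
    have := congrArg (fun t => t.base p) (act_jU_left a aU jU haU)
    simpa only [Scheme.Hom.comp_base, TopCat.comp_app] using this.symm
  have e2 : (snd G X).left ((G ◁ jU).left p) = jU.left ((snd G XU).left p) := by
    have := congrArg (fun t => t.base p) (snd_jU_left (G := G) jU)
    simpa only [Scheme.Hom.comp_base, TopCat.comp_app] using this.symm
  constructor
  · rintro ⟨h1, h2⟩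
    refine ⟨?_, ?_⟩
    · show jU.left (aU.act.left p) ∈ V
      rw [← e1]; exact h1
    · show jU.left ((snd G XU).left p) ∈ V
      rw [← e2]; exact h2
  · rintro ⟨h1, h2⟩
    refine ⟨?_, ?_⟩
    · show a.act.left ((G ◁ jU).left p) ∈ V
      rw [e1]; exact h1
    · show (snd G X).left ((G ◁ jU).left p) ∈ V
      rw [e2]; exact h2

include haU in
/-- restriction of an invariant section is invariant. -/
theorem isInv_restrict (V : X.left.Opens) (f : Γ(X.left, V)) (hf : IsInv a V f) :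
    IsInv aU (jU.left ⁻¹ᵁ V) (jU.left.app V f) := by
  unfold IsInv at hf ⊢
  have hW := (preimage_W a aU jU haU V).ge
  have e1 : jU.left.app V ≫ aU.act.left.appLE (jU.left ⁻¹ᵁ V)
      (aU.act.left ⁻¹ᵁ (jU.left ⁻¹ᵁ V) ⊓ (snd G XU).left ⁻¹ᵁ (jU.left ⁻¹ᵁ V)) inf_le_left =
      a.act.left.appLE V (a.act.left ⁻¹ᵁ V ⊓ (snd G X).left ⁻¹ᵁ V) inf_le_left ≫
        (G ◁ jU).left.appLE _ _ hW := by
    rw [Scheme.Hom.app_eq_appLE, Scheme.Hom.appLE_comp_appLE, Scheme.Hom.appLE_comp_appLE]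
    have := act_jU_left a aU jU haU
    congr 1
  have e2 : jU.left.app V ≫ (snd G XU).left.appLE (jU.left ⁻¹ᵁ V)
      (aU.act.left ⁻¹ᵁ (jU.left ⁻¹ᵁ V) ⊓ (snd G XU).left ⁻¹ᵁ (jU.left ⁻¹ᵁ V)) inf_le_right =
      (snd G X).left.appLE V (a.act.left ⁻¹ᵁ V ⊓ (snd G X).left ⁻¹ᵁ V) inf_le_right ≫
        (G ◁ jU).left.appLE _ _ hW := by
    rw [Scheme.Hom.app_eq_appLE, Scheme.Hom.appLE_comp_appLE, Scheme.Hom.appLE_comp_appLE]
    have := snd_jU_left (G := G) jU
    congr 1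
  have h1 := congrArg (fun t => t.hom f) e1
  have h2 := congrArg (fun t => t.hom f) e2
  simp only [CommRingCat.hom_comp, RingHom.comp_apply] at h1 h2
  rw [h1, h2, hf]

theorem W_le_opensRange [IsOpenImmersion jU.left] (V : X.left.Opens)
    (hV : V ≤ jU.left.opensRange) :
    haveI := isOpenImmersion_whiskerLeft (G := G) jU
    a.act.left ⁻¹ᵁ V ⊓ (snd G X).left ⁻¹ᵁ V ≤ (G ◁ jU).left.opensRange := by
  rintro p ⟨-, hp2⟩
  obtain ⟨xU, hxU⟩ := hV hp2
  have sq : IsPullback (G ◁ jU).left (snd G XU).left (snd G X).left jU.left :=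
    (isPullback_whiskerLeft_snd G jU).map (Over.forget S)
  obtain ⟨p', hp', -⟩ := ProperQuot.exists_preimage_of_isPullback sq p xU hxU.symm
  exact ⟨p', hp'⟩

include haU in
/-- a section over an open contained in the image of `jU` is invariant as soon as its restriction
is. -/
theorem isInv_of_restrict [IsOpenImmersion jU.left] (V : X.left.Opens)
    (hV : V ≤ jU.left.opensRange) (f : Γ(X.left, V))
    (hf : IsInv aU (jU.left ⁻¹ᵁ V) (jU.left.app V f)) : IsInv a V f := by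
  haveI := isOpenImmersion_whiskerLeft (G := G) jU
  unfold IsInv at hf ⊢
  have hWeq := preimage_W a aU jU haU V
  have hW := hWeq.ge
  have e1 : jU.left.app V ≫ aU.act.left.appLE (jU.left ⁻¹ᵁ V)
      (aU.act.left ⁻¹ᵁ (jU.left ⁻¹ᵁ V) ⊓ (snd G XU).left ⁻¹ᵁ (jU.left ⁻¹ᵁ V)) inf_le_left =
      a.act.left.appLE V (a.act.left ⁻¹ᵁ V ⊓ (snd G X).left ⁻¹ᵁ V) inf_le_left ≫
        (G ◁ jU).left.appLE _ _ hW := by
    rw [Scheme.Hom.app_eq_appLE, Scheme.Hom.appLE_comp_appLE, Scheme.Hom.appLE_comp_appLE]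
    have := act_jU_left a aU jU haU
    congr 1
  have e2 : jU.left.app V ≫ (snd G XU).left.appLE (jU.left ⁻¹ᵁ V)
      (aU.act.left ⁻¹ᵁ (jU.left ⁻¹ᵁ V) ⊓ (snd G XU).left ⁻¹ᵁ (jU.left ⁻¹ᵁ V)) inf_le_right =
      (snd G X).left.appLE V (a.act.left ⁻¹ᵁ V ⊓ (snd G X).left ⁻¹ᵁ V) inf_le_right ≫
        (G ◁ jU).left.appLE _ _ hW := by
    rw [Scheme.Hom.app_eq_appLE, Scheme.Hom.appLE_comp_appLE, Scheme.Hom.appLE_comp_appLE]
    have := snd_jU_left (G := G) jU
    congr 1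
  have h1 := congrArg (fun t => t.hom f) e1
  have h2 := congrArg (fun t => t.hom f) e2
  simp only [CommRingCat.hom_comp, RingHom.comp_apply] at h1 h2
  rw [h1, h2] at hf
  have hiso : IsIso ((G ◁ jU).left.appLE (a.act.left ⁻¹ᵁ V ⊓ (snd G X).left ⁻¹ᵁ V) _ hW) := by
    rw [Scheme.Hom.appLE]
    haveI := Scheme.Hom.isIso_app (G ◁ jU).left _ (W_le_opensRange a jU V hV)
    have : homOfLE hW = eqToHom hWeq.symm := Subsingleton.elim _ _
    rw [this]
    infer_instance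
  exact ((ConcreteCategory.isIso_iff_bijective _).mp hiso).1 hf

/-- an invariant section over an open equal to `⊤` has equal pull-backs along `σ` and `p₂`. -/
theorem appTop_eq_of_isInv (V : X.left.Opens) (hV : V = ⊤) (g : Γ(X.left, ⊤))
    (h : IsInv a V (X.left.presheaf.map (homOfLE le_top).op g)) :
    a.act.left.appTop g = (snd G X).left.appTop g := by
  subst hV
  unfold IsInv at h
  have e1 : X.left.presheaf.map (homOfLE (le_top : (⊤ : X.left.Opens) ≤ ⊤)).op ≫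
      a.act.left.appLE ⊤ (a.act.left ⁻¹ᵁ ⊤ ⊓ (snd G X).left ⁻¹ᵁ ⊤) inf_le_left =
      a.act.left.appTop ≫ (G ⊗ X).left.presheaf.map
        (homOfLE (le_top : a.act.left ⁻¹ᵁ ⊤ ⊓ (snd G X).left ⁻¹ᵁ ⊤ ≤ ⊤)).op := by
    rw [Scheme.Hom.map_appLE, Scheme.Hom.appLE]
    rfl
  have e2 : X.left.presheaf.map (homOfLE (le_top : (⊤ : X.left.Opens) ≤ ⊤)).op ≫
      (snd G X).left.appLE ⊤ (a.act.left ⁻¹ᵁ ⊤ ⊓ (snd G X).left ⁻¹ᵁ ⊤) inf_le_right =
      (snd G X).left.appTop ≫ (G ⊗ X).left.presheaf.map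
        (homOfLE (le_top : a.act.left ⁻¹ᵁ ⊤ ⊓ (snd G X).left ⁻¹ᵁ ⊤ ≤ ⊤)).op := by
    rw [Scheme.Hom.map_appLE, Scheme.Hom.appLE]
    rfl
  have h1 := congrArg (fun t => t.hom g) e1
  have h2 := congrArg (fun t => t.hom g) e2
  simp only [CommRingCat.hom_comp, RingHom.comp_apply] at h1 h2
  rw [h1, h2] at h
  have hWtop : a.act.left ⁻¹ᵁ (⊤ : X.left.Opens) ⊓ (snd G X).left ⁻¹ᵁ ⊤ = ⊤ := by
    ext p
    simp
  have hiso : IsIso ((G ⊗ X).left.presheaf.map
      (homOfLE (le_top : a.act.left ⁻¹ᵁ ⊤ ⊓ (snd G X).left ⁻¹ᵁ ⊤ ≤ ⊤)).op) := by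
    have : homOfLE (le_top : a.act.left ⁻¹ᵁ ⊤ ⊓ (snd G X).left ⁻¹ᵁ ⊤ ≤ ⊤) = eqToHom hWtop :=
      Subsingleton.elim _ _
    rw [this]
    infer_instance
  exact ((ConcreteCategory.isIso_iff_bijective _).mp hiso).1 h

/-- the restriction of a section over an open `V` to the open subscheme `V`, as a global section,
restricts to `V.ι.app V f` over `V.ι ⁻¹ᵁ V`. -/
theorem topIso_inv_restrict {X : Scheme.{u}} (V : X.Opens) (f : Γ(X, V)) :
    V.toScheme.presheaf.map (homOfLE (le_top : V.ι ⁻¹ᵁ V ≤ ⊤)).op (V.topIso.inv f) =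
      V.ι.app V f := by
  have e : V.topIso.inv ≫ V.toScheme.presheaf.map (homOfLE (le_top : V.ι ⁻¹ᵁ V ≤ ⊤)).op =
      V.ι.app V := by
    rw [Scheme.Opens.topIso_inv, Scheme.Opens.ι_app_self]
    change X.presheaf.map _ ≫ X.presheaf.map _ = _
    rw [← Functor.map_comp]
    congr 1
  exact congrArg (fun t => t.hom f) e

end Groth.Agent.Lib.Helper10.InvSec
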