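import Mathlib
import Groth.Prelude.Def_W4bk4git07Quot
import Groth.Agent.Lib.Helper10.BCAct1
import Groth.Agent.Lib.Helper10.InvSec1
import Groth.Agent.Lib.Helper10.A1Rep
import Groth.Agent.Lib.Helper10.CatQuot2

/-!
# Universal categorical quotients: surjectivity and the sheaf of invariants
-/

set_option autoImplicit false
set_option backward.isDefEq.respectTransparency.types false
set_option maxHeartbeats 4000000
set_option synthInstance.maxHeartbeats 400000
universe u
open CategoryTheory CategoryTheory.Limits AlgebraicGeometry MonoidalCategory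
  CartesianMonoidalCategory MonObj GrpObj TopologicalSpace

namespace Groth.Agent.Lib.Helper10.UCatQuot

open Groth.Agent.Lib.Helper10 Groth.Agent.Lib.Helper10.HomSp

variable {S : Scheme.{u}} {G X Y : Over S} [GrpObj G] (a : AlgGrp.Action G X) (φ : X ⟶ Y)

section Restrict

variable (U : Y.left.Opens)

/-- the open subscheme `U` of `Y` as an object over `S`. -/
noncomputable def YU : Over S := Over.mk (U.ι ≫ Y.hom)

/-- the open subscheme `φ⁻¹U` of `X` as an object over `S`. -/
noncomputable def XU : Over S := Over.mk ((φ.left ⁻¹ᵁ U).ι ≫ X.hom)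

noncomputable def gU : YU U ⟶ Y := Over.homMk U.ι rfl

noncomputable def prU : XU φ U ⟶ X := Over.homMk (φ.left ⁻¹ᵁ U).ι rfl

noncomputable def φU : XU φ U ⟶ YU U :=
  Over.homMk (φ.left ∣_ U) (by
    show (φ.left ∣_ U) ≫ U.ι ≫ Y.hom = (φ.left ⁻¹ᵁ U).ι ≫ X.hom
    rw [← Category.assoc, morphismRestrict_ι, Category.assoc, Over.w])

theorem isPullback_U : IsPullback (prU φ U) (φU φ U) φ (gU U) := by
  refine IsPullback.of_map (Over.forget S) ?_ ?_
  · apply Over.OverMorphism.ext
    exact (morphismRestrict_ι φ.left U).symm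
  · exact (isPullback_morphismRestrict φ.left U).flip

theorem φU_appTop :
    (φU φ U).left.appTop = U.topIso.hom ≫ φ.left.app U ≫ (φ.left ⁻¹ᵁ U).topIso.inv := by
  show (φ.left ∣_ U).appTop = _
  rw [← Scheme.Hom.resLE_eq_morphismRestrict]
  have := Scheme.Hom.resLE_app_top φ.left (U := U) (V := φ.left ⁻¹ᵁ U) le_rfl
  rw [Scheme.Hom.appLE_eq_app] at this
  exact this

end Restrict

/-- A universal categorical quotient is surjective. -/
theorem surjective_of_isUnivCatQuot (h : GIT.IsUnivCatQuot a φ) : Function.Surjective φ.left := by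
  intro y
  by_contra hy
  let j : Spec (Y.left.residueField y) ⟶ Y.left := Y.left.fromSpecResidueField y
  let Y' : Over S := Over.mk (j ≫ Y.hom)
  let g : Y' ⟶ Y := Over.homMk j rfl
  have hpb : IsPullback (pullback.fst φ g) (pullback.snd φ g) φ g := IsPullback.of_hasPullback φ g
  obtain ⟨a', ha', hinv'⟩ := BCAct.exists_induced_action a φ _ _ g hpb h.1.1
  have hcq : GIT.IsCatQuot a' (pullback.snd φ g) := h.2 _ _ g trivial hpb a' ha' hinv'
  haveI hemp : IsEmpty ↥(pullback φ g).left := by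
    refine ⟨fun x' => hy ⟨(pullback.fst φ g).left x', ?_⟩⟩
    have := congrArg (fun t => t.left x') hpb.w
    simp only [Over.comp_left, Scheme.Hom.comp_apply] at this
    rw [this]
    exact Y.left.fromSpecResidueField_apply y _
  haveI hemp2 : IsEmpty ↥(G ⊗ pullback φ g).left :=
    Function.isEmpty (snd G (pullback φ g)).left
  have hinvid : GIT.IsInvariant a' (𝟙 (pullback φ g)) := by
    unfold GIT.IsInvariant
    apply Over.OverMorphism.ext
    exact isInitialOfIsEmpty.hom_ext _ _
  obtain ⟨χ, -, -⟩ := hcq.2 _ (𝟙 _) hinvid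
  exact hemp.false (χ.left
    (show ↥(Spec (Y.left.residueField y)) from IsLocalRing.closedPoint (Y.left.residueField y)))

/-- For a universal categorical quotient, `O_Y` is the sheaf of invariant functions. -/
theorem sections_of_isUnivCatQuot (h : GIT.IsUnivCatQuot a φ) (U : Y.left.Opens) :
    Function.Injective (φ.left.app U) ∧
      Set.range (φ.left.app U) = {f | GIT.IsInvSection a φ U f} := by
  obtain ⟨a', ha', hinv'⟩ := BCAct.exists_induced_action a φ (prU φ U) (φU φ U) (gU U)
    (isPullback_U φ U) h.1.1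
  have hcq : GIT.IsCatQuot a' (φU φ U) :=
    h.2 _ _ (gU U) trivial (isPullback_U φ U) a' ha' hinv'
  have happ0 : U.topIso.inv ≫ (φU φ U).left.appTop =
      φ.left.app U ≫ (φ.left ⁻¹ᵁ U).topIso.inv := by
    rw [φU_appTop]
    exact Iso.inv_hom_id_assoc U.topIso _
  have happ : ∀ s : Γ(Y.left, U), (φU φ U).left.appTop (U.topIso.inv s) =
      (φ.left ⁻¹ᵁ U).topIso.inv (φ.left.app U s) := by
    intro s
    exact congrArg (fun t => t.hom s) happ0
  have hinvhom : ∀ s : Γ(Y.left, U), U.topIso.hom (U.topIso.inv s) = s := by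
    intro s
    exact congrArg (fun t => t.hom s) U.topIso.inv_hom_id
  refine ⟨?_, ?_⟩
  · intro s t hst
    have e1 : φU φ U ≫ A1Rep.ofSec (U.topIso.inv s) = φU φ U ≫ A1Rep.ofSec (U.topIso.inv t) := by
      rw [A1Rep.comp_ofSec, A1Rep.comp_ofSec, happ, happ, hst]
    have hinvψ : GIT.IsInvariant a' (φU φ U ≫ A1Rep.ofSec (U.topIso.inv s)) := by
      unfold GIT.IsInvariant
      rw [← Category.assoc, hinv', Category.assoc]
    obtain ⟨χ, -, hχ⟩ := hcq.2 _ _ hinvψ
    have h1 := hχ (A1Rep.ofSec (U.topIso.inv s)) rfl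
    have h2 := hχ (A1Rep.ofSec (U.topIso.inv t)) e1.symm
    have h3 := congrArg A1Rep.sec (h1.trans h2.symm)
    rw [A1Rep.sec_ofSec, A1Rep.sec_ofSec] at h3
    have h4 := congrArg U.topIso.hom h3
    rw [hinvhom, hinvhom] at h4
    exact h4
  · apply Set.Subset.antisymm
    · rintro _ ⟨s, rfl⟩
      have := CatQuot.isInvSection_appLE a φ φ h.1.1 U U le_rfl s
      rwa [Scheme.Hom.appLE_eq_app] at this
    · intro f hf
      haveI : IsOpenImmersion (prU φ U).left := by
        show IsOpenImmersion (φ.left ⁻¹ᵁ U).ι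
        infer_instance
      -- the restriction of `f` is an invariant global function on `φ⁻¹U`
      have hf1 : InvSec.IsInv a' ((prU φ U).left ⁻¹ᵁ (φ.left ⁻¹ᵁ U))
          ((prU φ U).left.app (φ.left ⁻¹ᵁ U) f) :=
        InvSec.isInv_restrict a a' (prU φ U) ha' _ f hf
      let f' : Γ((XU φ U).left, ⊤) := (φ.left ⁻¹ᵁ U).topIso.inv f
      have hf2 : a'.act.left.appTop f' = (snd G (XU φ U)).left.appTop f' := by
        apply InvSec.appTop_eq_of_isInv a' ((prU φ U).left ⁻¹ᵁ (φ.left ⁻¹ᵁ U))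
          (Scheme.Opens.ι_preimage_self _)
        have := InvSec.topIso_inv_restrict (φ.left ⁻¹ᵁ U) f
        rw [show (XU φ U).left.presheaf.map (homOfLE (le_top :
          (prU φ U).left ⁻¹ᵁ (φ.left ⁻¹ᵁ U) ≤ ⊤)).op f' = (prU φ U).left.app (φ.left ⁻¹ᵁ U) f
          from this]
        exact hf1
      have hinvψ : GIT.IsInvariant a' (A1Rep.ofSec f') := by
        unfold GIT.IsInvariant
        rw [A1Rep.comp_ofSec, A1Rep.comp_ofSec, hf2]
      obtain ⟨χ, hχ, -⟩ := hcq.2 _ _ hinvψ
      refine ⟨U.topIso.hom (A1Rep.sec χ), ?_⟩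
      have h1 : (φU φ U).left.appTop (A1Rep.sec χ) = f' := by
        rw [← A1Rep.sec_comp, hχ, A1Rep.sec_ofSec]
      have hhominv : ∀ s' : Γ((YU U).left, ⊤), U.topIso.inv (U.topIso.hom s') = s' := by
        intro s'
        exact congrArg (fun t => t.hom s') U.topIso.hom_inv_id
      have h2 := happ (U.topIso.hom (A1Rep.sec χ))
      rw [hhominv, h1] at h2
      have h3 := congrArg (φ.left ⁻¹ᵁ U).topIso.hom h2
      have hinvhom' : ∀ t : Γ(X.left, φ.left ⁻¹ᵁ U),
          (φ.left ⁻¹ᵁ U).topIso.hom ((φ.left ⁻¹ᵁ U).topIso.inv t) = t := by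
        intro t
        exact congrArg (fun r => r.hom t) (φ.left ⁻¹ᵁ U).topIso.inv_hom_id
      rw [hinvhom', hinvhom'] at h3
      exact h3.symm

/-- A universal categorical quotient which is universally submersive with `(σ, p₂)` surjective is a
geometric quotient. -/
theorem isGeomQuot_of_isUnivCatQuot (h : GIT.IsUnivCatQuot a φ)
    (hsub : GIT.IsUnivSubmersive φ.left)
    (horb : Function.Surjective (GIT.PsiY a φ h.1.1).base) : GIT.IsGeomQuot a φ :=
  ⟨h.1.1, surjective_of_isUnivCatQuot a φ h, horb, hsub, sections_of_isUnivCatQuot a φ h⟩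

/-- Base change of a universal categorical quotient. -/
theorem isUnivCatQuot_baseChange (h : GIT.IsUnivCatQuot a φ) {X' Y' : Over S} (pr : X' ⟶ X)
    (φ' : X' ⟶ Y') (g : Y' ⟶ Y) (hpb : IsPullback pr φ' φ g) (a' : AlgGrp.Action G X')
    (ha' : a'.act ≫ pr = (G ◁ pr) ≫ a.act) (hinv' : GIT.IsInvariant a' φ') :
    GIT.IsUnivCatQuot a' φ' := by
  refine ⟨h.2 pr φ' g trivial hpb a' ha' hinv', ?_⟩
  intro X'' Y'' pr₂ φ'' g₂ _ hpb₂ a'' ha'' hinv''
  refine h.2 (pr₂ ≫ pr) φ'' (g₂ ≫ g) trivial (hpb₂.paste_horiz hpb) a'' ?_ hinv''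
  rw [← Category.assoc, ha'', Category.assoc, ha', MonoidalCategory.whiskerLeft_comp,
    Category.assoc]

theorem isUnivGeomQuot_iff (h : GIT.IsUnivCatQuot a φ) :
    GIT.IsUnivGeomQuot a φ ↔
      GIT.IsUnivSubmersive φ.left ∧ Function.Surjective (GIT.PsiY a φ h.1.1).base := by
  constructor
  · intro hu
    exact ⟨hu.1.subm, hu.1.orbit⟩
  · rintro ⟨hsub, horb⟩
    refine ⟨isGeomQuot_of_isUnivCatQuot a φ h hsub horb, ?_⟩
    intro X' Y' pr φ' g _ hpb a' ha' hinv'
    have hU' := isUnivCatQuot_baseChange a φ h pr φ' g hpb a' ha' hinv'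
    have hpbL : IsPullback pr.left φ'.left φ.left g.left := hpb.map (Over.forget S)
    have hsub' : GIT.IsUnivSubmersive φ'.left :=
      (MorphismProperty.universally_isStableUnderBaseChange _).of_isPullback hpbL hsub
    have horb' := BCAct.surjective_PsiY hpb h.1.1 a' ha' hinv' horb
    exact isGeomQuot_of_isUnivCatQuot a' φ' hU' hsub' horb'

end Groth.Agent.Lib.Helper10.UCatQuot
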