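import Mathlib
import Groth.Prelude.Def_W4c6nonredquotmfGoodQuot
import Groth.Agent.Lib.Helper10.UCatQuot1
import Groth.Agent.Lib.Helper10.ClosedOrb2
import Groth.Agent.Lib.Helper10.CatQuot1

/-!
# Restriction of a good quotient to the preimage of an open subset
-/

set_option autoImplicit false
set_option backward.isDefEq.respectTransparency.types false
set_option maxHeartbeats 4000000
set_option synthInstance.maxHeartbeats 400000
universe u
open CategoryTheory CategoryTheory.Limits AlgebraicGeometry MonoidalCategory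
  CartesianMonoidalCategory MonObj GrpObj TopologicalSpace

namespace Groth.Agent.Lib.Helper10.GoodQuot

open Groth.Agent.Lib.Helper10 Groth.Agent.Lib.Helper10.HomSp Groth.Agent.Lib.Helper10.UCatQuot

section General

variable {S : Scheme.{u}} {G X : Over S} [GrpObj G] (a : AlgGrp.Action G X)

theorem isInv_congr {V V' : X.left.Opens} (e : V' = V) (f : Γ(X.left, V)) :
    InvSec.IsInv a V f ↔ InvSec.IsInv a V' (X.left.presheaf.map (eqToHom e).op f) := by
  subst e
  simp

variable {XU : Over S} (aU : AlgGrp.Action G XU) (jU : XU ⟶ X)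
  (haU : aU.act ≫ jU = (G ◁ jU) ≫ a.act)

include haU in
/-- the image of an invariant subset under an equivariant map which is a base change is
invariant. -/
theorem image_invariant (W : Set XU.left)
    (hW : ∀ p : ↥(G ⊗ XU).left, (snd G XU).left p ∈ W → aU.act.left p ∈ W) :
    ∀ p : ↥(G ⊗ X).left, (snd G X).left p ∈ jU.left '' W → a.act.left p ∈ jU.left '' W := by
  rintro p ⟨w, hw, hwp⟩
  have sq : IsPullback (G ◁ jU).left (snd G XU).left (snd G X).left jU.left :=
    (isPullback_whiskerLeft_snd G jU).map (Over.forget S)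
  obtain ⟨p', hp', hp'2⟩ := ProperQuot.exists_preimage_of_isPullback sq p w hwp.symm
  refine ⟨aU.act.left p', hW p' (hp'2 ▸ hw), ?_⟩
  rw [← hp']
  have := congrArg (fun t => t.base p') (InvSec.act_jU_left a aU jU haU)
  simpa only [Scheme.Hom.comp_base, TopCat.comp_app] using this

end General

section Field

variable {k : Type u} [Field k] {G X Y : Over (Spec (CommRingCat.of k))} [GrpObj G]
  (a : AlgGrp.Action G X) (φ : X ⟶ Y)

theorem φU_apply_coe (U : Y.left.Opens) (x : ↥(XU φ U).left) :
    ((φU φ U).left x).1 = φ.left x.1 :=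
  morphismRestrict_base_coe φ.left U x

theorem prU_apply (U : Y.left.Opens) (x : ↥(XU φ U).left) : (prU φ U).left x = x.1 := rfl

include a in
theorem invariant_φU (hinv : GIT.IsInvariant a φ) (U : Y.left.Opens)
    (aU : AlgGrp.Action G (XU φ U)) (haU : aU.act ≫ prU φ U = (G ◁ prU φ U) ≫ a.act) :
    GIT.IsInvariant aU (φU φ U) := by
  unfold GIT.IsInvariant
  haveI : Mono (gU (Y := Y) U) := by
    haveI : Mono ((Over.forget _).map (gU (Y := Y) U)) := by
      show Mono U.ι
      infer_instance
    exact (Over.forget _).mono_of_mono_map inferInstance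
  rw [← cancel_mono (gU (Y := Y) U)]
  have hw : φU φ U ≫ gU U = prU φ U ≫ φ := (isPullback_U φ U).w.symm
  rw [Category.assoc, Category.assoc, hw, ← Category.assoc, haU, Category.assoc, hinv,
    ← Category.assoc, whiskerLeft_snd, Category.assoc]

/-- points of `φ⁻¹U` lying in the closure of the image of a closed subset `W` of `φ⁻¹U` lie in
`W`. -/
theorem mem_of_mem_closure_image (U : Y.left.Opens) (W : Set ↥(XU φ U).left) (hW : IsClosed W)
    (x : ↥(XU φ U).left) (hx : (prU φ U).left x ∈ closure ((prU φ U).left '' W)) : x ∈ W := by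
  have hemb : Topology.IsEmbedding (prU φ U).left :=
    (φ.left ⁻¹ᵁ U).ι.isOpenEmbedding.isEmbedding
  have : x ∈ closure W := by
    rw [hemb.closure_eq_preimage_closure_image]
    exact hx
  rwa [hW.closure_eq] at this

theorem isGoodQuot_restrict (h : NRQuot.IsGoodQuot a φ) (U : Y.left.Opens)
    (aU : AlgGrp.Action G (XU φ U)) (haU : aU.act ≫ prU φ U = (G ◁ prU φ U) ≫ a.act) :
    NRQuot.IsGoodQuot aU (φU φ U) := by
  have hinv' := invariant_φU a φ h.inv U aU haU
  haveI : IsOpenImmersion (prU φ U).left := by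
    show IsOpenImmersion (φ.left ⁻¹ᵁ U).ι
    infer_instance
  -- closures of images of invariant closed subsets
  have hbar : ∀ W : Set ↥(XU φ U).left, NRQuot.IsInvariantSet aU W →
      NRQuot.IsInvariantSet a (closure ((prU φ U).left '' W)) := by
    intro W hW
    exact ClosedOrb.Stable.closure (image_invariant a aU (prU φ U) haU W hW)
  refine ⟨?_, hinv', ?_, ?_, ?_⟩
  · show IsAffineHom (φ.left ∣_ U)
    exact IsZariskiLocalAtTarget.restrict h.affine U
  · intro V
    refine ⟨CatQuot.restrict_app_injective φ.left (fun U => (h.sections U).1) U V, ?_⟩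
    apply Set.Subset.antisymm
    · rintro _ ⟨s, rfl⟩
      have := CatQuot.isInvSection_appLE aU (φU φ U) (φU φ U) hinv' V V le_rfl s
      rwa [Scheme.Hom.appLE_eq_app] at this
    · intro f hf
      have e₁ : (φ.left ⁻¹ᵁ U).ι ''ᵁ ((φ.left ∣_ U) ⁻¹ᵁ V) = φ.left ⁻¹ᵁ (U.ι ''ᵁ V) :=
        image_morphismRestrict_preimage φ.left U V
      have e₂ : (prU φ U).left ⁻¹ᵁ (φ.left ⁻¹ᵁ (U.ι ''ᵁ V)) = (φU φ U).left ⁻¹ᵁ V := by
        ext x
        constructor
        · rintro ⟨y, hy, hyx⟩
          have : (φU φ U).left x = y := by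
            apply Subtype.ext
            rw [φU_apply_coe]
            exact hyx.symm
          show (φU φ U).left x ∈ V
          rw [this]
          exact hy
        · intro hx
          exact ⟨(φU φ U).left x, hx, φU_apply_coe φ U x⟩
      let f₁ : Γ(X.left, φ.left ⁻¹ᵁ (U.ι ''ᵁ V)) := X.left.presheaf.map (eqToHom e₁.symm).op f
      have hVx : φ.left ⁻¹ᵁ (U.ι ''ᵁ V) ≤ (prU φ U).left.opensRange := by
        intro x hx
        obtain ⟨y, -, hyx⟩ := hx
        refine ⟨⟨x, ?_⟩, rfl⟩
        show φ.left x ∈ U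
        rw [← hyx]
        exact y.2
      have hcomp : X.left.presheaf.map (eqToHom e₁.symm).op ≫
          (prU φ U).left.app (φ.left ⁻¹ᵁ (U.ι ''ᵁ V)) =
          (XU φ U).left.presheaf.map (eqToHom e₂).op := by
        show X.left.presheaf.map (eqToHom e₁.symm).op ≫
          (φ.left ⁻¹ᵁ U).ι.app (φ.left ⁻¹ᵁ (U.ι ''ᵁ V)) = _
        rw [Scheme.Opens.ι_app]
        change X.left.presheaf.map _ ≫ X.left.presheaf.map _ = X.left.presheaf.map _
        rw [← Functor.map_comp]
        congr 1
      have hA : InvSec.IsInv a (φ.left ⁻¹ᵁ (U.ι ''ᵁ V)) f₁ := by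
        apply InvSec.isInv_of_restrict a aU (prU φ U) haU _ hVx
        have h1 : (prU φ U).left.app (φ.left ⁻¹ᵁ (U.ι ''ᵁ V)) f₁ =
            (XU φ U).left.presheaf.map (eqToHom e₂).op f :=
          congrArg (fun t => t.hom f) hcomp
        rw [h1]
        exact (isInv_congr aU e₂ f).mp hf
      have hB : f₁ ∈ Set.range (φ.left.app (U.ι ''ᵁ V)) := by
        rw [(h.sections (U.ι ''ᵁ V)).2]
        exact hA
      obtain ⟨s₁, hs₁⟩ := hB
      refine ⟨s₁, ?_⟩
      have hC : (φU φ U).left.app V = φ.left.app (U.ι ''ᵁ V) ≫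
          X.left.presheaf.map (eqToHom e₁).op := morphismRestrict_app φ.left U V
      have h3 : X.left.presheaf.map (eqToHom e₁.symm).op ≫ X.left.presheaf.map (eqToHom e₁).op =
          𝟙 _ := by
        rw [← Functor.map_comp, ← op_comp, eqToHom_trans, eqToHom_refl, op_id,
          CategoryTheory.Functor.map_id]
      have h4 : (X.left.presheaf.map (eqToHom e₁).op).hom
          ((X.left.presheaf.map (eqToHom e₁.symm).op).hom f) = f :=
        congrArg (fun t => t.hom f) h3
      have h5 : ((φU φ U).left.app V).hom s₁ =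
          (X.left.presheaf.map (eqToHom e₁).op).hom ((φ.left.app (U.ι ''ᵁ V)).hom s₁) :=
        congrArg (fun t => t.hom s₁) hC
      refine h5.trans ?_
      rw [show (φ.left.app (U.ι ''ᵁ V)).hom s₁ = f₁ from hs₁]
      exact h4
  · intro W hWcl hWinv
    have hcl := h.closed _ isClosed_closure (hbar W hWinv)
    have heq : (φU φ U).left '' W =
        U.ι ⁻¹' (φ.left '' closure ((prU φ U).left '' W)) := by
      apply Set.Subset.antisymm
      · rintro _ ⟨w, hw, rfl⟩
        refine ⟨(prU φ U).left w, subset_closure ⟨w, hw, rfl⟩, ?_⟩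
        exact (φU_apply_coe φ U w).symm
      · rintro y ⟨x, hx, hxy⟩
        have hxU : x ∈ φ.left ⁻¹ᵁ U := by
          show φ.left x ∈ U
          rw [hxy]
          exact y.2
        refine ⟨⟨x, hxU⟩, mem_of_mem_closure_image φ U W hWcl ⟨x, hxU⟩ hx, ?_⟩
        apply Subtype.ext
        rw [φU_apply_coe]
        exact hxy
    rw [heq]
    exact hcl.preimage U.ι.continuous
  · intro J W hWcl hWinv
    apply Set.Subset.antisymm
    · exact Set.image_iInter_subset _ _
    · intro y hy
      have h1 := h.inter J (fun i => closure ((prU φ U).left '' W i)) (fun i => isClosed_closure)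
        (fun i => hbar (W i) (hWinv i))
      have hy1 : U.ι y ∈ ⋂ i, φ.left '' closure ((prU φ U).left '' W i) := by
        rw [Set.mem_iInter] at hy ⊢
        intro i
        obtain ⟨w, hw, hwy⟩ := hy i
        refine ⟨(prU φ U).left w, subset_closure ⟨w, hw, rfl⟩, ?_⟩
        rw [← hwy]
        exact (φU_apply_coe φ U w).symm
      rw [← h1] at hy1
      obtain ⟨x, hx, hxy⟩ := hy1
      have hxU : x ∈ φ.left ⁻¹ᵁ U := by
        show φ.left x ∈ U
        rw [hxy]
        exact y.2
      refine ⟨⟨x, hxU⟩, ?_, ?_⟩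
      · rw [Set.mem_iInter] at hx ⊢
        intro i
        exact mem_of_mem_closure_image φ U (W i) (hWcl i) ⟨x, hxU⟩ (hx i)
      · apply Subtype.ext
        rw [φU_apply_coe]
        exact hxy

end Field

end Groth.Agent.Lib.Helper10.GoodQuot
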