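import Mathlib
import Groth.Prelude.Def_W4bk4git07Quot
import Groth.Agent.Lib.Helper10.UCatQuot1

/-!
# Principal bundles are universal geometric quotients
-/

set_option autoImplicit false
set_option backward.isDefEq.respectTransparency.types false
set_option maxHeartbeats 4000000
set_option synthInstance.maxHeartbeats 400000
universe u
open CategoryTheory CategoryTheory.Limits AlgebraicGeometry MonoidalCategory
  CartesianMonoidalCategory MonObj GrpObj TopologicalSpace

namespace Groth.Agent.Lib.Helper10.PBundle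

open Groth.Agent.Lib.Helper10 Groth.Agent.Lib.Helper10.HomSp

variable {S : Scheme.{u}} {G X Y : Over S} [GrpObj G] (a : AlgGrp.Action G X) (φ : X ⟶ Y)
  (hinv : GIT.IsInvariant a φ)

/-- A principal bundle (flat, surjective, quasi-compact, with `(σ, p₂)` an isomorphism onto
`X ×_Y X`) is a categorical quotient. -/
theorem isCatQuot_of_principal [Flat φ.left] [Surjective φ.left] [QuasiCompact φ.left]
    (hcart : IsIso (GIT.PsiY a φ hinv)) : GIT.IsCatQuot a φ := by
  refine ⟨hinv, fun Z ψ hψ => ?_⟩
  have hcoeq : ∀ {T : Scheme.{u}} (g₁ g₂ : T ⟶ X.left), g₁ ≫ φ.left = g₂ ≫ φ.left →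
      g₁ ≫ ψ.left = g₂ ≫ ψ.left := by
    intro T g₁ g₂ hg
    let w : T ⟶ (G ⊗ X).left := pullback.lift g₁ g₂ hg ≫ inv (GIT.PsiY a φ hinv)
    have h1 : w ≫ a.act.left = g₁ := by
      have : GIT.PsiY a φ hinv ≫ pullback.fst φ.left φ.left = a.act.left :=
        pullback.lift_fst _ _ _
      rw [← this, Category.assoc, IsIso.inv_hom_id_assoc, pullback.lift_fst]
    have h2 : w ≫ (snd G X).left = g₂ := by
      have : GIT.PsiY a φ hinv ≫ pullback.snd φ.left φ.left = (snd G X).left :=
        pullback.lift_snd _ _ _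
      rw [← this, Category.assoc, IsIso.inv_hom_id_assoc, pullback.lift_snd]
    calc g₁ ≫ ψ.left = (w ≫ a.act.left) ≫ ψ.left := by rw [h1]
      _ = w ≫ (snd G X).left ≫ ψ.left := by rw [Category.assoc, hψ.left]
      _ = g₂ ≫ ψ.left := by rw [← Category.assoc, h2]
  let χ₀ : Y.left ⟶ Z.left := EffectiveEpi.desc φ.left ψ.left hcoeq
  have hχ₀ : φ.left ≫ χ₀ = ψ.left := EffectiveEpi.fac φ.left ψ.left hcoeq
  have hw : χ₀ ≫ Z.hom = Y.hom := by
    rw [← cancel_epi φ.left, reassoc_of% hχ₀, Over.w ψ, Over.w φ]
  refine ⟨Over.homMk χ₀ hw, ?_, ?_⟩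
  · apply Over.OverMorphism.ext
    simpa using hχ₀
  · intro χ' hχ'
    apply Over.OverMorphism.ext
    rw [← cancel_epi φ.left]
    have := congrArg (fun t => t.left) hχ'
    simp only [Over.comp_left] at this
    rw [this]
    simpa using hχ₀.symm

/-- Principal bundles are universal categorical quotients. -/
theorem isUnivCatQuot_of_principal [Flat φ.left] [Surjective φ.left] [QuasiCompact φ.left]
    (hcart : IsIso (GIT.PsiY a φ hinv)) : GIT.IsUnivCatQuot a φ := by
  refine ⟨isCatQuot_of_principal a φ hinv hcart, ?_⟩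
  intro X' Y' pr φ' g _ hpb a' ha' hinv'
  have hpbL : IsPullback pr.left φ'.left φ.left g.left := hpb.map (Over.forget S)
  haveI : Flat φ'.left := MorphismProperty.of_isPullback hpbL ‹Flat φ.left›
  haveI : Surjective φ'.left := MorphismProperty.of_isPullback hpbL ‹Surjective φ.left›
  haveI : QuasiCompact φ'.left := MorphismProperty.of_isPullback hpbL ‹QuasiCompact φ.left›
  have hcart' : IsIso (GIT.PsiY a' φ' hinv') :=
    (BCAct.isPullback_PsiY hpb hinv a' ha' hinv').isIso_fst_of_isIso hcart
  exact isCatQuot_of_principal a' φ' hinv' hcart'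

/-- Flat, surjective, quasi-compact morphisms are universally submersive. -/
theorem isUnivSubmersive_of_flat {X Y : Scheme.{u}} (f : X ⟶ Y) [Flat f] [Surjective f]
    [QuasiCompact f] : GIT.IsUnivSubmersive f := by
  intro X' Y' i₁ i₂ f' hpb
  haveI : Flat f' := MorphismProperty.of_isPullback hpb.flip ‹Flat f›
  haveI : Surjective f' := MorphismProperty.of_isPullback hpb.flip ‹Surjective f›
  haveI : QuasiCompact f' := MorphismProperty.of_isPullback hpb.flip ‹QuasiCompact f›
  exact Flat.isQuotientMap_of_surjective f'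

/-- Principal bundles are geometric quotients. -/
theorem isGeomQuot_of_principal [Flat φ.left] [Surjective φ.left] [QuasiCompact φ.left]
    (hcart : IsIso (GIT.PsiY a φ hinv)) : GIT.IsGeomQuot a φ := by
  refine ⟨hinv, (inferInstance : Surjective φ.left).surj, ?_, isUnivSubmersive_of_flat φ.left,
    UCatQuot.sections_of_isUnivCatQuot a φ (isUnivCatQuot_of_principal a φ hinv hcart)⟩
  intro z
  exact ⟨(inv (GIT.PsiY a φ hinv)) z, by
    rw [← Scheme.Hom.comp_apply, IsIso.inv_hom_id]
    rfl⟩

/-- The graph `(σ, p₂)` of the action factors through `X ×_Y X`. -/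
theorem psi_left_eq :
    (GIT.psi a (𝟙 X)).left = GIT.PsiY a φ hinv ≫ pullback.mapDesc φ.left φ.left Y.hom ≫
      (pullback.congrHom (Over.w φ) (Over.w φ)).hom := by
  apply pullback.hom_ext
  · have h1 : (GIT.psi a (𝟙 X)).left ≫ pullback.fst X.hom X.hom = a.act.left := by
      have : GIT.psi a (𝟙 X) ≫ fst X X = a.act := by
        unfold GIT.psi
        rw [lift_fst, MonoidalCategory.whiskerLeft_id, Category.id_comp]
      exact congrArg (fun t => t.left) this
    rw [h1]
    simp only [Category.assoc, pullback.congrHom_hom, pullback.lift_fst, Category.comp_id,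
      pullback.mapDesc, pullback.map]
    exact (pullback.lift_fst _ _ _).symm
  · have h1 : (GIT.psi a (𝟙 X)).left ≫ pullback.snd X.hom X.hom = (snd G X).left := by
      have : GIT.psi a (𝟙 X) ≫ snd X X = snd G X := by
        unfold GIT.psi
        rw [lift_snd]
      exact congrArg (fun t => t.left) this
    rw [h1]
    simp only [Category.assoc, pullback.congrHom_hom, pullback.lift_snd, Category.comp_id,
      pullback.mapDesc, pullback.map]
    exact (pullback.lift_snd _ _ _).symm

/-- A principal bundle over a separated base is a free action. -/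
theorem isClosedImmersion_psi [IsSeparated Y.hom] (hcart : IsIso (GIT.PsiY a φ hinv)) :
    IsClosedImmersion (GIT.psi a (𝟙 X)).left := by
  rw [psi_left_eq a φ hinv]
  infer_instance

end Groth.Agent.Lib.Helper10.PBundle
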