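import Mathlib
import Groth.Prelude.Def_W4bk4git07Quot
import Groth.Agent.Lib.Helper10.PBundle1
import Groth.Agent.Lib.Helper10.GeomQuot3
import Groth.Agent.Lib.Helper10.GoodQuot3

/-!
# Categorical quotients: transport along equivariant isomorphisms, uniqueness
-/

set_option autoImplicit false
set_option backward.isDefEq.respectTransparency.types false
set_option maxHeartbeats 4000000
set_option synthInstance.maxHeartbeats 400000
universe u
open CategoryTheory CategoryTheory.Limits AlgebraicGeometry MonoidalCategory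
  CartesianMonoidalCategory MonObj GrpObj TopologicalSpace

namespace Groth.Agent.Lib.Helper10.AssocBun

open Groth.Agent.Lib.Helper10 Groth.Agent.Lib.Helper10.HomSp

section General

variable {S : Scheme.{u}} {G : Over S} [GrpObj G]

/-- transport of a categorical quotient along an equivariant isomorphism of the source. -/
theorem isCatQuot_of_iso {X₁ X₂ Y : Over S} (a₁ : AlgGrp.Action G X₁) (a₂ : AlgGrp.Action G X₂)
    (e : X₁ ≅ X₂) (he : a₁.act ≫ e.hom = (G ◁ e.hom) ≫ a₂.act) (φ : X₂ ⟶ Y)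
    (h : GIT.IsCatQuot a₂ φ) : GIT.IsCatQuot a₁ (e.hom ≫ φ) := by
  have he' : a₂.act ≫ e.inv = (G ◁ e.inv) ≫ a₁.act := by
    rw [← cancel_mono e.hom, Category.assoc, Category.assoc, he, e.inv_hom_id, Category.comp_id,
      ← MonoidalCategory.whiskerLeft_comp_assoc, e.inv_hom_id, MonoidalCategory.whiskerLeft_id,
      Category.id_comp]
  refine ⟨?_, fun Z ψ hψ => ?_⟩
  · unfold GIT.IsInvariant
    rw [← Category.assoc, he, Category.assoc, h.1, ← Category.assoc, whiskerLeft_snd,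
      Category.assoc]
  · have hψ' : GIT.IsInvariant a₂ (e.inv ≫ ψ) := by
      unfold GIT.IsInvariant at hψ ⊢
      rw [← Category.assoc, he', Category.assoc, hψ, ← Category.assoc, whiskerLeft_snd,
        Category.assoc]
    obtain ⟨χ, hχ, huniq⟩ := h.2 Z (e.inv ≫ ψ) hψ'
    refine ⟨χ, ?_, ?_⟩
    · show (e.hom ≫ φ) ≫ χ = ψ
      rw [Category.assoc, hχ, e.hom_inv_id_assoc]
    · intro χ' hχ'
      apply huniq
      show φ ≫ χ' = e.inv ≫ ψ
      rw [← hχ', Category.assoc, e.inv_hom_id_assoc]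

/-- two categorical quotients of the same action are uniquely isomorphic. -/
theorem exists_iso_of_isCatQuot {X Y₁ Y₂ : Over S} (a : AlgGrp.Action G X) (φ₁ : X ⟶ Y₁)
    (φ₂ : X ⟶ Y₂) (h₁ : GIT.IsCatQuot a φ₁) (h₂ : GIT.IsCatQuot a φ₂) :
    ∃ θ : Y₁ ≅ Y₂, φ₁ ≫ θ.hom = φ₂ := by
  obtain ⟨u, hu, -⟩ := h₁.2 Y₂ φ₂ h₂.1
  obtain ⟨v, hv, -⟩ := h₂.2 Y₁ φ₁ h₁.1
  obtain ⟨w₁, -, hw₁⟩ := h₁.2 Y₁ φ₁ h₁.1
  obtain ⟨w₂, -, hw₂⟩ := h₂.2 Y₂ φ₂ h₂.1
  refine ⟨⟨u, v, ?_, ?_⟩, hu⟩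
  · rw [hw₁ (u ≫ v) (by show φ₁ ≫ u ≫ v = φ₁; rw [← Category.assoc, hu, hv]),
      hw₁ (𝟙 _) (Category.comp_id _)]
  · rw [hw₂ (v ≫ u) (by show φ₂ ≫ v ≫ u = φ₂; rw [← Category.assoc, hv, hu]),
      hw₂ (𝟙 _) (Category.comp_id _)]

open Groth.Agent.Lib.Helper10.UCatQuot in
/-- A morphism between the bases of two principal bundles covered by an equivariant open immersion
of the total spaces is an open immersion. -/
theorem isOpenImmersion_of_principal {P₁ P₂ Q₁ Q₂ : Over S} (b : AlgGrp.Action G P₁)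
    (c : AlgGrp.Action G P₂) (i : P₁ ⟶ P₂) [IsOpenImmersion i.left]
    (hi : b.act ≫ i = (G ◁ i) ≫ c.act)
    (q₁ : P₁ ⟶ Q₁) (hq₁inv : GIT.IsInvariant b q₁) [Flat q₁.left] [Surjective q₁.left]
    [QuasiCompact q₁.left] (h₁ : IsIso (GIT.PsiY b q₁ hq₁inv))
    (q₂ : P₂ ⟶ Q₂) (hq₂inv : GIT.IsInvariant c q₂) [Flat q₂.left] [Surjective q₂.left]
    [QuasiCompact q₂.left] (h₂ : IsIso (GIT.PsiY c q₂ hq₂inv)) (hopen : IsOpenMap q₂.left)
    (m : Q₁ ⟶ Q₂) (hm : q₁ ≫ m = i ≫ q₂) : IsOpenImmersion m.left := by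
  -- the image of `i` is a stable open subset
  have hVopen : IsOpen (Set.range i.left) := i.left.isOpenEmbedding.isOpen_range
  have hVst : ∀ p : ↥(G ⊗ P₂).left, (snd G P₂).left p ∈ Set.range i.left →
      c.act.left p ∈ Set.range i.left := by
    have := GoodQuot.image_invariant c b i hi Set.univ (fun _ _ => trivial)
    rw [Set.image_univ] at this
    exact this
  have horb : Function.Surjective (GIT.PsiY c q₂ hq₂inv).base := by
    intro z
    exact ⟨(inv (GIT.PsiY c q₂ hq₂inv)) z, by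
      rw [← Scheme.Hom.comp_apply, IsIso.inv_hom_id]
      rfl⟩
  have hsat : q₂.left ⁻¹' (q₂.left '' Set.range i.left) = Set.range i.left := by
    rw [GeomQuot.preimage_image_eq c q₂ hq₂inv horb]
    apply Set.Subset.antisymm
    · rintro _ ⟨p, hp, rfl⟩
      exact hVst p hp
    · intro x hx
      -- x = act (1, x)
      have hx' : x ∈ q₂.left ⁻¹' (q₂.left '' Set.range i.left) := ⟨x, hx, rfl⟩
      rw [GeomQuot.preimage_image_eq c q₂ hq₂inv horb] at hx'
      exact hx'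
  let W : Q₂.left.Opens := ⟨q₂.left '' Set.range i.left, hopen _ hVopen⟩
  have hrange : Set.range i.left = Set.range (q₂.left ⁻¹ᵁ W).ι := by
    rw [Scheme.Opens.range_ι]
    exact hsat.symm
  -- the isomorphism of `P₁` with the restricted total space
  let e₀ : P₁.left ≅ (q₂.left ⁻¹ᵁ W).toScheme :=
    IsOpenImmersion.isoOfRangeEq i.left (q₂.left ⁻¹ᵁ W).ι hrange
  have he₀ : e₀.hom ≫ (q₂.left ⁻¹ᵁ W).ι = i.left :=
    IsOpenImmersion.isoOfRangeEq_hom_fac _ _ _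
  let e : P₁ ≅ XU q₂ W := Over.isoMk e₀ (by
    show e₀.hom ≫ (q₂.left ⁻¹ᵁ W).ι ≫ P₂.hom = P₁.hom
    rw [← Category.assoc, he₀, Over.w i])
  have he : e.hom ≫ prU q₂ W = i := by
    apply Over.OverMorphism.ext
    exact he₀
  obtain ⟨c', hc', hinv'⟩ := BCAct.exists_induced_action c q₂ (prU q₂ W) (φU q₂ W) (gU W)
    (isPullback_U q₂ W) hq₂inv
  haveI : Mono (prU q₂ W) := by
    haveI : Mono ((Over.forget _).map (prU q₂ W)) := by
      show Mono (q₂.left ⁻¹ᵁ W).ι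
      infer_instance
    exact (Over.forget _).mono_of_mono_map inferInstance
  have hequiv : b.act ≫ e.hom = (G ◁ e.hom) ≫ c'.act := by
    rw [← cancel_mono (prU q₂ W), Category.assoc, he, hi, Category.assoc, hc',
      ← MonoidalCategory.whiskerLeft_comp_assoc, he]
  have hcq' : GIT.IsCatQuot c' (φU q₂ W) :=
    (PBundle.isUnivCatQuot_of_principal c q₂ hq₂inv h₂).2 (prU q₂ W) (φU q₂ W) (gU W) trivial
      (isPullback_U q₂ W) c' hc' hinv'
  have hcq₁' : GIT.IsCatQuot b (e.hom ≫ φU q₂ W) := isCatQuot_of_iso b c' e hequiv _ hcq'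
  have hcq₁ : GIT.IsCatQuot b q₁ := PBundle.isCatQuot_of_principal b q₁ hq₁inv h₁
  obtain ⟨θ, hθ⟩ := exists_iso_of_isCatQuot b q₁ (e.hom ≫ φU q₂ W) hcq₁ hcq₁'
  have hminv : GIT.IsInvariant b (q₁ ≫ m) := by
    unfold GIT.IsInvariant
    rw [← Category.assoc, hq₁inv, Category.assoc]
  obtain ⟨χ, -, hχ⟩ := hcq₁.2 Q₂ (q₁ ≫ m) hminv
  have hm1 : m = χ := hχ m rfl
  have hm2 : θ.hom ≫ gU W = χ := by
    apply hχ
    show q₁ ≫ θ.hom ≫ gU W = q₁ ≫ m
    rw [← Category.assoc, hθ, Category.assoc, ← (isPullback_U q₂ W).w, ← Category.assoc, he, hm]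
  have hm3 : m.left = θ.hom.left ≫ W.ι := by
    rw [hm1, ← hm2]
    rfl
  rw [hm3]
  haveI : IsIso θ.hom.left := (Over.forget _).map_isIso θ.hom
  haveI : IsOpenImmersion θ.hom.left := inferInstance
  have hWι : IsOpenImmersion (W.ι : W.toScheme ⟶ Q₂.left) := inferInstance
  exact @IsOpenImmersion.comp _ W.toScheme _ θ.hom.left W.ι ‹_› hWι

end General

end Groth.Agent.Lib.Helper10.AssocBun
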