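import Mathlib
import Groth.Prelude.Def_W4bk4git07Quot
import Groth.Agent.Lib.Helper10.BCAct1

/-!
# Morphisms of principal bundles

* `isIso_of_principal`: an equivariant morphism of principal bundles over the same base is an
  isomorphism.
* `isPullback_of_principal`: an equivariant morphism of principal bundles over a morphism of bases
  gives a cartesian square.
-/

set_option autoImplicit false
set_option backward.isDefEq.respectTransparency.types false
set_option maxHeartbeats 4000000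
set_option synthInstance.maxHeartbeats 400000
universe u
open CategoryTheory CategoryTheory.Limits AlgebraicGeometry MonoidalCategory
  CartesianMonoidalCategory MonObj GrpObj TopologicalSpace

namespace Groth.Agent.Lib.Helper10.Torsor

open Groth.Agent.Lib.Helper10 Groth.Agent.Lib.Helper10.HomSp

variable {S : Scheme.{u}} {G : Over S} [GrpObj G]

section SameBase

variable {P₁ P₂ Z : Over S} (a₁ : AlgGrp.Action G P₁) (a₂ : AlgGrp.Action G P₂)
  (q₁ : P₁ ⟶ Z) (q₂ : P₂ ⟶ Z) (hinv₁ : GIT.IsInvariant a₁ q₁) (hinv₂ : GIT.IsInvariant a₂ q₂)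
  (u : P₁ ⟶ P₂) (hu : a₁.act ≫ u = (G ◁ u) ≫ a₂.act) (huq : u ≫ q₂ = q₁)

include huq in
theorem huq_left : u.left ≫ q₂.left = q₁.left := by
  rw [← Over.comp_left, huq]

/-- `(p', p) ↦ (u p', p) : P₁ ×_Z P₁ ⟶ P₂ ×_Z P₁`. -/
noncomputable def uK : pullback q₁.left q₁.left ⟶ pullback q₂.left q₁.left :=
  pullback.map q₁.left q₁.left q₂.left q₁.left u.left (𝟙 _) (𝟙 _)
    (by rw [Category.comp_id, huq_left q₁ q₂ u huq]) (by rw [Category.comp_id, Category.id_comp])

/-- `(p₂, p) ↦ (p₂, u p) : P₂ ×_Z P₁ ⟶ P₂ ×_Z P₂`. -/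
noncomputable def vK : pullback q₂.left q₁.left ⟶ pullback q₂.left q₂.left :=
  pullback.map q₂.left q₁.left q₂.left q₂.left (𝟙 _) u.left (𝟙 _)
    (by rw [Category.comp_id, Category.id_comp]) (by rw [Category.comp_id, huq_left q₁ q₂ u huq])

theorem uK_fst : uK q₁ q₂ u huq ≫ pullback.fst q₂.left q₁.left =
    pullback.fst q₁.left q₁.left ≫ u.left := pullback.lift_fst _ _ _

theorem uK_snd : uK q₁ q₂ u huq ≫ pullback.snd q₂.left q₁.left =
    pullback.snd q₁.left q₁.left := by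
  unfold uK pullback.map
  rw [pullback.lift_snd, Category.comp_id]

theorem vK_fst : vK q₁ q₂ u huq ≫ pullback.fst q₂.left q₂.left =
    pullback.fst q₂.left q₁.left := by
  unfold vK pullback.map
  rw [pullback.lift_fst, Category.comp_id]

theorem vK_snd : vK q₁ q₂ u huq ≫ pullback.snd q₂.left q₂.left =
    pullback.snd q₂.left q₁.left ≫ u.left := pullback.lift_snd _ _ _

theorem isPullback_vK : IsPullback (vK q₁ q₂ u huq) (pullback.snd q₂.left q₁.left)
    (pullback.snd q₂.left q₂.left) u.left := by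
  have right : IsPullback (pullback.fst q₂.left q₂.left) (pullback.snd q₂.left q₂.left)
      q₂.left q₂.left := IsPullback.of_hasPullback _ _
  have outer0 : IsPullback (pullback.fst q₂.left q₁.left) (pullback.snd q₂.left q₁.left)
      q₂.left q₁.left := IsPullback.of_hasPullback _ _
  have outer : IsPullback (vK q₁ q₂ u huq ≫ pullback.fst q₂.left q₂.left)
      (pullback.snd q₂.left q₁.left) q₂.left (u.left ≫ q₂.left) := by
    rw [vK_fst, huq_left q₁ q₂ u huq]
    exact outer0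
  exact IsPullback.of_right outer (vK_snd q₁ q₂ u huq) right

theorem isPullback_uK : IsPullback (uK q₁ q₂ u huq) (pullback.fst q₁.left q₁.left)
    (pullback.fst q₂.left q₁.left) u.left := by
  have right : IsPullback (pullback.snd q₂.left q₁.left) (pullback.fst q₂.left q₁.left)
      q₁.left q₂.left := (IsPullback.of_hasPullback _ _).flip
  have outer0 : IsPullback (pullback.snd q₁.left q₁.left) (pullback.fst q₁.left q₁.left)
      q₁.left q₁.left := (IsPullback.of_hasPullback _ _).flip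
  have outer : IsPullback (uK q₁ q₂ u huq ≫ pullback.snd q₂.left q₁.left)
      (pullback.fst q₁.left q₁.left) q₁.left (u.left ≫ q₂.left) := by
    rw [uK_snd, huq_left q₁ q₂ u huq]
    exact outer0
  exact IsPullback.of_right outer (uK_fst q₁ q₂ u huq) right

include hu in
theorem Phi_comm : (GIT.PsiY a₁ q₁ hinv₁ ≫ uK q₁ q₂ u huq) ≫ vK q₁ q₂ u huq =
    (G ◁ u).left ≫ GIT.PsiY a₂ q₂ hinv₂ := by
  have e1 : GIT.PsiY a₁ q₁ hinv₁ ≫ pullback.fst q₁.left q₁.left = a₁.act.left :=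
    pullback.lift_fst _ _ _
  have e2 : GIT.PsiY a₁ q₁ hinv₁ ≫ pullback.snd q₁.left q₁.left = (snd G P₁).left :=
    pullback.lift_snd _ _ _
  have e3 : GIT.PsiY a₂ q₂ hinv₂ ≫ pullback.fst q₂.left q₂.left = a₂.act.left :=
    pullback.lift_fst _ _ _
  have e4 : GIT.PsiY a₂ q₂ hinv₂ ≫ pullback.snd q₂.left q₂.left = (snd G P₂).left :=
    pullback.lift_snd _ _ _
  apply pullback.hom_ext
  · rw [Category.assoc, Category.assoc, vK_fst, uK_fst, reassoc_of% e1, Category.assoc, e3,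
      ← Over.comp_left, ← Over.comp_left, hu]
  · rw [Category.assoc, Category.assoc, vK_snd, ← Category.assoc (uK q₁ q₂ u huq), uK_snd,
      reassoc_of% e2, Category.assoc, e4, ← Over.comp_left, ← Over.comp_left, whiskerLeft_snd]

include hu in
/-- `(h, p) ↦ (h · u p, p)` is an isomorphism `G × P₁ ≅ P₂ ×_Z P₁`. -/
theorem isIso_Phi (h₂ : IsIso (GIT.PsiY a₂ q₂ hinv₂)) :
    IsIso (GIT.PsiY a₁ q₁ hinv₁ ≫ uK q₁ q₂ u huq) := by
  have right := (isPullback_vK q₁ q₂ u huq).flip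
  have outer0 : IsPullback (snd G P₁).left (G ◁ u).left u.left (snd G P₂).left :=
    ((isPullback_whiskerLeft_snd G u).map (Over.forget S)).flip
  have e2 : GIT.PsiY a₁ q₁ hinv₁ ≫ pullback.snd q₁.left q₁.left = (snd G P₁).left :=
    pullback.lift_snd _ _ _
  have e4 : GIT.PsiY a₂ q₂ hinv₂ ≫ pullback.snd q₂.left q₂.left = (snd G P₂).left :=
    pullback.lift_snd _ _ _
  have outer : IsPullback ((GIT.PsiY a₁ q₁ hinv₁ ≫ uK q₁ q₂ u huq) ≫ pullback.snd q₂.left q₁.left)
      (G ◁ u).left u.left (GIT.PsiY a₂ q₂ hinv₂ ≫ pullback.snd q₂.left q₂.left) := by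
    rw [Category.assoc, uK_snd, e2, e4]
    exact outer0
  have sq : IsPullback (GIT.PsiY a₁ q₁ hinv₁ ≫ uK q₁ q₂ u huq) (G ◁ u).left (vK q₁ q₂ u huq)
      (GIT.PsiY a₂ q₂ hinv₂) :=
    IsPullback.of_right outer (Phi_comm a₁ a₂ q₁ q₂ hinv₁ hinv₂ u hu huq) right
  exact sq.isIso_fst_of_isIso h₂

include hu huq in
/-- An equivariant morphism of principal bundles over the same base is an isomorphism. -/
theorem isIso_of_principal [Flat q₁.left] [Surjective q₁.left] [QuasiCompact q₁.left]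
    (h₁ : IsIso (GIT.PsiY a₁ q₁ hinv₁)) (h₂ : IsIso (GIT.PsiY a₂ q₂ hinv₂)) : IsIso u := by
  have hΦ := isIso_Phi a₁ a₂ q₁ q₂ hinv₁ hinv₂ u hu huq h₂
  have huK : IsIso (uK q₁ q₂ u huq) := by
    have : uK q₁ q₂ u huq = inv (GIT.PsiY a₁ q₁ hinv₁) ≫
        (GIT.PsiY a₁ q₁ hinv₁ ≫ uK q₁ q₂ u huq) := by
      rw [IsIso.inv_hom_id_assoc]
    rw [this]
    infer_instance
  have hcover : (@Surjective ⊓ @Flat ⊓ @QuasiCompact : MorphismProperty Scheme.{u})
      (pullback.fst q₂.left q₁.left) :=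
    ⟨⟨inferInstance, inferInstance⟩, inferInstance⟩
  have : IsIso u.left :=
    MorphismProperty.DescendsAlong.of_isPullback (P := MorphismProperty.isomorphisms Scheme.{u})
      (Q := (@Surjective ⊓ @Flat ⊓ @QuasiCompact : MorphismProperty Scheme.{u}))
      (isPullback_uK q₁ q₂ u huq) hcover huK
  haveI : IsIso ((Over.forget S).map u) := this
  exact isIso_of_reflects_iso u (Over.forget S)

end SameBase

section OverMap

variable {P₁ P₂ Q₁ Q₂ : Over S} (a₁ : AlgGrp.Action G P₁) (a₂ : AlgGrp.Action G P₂)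
  (q₁ : P₁ ⟶ Q₁) (q₂ : P₂ ⟶ Q₂) (hinv₁ : GIT.IsInvariant a₁ q₁) (hinv₂ : GIT.IsInvariant a₂ q₂)
  (u : P₁ ⟶ P₂) (hu : a₁.act ≫ u = (G ◁ u) ≫ a₂.act) (m : Q₁ ⟶ Q₂) (hm : q₁ ≫ m = u ≫ q₂)

include hu hm in
/-- An equivariant morphism of principal bundles covering a morphism of the bases gives a cartesian
square. -/
theorem isPullback_of_principal [Flat q₁.left] [Surjective q₁.left] [QuasiCompact q₁.left]
    (h₁ : IsIso (GIT.PsiY a₁ q₁ hinv₁)) (h₂ : IsIso (GIT.PsiY a₂ q₂ hinv₂)) :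
    IsPullback u q₁ q₂ m := by
  have hpb : IsPullback (pullback.fst q₂ m) (pullback.snd q₂ m) q₂ m :=
    IsPullback.of_hasPullback q₂ m
  obtain ⟨a₂', ha₂', hinv₂'⟩ := BCAct.exists_induced_action a₂ q₂ _ _ m hpb hinv₂
  have h₂' : IsIso (GIT.PsiY a₂' (pullback.snd q₂ m) hinv₂') :=
    (BCAct.isPullback_PsiY hpb hinv₂ a₂' ha₂' hinv₂').isIso_fst_of_isIso h₂
  have hu'1 : pullback.lift u q₁ hm.symm ≫ pullback.fst q₂ m = u := pullback.lift_fst _ _ _
  have hu'2 : pullback.lift u q₁ hm.symm ≫ pullback.snd q₂ m = q₁ := pullback.lift_snd _ _ _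
  have hequiv : a₁.act ≫ pullback.lift u q₁ hm.symm =
      (G ◁ pullback.lift u q₁ hm.symm) ≫ a₂'.act := by
    apply pullback.hom_ext
    · rw [Category.assoc, hu'1, hu, Category.assoc, ha₂',
        ← MonoidalCategory.whiskerLeft_comp_assoc, hu'1]
    · rw [Category.assoc, hu'2, hinv₁, Category.assoc, hinv₂', whiskerLeft_snd_assoc, hu'2]
  haveI := isIso_of_principal a₁ a₂' q₁ (pullback.snd q₂ m) hinv₁ hinv₂'
    (pullback.lift u q₁ hm.symm) hequiv hu'2 h₁ h₂'
  exact IsPullback.of_iso_pullback ⟨hm.symm⟩ (asIso (pullback.lift u q₁ hm.symm)) hu'1 hu'2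

end OverMap

end Groth.Agent.Lib.Helper10.Torsor
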