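import Mathlib
import Groth.Prelude.Def_W4bk4git07Quot
import Groth.Agent.Lib.Helper10.Torsor1

/-!
# Associated bundles of products

`isPullback_prod`: `G ×^H (X × Y) = (G ×^H X) ×_{G/H} (G ×^H Y)`.
-/

set_option autoImplicit false
set_option backward.isDefEq.respectTransparency.types false
set_option maxHeartbeats 4000000
set_option synthInstance.maxHeartbeats 400000

universe u

open CategoryTheory CategoryTheory.Limits AlgebraicGeometry MonoidalCategory
  CartesianMonoidalCategory MonObj GrpObj TopologicalSpace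

namespace Groth.Agent.Lib.Helper10.AssocBun

variable {S : Scheme.{u}} {H G B X Y QX QY QXY : Over S} [GrpObj H]

section Formal

variable (π : G ⟶ B) (qX : G ⊗ X ⟶ QX) (qY : G ⊗ Y ⟶ QY) (pX : QX ⟶ B) (pY : QY ⟶ B)
  (sqX : IsPullback (fst G X) qX π pX) (sqY : IsPullback (fst G Y) qY π pY)

/-- The quotient map to the fibre product of the associated bundles. -/
noncomputable def qProd : G ⊗ (X ⊗ Y) ⟶ pullback pX pY :=
  pullback.lift ((G ◁ fst X Y) ≫ qX) ((G ◁ snd X Y) ≫ qY) (by
    rw [Category.assoc, Category.assoc, ← sqX.w, ← sqY.w, whiskerLeft_fst_assoc,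
      whiskerLeft_fst_assoc])

theorem qProd_fst : qProd π qX qY pX pY sqX sqY ≫ pullback.fst pX pY = (G ◁ fst X Y) ≫ qX :=
  pullback.lift_fst _ _ _

theorem qProd_snd : qProd π qX qY pX pY sqX sqY ≫ pullback.snd pX pY = (G ◁ snd X Y) ≫ qY :=
  pullback.lift_snd _ _ _

theorem isPullback_qProd :
    IsPullback (fst G (X ⊗ Y)) (qProd π qX qY pX pY sqX sqY) π (pullback.fst pX pY ≫ pX) := by
  refine HomSp.isPullback_of_lift _ _ _ _ ?_ (fun {T} α β h =>
    lift α (lift
      (sqX.lift α (β ≫ pullback.fst pX pY) (by rw [h, Category.assoc]) ≫ snd G X)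
      (sqY.lift α (β ≫ pullback.snd pX pY) (by
        rw [h, Category.assoc, pullback.condition]) ≫ snd G Y))) ?_ ?_ ?_
  · rw [← Category.assoc, qProd_fst, Category.assoc, ← sqX.w, whiskerLeft_fst_assoc]
  · intro T α β h
    rw [lift_fst]
  · intro T α β h
    apply pullback.hom_ext
    · rw [Category.assoc, qProd_fst, ← Category.assoc]
      have e : lift α (lift
          (sqX.lift α (β ≫ pullback.fst pX pY) (by rw [h, Category.assoc]) ≫ snd G X)
          (sqY.lift α (β ≫ pullback.snd pX pY) (by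
            rw [h, Category.assoc, pullback.condition]) ≫ snd G Y)) ≫
          (G ◁ fst X Y) = sqX.lift α (β ≫ pullback.fst pX pY) (by rw [h, Category.assoc]) := by
        apply CartesianMonoidalCategory.hom_ext
        · rw [Category.assoc, whiskerLeft_fst, lift_fst, sqX.lift_fst]
        · rw [Category.assoc, whiskerLeft_snd, lift_snd_assoc, lift_fst]
      rw [e, sqX.lift_snd]
    · rw [Category.assoc, qProd_snd, ← Category.assoc]
      have e : lift α (lift
          (sqX.lift α (β ≫ pullback.fst pX pY) (by rw [h, Category.assoc]) ≫ snd G X)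
          (sqY.lift α (β ≫ pullback.snd pX pY) (by
            rw [h, Category.assoc, pullback.condition]) ≫ snd G Y)) ≫
          (G ◁ snd X Y) = sqY.lift α (β ≫ pullback.snd pX pY) (by
            rw [h, Category.assoc, pullback.condition]) := by
        apply CartesianMonoidalCategory.hom_ext
        · rw [Category.assoc, whiskerLeft_fst, lift_fst, sqY.lift_fst]
        · rw [Category.assoc, whiskerLeft_snd, lift_snd_assoc, lift_snd]
      rw [e, sqY.lift_snd]
  · intro T m m' e1 e2
    have eX : m ≫ (G ◁ fst X Y) = m' ≫ (G ◁ fst X Y) := by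
      apply sqX.hom_ext
      · rw [Category.assoc, Category.assoc, whiskerLeft_fst, e1]
      · rw [Category.assoc, Category.assoc, ← qProd_fst π qX qY pX pY sqX sqY,
          ← Category.assoc, ← Category.assoc, e2]
    have eY : m ≫ (G ◁ snd X Y) = m' ≫ (G ◁ snd X Y) := by
      apply sqY.hom_ext
      · rw [Category.assoc, Category.assoc, whiskerLeft_fst, e1]
      · rw [Category.assoc, Category.assoc, ← qProd_snd π qX qY pX pY sqX sqY,
          ← Category.assoc, ← Category.assoc, e2]
    apply CartesianMonoidalCategory.hom_ext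
    · exact e1
    · apply CartesianMonoidalCategory.hom_ext
      · have := congrArg (fun t => t ≫ snd G X) eX
        simpa using this
      · have := congrArg (fun t => t ≫ snd G Y) eY
        simpa using this

end Formal

section Main

variable (r : AlgGrp.Action H G) (π : G ⟶ B) (hπinv : GIT.IsInvariant r π)
  (hπiso : IsIso (GIT.PsiY r π hπinv))
  (b : AlgGrp.Action H (G ⊗ X)) (hb : b.act ≫ fst G X = (H ◁ fst G X) ≫ r.act)
  (c : AlgGrp.Action H (G ⊗ Y)) (hc : c.act ≫ fst G Y = (H ◁ fst G Y) ≫ r.act)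
  (d : AlgGrp.Action H (G ⊗ (X ⊗ Y)))
  (hdX : d.act ≫ (G ◁ fst X Y) = (H ◁ (G ◁ fst X Y)) ≫ b.act)
  (hdY : d.act ≫ (G ◁ snd X Y) = (H ◁ (G ◁ snd X Y)) ≫ c.act)
  (qX : G ⊗ X ⟶ QX) (hqXinv : GIT.IsInvariant b qX) (hqXiso : IsIso (GIT.PsiY b qX hqXinv))
  (qY : G ⊗ Y ⟶ QY) (hqYinv : GIT.IsInvariant c qY) (hqYiso : IsIso (GIT.PsiY c qY hqYinv))
  (qXY : G ⊗ (X ⊗ Y) ⟶ QXY) (hqXYinv : GIT.IsInvariant d qXY)
  (hqXYiso : IsIso (GIT.PsiY d qXY hqXYinv))
  (pX : QX ⟶ B) (hpX : qX ≫ pX = fst G X ≫ π) (pY : QY ⟶ B) (hpY : qY ≫ pY = fst G Y ≫ π)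
  (fX : QXY ⟶ QX) (hfX : qXY ≫ fX = (G ◁ fst X Y) ≫ qX)
  (fY : QXY ⟶ QY) (hfY : qXY ≫ fY = (G ◁ snd X Y) ≫ qY)
  (hf : fX ≫ pX = fY ≫ pY)

include hπiso hb hc hdX hdY hqXiso hqYiso hqXYiso hpX hpY hfX hfY hf in
theorem isPullback_prod [Flat π.left] [Surjective π.left] [QuasiCompact π.left]
    [Flat qX.left] [Surjective qX.left] [QuasiCompact qX.left]
    [Flat qY.left] [Surjective qY.left] [QuasiCompact qY.left]
    [Flat qXY.left] [Surjective qXY.left] [QuasiCompact qXY.left] :
    IsPullback fX fY pX pY := by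
  have sqX : IsPullback (fst G X) qX π pX :=
    Torsor.isPullback_of_principal b r qX π hqXinv hπinv (fst G X) hb pX hpX hqXiso hπiso
  have sqY : IsPullback (fst G Y) qY π pY :=
    Torsor.isPullback_of_principal c r qY π hqYinv hπinv (fst G Y) hc pY hpY hqYiso hπiso
  set q' := qProd π qX qY pX pY sqX sqY with hq'
  have sqA : IsPullback (fst G (X ⊗ Y)) q' π (pullback.fst pX pY ≫ pX) :=
    isPullback_qProd π qX qY pX pY sqX sqY
  have hd : d.act ≫ fst G (X ⊗ Y) = (H ◁ fst G (X ⊗ Y)) ≫ r.act := by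
    have e1 : fst G (X ⊗ Y) = (G ◁ fst X Y) ≫ fst G X := by rw [whiskerLeft_fst]
    rw [e1, ← Category.assoc, hdX, Category.assoc, hb, ← Category.assoc,
      ← MonoidalCategory.whiskerLeft_comp]
  have hinv' : GIT.IsInvariant d q' := by
    show d.act ≫ q' = snd H _ ≫ q'
    apply pullback.hom_ext
    · rw [Category.assoc, Category.assoc, hq', qProd_fst, ← Category.assoc, hdX, Category.assoc,
        (show b.act ≫ qX = snd H _ ≫ qX from hqXinv), ← Category.assoc, whiskerLeft_snd,
        Category.assoc]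
    · rw [Category.assoc, Category.assoc, hq', qProd_snd, ← Category.assoc, hdY, Category.assoc,
        (show c.act ≫ qY = snd H _ ≫ qY from hqYinv), ← Category.assoc, whiskerLeft_snd,
        Category.assoc]
  have sqAL : IsPullback (fst G (X ⊗ Y)).left q'.left π.left (pullback.fst pX pY ≫ pX).left :=
    sqA.map (Over.forget S)
  haveI : Flat q'.left := MorphismProperty.of_isPullback (P := @Flat) sqAL inferInstance
  haveI : Surjective q'.left := MorphismProperty.of_isPullback (P := @Surjective) sqAL inferInstance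
  haveI : QuasiCompact q'.left :=
    MorphismProperty.of_isPullback (P := @QuasiCompact) sqAL inferInstance
  have hiso' : IsIso (GIT.PsiY d q' hinv') := by
    have sq := BCAct.isPullback_PsiY sqA hπinv d hd hinv'
    haveI := hπiso
    exact sq.isIso_fst_of_isIso
  set θ : QXY ⟶ pullback pX pY := pullback.lift fX fY hf with hθ
  have hqθ : qXY ≫ θ = 𝟙 _ ≫ q' := by
    rw [Category.id_comp]
    apply pullback.hom_ext
    · rw [Category.assoc, hθ, pullback.lift_fst, hq', qProd_fst, hfX]
    · rw [Category.assoc, hθ, pullback.lift_snd, hq', qProd_snd, hfY]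
  have sqθ : IsPullback (𝟙 (G ⊗ (X ⊗ Y))) qXY q' θ :=
    Torsor.isPullback_of_principal d d qXY q' hqXYinv hinv' (𝟙 _) (by simp) θ hqθ hqXYiso hiso'
  have sqθL := sqθ.map (Over.forget S)
  have hcover : (@Surjective ⊓ @Flat ⊓ @QuasiCompact : MorphismProperty Scheme.{u}) q'.left :=
    ⟨⟨inferInstance, inferInstance⟩, inferInstance⟩
  have hθiso : MorphismProperty.isomorphisms Scheme.{u} θ.left :=
    MorphismProperty.DescendsAlong.of_isPullback (P := MorphismProperty.isomorphisms Scheme.{u})
      (Q := (@Surjective ⊓ @Flat ⊓ @QuasiCompact : MorphismProperty Scheme.{u})) sqθL hcover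
      (by
        rw [CategoryTheory.Functor.map_id]
        exact MorphismProperty.isomorphisms.infer_property _)
  haveI : IsIso θ.left := hθiso
  haveI : IsIso ((Over.forget S).map θ) := ‹IsIso θ.left›
  haveI : IsIso θ := isIso_of_reflects_iso θ (Over.forget S)
  exact IsPullback.of_iso_pullback ⟨hf⟩ (asIso θ) (pullback.lift_fst _ _ _)
    (pullback.lift_snd _ _ _)

end Main

end Groth.Agent.Lib.Helper10.AssocBun
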