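import Mathlib

/-!
# Ferrand pushouts, ring level: fibre products of commutative rings

`IsFibProd α β p q` says that `R` (with `α : R → A'`, `β : R → B`) is the fibre product of
`p : A' → A` and `q : B → A`. We prove: universal property, stability under localization away from
an element, and the description of the primes of `R` when `p` is surjective.
-/

set_option autoImplicit false
universe u
open CategoryTheory CategoryTheory.Limits

namespace Groth.Agent.Lib.Helper10.Ferrand

/-- `R` is the fibre product of `A'` and `B` over `A`. -/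
structure IsFibProd {R A' B A : Type*} [CommRing R] [CommRing A'] [CommRing B] [CommRing A]
    (α : R →+* A') (β : R →+* B) (p : A' →+* A) (q : B →+* A) : Prop where
  comm : ∀ x, p (α x) = q (β x)
  inj : ∀ x y, α x = α y → β x = β y → x = y
  ex : ∀ a' b, p a' = q b → ∃ r, α r = a' ∧ β r = b

section ring

variable {R A' B A : Type*} [CommRing R] [CommRing A'] [CommRing B] [CommRing A]
  {α : R →+* A'} {β : R →+* B} {p : A' →+* A} {q : B →+* A}

theorem IsFibProd.eq_zero (h : IsFibProd α β p q) {x : R} (h1 : α x = 0) (h2 : β x = 0) : x = 0 :=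
  h.inj x 0 (by rw [h1, map_zero]) (by rw [h2, map_zero])

theorem IsFibProd.exists_lift (h : IsFibProd α β p q) {C : Type*} [CommRing C]
    (f : C →+* A') (g : C →+* B) (hfg : ∀ c, p (f c) = q (g c)) :
    ∃ φ : C →+* R, α.comp φ = f ∧ β.comp φ = g := by
  choose φ hφ1 hφ2 using fun c => h.ex (f c) (g c) (hfg c)
  refine ⟨{ toFun := φ, map_one' := ?_, map_mul' := ?_, map_zero' := ?_, map_add' := ?_ }, ?_, ?_⟩
  · exact h.inj _ _ (by rw [hφ1, map_one, map_one]) (by rw [hφ2, map_one, map_one])
  · intro x y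
    exact h.inj _ _ (by rw [hφ1, map_mul, map_mul, hφ1, hφ1])
      (by rw [hφ2, map_mul, map_mul, hφ2, hφ2])
  · exact h.inj _ _ (by rw [hφ1, map_zero, map_zero]) (by rw [hφ2, map_zero, map_zero])
  · intro x y
    exact h.inj _ _ (by rw [hφ1, map_add, map_add, hφ1, hφ1])
      (by rw [hφ2, map_add, map_add, hφ2, hφ2])
  · ext c
    exact hφ1 c
  · ext c
    exact hφ2 c

theorem IsFibProd.surjective_right (h : IsFibProd α β p q) (hp : Function.Surjective p) :
    Function.Surjective β := by
  intro b
  obtain ⟨a', ha'⟩ := hp (q b)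
  obtain ⟨r, -, hr⟩ := h.ex a' b ha'
  exact ⟨r, hr⟩

/-- Transport of a fibre product square along ring isomorphisms. -/
theorem IsFibProd.of_equiv (h : IsFibProd α β p q)
    {R₁ A'₁ B₁ A₁ : Type*} [CommRing R₁] [CommRing A'₁] [CommRing B₁] [CommRing A₁]
    (eR : R ≃+* R₁) (eA' : A' ≃+* A'₁) (eB : B ≃+* B₁) (eA : A ≃+* A₁)
    {α₁ : R₁ →+* A'₁} {β₁ : R₁ →+* B₁} {p₁ : A'₁ →+* A₁} {q₁ : B₁ →+* A₁}
    (hα : ∀ x, α₁ (eR x) = eA' (α x)) (hβ : ∀ x, β₁ (eR x) = eB (β x))
    (hp : ∀ x, p₁ (eA' x) = eA (p x)) (hq : ∀ x, q₁ (eB x) = eA (q x)) :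
    IsFibProd α₁ β₁ p₁ q₁ where
  comm := by
    intro x
    obtain ⟨x, rfl⟩ := eR.surjective x
    rw [hα, hβ, hp, hq, h.comm]
  inj := by
    intro x y h1 h2
    obtain ⟨x, rfl⟩ := eR.surjective x
    obtain ⟨y, rfl⟩ := eR.surjective y
    rw [hα, hα] at h1
    rw [hβ, hβ] at h2
    rw [h.inj x y (eA'.injective h1) (eB.injective h2)]
  ex := by
    intro a' b hab
    obtain ⟨a', rfl⟩ := eA'.surjective a'
    obtain ⟨b, rfl⟩ := eB.surjective b
    rw [hp, hq] at hab
    obtain ⟨r, hr1, hr2⟩ := h.ex a' b (eA.injective hab)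
    exact ⟨eR r, by rw [hα, hr1], by rw [hβ, hr2]⟩

/-- Fibre products of rings are stable under localization away from an element. -/
theorem IsFibProd.localization (h : IsFibProd α β p q) (r : R)
    {Rr A'r Br Ar : Type*} [CommRing Rr] [CommRing A'r] [CommRing Br] [CommRing Ar]
    [Algebra R Rr] [Algebra A' A'r] [Algebra B Br] [Algebra A Ar]
    [IsLocalization.Away r Rr] [IsLocalization.Away (α r) A'r] [IsLocalization.Away (β r) Br]
    [IsLocalization.Away (p (α r)) Ar]
    (αr : Rr →+* A'r) (βr : Rr →+* Br) (pr : A'r →+* Ar) (qr : Br →+* Ar)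
    (hα : ∀ x, αr (algebraMap R Rr x) = algebraMap A' A'r (α x))
    (hβ : ∀ x, βr (algebraMap R Rr x) = algebraMap B Br (β x))
    (hp : ∀ x, pr (algebraMap A' A'r x) = algebraMap A Ar (p x))
    (hq : ∀ x, qr (algebraMap B Br x) = algebraMap A Ar (q x)) :
    IsFibProd αr βr pr qr := by
  have hcomm : ∀ x, pr (αr x) = qr (βr x) := by
    intro x
    obtain ⟨n, y, hy⟩ := IsLocalization.Away.surj r x
    have hu : IsUnit (algebraMap A Ar (p (α r)) ^ n) :=
      IsLocalization.Away.algebraMap_pow_isUnit (p (α r)) n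
    apply hu.mul_left_injective
    change pr (αr x) * algebraMap A Ar (p (α r)) ^ n = qr (βr x) * algebraMap A Ar (p (α r)) ^ n
    calc pr (αr x) * algebraMap A Ar (p (α r)) ^ n
        = pr (αr (x * algebraMap R Rr r ^ n)) := by
          rw [map_mul, map_mul, map_pow, map_pow, hα, hp]
      _ = pr (αr (algebraMap R Rr y)) := by rw [hy]
      _ = algebraMap A Ar (p (α y)) := by rw [hα, hp]
      _ = algebraMap A Ar (q (β y)) := by rw [h.comm]
      _ = qr (βr (algebraMap R Rr y)) := by rw [hβ, hq]
      _ = qr (βr (x * algebraMap R Rr r ^ n)) := by rw [hy]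
      _ = qr (βr x) * algebraMap A Ar (p (α r)) ^ n := by
          rw [map_mul, map_mul, map_pow, map_pow, hβ, hq, ← h.comm]
  have hzero : ∀ z, αr z = 0 → βr z = 0 → z = 0 := by
    intro z h1 h2
    obtain ⟨n, w, hw⟩ := IsLocalization.Away.surj r z
    have e1 : algebraMap A' A'r (α w) = algebraMap A' A'r 0 := by
      rw [← hα, ← hw, map_mul, h1, zero_mul, map_zero]
    have e2 : algebraMap B Br (β w) = algebraMap B Br 0 := by
      rw [← hβ, ← hw, map_mul, h2, zero_mul, map_zero]
    obtain ⟨m, hm⟩ := IsLocalization.Away.exists_of_eq (α r) e1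
    obtain ⟨m', hm'⟩ := IsLocalization.Away.exists_of_eq (β r) e2
    rw [mul_zero] at hm hm'
    have e3 : r ^ (m + m') * w = 0 := by
      apply h.eq_zero
      · rw [map_mul, map_pow, pow_add, mul_comm (α r ^ m), mul_assoc, hm, mul_zero]
      · rw [map_mul, map_pow, pow_add, mul_assoc, hm', mul_zero]
    have e4 : algebraMap R Rr w = 0 := by
      have hu : IsUnit (algebraMap R Rr r ^ (m + m')) :=
        IsLocalization.Away.algebraMap_pow_isUnit r (m + m')
      apply hu.mul_right_injective
      change algebraMap R Rr r ^ (m + m') * algebraMap R Rr w = algebraMap R Rr r ^ (m + m') * 0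
      rw [mul_zero, ← map_pow, ← map_mul, e3, map_zero]
    have hu : IsUnit (algebraMap R Rr r ^ n) := IsLocalization.Away.algebraMap_pow_isUnit r n
    apply hu.mul_left_injective
    change z * algebraMap R Rr r ^ n = 0 * algebraMap R Rr r ^ n
    rw [hw, e4, zero_mul]
  refine ⟨hcomm, ?_, ?_⟩
  · intro x y h1 h2
    have := hzero (x - y) (by rw [map_sub, h1, sub_self]) (by rw [map_sub, h2, sub_self])
    exact sub_eq_zero.mp this
  · intro a' b hab
    obtain ⟨n, a₀, ha₀⟩ := IsLocalization.Away.surj (α r) a'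
    obtain ⟨m, b₀, hb₀⟩ := IsLocalization.Away.surj (β r) b
    -- common exponent `N = n + m`
    have ha₁ : a' * algebraMap A' A'r (α r) ^ (n + m) = algebraMap A' A'r (α r ^ m * a₀) := by
      rw [map_mul, map_pow, ← ha₀, pow_add]
      ring
    have hb₁ : b * algebraMap B Br (β r) ^ (n + m) = algebraMap B Br (β r ^ n * b₀) := by
      rw [map_mul, map_pow, ← hb₀, pow_add]
      ring
    have e : algebraMap A Ar (p (α r ^ m * a₀)) = algebraMap A Ar (q (β r ^ n * b₀)) := by
      rw [← hp, ← hq, ← ha₁, ← hb₁, map_mul, map_mul, map_pow, map_pow, hp, hq, hab, ← h.comm]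
    obtain ⟨k, hk⟩ := IsLocalization.Away.exists_of_eq (p (α r)) e
    have e' : p (α r ^ k * (α r ^ m * a₀)) = q (β r ^ k * (β r ^ n * b₀)) := by
      rw [map_mul p, map_pow p, hk, map_mul q (β r ^ k), map_pow q, ← h.comm r]
    obtain ⟨y, hy1, hy2⟩ := h.ex _ _ e'
    obtain ⟨v, hv⟩ := (IsLocalization.Away.algebraMap_pow_isUnit (S := Rr) r (n + m + k)).exists_left_inv
    refine ⟨algebraMap R Rr y * v, ?_, ?_⟩
    · have hu : IsUnit (algebraMap A' A'r (α r) ^ (n + m + k)) :=
        IsLocalization.Away.algebraMap_pow_isUnit (α r) (n + m + k)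
      apply hu.mul_left_injective
      change αr (algebraMap R Rr y * v) * algebraMap A' A'r (α r) ^ (n + m + k) =
        a' * algebraMap A' A'r (α r) ^ (n + m + k)
      have e1 : αr (algebraMap R Rr y * v) * algebraMap A' A'r (α r) ^ (n + m + k) =
          αr (algebraMap R Rr y * (v * algebraMap R Rr r ^ (n + m + k))) := by
        simp only [map_mul, map_pow, hα]
        ring
      rw [e1, hv, mul_one, hα, hy1, map_mul, map_pow, ← ha₁, pow_add _ (n + m) k]
      ring
    · have hu : IsUnit (algebraMap B Br (β r) ^ (n + m + k)) :=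
        IsLocalization.Away.algebraMap_pow_isUnit (β r) (n + m + k)
      apply hu.mul_left_injective
      change βr (algebraMap R Rr y * v) * algebraMap B Br (β r) ^ (n + m + k) =
        b * algebraMap B Br (β r) ^ (n + m + k)
      have e1 : βr (algebraMap R Rr y * v) * algebraMap B Br (β r) ^ (n + m + k) =
          βr (algebraMap R Rr y * (v * algebraMap R Rr r ^ (n + m + k))) := by
        simp only [map_mul, map_pow, hβ]
        ring
      rw [e1, hv, mul_one, hβ, hy2, map_mul, map_pow, ← hb₁, pow_add _ (n + m) k]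
      ring

/-- Variant of `IsFibProd.localization` with explicit localization hypotheses. -/
theorem IsFibProd.localization' (h : IsFibProd α β p q) (r : R)
    {Rr A'r Br Ar : Type*} [CommRing Rr] [CommRing A'r] [CommRing Br] [CommRing Ar]
    [Algebra R Rr] [Algebra A' A'r] [Algebra B Br] [Algebra A Ar]
    (hR : IsLocalization.Away r Rr) (hA' : IsLocalization.Away (α r) A'r)
    (hB : IsLocalization.Away (β r) Br) (hA : IsLocalization.Away (p (α r)) Ar)
    (αr : Rr →+* A'r) (βr : Rr →+* Br) (pr : A'r →+* Ar) (qr : Br →+* Ar)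
    (hα : ∀ x, αr (algebraMap R Rr x) = algebraMap A' A'r (α x))
    (hβ : ∀ x, βr (algebraMap R Rr x) = algebraMap B Br (β x))
    (hp : ∀ x, pr (algebraMap A' A'r x) = algebraMap A Ar (p x))
    (hq : ∀ x, qr (algebraMap B Br x) = algebraMap A Ar (q x)) :
    IsFibProd αr βr pr qr :=
  h.localization r αr βr pr qr hα hβ hp hq

/-- Description of the primes of a fibre product ring `R = B ×_A A'` with `A' → A` surjective:
every prime comes from `B`, or lies in `D(k)` for some `k` in the kernel of `R → B` and then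
comes from `A'`. -/
theorem IsFibProd.exists_prime (h : IsFibProd α β p q) (hp : Function.Surjective p)
    (P : PrimeSpectrum R) :
    (∃ Q : PrimeSpectrum B, PrimeSpectrum.comap β Q = P) ∨
    (∃ k : R, β k = 0 ∧ k ∉ P.asIdeal ∧ ∃ Q : PrimeSpectrum A', PrimeSpectrum.comap α Q = P) := by
  have hβ : Function.Surjective β := h.surjective_right hp
  by_cases hK : RingHom.ker β ≤ P.asIdeal
  · left
    have : P ∈ Set.range (PrimeSpectrum.comap β) := by
      rw [_root_.range_comap_of_surjective _ β hβ]
      exact hK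
    exact this
  · right
    obtain ⟨k, hk, hkP⟩ := SetLike.not_le_iff_exists.mp hK
    have hk' : β k = 0 := RingHom.mem_ker.mp hk
    have hpk : ∀ x : A', p (α k * x) = q 0 := by
      intro x
      rw [map_mul, h.comm, hk', map_zero, zero_mul]
    refine ⟨k, hk', hkP, ?_⟩
    have : P ∈ Set.range (PrimeSpectrum.comap α) := by
      rw [PrimeSpectrum.mem_range_comap_iff]
      refine le_antisymm ?_ Ideal.le_comap_map
      intro s hs
      have key : ∀ a' ∈ Ideal.map α P.asIdeal, ∀ r : R, β r = 0 → α r = α k * a' →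
          r ∈ P.asIdeal := by
        intro a' ha'
        refine Submodule.span_induction
          (p := fun a' _ => ∀ r : R, β r = 0 → α r = α k * a' → r ∈ P.asIdeal) ?_ ?_ ?_ ?_ ha'
        · rintro _ ⟨t, ht, rfl⟩ r hr1 hr2
          have : r = k * t :=
            h.inj _ _ (by rw [hr2, map_mul]) (by rw [hr1, map_mul, hk', zero_mul])
          rw [this]
          exact P.asIdeal.mul_mem_left k ht
        · intro r hr1 hr2
          have : r = 0 := h.eq_zero (by rw [hr2, mul_zero]) hr1
          rw [this]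
          exact zero_mem _
        · intro x y _ _ hx hy r hr1 hr2
          obtain ⟨r₁, h11, h12⟩ := h.ex (α k * x) 0 (hpk x)
          obtain ⟨r₂, h21, h22⟩ := h.ex (α k * y) 0 (hpk y)
          have : r = r₁ + r₂ :=
            h.inj _ _ (by rw [hr2, map_add, h11, h21, mul_add])
              (by rw [hr1, map_add, h12, h22, add_zero])
          rw [this]
          exact add_mem (hx r₁ h12 h11) (hy r₂ h22 h21)
        · intro a x _ hx r hr1 hr2
          obtain ⟨r₁, h11, h12⟩ := h.ex (α k * x) 0 (hpk x)
          obtain ⟨ρ, h21, h22⟩ := h.ex (α k * a) 0 (hpk a)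
          have e : k * r = ρ * r₁ :=
            h.inj _ _ (by rw [map_mul, map_mul, hr2, h11, h21, smul_eq_mul]; ring)
              (by rw [map_mul, map_mul, hr1, h12, mul_zero, mul_zero])
          have hmem : k * r ∈ P.asIdeal := by
            rw [e]
            exact P.asIdeal.mul_mem_left ρ (hx r₁ h12 h11)
          exact (P.isPrime.mem_or_mem hmem).resolve_left hkP
      have hks : k * s ∈ P.asIdeal :=
        key (α s) hs (k * s) (by rw [map_mul, hk', zero_mul]) (by rw [map_mul])
      exact (P.isPrime.mem_or_mem hks).resolve_left hkP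
    exact this

end ring

/-- A pullback square in `CommRingCat` is a fibre product of rings. -/
theorem isFibProd_of_isPullback {R A' B A : CommRingCat.{u}} {fst : R ⟶ B} {snd : R ⟶ A'}
    {q : B ⟶ A} {p : A' ⟶ A} (h : IsPullback fst snd q p) :
    IsFibProd snd.hom fst.hom p.hom q.hom := by
  let e : R ≅ (CommRingCat.pullbackCone q p).pt :=
    h.isLimit.conePointUniqueUpToIso (CommRingCat.pullbackConeIsLimit q p)
  have he1 : e.hom ≫ (CommRingCat.pullbackCone q p).fst = fst :=
    IsLimit.conePointUniqueUpToIso_hom_comp _ _ WalkingCospan.left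
  have he2 : e.hom ≫ (CommRingCat.pullbackCone q p).snd = snd :=
    IsLimit.conePointUniqueUpToIso_hom_comp _ _ WalkingCospan.right
  have hi1 : e.inv ≫ fst = (CommRingCat.pullbackCone q p).fst := by
    rw [← he1, Iso.inv_hom_id_assoc]
  have hi2 : e.inv ≫ snd = (CommRingCat.pullbackCone q p).snd := by
    rw [← he2, Iso.inv_hom_id_assoc]
  refine ⟨?_, ?_, ?_⟩
  · intro x
    exact (ConcreteCategory.congr_hom h.w x).symm
  · intro x y h1 h2
    have h1' : ((CommRingCat.pullbackCone q p).snd) (e.hom x) =
        ((CommRingCat.pullbackCone q p).snd) (e.hom y) := by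
      rw [← CommRingCat.comp_apply, ← CommRingCat.comp_apply, he2]
      exact h1
    have h2' : ((CommRingCat.pullbackCone q p).fst) (e.hom x) =
        ((CommRingCat.pullbackCone q p).fst) (e.hom y) := by
      rw [← CommRingCat.comp_apply, ← CommRingCat.comp_apply, he1]
      exact h2
    have : e.hom x = e.hom y := Subtype.ext (Prod.ext h2' h1')
    have := congrArg e.inv this
    simpa using this
  · intro a' b hab
    let z : (CommRingCat.pullbackCone q p).pt := ⟨(b, a'), hab.symm⟩
    refine ⟨e.inv z, ?_, ?_⟩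
    · change (e.inv ≫ snd) z = a'
      rw [hi2]
      rfl
    · change (e.inv ≫ fst) z = b
      rw [hi1]
      rfl

end Groth.Agent.Lib.Helper10.Ferrand
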