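import Mathlib

/-!
# Ferrand pushouts: generic scheme-level lemmas

* `hom_ext_of_jointly`: a pair of morphisms `a : X₁ ⟶ S`, `b : X₂ ⟶ S` that is jointly surjective
  on points and jointly injective on sections over every open is jointly epimorphic.
* `jointly_restrict`: these hypotheses restrict to opens of `S`.
* `exists_pow_lift_basicOpen_le`: shrinking basic opens along closed immersions of affine schemes.
* `morphismRestrict_isoSpec`: naturality of `isoSpec` for restrictions to affine opens.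
-/

set_option autoImplicit false
universe u
open CategoryTheory CategoryTheory.Limits AlgebraicGeometry

namespace Groth.Agent.Lib.Helper10.Ferrand

theorem appLE_congr_hom {X Y : Scheme.{u}} {f g : X ⟶ Y} (h : f = g) {U : Y.Opens}
    {V : X.Opens} (e : V ≤ f ⁻¹ᵁ U) (e' : V ≤ g ⁻¹ᵁ U) : f.appLE U V e = g.appLE U V e' := by
  subst h
  rfl

theorem hom_ext_of_jointly {X₁ X₂ S T : Scheme.{u}} (a : X₁ ⟶ S) (b : X₂ ⟶ S)
    (hsurj : ∀ s : S, (∃ x, a x = s) ∨ (∃ y, b y = s))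
    (hinj : ∀ (W : S.Opens) (s t : Γ(S, W)), a.app W s = a.app W t → b.app W s = b.app W t → s = t)
    {w w' : S ⟶ T} (ha : a ≫ w = a ≫ w') (hb : b ≫ w = b ≫ w') : w = w' := by
  have hbase : w.base = w'.base := by
    ext s
    rcases hsurj s with ⟨x, rfl⟩ | ⟨y, rfl⟩
    · exact congrArg (fun f : X₁ ⟶ T => f x) ha
    · exact congrArg (fun f : X₂ ⟶ T => f y) hb
  refine Scheme.Hom.ext hbase fun U => ?_
  have key : ∀ {X₁ : Scheme.{u}} (a : X₁ ⟶ S) (ha : a ≫ w = a ≫ w')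
      (e : w' ⁻¹ᵁ U = w ⁻¹ᵁ U),
      (w.app U ≫ S.presheaf.map (eqToHom e).op) ≫ a.app (w' ⁻¹ᵁ U) =
        w'.app U ≫ a.app (w' ⁻¹ᵁ U) := by
    intro X₁ a ha e
    have e1 : w.app U ≫ S.presheaf.map (eqToHom e).op = w.appLE U (w' ⁻¹ᵁ U) e.le := rfl
    rw [e1, Scheme.Hom.app_eq_appLE (f := a), Scheme.Hom.app_eq_appLE (f := w'),
      Scheme.Hom.appLE_comp_appLE, Scheme.Hom.appLE_comp_appLE]
    exact appLE_congr_hom ha _ _
  ext t
  apply hinj
  · exact ConcreteCategory.congr_hom (key a ha _) t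
  · exact ConcreteCategory.congr_hom (key b hb _) t

theorem jointly_restrict {X₁ X₂ S : Scheme.{u}} (a : X₁ ⟶ S) (b : X₂ ⟶ S)
    (hsurj : ∀ s : S, (∃ x, a x = s) ∨ (∃ y, b y = s))
    (hinj : ∀ (W : S.Opens) (s t : Γ(S, W)), a.app W s = a.app W t → b.app W s = b.app W t → s = t)
    (W : S.Opens) :
    (∀ s : W.toScheme, (∃ x, (a ∣_ W) x = s) ∨ (∃ y, (b ∣_ W) y = s)) ∧
    (∀ (W' : W.toScheme.Opens) (s t : Γ(W.toScheme, W')),
      (a ∣_ W).app W' s = (a ∣_ W).app W' t → (b ∣_ W).app W' s = (b ∣_ W).app W' t → s = t) := by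
  constructor
  · intro s
    rcases hsurj s.1 with ⟨x, hx⟩ | ⟨y, hy⟩
    · left
      refine ⟨⟨x, ?_⟩, ?_⟩
      · change a x ∈ W
        rw [hx]
        exact s.2
      · apply Subtype.ext
        rw [morphismRestrict_base_coe]
        exact hx
    · right
      refine ⟨⟨y, ?_⟩, ?_⟩
      · change b y ∈ W
        rw [hy]
        exact s.2
      · apply Subtype.ext
        rw [morphismRestrict_base_coe]
        exact hy
  · intro W' s t h1 h2
    rw [morphismRestrict_app] at h1 h2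
    have h1' := (ConcreteCategory.bijective_of_isIso
      (X₁.presheaf.map (eqToHom (image_morphismRestrict_preimage a W W')).op)).1 h1
    have h2' := (ConcreteCategory.bijective_of_isIso
      (X₂.presheaf.map (eqToHom (image_morphismRestrict_preimage b W W')).op)).1 h2
    exact hinj (W.ι ''ᵁ W') s t h1' h2'

theorem hom_ext_restrict {X₁ X₂ S T : Scheme.{u}} (a : X₁ ⟶ S) (b : X₂ ⟶ S)
    (hsurj : ∀ s : S, (∃ x, a x = s) ∨ (∃ y, b y = s))
    (hinj : ∀ (W : S.Opens) (s t : Γ(S, W)), a.app W s = a.app W t → b.app W s = b.app W t → s = t)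
    (W : S.Opens) {w w' : W.toScheme ⟶ T} (ha : (a ∣_ W) ≫ w = (a ∣_ W) ≫ w')
    (hb : (b ∣_ W) ≫ w = (b ∣_ W) ≫ w') : w = w' :=
  hom_ext_of_jointly (a ∣_ W) (b ∣_ W) (jointly_restrict a b hsurj hinj W).1
    (jointly_restrict a b hsurj hinj W).2 ha hb

/-- Shrinking along a closed immersion of affine schemes: if `D(f) ⊆ i⁻¹ U'` then some power of
`f` lifts to a function `h` on `X'` with `D(h) ⊆ U'`. -/
theorem exists_pow_lift_basicOpen_le {X X' : Scheme.{u}} [IsAffine X] [IsAffine X'] (i : X ⟶ X')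
    (hi : Function.Surjective i.appTop) (U' : X'.Opens) (f : Γ(X, ⊤))
    (hf : X.basicOpen f ≤ i ⁻¹ᵁ U') :
    ∃ (n : ℕ) (h : Γ(X', ⊤)), i.appTop h = f ^ (n + 1) ∧ X'.basicOpen h ≤ U' := by
  obtain ⟨J', hJ'⟩ := (Scheme.eq_zeroLocus_of_isClosed_of_isAffine X' (U' : Set X')ᶜ).mp
    U'.isOpen.isClosed_compl
  have h0 : i ⁻¹' X'.zeroLocus (J' : Set Γ(X', ⊤)) =
      X.zeroLocus (U := ⊤) ((i.appTop).hom '' (J' : Set Γ(X', ⊤))) :=
    Scheme.preimage_zeroLocus i (J' : Set Γ(X', ⊤))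
  have h1 : X.zeroLocus (U := ⊤) ((i.appTop).hom '' (J' : Set Γ(X', ⊤))) ⊆
      X.zeroLocus (U := ⊤) {f} := by
    rw [← h0, ← hJ', Scheme.zeroLocus_singleton]
    intro x hx hxf
    exact hx (hf hxf)
  have h3 : PrimeSpectrum.zeroLocus ((i.appTop).hom '' (J' : Set Γ(X', ⊤))) ⊆
      PrimeSpectrum.zeroLocus ({f} : Set Γ(X, ⊤)) := by
    have e1 := Scheme.isoSpec_image_zeroLocus X ((i.appTop).hom '' (J' : Set Γ(X', ⊤)))
    have e2 := Scheme.isoSpec_image_zeroLocus X ({f} : Set Γ(X, ⊤))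
    intro P hP
    have hP' : P ∈ X.isoSpec.hom '' X.zeroLocus (U := ⊤)
        ((i.appTop).hom '' (J' : Set Γ(X', ⊤))) := by
      rw [e1]
      exact hP
    obtain ⟨x, hx, rfl⟩ := hP'
    have : X.isoSpec.hom x ∈ X.isoSpec.hom '' X.zeroLocus (U := ⊤) ({f} : Set Γ(X, ⊤)) :=
      ⟨x, h1 hx, rfl⟩
    rw [e2] at this
    exact this
  have h2 : f ∈ (Ideal.span ((i.appTop).hom '' (J' : Set Γ(X', ⊤)))).radical := by
    rw [← PrimeSpectrum.zeroLocus_span, ← PrimeSpectrum.zeroLocus_span {f},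
      PrimeSpectrum.zeroLocus_subset_zeroLocus_iff] at h3
    exact h3 (Ideal.subset_span (Set.mem_singleton f))
  obtain ⟨n, hn⟩ := h2
  have hn' : f ^ n ∈ Ideal.map (i.appTop).hom J' := hn
  rw [Ideal.mem_map_iff_of_surjective _ hi] at hn'
  obtain ⟨h₀, hh₀, hh₀'⟩ := hn'
  obtain ⟨F, hF⟩ := hi f
  refine ⟨n, F * h₀, ?_, ?_⟩
  · rw [map_mul, hF, pow_succ']
    congr 1
  · intro x hx
    by_contra hxU
    have hx' : x ∈ X'.zeroLocus (J' : Set Γ(X', ⊤)) := by
      rw [← hJ']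
      exact hxU
    exact (Scheme.mem_zeroLocus_iff X' _ x).mp hx' (F * h₀) (J'.mul_mem_left F hh₀) hx

/-- Naturality of `isoSpec` for the restriction of a morphism to an affine open with affine
preimage. -/
theorem morphismRestrict_isoSpec {X' S : Scheme.{u}} (a : X' ⟶ S) {W : S.Opens}
    (hW : IsAffineOpen W) (hV : IsAffineOpen (a ⁻¹ᵁ W)) :
    (a ∣_ W) ≫ hW.isoSpec.hom = hV.isoSpec.hom ≫ Spec.map (a.app W) := by
  rw [← cancel_mono hW.fromSpec, Category.assoc, Category.assoc, IsAffineOpen.isoSpec_hom_fromSpec,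
    morphismRestrict_ι, ← Scheme.Hom.appLE_eq_app,
    IsAffineOpen.SpecMap_appLE_fromSpec a hW hV le_rfl,
    IsAffineOpen.isoSpec_hom_fromSpec_assoc]

end Groth.Agent.Lib.Helper10.Ferrand
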