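import Mathlib
import Groth.Agent.Lib.Helper10.UnivThick3

/-!
# Universal first order thickenings: the diagram of local universal thickenings
-/

set_option autoImplicit false
universe u
open CategoryTheory CategoryTheory.Limits AlgebraicGeometry

namespace Groth.Agent.Lib.Helper10.UnivThick

variable {Z X : Scheme.{u}} (h : Z ⟶ X)

/-- An open of `Z` is good if it admits a universal first order thickening over `X`. -/
def Good (V : Z.Opens) : Prop :=
  ∃ (V' : Scheme.{u}) (i : (V : Scheme.{u}) ⟶ V') (h' : V' ⟶ X),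
    OmegaSh.IsUnivThickening (V.ι ≫ h) i h'

variable {h} in
theorem Good.of_le {V W : Z.Opens} (hW : Good h W) (hVW : V ≤ W) : Good h V := by
  obtain ⟨W', i, h', hu⟩ := hW
  obtain ⟨V₀', i₀, o', -, -, hu₀⟩ := exists_restrict (W.ι ≫ h) i h' hu (Z.homOfLE hVW)
  rw [Scheme.homOfLE_ι_assoc] at hu₀
  exact ⟨V₀', i₀, _, hu₀⟩

/-- Affine opens mapping into affine opens are good for a formally unramified morphism. -/
theorem exists_good [FormallyUnramified h]
    (hex : ∀ (R S : Type u) [CommRing R] [CommRing S] [Algebra R S]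
      [Algebra.FormallyUnramified R S],
      ∃ (S' : Type u) (_ : CommRing S') (_ : Algebra R S') (π : S' →ₐ[R] S),
        OmegaSh.IsUnivThickeningRing R S S' π) (z : Z) :
    ∃ V : Z.Opens, z ∈ V ∧ Good h V := by
  obtain ⟨U, hU, hzU, -⟩ := TopologicalSpace.Opens.isBasis_iff_nbhd.mp X.isBasis_affineOpens
    (show h z ∈ (⊤ : X.Opens) from trivial)
  obtain ⟨V, hV, hzV, hVU⟩ := TopologicalSpace.Opens.isBasis_iff_nbhd.mp Z.isBasis_affineOpens
    (show z ∈ h ⁻¹ᵁ U from hzU)
  refine ⟨V, hzV, ?_⟩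
  have hfu : (h.appLE U V hVU).hom.FormallyUnramified := h.formallyUnramified_appLE hU hV hVU
  obtain ⟨V', i, h', hu⟩ := exists_isUnivThickening_SpecMap (h.appLE U V hVU) hfu hex
  have hu2 := isUnivThickening_comp_openImmersion _ i h' hU.fromSpec hu
  have hu3 := isUnivThickening_iso_comp hV.isoSpec.hom _ _ _ hu2
  rw [IsAffineOpen.SpecMap_appLE_fromSpec h hU hV hVU, ← Category.assoc,
    IsAffineOpen.isoSpec_hom_fromSpec] at hu3
  exact ⟨V', _, _, hu3⟩

/-- The index category: good opens of `Z`. -/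
abbrev J : Type u := {V : Z.Opens // Good h V}

/-- The chosen universal thickening of a good open. -/
noncomputable def thk (V : J h) : Scheme.{u} := V.2.choose

/-- The chosen thickening morphism. -/
noncomputable def inc (V : J h) : (V.1 : Scheme.{u}) ⟶ thk h V := V.2.choose_spec.choose

/-- The chosen structure morphism. -/
noncomputable def str (V : J h) : thk h V ⟶ X := V.2.choose_spec.choose_spec.choose

theorem univ (V : J h) : OmegaSh.IsUnivThickening (V.1.ι ≫ h) (inc h V) (str h V) :=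
  V.2.choose_spec.choose_spec.choose_spec

theorem existsUnique_tr {V W : J h} (hVW : V.1 ≤ W.1) :
    ∃! m : thk h V ⟶ thk h W,
      IsSol (inc h W) (str h W) (inc h V) (str h V) (Z.homOfLE hVW) m :=
  (univ h W).2.2 _ _ (inc h V) (str h V) (Z.homOfLE hVW) (univ h V).1
    (by rw [(univ h V).2.1, Scheme.homOfLE_ι_assoc])

/-- The transition morphism between chosen thickenings. -/
noncomputable def tr {V W : J h} (hVW : V.1 ≤ W.1) : thk h V ⟶ thk h W :=
  (existsUnique_tr h hVW).exists.choose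

theorem tr_spec {V W : J h} (hVW : V.1 ≤ W.1) :
    IsSol (inc h W) (str h W) (inc h V) (str h V) (Z.homOfLE hVW) (tr h hVW) :=
  (existsUnique_tr h hVW).exists.choose_spec

theorem tr_unique {V W : J h} (hVW : V.1 ≤ W.1) (m : thk h V ⟶ thk h W)
    (hm : IsSol (inc h W) (str h W) (inc h V) (str h V) (Z.homOfLE hVW) m) : m = tr h hVW :=
  (existsUnique_tr h hVW).unique hm (tr_spec h hVW)

/-- The diagram of chosen thickenings. -/
noncomputable def F : J h ⥤ Scheme.{u} where
  obj := thk h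
  map f := tr h (leOfHom f)
  map_id V := (tr_unique h _ (𝟙 _)
    ⟨by rw [Category.comp_id, Scheme.homOfLE_rfl, Category.id_comp], Category.id_comp _⟩).symm
  map_comp {V₁ V₂ V₃} f g := (tr_unique h _ _
    ⟨by rw [← Category.assoc, (tr_spec h (leOfHom f)).1, Category.assoc,
        (tr_spec h (leOfHom g)).1, Scheme.homOfLE_homOfLE_assoc],
      by rw [Category.assoc, (tr_spec h (leOfHom g)).2, (tr_spec h (leOfHom f)).2]⟩).symm

instance isOpenImmersion_F_map {V W : J h} (f : V ⟶ W) : IsOpenImmersion ((F h).map f) :=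
  isOpenImmersion_of_isSol h V.1.ι W.1.ι (Z.homOfLE (leOfHom f)) (Z.homOfLE_ι _) (inc h V)
    (str h V) (inc h W) (str h W) (univ h V) (univ h W) _ (tr_spec h _)

theorem tr_inc_apply {V W : J h} (hVW : V.1 ≤ W.1) (z : (V.1 : Scheme.{u})) :
    tr h hVW (inc h V z) = inc h W (Z.homOfLE hVW z) := by
  rw [← Scheme.Hom.comp_apply, (tr_spec h hVW).1]
  rfl

instance isLocallyDirected_F : ((F h) ⋙ Scheme.forget).IsLocallyDirected where
  cond {V₁ V₂ W} f₁ f₂ x₁ x₂ hx := by
    change tr h (leOfHom f₁) x₁ = tr h (leOfHom f₂) x₂ at hx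
    obtain ⟨z₁, rfl⟩ := fot_surjective (univ h V₁).1 x₁
    obtain ⟨z₂, rfl⟩ := fot_surjective (univ h V₂).1 x₂
    rw [tr_inc_apply, tr_inc_apply] at hx
    have hz := fot_injective (univ h W).1 hx
    have hz' : V₁.1.ι z₁ = V₂.1.ι z₂ := by
      have := congrArg (fun w => W.1.ι w) hz
      simp only [← Scheme.Hom.comp_apply, Scheme.homOfLE_ι] at this
      exact this
    let V₃ : J h := ⟨V₁.1 ⊓ V₂.1, V₁.2.of_le inf_le_left⟩
    have hmem : V₁.1.ι z₁ ∈ V₃.1 := ⟨z₁.2, hz' ▸ z₂.2⟩
    let z₃ : (V₃.1 : Scheme.{u}) := ⟨V₁.1.ι z₁, hmem⟩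
    refine ⟨V₃, homOfLE (show V₃.1 ≤ V₁.1 from inf_le_left),
      homOfLE (show V₃.1 ≤ V₂.1 from inf_le_right), inc h V₃ z₃, ?_, ?_⟩
    · change tr h _ (inc h V₃ z₃) = inc h V₁ z₁
      rw [tr_inc_apply]
      congr 1
      apply V₁.1.ι.isOpenEmbedding.injective
      rw [← Scheme.Hom.comp_apply, Scheme.homOfLE_ι]
      rfl
    · change tr h _ (inc h V₃ z₃) = inc h V₂ z₂
      rw [tr_inc_apply]
      congr 1
      apply V₂.1.ι.isOpenEmbedding.injective
      rw [← Scheme.Hom.comp_apply, Scheme.homOfLE_ι, ← hz']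
      rfl

end Groth.Agent.Lib.Helper10.UnivThick
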