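import Mathlib
import Groth.Agent.Lib.Helper10.UnivThick4

/-!
# Universal first order thickenings: gluing the local universal thickenings
-/

set_option autoImplicit false
universe u
open CategoryTheory CategoryTheory.Limits AlgebraicGeometry

namespace Groth.Agent.Lib.Helper10.UnivThick

/-- Gluing morphisms out of a scheme along a basis of opens. -/
theorem exists_glue_of_isBasis {T Y : Scheme.{u}} (S : Set T.Opens)
    (hS : TopologicalSpace.Opens.IsBasis S) (s : ∀ W : S, (W.1 : Scheme.{u}) ⟶ Y)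
    (hs : ∀ (W₁ W₂ : S) (hle : W₁.1 ≤ W₂.1), T.homOfLE hle ≫ s W₂ = s W₁) :
    ∃ a : T ⟶ Y, ∀ W : S, W.1.ι ≫ a = s W := by
  classical
  have hcov : TopologicalSpace.IsOpenCover (fun W : S => (W.1 : T.Opens)) := by
    refine top_le_iff.mp fun x _ => ?_
    obtain ⟨W, hW, hxW, -⟩ := TopologicalSpace.Opens.isBasis_iff_nbhd.mp hS
      (show x ∈ (⊤ : T.Opens) from trivial)
    exact TopologicalSpace.Opens.mem_iSup.mpr ⟨⟨W, hW⟩, hxW⟩
  let 𝒰 : T.OpenCover := T.openCoverOfIsOpenCover (fun W : S => W.1) hcov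
  letI : Preorder 𝒰.I₀ := inferInstanceAs (Preorder S)
  have hle : ∀ {W₁ W₂ : 𝒰.I₀}, W₁ ≤ W₂ ↔ (𝒰.f W₁).opensRange ≤ (𝒰.f W₂).opensRange := by
    intro W₁ W₂
    change W₁.1 ≤ W₂.1 ↔ (W₁.1.ι).opensRange ≤ (W₂.1.ι).opensRange
    rw [Scheme.Opens.opensRange_ι, Scheme.Opens.opensRange_ι]
  have hB : TopologicalSpace.Opens.IsBasis (Set.range fun W : 𝒰.I₀ => (𝒰.f W).opensRange) := by
    convert hS
    ext W
    constructor
    · rintro ⟨W₁, rfl⟩
      change (W₁.1.ι).opensRange ∈ S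
      rw [Scheme.Opens.opensRange_ι]
      exact W₁.2
    · intro hW
      refine ⟨⟨W, hW⟩, ?_⟩
      exact Scheme.Opens.opensRange_ι (X := T) W
  letI : 𝒰.LocallyDirected := Scheme.Cover.LocallyDirected.ofIsBasisOpensRange hle hB
  have hcompat : ∀ {W₁ W₂ : 𝒰.I₀} (f : W₁ ⟶ W₂), 𝒰.trans f ≫ s W₂ = s W₁ := by
    intro W₁ W₂ f
    exact hs W₁ W₂ (leOfHom f)
  exact ⟨𝒰.glueMorphismsOfLocallyDirected s hcompat,
    fun W => 𝒰.map_glueMorphismsOfLocallyDirected s hcompat W⟩

variable {Z X : Scheme.{u}} (h : Z ⟶ X)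

theorem isBasis_good (hcov : ∀ z : Z, ∃ V : Z.Opens, z ∈ V ∧ Good h V) :
    TopologicalSpace.Opens.IsBasis {V : Z.Opens | Good h V} := by
  rw [TopologicalSpace.Opens.isBasis_iff_nbhd]
  intro O x hx
  obtain ⟨V, hxV, hV⟩ := hcov x
  exact ⟨V ⊓ O, hV.of_le inf_le_left, ⟨hxV, hx⟩, inf_le_right⟩

/-- The glued thickening. -/
noncomputable abbrev glued : Scheme.{u} := colimit (F h)

/-- The inclusion of a local thickening. -/
noncomputable abbrev ιV (V : J h) : thk h V ⟶ glued h := colimit.ι (F h) V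

instance isOpenImmersion_ιV (V : J h) : IsOpenImmersion (ιV h V) :=
  inferInstanceAs (IsOpenImmersion (colimit.ι (F h) V))

theorem tr_ιV {V W : J h} (hVW : V.1 ≤ W.1) : tr h hVW ≫ ιV h W = ιV h V :=
  colimit.w (F h) (homOfLE hVW)

/-- The structure morphism of the glued thickening. -/
noncomputable def gstr : glued h ⟶ X :=
  colimit.desc (F h)
    { pt := X
      ι :=
        { app := str h
          naturality := fun V W f => by
            change tr h (leOfHom f) ≫ str h W = str h V ≫ 𝟙 X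
            rw [Category.comp_id]
            exact (tr_spec h _).2 } }

theorem ιV_gstr (V : J h) : ιV h V ≫ gstr h = str h V :=
  colimit.ι_desc _ _

theorem exists_ginc (hcov : ∀ z : Z, ∃ V : Z.Opens, z ∈ V ∧ Good h V) :
    ∃ i : Z ⟶ glued h, ∀ V : J h, V.1.ι ≫ i = inc h V ≫ ιV h V := by
  obtain ⟨a, ha⟩ := exists_glue_of_isBasis {V : Z.Opens | Good h V} (isBasis_good h hcov)
    (fun V => inc h V ≫ ιV h V) (by
      intro V W hle
      rw [← Category.assoc, ← (tr_spec h hle).1, Category.assoc, tr_ιV])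
  exact ⟨a, ha⟩

end Groth.Agent.Lib.Helper10.UnivThick
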