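import Mathlib
import Groth.Agent.Lib.Helper10.Ferrand1
import Groth.Agent.Lib.Helper10.Ferrand2
import Groth.Agent.Lib.Helper10.UnivThick5

/-!
# Ferrand pushouts: the affine case

A commutative square of affine schemes whose square of global sections is a fibre product of rings
with `Γ(X') → Γ(X)` surjective is a pushout square in the category of schemes.
-/

set_option autoImplicit false
universe u
open CategoryTheory CategoryTheory.Limits AlgebraicGeometry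

namespace Groth.Agent.Lib.Helper10.Ferrand

variable {X X' Y S : Scheme.{u}} [IsAffine X] [IsAffine X'] [IsAffine Y] [IsAffine S]
  (i : X ⟶ X') (j : X ⟶ Y) (a : X' ⟶ S) (b : Y ⟶ S)

/-- An affine Ferrand square. -/
structure Sq : Prop where
  comm : i ≫ a = j ≫ b
  fib : IsFibProd a.appTop.hom b.appTop.hom i.appTop.hom j.appTop.hom
  surj : Function.Surjective i.appTop

variable {i j a b}

theorem Sq.le_preimage (h : Sq i j a b) (W : S.Opens) : i ⁻¹ᵁ a ⁻¹ᵁ W ≤ j ⁻¹ᵁ b ⁻¹ᵁ W := by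
  intro x hx
  change b (j x) ∈ W
  have e : b (j x) = a (i x) := congrArg (fun f : X ⟶ S => f x) h.comm.symm
  rw [e]
  exact hx

/-- Sections over a basic open of `S` form a fibre product. -/
theorem Sq.isFibProd_basicOpen (h : Sq i j a b) {W : S.Opens} (r : Γ(S, ⊤))
    (e : W = S.basicOpen r) :
    IsFibProd (a.app W).hom (b.app W).hom (i.app (a ⁻¹ᵁ W)).hom
      (j.appLE (b ⁻¹ᵁ W) (i ⁻¹ᵁ a ⁻¹ᵁ W) (h.le_preimage W)).hom := by
  have eX' : a ⁻¹ᵁ W = X'.basicOpen (a.appTop r) := by rw [e, Scheme.preimage_basicOpen_top]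
  have eY : b ⁻¹ᵁ W = Y.basicOpen (b.appTop r) := by rw [e, Scheme.preimage_basicOpen_top]
  have eX : i ⁻¹ᵁ a ⁻¹ᵁ W = X.basicOpen (i.appTop (a.appTop r)) := by
    rw [eX', Scheme.preimage_basicOpen_top]
  letI : Algebra Γ(S, ⊤) Γ(S, W) := (S.presheaf.map (homOfLE le_top).op).hom.toAlgebra
  letI : Algebra Γ(X', ⊤) Γ(X', a ⁻¹ᵁ W) := (X'.presheaf.map (homOfLE le_top).op).hom.toAlgebra
  letI : Algebra Γ(Y, ⊤) Γ(Y, b ⁻¹ᵁ W) := (Y.presheaf.map (homOfLE le_top).op).hom.toAlgebra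
  letI : Algebra Γ(X, ⊤) Γ(X, i ⁻¹ᵁ a ⁻¹ᵁ W) :=
    (X.presheaf.map (homOfLE le_top).op).hom.toAlgebra
  have hS := (isAffineOpen_top S).isLocalization_of_eq_basicOpen r (homOfLE le_top) e
  have hX' := (isAffineOpen_top X').isLocalization_of_eq_basicOpen _ (homOfLE le_top) eX'
  have hY := (isAffineOpen_top Y).isLocalization_of_eq_basicOpen _ (homOfLE le_top) eY
  have hX := (isAffineOpen_top X).isLocalization_of_eq_basicOpen _ (homOfLE le_top) eX
  refine h.fib.localization' r hS hX' hY hX _ _ _ _ ?_ ?_ ?_ ?_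
  · intro x
    exact ConcreteCategory.congr_hom (a.naturality (homOfLE (le_top : W ≤ ⊤)).op) x
  · intro x
    exact ConcreteCategory.congr_hom (b.naturality (homOfLE (le_top : W ≤ ⊤)).op) x
  · intro x
    exact ConcreteCategory.congr_hom
      (i.naturality (homOfLE (le_top : a ⁻¹ᵁ W ≤ ⊤)).op) x
  · intro x
    have : Y.presheaf.map (homOfLE (le_top : b ⁻¹ᵁ W ≤ ⊤)).op ≫
        j.appLE (b ⁻¹ᵁ W) (i ⁻¹ᵁ a ⁻¹ᵁ W) (h.le_preimage W) =
        j.appTop ≫ X.presheaf.map (homOfLE (le_top : i ⁻¹ᵁ a ⁻¹ᵁ W ≤ ⊤)).op := by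
      rw [Scheme.Hom.map_appLE]
      rfl
    exact ConcreteCategory.congr_hom this x

/-- Joint injectivity on sections over all opens. -/
theorem Sq.inj (h : Sq i j a b) (W : S.Opens) (s t : Γ(S, W)) (h1 : a.app W s = a.app W t)
    (h2 : b.app W s = b.app W t) : s = t := by
  refine S.sheaf.eq_of_locally_eq' (fun r : {r : Γ(S, ⊤) // S.basicOpen r ≤ W} => S.basicOpen r.1)
    W (fun r => homOfLE r.2) ?_ s t ?_
  · intro x hx
    obtain ⟨_, ⟨r, rfl⟩, hxr, hrW⟩ :=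
      TopologicalSpace.Opens.isBasis_iff_nbhd.mp (isBasis_basicOpen S) hx
    exact TopologicalSpace.Opens.mem_iSup.mpr ⟨⟨r, hrW⟩, hxr⟩
  · intro r
    apply (h.isFibProd_basicOpen r.1 rfl).inj
    · have e := a.naturality (homOfLE r.2).op
      have e1 := ConcreteCategory.congr_hom e s
      have e2 := ConcreteCategory.congr_hom e t
      rw [CommRingCat.comp_apply, CommRingCat.comp_apply] at e1 e2
      exact e1.trans ((congrArg _ h1).trans e2.symm)
    · have e := b.naturality (homOfLE r.2).op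
      have e1 := ConcreteCategory.congr_hom e s
      have e2 := ConcreteCategory.congr_hom e t
      rw [CommRingCat.comp_apply, CommRingCat.comp_apply] at e1 e2
      exact e1.trans ((congrArg _ h2).trans e2.symm)

/-- Points of `S`: either from `Y`, or in `D(k)` with `k` vanishing on `Y` and then from `X'`. -/
theorem Sq.exists_point (h : Sq i j a b) (x : S) :
    (∃ y : Y, b y = x) ∨
    (∃ k : Γ(S, ⊤), b.appTop k = 0 ∧ x ∈ S.basicOpen k ∧ ∃ x' : X', a x' = x) := by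
  have hinjS : Function.Injective S.toSpecΓ := by
    have := S.isoSpec.hom.homeomorph.injective
    exact this
  rcases h.fib.exists_prime h.surj (S.toSpecΓ x) with ⟨Q, hQ⟩ | ⟨k, hk, hkx, Q, hQ⟩
  · left
    obtain ⟨y, rfl⟩ : ∃ y : Y, Y.toSpecΓ y = Q := Y.isoSpec.hom.homeomorph.surjective Q
    refine ⟨y, hinjS ?_⟩
    have e := congrArg (fun f : Y ⟶ Spec Γ(S, ⊤) => f y) (Scheme.toSpecΓ_naturality b)
    exact e.trans hQ
  · right
    refine ⟨k, hk, ?_, ?_⟩
    · rw [← Scheme.toSpecΓ_preimage_basicOpen]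
      exact hkx
    · obtain ⟨x', rfl⟩ : ∃ x' : X', X'.toSpecΓ x' = Q := X'.isoSpec.hom.homeomorph.surjective Q
      refine ⟨x', hinjS ?_⟩
      have e := congrArg (fun f : X' ⟶ Spec Γ(S, ⊤) => f x') (Scheme.toSpecΓ_naturality a)
      exact e.trans hQ

theorem Sq.jointly_surjective (h : Sq i j a b) (s : S) : (∃ x, a x = s) ∨ (∃ y, b y = s) := by
  rcases h.exists_point s with ⟨y, hy⟩ | ⟨_, _, _, x', hx'⟩
  exacts [Or.inr ⟨y, hy⟩, Or.inl ⟨x', hx'⟩]

section desc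

variable {T : Scheme.{u}} (u : X' ⟶ T) (v : Y ⟶ T)

variable (a b) in
/-- A basic open of `S` is good if its preimages in `X'` and `Y` map into a common affine open
of `T`. -/
def Good (W : S.Opens) : Prop :=
  ∃ r : Γ(S, ⊤), W = S.basicOpen r ∧ ∃ O : T.Opens, IsAffineOpen O ∧
    a ⁻¹ᵁ W ≤ u ⁻¹ᵁ O ∧ b ⁻¹ᵁ W ≤ v ⁻¹ᵁ O

theorem Good.inf_basicOpen {u : X' ⟶ T} {v : Y ⟶ T} {W : S.Opens} (hW : Good a b u v W)
    (r' : Γ(S, ⊤)) : Good a b u v (W ⊓ S.basicOpen r') := by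
  obtain ⟨r, rfl, O, hO, h1, h2⟩ := hW
  refine ⟨r * r', (S.basicOpen_mul r r').symm, O, hO, le_trans ?_ h1, le_trans ?_ h2⟩
  · intro x hx
    exact hx.1
  · intro x hx
    exact hx.1

theorem exists_affine_nhd (T : Scheme.{u}) (t : T) : ∃ O : T.Opens, IsAffineOpen O ∧ t ∈ O := by
  obtain ⟨O, hO, htO, -⟩ := TopologicalSpace.Opens.isBasis_iff_nbhd.mp T.isBasis_affineOpens
    (show t ∈ (⊤ : T.Opens) from trivial)
  exact ⟨O, hO, htO⟩

theorem Sq.exists_good (h : Sq i j a b) (huv : i ≫ u = j ≫ v) (x : S) :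
    ∃ W : S.Opens, x ∈ W ∧ Good a b u v W := by
  rcases h.exists_point x with ⟨y, rfl⟩ | ⟨k, hk, hxk, x', rfl⟩
  · obtain ⟨O, hO, hyO⟩ := exists_affine_nhd T (v y)
    obtain ⟨_, ⟨g₀, rfl⟩, hyg, hgO⟩ := TopologicalSpace.Opens.isBasis_iff_nbhd.mp
      (isBasis_basicOpen Y) (show y ∈ v ⁻¹ᵁ O from hyO)
    have hf : X.basicOpen (j.appTop g₀) ≤ i ⁻¹ᵁ (u ⁻¹ᵁ O) := by
      rw [← Scheme.preimage_basicOpen_top]
      intro z hz
      have hz' : v (j z) ∈ O := hgO hz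
      change u (i z) ∈ O
      have e : u (i z) = v (j z) := congrArg (fun f : X ⟶ T => f z) huv
      rw [e]
      exact hz'
    obtain ⟨n, hh, hh1, hh2⟩ := exists_pow_lift_basicOpen_le i h.surj (u ⁻¹ᵁ O) (j.appTop g₀) hf
    obtain ⟨r, hr1, hr2⟩ := h.fib.ex hh (g₀ ^ (n + 1)) (by
      rw [map_pow]
      exact hh1)
    have hr1' : a.appTop r = hh := hr1
    have hr2' : b.appTop r = g₀ ^ (n + 1) := hr2
    refine ⟨S.basicOpen r, ?_, r, rfl, O, hO, ?_, ?_⟩
    · change y ∈ b ⁻¹ᵁ S.basicOpen r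
      rw [Scheme.preimage_basicOpen_top, hr2', Scheme.basicOpen_pow Y g₀ (Nat.succ_pos n)]
      exact hyg
    · rw [Scheme.preimage_basicOpen_top, hr1']
      exact hh2
    · rw [Scheme.preimage_basicOpen_top, hr2', Scheme.basicOpen_pow Y g₀ (Nat.succ_pos n)]
      exact hgO
  · obtain ⟨O, hO, hxO⟩ := exists_affine_nhd T (u x')
    obtain ⟨_, ⟨g', rfl⟩, hxg, hgO⟩ := TopologicalSpace.Opens.isBasis_iff_nbhd.mp
      (isBasis_basicOpen X') (show x' ∈ u ⁻¹ᵁ O from hxO)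
    have hpq : i.appTop.hom (g' * a.appTop k) = j.appTop.hom 0 := by
      have e : i.appTop.hom (a.appTop.hom k) = j.appTop.hom (b.appTop.hom k) := h.fib.comm k
      have hk' : b.appTop.hom k = 0 := hk
      rw [map_mul, map_zero]
      change _ * i.appTop.hom (a.appTop.hom k) = 0
      rw [e, hk', map_zero, mul_zero]
    obtain ⟨r, hr1, hr2⟩ := h.fib.ex _ _ hpq
    have hr1' : a.appTop r = g' * a.appTop k := hr1
    have hr2' : b.appTop r = 0 := hr2
    refine ⟨S.basicOpen r, ?_, r, rfl, O, hO, ?_, ?_⟩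
    · change x' ∈ a ⁻¹ᵁ S.basicOpen r
      rw [Scheme.preimage_basicOpen_top, hr1', Scheme.basicOpen_mul]
      refine ⟨hxg, ?_⟩
      rw [← Scheme.preimage_basicOpen_top]
      exact hxk
    · rw [Scheme.preimage_basicOpen_top, hr1', Scheme.basicOpen_mul]
      exact inf_le_left.trans hgO
    · rw [Scheme.preimage_basicOpen_top, hr2', Scheme.basicOpen_zero]
      exact bot_le

/-- The local morphisms on good opens. -/
theorem Sq.exists_local (h : Sq i j a b) (huv : i ≫ u = j ≫ v) {W : S.Opens}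
    (hW : Good a b u v W) :
    ∃ s : W.toScheme ⟶ T, (a ∣_ W) ≫ s = (a ⁻¹ᵁ W).ι ≫ u ∧ (b ∣_ W) ≫ s = (b ⁻¹ᵁ W).ι ≫ v := by
  obtain ⟨r, e, O, hO, hu, hv⟩ := hW
  have hfib := h.isFibProd_basicOpen r e
  have hWaff : IsAffineOpen W := e ▸ (isAffineOpen_top S).basicOpen r
  have hVa : IsAffineOpen (a ⁻¹ᵁ W) := by
    rw [e, Scheme.preimage_basicOpen_top]
    exact (isAffineOpen_top X').basicOpen _
  have hVb : IsAffineOpen (b ⁻¹ᵁ W) := by
    rw [e, Scheme.preimage_basicOpen_top]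
    exact (isAffineOpen_top Y).basicOpen _
  have hcompat : u.appLE O (a ⁻¹ᵁ W) hu ≫ i.app (a ⁻¹ᵁ W) =
      v.appLE O (b ⁻¹ᵁ W) hv ≫ j.appLE (b ⁻¹ᵁ W) (i ⁻¹ᵁ a ⁻¹ᵁ W) (h.le_preimage W) := by
    rw [Scheme.Hom.app_eq_appLE (f := i), Scheme.Hom.appLE_comp_appLE,
      Scheme.Hom.appLE_comp_appLE]
    exact appLE_congr_hom huv _ _
  obtain ⟨φ, hφ1, hφ2⟩ := hfib.exists_lift (u.appLE O (a ⁻¹ᵁ W) hu).hom
    (v.appLE O (b ⁻¹ᵁ W) hv).hom (fun c => ConcreteCategory.congr_hom hcompat c)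
  have hφ1' : CommRingCat.ofHom φ ≫ a.app W = u.appLE O (a ⁻¹ᵁ W) hu := by
    ext x
    exact congrArg (fun f => f x) hφ1
  have hφ2' : CommRingCat.ofHom φ ≫ b.app W = v.appLE O (b ⁻¹ᵁ W) hv := by
    ext x
    exact congrArg (fun f => f x) hφ2
  refine ⟨hWaff.isoSpec.hom ≫ Spec.map (CommRingCat.ofHom φ) ≫ hO.fromSpec, ?_, ?_⟩
  · rw [← Category.assoc, morphismRestrict_isoSpec a hWaff hVa, Category.assoc,
      ← Spec.map_comp_assoc, hφ1', IsAffineOpen.SpecMap_appLE_fromSpec u hO hVa hu,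
      IsAffineOpen.isoSpec_hom_fromSpec_assoc]
  · rw [← Category.assoc, morphismRestrict_isoSpec b hWaff hVb, Category.assoc,
      ← Spec.map_comp_assoc, hφ2', IsAffineOpen.SpecMap_appLE_fromSpec v hO hVb hv,
      IsAffineOpen.isoSpec_hom_fromSpec_assoc]

theorem morphismRestrict_homOfLE {X' S : Scheme.{u}} (a : X' ⟶ S) {W₁ W₂ : S.Opens}
    (hle : W₁ ≤ W₂) (hle' : a ⁻¹ᵁ W₁ ≤ a ⁻¹ᵁ W₂) :
    (a ∣_ W₁) ≫ S.homOfLE hle = X'.homOfLE hle' ≫ (a ∣_ W₂) := by
  rw [← cancel_mono W₂.ι]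
  simp

/-- Existence of the descended morphism. -/
theorem Sq.exists_desc (h : Sq i j a b) (huv : i ≫ u = j ≫ v) :
    ∃ w : S ⟶ T, a ≫ w = u ∧ b ≫ w = v := by
  have hsurj := h.jointly_surjective
  have hbasis : TopologicalSpace.Opens.IsBasis {W : S.Opens | Good a b u v W} := by
    rw [TopologicalSpace.Opens.isBasis_iff_nbhd]
    intro U x hx
    obtain ⟨W, hxW, hW⟩ := h.exists_good u v huv x
    obtain ⟨_, ⟨r', rfl⟩, hxr, hrU⟩ :=
      TopologicalSpace.Opens.isBasis_iff_nbhd.mp (isBasis_basicOpen S) hx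
    exact ⟨W ⊓ S.basicOpen r', hW.inf_basicOpen r', ⟨hxW, hxr⟩, inf_le_right.trans hrU⟩
  choose s hs1 hs2 using fun W : {W : S.Opens | Good a b u v W} => h.exists_local u v huv W.2
  obtain ⟨w, hw⟩ := UnivThick.exists_glue_of_isBasis _ hbasis s (by
    intro W₁ W₂ hle
    apply hom_ext_restrict a b hsurj h.inj W₁.1
    · rw [hs1 W₁, ← Category.assoc,
        morphismRestrict_homOfLE a hle (fun x hx => hle hx), Category.assoc, hs1 W₂,
        Scheme.homOfLE_ι_assoc]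
    · rw [hs2 W₁, ← Category.assoc,
        morphismRestrict_homOfLE b hle (fun x hx => hle hx), Category.assoc, hs2 W₂,
        Scheme.homOfLE_ι_assoc])
  refine ⟨w, ?_, ?_⟩
  · have hcov : TopologicalSpace.IsOpenCover
        (fun W : {W : S.Opens | Good a b u v W} => a ⁻¹ᵁ W.1) := by
      refine top_le_iff.mp fun x _ => ?_
      obtain ⟨W, hxW, hW⟩ := h.exists_good u v huv (a x)
      exact TopologicalSpace.Opens.mem_iSup.mpr ⟨⟨W, hW⟩, hxW⟩
    apply (X'.openCoverOfIsOpenCover _ hcov).hom_ext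
    intro W
    change (a ⁻¹ᵁ W.1).ι ≫ a ≫ w = (a ⁻¹ᵁ W.1).ι ≫ u
    rw [← morphismRestrict_ι_assoc, hw W, hs1 W]
  · have hcov : TopologicalSpace.IsOpenCover
        (fun W : {W : S.Opens | Good a b u v W} => b ⁻¹ᵁ W.1) := by
      refine top_le_iff.mp fun y _ => ?_
      obtain ⟨W, hyW, hW⟩ := h.exists_good u v huv (b y)
      exact TopologicalSpace.Opens.mem_iSup.mpr ⟨⟨W, hW⟩, hyW⟩
    apply (Y.openCoverOfIsOpenCover _ hcov).hom_ext
    intro W
    change (b ⁻¹ᵁ W.1).ι ≫ b ≫ w = (b ⁻¹ᵁ W.1).ι ≫ v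
    rw [← morphismRestrict_ι_assoc, hw W, hs2 W]

end desc

/-- **Ferrand pushouts, affine case**: an affine Ferrand square is a pushout square of schemes. -/
theorem Sq.isPushout (h : Sq i j a b) : IsPushout i j a b := by
  refine ⟨⟨h.comm⟩, ⟨PushoutCocone.IsColimit.mk _
    (fun s => (h.exists_desc s.inl s.inr s.condition).choose) ?_ ?_ ?_⟩⟩
  · intro s
    exact (h.exists_desc s.inl s.inr s.condition).choose_spec.1
  · intro s
    exact (h.exists_desc s.inl s.inr s.condition).choose_spec.2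
  · intro s m hm1 hm2
    apply hom_ext_of_jointly a b h.jointly_surjective h.inj
    · rw [hm1, (h.exists_desc s.inl s.inr s.condition).choose_spec.1]
    · rw [hm2, (h.exists_desc s.inl s.inr s.condition).choose_spec.2]

end Groth.Agent.Lib.Helper10.Ferrand
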