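import Mathlib
import Groth.Agent.Lib.Helper10.Ferrand3
import Groth.Prelude.Def_Magnet4

/-!
# Pushout squares stable under base change: from affine bases to arbitrary bases

A commutative square of schemes over `B₀` whose base change to every affine scheme over `B₀` is a
pushout square of schemes stays a pushout square after base change to any scheme over `B₀`.
-/

set_option autoImplicit false
set_option backward.isDefEq.respectTransparency.types false
set_option maxHeartbeats 4000000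
set_option synthInstance.maxHeartbeats 400000
universe u
open CategoryTheory CategoryTheory.Limits AlgebraicGeometry

namespace Groth.Agent.Lib.Helper10.FerrandBC

variable {B₀ : Scheme.{u}}

/-- base change of a morphism over `B₀` along `h : S ⟶ B₀`, on underlying schemes. -/
noncomputable abbrev bc {S : Scheme.{u}} (h : S ⟶ B₀) {Z Z' : Over B₀} (f : Z ⟶ Z') :
    pullback Z.hom h ⟶ pullback Z'.hom h :=
  ((Over.pullback h).map f).left

@[reassoc]
theorem bc_fst {S : Scheme.{u}} (h : S ⟶ B₀) {Z Z' : Over B₀} (f : Z ⟶ Z') :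
    bc h f ≫ pullback.fst Z'.hom h = pullback.fst Z.hom h ≫ f.left := pullback.lift_fst _ _ _

@[reassoc]
theorem bc_snd {S : Scheme.{u}} (h : S ⟶ B₀) {Z Z' : Over B₀} (f : Z ⟶ Z') :
    bc h f ≫ pullback.snd Z'.hom h = pullback.snd Z.hom h := pullback.lift_snd _ _ _

theorem bc_comp {S : Scheme.{u}} (h : S ⟶ B₀) {Z Z' Z'' : Over B₀} (f : Z ⟶ Z') (g : Z' ⟶ Z'') :
    bc h (f ≫ g) = bc h f ≫ bc h g := by
  rw [bc, Functor.map_comp]
  rfl

/-- transition maps between base changes. -/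
noncomputable def trans (Z : Over B₀) {S S' : Scheme.{u}} (h : S ⟶ B₀) (h' : S' ⟶ B₀) (t : S' ⟶ S)
    (ht : t ≫ h = h') : pullback Z.hom h' ⟶ pullback Z.hom h :=
  pullback.map Z.hom h' Z.hom h (𝟙 _) t (𝟙 _) (by simp) (by simp [ht])

@[reassoc]
theorem trans_fst (Z : Over B₀) {S S' : Scheme.{u}} (h : S ⟶ B₀) (h' : S' ⟶ B₀) (t : S' ⟶ S)
    (ht : t ≫ h = h') : trans Z h h' t ht ≫ pullback.fst Z.hom h = pullback.fst Z.hom h' := by
  rw [trans, pullback.lift_fst, Category.comp_id]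

@[reassoc]
theorem trans_snd (Z : Over B₀) {S S' : Scheme.{u}} (h : S ⟶ B₀) (h' : S' ⟶ B₀) (t : S' ⟶ S)
    (ht : t ≫ h = h') : trans Z h h' t ht ≫ pullback.snd Z.hom h = pullback.snd Z.hom h' ≫ t := by
  rw [trans, pullback.lift_snd]

@[reassoc]
theorem bc_trans {Z Z' : Over B₀} (f : Z ⟶ Z') {S S' : Scheme.{u}} (h : S ⟶ B₀) (h' : S' ⟶ B₀)
    (t : S' ⟶ S) (ht : t ≫ h = h') :
    bc h' f ≫ trans Z' h h' t ht = trans Z h h' t ht ≫ bc h f := by
  apply pullback.hom_ext
  · rw [Category.assoc, trans_fst, bc_fst, Category.assoc, bc_fst, trans_fst_assoc]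
  · rw [Category.assoc, trans_snd, bc_snd_assoc, Category.assoc, bc_snd, trans_snd]

@[reassoc]
theorem trans_trans (Z : Over B₀) {S S' S'' : Scheme.{u}} (h : S ⟶ B₀) (h' : S' ⟶ B₀)
    (h'' : S'' ⟶ B₀) (t : S' ⟶ S) (ht : t ≫ h = h') (t' : S'' ⟶ S') (ht' : t' ≫ h' = h'') :
    trans Z h' h'' t' ht' ≫ trans Z h h' t ht =
      trans Z h h'' (t' ≫ t) (by rw [Category.assoc, ht, ht']) := by
  apply pullback.hom_ext
  · rw [Category.assoc, trans_fst, trans_fst, trans_fst]
  · rw [Category.assoc, trans_snd, trans_snd_assoc, trans_snd]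

theorem trans_congr (Z : Over B₀) {S S' : Scheme.{u}} (h : S ⟶ B₀) (h' : S' ⟶ B₀) (t t' : S' ⟶ S)
    (ht : t ≫ h = h') (ht' : t' ≫ h = h') (e : t = t') : trans Z h h' t ht = trans Z h h' t' ht' := by
  subst e
  rfl

/-- `P_{S'} = P_S ×_S S'`. -/
theorem isPullback_trans (Z : Over B₀) {S S' : Scheme.{u}} (h : S ⟶ B₀) (h' : S' ⟶ B₀) (t : S' ⟶ S)
    (ht : t ≫ h = h') :
    IsPullback (trans Z h h' t ht) (pullback.snd Z.hom h') (pullback.snd Z.hom h) t := by
  refine IsPullback.of_right (h₁₂ := pullback.fst Z.hom h) (v₁₃ := Z.hom) (h₂₂ := h) ?_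
    (trans_snd Z h h' t ht) (IsPullback.of_hasPullback Z.hom h)
  rw [trans_fst, ht]
  exact IsPullback.of_hasPullback Z.hom h'

/-- the overlap of two members of the induced cover. -/
theorem isPullback_overlap (Z : Over B₀) {S U₁ U₂ : Scheme.{u}} (h : S ⟶ B₀) (f₁ : U₁ ⟶ S)
    (f₂ : U₂ ⟶ S) :
    IsPullback
      (trans Z (f₁ ≫ h) (pullback.fst f₁ f₂ ≫ f₁ ≫ h) (pullback.fst f₁ f₂) rfl)
      (trans Z (f₂ ≫ h) (pullback.fst f₁ f₂ ≫ f₁ ≫ h) (pullback.snd f₁ f₂)
        (by rw [← Category.assoc, ← pullback.condition, Category.assoc]))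
      (trans Z h (f₁ ≫ h) f₁ rfl) (trans Z h (f₂ ≫ h) f₂ rfl) := by
  have hcond : pullback.snd f₁ f₂ ≫ f₂ ≫ h = pullback.fst f₁ f₂ ≫ f₁ ≫ h := by
    rw [← Category.assoc, ← pullback.condition, Category.assoc]
  have h1 := (isPullback_trans Z h (f₁ ≫ h) f₁ rfl).flip
  have h2 := (isPullback_trans Z (f₂ ≫ h) (pullback.fst f₁ f₂ ≫ f₁ ≫ h) (pullback.snd f₁ f₂)
    hcond).flip
  have h3 := IsPullback.of_hasPullback f₁ f₂
  have h4 := h2.paste_horiz h3
  refine IsPullback.of_right (h₁₂ := pullback.snd Z.hom (f₁ ≫ h)) (v₁₃ := f₁)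
    (h₂₂ := pullback.snd Z.hom h) ?_ ?_ h1
  · rw [trans_snd, trans_snd]
    exact h4
  · rw [trans_trans, trans_trans]
    exact trans_congr Z h _ _ _ _ _ pullback.condition

section Main

variable {X₀ X₀' Y₀ P₀ : Over B₀} (i₀ : X₀ ⟶ X₀') (j₀ : X₀ ⟶ Y₀) (a₀ : X₀' ⟶ P₀) (b₀ : Y₀ ⟶ P₀)

/-- joint epimorphy of the base-changed legs over any base. -/
theorem jointly_epi
    (hQ : ∀ (U : Scheme.{u}) [IsAffine U] (h : U ⟶ B₀),
      IsPushout (bc h i₀) (bc h j₀) (bc h a₀) (bc h b₀))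
    {S : Scheme.{u}} (h : S ⟶ B₀) {T : Scheme.{u}} (w w' : pullback P₀.hom h ⟶ T)
    (ha : bc h a₀ ≫ w = bc h a₀ ≫ w') (hb : bc h b₀ ≫ w = bc h b₀ ≫ w') : w = w' := by
  apply (Scheme.Pullback.openCoverOfRight S.affineCover P₀.hom h).hom_ext
  intro m
  change trans P₀ h (S.affineCover.f m ≫ h) (S.affineCover.f m) rfl ≫ w =
    trans P₀ h (S.affineCover.f m ≫ h) (S.affineCover.f m) rfl ≫ w'
  apply (hQ (S.affineCover.X m) (S.affineCover.f m ≫ h)).hom_ext
  · rw [bc_trans_assoc, bc_trans_assoc, ha]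
  · rw [bc_trans_assoc, bc_trans_assoc, hb]

theorem exists_desc (comm₀ : i₀ ≫ a₀ = j₀ ≫ b₀)
    (hQ : ∀ (U : Scheme.{u}) [IsAffine U] (h : U ⟶ B₀),
      IsPushout (bc h i₀) (bc h j₀) (bc h a₀) (bc h b₀))
    {S : Scheme.{u}} (h : S ⟶ B₀) {T : Scheme.{u}} (u : pullback X₀'.hom h ⟶ T)
    (v : pullback Y₀.hom h ⟶ T) (huv : bc h i₀ ≫ u = bc h j₀ ≫ v) :
    ∃ w : pullback P₀.hom h ⟶ T, bc h a₀ ≫ w = u ∧ bc h b₀ ≫ w = v := by
  let 𝒰 := S.affineCover
  let PP := Scheme.Pullback.openCoverOfRight 𝒰 P₀.hom h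
  have hcompat : ∀ k, bc (𝒰.f k ≫ h) i₀ ≫ (trans X₀' h (𝒰.f k ≫ h) (𝒰.f k) rfl ≫ u) =
      bc (𝒰.f k ≫ h) j₀ ≫ (trans Y₀ h (𝒰.f k ≫ h) (𝒰.f k) rfl ≫ v) := by
    intro k
    rw [bc_trans_assoc, bc_trans_assoc, huv]
  let wk : ∀ k : 𝒰.I₀, pullback P₀.hom (𝒰.f k ≫ h) ⟶ T := fun k =>
    (hQ (𝒰.X k) (𝒰.f k ≫ h)).desc _ _ (hcompat k)
  have hwk1 : ∀ k, bc (𝒰.f k ≫ h) a₀ ≫ wk k = trans X₀' h (𝒰.f k ≫ h) (𝒰.f k) rfl ≫ u :=
    fun k => (hQ (𝒰.X k) (𝒰.f k ≫ h)).inl_desc _ _ _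
  have hwk2 : ∀ k, bc (𝒰.f k ≫ h) b₀ ≫ wk k = trans Y₀ h (𝒰.f k ≫ h) (𝒰.f k) rfl ≫ v :=
    fun k => (hQ (𝒰.X k) (𝒰.f k ≫ h)).inr_desc _ _ _
  have hglue : ∀ k l : 𝒰.I₀,
      pullback.fst (trans P₀ h (𝒰.f k ≫ h) (𝒰.f k) rfl) (trans P₀ h (𝒰.f l ≫ h) (𝒰.f l) rfl) ≫ wk k =
      pullback.snd (trans P₀ h (𝒰.f k ≫ h) (𝒰.f k) rfl) (trans P₀ h (𝒰.f l ≫ h) (𝒰.f l) rfl) ≫
        wk l := by
    intro k l
    have hov := isPullback_overlap P₀ h (𝒰.f k) (𝒰.f l)
    have hcond : pullback.snd (𝒰.f k) (𝒰.f l) ≫ 𝒰.f l ≫ h =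
        pullback.fst (𝒰.f k) (𝒰.f l) ≫ 𝒰.f k ≫ h := by
      rw [← Category.assoc, ← pullback.condition, Category.assoc]
    refine (cancel_epi hov.isoPullback.hom).1 ?_
    have e1 := hov.isoPullback_hom_fst
    have e2 := hov.isoPullback_hom_snd
    rw [reassoc_of% e1, reassoc_of% e2]
    apply jointly_epi i₀ j₀ a₀ b₀ hQ
    · rw [bc_trans_assoc, bc_trans_assoc, hwk1, hwk1, trans_trans_assoc, trans_trans_assoc]
      congr 1
      exact trans_congr X₀' h _ _ _ _ _ pullback.condition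
    · rw [bc_trans_assoc, bc_trans_assoc, hwk2, hwk2, trans_trans_assoc, trans_trans_assoc]
      congr 1
      exact trans_congr Y₀ h _ _ _ _ _ pullback.condition
  let w := PP.glueMorphisms wk hglue
  have hw : ∀ k, trans P₀ h (𝒰.f k ≫ h) (𝒰.f k) rfl ≫ w = wk k := fun k => PP.ι_glueMorphisms wk hglue k
  refine ⟨w, ?_, ?_⟩
  · apply (Scheme.Pullback.openCoverOfRight 𝒰 X₀'.hom h).hom_ext
    intro k
    change trans X₀' h (𝒰.f k ≫ h) (𝒰.f k) rfl ≫ _ = trans X₀' h (𝒰.f k ≫ h) (𝒰.f k) rfl ≫ _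
    rw [← bc_trans_assoc, hw, hwk1]
  · apply (Scheme.Pullback.openCoverOfRight 𝒰 Y₀.hom h).hom_ext
    intro k
    change trans Y₀ h (𝒰.f k ≫ h) (𝒰.f k) rfl ≫ _ = trans Y₀ h (𝒰.f k ≫ h) (𝒰.f k) rfl ≫ _
    rw [← bc_trans_assoc, hw, hwk2]

/-- **Pushouts stable under affine base change are stable under all base changes.** -/
theorem isPushout_bc (comm₀ : i₀ ≫ a₀ = j₀ ≫ b₀)
    (hQ : ∀ (U : Scheme.{u}) [IsAffine U] (h : U ⟶ B₀),
      IsPushout (bc h i₀) (bc h j₀) (bc h a₀) (bc h b₀))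
    {S : Scheme.{u}} (h : S ⟶ B₀) :
    IsPushout (bc h i₀) (bc h j₀) (bc h a₀) (bc h b₀) := by
  have hcomm : bc h i₀ ≫ bc h a₀ = bc h j₀ ≫ bc h b₀ := by
    rw [← bc_comp, ← bc_comp, comm₀]
  refine ⟨⟨hcomm⟩, ⟨PushoutCocone.IsColimit.mk _
    (fun s => (exists_desc i₀ j₀ a₀ b₀ comm₀ hQ h s.inl s.inr s.condition).choose) ?_ ?_ ?_⟩⟩
  · intro s
    exact (exists_desc i₀ j₀ a₀ b₀ comm₀ hQ h s.inl s.inr s.condition).choose_spec.1
  · intro s
    exact (exists_desc i₀ j₀ a₀ b₀ comm₀ hQ h s.inl s.inr s.condition).choose_spec.2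
  · intro s m hm1 hm2
    apply jointly_epi i₀ j₀ a₀ b₀ hQ h
    · rw [hm1, (exists_desc i₀ j₀ a₀ b₀ comm₀ hQ h s.inl s.inr s.condition).choose_spec.1]
    · rw [hm2, (exists_desc i₀ j₀ a₀ b₀ comm₀ hQ h s.inl s.inr s.condition).choose_spec.2]

theorem isIso_trans (Z : Over B₀) {S S' : Scheme.{u}} (h : S ⟶ B₀) (h' : S' ⟶ B₀) (t : S' ⟶ S)
    (ht : t ≫ h = h') [IsIso t] : IsIso (trans Z h h' t ht) :=
  (isPullback_trans Z h h' t ht).isIso_fst_of_isIso

/-- From `Spec` of rings to all affine schemes. -/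
theorem isPushout_bc_of_Spec
    (hQ : ∀ (R : CommRingCat.{u}) (h : Spec R ⟶ B₀),
      IsPushout (bc h i₀) (bc h j₀) (bc h a₀) (bc h b₀))
    (U : Scheme.{u}) [IsAffine U] (h : U ⟶ B₀) :
    IsPushout (bc h i₀) (bc h j₀) (bc h a₀) (bc h b₀) := by
  have hpo := hQ Γ(U, ⊤) (U.isoSpec.inv ≫ h)
  have := isIso_trans X₀ h (U.isoSpec.inv ≫ h) U.isoSpec.inv rfl
  have := isIso_trans X₀' h (U.isoSpec.inv ≫ h) U.isoSpec.inv rfl
  have := isIso_trans Y₀ h (U.isoSpec.inv ≫ h) U.isoSpec.inv rfl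
  have := isIso_trans P₀ h (U.isoSpec.inv ≫ h) U.isoSpec.inv rfl
  exact hpo.of_iso (asIso (trans X₀ h (U.isoSpec.inv ≫ h) U.isoSpec.inv rfl))
    (asIso (trans X₀' h (U.isoSpec.inv ≫ h) U.isoSpec.inv rfl))
    (asIso (trans Y₀ h (U.isoSpec.inv ≫ h) U.isoSpec.inv rfl))
    (asIso (trans P₀ h (U.isoSpec.inv ≫ h) U.isoSpec.inv rfl))
    (bc_trans i₀ _ _ _ rfl) (bc_trans j₀ _ _ _ rfl) (bc_trans a₀ _ _ _ rfl) (bc_trans b₀ _ _ _ rfl)

/-- **Pushouts stable under base change to `Spec` of rings are stable under all base changes.** -/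
theorem isPushout_bc' (comm₀ : i₀ ≫ a₀ = j₀ ≫ b₀)
    (hQ : ∀ (R : CommRingCat.{u}) (h : Spec R ⟶ B₀),
      IsPushout (bc h i₀) (bc h j₀) (bc h a₀) (bc h b₀))
    {S : Scheme.{u}} (h : S ⟶ B₀) :
    IsPushout (bc h i₀) (bc h j₀) (bc h a₀) (bc h b₀) :=
  isPushout_bc i₀ j₀ a₀ b₀ comm₀ (fun U _ h => isPushout_bc_of_Spec i₀ j₀ a₀ b₀ hQ U h) h

end Main

section Ring

open Ferrand TensorProduct

/-- A commutative square of rings which is split (as abelian groups) in the appropriate sense is a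
fibre product square. -/
theorem isFibProd_of_split {P A' B A : Type*} [CommRing P] [CommRing A'] [CommRing B] [CommRing A]
    (α : P →+* A') (β : P →+* B) (p : A' →+* A) (q : B →+* A)
    (s₁ : A' → P) (h₁ : A → A') (g₂ : A → B)
    (hcomm : ∀ x, p (α x) = q (β x))
    (ha : ∀ x, s₁ (α x) = x) (hb : ∀ a', α (s₁ a') + h₁ (p a') = a') (hc : ∀ b, h₁ (q b) = 0)
    (hd : ∀ a', β (s₁ a') = g₂ (p a')) (he : ∀ b, g₂ (q b) = b) :
    IsFibProd α β p q := by
  refine ⟨hcomm, ?_, ?_⟩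
  · intro x y h _
    rw [← ha x, ← ha y, h]
  · intro a' b hab
    refine ⟨s₁ a', ?_, ?_⟩
    · have := hb a'
      rw [hab, hc, add_zero] at this
      exact this
    · rw [hd, hab, he]

theorem map_id_eq_rTensor {k X Y R : Type*} [CommRing k] [CommRing X] [CommRing Y] [CommRing R]
    [Algebra k X] [Algebra k Y] [Algebra k R] (f : X →ₐ[k] Y) (x : X ⊗[k] R) :
    Algebra.TensorProduct.map f (AlgHom.id k R) x = LinearMap.rTensor R f.toLinearMap x := by
  induction x using TensorProduct.induction_on with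
  | zero => simp
  | tmul a b => simp
  | add a b ha hb => simp only [map_add, ha, hb]

/-- A split fibre product square of `k`-algebras stays a fibre product after any base change. -/
theorem isFibProd_tensor {k P A' B A : Type*} [CommRing k] [CommRing P] [CommRing A'] [CommRing B]
    [CommRing A] [Algebra k P] [Algebra k A'] [Algebra k B] [Algebra k A]
    (α : P →ₐ[k] A') (β : P →ₐ[k] B) (p : A' →ₐ[k] A) (q : B →ₐ[k] A)
    (s₁ : A' →ₗ[k] P) (h₁ : A →ₗ[k] A') (g₂ : A →ₗ[k] B)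
    (hcomm : p.toLinearMap ∘ₗ α.toLinearMap = q.toLinearMap ∘ₗ β.toLinearMap)
    (ha : s₁ ∘ₗ α.toLinearMap = LinearMap.id)
    (hb : α.toLinearMap ∘ₗ s₁ + h₁ ∘ₗ p.toLinearMap = LinearMap.id)
    (hc : h₁ ∘ₗ q.toLinearMap = 0)
    (hd : β.toLinearMap ∘ₗ s₁ = g₂ ∘ₗ p.toLinearMap)
    (he : g₂ ∘ₗ q.toLinearMap = LinearMap.id)
    (R : Type*) [CommRing R] [Algebra k R] :
    IsFibProd (Algebra.TensorProduct.map α (AlgHom.id k R)).toRingHom
      (Algebra.TensorProduct.map β (AlgHom.id k R)).toRingHom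
      (Algebra.TensorProduct.map p (AlgHom.id k R)).toRingHom
      (Algebra.TensorProduct.map q (AlgHom.id k R)).toRingHom := by
  refine isFibProd_of_split _ _ _ _ (LinearMap.rTensor R s₁) (LinearMap.rTensor R h₁)
    (LinearMap.rTensor R g₂) ?_ ?_ ?_ ?_ ?_ ?_
  · intro x
    change Algebra.TensorProduct.map p (AlgHom.id k R) (Algebra.TensorProduct.map α (AlgHom.id k R) x) =
      Algebra.TensorProduct.map q (AlgHom.id k R) (Algebra.TensorProduct.map β (AlgHom.id k R) x)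
    rw [map_id_eq_rTensor, map_id_eq_rTensor, map_id_eq_rTensor, map_id_eq_rTensor,
      ← LinearMap.comp_apply, ← LinearMap.comp_apply, ← LinearMap.rTensor_comp,
      ← LinearMap.rTensor_comp, hcomm]
  · intro x
    change LinearMap.rTensor R s₁ (Algebra.TensorProduct.map α (AlgHom.id k R) x) = x
    rw [map_id_eq_rTensor, ← LinearMap.comp_apply, ← LinearMap.rTensor_comp, ha,
      LinearMap.rTensor_id, LinearMap.id_apply]
  · intro a'
    change Algebra.TensorProduct.map α (AlgHom.id k R) (LinearMap.rTensor R s₁ a') +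
      LinearMap.rTensor R h₁ (Algebra.TensorProduct.map p (AlgHom.id k R) a') = a'
    rw [map_id_eq_rTensor, map_id_eq_rTensor, ← LinearMap.comp_apply, ← LinearMap.comp_apply,
      ← LinearMap.rTensor_comp, ← LinearMap.rTensor_comp, ← LinearMap.add_apply,
      ← LinearMap.rTensor_add, hb, LinearMap.rTensor_id, LinearMap.id_apply]
  · intro b
    change LinearMap.rTensor R h₁ (Algebra.TensorProduct.map q (AlgHom.id k R) b) = 0
    rw [map_id_eq_rTensor, ← LinearMap.comp_apply, ← LinearMap.rTensor_comp, hc,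
      LinearMap.rTensor_zero, LinearMap.zero_apply]
  · intro a'
    change Algebra.TensorProduct.map β (AlgHom.id k R) (LinearMap.rTensor R s₁ a') =
      LinearMap.rTensor R g₂ (Algebra.TensorProduct.map p (AlgHom.id k R) a')
    rw [map_id_eq_rTensor, map_id_eq_rTensor, ← LinearMap.comp_apply, ← LinearMap.comp_apply,
      ← LinearMap.rTensor_comp, ← LinearMap.rTensor_comp, hd]
  · intro b
    change LinearMap.rTensor R g₂ (Algebra.TensorProduct.map q (AlgHom.id k R) b) = b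
    rw [map_id_eq_rTensor, ← LinearMap.comp_apply, ← LinearMap.rTensor_comp, he,
      LinearMap.rTensor_id, LinearMap.id_apply]

/-- `Spec` of a fibre product square of rings with one leg surjective is a pushout square of
schemes. -/
theorem isPushout_SpecMap_of_isFibProd {P A' B A : Type u} [CommRing P] [CommRing A'] [CommRing B]
    [CommRing A] (α : P →+* A') (β : P →+* B) (p : A' →+* A) (q : B →+* A)
    (hfib : IsFibProd α β p q) (hp : Function.Surjective p) :
    IsPushout (Spec.map (CommRingCat.ofHom p)) (Spec.map (CommRingCat.ofHom q))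
      (Spec.map (CommRingCat.ofHom α)) (Spec.map (CommRingCat.ofHom β)) := by
  have hnat : ∀ {R₁ R₂ : Type u} [CommRing R₁] [CommRing R₂] (f : R₁ →+* R₂) (x : R₁),
      (Spec.map (CommRingCat.ofHom f)).appTop.hom
        ((Scheme.ΓSpecIso (CommRingCat.of R₁)).symm.commRingCatIsoToRingEquiv x) =
      (Scheme.ΓSpecIso (CommRingCat.of R₂)).symm.commRingCatIsoToRingEquiv (f x) := by
    intro R₁ R₂ _ _ f x
    exact (ConcreteCategory.congr_hom (Scheme.ΓSpecIso_inv_naturality (CommRingCat.ofHom f)) x).symm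
  apply Ferrand.Sq.isPushout
  refine ⟨?_, ?_, ?_⟩
  · rw [← Spec.map_comp, ← Spec.map_comp]
    congr 1
    ext x
    exact hfib.comm x
  · exact hfib.of_equiv
      (Scheme.ΓSpecIso (CommRingCat.of P)).symm.commRingCatIsoToRingEquiv
      (Scheme.ΓSpecIso (CommRingCat.of A')).symm.commRingCatIsoToRingEquiv
      (Scheme.ΓSpecIso (CommRingCat.of B)).symm.commRingCatIsoToRingEquiv
      (Scheme.ΓSpecIso (CommRingCat.of A)).symm.commRingCatIsoToRingEquiv
      (fun x => hnat α x) (fun x => hnat β x) (fun x => hnat p x) (fun x => hnat q x)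
  · intro y
    obtain ⟨y, rfl⟩ :=
      (Scheme.ΓSpecIso (CommRingCat.of A)).symm.commRingCatIsoToRingEquiv.surjective y
    obtain ⟨x, rfl⟩ := hp y
    exact ⟨(Scheme.ΓSpecIso (CommRingCat.of A')).symm.commRingCatIsoToRingEquiv x,
      hnat p x⟩

end Ring

section Affine

open Ferrand TensorProduct CoactBr

variable {R₀ : Type u} [CommRing R₀]

set_option backward.isDefEq.respectTransparency false in
/-- naturality of `pullbackSpecIso` in the first variable. -/
theorem pullbackSpecIso_inv_bc {X X' R : Type u} [CommRing X] [CommRing X'] [CommRing R]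
    [Algebra R₀ X] [Algebra R₀ X'] [Algebra R₀ R] (f : X →ₐ[R₀] X') :
    (pullbackSpecIso R₀ X' R).inv ≫
        bc (B₀ := Spec (CommRingCat.of R₀)) (Spec.map (CommRingCat.ofHom (algebraMap R₀ R))) (pt f) =
      Spec.map (CommRingCat.ofHom (Algebra.TensorProduct.map f (AlgHom.id R₀ R)).toRingHom) ≫
        (pullbackSpecIso R₀ X R).inv := by
  apply pullback.hom_ext
  · rw [Category.assoc, bc_fst, Category.assoc]
    erw [pullbackSpecIso_inv_fst_assoc, pullbackSpecIso_inv_fst]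
    rw [pt_left, ← Spec.map_comp, ← Spec.map_comp]
    congr 1
  · rw [Category.assoc, bc_snd, Category.assoc]
    erw [pullbackSpecIso_inv_snd, pullbackSpecIso_inv_snd]
    rw [← Spec.map_comp]
    congr 1
    ext x
    simp

/-- **Affine step**: a universally-fibre-product square of `R₀`-algebras with one leg surjective
gives a pushout square of schemes after base change to any affine scheme. -/
theorem isPushout_bc_sp {P A' B A : Type u} [CommRing P] [CommRing A'] [CommRing B] [CommRing A]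
    [Algebra R₀ P] [Algebra R₀ A'] [Algebra R₀ B] [Algebra R₀ A]
    (α : P →ₐ[R₀] A') (β : P →ₐ[R₀] B) (p : A' →ₐ[R₀] A) (q : B →ₐ[R₀] A)
    (hfib : ∀ (R : Type u) [CommRing R] [Algebra R₀ R],
      IsFibProd (Algebra.TensorProduct.map α (AlgHom.id R₀ R)).toRingHom
        (Algebra.TensorProduct.map β (AlgHom.id R₀ R)).toRingHom
        (Algebra.TensorProduct.map p (AlgHom.id R₀ R)).toRingHom
        (Algebra.TensorProduct.map q (AlgHom.id R₀ R)).toRingHom)
    (hp : Function.Surjective p) (R : CommRingCat.{u}) (t : Spec R ⟶ Spec (CommRingCat.of R₀)) :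
    IsPushout (bc t (pt p)) (bc t (pt q)) (bc t (pt α)) (bc t (pt β)) := by
  obtain ⟨ψ, rfl⟩ : ∃ ψ, Spec.map ψ = t := ⟨Spec.preimage t, Spec.map_preimage t⟩
  let _ : Algebra R₀ R := ψ.hom.toAlgebra
  change IsPushout (bc (Spec.map (CommRingCat.ofHom (algebraMap R₀ R))) (pt p))
    (bc (Spec.map (CommRingCat.ofHom (algebraMap R₀ R))) (pt q))
    (bc (Spec.map (CommRingCat.ofHom (algebraMap R₀ R))) (pt α))
    (bc (Spec.map (CommRingCat.ofHom (algebraMap R₀ R))) (pt β))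
  have hsurj : Function.Surjective (Algebra.TensorProduct.map p (AlgHom.id R₀ R)).toRingHom :=
    Algebra.TensorProduct.map_surjective _ _ hp Function.surjective_id
  have hpo := isPushout_SpecMap_of_isFibProd _ _ _ _ (hfib R) hsurj
  exact hpo.of_iso (pullbackSpecIso R₀ A R).symm (pullbackSpecIso R₀ A' R).symm
    (pullbackSpecIso R₀ B R).symm (pullbackSpecIso R₀ P R).symm
    (pullbackSpecIso_inv_bc p).symm (pullbackSpecIso_inv_bc q).symm
    (pullbackSpecIso_inv_bc α).symm (pullbackSpecIso_inv_bc β).symm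

end Affine

section MonoidAlg

open Ferrand TensorProduct CoactBr Magnet

variable (k : Type u) [CommRing k] {M : Type} [AddCommMonoid M]

open Classical in
/-- restriction of supports between the monoid algebras of two submonoids (keeping the monomials
whose exponent lies in `Y` and satisfies `Q`). -/
noncomputable def resP (X Y : AddSubmonoid M) (Q : M → Prop) :
    MonoidAlgebra k (Multiplicative ↥X) →ₗ[k] MonoidAlgebra k (Multiplicative ↥Y) :=
  (MonoidAlgebra.basis (Multiplicative ↥X) k).constr k (fun x =>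
    if h : ((Multiplicative.toAdd x : ↥X) : M) ∈ Y ∧ Q ((Multiplicative.toAdd x : ↥X) : M) then
      MonoidAlgebra.single (Multiplicative.ofAdd (⟨_, h.1⟩ : ↥Y)) 1 else 0)

theorem resP_single_of (X Y : AddSubmonoid M) (Q : M → Prop) (x : ↥X) (h : (x : M) ∈ Y ∧ Q x) :
    resP k X Y Q (MonoidAlgebra.single (Multiplicative.ofAdd x) 1) =
      MonoidAlgebra.single (Multiplicative.ofAdd (⟨x, h.1⟩ : ↥Y)) 1 := by
  rw [← MonoidAlgebra.basis_apply, resP, Module.Basis.constr_basis]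
  exact dif_pos h

theorem resP_single_of_not (X Y : AddSubmonoid M) (Q : M → Prop) (x : ↥X)
    (h : ¬ ((x : M) ∈ Y ∧ Q x)) :
    resP k X Y Q (MonoidAlgebra.single (Multiplicative.ofAdd x) 1) = 0 := by
  rw [← MonoidAlgebra.basis_apply, resP, Module.Basis.constr_basis]
  exact dif_neg h

/-- the inclusion of monoid algebras for `X ≤ Y`. -/
noncomputable abbrev inclAlg {X Y : AddSubmonoid M} (h : X ≤ Y) :
    MonoidAlgebra k (Multiplicative ↥X) →ₐ[k] MonoidAlgebra k (Multiplicative ↥Y) :=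
  (MonoidAlgebra.mapDomainBialgHom k
    (AddMonoidHom.toMultiplicative (AddSubmonoid.inclusion h))).toAlgHom

theorem inclAlg_single {X Y : AddSubmonoid M} (h : X ≤ Y) (x : ↥X) :
    inclAlg k h (MonoidAlgebra.single (Multiplicative.ofAdd x) 1) =
      MonoidAlgebra.single (Multiplicative.ofAdd (⟨x, h x.2⟩ : ↥Y)) 1 := by
  rw [inclAlg, BialgHom.coe_toAlgHom, MonoidAlgebra.mapDomainBialgHom_single]
  rfl

theorem lhom_ext_single {X : AddSubmonoid M} {V : Type*} [AddCommGroup V] [Module k V]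
    {f g : MonoidAlgebra k (Multiplicative ↥X) →ₗ[k] V}
    (h : ∀ x : ↥X, f (MonoidAlgebra.single (Multiplicative.ofAdd x) 1) =
      g (MonoidAlgebra.single (Multiplicative.ofAdd x) 1)) : f = g :=
  (MonoidAlgebra.basis (Multiplicative ↥X) k).ext (fun x => h (Multiplicative.toAdd x))

variable {N N' L L' : AddSubmonoid M} (hNL : N ≤ L) (hN'L' : N' ≤ L') (hL : Magnet.IsFace L' L)
  (hN : Magnet.IsFace N' N) (hdiff : (N' : Set M) = (L' : Set M) \ ((L : Set M) \ (N : Set M)))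

include hNL hdiff in
theorem mem_N_iff_of_mem_N' {x : M} (hx : x ∈ N') : x ∈ L ↔ x ∈ N := by
  constructor
  · intro hxL
    by_contra hxN
    have : x ∈ (N' : Set M) := hx
    rw [hdiff] at this
    exact this.2 ⟨hxL, hxN⟩
  · exact fun h => hNL h

include hdiff in
theorem mem_N'_iff {x : M} (hx : x ∈ L') : x ∈ N' ↔ ¬ (x ∈ L ∧ x ∉ N) := by
  change x ∈ (N' : Set M) ↔ _
  rw [hdiff]
  exact ⟨fun h => h.2, fun h => ⟨hx, h⟩⟩

include hNL hdiff in
theorem face_hcomm :
    (faceAlgHom k hL).toLinearMap ∘ₗ (inclAlg k hN'L').toLinearMap =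
      (inclAlg k hNL).toLinearMap ∘ₗ (faceAlgHom k hN).toLinearMap := by
  apply lhom_ext_single
  intro x
  simp only [LinearMap.comp_apply, AlgHom.toLinearMap_apply]
  rw [inclAlg_single]
  by_cases hx : (x : M) ∈ N
  · have hxL : (x : M) ∈ L := hNL hx
    rw [faceAlgHom_single_of_mem k hN x hx, inclAlg_single,
      faceAlgHom_single_of_mem k hL ⟨x, hN'L' x.2⟩ hxL]
  · have hxL : (x : M) ∉ L := fun h => hx ((mem_N_iff_of_mem_N' hNL hdiff x.2).1 h)
    rw [faceAlgHom_single_of_not_mem k hN x hx, map_zero,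
      faceAlgHom_single_of_not_mem k hL ⟨x, hN'L' x.2⟩ hxL]

theorem face_ha :
    resP k L' N' (fun _ => True) ∘ₗ (inclAlg k hN'L').toLinearMap = LinearMap.id := by
  apply lhom_ext_single
  intro x
  simp only [LinearMap.comp_apply, AlgHom.toLinearMap_apply, LinearMap.id_apply]
  rw [inclAlg_single, resP_single_of k L' N' _ ⟨x, hN'L' x.2⟩ ⟨x.2, trivial⟩]

include hNL hdiff in
theorem face_hb :
    (inclAlg k hN'L').toLinearMap ∘ₗ resP k L' N' (fun _ => True) +
      resP k L L' (fun x => x ∉ N) ∘ₗ (faceAlgHom k hL).toLinearMap = LinearMap.id := by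
  apply lhom_ext_single
  intro x
  simp only [LinearMap.add_apply, LinearMap.comp_apply, AlgHom.toLinearMap_apply,
    LinearMap.id_apply]
  by_cases hx : (x : M) ∈ N'
  · rw [resP_single_of k L' N' _ x ⟨hx, trivial⟩, inclAlg_single]
    by_cases hxL : (x : M) ∈ L
    · have hxN : (x : M) ∈ N := (mem_N_iff_of_mem_N' hNL hdiff hx).1 hxL
      rw [faceAlgHom_single_of_mem k hL x hxL,
        resP_single_of_not k L L' (fun x => x ∉ N) ⟨x, hxL⟩ (fun h => h.2 hxN), add_zero]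
    · rw [faceAlgHom_single_of_not_mem k hL x hxL, map_zero, add_zero]
  · have h2 : (x : M) ∈ L ∧ (x : M) ∉ N := by
      by_contra hcon
      exact hx ((mem_N'_iff hdiff x.2).2 hcon)
    rw [resP_single_of_not k L' N' _ x (fun h => hx h.1), map_zero, zero_add,
      faceAlgHom_single_of_mem k hL x h2.1,
      resP_single_of k L L' _ ⟨x, h2.1⟩ ⟨x.2, h2.2⟩]

theorem face_hc :
    resP k L L' (fun x => x ∉ N) ∘ₗ (inclAlg k hNL).toLinearMap = 0 := by
  apply lhom_ext_single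
  intro x
  simp only [LinearMap.comp_apply, AlgHom.toLinearMap_apply, LinearMap.zero_apply]
  rw [inclAlg_single, resP_single_of_not k L L' (fun x => x ∉ N) ⟨x, hNL x.2⟩ (fun h => h.2 x.2)]

include hNL in
theorem face_hd :
    (faceAlgHom k hN).toLinearMap ∘ₗ resP k L' N' (fun _ => True) =
      resP k L N (fun _ => True) ∘ₗ (faceAlgHom k hL).toLinearMap := by
  apply lhom_ext_single
  intro x
  simp only [LinearMap.comp_apply, AlgHom.toLinearMap_apply]
  by_cases hx : (x : M) ∈ N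
  · have hxL : (x : M) ∈ L := hNL hx
    have hxN' : (x : M) ∈ N' := hN.le hx
    rw [resP_single_of k L' N' _ x ⟨hxN', trivial⟩, faceAlgHom_single_of_mem k hN ⟨x, hxN'⟩ hx,
      faceAlgHom_single_of_mem k hL x hxL, resP_single_of k L N _ ⟨x, hxL⟩ ⟨hx, trivial⟩]
  · have e1 : (faceAlgHom k hN) (resP k L' N' (fun _ => True)
        (MonoidAlgebra.single (Multiplicative.ofAdd x) 1)) = 0 := by
      by_cases hxN' : (x : M) ∈ N'
      · rw [resP_single_of k L' N' _ x ⟨hxN', trivial⟩,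
          faceAlgHom_single_of_not_mem k hN ⟨x, hxN'⟩ hx]
      · rw [resP_single_of_not k L' N' _ x (fun h => hxN' h.1), map_zero]
    have e2 : resP k L N (fun _ => True) ((faceAlgHom k hL)
        (MonoidAlgebra.single (Multiplicative.ofAdd x) 1)) = 0 := by
      by_cases hxL : (x : M) ∈ L
      · rw [faceAlgHom_single_of_mem k hL x hxL,
          resP_single_of_not k L N _ ⟨x, hxL⟩ (fun h => hx h.1)]
      · rw [faceAlgHom_single_of_not_mem k hL x hxL, map_zero]
    rw [e1, e2]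

theorem face_he :
    resP k L N (fun _ => True) ∘ₗ (inclAlg k hNL).toLinearMap = LinearMap.id := by
  apply lhom_ext_single
  intro x
  simp only [LinearMap.comp_apply, AlgHom.toLinearMap_apply, LinearMap.id_apply]
  rw [inclAlg_single, resP_single_of k L N _ ⟨x, hNL x.2⟩ ⟨x.2, trivial⟩]

theorem faceAlgHom_surjective {N F : AddSubmonoid M} (hF : Magnet.IsFace N F) :
    Function.Surjective (faceAlgHom k hF) := by
  intro y
  refine ⟨inclAlg k hF.le y, ?_⟩
  have := congrArg (fun f : _ →ₐ[k] _ => f y) (faceAlgHom_comp_mapDomain k hF)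
  exact this

include hNL hdiff in
/-- the square of monoid algebras is universally a fibre product. -/
theorem face_isFibProd (R : Type u) [CommRing R] [Algebra k R] :
    IsFibProd (Algebra.TensorProduct.map (inclAlg k hN'L') (AlgHom.id k R)).toRingHom
      (Algebra.TensorProduct.map (faceAlgHom k hN) (AlgHom.id k R)).toRingHom
      (Algebra.TensorProduct.map (faceAlgHom k hL) (AlgHom.id k R)).toRingHom
      (Algebra.TensorProduct.map (inclAlg k hNL) (AlgHom.id k R)).toRingHom :=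
  isFibProd_tensor _ _ _ _ (resP k L' N' (fun _ => True)) (resP k L L' (fun x => x ∉ N))
    (resP k L N (fun _ => True)) (face_hcomm k hNL hN'L' hL hN hdiff) (face_ha k hN'L')
    (face_hb k hNL hN'L' hL hdiff) (face_hc k hNL) (face_hd k hNL hL hN) (face_he k hNL) R

include hNL hdiff in
theorem AMon_comm :
    AMon.faceMap k hL ≫ AMon.map k (AddSubmonoid.inclusion hN'L') =
      AMon.map k (AddSubmonoid.inclusion hNL) ≫ AMon.faceMap k hN := by
  rw [AMon.faceMap, AMon.faceMap, AMon.map_eq_pt, AMon.map_eq_pt, ← CoactBr.pt_comp,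
    ← CoactBr.pt_comp]
  congr 1
  apply AlgHom.toLinearMap_injective
  exact face_hcomm k hNL hN'L' hL hN hdiff

end MonoidAlg

open Magnet in
/-- **The pushout square of diagonalizable monoid schemes attached to `N' = L' ∖ (L ∖ N)`.** -/
theorem isPushout_AMonS (S : Scheme.{u}) (M : Type) [AddCommMonoid M]
    (N N' L L' : AddSubmonoid M) (hNL : N ≤ L) (hN'L' : N' ≤ L') (hL : Magnet.IsFace L' L)
    (hN : Magnet.IsFace N' N) (hdiff : (N' : Set M) = (L' : Set M) \ ((L : Set M) \ (N : Set M))) :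
    IsPushout (Magnet.AMonS.faceMap S hL) (Magnet.AMonS.map S (AddSubmonoid.inclusion hNL))
      (Magnet.AMonS.map S (AddSubmonoid.inclusion hN'L')) (Magnet.AMonS.faceMap S hN) := by
  have comm₀ := AMon_comm (ULift.{u} ℤ) hNL hN'L' hL hN hdiff
  have comm : Magnet.AMonS.faceMap S hL ≫ Magnet.AMonS.map S (AddSubmonoid.inclusion hN'L') =
      Magnet.AMonS.map S (AddSubmonoid.inclusion hNL) ≫ Magnet.AMonS.faceMap S hN := by
    simp only [AMonS.faceMap, AMonS.map, ← Functor.map_comp, comm₀]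
  apply IsPushout.of_map (Over.forget S) comm
  exact isPushout_bc' (AMon.faceMap (ULift.{u} ℤ) hL)
    (AMon.map (ULift.{u} ℤ) (AddSubmonoid.inclusion hNL))
    (AMon.map (ULift.{u} ℤ) (AddSubmonoid.inclusion hN'L')) (AMon.faceMap (ULift.{u} ℤ) hN) comm₀
    (fun R t => isPushout_bc_sp (inclAlg (ULift.{u} ℤ) hN'L') (faceAlgHom (ULift.{u} ℤ) hN)
      (faceAlgHom (ULift.{u} ℤ) hL) (inclAlg (ULift.{u} ℤ) hNL)
      (fun R' _ _ => face_isFibProd (ULift.{u} ℤ) hNL hN'L' hL hN hdiff R')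
      (faceAlgHom_surjective (ULift.{u} ℤ) hL) R t)
    (Limits.IsTerminal.from specULiftZIsTerminal S)

end Groth.Agent.Lib.Helper10.FerrandBC
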