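import Mathlib
import Groth.Agent.Lib.Helper10.FerrandBC

/-!
# The cartesian square of attractors attached to `N' = L' ∖ (L ∖ N)`
-/

set_option autoImplicit false
set_option backward.isDefEq.respectTransparency.types false
set_option maxHeartbeats 4000000
set_option synthInstance.maxHeartbeats 400000
universe u v₁ u₁
open CategoryTheory CategoryTheory.Limits AlgebraicGeometry

namespace Groth.Agent.Lib.Helper10.AttrSq

section General

open MonoidalCategory CartesianMonoidalCategory MonObj Magnet Magnet.MonAct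

variable {C : Type u₁} [Category.{v₁} C] [CartesianMonoidalCategory C]

/-- the swap `A ⊗ (G ⊗ T) ⟶ G ⊗ (A ⊗ T)`. -/
def swp (G A T : C) : A ⊗ (G ⊗ T) ⟶ G ⊗ (A ⊗ T) :=
  lift (snd A (G ⊗ T) ≫ fst G T) (lift (fst A (G ⊗ T)) (snd A (G ⊗ T) ≫ snd G T))

theorem swp_swp (G A T : C) : swp G A T ≫ swp A G T = 𝟙 _ := by
  apply CartesianMonoidalCategory.hom_ext
  · simp [swp]
  · apply CartesianMonoidalCategory.hom_ext <;> simp [swp]

theorem swp_natural (G : C) {A B : C} (f : B ⟶ A) (T : C) :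
    (f ▷ (G ⊗ T)) ≫ swp G A T = swp G B T ≫ (G ◁ (f ▷ T)) := by
  apply CartesianMonoidalCategory.hom_ext
  · simp [swp]
  · apply CartesianMonoidalCategory.hom_ext <;> simp [swp]

variable {G : C} [MonObj G] {A B D E X : C} {ρA : MonAct G A} {ρB : MonAct G B} {ρD : MonAct G D}
  {ρE : MonAct G E} (x : MonAct G X) {i : E ⟶ B} {j : E ⟶ D} {a : B ⟶ A} {b : D ⟶ A}

theorem isEquivariant_whiskerRight (ha : IsEquivariant ρB ρA a) (T : C) :
    IsEquivariant (ρB.prod (trivial G T)) (ρA.prod (trivial G T)) (a ▷ T) := by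
  rw [isEquivariant_iff] at ha ⊢
  intro T' g z
  rw [← lift_comp_fst_snd z, lift_prod_act_assoc, lift_whiskerRight, lift_whiskerRight,
    lift_prod_act, lift_trivial_act, Category.assoc, ha]

omit [MonObj G] in
theorem jointly_epi_whiskerLeft
    (hpo : ∀ T : C, IsPushout (i ▷ T) (j ▷ T) (a ▷ T) (b ▷ T)) (T : C) {Y : C}
    (f g : G ⊗ (A ⊗ T) ⟶ Y) (h1 : (G ◁ (a ▷ T)) ≫ f = (G ◁ (a ▷ T)) ≫ g)
    (h2 : (G ◁ (b ▷ T)) ≫ f = (G ◁ (b ▷ T)) ≫ g) : f = g := by
  have key : swp G A T ≫ f = swp G A T ≫ g := by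
    apply (hpo (G ⊗ T)).hom_ext
    · rw [← Category.assoc, swp_natural, Category.assoc, h1, ← Category.assoc, ← swp_natural,
        Category.assoc]
    · rw [← Category.assoc, swp_natural, Category.assoc, h2, ← Category.assoc, ← swp_natural,
        Category.assoc]
  calc f = swp A G T ≫ swp G A T ≫ f := by rw [← Category.assoc, swp_swp, Category.id_comp]
    _ = swp A G T ≫ swp G A T ≫ g := by rw [key]
    _ = g := by rw [← Category.assoc, swp_swp, Category.id_comp]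

/-- **A universally cocartesian square of equivariant maps induces a cartesian square of functors
of equivariant maps.** -/
theorem isPullback_precomp (hi : IsEquivariant ρE ρB i) (hj : IsEquivariant ρE ρD j)
    (ha : IsEquivariant ρB ρA a) (hb : IsEquivariant ρD ρA b)
    (hpo : ∀ T : C, IsPushout (i ▷ T) (j ▷ T) (a ▷ T) (b ▷ T)) :
    IsPullback (eqvHom.precomp x a ha) (eqvHom.precomp x b hb) (eqvHom.precomp x i hi)
      (eqvHom.precomp x j hj) := by
  apply IsPullback.of_forall_isPullback_app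
  intro T
  rw [Types.isPullback_iff]
  refine ⟨?_, ?_, ?_⟩
  · ext φ
    apply Subtype.ext
    change (i ▷ T.unop) ≫ (a ▷ T.unop) ≫ φ.1 = (j ▷ T.unop) ≫ (b ▷ T.unop) ≫ φ.1
    rw [← Category.assoc, (hpo T.unop).w, Category.assoc]
  · rintro φ φ' ⟨h1, h2⟩
    apply Subtype.ext
    apply (hpo T.unop).hom_ext
    · exact congrArg Subtype.val h1
    · exact congrArg Subtype.val h2
  · intro φB φD hBD
    have hBD' : (i ▷ T.unop) ≫ φB.1 = (j ▷ T.unop) ≫ φD.1 := congrArg Subtype.val hBD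
    have h1 : (a ▷ T.unop) ≫ (hpo T.unop).desc φB.1 φD.1 hBD' = φB.1 := (hpo T.unop).inl_desc _ _ _
    have h2 : (b ▷ T.unop) ≫ (hpo T.unop).desc φB.1 φD.1 hBD' = φD.1 := (hpo T.unop).inr_desc _ _ _
    refine ⟨⟨(hpo T.unop).desc φB.1 φD.1 hBD', ?_⟩, Subtype.ext h1, Subtype.ext h2⟩
    unfold IsEquivariant
    apply jointly_epi_whiskerLeft hpo
    · have e := isEquivariant_whiskerRight ha T.unop
      unfold IsEquivariant at e
      rw [← Category.assoc, ← e, Category.assoc, h1, φB.2, ← Category.assoc,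
        ← MonoidalCategory.whiskerLeft_comp, h1]
    · have e := isEquivariant_whiskerRight hb T.unop
      unfold IsEquivariant at e
      rw [← Category.assoc, ← e, Category.assoc, h2, φD.2, ← Category.assoc,
        ← MonoidalCategory.whiskerLeft_comp, h2]

end General

section Transport

open Groth.Agent.Lib.Helper10.FerrandBC

variable {B₀ : Scheme.{u}}

theorem bc_isoPullback_inv {S' : Scheme.{u}} (h : S' ⟶ B₀) {Z Z' : Over B₀} (f₀ : Z ⟶ Z')
    {W W' : Scheme.{u}} {fZ : W ⟶ Z.left} {gZ : W ⟶ S'} (hZ : IsPullback fZ gZ Z.hom h)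
    {fZ' : W' ⟶ Z'.left} {gZ' : W' ⟶ S'} (hZ' : IsPullback fZ' gZ' Z'.hom h)
    (f : W ⟶ W') (h1 : f ≫ fZ' = fZ ≫ f₀.left) (h2 : f ≫ gZ' = gZ) :
    bc h f₀ ≫ hZ'.isoPullback.inv = hZ.isoPullback.inv ≫ f := by
  rw [Iso.comp_inv_eq, Category.assoc, Iso.eq_inv_comp]
  apply pullback.hom_ext
  · rw [Category.assoc, bc_fst, IsPullback.isoPullback_hom_fst_assoc, Category.assoc,
      IsPullback.isoPullback_hom_fst, h1]
  · rw [Category.assoc, bc_snd, IsPullback.isoPullback_hom_snd, Category.assoc,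
      IsPullback.isoPullback_hom_snd, h2]

variable {X₀ X₀' Y₀ P₀ : Over B₀} (i₀ : X₀ ⟶ X₀') (j₀ : X₀ ⟶ Y₀) (a₀ : X₀' ⟶ P₀) (b₀ : Y₀ ⟶ P₀)

/-- the pushout property for arbitrary models of the base changes. -/
theorem isPushout_of_isPullback (comm₀ : i₀ ≫ a₀ = j₀ ≫ b₀)
    (hQ : ∀ (R : CommRingCat.{u}) (h : Spec R ⟶ B₀),
      IsPushout (bc h i₀) (bc h j₀) (bc h a₀) (bc h b₀))
    {S' : Scheme.{u}} (h : S' ⟶ B₀) {WX WX' WY WP : Scheme.{u}}
    {fX : WX ⟶ X₀.left} {gX : WX ⟶ S'} (hX : IsPullback fX gX X₀.hom h)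
    {fX' : WX' ⟶ X₀'.left} {gX' : WX' ⟶ S'} (hX' : IsPullback fX' gX' X₀'.hom h)
    {fY : WY ⟶ Y₀.left} {gY : WY ⟶ S'} (hY : IsPullback fY gY Y₀.hom h)
    {fP : WP ⟶ P₀.left} {gP : WP ⟶ S'} (hP : IsPullback fP gP P₀.hom h)
    (i : WX ⟶ WX') (j : WX ⟶ WY) (a : WX' ⟶ WP) (b : WY ⟶ WP)
    (hi1 : i ≫ fX' = fX ≫ i₀.left) (hi2 : i ≫ gX' = gX)
    (hj1 : j ≫ fY = fX ≫ j₀.left) (hj2 : j ≫ gY = gX)
    (ha1 : a ≫ fP = fX' ≫ a₀.left) (ha2 : a ≫ gP = gX')
    (hb1 : b ≫ fP = fY ≫ b₀.left) (hb2 : b ≫ gP = gY) : IsPushout i j a b :=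
  (isPushout_bc' i₀ j₀ a₀ b₀ comm₀ hQ h).of_iso hX.isoPullback.symm hX'.isoPullback.symm
    hY.isoPullback.symm hP.isoPullback.symm
    (bc_isoPullback_inv h i₀ hX hX' i hi1 hi2) (bc_isoPullback_inv h j₀ hX hY j hj1 hj2)
    (bc_isoPullback_inv h a₀ hX' hP a ha1 ha2) (bc_isoPullback_inv h b₀ hY hP b hb1 hb2)

/-- `((Z₀)_S ⊗ W).left` is the base change of `Z₀` along `W ⟶ S ⟶ B₀`. -/
theorem isPullback_tensor {S : Scheme.{u}} (t : S ⟶ B₀) (Z₀ : Over B₀) (W : Over S) :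
    IsPullback (pullback.fst ((Over.pullback t).obj Z₀).hom W.hom ≫ pullback.fst Z₀.hom t)
      (pullback.snd ((Over.pullback t).obj Z₀).hom W.hom) Z₀.hom (W.hom ≫ t) :=
  (IsPullback.of_hasPullback ((Over.pullback t).obj Z₀).hom W.hom).paste_horiz
    (IsPullback.of_hasPullback Z₀.hom t)

open MonoidalCategory in
/-- the pushout property after base change to `S` and then product with any `W` over `S`. -/
theorem isPushout_whiskerRight (comm₀ : i₀ ≫ a₀ = j₀ ≫ b₀)
    (hQ : ∀ (R : CommRingCat.{u}) (h : Spec R ⟶ B₀),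
      IsPushout (bc h i₀) (bc h j₀) (bc h a₀) (bc h b₀))
    {S : Scheme.{u}} (t : S ⟶ B₀) (W : Over S) :
    IsPushout ((Over.pullback t).map i₀ ▷ W) ((Over.pullback t).map j₀ ▷ W)
      ((Over.pullback t).map a₀ ▷ W) ((Over.pullback t).map b₀ ▷ W) := by
  have comm : (Over.pullback t).map i₀ ▷ W ≫ (Over.pullback t).map a₀ ▷ W =
      (Over.pullback t).map j₀ ▷ W ≫ (Over.pullback t).map b₀ ▷ W := by
    rw [← comp_whiskerRight, ← comp_whiskerRight, ← Functor.map_comp, ← Functor.map_comp, comm₀]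
  apply IsPushout.of_map (Over.forget S) comm
  have key : ∀ {Z Z' : Over B₀} (f₀ : Z ⟶ Z'),
      ((Over.pullback t).map f₀ ▷ W).left ≫
        (pullback.fst ((Over.pullback t).obj Z').hom W.hom ≫ pullback.fst Z'.hom t) =
      (pullback.fst ((Over.pullback t).obj Z).hom W.hom ≫ pullback.fst Z.hom t) ≫ f₀.left := by
    intro Z Z' f₀
    rw [← Category.assoc, Over.whiskerRight_left_fst, Category.assoc, Category.assoc]
    congr 1
    exact bc_fst t f₀
  exact isPushout_of_isPullback i₀ j₀ a₀ b₀ comm₀ hQ (W.hom ≫ t)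
    (isPullback_tensor t X₀ W) (isPullback_tensor t X₀' W) (isPullback_tensor t Y₀ W)
    (isPullback_tensor t P₀ W) _ _ _ _
    (key i₀) (Over.whiskerRight_left_snd _) (key j₀) (Over.whiskerRight_left_snd _)
    (key a₀) (Over.whiskerRight_left_snd _) (key b₀) (Over.whiskerRight_left_snd _)

end Transport

section Final

open MonoidalCategory CartesianMonoidalCategory MonObj Magnet Groth.Agent.Lib.Helper10.FerrandBC

/-- the universally cocartesian square of diagonalizable monoid schemes. -/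
theorem isPushout_AMonS_whiskerRight (S : Scheme.{u}) (M : Type) [AddCommMonoid M]
    (N N' L L' : AddSubmonoid M) (hNL : N ≤ L) (hN'L' : N' ≤ L') (hL : Magnet.IsFace L' L)
    (hN : Magnet.IsFace N' N) (hdiff : (N' : Set M) = (L' : Set M) \ ((L : Set M) \ (N : Set M)))
    (T : Over S) :
    IsPushout (Magnet.AMonS.faceMap S hL ▷ T) (Magnet.AMonS.map S (AddSubmonoid.inclusion hNL) ▷ T)
      (Magnet.AMonS.map S (AddSubmonoid.inclusion hN'L') ▷ T) (Magnet.AMonS.faceMap S hN ▷ T) :=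
  isPushout_whiskerRight (AMon.faceMap (ULift.{u} ℤ) hL)
    (AMon.map (ULift.{u} ℤ) (AddSubmonoid.inclusion hNL))
    (AMon.map (ULift.{u} ℤ) (AddSubmonoid.inclusion hN'L')) (AMon.faceMap (ULift.{u} ℤ) hN)
    (AMon_comm (ULift.{u} ℤ) hNL hN'L' hL hN hdiff)
    (fun R t => isPushout_bc_sp (inclAlg (ULift.{u} ℤ) hN'L') (faceAlgHom (ULift.{u} ℤ) hN)
      (faceAlgHom (ULift.{u} ℤ) hL) (inclAlg (ULift.{u} ℤ) hNL)
      (fun R' _ _ => face_isFibProd (ULift.{u} ℤ) hNL hN'L' hL hN hdiff R')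
      (faceAlgHom_surjective (ULift.{u} ℤ) hL) R t)
    (Limits.IsTerminal.from specULiftZIsTerminal S) T

/-- **The cartesian square of attractors.** -/
theorem isPullback_attr (S : Scheme.{u}) (M : Type) [AddCommMonoid M] (X : Over S)
    (a : MonAct (AMonS S M) X) (N N' L L' : AddSubmonoid M) (hNL : N ≤ L) (hN'L' : N' ≤ L')
    (hL : Magnet.IsFace L' L) (hN : Magnet.IsFace N' N)
    (hdiff : (N' : Set M) = (L' : Set M) \ ((L : Set M) \ (N : Set M))) :
    IsPullback (Magnet.attrMap a hN'L') (Magnet.attrFace a hN) (Magnet.attrFace a hL)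
      (Magnet.attrMap a hNL) :=
  isPullback_precomp a _ _ _ _
    (isPushout_AMonS_whiskerRight S M N N' L L' hNL hN'L' hL hN hdiff)

end Final

end Groth.Agent.Lib.Helper10.AttrSq
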