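import Mathlib
import Groth.Prelude.Def_NonAbH2

/-!
# fppf-local lifting of points along a locally trivial morphism; separatedness of representables
-/

set_option autoImplicit false
set_option backward.isDefEq.respectTransparency.types false
set_option maxHeartbeats 4000000
set_option synthInstance.maxHeartbeats 400000
universe u
open CategoryTheory CategoryTheory.Limits AlgebraicGeometry

namespace Groth.Agent.Lib.Helper10.FppfLift

/-- morphisms of schemes which agree on the members of an fppf covering family are equal. -/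
theorem hom_ext_of_mem_fppfPrecoverage {T Z : Scheme.{u}} (a b : T ⟶ Z) (R : Presieve T)
    (hR : R ∈ Scheme.fppfPrecoverage T)
    (h : ∀ ⦃W : Scheme.{u}⦄ (f : W ⟶ T), R f → f ≫ a = f ≫ b) : a = b := by
  have hsh := (GrothendieckTopology.Subcanonical.isSheaf_of_isRepresentable
    (J := Scheme.fppfTopology.{u}) (yoneda.obj Z)).isSheafFor _
    (Precoverage.generate_mem_toGrothendieck hR)
  refine hsh.isSeparatedFor.ext ?_
  intro W f' hf'
  exact h f' hf'

/-- if `π : G ⟶ Q` has sections fppf-locally on `Q`, every point of `Q` lifts to `G` fppf-locally. -/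
theorem exists_cover_lift {G Q T : Scheme.{u}} (π : G ⟶ Q)
    (hloc : NonAbH1.IsLocallyTrivialFor Scheme.fppfPrecoverage (Over.mk π)) (q : T ⟶ Q) :
    ∃ R' ∈ Scheme.fppfPrecoverage T, ∀ ⦃W : Scheme.{u}⦄ (f : W ⟶ T), R' f →
      ∃ c : W ⟶ G, c ≫ π = f ≫ q := by
  obtain ⟨R, hR, hsec⟩ := hloc
  obtain ⟨𝒰, rfl⟩ := Precoverage.mem_iff_exists_zeroHypercover.mp hR
  refine ⟨_, (𝒰.pullback₁ q).mem₀, ?_⟩
  rintro W _ ⟨i⟩
  obtain ⟨s, hs⟩ := hsec (𝒰.f i) ⟨i⟩
  refine ⟨pullback.snd q (𝒰.f i) ≫ s, ?_⟩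
  rw [Category.assoc]
  change _ ≫ s ≫ π = _
  have hs' : s ≫ π = 𝒰.f i := hs
  rw [hs']
  exact pullback.condition.symm

/-- equality of morphisms out of `T` can be tested on points lifted along `π`. -/
theorem hom_ext_of_lift {G Q T Z : Scheme.{u}} (π : G ⟶ Q)
    (hloc : NonAbH1.IsLocallyTrivialFor Scheme.fppfPrecoverage (Over.mk π)) (q : T ⟶ Q)
    (a b : T ⟶ Z)
    (h : ∀ ⦃W : Scheme.{u}⦄ (f : W ⟶ T) (c : W ⟶ G), c ≫ π = f ≫ q → f ≫ a = f ≫ b) :
    a = b := by
  obtain ⟨R', hR', hlift⟩ := exists_cover_lift π hloc q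
  refine hom_ext_of_mem_fppfPrecoverage a b R' hR' ?_
  intro W f hf
  obtain ⟨c, hc⟩ := hlift f hf
  exact h f c hc

end Groth.Agent.Lib.Helper10.FppfLift
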