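import Mathlib
import Groth.Prelude.Def_ChGrp
import Groth.Agent.Lib.Helper10.FppfLift1

/-!
# Descent of morphisms along an fppf-locally split morphism; balanced products
-/

set_option autoImplicit false
set_option backward.isDefEq.respectTransparency.types false
set_option maxHeartbeats 4000000
set_option synthInstance.maxHeartbeats 400000
universe u
open CategoryTheory CategoryTheory.Limits AlgebraicGeometry MonoidalCategory
  CartesianMonoidalCategory MonObj GrpObj

namespace Groth.Agent.Lib.Helper10.BalProd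

open Groth.Agent.Lib.Helper10.FppfLift

/-- representable presheaves satisfy the sheaf condition for fppf covering families. -/
theorem isSheafFor_yoneda {Y : Scheme.{u}} (R : Presieve Y) (hR : R ∈ Scheme.fppfPrecoverage Y)
    (Z : Scheme.{u}) : Presieve.IsSheafFor (yoneda.obj Z) R := by
  exact (GrothendieckTopology.Subcanonical.isSheaf_of_isRepresentable
    (J := Scheme.fppfTopology) (yoneda.obj Z)).isSheafFor _
    (Precoverage.generate_mem_toGrothendieck hR)

/-- gluing of morphisms along an fppf covering family. -/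
theorem exists_glue {Y : Scheme.{u}} (R : Presieve Y) (hR : R ∈ Scheme.fppfPrecoverage Y)
    {Z : Scheme.{u}}
    (x : ∀ ⦃T : Scheme.{u}⦄ (g : T ⟶ Y), R g → (T ⟶ Z))
    (hx : ∀ ⦃T₁ T₂ W : Scheme.{u}⦄ (g₁ : W ⟶ T₁) (g₂ : W ⟶ T₂) ⦃f₁ : T₁ ⟶ Y⦄ ⦃f₂ : T₂ ⟶ Y⦄
      (h₁ : R f₁) (h₂ : R f₂), g₁ ≫ f₁ = g₂ ≫ f₂ → g₁ ≫ x f₁ h₁ = g₂ ≫ x f₂ h₂) :
    ∃ ψ : Y ⟶ Z, ∀ ⦃T : Scheme.{u}⦄ (g : T ⟶ Y) (hg : R g), g ≫ ψ = x g hg := by
  have hs := isSheafFor_yoneda R hR Z
  let x' : Presieve.FamilyOfElements (yoneda.obj Z) R := fun T g hg => x g hg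
  have hx' : x'.Compatible := by
    intro T₁ T₂ W g₁ g₂ f₁ f₂ h₁ h₂ e
    exact hx g₁ g₂ h₁ h₂ e
  refine ⟨hs.amalgamate x' hx', fun T g hg => ?_⟩
  exact hs.valid_glue hx' g hg

/-- **Descent along an fppf-locally split morphism** (schemes): a morphism out of `P` which takes
the same value on any two points with the same image in `Y` factors uniquely through `Y`. -/
theorem exists_unique_desc {P Y T : Scheme.{u}} (π : P ⟶ Y)
    (hloc : NonAbH1.IsLocallyTrivialFor Scheme.fppfPrecoverage (Over.mk π))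
    (f : P ⟶ T)
    (hf : ∀ ⦃W : Scheme.{u}⦄ (p₁ p₂ : W ⟶ P), p₁ ≫ π = p₂ ≫ π → p₁ ≫ f = p₂ ≫ f) :
    ∃! g : Y ⟶ T, π ≫ g = f := by
  obtain ⟨R, hR, hsec⟩ := hloc
  have hsec' : ∀ ⦃S' : Scheme.{u}⦄ (g : S' ⟶ Y), R g → ∃ s : S' ⟶ P, s ≫ π = g :=
    fun S' g hg => hsec g hg
  choose σ hσ using hsec'
  obtain ⟨ψ, hψ⟩ := exists_glue R hR (Z := T) (fun T' g hg => σ g hg ≫ f) (by
    intro T₁ T₂ W g₁ g₂ f₁ f₂ h₁ h₂ e
    rw [← Category.assoc, ← Category.assoc]
    apply hf
    rw [Category.assoc, Category.assoc, hσ, hσ, e])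
  have hsep : ∀ ψ₁ ψ₂ : Y ⟶ T, π ≫ ψ₁ = π ≫ ψ₂ → ψ₁ = ψ₂ := by
    intro ψ₁ ψ₂ h
    apply hom_ext_of_mem_fppfPrecoverage _ _ R hR
    intro T' g hg
    rw [← hσ g hg, Category.assoc, Category.assoc, h]
  have hψX : π ≫ ψ = f := by
    apply hom_ext_of_mem_fppfPrecoverage _ _ (R.pullbackArrows π)
      (Precoverage.pullbackArrows_mem π hR)
    rintro T' g ⟨T'', h, hh⟩
    have e : (pullback.fst h π ≫ σ h hh) ≫ f = pullback.snd h π ≫ f := by
      apply hf
      rw [Category.assoc, hσ, pullback.condition]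
    rw [← e, ← Category.assoc (pullback.snd h π), ← pullback.condition, Category.assoc,
      hψ h hh, Category.assoc]
  exact ⟨ψ, hψX, fun ψ' hψ' => hsep _ _ (by rw [hψ', hψX])⟩

variable {S : Scheme.{u}}

/-- a morphism in `Over S` with fppf-local sections is an epimorphism. -/
theorem epi_of_loc {P Y : Over S} (j : P ⟶ Y)
    (hloc : NonAbH1.IsLocallyTrivialFor Scheme.fppfPrecoverage (Over.mk j.left : Over Y.left)) :
    Epi j := by
  refine ⟨fun {T} u v h => ?_⟩
  apply Over.OverMorphism.ext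
  apply hom_ext_of_lift j.left hloc (𝟙 _)
  intro W f c hc
  rw [Category.comp_id] at hc
  rw [← hc, Category.assoc, Category.assoc, ← Over.comp_left, ← Over.comp_left, h]

/-- cancellation of `A ◁ j` for `j` with fppf-local sections. -/
theorem whiskerLeft_cancel {P Y : Over S} (j : P ⟶ Y)
    (hloc : NonAbH1.IsLocallyTrivialFor Scheme.fppfPrecoverage (Over.mk j.left : Over Y.left))
    (A : Over S) {T : Over S} (u v : A ⊗ Y ⟶ T) (h : (A ◁ j) ≫ u = (A ◁ j) ≫ v) : u = v := by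
  apply Over.OverMorphism.ext
  apply hom_ext_of_lift j.left hloc (snd A Y).left
  intro W f c hc
  let W' : Over S := Over.mk (f ≫ (A ⊗ Y).hom)
  let f' : W' ⟶ A ⊗ Y := Over.homMk f rfl
  let c' : W' ⟶ P := Over.homMk c (by
    change c ≫ P.hom = f ≫ (A ⊗ Y).hom
    rw [← Over.w j, ← Category.assoc, hc, Category.assoc, Over.w])
  have hc' : c' ≫ j = f' ≫ snd A Y := Over.OverMorphism.ext hc
  have e : f' = lift (f' ≫ fst A Y) c' ≫ (A ◁ j) := by
    rw [lift_whiskerLeft, hc', ← comp_lift, lift_fst_snd, Category.comp_id]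
  have h2 : f' ≫ u = f' ≫ v := by
    rw [e, Category.assoc, Category.assoc, h]
  exact congrArg (fun t => t.left) h2

/-- **Descent along an fppf-locally split morphism** (over a base). -/
theorem exists_unique_desc_over {P Y T : Over S} (j : P ⟶ Y)
    (hloc : NonAbH1.IsLocallyTrivialFor Scheme.fppfPrecoverage (Over.mk j.left : Over Y.left))
    (f : P ⟶ T)
    (hf : ∀ ⦃W : Over S⦄ (p₁ p₂ : W ⟶ P), p₁ ≫ j = p₂ ≫ j → p₁ ≫ f = p₂ ≫ f) :
    ∃! g : Y ⟶ T, j ≫ g = f := by
  haveI := epi_of_loc j hloc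
  obtain ⟨ψ, hψ, -⟩ := exists_unique_desc j.left hloc f.left (by
    intro W p₁ p₂ h
    let W' : Over S := Over.mk (p₁ ≫ P.hom)
    let p₁' : W' ⟶ P := Over.homMk p₁ rfl
    let p₂' : W' ⟶ P := Over.homMk p₂ (by
      change p₂ ≫ P.hom = p₁ ≫ P.hom
      rw [← Over.w j, ← Category.assoc, ← h, Category.assoc])
    have := hf p₁' p₂' (Over.OverMorphism.ext h)
    exact congrArg (fun t => t.left) this)
  have hw : ψ ≫ T.hom = Y.hom := by
    have h1 : j.left ≫ ψ ≫ T.hom = j.left ≫ Y.hom := by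
      rw [← Category.assoc, hψ, Over.w, Over.w]
    have : Epi j.left := by
      refine ⟨fun {T'} u v h => ?_⟩
      apply hom_ext_of_lift j.left hloc (𝟙 _)
      intro W f c hc
      rw [Category.comp_id] at hc
      rw [← hc, Category.assoc, Category.assoc, h]
    exact (cancel_epi j.left).mp h1
  refine ⟨Over.homMk ψ hw, Over.OverMorphism.ext hψ, ?_⟩
  intro g' hg'
  rw [← cancel_epi j, hg']
  exact (Over.OverMorphism.ext hψ).symm

/-- **The base of an fppf pseudo-torsor with local sections is its categorical quotient**: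
invariant morphisms descend uniquely. -/
theorem exists_unique_desc_of_isPullback {H P Y T : Over S} [GrpObj H] (b : AlgGrp.Action H P)
    (j : P ⟶ Y) (hsq : IsPullback b.act (snd H P) j j)
    (hloc : NonAbH1.IsLocallyTrivialFor Scheme.fppfPrecoverage (Over.mk j.left : Over Y.left))
    (f : P ⟶ T) (hf : b.act ≫ f = snd H P ≫ f) :
    ∃! g : Y ⟶ T, j ≫ g = f := by
  apply exists_unique_desc_over j hloc f
  intro W p₁ p₂ h
  have h1 : hsq.lift p₁ p₂ h ≫ b.act = p₁ := hsq.lift_fst _ _ _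
  have h2 : hsq.lift p₁ p₂ h ≫ snd H P = p₂ := hsq.lift_snd _ _ _
  rw [← h1, Category.assoc, hf, ← Category.assoc, h2]

end Groth.Agent.Lib.Helper10.BalProd
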