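import Mathlib
import Groth.Prelude.Def_ChGrp
import Groth.Prelude.Def_W4bk4git07Quot
import Groth.Agent.Lib.Helper10.BalProd1

/-!
# Balanced products: points calculus and `Y // G ≅ Z // H`
-/

set_option autoImplicit false
set_option backward.isDefEq.respectTransparency.types false
set_option maxHeartbeats 4000000
set_option synthInstance.maxHeartbeats 400000
universe u
open CategoryTheory CategoryTheory.Limits AlgebraicGeometry MonoidalCategory
  CartesianMonoidalCategory MonObj GrpObj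

namespace Groth.Agent.Lib.Helper10.BalProd

variable {S : Scheme.{u}} {G H Z Y : Over S} [GrpObj G] [GrpObj H]
  (i : H ⟶ G) [IsMonHom i] (aZ : AlgGrp.Action H Z) (aY : AlgGrp.Action G Y) (j : G ⊗ Z ⟶ Y)

omit [GrpObj H] in
include aY in
/-- `j (g' g, z) = g' • j (g, z)`. -/
theorem j_mul
    (heq : AlgGrp.Action.IsEquivariant
      ((NonAbH1.trivialAction G).prod (AlgGrp.Action.trivial G Z)) aY j)
    {T : Over S} (g' g : T ⟶ G) (z : T ⟶ Z) :
    lift (g' * g) z ≫ j = lift g' (lift g z ≫ j) ≫ aY.act := by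
  have heq' : ((NonAbH1.trivialAction G).prod (AlgGrp.Action.trivial G Z)).act ≫ j =
      (G ◁ j) ≫ aY.act := heq
  have h : lift g' (lift g z) ≫ ((NonAbH1.trivialAction G).prod (AlgGrp.Action.trivial G Z)).act ≫ j =
      lift g' (lift g z) ≫ (G ◁ j) ≫ aY.act := by rw [heq']
  rw [AlgGrp.Action.lift_prod_act_assoc, AlgGrp.Action.lift_trivial_act, lift_whiskerLeft_assoc] at h
  rw [← h]
  congr 2

/-- `j (g i(h)⁻¹, h • z) = j (g, z)`. -/
theorem j_twist (hw : (ChGrp.twist i aZ).act ≫ j = snd H (G ⊗ Z) ≫ j)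
    {T : Over S} (h : T ⟶ H) (g : T ⟶ G) (z : T ⟶ Z) :
    lift (g * (h ≫ i)⁻¹) (lift h z ≫ aZ.act) ≫ j = lift g z ≫ j := by
  have h' : lift h (lift g z) ≫ (ChGrp.twist i aZ).act ≫ j =
      lift h (lift g z) ≫ snd H (G ⊗ Z) ≫ j := by rw [hw]
  rw [ChGrp.lift_twist_act_assoc, lift_snd_assoc] at h'
  exact h'

/-- `j (g, h • z) = j (g i(h), z)`. -/
theorem j_act
    (hw : (ChGrp.twist i aZ).act ≫ j = snd H (G ⊗ Z) ≫ j)
    {T : Over S} (h : T ⟶ H) (g : T ⟶ G) (z : T ⟶ Z) :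
    lift g (lift h z ≫ aZ.act) ≫ j = lift (g * (h ≫ i)) z ≫ j := by
  rw [← j_twist i aZ j hw h (g * (h ≫ i)) z, _root_.mul_assoc, mul_inv_cancel, _root_.mul_one]

variable {P Q : Over S}

/-- **`Y // G ≅ Z // H` for a balanced product `Y = G ×^H Z`.** -/
theorem catQuot_iso (hY : ChGrp.IsBalProd Scheme.fppfPrecoverage i aZ aY j)
    (πZ : Z ⟶ P) (hP : GIT.IsCatQuot aZ πZ) (πY : Y ⟶ Q) (hQ : GIT.IsCatQuot aY πY) :
    ∃ (φ : P ⟶ Q) (χ : Q ⟶ P), φ ≫ χ = 𝟙 P ∧ χ ≫ φ = 𝟙 Q ∧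
      πZ ≫ φ = lift (toUnit Z ≫ η[G]) (𝟙 Z) ≫ j ≫ πY ∧ j ≫ πY ≫ χ = snd G Z ≫ πZ := by
  obtain ⟨heq, hsq, hloc⟩ := hY
  have hw := hsq.w
  haveI := epi_of_loc j hloc
  -- invariance of `πY` on points
  have hπY : ∀ {T : Over S} (g : T ⟶ G) (y : T ⟶ Y), lift g y ≫ aY.act ≫ πY = y ≫ πY := by
    intro T g y
    have := hQ.1
    unfold GIT.IsInvariant at this
    rw [this, lift_snd_assoc]
  have hπZ : ∀ {T : Over S} (h : T ⟶ H) (z : T ⟶ Z), lift h z ≫ aZ.act ≫ πZ = z ≫ πZ := by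
    intro T h z
    have := hP.1
    unfold GIT.IsInvariant at this
    rw [this, lift_snd_assoc]
  -- `πY (j (g, z)) = πY (j (1, z))`
  have hjπ : ∀ {T : Over S} (g : T ⟶ G) (z : T ⟶ Z),
      lift g z ≫ j ≫ πY = lift (1 : T ⟶ G) z ≫ j ≫ πY := by
    intro T g z
    have h1 := j_mul aY j heq g 1 z
    rw [_root_.mul_one] at h1
    rw [← Category.assoc, h1, Category.assoc, hπY, Category.assoc]
  have hone : ∀ {T : Over S} (z : T ⟶ Z),
      z ≫ lift (toUnit Z ≫ η[G]) (𝟙 Z) = lift (1 : T ⟶ G) z := by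
    intro T z
    rw [comp_lift, Category.comp_id, ← Category.assoc, toUnit_unique (z ≫ toUnit Z) (toUnit T),
      ← Hom.one_def]
  -- the map `P ⟶ Q`
  obtain ⟨ψ₀, hψ₀⟩ : ∃ ψ₀ : Z ⟶ Q, ψ₀ = lift (toUnit Z ≫ η[G]) (𝟙 Z) ≫ j ≫ πY := ⟨_, rfl⟩
  have key : ∀ {T : Over S} (z : T ⟶ Z), z ≫ ψ₀ = lift (1 : T ⟶ G) z ≫ j ≫ πY := by
    intro T z
    rw [hψ₀, ← Category.assoc, hone]
  have hψ₀inv : GIT.IsInvariant aZ ψ₀ := by
    unfold GIT.IsInvariant
    apply AlgGrp.Action.hom_ext_lift₂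
    intro T h z
    rw [← Category.assoc, key, lift_snd_assoc, key, ← Category.assoc, j_act i aZ j hw,
      Category.assoc, hjπ]
  obtain ⟨φ, hφ, -⟩ := hP.2 Q ψ₀ hψ₀inv
  rw [hψ₀] at hφ
  -- the map `Y ⟶ P`
  have hfinv : (ChGrp.twist i aZ).act ≫ snd G Z ≫ πZ = snd H (G ⊗ Z) ≫ snd G Z ≫ πZ := by
    apply AlgGrp.Action.hom_ext_lift₂
    intro T h p
    have hp : p = lift (p ≫ fst G Z) (p ≫ snd G Z) := by
      rw [← comp_lift, lift_fst_snd, Category.comp_id]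
    rw [hp, ChGrp.lift_twist_act_assoc, lift_snd_assoc, lift_snd_assoc, lift_snd_assoc,
      Category.assoc, hπZ]
  obtain ⟨fbar, hfbar, -⟩ := exists_unique_desc_of_isPullback (ChGrp.twist i aZ) j hsq hloc
    (snd G Z ≫ πZ) hfinv
  have hfbarinv : GIT.IsInvariant aY fbar := by
    unfold GIT.IsInvariant
    apply whiskerLeft_cancel j hloc G
    have e1 : (G ◁ j) ≫ aY.act = _ := heq.symm
    rw [← Category.assoc, e1, Category.assoc, hfbar, whiskerLeft_snd_assoc, hfbar]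
    apply AlgGrp.Action.hom_ext_lift₂
    intro T g p
    have hp : p = lift (p ≫ fst G Z) (p ≫ snd G Z) := by
      rw [← comp_lift, lift_fst_snd, Category.comp_id]
    rw [hp, AlgGrp.Action.lift_prod_act_assoc, AlgGrp.Action.lift_trivial_act, lift_snd_assoc,
      lift_snd_assoc, lift_snd_assoc]
  obtain ⟨χ, hχ, -⟩ := hQ.2 P fbar hfbarinv
  refine ⟨φ, χ, ?_, ?_, hφ, ?_⟩
  · -- `φ ≫ χ = 𝟙`
    obtain ⟨t, -, ht⟩ := hP.2 P πZ hP.1
    have h1 : πZ ≫ φ ≫ χ = πZ := by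
      rw [← Category.assoc, hφ, Category.assoc, Category.assoc, hχ, hfbar, lift_snd_assoc,
        Category.id_comp]
    rw [ht _ h1, ht (𝟙 P) (Category.comp_id _)]
  · -- `χ ≫ φ = 𝟙`
    obtain ⟨t, -, ht⟩ := hQ.2 Q πY hQ.1
    have h2 : fbar ≫ φ = πY := by
      rw [← cancel_epi j, ← Category.assoc, hfbar, Category.assoc, hφ]
      apply AlgGrp.Action.hom_ext_lift₂
      intro T g z
      rw [lift_snd_assoc, ← Category.assoc, hone]
      exact (hjπ g z).symm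
    have h1 : πY ≫ χ ≫ φ = πY := by
      rw [← Category.assoc, hχ, h2]
    rw [ht _ h1, ht (𝟙 Q) (Category.comp_id _)]
  · rw [hχ, hfbar]

end Groth.Agent.Lib.Helper10.BalProd
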