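import Mathlib
import Groth.Prelude.Def_ChGrp
import Groth.Agent.Lib.Helper10.BalProd2

/-!
# Invariant subobjects of a balanced product are balanced products
-/

set_option autoImplicit false
set_option backward.isDefEq.respectTransparency.types false
set_option maxHeartbeats 4000000
set_option synthInstance.maxHeartbeats 400000
universe u
open CategoryTheory CategoryTheory.Limits AlgebraicGeometry MonoidalCategory
  CartesianMonoidalCategory MonObj GrpObj

namespace Groth.Agent.Lib.Helper10.BalProd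

open Groth.Agent.Lib.Helper10.FppfLift

/-- a commutative square is cartesian if it has the unique lifting property on points. -/
theorem isPullback_of_points {C : Type*} [Category C] {W X Y Z : C} (f : W ⟶ X) (g : W ⟶ Y)
    (h : X ⟶ Z) (k : Y ⟶ Z) (w : f ≫ h = g ≫ k)
    (hex : ∀ {T : C} (x : T ⟶ X) (y : T ⟶ Y), x ≫ h = y ≫ k → ∃ t : T ⟶ W, t ≫ f = x ∧ t ≫ g = y)
    (huniq : ∀ {T : C} (t t' : T ⟶ W), t ≫ f = t' ≫ f → t ≫ g = t' ≫ g → t = t') :
    IsPullback f g h k := by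
  refine ⟨⟨w⟩, ⟨PullbackCone.IsLimit.mk w
    (fun s => (hex s.fst s.snd s.condition).choose)
    (fun s => (hex s.fst s.snd s.condition).choose_spec.1)
    (fun s => (hex s.fst s.snd s.condition).choose_spec.2) ?_⟩⟩
  intro s m h1 h2
  apply huniq
  · rw [h1, (hex s.fst s.snd s.condition).choose_spec.1]
  · rw [h2, (hex s.fst s.snd s.condition).choose_spec.2]

variable {S : Scheme.{u}}

/-- an action restricts along a monomorphism through which it factors. -/
noncomputable def restrictMono {H Z Z' : Over S} [GrpObj H] (aZ : AlgGrp.Action H Z) (m : Z' ⟶ Z)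
    [Mono m] (act' : H ⊗ Z' ⟶ Z') (h : act' ≫ m = (H ◁ m) ≫ aZ.act) : AlgGrp.Action H Z' where
  act := act'
  one_act := by
    rw [← cancel_mono m, Category.assoc, h, ← whisker_exchange_assoc, aZ.one_act,
      leftUnitor_naturality]
  mul_act := by
    rw [← cancel_mono m]
    simp only [Category.assoc]
    rw [h, ← whisker_exchange_assoc, aZ.mul_act, ← whiskerLeft_comp_assoc, h,
      whiskerLeft_comp_assoc, associator_naturality_right_assoc]

@[simp] theorem restrictMono_act {H Z Z' : Over S} [GrpObj H] (aZ : AlgGrp.Action H Z) (m : Z' ⟶ Z)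
    [Mono m] (act' : H ⊗ Z' ⟶ Z') (h : act' ≫ m = (H ◁ m) ≫ aZ.act) :
    (restrictMono aZ m act' h).act = act' := rfl

variable {G H Z Y Y' : Over S} [GrpObj G] [GrpObj H]
  (i : H ⟶ G) [IsMonHom i] (aZ : AlgGrp.Action H Z) (aY : AlgGrp.Action G Y) (j : G ⊗ Z ⟶ Y)

/-- auxiliary form of `sub_balProd` with the trace `Z'` given by an abstract cartesian square. -/
theorem sub_balProd_aux (hY : ChGrp.IsBalProd Scheme.fppfPrecoverage i aZ aY j)
    (c : Y' ⟶ Y) [Mono c] (aY' : AlgGrp.Action G Y')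
    (hc : AlgGrp.Action.IsEquivariant aY' aY c)
    {Z' : Over S} (c' : Z' ⟶ Z) (e' : Z' ⟶ Y') (e : Z ⟶ Y)
    (he : e = lift (toUnit Z ≫ η[G]) (𝟙 Z) ≫ j) (hpb : IsPullback c' e' e c) :
    ∃ (aZ' : AlgGrp.Action H Z') (j' : G ⊗ Z' ⟶ Y'),
      AlgGrp.Action.IsEquivariant aZ' aZ c' ∧
      j' ≫ c = (G ◁ c') ≫ j ∧ ChGrp.IsBalProd Scheme.fppfPrecoverage i aZ' aY' j' := by
  obtain ⟨heq, hsq, hloc⟩ := hY
  have hw := hsq.w
  have hc'' : aY'.act ≫ c = (G ◁ c) ≫ aY.act := hc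
  have hcond : c' ≫ e = e' ≫ c := hpb.w
  haveI : Mono c' := PullbackCone.mono_fst_of_is_pullback_of_mono hpb.isLimit
  have hone : ∀ {T : Over S} (z : T ⟶ Z), z ≫ e = lift (1 : T ⟶ G) z ≫ j := by
    intro T z
    rw [he, ← Category.assoc, comp_lift, Category.comp_id, ← Category.assoc,
      toUnit_unique (z ≫ toUnit Z) (toUnit T), ← Hom.one_def]
  -- points form of equivariance of `c`
  have hcpt : ∀ {T : Over S} (g : T ⟶ G) (y : T ⟶ Y'),
      lift g y ≫ aY'.act ≫ c = lift g (y ≫ c) ≫ aY.act := by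
    intro T g y
    rw [hc'', lift_whiskerLeft_assoc]
  have hj1 : ∀ {T : Over S} (g : T ⟶ G) (z : T ⟶ Z),
      lift g z ≫ j = lift g (z ≫ e) ≫ aY.act := by
    intro T g z
    have := j_mul aY j heq g 1 z
    rw [_root_.mul_one] at this
    rw [this, hone z]
  -- the trace
  have hcompat : ((H ◁ c') ≫ aZ.act) ≫ e =
      (lift (fst H Z' ≫ i) (snd H Z' ≫ e') ≫ aY'.act) ≫ c := by
    apply AlgGrp.Action.hom_ext_lift₂
    intro T h z
    have s1 : lift h z ≫ (H ◁ c') ≫ aZ.act = lift h (z ≫ c') ≫ aZ.act := by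
      rw [lift_whiskerLeft_assoc]
    have s2 : lift h z ≫ lift (fst H Z' ≫ i) (snd H Z' ≫ e') = lift (h ≫ i) (z ≫ e') := by
      rw [comp_lift, lift_fst_assoc, lift_snd_assoc]
    have L : lift h z ≫ ((H ◁ c') ≫ aZ.act) ≫ e = lift (h ≫ i) ((z ≫ c') ≫ e) ≫ aY.act := by
      calc lift h z ≫ ((H ◁ c') ≫ aZ.act) ≫ e
          = (lift h (z ≫ c') ≫ aZ.act) ≫ e := by rw [← s1]; simp only [Category.assoc]
        _ = lift 1 (lift h (z ≫ c') ≫ aZ.act) ≫ j := hone _
        _ = lift (1 * (h ≫ i)) (z ≫ c') ≫ j := j_act i aZ j hw _ _ _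
        _ = lift (h ≫ i) (z ≫ c') ≫ j := by rw [_root_.one_mul]
        _ = _ := hj1 _ _
    have R : lift h z ≫ (lift (fst H Z' ≫ i) (snd H Z' ≫ e') ≫ aY'.act) ≫ c =
        lift (h ≫ i) ((z ≫ c') ≫ e) ≫ aY.act := by
      calc lift h z ≫ (lift (fst H Z' ≫ i) (snd H Z' ≫ e') ≫ aY'.act) ≫ c
          = lift (h ≫ i) (z ≫ e') ≫ aY'.act ≫ c := by rw [← s2]; simp only [Category.assoc]
        _ = lift (h ≫ i) ((z ≫ e') ≫ c) ≫ aY.act := hcpt _ _
        _ = _ := by rw [Category.assoc, ← hcond, ← Category.assoc]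
    rw [L, R]
  obtain ⟨act', hact'⟩ : ∃ act' : H ⊗ Z' ⟶ Z', act' = hpb.lift _ _ hcompat := ⟨_, rfl⟩
  have hact1 : act' ≫ c' = (H ◁ c') ≫ aZ.act := by
    rw [hact', hpb.lift_fst]
  have hact2 : act' ≫ e' = lift (fst H Z' ≫ i) (snd H Z' ≫ e') ≫ aY'.act := by
    rw [hact', hpb.lift_snd]
  obtain ⟨aZ', haZ'⟩ : ∃ aZ' : AlgGrp.Action H Z', aZ'.act = act' :=
    ⟨restrictMono aZ c' act' hact1, rfl⟩
  obtain ⟨j', hj'⟩ : ∃ j' : G ⊗ Z' ⟶ Y', j' = (G ◁ e') ≫ aY'.act := ⟨_, rfl⟩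
  have hj'pt : ∀ {T : Over S} (g : T ⟶ G) (z : T ⟶ Z'),
      lift g z ≫ j' = lift g (z ≫ e') ≫ aY'.act := by
    intro T g z
    rw [hj', lift_whiskerLeft_assoc]
  have hj'c : j' ≫ c = (G ◁ c') ≫ j := by
    apply AlgGrp.Action.hom_ext_lift₂
    intro T g z
    calc lift g z ≫ j' ≫ c = (lift g z ≫ j') ≫ c := by rw [Category.assoc]
      _ = lift g (z ≫ e') ≫ aY'.act ≫ c := by rw [hj'pt, Category.assoc]
      _ = lift g ((z ≫ e') ≫ c) ≫ aY.act := hcpt _ _
      _ = lift g ((z ≫ c') ≫ e) ≫ aY.act := by rw [Category.assoc, ← hcond, ← Category.assoc]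
      _ = lift g (z ≫ c') ≫ j := (hj1 _ _).symm
      _ = _ := by rw [lift_whiskerLeft_assoc]
  have haZ'pt : ∀ {T : Over S} (h : T ⟶ H) (z : T ⟶ Z'),
      (lift h z ≫ aZ'.act) ≫ c' = lift h (z ≫ c') ≫ aZ.act := by
    intro T h z
    rw [Category.assoc, haZ', hact1, lift_whiskerLeft_assoc]
  refine ⟨aZ', j', ?_, hj'c, ?_, ?_, ?_⟩
  · change aZ'.act ≫ _ = _
    rw [haZ', hact1]
  · -- equivariance of `j'`
    change _ ≫ j' = (G ◁ j') ≫ aY'.act
    apply AlgGrp.Action.hom_ext_lift₂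
    intro T g' p
    have hp : p = lift (p ≫ fst G _) (p ≫ snd G _) := by
      rw [← comp_lift, lift_fst_snd, Category.comp_id]
    rw [hp, AlgGrp.Action.lift_prod_act_assoc, AlgGrp.Action.lift_trivial_act,
      lift_whiskerLeft_assoc, hj'pt, hj'pt]
    change lift (g' * (p ≫ fst G _)) _ ≫ _ = _
    rw [AlgGrp.Action.lift_mul_act]
  · -- the cartesian square
    have hG : ∀ {T : Over S} (h : T ⟶ H) (g : T ⟶ G) (z : T ⟶ Z'),
        (lift h (lift g z) ≫ (ChGrp.twist i aZ').act) ≫ (G ◁ c') =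
        lift h (lift g (z ≫ c')) ≫ (ChGrp.twist i aZ).act := by
      intro T h g z
      rw [ChGrp.lift_twist_act, ChGrp.lift_twist_act, lift_whiskerLeft, haZ'pt]
    have hmonoG : ∀ {T : Over S} (p p' : T ⟶ G ⊗ Z'),
        p ≫ (G ◁ c') = p' ≫ (G ◁ c') → p = p' := by
      intro T p p' h
      apply CartesianMonoidalCategory.hom_ext
      · have := congrArg (fun t => t ≫ fst G Z) h
        simpa using this
      · have := congrArg (fun t => t ≫ snd G Z) h
        simp only [Category.assoc, whiskerLeft_snd] at this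
        rw [← cancel_mono c', Category.assoc, Category.assoc, this]
    have hsplit : ∀ {T : Over S} (t : T ⟶ H ⊗ (G ⊗ Z')),
        t = lift (t ≫ fst _ _) (lift (t ≫ snd _ _ ≫ fst _ _) (t ≫ snd _ _ ≫ snd _ _)) := by
      intro T t
      apply CartesianMonoidalCategory.hom_ext
      · rw [lift_fst]
      · rw [lift_snd]
        apply CartesianMonoidalCategory.hom_ext
        · rw [lift_fst, Category.assoc]
        · rw [lift_snd, Category.assoc]
    have hw' : (ChGrp.twist i aZ').act ≫ j' = snd H (G ⊗ Z') ≫ j' := by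
      rw [← cancel_mono c]
      apply AlgGrp.Action.hom_ext_lift₂
      intro T h p
      have hp : p = lift (p ≫ fst G _) (p ≫ snd G _) := by
        rw [← comp_lift, lift_fst_snd, Category.comp_id]
      rw [hp]
      calc lift h (lift (p ≫ fst G _) (p ≫ snd G _)) ≫ ((ChGrp.twist i aZ').act ≫ j') ≫ c
          = ((lift h (lift (p ≫ fst G _) (p ≫ snd G _)) ≫ (ChGrp.twist i aZ').act) ≫ (G ◁ c')) ≫ j := by
            simp only [Category.assoc]; rw [hj'c]
        _ = lift (p ≫ fst G _) ((p ≫ snd G _) ≫ c') ≫ j := by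
            rw [hG, Category.assoc, hw, lift_snd_assoc]
        _ = _ := by
            simp only [Category.assoc]
            rw [lift_snd_assoc, hj'c, lift_whiskerLeft_assoc, Category.assoc]
    apply isPullback_of_points _ _ _ _ hw'
    · intro T p₁ p₂ h12
      have h12' : (p₁ ≫ (G ◁ c')) ≫ j = (p₂ ≫ (G ◁ c')) ≫ j := by
        rw [Category.assoc, Category.assoc, ← hj'c, ← Category.assoc, h12, Category.assoc]
      have hl1 : hsq.lift _ _ h12' ≫ (ChGrp.twist i aZ).act = p₁ ≫ (G ◁ c') :=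
        hsq.lift_fst _ _ _
      have hl2 : hsq.lift _ _ h12' ≫ snd H (G ⊗ Z) = p₂ ≫ (G ◁ c') :=
        hsq.lift_snd _ _ _
      obtain ⟨wl, hwl⟩ : ∃ wl, wl = hsq.lift _ _ h12' := ⟨_, rfl⟩
      rw [← hwl] at hl1 hl2
      have hp₂ : p₂ = lift (p₂ ≫ fst G _) (p₂ ≫ snd G _) := by
        rw [← comp_lift, lift_fst_snd, Category.comp_id]
      have hwl' : wl = lift (wl ≫ fst _ _)
          (lift (p₂ ≫ fst G _) ((p₂ ≫ snd G _) ≫ c')) := by
        apply CartesianMonoidalCategory.hom_ext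
        · rw [lift_fst]
        · rw [lift_snd, hl2]
          conv_lhs => rw [hp₂]
          rw [lift_whiskerLeft]
      refine ⟨lift (wl ≫ fst _ _) p₂, ?_, lift_snd _ _⟩
      apply hmonoG
      rw [← hl1]
      conv_lhs => rw [hp₂]
      rw [hG, ← hwl']
    · intro T t t' h1 h2
      have e1 : t ≫ (H ◁ (G ◁ c')) = t' ≫ (H ◁ (G ◁ c')) := by
        apply hsq.hom_ext
        · rw [hsplit t, hsplit t', lift_whiskerLeft, lift_whiskerLeft, lift_whiskerLeft,
            lift_whiskerLeft, ← hG, ← hG, ← hsplit t, ← hsplit t', h1]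
        · rw [Category.assoc, Category.assoc, whiskerLeft_snd, ← Category.assoc,
            ← Category.assoc, h2]
      apply CartesianMonoidalCategory.hom_ext
      · have := congrArg (fun t => t ≫ fst H _) e1
        simpa using this
      · exact h2
  · -- local sections
    obtain ⟨R', hR', hlift⟩ := exists_cover_lift j.left hloc c.left
    refine ⟨R', hR', ?_⟩
    intro W f hf
    obtain ⟨c₀, hc₀⟩ := hlift f hf
    let W' : Over S := Over.mk (f ≫ Y'.hom)
    let y' : W' ⟶ Y' := Over.homMk f rfl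
    let p : W' ⟶ G ⊗ Z := Over.homMk c₀ (by
      change c₀ ≫ (G ⊗ Z).hom = f ≫ Y'.hom
      rw [← Over.w j, ← Category.assoc, hc₀, Category.assoc, Over.w])
    have hpj : p ≫ j = y' ≫ c := Over.OverMorphism.ext hc₀
    obtain ⟨g, hg⟩ : ∃ g : W' ⟶ G, g = p ≫ fst G Z := ⟨_, rfl⟩
    obtain ⟨z, hz⟩ : ∃ z : W' ⟶ Z, z = p ≫ snd G Z := ⟨_, rfl⟩
    have hp : p = lift g z := by
      rw [hg, hz, ← comp_lift, lift_fst_snd, Category.comp_id]
    rw [hp] at hpj
    obtain ⟨y'', hy''⟩ : ∃ y'' : W' ⟶ Y', y'' = lift g⁻¹ y' ≫ aY'.act := ⟨_, rfl⟩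
    have hy''c : z ≫ e = y'' ≫ c := by
      rw [hy'', Category.assoc, hcpt, ← hpj, ← j_mul aY j heq, inv_mul_cancel, hone]
    obtain ⟨z', hz'⟩ : ∃ z' : W' ⟶ Z', z' = hpb.lift z y'' hy''c := ⟨_, rfl⟩
    have hz'2 : z' ≫ e' = y'' := by rw [hz', hpb.lift_snd]
    have hfin : lift g z' ≫ j' = y' := by
      rw [hj'pt, hz'2, hy'', ← AlgGrp.Action.lift_mul_act, mul_inv_cancel,
        AlgGrp.Action.lift_one_act]
    refine ⟨(lift g z').left, ?_⟩
    change (lift g z').left ≫ j'.left = f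
    rw [← Over.comp_left, hfin]
    rfl

/-- **A `G`-stable subobject of a balanced product `G ×^H Z` is the balanced product of its
trace on `Z`.** -/
theorem sub_balProd (hY : ChGrp.IsBalProd Scheme.fppfPrecoverage i aZ aY j)
    (c : Y' ⟶ Y) [Mono c] (aY' : AlgGrp.Action G Y')
    (hc : AlgGrp.Action.IsEquivariant aY' aY c) :
    ∃ (Z' : Over S) (c' : Z' ⟶ Z) (e' : Z' ⟶ Y') (aZ' : AlgGrp.Action H Z')
      (j' : G ⊗ Z' ⟶ Y'),
      IsPullback c' e' (lift (toUnit Z ≫ η[G]) (𝟙 Z) ≫ j) c ∧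
      AlgGrp.Action.IsEquivariant aZ' aZ c' ∧
      j' ≫ c = (G ◁ c') ≫ j ∧ ChGrp.IsBalProd Scheme.fppfPrecoverage i aZ' aY' j' := by
  have hpb := IsPullback.of_hasPullback (lift (toUnit Z ≫ η[G]) (𝟙 Z) ≫ j) c
  obtain ⟨aZ', j', h1, h2, h3⟩ := sub_balProd_aux i aZ aY j hY c aY' hc _ _ _ rfl hpb
  exact ⟨_, _, _, aZ', j', hpb, h1, h2, h3⟩

end Groth.Agent.Lib.Helper10.BalProd
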