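import Mathlib
import Groth.Prelude.Def_ChGrp
import Groth.Agent.Lib.Helper10.BalProd3

/-!
# The stabilizer over a conjugacy class as a balanced product `G ×^Z X^h`
-/

set_option autoImplicit false
set_option backward.isDefEq.respectTransparency.types false
set_option maxHeartbeats 4000000
set_option synthInstance.maxHeartbeats 400000
universe u
open CategoryTheory CategoryTheory.Limits AlgebraicGeometry MonoidalCategory
  CartesianMonoidalCategory MonObj GrpObj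

namespace Groth.Agent.Lib.Helper10.BalProd

open Groth.Agent.Lib.Helper10.FppfLift

theorem conj_balProd
    {S : Scheme.{u}} {G X Z Ψ Xh SΨ : Over S} [GrpObj G] [GrpObj Z]
    (a : AlgGrp.Action G X) (h : 𝟙_ (Over S) ⟶ G)
    (i : Z ⟶ G) [IsMonHom i]
    (ψ : Ψ ⟶ G) [Mono ψ] (aΨ : AlgGrp.Action G Ψ)
    (hψ : aΨ.act ≫ ψ = fst G Ψ * (snd G Ψ ≫ ψ) * (fst G Ψ)⁻¹)
    (o : 𝟙_ (Over S) ⟶ Ψ) (ho : o ≫ ψ = h)
    (hhom : ChGrp.IsHomog Scheme.fppfPrecoverage i aΨ o)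
    (incl : Xh ⟶ X) [Mono incl]
    (hXh : ∀ (T : Over S) (x : T ⟶ X), (∃ y : T ⟶ Xh, y ≫ incl = x) ↔ lift (toUnit T ≫ h) x ≫ a.act = x)
    (aXh : AlgGrp.Action Z Xh) (hincl : AlgGrp.Action.IsEquivariant aXh (a.restrict i) incl)
    (σ : SΨ ⟶ G ⊗ X) [Mono σ]
    (hSΨ : ∀ (T : Over S) (g : T ⟶ G) (x : T ⟶ X),
      (∃ q : T ⟶ SΨ, q ≫ σ = lift g x) ↔ ((∃ y : T ⟶ Ψ, y ≫ ψ = g) ∧ lift g x ≫ a.act = x))
    (aS : AlgGrp.Action G SΨ)
    (hσ : aS.act ≫ σ = lift (fst G SΨ * (snd G SΨ ≫ σ ≫ fst G X) * (fst G SΨ)⁻¹)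
      (lift (fst G SΨ) (snd G SΨ ≫ σ ≫ snd G X) ≫ a.act))
    (Φ : G ⊗ Xh ⟶ SΨ)
    (hΦ : Φ ≫ σ = lift (fst G Xh * (toUnit (G ⊗ Xh) ≫ h) * (fst G Xh)⁻¹)
      (lift (fst G Xh) (snd G Xh ≫ incl) ≫ a.act)) :
    ChGrp.IsBalProd Scheme.fppfPrecoverage i aXh aS Φ := by
  obtain ⟨-, hsqQ, hlocQ⟩ := hhom
  obtain ⟨orb, horb⟩ : ∃ orb : G ⟶ Ψ, orb = aΨ.orbitMap o := ⟨_, rfl⟩
  rw [← horb] at hsqQ hlocQ
  -- (F1)
  have F1 : ∀ {T : Over S} (g : T ⟶ G), (g ≫ orb) ≫ ψ = g * (toUnit T ≫ h) * g⁻¹ := by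
    intro T g
    rw [horb, AlgGrp.Action.comp_orbitMap, Category.assoc, hψ, comp_mul, comp_mul, comp_inv,
      lift_fst, lift_snd_assoc, Category.assoc, ho]
  -- (F2)
  have F2 : ∀ {T : Over S} (g : T ⟶ G) (x : T ⟶ Xh),
      (lift g x ≫ Φ) ≫ σ = lift (g * (toUnit T ≫ h) * g⁻¹) (lift g (x ≫ incl) ≫ a.act) := by
    intro T g x
    rw [Category.assoc, hΦ, comp_lift, comp_mul, comp_mul, comp_inv, lift_fst, ← Category.assoc,
      toUnit_unique (lift g x ≫ toUnit (G ⊗ Xh)) (toUnit T), ← Category.assoc, comp_lift,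
      lift_fst, lift_snd_assoc]
  -- (F3)
  have F3 : ∀ {T : Over S} (g' : T ⟶ G) (s : T ⟶ SΨ),
      (lift g' s ≫ aS.act) ≫ σ =
        lift (g' * (s ≫ σ ≫ fst G X) * g'⁻¹) (lift g' (s ≫ σ ≫ snd G X) ≫ a.act) := by
    intro T g' s
    rw [Category.assoc, hσ, comp_lift]
    congr 1
    · rw [comp_mul, comp_mul, comp_inv, lift_fst, lift_snd_assoc]
    · rw [← Category.assoc, comp_lift, lift_fst, lift_snd_assoc]
  -- `Z` centralizes `h`
  have hcen : ∀ {T : Over S} (z : T ⟶ Z),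
      (z ≫ i) * (toUnit T ≫ h) = (toUnit T ≫ h) * (z ≫ i) := by
    intro T z
    have h1 : (1 : T ⟶ G) ≫ orb = ((1 : T ⟶ G) * (z ≫ i)) ≫ orb := by
      calc (1 : T ⟶ G) ≫ orb = (lift (1 : T ⟶ G) z ≫ fst G Z) ≫ orb := by rw [lift_fst]
        _ = lift (1 : T ⟶ G) z ≫ ((G ◁ i) ≫ μ[G]) ≫ orb := by rw [Category.assoc, hsqQ.w]
        _ = ((1 : T ⟶ G) * (z ≫ i)) ≫ orb := by
          rw [← Category.assoc, lift_whiskerLeft_assoc, ← Hom.mul_def]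
    have h2 : ((1 : T ⟶ G) ≫ orb) ≫ ψ = (((1 : T ⟶ G) * (z ≫ i)) ≫ orb) ≫ ψ := by rw [h1]
    rw [F1, F1, _root_.one_mul, inv_one, _root_.mul_one, _root_.one_mul] at h2
    exact (eq_mul_inv_iff_mul_eq.mp h2).symm
  -- equivariance of `incl`, points form
  have hinclpt : ∀ {T : Over S} (z : T ⟶ Z) (x : T ⟶ Xh),
      (lift z x ≫ aXh.act) ≫ incl = lift (z ≫ i) (x ≫ incl) ≫ a.act := by
    intro T z x
    have : aXh.act ≫ incl = (Z ◁ incl) ≫ (a.restrict i).act := hincl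
    rw [Category.assoc, this, lift_whiskerLeft_assoc, AlgGrp.Action.lift_restrict_act]
  have hsplit : ∀ {T : Over S} {A B : Over S} (p : T ⟶ A ⊗ B),
      p = lift (p ≫ fst A B) (p ≫ snd A B) := by
    intro T A B p
    rw [← comp_lift, lift_fst_snd, Category.comp_id]
  have hw : (ChGrp.twist i aXh).act ≫ Φ = snd Z (G ⊗ Xh) ≫ Φ := by
    rw [← cancel_mono σ]
    apply AlgGrp.Action.hom_ext_lift₂
    intro T z p
    rw [hsplit p]
    generalize p ≫ fst G Xh = g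
    generalize p ≫ snd G Xh = x
    rw [← Category.assoc, ← Category.assoc, ChGrp.lift_twist_act, F2, ← Category.assoc,
      ← Category.assoc, lift_snd, F2, hinclpt, ← AlgGrp.Action.lift_mul_act,
      inv_mul_cancel_right]
    congr 1
    have hc2 : (z ≫ i)⁻¹ * ((toUnit T ≫ h) * (z ≫ i)) = toUnit T ≫ h := by
      rw [← hcen z, inv_mul_cancel_left]
    calc g * (z ≫ i)⁻¹ * (toUnit T ≫ h) * (g * (z ≫ i)⁻¹)⁻¹
        = g * ((z ≫ i)⁻¹ * ((toUnit T ≫ h) * (z ≫ i))) * g⁻¹ := by group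
      _ = _ := by rw [hc2]
  refine ⟨?_, ?_, ?_⟩
  · -- equivariance
    change _ ≫ Φ = (G ◁ Φ) ≫ aS.act
    rw [← cancel_mono σ]
    apply AlgGrp.Action.hom_ext_lift₂
    intro T g' p
    rw [hsplit p]
    generalize p ≫ fst G Xh = g
    generalize p ≫ snd G Xh = x
    rw [← Category.assoc, ← Category.assoc, AlgGrp.Action.lift_prod_act,
      AlgGrp.Action.lift_trivial_act]
    change (lift (g' * g) x ≫ Φ) ≫ σ = _
    rw [F2, ← Category.assoc, ← Category.assoc, lift_whiskerLeft, F3, ← Category.assoc,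
      ← Category.assoc, F2, lift_fst, lift_snd, AlgGrp.Action.lift_mul_act]
    congr 1
    rw [_root_.mul_inv_rev]
    simp only [_root_.mul_assoc]
  · -- the cartesian square
    apply isPullback_of_points _ _ _ _ hw
    · intro T p₁ p₂ h12
      have h12' : (p₁ ≫ Φ) ≫ σ = (p₂ ≫ Φ) ≫ σ := by rw [h12]
      rw [hsplit p₁, hsplit p₂] at h12'
      obtain ⟨g₁, hg₁⟩ : ∃ g₁ : T ⟶ G, g₁ = p₁ ≫ fst G Xh := ⟨_, rfl⟩
      obtain ⟨x₁, hx₁⟩ : ∃ x₁ : T ⟶ Xh, x₁ = p₁ ≫ snd G Xh := ⟨_, rfl⟩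
      obtain ⟨g₂, hg₂⟩ : ∃ g₂ : T ⟶ G, g₂ = p₂ ≫ fst G Xh := ⟨_, rfl⟩
      obtain ⟨x₂, hx₂⟩ : ∃ x₂ : T ⟶ Xh, x₂ = p₂ ≫ snd G Xh := ⟨_, rfl⟩
      rw [← hg₁, ← hx₁, ← hg₂, ← hx₂, F2, F2] at h12'
      have ha := congrArg (fun t => t ≫ fst G X) h12'
      have hb := congrArg (fun t => t ≫ snd G X) h12'
      simp only [lift_fst, lift_snd] at ha hb
      have horb12 : g₁ ≫ orb = g₂ ≫ orb := by
        rw [← cancel_mono ψ, F1, F1, ha]
      obtain ⟨w, hw1, hw2⟩ : ∃ w : T ⟶ G ⊗ Z, w ≫ fst G Z = g₁ ∧ w ≫ (G ◁ i) ≫ μ[G] = g₂ :=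
        ⟨hsqQ.lift _ _ horb12, hsqQ.lift_fst _ _ _, hsqQ.lift_snd _ _ _⟩
      obtain ⟨z, hz⟩ : ∃ z : T ⟶ Z, z = w ≫ snd G Z := ⟨_, rfl⟩
      have hg12 : g₂ = g₁ * (z ≫ i) := by
        rw [← hw2, hsplit w, ← Category.assoc, lift_whiskerLeft, ← Hom.mul_def, hw1, hz]
      refine ⟨lift z p₂, ?_, lift_snd _ _⟩
      rw [hsplit p₂, ← hg₂, ← hx₂, ChGrp.lift_twist_act, hsplit p₁, ← hg₁, ← hx₁]
      congr 1
      · rw [hg12, mul_inv_cancel_right]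
      · rw [← cancel_mono incl, hinclpt]
        have : x₁ ≫ incl = lift g₁⁻¹ (lift g₁ (x₁ ≫ incl) ≫ a.act) ≫ a.act := by
          rw [← AlgGrp.Action.lift_mul_act, inv_mul_cancel, AlgGrp.Action.lift_one_act]
        rw [this, hb, ← AlgGrp.Action.lift_mul_act, hg12, inv_mul_cancel_left]
    · intro T t t' h1 h2
      obtain ⟨z, hz⟩ : ∃ z : T ⟶ Z, z = t ≫ fst Z _ := ⟨_, rfl⟩
      obtain ⟨z', hz'⟩ : ∃ z' : T ⟶ Z, z' = t' ≫ fst Z _ := ⟨_, rfl⟩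
      obtain ⟨g, hg⟩ : ∃ g : T ⟶ G, g = (t ≫ snd Z _) ≫ fst G Xh := ⟨_, rfl⟩
      obtain ⟨x, hx⟩ : ∃ x : T ⟶ Xh, x = (t ≫ snd Z _) ≫ snd G Xh := ⟨_, rfl⟩
      have ht : t = lift z (lift g x) := by
        rw [hz, hg, hx, ← hsplit, ← hsplit]
      have ht' : t' = lift z' (lift g x) := by
        rw [hz', hg, hx, ← hsplit, h2, ← hsplit]
      rw [ht, ht', ChGrp.lift_twist_act, ChGrp.lift_twist_act] at h1
      have e1 : g * (z ≫ i)⁻¹ = g * (z' ≫ i)⁻¹ := by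
        have := congrArg (fun s => s ≫ fst G Xh) h1
        simpa only [lift_fst] using this
      have e2 : z ≫ i = z' ≫ i := inv_injective (mul_left_cancel e1)
      have e3 : lift (1 : T ⟶ G) z = lift (1 : T ⟶ G) z' := by
        apply hsqQ.hom_ext
        · rw [lift_fst, lift_fst]
        · rw [← Category.assoc, ← Category.assoc, lift_whiskerLeft, lift_whiskerLeft, e2]
      have e4 : z = z' := by
        have := congrArg (fun s => s ≫ snd G Z) e3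
        simpa only [lift_snd] using this
      rw [ht, ht', e4]
  · -- local sections
    have huniv := (hSΨ SΨ (σ ≫ fst G X) (σ ≫ snd G X)).mp ⟨𝟙 _, by
      rw [Category.id_comp, ← comp_lift, lift_fst_snd, Category.comp_id]⟩
    obtain ⟨⟨y, hy⟩, hfix⟩ := huniv
    obtain ⟨R', hR', hlift⟩ := exists_cover_lift orb.left hlocQ y.left
    refine ⟨R', hR', ?_⟩
    intro W f hf
    obtain ⟨c₀, hc₀⟩ := hlift f hf
    let W' : Over S := Over.mk (f ≫ SΨ.hom)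
    let s : W' ⟶ SΨ := Over.homMk f rfl
    let g : W' ⟶ G := Over.homMk c₀ (by
      change c₀ ≫ G.hom = f ≫ SΨ.hom
      rw [← Over.w orb, ← Category.assoc, hc₀, Category.assoc, Over.w])
    have hgs : g ≫ orb = s ≫ y := Over.OverMorphism.ext hc₀
    obtain ⟨gm, hgm⟩ : ∃ gm : W' ⟶ G, gm = s ≫ σ ≫ fst G X := ⟨_, rfl⟩
    obtain ⟨x, hx⟩ : ∃ x : W' ⟶ X, x = s ≫ σ ≫ snd G X := ⟨_, rfl⟩
    have hgm' : gm = g * (toUnit W' ≫ h) * g⁻¹ := by
      rw [← F1, hgs, Category.assoc, hy, hgm]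
    have hfix' : lift gm x ≫ a.act = x := by
      have : s ≫ lift (σ ≫ fst G X) (σ ≫ snd G X) ≫ a.act = s ≫ σ ≫ snd G X := by rw [hfix]
      rw [← Category.assoc, comp_lift] at this
      rw [hgm, hx]
      exact this
    obtain ⟨x₀, hx₀⟩ : ∃ x₀ : W' ⟶ X, x₀ = lift g⁻¹ x ≫ a.act := ⟨_, rfl⟩
    have hx₀fix : lift (toUnit W' ≫ h) x₀ ≫ a.act = x₀ := by
      rw [hx₀, ← AlgGrp.Action.lift_mul_act]
      have : (toUnit W' ≫ h) * g⁻¹ = g⁻¹ * gm := by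
        rw [hgm']
        group
      rw [this, AlgGrp.Action.lift_mul_act, hfix']
    obtain ⟨x₀', hx₀'⟩ := (hXh W' x₀).mpr hx₀fix
    have hfin : lift g x₀' ≫ Φ = s := by
      rw [← cancel_mono σ, F2, hx₀', hx₀, ← AlgGrp.Action.lift_mul_act, mul_inv_cancel,
        AlgGrp.Action.lift_one_act, ← hgm', hgm, hx, ← comp_lift, ← comp_lift, lift_fst_snd,
        Category.comp_id]
    refine ⟨(lift g x₀').left, ?_⟩
    change (lift g x₀').left ≫ Φ.left = f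
    rw [← Over.comp_left, hfin]
    rfl

end Groth.Agent.Lib.Helper10.BalProd
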