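import Mathlib
import Groth.Prelude.Def_ChGrp
import Groth.Agent.Lib.Helper10.BalProd4
import Groth.Agent.Lib.Helper12.ClosedImmersionDescent
import Groth.Agent.Lib.Helper24.FpqcLocal

/-!
# The fixed locus of a central element in a balanced product
-/

set_option autoImplicit false
set_option backward.isDefEq.respectTransparency.types false
set_option maxHeartbeats 4000000
set_option synthInstance.maxHeartbeats 400000
universe u
open CategoryTheory CategoryTheory.Limits AlgebraicGeometry MonoidalCategory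
  CartesianMonoidalCategory MonObj GrpObj

namespace Groth.Agent.Lib.Helper10.BalProd

open Groth.Agent.Lib.Helper10.FppfLift

/-- `A ⊗ X' ⟶ A ⊗ X` is the base change of `X' ⟶ X`. -/
theorem isPullback_whiskerLeft {S : Scheme.{u}} (A : Over S) {X' X : Over S} (f : X' ⟶ X) :
    IsPullback (snd A X') (A ◁ f) f (snd A X) := by
  apply isPullback_of_points _ _ _ _ (whiskerLeft_snd A f).symm
  · intro T x p hxp
    refine ⟨lift (p ≫ fst A X) x, lift_snd _ _, ?_⟩
    rw [lift_whiskerLeft, hxp, ← comp_lift, lift_fst_snd, Category.comp_id]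
  · intro T t t' h1 h2
    apply CartesianMonoidalCategory.hom_ext
    · have := congrArg (fun s => s ≫ fst A X) h2
      simpa using this
    · exact h1

section

variable {S : Scheme.{u}} {Q G X Xh Y Y' : Over S} [GrpObj Q] [GrpObj G]
    (i : G ⟶ Q) [IsMonHom i] [Mono i]
    (h : 𝟙_ (Over S) ⟶ G)
    (hcent : ∀ (T : Over S) (q : T ⟶ Q), q * (toUnit T ≫ h ≫ i) = (toUnit T ≫ h ≫ i) * q)
    (a : AlgGrp.Action G X)
    (incl : Xh ⟶ X) [Mono incl]
    (hXh : ∀ (T : Over S) (x : T ⟶ X), (∃ y : T ⟶ Xh, y ≫ incl = x) ↔ lift (toUnit T ≫ h) x ≫ a.act = x)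
    (aXh : AlgGrp.Action G Xh) (hincl : AlgGrp.Action.IsEquivariant aXh a incl)
    (aY : AlgGrp.Action Q Y) (j : Q ⊗ X ⟶ Y) (hY : ChGrp.IsBalProd Scheme.fppfPrecoverage i a aY j)
    (aY' : AlgGrp.Action Q Y') (j' : Q ⊗ Xh ⟶ Y') (hY' : ChGrp.IsBalProd Scheme.fppfPrecoverage i aXh aY' j')
    (m : Y' ⟶ Y) (hm : j' ≫ m = (Q ◁ incl) ≫ j)

include hY hY' hm hincl in
omit [Mono i] in
/-- injectivity of `m` on points in the image of `j'`. -/
theorem fix_PL1 {T : Over S} (p₁ p₂ : T ⟶ Q ⊗ Xh) (h12 : (p₁ ≫ j') ≫ m = (p₂ ≫ j') ≫ m) :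
    p₁ ≫ j' = p₂ ≫ j' := by
  obtain ⟨-, hsq, -⟩ := hY
  obtain ⟨-, hsq', -⟩ := hY'
  have hsplit : ∀ {A B : Over S} (p : T ⟶ A ⊗ B), p = lift (p ≫ fst A B) (p ≫ snd A B) := by
    intro A B p
    rw [← comp_lift, lift_fst_snd, Category.comp_id]
  have h12' : (p₁ ≫ (Q ◁ incl)) ≫ j = (p₂ ≫ (Q ◁ incl)) ≫ j := by
    rw [Category.assoc, Category.assoc, ← hm, ← Category.assoc, ← Category.assoc, h12]
  obtain ⟨w, hw1, hw2⟩ : ∃ w : T ⟶ G ⊗ (Q ⊗ X), w ≫ (ChGrp.twist i a).act = p₁ ≫ (Q ◁ incl) ∧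
      w ≫ snd _ _ = p₂ ≫ (Q ◁ incl) := ⟨hsq.lift _ _ h12', hsq.lift_fst _ _ _, hsq.lift_snd _ _ _⟩
  obtain ⟨g, hg⟩ : ∃ g : T ⟶ G, g = w ≫ fst _ _ := ⟨_, rfl⟩
  obtain ⟨q₁, hq₁⟩ : ∃ q₁ : T ⟶ Q, q₁ = p₁ ≫ fst _ _ := ⟨_, rfl⟩
  obtain ⟨x₁, hx₁⟩ : ∃ x₁ : T ⟶ Xh, x₁ = p₁ ≫ snd _ _ := ⟨_, rfl⟩
  obtain ⟨q₂, hq₂⟩ : ∃ q₂ : T ⟶ Q, q₂ = p₂ ≫ fst _ _ := ⟨_, rfl⟩
  obtain ⟨x₂, hx₂⟩ : ∃ x₂ : T ⟶ Xh, x₂ = p₂ ≫ snd _ _ := ⟨_, rfl⟩
  have hp₁ : p₁ = lift q₁ x₁ := by rw [hq₁, hx₁, ← hsplit]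
  have hp₂ : p₂ = lift q₂ x₂ := by rw [hq₂, hx₂, ← hsplit]
  have hw' : w = lift g (lift q₂ (x₂ ≫ incl)) := by
    rw [hsplit w, ← hg, hw2, hp₂, lift_whiskerLeft]
  rw [hw', ChGrp.lift_twist_act, hp₁, lift_whiskerLeft] at hw1
  have e1 : q₂ * (g ≫ i)⁻¹ = q₁ := by
    have := congrArg (fun s => s ≫ fst Q X) hw1
    simpa only [lift_fst] using this
  have e2 : lift g (x₂ ≫ incl) ≫ a.act = x₁ ≫ incl := by
    have := congrArg (fun s => s ≫ snd Q X) hw1
    simpa only [lift_snd] using this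
  have hincl' : aXh.act ≫ incl = (G ◁ incl) ≫ a.act := hincl
  have e3 : lift g x₂ ≫ aXh.act = x₁ := by
    rw [← cancel_mono incl, Category.assoc, hincl', lift_whiskerLeft_assoc, e2]
  have e4 : p₁ = lift g p₂ ≫ (ChGrp.twist i aXh).act := by
    rw [hp₂, ChGrp.lift_twist_act, e1, e3, hp₁]
  rw [e4, Category.assoc, hsq'.w, lift_snd_assoc]

include hY hY' hm hincl in
omit [Mono i] in
theorem fix_mono : Mono m := by
  obtain ⟨-, -, hloc'⟩ := id hY'
  refine ⟨fun {T} y₁ y₂ h12 => ?_⟩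
  apply Over.OverMorphism.ext
  apply hom_ext_of_lift j'.left hloc' y₁.left
  intro W f c₁ hc₁
  apply hom_ext_of_lift j'.left hloc' (f ≫ y₂.left)
  intro W₂ f₂ c₂ hc₂
  let W' : Over S := Over.mk ((f₂ ≫ f) ≫ T.hom)
  let t : W' ⟶ T := Over.homMk (f₂ ≫ f) rfl
  let p₁ : W' ⟶ Q ⊗ Xh := Over.homMk (f₂ ≫ c₁) (by
    change (f₂ ≫ c₁) ≫ (Q ⊗ Xh).hom = (f₂ ≫ f) ≫ T.hom
    rw [← Over.w j', Category.assoc, ← Category.assoc c₁, hc₁, ← Over.w y₁]
    simp only [Category.assoc])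
  let p₂ : W' ⟶ Q ⊗ Xh := Over.homMk c₂ (by
    change c₂ ≫ (Q ⊗ Xh).hom = (f₂ ≫ f) ≫ T.hom
    rw [← Over.w j', ← Category.assoc, hc₂, ← Over.w y₂]
    simp only [Category.assoc])
  have hp₁ : p₁ ≫ j' = t ≫ y₁ := by
    apply Over.OverMorphism.ext
    change (f₂ ≫ c₁) ≫ j'.left = (f₂ ≫ f) ≫ y₁.left
    rw [Category.assoc, hc₁, Category.assoc]
  have hp₂ : p₂ ≫ j' = t ≫ y₂ := by
    apply Over.OverMorphism.ext
    change c₂ ≫ j'.left = (f₂ ≫ f) ≫ y₂.left
    rw [hc₂, Category.assoc]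
  have := fix_PL1 i a incl aXh hincl aY j hY aY' j' hY' m hm p₁ p₂ (by
    rw [hp₁, hp₂, Category.assoc, Category.assoc, h12])
  rw [hp₁, hp₂] at this
  have := congrArg (fun s => s.left) this
  simpa [t] using this

include hY hcent in
omit [Mono i] in
/-- the central element acts on `j (q, x)` through the second coordinate. -/
theorem fix_PL2 {T : Over S} (q : T ⟶ Q) (x : T ⟶ X) :
    lift (toUnit T ≫ h ≫ i) (lift q x ≫ j) ≫ aY.act =
      lift q (lift (toUnit T ≫ h) x ≫ a.act) ≫ j := by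
  obtain ⟨heq, hsq, -⟩ := hY
  rw [← j_mul aY j heq, ← hcent, j_act i a j hsq.w, Category.assoc]

include hY in
/-- freeness in the first coordinate. -/
theorem fix_PL3 {T : Over S} (q : T ⟶ Q) (x x' : T ⟶ X)
    (hx : lift q x' ≫ j = lift q x ≫ j) : x' = x := by
  obtain ⟨-, hsq, -⟩ := hY
  have hsplit : ∀ {A B : Over S} (p : T ⟶ A ⊗ B), p = lift (p ≫ fst A B) (p ≫ snd A B) := by
    intro A B p
    rw [← comp_lift, lift_fst_snd, Category.comp_id]
  obtain ⟨w, hw1, hw2⟩ : ∃ w : T ⟶ G ⊗ (Q ⊗ X), w ≫ (ChGrp.twist i a).act = lift q x' ∧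
      w ≫ snd _ _ = lift q x := ⟨hsq.lift _ _ hx, hsq.lift_fst _ _ _, hsq.lift_snd _ _ _⟩
  obtain ⟨g, hg⟩ : ∃ g : T ⟶ G, g = w ≫ fst _ _ := ⟨_, rfl⟩
  have hw' : w = lift g (lift q x) := by
    rw [hsplit w, ← hg, hw2]
  rw [hw', ChGrp.lift_twist_act] at hw1
  have e1 : q * (g ≫ i)⁻¹ = q := by
    have := congrArg (fun s => s ≫ fst Q X) hw1
    simpa only [lift_fst] using this
  have e2 : lift g x ≫ a.act = x' := by
    have := congrArg (fun s => s ≫ snd Q X) hw1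
    simpa only [lift_snd] using this
  have e3 : g ≫ i = 1 := by
    have : (g ≫ i)⁻¹ = 1 := mul_left_cancel (a := q) (by rw [e1, _root_.mul_one])
    exact inv_eq_one.mp this
  have e4 : g = 1 := by
    rw [← cancel_mono i, e3, MonObj.one_comp]
  rw [← e2, e4, AlgGrp.Action.lift_one_act]

include hY hY' hm hXh hcent in
omit [Mono i] [Mono incl] in
/-- points of `Y'` are fixed by `h`. -/
theorem fix_of_factor {T : Over S} (y' : T ⟶ Y') :
    lift (toUnit T ≫ h ≫ i) (y' ≫ m) ≫ aY.act = y' ≫ m := by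
  obtain ⟨-, -, hloc'⟩ := id hY'
  apply Over.OverMorphism.ext
  apply hom_ext_of_lift j'.left hloc' y'.left
  intro W f c hc
  let W' : Over S := Over.mk (f ≫ T.hom)
  let t : W' ⟶ T := Over.homMk f rfl
  let p : W' ⟶ Q ⊗ Xh := Over.homMk c (by
    change c ≫ (Q ⊗ Xh).hom = f ≫ T.hom
    rw [← Over.w j', ← Category.assoc, hc, ← Over.w y']
    simp only [Category.assoc])
  have hp : p ≫ j' = t ≫ y' := Over.OverMorphism.ext hc
  have hsplit : p = lift (p ≫ fst Q Xh) (p ≫ snd Q Xh) := by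
    rw [← comp_lift, lift_fst_snd, Category.comp_id]
  have key : t ≫ lift (toUnit T ≫ h ≫ i) (y' ≫ m) ≫ aY.act = t ≫ y' ≫ m := by
    have e1 : t ≫ y' ≫ m = lift (p ≫ fst Q Xh) ((p ≫ snd Q Xh) ≫ incl) ≫ j := by
      rw [← Category.assoc, ← hp, Category.assoc, hm, ← Category.assoc]
      conv_lhs => rw [hsplit]
      rw [lift_whiskerLeft]
    rw [← Category.assoc, comp_lift, ← Category.assoc, toUnit_unique (t ≫ toUnit T) (toUnit W'),
      e1, fix_PL2 i h hcent a aY j hY]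
    congr 2
    exact (hXh W' _).mp ⟨_, rfl⟩
  have := congrArg (fun s => s.left) key
  simpa [t] using this

include hY hY' hm hXh hcent hincl in
/-- fixed points of `h` on `Y` come from `Y'`. -/
theorem factor_of_fix {T : Over S} (y : T ⟶ Y)
    (hy : lift (toUnit T ≫ h ≫ i) y ≫ aY.act = y) : ∃ y' : T ⟶ Y', y' ≫ m = y := by
  obtain ⟨-, -, hloc⟩ := id hY
  haveI := fix_mono i a incl aXh hincl aY j hY aY' j' hY' m hm
  obtain ⟨R', hR', hlift⟩ := exists_cover_lift j.left hloc y.left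
  have hloc_lift : ∀ ⦃W : Scheme.{u}⦄ (f : W ⟶ T.left), R' f →
      ∃ y'f : W ⟶ Y'.left, y'f ≫ m.left = f ≫ y.left := by
    intro W f hf
    obtain ⟨c, hc⟩ := hlift f hf
    let W' : Over S := Over.mk (f ≫ T.hom)
    let t : W' ⟶ T := Over.homMk f rfl
    let p : W' ⟶ Q ⊗ X := Over.homMk c (by
      change c ≫ (Q ⊗ X).hom = f ≫ T.hom
      rw [← Over.w j, ← Category.assoc, hc, ← Over.w y]
      simp only [Category.assoc])
    have hp : p ≫ j = t ≫ y := Over.OverMorphism.ext hc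
    obtain ⟨q, hq⟩ : ∃ q : W' ⟶ Q, q = p ≫ fst _ _ := ⟨_, rfl⟩
    obtain ⟨x, hx⟩ : ∃ x : W' ⟶ X, x = p ≫ snd _ _ := ⟨_, rfl⟩
    have hsplit : p = lift q x := by
      rw [hq, hx, ← comp_lift, lift_fst_snd, Category.comp_id]
    have hfix : lift (toUnit W' ≫ h ≫ i) (lift q x ≫ j) ≫ aY.act = lift q x ≫ j := by
      rw [← hsplit, hp]
      have : t ≫ lift (toUnit T ≫ h ≫ i) y ≫ aY.act = t ≫ y := by rw [hy]
      rw [← Category.assoc, comp_lift, ← Category.assoc,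
        toUnit_unique (t ≫ toUnit T) (toUnit W')] at this
      exact this
    rw [fix_PL2 i h hcent a aY j hY] at hfix
    have hx' := fix_PL3 i a aY j hY q x _ hfix
    obtain ⟨x₀, hx₀⟩ := (hXh W' x).mpr hx'
    refine ⟨(lift q x₀ ≫ j').left, ?_⟩
    rw [← Over.comp_left, Category.assoc, hm, lift_whiskerLeft_assoc, hx₀, ← hsplit, hp]
    rfl
  choose y'f hy'f using hloc_lift
  obtain ⟨ψ, hψ⟩ := exists_glue R' hR' (Z := Y'.left) (fun W f hf => y'f f hf) (by
    intro T₁ T₂ W g₁ g₂ f₁ f₂ h₁ h₂ e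
    rw [← cancel_mono m.left, Category.assoc, Category.assoc, hy'f, hy'f, ← Category.assoc,
      ← Category.assoc, e])
  have hψm : ψ ≫ m.left = y.left := by
    apply hom_ext_of_mem_fppfPrecoverage _ _ R' hR'
    intro W f hf
    rw [← Category.assoc, hψ f hf, hy'f]
  refine ⟨Over.homMk ψ ?_, Over.OverMorphism.ext hψm⟩
  rw [← Over.w m, ← Category.assoc, hψm, Over.w]

include hY hY' hm hXh hcent hincl in
/-- the square `j', Q ◁ incl, m, j` is cartesian. -/
theorem fix_isPullback : IsPullback j' (Q ◁ incl) m j := by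
  haveI := fix_mono i a incl aXh hincl aY j hY aY' j' hY' m hm
  apply isPullback_of_points _ _ _ _ hm
  · intro T y' p hyp
    have hsplit : p = lift (p ≫ fst Q X) (p ≫ snd Q X) := by
      rw [← comp_lift, lift_fst_snd, Category.comp_id]
    have h1 := fix_of_factor i h hcent a incl hXh aXh aY j hY aY' j' hY' m hm y'
    rw [hyp, hsplit, fix_PL2 i h hcent a aY j hY] at h1
    have hx' := fix_PL3 i a aY j hY _ _ _ h1
    obtain ⟨x₀, hx₀⟩ := (hXh T _).mpr hx'
    have e1 : lift (p ≫ fst Q X) x₀ ≫ (Q ◁ incl) = p := by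
      rw [lift_whiskerLeft, hx₀, ← hsplit]
    refine ⟨lift (p ≫ fst Q X) x₀, ?_, e1⟩
    rw [← cancel_mono m, Category.assoc, hm, ← Category.assoc, e1, hyp]
  · intro T t t' _ h2
    apply CartesianMonoidalCategory.hom_ext
    · have := congrArg (fun s => s ≫ fst Q X) h2
      simpa using this
    · have := congrArg (fun s => s ≫ snd Q X) h2
      simp only [Category.assoc, whiskerLeft_snd] at this
      rw [← cancel_mono incl, Category.assoc, Category.assoc, this]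

include hY hY' hm hXh hcent hincl in
theorem fix_isClosedImmersion (hcl : IsClosedImmersion incl.left) : IsClosedImmersion m.left := by
  obtain ⟨-, -, hloc⟩ := id hY
  have hcart := (fix_isPullback i h hcent a incl hXh aXh hincl aY j hY aY' j' hY' m hm).map
    (Over.forget S)
  have hcart' : IsPullback j'.left (Q ◁ incl).left m.left j.left := hcart
  have hwl : IsClosedImmersion (Q ◁ incl).left := by
    have := (isPullback_whiskerLeft Q incl).map (Over.forget S)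
    have h' : IsPullback (snd Q Xh).left (Q ◁ incl).left incl.left (snd Q X).left := this
    exact MorphismProperty.of_isPullback (P := @IsClosedImmersion) h' hcl
  obtain ⟨R, hR, hsec⟩ := hloc
  haveI : MorphismProperty.DescendsAlong @IsClosedImmersion
      (@Surjective ⊓ @Flat ⊓ @QuasiCompact : MorphismProperty Scheme.{u}) :=
    Groth.Agent.Lib.Helper12.descendsAlong_isClosedImmersion
  apply Groth.Agent.Lib.Helper24.FpqcLocal.of_fpqc_presieve (P := @IsClosedImmersion) m.left R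
    (Scheme.fppfPrecoverage_le_fpqcPrecoverage _ hR)
  intro U g hg
  obtain ⟨s, hs⟩ := hsec g hg
  have hs' : s ≫ j.left = g := hs
  have hcond : pullback.fst m.left g ≫ m.left = (pullback.snd m.left g ≫ s) ≫ j.left := by
    rw [Category.assoc, hs', pullback.condition]
  have hleft : IsPullback (hcart'.lift _ _ hcond) (pullback.snd m.left g) (Q ◁ incl).left s := by
    apply IsPullback.of_right _ (hcart'.lift_snd _ _ hcond) hcart'
    rw [hcart'.lift_fst, hs']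
    exact IsPullback.of_hasPullback m.left g
  exact MorphismProperty.of_isPullback (P := @IsClosedImmersion) hleft hwl

end

end Groth.Agent.Lib.Helper10.BalProd
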