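import Mathlib
import Groth.Prelude.Def_BlowUp2
import Groth.Prelude.Def_W4c2submetdescSubtr

set_option autoImplicit false
set_option linter.unusedSectionVars false
set_option linter.style.haveILetI false
set_option backward.isDefEq.respectTransparency.types false
set_option maxHeartbeats 4000000
set_option synthInstance.maxHeartbeats 400000

universe u

open CategoryTheory CategoryTheory.Limits AlgebraicGeometry Opposite

namespace Groth.Agent.Lib.Helper10.BlowOpen

/-- The unit ideal sheaf is effective Cartier (generated by `1`). -/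
lemma isEffCartierIdeal_top {X : Scheme.{u}} :
    BlowUp.IsEffCartierIdeal (⊤ : X.IdealSheafData) := by
  intro x
  obtain ⟨_, ⟨V, hV : IsAffineOpen V, rfl⟩, hxV, -⟩ :=
    X.isBasis_affineOpens.exists_subset_of_mem_open (Set.mem_univ x) isOpen_univ
  refine ⟨⟨V, hV⟩, hxV, 1, one_mem _, ?_⟩
  rw [Scheme.IdealSheafData.ideal_top]
  simp

/-- Every point has a generization outside the support of an effective Cartier ideal sheaf. -/
lemma exists_specializes_not_mem_support {X : Scheme.{u}} (𝓙 : X.IdealSheafData)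
    (h : BlowUp.IsEffCartierIdeal 𝓙) (x : X) : ∃ ξ : X, ξ ⤳ x ∧ ξ ∉ 𝓙.support := by
  obtain ⟨V, hxV, f, hf, hI⟩ := h x
  set p := V.2.primeIdealOf ⟨x, hxV⟩ with hp
  obtain ⟨q, hq, hqp⟩ := Ideal.exists_minimalPrimes_le (I := (⊥ : Ideal Γ(X, V.1)))
    (J := p.asIdeal) bot_le
  have hqprime : q.IsPrime := hq.1.1
  have hfq : f ∉ q := fun hfq =>
    Set.disjoint_left.mp (Ideal.disjoint_nonZeroDivisors_of_mem_minimalPrimes hq) hfq hf
  let q' : PrimeSpectrum Γ(X, V.1) := ⟨q, hqprime⟩
  refine ⟨V.2.fromSpec q', ?_, ?_⟩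
  · have h1 : q' ⤳ p := (PrimeSpectrum.le_iff_specializes q' p).mp hqp
    have h2 := h1.map V.2.fromSpec.continuous
    rwa [hp, V.2.fromSpec_primeIdealOf] at h2
  · have hξV : V.2.fromSpec q' ∈ V.1 := by
      have : V.2.fromSpec q' ∈ Set.range V.2.fromSpec := ⟨_, rfl⟩
      rwa [V.2.range_fromSpec] at this
    rw [Scheme.IdealSheafData.mem_support_iff_of_mem hξV, Scheme.mem_zeroLocus_iff]
    intro hz
    apply hz f (by rw [hI]; exact Ideal.subset_span rfl)
    change q' ∈ V.2.fromSpec ⁻¹ᵁ X.basicOpen f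
    rw [V.2.fromSpec_preimage_basicOpen]
    exact hfq

end Groth.Agent.Lib.Helper10.BlowOpen
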