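import Mathlib
import Groth.Agent.Lib.Helper10.BlowOpen1

set_option autoImplicit false
set_option linter.unusedSectionVars false
set_option linter.style.haveILetI false
set_option backward.isDefEq.respectTransparency.types false
set_option maxHeartbeats 4000000
set_option synthInstance.maxHeartbeats 400000

universe u

open CategoryTheory CategoryTheory.Limits AlgebraicGeometry Opposite

namespace Groth.Agent.Lib.Helper10.BlowOpen

/-- Over the complement of the centre, the two projections of `X' ×_X X'` agree, for a blow-up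
`b : X' ⟶ X` (universal property). -/
lemma fst_eq_snd_of_isBlowUp {X X' : Scheme.{u}} (𝓘 : X.IdealSheafData) (b : X' ⟶ X)
    (hb : BlowUp.IsBlowUp b 𝓘) (PW : (pullback b b).Opens)
    (hPW : ∀ y ∈ PW, (pullback.snd b b ≫ b) y ∉ 𝓘.support) :
    PW.ι ≫ pullback.fst b b = PW.ι ≫ pullback.snd b b := by
  have htop : 𝓘.comap (PW.ι ≫ pullback.snd b b ≫ b) = ⊤ := by
    rw [← Scheme.IdealSheafData.support_eq_bot_iff]
    ext y
    simp only [Scheme.IdealSheafData.support_comap]
    constructor
    · intro hy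
      exact absurd hy (by
        have := hPW (PW.ι y) (by simpa using y.2)
        simpa using this)
    · intro hy
      exact absurd hy (by simp)
  have hcart : BlowUp.IsEffCartierIdeal (𝓘.comap (PW.ι ≫ pullback.snd b b ≫ b)) := by
    rw [htop]; exact isEffCartierIdeal_top
  exact (hb.2 _ _ hcart).unique (by simp [pullback.condition]) (by simp)

theorem eq_top_of_univSSubtrusive {X X' : Scheme.{u}} (𝓘 : X.IdealSheafData) (b : X' ⟶ X)
    [IsSeparated b] (hb : BlowUp.IsBlowUp b 𝓘) (U : X'.Opens)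
    (hU : Subtr.UnivSSubtrusive (U.ι ≫ b)) : U = ⊤ := by
  rw [eq_top_iff]
  rintro x' -
  obtain ⟨ξ', hξx, hξ⟩ := exists_specializes_not_mem_support _ hb.1 x'
  have hsnd : Subtr.IsSSubtrusive (pullback.snd (U.ι ≫ b) b) :=
    hU _ _ _ (IsPullback.of_hasPullback (U.ι ≫ b) b).flip
  obtain ⟨z, zξ, hz, hzx, hzξ⟩ := hsnd hξx
  let m : pullback (U.ι ≫ b) b ⟶ pullback b b :=
    pullback.map _ _ _ _ U.ι (𝟙 _) (𝟙 _) (by simp) (by simp)
  have hm_fst : m ≫ pullback.fst b b = pullback.fst _ _ ≫ U.ι := by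
    dsimp only [m, pullback.map]; exact pullback.lift_fst _ _ _
  have hm_snd : m ≫ pullback.snd b b = pullback.snd _ _ := by
    dsimp only [m, pullback.map]; exact (pullback.lift_snd _ _ _).trans (Category.comp_id _)
  let W : X.Opens := ⟨(𝓘.support : Set X)ᶜ, 𝓘.support.isClosed.isOpen_compl⟩
  let PW : (pullback b b).Opens := (pullback.snd b b ≫ b) ⁻¹ᵁ W
  have key : PW.ι ≫ pullback.fst b b = PW.ι ≫ pullback.snd b b :=
    fst_eq_snd_of_isBlowUp 𝓘 b hb PW (fun y hy => hy)
  have hclosed : IsClosed (Set.range (pullback.diagonal b)) :=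
    (pullback.diagonal b).isClosedEmbedding.isClosed_range
  have hsub : ∀ y ∈ PW, y ∈ Set.range (pullback.diagonal b) := by
    intro y hy
    have hfac : PW.ι = (PW.ι ≫ pullback.fst b b) ≫ pullback.diagonal b := by
      apply pullback.hom_ext
      · simp
      · simp [key]
    refine ⟨(PW.ι ≫ pullback.fst b b) ⟨y, hy⟩, ?_⟩
    rw [← Scheme.Hom.comp_apply, ← hfac]
    rfl
  have hsnd_mzξ : pullback.snd b b (m zξ) = ξ' := by
    rw [← Scheme.Hom.comp_apply, hm_snd, hzξ]
  have h1 : m zξ ∈ PW := by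
    change (pullback.snd b b ≫ b) (m zξ) ∈ (𝓘.support : Set X)ᶜ
    rw [Scheme.Hom.comp_apply, hsnd_mzξ]
    intro hmem
    apply hξ
    rw [Scheme.IdealSheafData.support_comap]
    exact hmem
  have hsp : m zξ ⤳ m z := hz.map m.continuous
  have h2 : m z ∈ Set.range (pullback.diagonal b) :=
    hclosed.stableUnderSpecialization hsp (hsub _ h1)
  obtain ⟨t, ht⟩ := h2
  have e1 : pullback.fst b b (m z) = t := by
    rw [← ht, ← Scheme.Hom.comp_apply]; simp
  have e2 : pullback.snd b b (m z) = t := by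
    rw [← ht, ← Scheme.Hom.comp_apply]; simp
  have e3 : U.ι (pullback.fst (U.ι ≫ b) b z) = x' := by
    rw [← Scheme.Hom.comp_apply, ← hm_fst, Scheme.Hom.comp_apply, e1, ← e2,
      ← Scheme.Hom.comp_apply, hm_snd, hzx]
  rw [← e3]
  exact (pullback.fst (U.ι ≫ b) b z).2

end Groth.Agent.Lib.Helper10.BlowOpen
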