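import Mathlib
import Groth.Agent.Lib.Helper21.GaPts
import Groth.Prelude.Def_AlgGrp

/-!
# Functions on the base of a principal bundle are the invariant functions
-/

set_option autoImplicit false
set_option backward.isDefEq.respectTransparency.types false
set_option maxHeartbeats 4000000
set_option synthInstance.maxHeartbeats 400000
universe u
open CategoryTheory CategoryTheory.Limits AlgebraicGeometry MonoidalCategory
  CartesianMonoidalCategory MonObj GrpObj

namespace Groth.Agent.Lib.Helper10.BundleFn

open Groth.Agent.Lib.Helper21.GaPts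

variable {S : Scheme.{u}} {G X Y : Over S} [GrpObj G] (a : AlgGrp.Action G X) (f : X ⟶ Y)

theorem injective_appTop [Flat f.left] [Surjective f.left] [QuasiCompact f.left] :
    Function.Injective (f.left.appTop) := by
  intro r r' h
  haveI : Epi f.left := inferInstance
  have h1 : f ≫ gaPt (S := S) (X := Y) r = f ≫ gaPt (S := S) (X := Y) r' := by
    rw [gaPt_comp, gaPt_comp]
    congr 1
  have h2 : f.left ≫ (gaPt (S := S) (X := Y) r).left = f.left ≫ (gaPt (S := S) (X := Y) r').left :=
    congrArg (fun k => k.left) h1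
  have h3 := (cancel_epi f.left).mp h2
  have h4 : gaPt (S := S) (X := Y) r = gaPt (S := S) (X := Y) r' := Over.OverMorphism.ext h3
  have h5 := congrArg Red.gaFn h4
  rwa [gaFn_gaPt, gaFn_gaPt] at h5

theorem range_appTop [Flat f.left] [Surjective f.left] [QuasiCompact f.left]
    (hsq : IsPullback a.act.left (snd G X).left f.left f.left) :
    Set.range (f.left.appTop) =
      {s : Γ(X.left, ⊤) | a.act.left.appTop s = (snd G X).left.appTop s} := by
  haveI : Epi f.left := inferInstance
  ext s
  constructor
  · rintro ⟨r, rfl⟩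
    change a.act.left.appTop (f.left.appTop r) = (snd G X).left.appTop (f.left.appTop r)
    have e1 : a.act.left.appTop (f.left.appTop r) = (a.act.left ≫ f.left).appTop r := by
      rw [Scheme.Hom.comp_appTop]
      rfl
    have e2 : (snd G X).left.appTop (f.left.appTop r) = ((snd G X).left ≫ f.left).appTop r := by
      rw [Scheme.Hom.comp_appTop]
      rfl
    rw [e1, e2, hsq.w]
  · intro hs
    have hs' : a.act.left.appTop s = (snd G X).left.appTop s := hs
    let x : X ⟶ Red.Ga S := gaPt s
    have hx : a.act ≫ x = snd G X ≫ x := by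
      change a.act ≫ gaPt s = snd G X ≫ gaPt s
      rw [gaPt_comp, gaPt_comp]
      congr 1
    have hφ : a.act.left ≫ x.left = (snd G X).left ≫ x.left := congrArg (fun k => k.left) hx
    have hdesc : ∀ {W : Scheme.{u}} (g₁ g₂ : W ⟶ X.left), g₁ ≫ f.left = g₂ ≫ f.left →
        g₁ ≫ x.left = g₂ ≫ x.left := by
      intro W g₁ g₂ h
      have e1 : hsq.lift g₁ g₂ h ≫ a.act.left = g₁ := hsq.lift_fst _ _ _
      have e2 : hsq.lift g₁ g₂ h ≫ (snd G X).left = g₂ := hsq.lift_snd _ _ _
      rw [← e1, Category.assoc, hφ, ← Category.assoc, e2]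
    let ψ : Y.left ⟶ (Red.Ga S).left := EffectiveEpi.desc f.left x.left hdesc
    have hψ : f.left ≫ ψ = x.left := EffectiveEpi.fac f.left x.left hdesc
    have hψ1 : ψ ≫ (Red.Ga S).hom = Y.hom := by
      rw [← cancel_epi f.left, ← Category.assoc, hψ, Over.w, Over.w]
    let ψ' : Y ⟶ Red.Ga S := Over.homMk ψ hψ1
    have hp : f ≫ ψ' = x := Over.OverMorphism.ext hψ
    refine ⟨Red.gaFn ψ', ?_⟩
    have e := gaFn_comp f ψ'
    rw [hp] at e
    have e' : Red.gaFn x = s := gaFn_gaPt s
    rw [e'] at e
    exact e.symm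

end Groth.Agent.Lib.Helper10.BundleFn
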