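import Mathlib
import Groth.Prelude.Def_W4bk4git07Quot
import Groth.Agent.Lib.Helper10.CatQuot2

/-!
# Geometric quotients are categorical quotients
-/

set_option autoImplicit false
set_option backward.isDefEq.respectTransparency.types false
set_option maxHeartbeats 4000000
set_option synthInstance.maxHeartbeats 400000
universe u
open CategoryTheory CategoryTheory.Limits AlgebraicGeometry MonoidalCategory
  CartesianMonoidalCategory MonObj GrpObj TopologicalSpace

namespace Groth.Agent.Lib.Helper10.CatQuot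

variable {S : Scheme.{u}} {G X Y : Over S} [GrpObj G] (a : AlgGrp.Action G X) (φ : X ⟶ Y)

/-- An invariant morphism is constant on the fibres of a morphism `φ` for which `(σ, p₂)` is
surjective onto `X ×_Y X`. -/
theorem apply_eq_of_orbit (hinv : GIT.IsInvariant a φ)
    (horb : Function.Surjective (GIT.PsiY a φ hinv).base) {Z : Over S} (ψ : X ⟶ Z)
    (hψ : GIT.IsInvariant a ψ) (x₁ x₂ : X.left) (hx : φ.left x₁ = φ.left x₂) :
    ψ.left x₁ = ψ.left x₂ := by
  obtain ⟨z, hz1, hz2⟩ := Scheme.Pullback.exists_preimage_pullback (f := φ.left) (g := φ.left)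
    x₁ x₂ hx
  obtain ⟨w, hw⟩ := horb z
  have h1 : a.act.left w = x₁ := by
    rw [← hz1, ← hw]
    have : GIT.PsiY a φ hinv ≫ pullback.fst φ.left φ.left = a.act.left := pullback.lift_fst _ _ _
    exact (congrArg (fun t => t.base w) this).symm
  have h2 : (snd G X).left w = x₂ := by
    rw [← hz2, ← hw]
    have : GIT.PsiY a φ hinv ≫ pullback.snd φ.left φ.left = (snd G X).left :=
      pullback.lift_snd _ _ _
    exact (congrArg (fun t => t.base w) this).symm
  rw [← h1, ← h2]
  have := congrArg (fun t => t.base w) hψ.left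
  simpa only [Scheme.Hom.comp_base, TopCat.comp_app] using this

theorem isQuotientMap_of_isUnivSubmersive {X Y : Scheme.{u}} (f : X ⟶ Y)
    (h : GIT.IsUnivSubmersive f) : Topology.IsQuotientMap f :=
  h _ _ _ (IsPullback.id_vert f)

/-- A geometric quotient is a categorical quotient. -/
theorem isCatQuot_of_isGeomQuot (h : GIT.IsGeomQuot a φ) : GIT.IsCatQuot a φ := by
  refine isCatQuot_of_local a φ h.inv h.surj h.sections ?_
  intro Z ψ hψ y
  obtain ⟨x, rfl⟩ := h.surj y
  obtain ⟨V, hV, hxV, -⟩ := (Opens.isBasis_iff_nbhd.mp Z.left.isBasis_affineOpens)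
    (show ψ.left x ∈ (⊤ : Z.left.Opens) from trivial)
  have hq := isQuotientMap_of_isUnivSubmersive φ.left h.subm
  have hsat : φ.left ⁻¹' (φ.left '' (ψ.left ⁻¹' (V : Set Z.left))) = ψ.left ⁻¹' (V : Set Z.left) := by
    apply Set.Subset.antisymm
    · rintro x' ⟨x'', hx'', he⟩
      show ψ.left x' ∈ V
      rw [apply_eq_of_orbit a φ h.inv h.orbit ψ hψ x' x'' he.symm]
      exact hx''
    · exact Set.subset_preimage_image _ _
  have hopen : IsOpen (φ.left '' (ψ.left ⁻¹' (V : Set Z.left))) := by
    rw [← hq.isOpen_preimage, hsat]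
    exact V.isOpen.preimage ψ.left.continuous
  refine ⟨⟨_, hopen⟩, V, ⟨x, hxV, rfl⟩, hV, ?_⟩
  intro x' hx'
  have : x' ∈ φ.left ⁻¹' (φ.left '' (ψ.left ⁻¹' (V : Set Z.left))) := hx'
  rw [hsat] at this
  exact this

/-- A universal geometric quotient is a universal categorical quotient. -/
theorem isUnivCatQuot_of_isUnivGeomQuot (h : GIT.IsUnivGeomQuot a φ) : GIT.IsUnivCatQuot a φ :=
  ⟨isCatQuot_of_isGeomQuot a φ h.1, fun _ _ pr φ' g hg hpb a' ha' hinv' =>
    isCatQuot_of_isGeomQuot a' φ' (h.2 pr φ' g hg hpb a' ha' hinv')⟩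

end Groth.Agent.Lib.Helper10.CatQuot
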