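import Mathlib
import Groth.Prelude.Def_W4bk4git07Quot
import Groth.Agent.Lib.Helper10.CatQuot2

/-!
# Mumford's criterion: invariant + sheaf of invariants + closed images commuting with intersections
implies categorical quotient and submersive.
-/

set_option autoImplicit false
set_option backward.isDefEq.respectTransparency.types false
set_option maxHeartbeats 4000000
set_option synthInstance.maxHeartbeats 400000
universe u
open CategoryTheory CategoryTheory.Limits AlgebraicGeometry MonoidalCategory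
  CartesianMonoidalCategory MonObj GrpObj TopologicalSpace

namespace Groth.Agent.Lib.Helper10.CatQuot

variable {S : Scheme.{u}} {G X Y : Over S} [GrpObj G] (a : AlgGrp.Action G X) (φ : X ⟶ Y)

theorem apply_act_eq {Z : Over S} (ψ : X ⟶ Z) (hψ : GIT.IsInvariant a ψ) (p : ↥(G ⊗ X).left) :
    ψ.left (a.act.left p) = ψ.left ((snd G X).left p) := by
  have := congrArg (fun t => t.base p) hψ.left
  simpa only [Scheme.Hom.comp_base, TopCat.comp_app] using this

theorem surjective_of_inter
    (hint : ∀ (J : Type u) (W : J → Set X.left), (∀ i, IsClosed (W i)) →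
      (∀ i, ∀ p : ↥(G ⊗ X).left, (snd G X).left p ∈ W i → a.act.left p ∈ W i) →
      φ.left '' (⋂ i, W i) = ⋂ i, φ.left '' W i) : Function.Surjective φ.left := by
  have := hint PEmpty.{u+1} (fun i => i.elim) (fun i => i.elim) (fun i => i.elim)
  rw [Set.iInter_of_empty, Set.iInter_of_empty, Set.image_univ] at this
  exact Set.range_eq_univ.mp this

theorem isQuotientMap_of_closed (hinv : GIT.IsInvariant a φ) (hs : Function.Surjective φ.left)
    (hcl : ∀ W : Set X.left, IsClosed W →
      (∀ p : ↥(G ⊗ X).left, (snd G X).left p ∈ W → a.act.left p ∈ W) → IsClosed (φ.left '' W)) :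
    Topology.IsQuotientMap φ.left := by
  rw [Topology.isQuotientMap_iff_isClosed]
  refine ⟨hs, fun T => ⟨fun hT => hT.preimage φ.left.continuous, fun hT => ?_⟩⟩
  have := hcl _ hT (fun p hp => by
    show φ.left (a.act.left p) ∈ T
    rw [apply_act_eq a φ hinv]
    exact hp)
  rwa [Set.image_preimage_eq _ hs] at this

theorem isCatQuot_of_closed_inter (hinv : GIT.IsInvariant a φ)
    (hsec : ∀ U : Y.left.Opens, Function.Injective (φ.left.app U) ∧
      Set.range (φ.left.app U) = {f | GIT.IsInvSection a φ U f})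
    (hcl : ∀ W : Set X.left, IsClosed W →
      (∀ p : ↥(G ⊗ X).left, (snd G X).left p ∈ W → a.act.left p ∈ W) → IsClosed (φ.left '' W))
    (hint : ∀ (J : Type u) (W : J → Set X.left), (∀ i, IsClosed (W i)) →
      (∀ i, ∀ p : ↥(G ⊗ X).left, (snd G X).left p ∈ W i → a.act.left p ∈ W i) →
      φ.left '' (⋂ i, W i) = ⋂ i, φ.left '' W i) :
    GIT.IsCatQuot a φ := by
  have hs := surjective_of_inter a φ hint
  refine isCatQuot_of_local a φ hinv hs hsec ?_
  intro Z ψ hψ y
  let W : ↥(Z.left.affineOpens) → Set X.left := fun i => (ψ.left ⁻¹' ((i : Z.left.Opens) : Set Z.left))ᶜ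
  have hWcl : ∀ i, IsClosed (W i) := fun i =>
    ((i : Z.left.Opens).isOpen.preimage ψ.left.continuous).isClosed_compl
  have hWinv : ∀ i, ∀ p : ↥(G ⊗ X).left, (snd G X).left p ∈ W i → a.act.left p ∈ W i := by
    intro i p hp hp'
    apply hp
    show ψ.left ((snd G X).left p) ∈ (i : Z.left.Opens)
    rw [← apply_act_eq a ψ hψ]
    exact hp'
  have hempty : (⋂ i, W i) = ∅ := by
    rw [Set.eq_empty_iff_forall_notMem]
    intro x hx
    obtain ⟨V, hV, hxV, -⟩ := (Opens.isBasis_iff_nbhd.mp Z.left.isBasis_affineOpens)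
      (show ψ.left x ∈ (⊤ : Z.left.Opens) from trivial)
    exact (Set.mem_iInter.mp hx ⟨V, hV⟩) hxV
  have h1 := hint _ W hWcl hWinv
  rw [hempty, Set.image_empty] at h1
  have hy : y ∉ ⋂ i, φ.left '' W i := by
    rw [← h1]
    exact Set.notMem_empty y
  rw [Set.mem_iInter, not_forall] at hy
  obtain ⟨i, hi⟩ := hy
  refine ⟨⟨(φ.left '' W i)ᶜ, (hcl _ (hWcl i) (hWinv i)).isOpen_compl⟩, i, hi, i.2, ?_⟩
  intro x hx
  by_contra hcon
  exact hx ⟨x, hcon, rfl⟩

end Groth.Agent.Lib.Helper10.CatQuot
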