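import Mathlib
import Groth.Prelude.Def_Red

/-!
# Gluing morphisms of schemes over `S` along an fpqc covering family
-/

set_option autoImplicit false
set_option linter.unusedSectionVars false
set_option linter.style.haveILetI false
set_option backward.isDefEq.respectTransparency.types false
set_option maxHeartbeats 4000000
set_option synthInstance.maxHeartbeats 400000
universe u
open CategoryTheory CategoryTheory.Limits AlgebraicGeometry Opposite MonoidalCategory
  CartesianMonoidalCategory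

namespace Groth.Agent.Lib.Helper10.RepDesc

variable {S : Scheme.{u}} {ι : Type u} {X : ι → Scheme.{u}} (f : ∀ i, X i ⟶ S)

/-- gluing of morphisms of schemes along an fpqc covering family -/
theorem glue_hom (hf : Presieve.ofArrows X f ∈ Scheme.fpqcPrecoverage S) {Z : Scheme.{u}}
    (ψ : ∀ i, X i ⟶ Z)
    (hψ : ∀ (i j : ι) (W : Scheme.{u}) (w₀ : W ⟶ X i) (w₁ : W ⟶ X j),
      w₀ ≫ f i = w₁ ≫ f j → w₀ ≫ ψ i = w₁ ≫ ψ j) :
    ∃! ψ' : S ⟶ Z, ∀ i, f i ≫ ψ' = ψ i := by
  have hsh : Presieve.IsSheaf Scheme.fpqcTopology.{u} (yoneda.obj Z) :=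
    GrothendieckTopology.Subcanonical.isSheaf_of_isRepresentable _
  have h1 : (Presieve.ofArrows X f).IsSheafFor (yoneda.obj Z) :=
    hsh.isSheafFor _ (Precoverage.generate_mem_toGrothendieck hf)
  rw [Presieve.isSheafFor_arrows_iff] at h1
  obtain ⟨t, ht, htu⟩ := h1 ψ (fun i j W w₀ w₁ h => hψ i j W w₀ w₁ h)
  exact ⟨t, ht, htu⟩

theorem hom_ext_of_cover (hf : Presieve.ofArrows X f ∈ Scheme.fpqcPrecoverage S) {Z : Scheme.{u}}
    (a b : S ⟶ Z) (h : ∀ i, f i ≫ a = f i ≫ b) : a = b := by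
  obtain ⟨t, -, htu⟩ := glue_hom f hf (fun i => f i ≫ a) (fun i j W w₀ w₁ hw => by
    rw [← Category.assoc, ← Category.assoc, hw])
  rw [htu a (fun _ => rfl), htu b (fun i => (h i).symm)]

/-- gluing of morphisms over `S` along the base change of an fpqc covering family -/
theorem glue_over (hf : Presieve.ofArrows X f ∈ Scheme.fpqcPrecoverage S) {T Z : Over S}
    {T' : ι → Over S} (c : ∀ i, T' i ⟶ T) (b : ∀ i, (T' i).left ⟶ X i)
    (hpb : ∀ i, IsPullback (c i).left (b i) T.hom (f i)) (ψ : ∀ i, T' i ⟶ Z)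
    (hψ : ∀ (i j : ι) (W : Over S) (w₀ : W ⟶ T' i) (w₁ : W ⟶ T' j),
      w₀ ≫ c i = w₁ ≫ c j → w₀ ≫ ψ i = w₁ ≫ ψ j) :
    ∃! ψ' : T ⟶ Z, ∀ i, c i ≫ ψ' = ψ i := by
  have hc : Presieve.ofArrows (fun i => (T' i).left) (fun i => (c i).left) ∈
      Scheme.fpqcPrecoverage T.left :=
    Precoverage.mem_coverings_of_isPullback f hf T.hom _ b hpb
  obtain ⟨t, ht, htu⟩ := glue_hom (fun i => (c i).left) hc (fun i => (ψ i).left)
    (fun i j W w₀ w₁ hw => by
      have e : w₁ ≫ (T' j).hom = w₀ ≫ (T' i).hom := by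
        rw [← Over.w (c j), ← Over.w (c i), ← Category.assoc, ← Category.assoc, hw]
      have := hψ i j (Over.mk (w₀ ≫ (T' i).hom)) (Over.homMk w₀ rfl) (Over.homMk w₁ e)
        (Over.OverMorphism.ext hw)
      exact congrArg (fun z => z.left) this)
  have hover : t ≫ Z.hom = T.hom := by
    apply hom_ext_of_cover (fun i => (c i).left) hc
    intro i
    rw [← Category.assoc, ht i, Over.w, Over.w]
  refine ⟨Over.homMk t hover, fun i => Over.OverMorphism.ext (ht i), ?_⟩
  intro y hy
  apply Over.OverMorphism.ext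
  exact htu y.left (fun i => congrArg (fun z => z.left) (hy i))

theorem hom_ext_over (hf : Presieve.ofArrows X f ∈ Scheme.fpqcPrecoverage S) {T Z : Over S}
    {T' : ι → Over S} (c : ∀ i, T' i ⟶ T) (b : ∀ i, (T' i).left ⟶ X i)
    (hpb : ∀ i, IsPullback (c i).left (b i) T.hom (f i)) (p q : T ⟶ Z)
    (h : ∀ i, c i ≫ p = c i ≫ q) : p = q := by
  obtain ⟨t, -, htu⟩ := glue_over f hf c b hpb (fun i => c i ≫ p) (fun i j W w₀ w₁ hw => by
    rw [← Category.assoc, ← Category.assoc, hw])
  rw [htu p (fun _ => rfl), htu q (fun i => (h i).symm)]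

/-- base change of a covering family of `T` to `H ⊗ T` -/
theorem isPullback_whiskerLeft (H : Over S) {T T' : Over S} (c : T' ⟶ T) :
    IsPullback (H ◁ c).left (snd H T').left (snd H T).left c.left := by
  have hr : IsPullback (fst H T).left (snd H T).left H.hom T.hom :=
    IsPullback.of_hasPullback H.hom T.hom
  have hbig : IsPullback ((H ◁ c).left ≫ (fst H T).left) (snd H T').left H.hom
      (c.left ≫ T.hom) := by
    have e1 : (H ◁ c).left ≫ (fst H T).left = (fst H T').left := by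
      rw [← Over.comp_left, whiskerLeft_fst]
    rw [e1, Over.w c]
    exact IsPullback.of_hasPullback H.hom T'.hom
  refine IsPullback.of_right hbig ?_ hr
  rw [← Over.comp_left, whiskerLeft_snd, Over.comp_left]

theorem isPullback_whiskerLeft_cover (H : Over S) {T : Over S} {T' : Over S}
    (c : T' ⟶ T) {Xi : Scheme.{u}} (fi : Xi ⟶ S) (b : T'.left ⟶ Xi)
    (hpb : IsPullback c.left b T.hom fi) :
    IsPullback (H ◁ c).left ((snd H T').left ≫ b) (H ⊗ T).hom fi := by
  have h1 := isPullback_whiskerLeft H c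
  have h2 : (H ⊗ T).hom = (snd H T).left ≫ T.hom := (Over.w (snd H T)).symm
  rw [h2]
  exact h1.paste_vert hpb

end Groth.Agent.Lib.Helper10.RepDesc
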