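import Mathlib
import Groth.Agent.Lib.Helper12.FinSigma

set_option autoImplicit false
set_option linter.unusedSectionVars false
set_option linter.style.haveILetI false
set_option backward.isDefEq.respectTransparency.types false
set_option maxHeartbeats 4000000
set_option synthInstance.maxHeartbeats 400000

universe u

open CategoryTheory CategoryTheory.Limits AlgebraicGeometry Opposite

namespace Groth.Agent.Lib.Helper10.TwCQc

theorem exists_of_isPullback {P X Y Z : Scheme.{u}} {fst : P ⟶ X} {snd : P ⟶ Y} {f : X ⟶ Z}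
    {g : Y ⟶ Z} (h : IsPullback fst snd f g) (x : X) (y : Y) (hxy : f x = g y) :
    ∃ p : P, fst p = x ∧ snd p = y := by
  obtain ⟨z, hz1, hz2⟩ := Scheme.Pullback.exists_preimage_pullback x y hxy
  refine ⟨h.isoPullback.inv z, ?_, ?_⟩
  · rw [← Scheme.Hom.comp_apply, h.isoPullback_inv_fst]; exact hz1
  · rw [← Scheme.Hom.comp_apply, h.isoPullback_inv_snd]; exact hz2

section BaseChangeConst

variable {U T : Scheme.{u}} (I : Type u) (g : T ⟶ U)

/-- the `i`-th section of `(∐_I U) ×_U T → T` -/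
noncomputable def sec (i : I) : T ⟶ pullback (Sigma.desc (fun _ : I => 𝟙 U)) g :=
  pullback.lift (g ≫ Sigma.ι (fun _ : I => U) i) (𝟙 T) (by simp)

@[reassoc (attr := simp)]
theorem sec_snd (i : I) : sec I g i ≫ pullback.snd (Sigma.desc (fun _ : I => 𝟙 U)) g = 𝟙 T :=
  pullback.lift_snd _ _ _

@[reassoc (attr := simp)]
theorem sec_fst (i : I) : sec I g i ≫ pullback.fst (Sigma.desc (fun _ : I => 𝟙 U)) g =
    g ≫ Sigma.ι (fun _ : I => U) i :=
  pullback.lift_fst _ _ _

theorem sec_isPullback (i : I) : IsPullback (sec I g i) g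
    (pullback.fst (Sigma.desc (fun _ : I => 𝟙 U)) g) (Sigma.ι (fun _ : I => U) i) := by
  have big : IsPullback (sec I g i ≫ pullback.snd (Sigma.desc (fun _ : I => 𝟙 U)) g) g g
      (Sigma.ι (fun _ : I => U) i ≫ Sigma.desc (fun _ : I => 𝟙 U)) := by
    rw [sec_snd, Sigma.ι_desc]
    exact IsPullback.of_horiz_isIso ⟨by simp⟩
  exact IsPullback.of_right big (sec_fst I g i)
    (IsPullback.of_hasPullback (Sigma.desc (fun _ : I => 𝟙 U)) g).flip

instance (i : I) : IsOpenImmersion (sec I g i) :=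
  MorphismProperty.of_isPullback (P := @IsOpenImmersion) (sec_isPullback I g i).flip inferInstance

theorem isIso_sigmaDesc_sec : IsIso (Sigma.desc (sec I g)) := by
  have hcov : ⨆ i : I, (sec I g i).opensRange = ⊤ := by
    rw [eq_top_iff]
    rintro p -
    obtain ⟨i, u, hu⟩ := (sigmaOpenCover (fun _ : I => U)).exists_eq
      (pullback.fst (Sigma.desc (fun _ : I => 𝟙 U)) g p)
    change Sigma.ι (fun _ : I => U) i u = _ at hu
    obtain ⟨t, ht, -⟩ := exists_of_isPullback (sec_isPullback I g i) p u hu.symm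
    exact TopologicalSpace.Opens.mem_iSup.2 ⟨i, t, ht⟩
  have hdisj : Pairwise (Function.onFun Disjoint fun i : I => (sec I g i).opensRange) := by
    intro i j hij
    rw [Function.onFun, disjoint_iff]
    ext p
    simp only [TopologicalSpace.Opens.coe_inf, Set.mem_inter_iff, TopologicalSpace.Opens.coe_bot,
      Set.mem_empty_iff_false, iff_false, not_and]
    rintro ⟨t, ht⟩ ⟨t', ht'⟩
    have h1 := congrArg (pullback.fst (Sigma.desc (fun _ : I => 𝟙 U)) g) (ht.trans ht'.symm)
    rw [← Scheme.Hom.comp_apply, ← Scheme.Hom.comp_apply, sec_fst, sec_fst] at h1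
    simp only [Scheme.Hom.comp_apply] at h1
    have := (sigmaι_eq_iff _ _ _ _ _).mp h1
    exact hij (congrArg Sigma.fst this)
  have := nonempty_isColimit_cofanMk_of (sec I g) hcov hdisj
  rw [Cofan.nonempty_isColimit_iff_isIso_sigmaDesc] at this
  exact this

/-- base change of a constant scheme is constant -/
noncomputable def constBC : pullback (Sigma.desc (fun _ : I => 𝟙 U)) g ≅ ∐ fun _ : I => T :=
  haveI := isIso_sigmaDesc_sec I g
  (asIso (Sigma.desc (sec I g))).symm

theorem constBC_hom_desc : (constBC I g).hom ≫ Sigma.desc (fun _ : I => 𝟙 T) =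
    pullback.snd (Sigma.desc (fun _ : I => 𝟙 U)) g := by
  haveI := isIso_sigmaDesc_sec I g
  have h1 : Sigma.desc (sec I g) ≫ pullback.snd (Sigma.desc (fun _ : I => 𝟙 U)) g =
      Sigma.desc (fun _ : I => 𝟙 T) := by
    apply Sigma.hom_ext
    intro i
    rw [Sigma.ι_desc_assoc, sec_snd, Sigma.ι_desc]
  unfold constBC
  rw [← h1]
  simp

end BaseChangeConst

/-- a trivialisation restricts along any morphism -/
theorem exists_triv_comp {S Pl U A : Scheme.{u}} (pP : Pl ⟶ S) (h : U ⟶ S) {I : Type u}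
    (ε : pullback pP h ≅ ∐ fun _ : I => U)
    (hε : ε.hom ≫ Sigma.desc (fun _ : I => 𝟙 U) = pullback.snd pP h) (j : A ⟶ U) :
    ∃ ε' : pullback pP (j ≫ h) ≅ ∐ fun _ : I => A,
      ε'.hom ≫ Sigma.desc (fun _ : I => 𝟙 A) = pullback.snd pP (j ≫ h) := by
  let φ₁ := (pullbackLeftPullbackSndIso pP h j).symm
  let m : pullback (pullback.snd pP h) j ⟶ pullback (Sigma.desc (fun _ : I => 𝟙 U)) j :=
    pullback.map _ _ _ _ ε.hom (𝟙 A) (𝟙 U) (by rw [Category.comp_id, hε]) (by simp)
  haveI : IsIso m := by dsimp only [m]; infer_instance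
  let φ₂ : pullback (pullback.snd pP h) j ≅ pullback (Sigma.desc (fun _ : I => 𝟙 U)) j := asIso m
  refine ⟨φ₁ ≪≫ φ₂ ≪≫ constBC I j, ?_⟩
  simp only [Iso.trans_hom, Category.assoc, constBC_hom_desc]
  have hm : m ≫ pullback.snd (Sigma.desc (fun _ : I => 𝟙 U)) j =
      pullback.snd (pullback.snd pP h) j := by
    dsimp only [m]
    rw [pullback.lift_snd, Category.comp_id]
  change (pullbackLeftPullbackSndIso pP h j).inv ≫ m ≫ _ = _
  rw [hm, pullbackLeftPullbackSndIso_inv_snd_snd]

/-- a compact closed subscheme of a constant scheme is finite over the base -/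
theorem isFinite_of_closedImmersion_sigma {Q A : Scheme.{u}} [CompactSpace Q] {I : Type u}
    (c : Q ⟶ ∐ fun _ : I => A) [IsClosedImmersion c] :
    IsFinite (c ≫ Sigma.desc (fun _ : I => 𝟙 A)) := by
  -- finitely many copies meet the image
  obtain ⟨J, hJ⟩ : ∃ J : Finset I, Set.range c ⊆
      ⋃ i ∈ J, Set.range (Sigma.ι (fun _ : I => A) i) := by
    have hc : IsCompact (Set.range c) := isCompact_range c.continuous
    have := hc.elim_finite_subcover (fun i : I => Set.range (Sigma.ι (fun _ : I => A) i))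
      (fun i => (Sigma.ι (fun _ : I => A) i).isOpenEmbedding.isOpen_range) (by
        rintro x -
        obtain ⟨i, a, ha⟩ := (sigmaOpenCover (fun _ : I => A)).exists_eq x
        exact Set.mem_iUnion.2 ⟨i, a, ha⟩)
    exact this
  let incl : (∐ fun _ : (J : Set I) => A) ⟶ ∐ fun _ : I => A :=
    Sigma.desc (fun j : (J : Set I) => Sigma.ι (fun _ : I => A) j.1)
  haveI : IsOpenImmersion incl := by
    refine isOpenImmersion_sigmaDesc _ _ ?_
    intro j j' hjj
    change Disjoint (Set.range _) (Set.range _)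
    rw [Set.disjoint_left]
    rintro _ ⟨a, rfl⟩ ⟨a', ha'⟩
    have := (sigmaι_eq_iff _ _ _ _ _).mp ha'
    exact hjj (Subtype.ext (congrArg Sigma.fst this).symm)
  have hrange : Set.range c ⊆ Set.range incl := by
    intro x hx
    obtain ⟨i, hi, a, ha⟩ : ∃ i ∈ J, x ∈ Set.range (Sigma.ι (fun _ : I => A) i) := by
      simpa using hJ hx
    refine ⟨Sigma.ι (fun _ : (J : Set I) => A) ⟨i, hi⟩ a, ?_⟩
    rw [← Scheme.Hom.comp_apply, Sigma.ι_desc]
    exact ha
  let c' : Q ⟶ ∐ fun _ : (J : Set I) => A := IsOpenImmersion.lift incl c hrange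
  have hfac : c' ≫ incl = c := IsOpenImmersion.lift_fac _ _ _
  haveI : IsClosedImmersion (c' ≫ incl) := by rw [hfac]; infer_instance
  haveI : IsClosedImmersion c' := IsClosedImmersion.of_comp c' incl
  have hd : incl ≫ Sigma.desc (fun _ : I => 𝟙 A) = Sigma.desc (fun _ : (J : Set I) => 𝟙 A) := by
    apply Sigma.hom_ext
    intro j
    rw [Sigma.ι_desc_assoc, Sigma.ι_desc, Sigma.ι_desc]
  rw [← hfac, Category.assoc, hd]
  haveI : Finite (J : Set I) := J.finite_toSet
  haveI : IsFinite (Sigma.desc (fun _ : (J : Set I) => 𝟙 A)) :=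
    H12FinSigma.isFinite_sigmaDesc _ (fun _ => inferInstance)
  infer_instance

/-- chart lemma: over a compact chart, a closed subscheme quasi-compact over the base is finite -/
theorem isFinite_snd_of_triv {S Zs Pl A : Scheme.{u}} (pP : Pl ⟶ S) (z : Zs ⟶ Pl)
    [IsClosedImmersion z] [QuasiCompact (z ≫ pP)] [CompactSpace A] (k : A ⟶ S) {I : Type u}
    (ε : pullback pP k ≅ ∐ fun _ : I => A)
    (hε : ε.hom ≫ Sigma.desc (fun _ : I => 𝟙 A) = pullback.snd pP k) :
    IsFinite (pullback.snd (z ≫ pP) k) := by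
  haveI : CompactSpace ↥(pullback (z ≫ pP) k) :=
    QuasiCompact.compactSpace_of_compactSpace (pullback.snd (z ≫ pP) k)
  let c₀ : pullback (z ≫ pP) k ⟶ pullback pP k :=
    pullback.map (z ≫ pP) k pP k z (𝟙 A) (𝟙 S) (by simp) (by simp)
  haveI : IsClosedImmersion c₀ :=
    MorphismProperty.pullbackMap (P := @IsClosedImmersion) (f := z ≫ pP) (g := k) (f' := pP)
      (g' := k) (i₁ := z) (i₂ := 𝟙 A) inferInstance inferInstance rfl (by simp)
  have h1 : c₀ ≫ pullback.snd pP k = pullback.snd (z ≫ pP) k := by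
    dsimp only [c₀]
    rw [pullback.lift_snd, Category.comp_id]
  have h2 : (c₀ ≫ ε.hom) ≫ Sigma.desc (fun _ : I => 𝟙 A) = pullback.snd (z ≫ pP) k := by
    rw [Category.assoc, hε, h1]
  rw [← h2]
  exact isFinite_of_closedImmersion_sigma (c₀ ≫ ε.hom)

end Groth.Agent.Lib.Helper10.TwCQc
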