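import Mathlib
import Groth.Agent.Lib.Helper10.DiagHomProps
import Groth.Agent.Lib.Helper10.ConstSch1
import Groth.Agent.Lib.Helper10.TwCQc1
import Groth.Agent.Lib.Helper10.RepDesc1
import Groth.Agent.Lib.Helper10.HomFamBC
import Groth.Prelude.Def_TwC

/-!
# The scheme of homomorphisms between diagonalisable groups is a constant scheme
-/

set_option autoImplicit false
set_option linter.unusedSectionVars false
set_option linter.style.haveILetI false
set_option backward.isDefEq.respectTransparency.types false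
set_option maxHeartbeats 4000000
set_option synthInstance.maxHeartbeats 400000
universe u
open CategoryTheory CategoryTheory.Limits AlgebraicGeometry Opposite MonoidalCategory
  CartesianMonoidalCategory MonObj GrpObj

namespace Groth.Agent.Lib.Helper10.RepLoc

open Groth.Agent.Lib.Helper10.ConstSch Groth.Agent.Lib.Helper10.TwCQc
  Groth.Agent.Lib.Helper10.DiagHom Groth.Agent.Lib.Helper10.DiagHomProps
  Groth.Agent.Lib.Helper10.HomFamBC Groth.Agent.Lib.Helper10.RepDesc

variable (U : Scheme.{u}) (M N : Type) [AddCommGroup M] [AddCommGroup N]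

/-- the index type -/
abbrev Idx (_U : Scheme.{u}) (M N : Type) [AddCommGroup M] [AddCommGroup N] : Type u :=
  ULift.{u} (N →+ M)

/-- the constant scheme of homomorphisms -/
noncomputable abbrev A₀ : Over U := TwC.const U (Idx U M N)

/-- decomposition of `D(M) × A₀` -/
noncomputable def θ : pullback (Red.DS U M).hom (str U (Idx U M N)) ≅
    ∐ fun _ : Idx U M N => (Red.DS U M).left :=
  pullbackSymmetry _ _ ≪≫ constBC (Idx U M N) (Red.DS U M).hom

theorem ι_θ_inv (i : Idx U M N) : Sigma.ι (fun _ : Idx U M N => (Red.DS U M).left) i ≫ (θ U M N).inv =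
    sec (Idx U M N) (Red.DS U M).hom i ≫ (pullbackSymmetry _ _).inv := by
  haveI := isIso_sigmaDesc_sec (Idx U M N) (Red.DS U M).hom
  change Sigma.ι _ i ≫ (Sigma.desc (sec (Idx U M N) (Red.DS U M).hom)) ≫ _ = _
  rw [← Category.assoc, Sigma.ι_desc]

/-- the universal family -/
noncomputable def υ₀ : Red.DS U M ⊗ A₀ U M N ⟶ Red.DS U N :=
  Over.homMk ((θ U M N).hom ≫ Sigma.desc (fun i : Idx U M N => (Red.DSmap U i.down).left)) (by
    have h1 : Sigma.desc (fun i : Idx U M N => (Red.DSmap U i.down).left) ≫ (Red.DS U N).hom =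
        Sigma.desc (fun _ : Idx U M N => 𝟙 _) ≫ (Red.DS U M).hom := by
      apply Sigma.hom_ext
      intro i
      rw [Sigma.ι_desc_assoc, Sigma.ι_desc_assoc, Category.id_comp]
      exact Over.w (Red.DSmap U i.down)
    change ((θ U M N).hom ≫ _) ≫ (Red.DS U N).hom =
      pullback.fst (Red.DS U M).hom (str U (Idx U M N)) ≫ (Red.DS U M).hom
    rw [Category.assoc, h1, ← Category.assoc]
    congr 1
    change ((pullbackSymmetry _ _).hom ≫ (constBC (Idx U M N) (Red.DS U M).hom).hom) ≫ _ = _
    rw [Category.assoc, constBC_hom_desc, pullbackSymmetry_hom_comp_snd])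

variable {U M N}

theorem lift_υ₀ {X : Over U} (a : X ⟶ Red.DS U M) (t : X ⟶ A₀ U M N) (i : Idx U M N)
    (ht : t.left = X.hom ≫ Sigma.ι (fun _ : Idx U M N => U) i) :
    lift a t ≫ υ₀ U M N = a ≫ Red.DSmap U i.down := by
  apply Over.OverMorphism.ext
  have h1 : (lift a t).left = (a.left ≫ Sigma.ι (fun _ : Idx U M N => (Red.DS U M).left) i) ≫
      (θ U M N).inv := by
    rw [Category.assoc, ι_θ_inv]
    rw [Over.lift_left]
    apply pullback.hom_ext
    · rw [pullback.lift_fst, Category.assoc, Category.assoc]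
      change a.left = a.left ≫ sec _ _ i ≫ (pullbackSymmetry _ _).inv ≫
        pullback.fst (Red.DS U M).hom (str U (Idx U M N))
      rw [pullbackSymmetry_inv_comp_fst, sec_snd, Category.comp_id]
    · rw [pullback.lift_snd, Category.assoc, Category.assoc]
      change t.left = a.left ≫ sec _ _ i ≫ (pullbackSymmetry _ _).inv ≫
        pullback.snd (Red.DS U M).hom (str U (Idx U M N))
      rw [pullbackSymmetry_inv_comp_snd, sec_fst, ← Category.assoc, Over.w a, ht]
  rw [Over.comp_left, Over.comp_left, h1]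
  change (_ ≫ (θ U M N).inv) ≫ (θ U M N).hom ≫ Sigma.desc _ = _
  rw [Category.assoc, Iso.inv_hom_id_assoc, Category.assoc, Sigma.ι_desc]

/-- restriction of a morphism to the constant scheme to a piece -/
theorem restrict_left {X : Over U} (t : X ⟶ A₀ U M N) (i : Idx U M N) (O : X.left.Opens)
    (hO : O ≤ pre t.left i) :
    ((Over.homMk O.ι rfl : Over.mk (O.ι ≫ X.hom) ⟶ X) ≫ t).left =
      (Over.mk (O.ι ≫ X.hom)).hom ≫ Sigma.ι (fun _ : Idx U M N => U) i := by
  change O.ι ≫ t.left = (O.ι ≫ X.hom) ≫ _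
  rw [ι_comp_of_le t.left i O hO]
  congr 1
  rw [← Over.w t]
  rfl

/-- the restriction morphism -/
noncomputable abbrev jO {T : Over U} (O : T.left.Opens) : Over.mk (O.ι ≫ T.hom) ⟶ T :=
  Over.homMk O.ι rfl

theorem whisker_υ₀ {W : Over U} (b : W ⟶ A₀ U M N) (i : Idx U M N)
    (hb : b.left = W.hom ≫ Sigma.ι (fun _ : Idx U M N => U) i) :
    (Red.DS U M ◁ b) ≫ υ₀ U M N = fst _ _ ≫ Red.DSmap U i.down := by
  have h1 : Red.DS U M ◁ b = lift (fst _ _) (snd _ _ ≫ b) := by
    apply CartesianMonoidalCategory.hom_ext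
    · rw [whiskerLeft_fst, lift_fst]
    · rw [whiskerLeft_snd, lift_snd]
  rw [h1]
  apply lift_υ₀
  rw [Over.comp_left, hb, ← Category.assoc]
  congr 1
  exact Over.w (snd (Red.DS U M) W)

/-- two morphisms out of `H ⊗ T` agreeing on an open cover of `T` agree -/
theorem hom_ext_openCover {H Z T : Over U} {K : Type u} (O : K → T.left.Opens)
    (hO : ⨆ k, O k = ⊤) (p q : H ⊗ T ⟶ Z)
    (h : ∀ k, (H ◁ jO (O k)) ≫ p = (H ◁ jO (O k)) ≫ q) : p = q := by
  have hc : TopologicalSpace.IsOpenCover O := hO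
  have h0 : Presieve.ofArrows (fun k => ((O k : T.left.Opens) : Scheme.{u})) (fun k => (O k).ι) ∈
      Scheme.fpqcPrecoverage T.left :=
    Scheme.zariskiPrecoverage_le_fpqcPrecoverage _ (T.left.openCoverOfIsOpenCover O hc).mem₀
  have h1 : Presieve.ofArrows (fun k => (H ⊗ Over.mk ((O k).ι ≫ T.hom)).left)
      (fun k => (H ◁ jO (O k)).left) ∈ Scheme.fpqcPrecoverage (H ⊗ T).left :=
    Precoverage.mem_coverings_of_isPullback _ h0 (snd H T).left _
      (fun k => (snd H (Over.mk ((O k).ι ≫ T.hom))).left)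
      (fun k => isPullback_whiskerLeft H (jO (O k)))
  apply Over.OverMorphism.ext
  apply hom_ext_of_cover _ h1
  intro k
  exact congrArg (fun z => z.left) (h k)

end Groth.Agent.Lib.Helper10.RepLoc
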