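import Mathlib
import Groth.Agent.Lib.Helper10.RepLoc1
import Groth.Agent.Lib.Helper21.DSMap

/-!
# The scheme of homomorphisms between diagonalisable groups is a constant scheme: the
universal property
-/

set_option autoImplicit false
set_option linter.unusedSectionVars false
set_option linter.style.haveILetI false
set_option backward.isDefEq.respectTransparency.types false
set_option maxHeartbeats 4000000
set_option synthInstance.maxHeartbeats 400000
universe u
open CategoryTheory CategoryTheory.Limits AlgebraicGeometry Opposite MonoidalCategory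
  CartesianMonoidalCategory MonObj GrpObj

namespace Groth.Agent.Lib.Helper10.RepLoc

open Groth.Agent.Lib.Helper10.ConstSch Groth.Agent.Lib.Helper10.TwCQc
  Groth.Agent.Lib.Helper10.DiagHom Groth.Agent.Lib.Helper10.DiagHomProps
  Groth.Agent.Lib.Helper10.HomFamBC Groth.Agent.Lib.Helper10.RepDesc

variable {U : Scheme.{u}} {M N : Type} [AddCommGroup M] [AddCommGroup N]

/-- two morphisms out of `X` agreeing on an open cover agree -/
theorem hom_ext_openCover' {X Z : Over U} {K : Type u} (O : K → X.left.Opens)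
    (hO : ⨆ k, O k = ⊤) (p q : X ⟶ Z) (h : ∀ k, jO (O k) ≫ p = jO (O k) ≫ q) : p = q := by
  have hc : TopologicalSpace.IsOpenCover O := hO
  apply Over.OverMorphism.ext
  apply (X.left.openCoverOfIsOpenCover O hc).hom_ext
  intro k
  exact congrArg (fun z => z.left) (h k)

theorem isHomFam_υ₀ : IsHomFam (υ₀ U M N) := by
  intro X a b t
  apply hom_ext_openCover' (fun i : Idx U M N => pre t.left i) (iSup_pre t.left)
  intro i
  have ht := restrict_left t i (pre t.left i) le_rfl
  rw [MonObj.comp_mul, ← Category.assoc, ← Category.assoc, ← Category.assoc, comp_lift,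
    comp_lift, comp_lift, lift_υ₀ _ _ i ht, lift_υ₀ _ _ i ht, lift_υ₀ _ _ i ht, MonObj.comp_mul]
  exact MonObj.mul_comp _ _ (Red.DSmap U i.down)

/-- restriction of a locally constant family -/
theorem restrict_family {T : Over U} (φ : Red.DS U M ⊗ T ⟶ Red.DS U N) {O O' : T.left.Opens}
    (hle : O' ≤ O) (g : N →+ M)
    (h : (Red.DS U M ◁ jO O) ≫ φ = fst _ _ ≫ Red.DSmap U g) :
    (Red.DS U M ◁ jO O') ≫ φ = fst _ _ ≫ Red.DSmap U g := by
  let k : Over.mk (O'.ι ≫ T.hom) ⟶ Over.mk (O.ι ≫ T.hom) :=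
    Over.homMk (T.left.homOfLE hle) (by
      change T.left.homOfLE hle ≫ O.ι ≫ T.hom = O'.ι ≫ T.hom
      rw [← Category.assoc, Scheme.homOfLE_ι])
  have hk : jO O' = k ≫ jO O := by
    apply Over.OverMorphism.ext
    change O'.ι = T.left.homOfLE hle ≫ O.ι
    rw [Scheme.homOfLE_ι]
  rw [hk, MonoidalCategory.whiskerLeft_comp, Category.assoc, h, ← Category.assoc,
    whiskerLeft_fst]

/-- local structure of a family of homomorphisms, in terms of affine opens -/
theorem exists_affine_local (hN : AddGroup.FG N) {T : Over U}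
    (φ : Red.DS U M ⊗ T ⟶ Red.DS U N) (hφ : IsHomFam φ) (x : T.left) :
    ∃ (O : T.left.Opens) (g : N →+ M), x ∈ O ∧ IsAffineOpen O ∧
      (Red.DS U M ◁ jO O) ≫ φ = fst _ _ ≫ Red.DSmap U g := by
  obtain ⟨W, j, g, hj, hx, hjg⟩ := locally_DSmap T hN φ hφ x
  haveI := hj
  obtain ⟨O0, hO0, hxO, hOle⟩ := TopologicalSpace.Opens.isBasis_iff_nbhd.mp
    T.left.isBasis_affineOpens (show x ∈ j.left.opensRange from hx)
  obtain ⟨O, hOeq⟩ : ∃ O : T.left.Opens, O = O0 := ⟨O0, rfl⟩
  subst hOeq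
  refine ⟨O, g, hxO, hO0, ?_⟩
  have hr : Set.range O.ι ⊆ Set.range j.left := by
    rw [Scheme.Opens.range_ι]
    exact hOle
  let k : Over.mk (O.ι ≫ T.hom) ⟶ W := Over.homMk (IsOpenImmersion.lift j.left O.ι hr) (by
    change IsOpenImmersion.lift j.left O.ι hr ≫ W.hom = O.ι ≫ T.hom
    rw [← Over.w j, ← Category.assoc, IsOpenImmersion.lift_fac])
  have hk : jO O = k ≫ j := by
    apply Over.OverMorphism.ext
    change O.ι = IsOpenImmersion.lift j.left O.ι hr ≫ j.left
    rw [IsOpenImmersion.lift_fac]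
  rw [hk, MonoidalCategory.whiskerLeft_comp, Category.assoc, hjg, ← Category.assoc,
    whiskerLeft_fst]

/-- uniqueness of the local constant -/
theorem local_const_unique {T : Over U} (φ : Red.DS U M ⊗ T ⟶ Red.DS U N)
    {O O' : T.left.Opens} (g g' : N →+ M) (x : T.left) (hx : x ∈ O) (hx' : x ∈ O')
    (h : (Red.DS U M ◁ jO O) ≫ φ = fst _ _ ≫ Red.DSmap U g)
    (h' : (Red.DS U M ◁ jO O') ≫ φ = fst _ _ ≫ Red.DSmap U g') : g = g' := by
  obtain ⟨O0, hO0, hxO, hOle⟩ := TopologicalSpace.Opens.isBasis_iff_nbhd.mp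
    T.left.isBasis_affineOpens (show x ∈ O ⊓ O' from ⟨hx, hx'⟩)
  obtain ⟨O'', hOeq⟩ : ∃ O'' : T.left.Opens, O'' = O0 := ⟨O0, rfl⟩
  subst hOeq
  have h1 := restrict_family φ (fun y hy => (hOle hy).1) g h
  have h2 := restrict_family φ (fun y hy => (hOle hy).2) g' h'
  haveI : IsAffine (Over.mk (O''.ι ≫ T.hom)).left := hO0
  exact eq_of_fst_DSmap_eq (Over.mk (O''.ι ≫ T.hom)) ⟨x, hxO⟩ g g' (h1.symm.trans h2)

/-- **The scheme of homomorphisms `D(M) → D(N)`, `N` finitely generated, is the constant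
scheme `Hom(N, M)`.** -/
theorem existsUnique_classify (hN : AddGroup.FG N) (T : Over U)
    (φ : Red.DS U M ⊗ T ⟶ Red.DS U N) (hφ : IsHomFam φ) :
    ∃! a : T ⟶ A₀ U M N, (Red.DS U M ◁ a) ≫ υ₀ U M N = φ := by
  choose O g hxO hOaff hOg using exists_affine_local hN φ hφ
  let V : Idx U M N → T.left.Opens := fun i => ⨆ (x : T.left) (_ : g x = i.down), O x
  have hOV : ∀ x, O x ≤ V ⟨g x⟩ := fun x =>
    le_iSup₂_of_le (f := fun (x' : T.left) (_ : g x' = g x) => O x') x rfl le_rfl
  have hc : ⨆ i, V i = ⊤ := by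
    rw [eq_top_iff]
    intro x _
    exact TopologicalSpace.Opens.mem_iSup.mpr ⟨⟨g x⟩, hOV x (hxO x)⟩
  have hd : ∀ i i', i ≠ i' → Disjoint (V i) (V i') := by
    intro i i' hii
    rw [disjoint_iff, eq_bot_iff]
    rintro y ⟨hy, hy'⟩
    exfalso
    apply hii
    simp only [V, TopologicalSpace.Opens.coe_iSup, Set.mem_iUnion, SetLike.mem_coe,
      exists_prop] at hy hy'
    obtain ⟨x, hgx, hyx⟩ := hy
    obtain ⟨x', hgx', hyx'⟩ := hy'
    have := local_const_unique φ (g x) (g x') y hyx hyx' (hOg x) (hOg x')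
    apply ULift.ext
    rw [← hgx, ← hgx', this]
  let z : T.left ⟶ cst U (Idx U M N) := ofCover V hc hd T.hom
  have hz : z ≫ str U (Idx U M N) = T.hom := ofCover_str V hc hd T.hom
  let a : T ⟶ A₀ U M N := Over.homMk z hz
  have hOpre : ∀ x, O x ≤ pre a.left ⟨g x⟩ := fun x =>
    (hOV x).trans (le_pre_ofCover V hc hd T.hom ⟨g x⟩)
  have hOtop : ⨆ x, O x = ⊤ := by
    rw [eq_top_iff]
    intro x _
    exact TopologicalSpace.Opens.mem_iSup.mpr ⟨x, hxO x⟩
  refine ⟨a, ?_, ?_⟩
  · apply hom_ext_openCover O hOtop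
    intro x
    rw [← Category.assoc, ← MonoidalCategory.whiskerLeft_comp,
      whisker_υ₀ (jO (O x) ≫ a) ⟨g x⟩ (restrict_left a ⟨g x⟩ (O x) (hOpre x)), hOg x]
  · intro a' ha'
    apply Over.OverMorphism.ext
    apply hom_ext_of_pre_le a'.left a.left
    · exact (Over.w a').trans (Over.w a).symm
    · intro i y hy
      -- an affine neighbourhood of `y` inside `pre a'.left i`
      have h1 : (Red.DS U M ◁ jO (pre a'.left i)) ≫ φ = fst _ _ ≫ Red.DSmap U i.down := by
        rw [← ha', ← Category.assoc, ← MonoidalCategory.whiskerLeft_comp,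
          whisker_υ₀ (jO (pre a'.left i) ≫ a') i (restrict_left a' i _ le_rfl)]
      have h2 := local_const_unique φ i.down (g y) y hy (hxO y) h1 (hOg y)
      have h3 : i = ⟨g y⟩ := ULift.ext _ _ h2
      rw [h3]
      exact hOpre y (hxO y)

end Groth.Agent.Lib.Helper10.RepLoc
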