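import Mathlib
import Groth.Agent.Lib.Helper10.RepLoc2

/-!
# Characters of a constant commutative group: the local model
-/

set_option autoImplicit false
set_option linter.unusedSectionVars false
set_option linter.style.haveILetI false
set_option backward.isDefEq.respectTransparency.types false
set_option maxHeartbeats 4000000
set_option synthInstance.maxHeartbeats 400000
universe u
open CategoryTheory CategoryTheory.Limits AlgebraicGeometry Opposite MonoidalCategory
  CartesianMonoidalCategory MonObj GrpObj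

namespace Groth.Agent.Lib.Helper10.CharLoc

open Groth.Agent.Lib.Helper10.ConstSch Groth.Agent.Lib.Helper10.HomFamBC
  Groth.Agent.Lib.Helper21.GaPts Groth.Agent.Lib.Helper10.RepLoc

variable {U : Scheme.{u}} {M : Type} [Group M] {R' : Over U} [GrpObj R']
  (e : R' ≅ TwC.const U M)

/-- the constant point of index `m`. -/
noncomputable def cpt (T : Over U) (m : M) : T ⟶ R' := toUnit T ≫ TwC.pt U M m ≫ e.inv

theorem comp_cpt {T T' : Over U} (f : T' ⟶ T) (m : M) : f ≫ cpt e T m = cpt e T' m := by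
  rw [cpt, cpt, ← Category.assoc]
  congr 1
  exact toUnit_unique _ _

theorem cpt_label (T : Over U) (m : M) :
    (cpt e T m ≫ e.hom).left = T.hom ≫ Sigma.ι (fun _ : M => U) m := by
  rw [cpt, Category.assoc, Category.assoc, Iso.inv_hom_id, Category.comp_id]
  rfl

theorem eq_cpt_of_label {X : Over U} (a : X ⟶ R') (m : M)
    (h : (a ≫ e.hom).left = X.hom ≫ Sigma.ι (fun _ : M => U) m) : a = cpt e X m := by
  have h1 : a ≫ e.hom = cpt e X m ≫ e.hom := by
    apply Over.OverMorphism.ext
    rw [h, cpt_label]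
  calc a = (a ≫ e.hom) ≫ e.inv := by rw [Category.assoc, Iso.hom_inv_id, Category.comp_id]
    _ = cpt e X m := by rw [h1, Category.assoc, Iso.hom_inv_id, Category.comp_id]

theorem restrict_eq_cpt {X : Over U} (a : X ⟶ R') (m : M) (O : X.left.Opens)
    (hO : O ≤ pre (a ≫ e.hom).left m) : jO O ≫ a = cpt e (Over.mk (O.ι ≫ X.hom)) m := by
  apply eq_cpt_of_label
  change O.ι ≫ (a ≫ e.hom).left = (O.ι ≫ X.hom) ≫ _
  rw [ι_comp_of_le (a ≫ e.hom).left m O hO]
  congr 1
  rw [← Over.w (a ≫ e.hom)]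
  rfl

variable (hconst : TwC.IsConstGrp M R' e)

include hconst in
theorem cpt_mul (T : Over U) (m n : M) : cpt e T m * cpt e T n = cpt e T (m * n) := by
  rw [cpt, cpt, cpt, ← MonObj.comp_mul, hconst m n]

include hconst in
theorem cpt_one (T : Over U) : cpt e T (1 : M) = 1 := by
  have h := cpt_mul e hconst T 1 1
  rw [_root_.mul_one] at h
  exact mul_eq_left.mp h

/-- the character group of the abelianisation -/
abbrev Mab (M : Type) [Group M] : Type := Additive (Abelianization M)

/-- the class of an element -/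
def cls (m : M) : Mab M := Additive.ofMul (Abelianization.of m)

theorem cls_mul (m n : M) : cls (m * n) = cls m + cls n := by
  unfold cls
  rw [map_mul]
  rfl

theorem cls_surjective : Function.Surjective (cls (M := M)) := by
  intro x
  obtain ⟨m, hm⟩ := QuotientGroup.mk_surjective (Additive.toMul x)
  exact ⟨m, by
    unfold cls
    change Additive.ofMul (QuotientGroup.mk m) = x
    rw [hm]
    rfl⟩

/-- the character attached to an element -/
noncomputable def chi (m : M) : Red.DS U (Mab M) ⟶ Red.Gm U :=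
  Red.DSmap U (zmultiplesHom (Mab M) (cls m))

theorem dsFn_chi {X : Over U} (d : X ⟶ Red.DS U (Mab M)) (m : M) :
    dsFn (1 : ℤ) (d ≫ chi m) = dsFn (cls m) d := by
  unfold chi
  rw [dsFn_DSmap]
  congr 1
  simp

theorem gm_ext {X : Over U} {x y : X ⟶ Red.Gm U}
    (h : dsFn (1 : ℤ) x = dsFn (1 : ℤ) y) : x = y := by
  apply dsFn_injective
  intro m
  have hc : dsChar x = dsChar y := MonoidHom.ext_mint h
  exact congrArg (fun f : Multiplicative ℤ →* Γ(X.left, ⊤) => f (Multiplicative.ofAdd m)) hc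

theorem chi_mul {X : Over U} (d : X ⟶ Red.DS U (Mab M)) (m n : M) :
    d ≫ chi (m * n) = (d ≫ chi m) * (d ≫ chi n) := by
  apply gm_ext
  rw [dsFn_mul, dsFn_chi, dsFn_chi, dsFn_chi, cls_mul, dsFn_add]

/-- the pieces of `R' ⊗ T` -/
noncomputable def Q (T : Over U) (m : M) : (R' ⊗ T).left.Opens :=
  pre (fst R' T ≫ e.hom).left m

theorem iSup_Q (T : Over U) : ⨆ m, Q e T m = ⊤ := iSup_pre (fst R' T ≫ e.hom).left

theorem disjoint_Q (T : Over U) (m m' : M) (h : m ≠ m') : Disjoint (Q e T m) (Q e T m') :=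
  disjoint_pre (fst R' T ≫ e.hom).left m m' h

/-- the universal family of characters, underlying morphism -/
noncomputable def υlocLeft : (R' ⊗ Red.DS U (Mab M)).left ⟶ (Red.Gm U).left :=
  Cofan.IsColimit.desc (nonempty_isColimit (Q e (Red.DS U (Mab M))) (iSup_Q e _)
    (disjoint_Q e _)).some
    (fun m => (Q e (Red.DS U (Mab M)) m).ι ≫ (snd R' (Red.DS U (Mab M))).left ≫ (chi m).left)

theorem ι_υlocLeft (m : M) : (Q e (Red.DS U (Mab M)) m).ι ≫ υlocLeft e =
    (Q e (Red.DS U (Mab M)) m).ι ≫ (snd R' (Red.DS U (Mab M))).left ≫ (chi m).left :=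
  Cofan.IsColimit.fac (nonempty_isColimit (Q e (Red.DS U (Mab M))) (iSup_Q e _)
    (disjoint_Q e _)).some _ m

/-- the universal family of characters -/
noncomputable def υloc : R' ⊗ Red.DS U (Mab M) ⟶ Red.Gm U :=
  Over.homMk (υlocLeft e) (by
    apply Cofan.IsColimit.hom_ext (nonempty_isColimit (Q e (Red.DS U (Mab M))) (iSup_Q e _)
      (disjoint_Q e _)).some
    intro m
    change (Q e (Red.DS U (Mab M)) m).ι ≫ υlocLeft e ≫ (Red.Gm U).hom =
      (Q e (Red.DS U (Mab M)) m).ι ≫ (R' ⊗ Red.DS U (Mab M)).hom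
    rw [← Category.assoc, ι_υlocLeft, Category.assoc, Category.assoc, Over.w (chi m),
      Over.w (snd R' (Red.DS U (Mab M)))])

theorem comp_υloc {X : Over U} (p : X ⟶ R' ⊗ Red.DS U (Mab M)) (m : M)
    (hp : (p ≫ fst _ _ ≫ e.hom).left = X.hom ≫ Sigma.ι (fun _ : M => U) m) :
    p ≫ υloc e = p ≫ snd _ _ ≫ chi m := by
  have hr : Set.range p.left ⊆ Set.range (Q e (Red.DS U (Mab M)) m).ι := by
    rw [Scheme.Opens.range_ι]
    rintro _ ⟨x, rfl⟩
    change (fst R' (Red.DS U (Mab M)) ≫ e.hom).left (p.left x) ∈ cmp U m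
    rw [← Scheme.Hom.comp_apply, ← Over.comp_left, hp, Scheme.Hom.comp_apply]
    exact ⟨X.hom x, rfl⟩
  have hl := IsOpenImmersion.lift_fac (Q e (Red.DS U (Mab M)) m).ι p.left hr
  apply Over.OverMorphism.ext
  rw [Over.comp_left, Over.comp_left, Over.comp_left]
  change p.left ≫ υlocLeft e = _
  rw [← hl, Category.assoc, ι_υlocLeft, ← Category.assoc, hl]

theorem lift_cpt_υloc {X : Over U} (d : X ⟶ Red.DS U (Mab M)) (m : M) :
    lift (cpt e X m) d ≫ υloc e = d ≫ chi m := by
  rw [comp_υloc e _ m, ← Category.assoc, lift_snd]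
  rw [← Category.assoc, lift_fst, cpt_label]

end Groth.Agent.Lib.Helper10.CharLoc
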