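import Mathlib
import Groth.Agent.Lib.Helper10.CharLoc1

/-!
# Characters of a constant commutative group: representability by `D(M^ab)`
-/

set_option autoImplicit false
set_option linter.unusedSectionVars false
set_option linter.style.haveILetI false
set_option backward.isDefEq.respectTransparency.types false
set_option maxHeartbeats 4000000
set_option synthInstance.maxHeartbeats 400000
universe u
open CategoryTheory CategoryTheory.Limits AlgebraicGeometry Opposite MonoidalCategory
  CartesianMonoidalCategory MonObj GrpObj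

namespace Groth.Agent.Lib.Helper10.CharLoc

open Groth.Agent.Lib.Helper10.ConstSch Groth.Agent.Lib.Helper10.HomFamBC
  Groth.Agent.Lib.Helper21.GaPts Groth.Agent.Lib.Helper10.RepLoc

variable {U : Scheme.{u}} {M : Type} [Group M] {R' : Over U} [GrpObj R']
  (e : R' ≅ TwC.const U M) (hconst : TwC.IsConstGrp M R' e)

include hconst in
theorem isHomFam_υloc : IsHomFam (υloc e) := by
  intro X a b d
  let O : ULift.{u} (M × M) → X.left.Opens := fun k =>
    pre (a ≫ e.hom).left k.down.1 ⊓ pre (b ≫ e.hom).left k.down.2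
  have hO : ⨆ k, O k = ⊤ := by
    rw [eq_top_iff]
    intro x _
    obtain ⟨m, hm⟩ := exists_mem_cmp ((a ≫ e.hom).left.base x)
    obtain ⟨n, hn⟩ := exists_mem_cmp ((b ≫ e.hom).left.base x)
    exact TopologicalSpace.Opens.mem_iSup.mpr ⟨⟨(m, n)⟩, hm, hn⟩
  apply hom_ext_openCover' O hO
  intro k
  have ha := restrict_eq_cpt e a k.down.1 (O k) inf_le_left
  have hb := restrict_eq_cpt e b k.down.2 (O k) inf_le_right
  rw [MonObj.comp_mul, ← Category.assoc, ← Category.assoc, ← Category.assoc, comp_lift,
    comp_lift, comp_lift, MonObj.comp_mul, ha, hb, cpt_mul e hconst, lift_cpt_υloc,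
    lift_cpt_υloc, lift_cpt_υloc, chi_mul]

/-- the sheets of `R' ⊗ T` -/
noncomputable def sheet (T : Over U) (m : M) : T ⟶ R' ⊗ T := lift (cpt e T m) (𝟙 T)

theorem jQ_eq (T : Over U) (m : M) :
    jO (Q e T m) = (jO (Q e T m) ≫ snd R' T) ≫ sheet e T m := by
  have h1 : jO (Q e T m) ≫ fst R' T = cpt e _ m :=
    restrict_eq_cpt e (fst R' T) m (Q e T m) le_rfl
  apply CartesianMonoidalCategory.hom_ext
  · rw [h1, sheet, Category.assoc, lift_fst, comp_cpt]
  · rw [sheet, Category.assoc, lift_snd, Category.comp_id]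

/-- two morphisms out of `R' ⊗ T` agreeing on all sheets agree -/
theorem sheet_ext {T Z : Over U} (p q : R' ⊗ T ⟶ Z)
    (h : ∀ m, sheet e T m ≫ p = sheet e T m ≫ q) : p = q := by
  let O : ULift.{u} M → (R' ⊗ T).left.Opens := fun k => Q e T k.down
  have hO : ⨆ k, O k = ⊤ := by
    rw [eq_top_iff]
    intro x _
    obtain ⟨m, hm⟩ := exists_mem_cmp ((fst R' T ≫ e.hom).left.base x)
    exact TopologicalSpace.Opens.mem_iSup.mpr ⟨⟨m⟩, hm⟩
  apply hom_ext_openCover' O hO
  intro k
  change jO (Q e T k.down) ≫ p = jO (Q e T k.down) ≫ q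
  rw [jQ_eq e T k.down]
  simp only [Category.assoc]
  rw [h]

theorem sheet_whisker_υloc {T : Over U} (a : T ⟶ Red.DS U (Mab M)) (m : M) :
    sheet e T m ≫ (R' ◁ a) ≫ υloc e = a ≫ chi m := by
  rw [sheet, ← Category.assoc, lift_whiskerLeft, Category.id_comp, lift_cpt_υloc]

instance isMonHom_chi (m : M) : IsMonHom (chi (U := U) m) := by
  unfold chi
  infer_instance

/-- multiplicativity of the universal family in the character variable -/
theorem whisker_mul_υloc {T : Over U} (x y : T ⟶ Red.DS U (Mab M)) :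
    (R' ◁ (x * y)) ≫ υloc e = ((R' ◁ x) ≫ υloc e) * ((R' ◁ y) ≫ υloc e) := by
  apply sheet_ext e
  intro m
  rw [MonObj.comp_mul, sheet_whisker_υloc, sheet_whisker_υloc, sheet_whisker_υloc]
  exact MonObj.mul_comp x y (chi m)

section Classify

variable {T : Over U} (φ : R' ⊗ T ⟶ Red.Gm U) (hφ : IsHomFam φ)

/-- the value of the family on the `m`-th sheet -/
noncomputable def uval (m : M) : Γ(T.left, ⊤) := dsFn (1 : ℤ) (sheet e T m ≫ φ)

include hconst hφ in
theorem uval_mul (m n : M) : uval e φ (m * n) = uval e φ m * uval e φ n := by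
  unfold uval sheet
  rw [← cpt_mul e hconst, hφ T (cpt e T m) (cpt e T n) (𝟙 T), dsFn_mul]

/-- the character of `M` attached to a family -/
noncomputable def charUnits : M →* (Γ(T.left, ⊤))ˣ :=
  MonoidHom.mk' (fun m => (isUnit_dsFn (1 : ℤ) (sheet e T m ≫ φ)).unit) (by
    intro m n
    apply Units.ext
    change uval e φ (m * n) = uval e φ m * uval e φ n
    exact uval_mul e hconst φ hφ m n)

/-- the character of `M^ab` attached to a family -/
noncomputable def charAb : Multiplicative (Mab M) →* Γ(T.left, ⊤) :=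
  (Units.coeHom _).comp ((Abelianization.lift (charUnits e hconst φ hφ)).comp
    ({ toFun := fun x => Additive.toMul (Multiplicative.toAdd x)
       map_one' := rfl
       map_mul' := fun _ _ => rfl } : Multiplicative (Mab M) →* Abelianization M))

theorem charAb_cls (m : M) :
    charAb e hconst φ hφ (Multiplicative.ofAdd (cls m)) = uval e φ m := by
  unfold charAb cls
  change ((Abelianization.lift (charUnits e hconst φ hφ)) (Abelianization.of m) : Γ(T.left, ⊤)) = _
  rw [Abelianization.lift_apply_of]
  rfl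

include hconst hφ in
/-- **Characters of a constant group are classified by `D(M^ab)`.** -/
theorem existsUnique_classify :
    ∃! a : T ⟶ Red.DS U (Mab M), (R' ◁ a) ≫ υloc e = φ := by
  refine ⟨dsPt (charAb e hconst φ hφ), ?_, ?_⟩
  · apply sheet_ext e
    intro m
    rw [sheet_whisker_υloc]
    apply gm_ext
    rw [dsFn_chi, dsFn_dsPt, charAb_cls]
    rfl
  · intro a' ha'
    apply dsFn_injective
    intro x
    obtain ⟨m, rfl⟩ := cls_surjective x
    rw [dsFn_dsPt, charAb_cls, ← dsFn_chi, ← sheet_whisker_υloc e a' m, ha']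
    rfl

end Classify

end Groth.Agent.Lib.Helper10.CharLoc
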