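import Mathlib
import Groth.Agent.Lib.Helper10.DiagHomProps

/-!
# `D(f)` is faithfully flat for injective `f`
-/

set_option autoImplicit false
set_option backward.isDefEq.respectTransparency.types false
set_option maxHeartbeats 4000000
set_option synthInstance.maxHeartbeats 400000
universe u
open CategoryTheory CategoryTheory.Limits AlgebraicGeometry

namespace Groth.Agent.Lib.Helper10.DiagHomFlat

section Free

variable {A : Type*} [CommRing A] {G₀ H₀ : Type*} [CommGroup G₀] [CommGroup H₀]
  (φ : G₀ →* H₀) (hφ : Function.Injective φ)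
  (ρ : MonoidAlgebra A G₀ →+* MonoidAlgebra A H₀)
  (hρ : ∀ g a, ρ (MonoidAlgebra.single g a) = MonoidAlgebra.single (φ g) a)

include hφ hρ in
theorem coeff_rho_apply (y : MonoidAlgebra A G₀) (g : G₀) : (ρ y).coeff (φ g) = y.coeff g := by
  classical
  refine MonoidAlgebra.induction_linear
    (motive := fun y => (ρ y).coeff (φ g) = y.coeff g) y ?_ ?_ ?_
  · simp
  · intro y y' h h'
    rw [map_add, MonoidAlgebra.coeff_add, MonoidAlgebra.coeff_add, Finsupp.add_apply,
      Finsupp.add_apply, h, h']
  · intro g₀ a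
    rw [hρ, MonoidAlgebra.coeff_single, MonoidAlgebra.coeff_single, Finsupp.single_apply,
      Finsupp.single_apply]
    by_cases hg : g₀ = g
    · rw [if_pos hg, if_pos (by rw [hg])]
    · rw [if_neg hg, if_neg (fun h => hg (hφ h))]

include hρ in
theorem coeff_rho_of_notMem (y : MonoidAlgebra A G₀) (h : H₀) (hh : h ∉ φ.range) :
    (ρ y).coeff h = 0 := by
  classical
  refine MonoidAlgebra.induction_linear
    (motive := fun y => (ρ y).coeff h = 0) y ?_ ?_ ?_
  · simp
  · intro y y' h1 h2
    rw [map_add, MonoidAlgebra.coeff_add, Finsupp.add_apply, h1, h2, add_zero]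
  · intro g₀ a
    rw [hρ, MonoidAlgebra.coeff_single, Finsupp.single_apply, if_neg]
    rintro rfl
    exact hh ⟨g₀, rfl⟩

include hφ hρ in
/-- the group algebra of `H₀` is free over the group algebra of a subgroup. -/
theorem free_of_injective :
    letI := ρ.toAlgebra
    Module.Free (MonoidAlgebra A G₀) (MonoidAlgebra A H₀) := by
  classical
  letI := ρ.toAlgebra
  let Q := H₀ ⧸ φ.range
  let σ : Q → H₀ := Quotient.out
  have hσ : ∀ c : Q, (QuotientGroup.mk (σ c) : Q) = c := fun c => QuotientGroup.out_eq' c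
  let b : Q → MonoidAlgebra A H₀ := fun c => MonoidAlgebra.single (σ c) 1
  have hsmul : ∀ (y : MonoidAlgebra A G₀) (z : MonoidAlgebra A H₀), y • z = ρ y * z :=
    fun y z => rfl
  have hnot : ∀ (c c' : Q) (g : G₀), c' ≠ c → φ g * σ c * (σ c')⁻¹ ∉ φ.range := by
    intro c c' g hne hmem
    apply hne
    have h1 : σ c * (σ c')⁻¹ ∈ φ.range := by
      have h2 : (φ g)⁻¹ * (φ g * σ c * (σ c')⁻¹) ∈ φ.range :=
        φ.range.mul_mem (φ.range.inv_mem ⟨g, rfl⟩) hmem
      have h3 : (φ g)⁻¹ * (φ g * σ c * (σ c')⁻¹) = σ c * (σ c')⁻¹ := by group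
      rwa [h3] at h2
    rw [← hσ c, ← hσ c']
    refine (QuotientGroup.eq.mpr ?_)
    have h4 : (σ c')⁻¹ * σ c = σ c * (σ c')⁻¹ := mul_comm _ _
    rw [h4]
    exact h1
  have hli : LinearIndependent (MonoidAlgebra A G₀) b := by
    rw [linearIndependent_iff]
    intro l hl
    ext c g
    have h1 := congrArg (fun z : MonoidAlgebra A H₀ => z.coeff (φ g * σ c)) hl
    simp only [Finsupp.linearCombination_apply, Finsupp.sum, MonoidAlgebra.coeff_sum,
      Finsupp.coe_finsetSum, Finset.sum_apply, MonoidAlgebra.coeff_zero, Finsupp.coe_zero,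
      Pi.zero_apply] at h1
    have h2 : ∀ c' ∈ l.support, c' ≠ c →
        ((l c') • b c').coeff (φ g * σ c) = 0 := by
      intro c' _ hne
      rw [hsmul, MonoidAlgebra.coeff_mul_single_apply, mul_one]
      exact coeff_rho_of_notMem φ ρ hρ _ _ (hnot c c' g hne)
    have h3 : ((l c) • b c).coeff (φ g * σ c) = (l c).coeff g := by
      rw [hsmul, MonoidAlgebra.coeff_mul_single_apply, mul_one, mul_inv_cancel_right]
      exact coeff_rho_apply φ hφ ρ hρ _ _
    by_cases hc : c ∈ l.support
    · rw [Finset.sum_eq_single_of_mem c hc h2, h3] at h1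
      simpa using h1
    · rw [Finsupp.notMem_support_iff] at hc
      rw [hc]
      simp
  have hsp : ⊤ ≤ Submodule.span (MonoidAlgebra A G₀) (Set.range b) := by
    intro x _
    refine MonoidAlgebra.induction_linear
      (motive := fun x => x ∈ Submodule.span (MonoidAlgebra A G₀) (Set.range b)) x
      (Submodule.zero_mem _) (fun _ _ h h' => Submodule.add_mem _ h h') ?_
    intro h a
    let c : Q := QuotientGroup.mk h
    have h1 : (σ c)⁻¹ * h ∈ φ.range := QuotientGroup.eq.mp (hσ c)
    obtain ⟨g, hg⟩ := h1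
    have h2 : MonoidAlgebra.single h a = (MonoidAlgebra.single g a : MonoidAlgebra A G₀) • b c := by
      rw [hsmul, hρ, MonoidAlgebra.single_mul_single, mul_one, hg]
      congr 1
      rw [mul_comm (σ c)⁻¹ h, inv_mul_cancel_right]
    rw [h2]
    exact Submodule.smul_mem _ _ (Submodule.subset_span ⟨c, rfl⟩)
  exact Module.Free.of_basis (Module.Basis.mk hli hsp)

end Free

section Scheme

variable {W : Scheme.{u}} {M N : Type} [AddCommGroup M] [AddCommGroup N]

/-- `D(f)` is flat and surjective if `f` is injective. -/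
theorem flat_surjective_of_injective (f : N →+ M) (hf : Function.Injective f) :
    Flat (Red.DSmap W f).left ∧ Surjective (Red.DSmap W f).left := by
  let ρ : MonoidAlgebra (ULift.{u} ℤ) (Multiplicative N) →+*
      MonoidAlgebra (ULift.{u} ℤ) (Multiplicative M) :=
    (MonoidAlgebra.mapDomainAlgHom (ULift.{u} ℤ) (ULift.{u} ℤ)
      (AddMonoidHom.toMultiplicative f)).toRingHom
  have hρ : ∀ g a, ρ (MonoidAlgebra.single g a) =
      MonoidAlgebra.single (AddMonoidHom.toMultiplicative f g) a := by
    intro g a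
    change MonoidAlgebra.mapDomain _ _ = _
    rw [MonoidAlgebra.mapDomain_single]
  have hinj : Function.Injective (AddMonoidHom.toMultiplicative f) := fun a b h => hf h
  have hfree := free_of_injective (A := ULift.{u} ℤ) (AddMonoidHom.toMultiplicative f) hinj ρ hρ
  have hff : ρ.FaithfullyFlat := by
    letI := ρ.toAlgebra
    haveI := hfree
    change Module.FaithfullyFlat (MonoidAlgebra (ULift.{u} ℤ) (Multiplicative N))
      (MonoidAlgebra (ULift.{u} ℤ) (Multiplicative M))
    infer_instance
  have h1 := (flat_and_surjective_SpecMap_iff (CommRingCat.ofHom ρ)).mpr hff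
  constructor
  · apply MorphismProperty.overPullbackMap (P := @Flat)
    exact h1.1
  · apply MorphismProperty.overPullbackMap (P := @Surjective)
    exact h1.2

end Scheme

end Groth.Agent.Lib.Helper10.DiagHomFlat
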