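import Mathlib
import Groth.Agent.Lib.Helper10.DiagHomFlat
import Groth.Agent.Lib.Helper10.FppfQuot1
import Groth.Prelude.Def_NonAbH2
import Groth.Agent.Lib.Helper14.LfpOfComp
import Groth.Agent.Lib.Helper10.MultTypeMono

/-!
# Exactness of `1 → D(Q) → D(M) → D(N) → 1` for `0 → N → M → Q → 0` exact
-/

set_option autoImplicit false
set_option backward.isDefEq.respectTransparency.types false
set_option maxHeartbeats 4000000
set_option synthInstance.maxHeartbeats 400000
universe u
open CategoryTheory CategoryTheory.Limits AlgebraicGeometry MonoidalCategory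
  CartesianMonoidalCategory MonObj GrpObj

namespace Groth.Agent.Lib.Helper10.Kummer

open Groth.Agent.Lib.Helper21.GaPts Groth.Agent.Lib.Helper10.DiagHomProps

variable {S : Scheme.{u}} {M N Q : Type} [AddCommGroup M] [AddCommGroup N] [AddCommGroup Q]

theorem DSmap_zero : Red.DSmap S (0 : N →+ M) = 1 := by
  apply dsFn_injective
  intro n
  have h1 := dsFn_DSmap (0 : N →+ M) n (𝟙 (Red.DS S M))
  rw [Category.id_comp] at h1
  rw [h1, dsFn_one]
  exact dsFn_zero _

/-- the factorisation of a character trivial on the kernel -/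
theorem exists_factor (q : M →+ Q) (hq : Function.Surjective q) {B : Type u} [CommRing B]
    (χ : Multiplicative M →* B)
    (hχ : ∀ m : M, q m = 0 → χ (Multiplicative.ofAdd m) = 1) :
    ∃ χ' : Multiplicative Q →* B, ∀ m : M, χ' (Multiplicative.ofAdd (q m)) =
      χ (Multiplicative.ofAdd m) := by
  classical
  let q' : Multiplicative M →* Multiplicative Q := AddMonoidHom.toMultiplicative q
  have hq' : Function.Surjective q' := hq
  let χu : Multiplicative M →* Bˣ := χ.toHomUnits
  have hker : q'.ker ≤ χu.ker := by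
    intro x hx
    rw [MonoidHom.mem_ker] at hx ⊢
    apply Units.ext
    have : q (Multiplicative.toAdd x) = 0 := hx
    exact hχ _ this
  let ψ : Multiplicative Q →* Bˣ :=
    q'.liftOfRightInverse (Function.surjInv hq') (Function.rightInverse_surjInv hq') ⟨χu, hker⟩
  refine ⟨(Units.coeHom B).comp ψ, fun m => ?_⟩
  have h1 : ψ (q' (Multiplicative.ofAdd m)) = χu (Multiplicative.ofAdd m) :=
    MonoidHom.liftOfRightInverse_comp_apply q' _ _ ⟨χu, hker⟩ _
  change ((ψ (q' (Multiplicative.ofAdd m)) : Bˣ) : B) = _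
  rw [h1]
  rfl

theorem char_trivial (f : N →+ M) (q : M →+ Q)
    (hex : ∀ m : M, q m = 0 → m ∈ f.range) {W : Over S} (a : W ⟶ Red.DS S M)
    (b : W ⟶ 𝟙_ (Over S)) (hab : a ≫ Red.DSmap S f = b ≫ η[Red.DS S N]) :
    ∀ m : M, q m = 0 → (dsChar a) (Multiplicative.ofAdd m) = 1 := by
  intro m hm
  obtain ⟨n, rfl⟩ := hex m hm
  have h1 := dsFn_DSmap f n a
  rw [hab] at h1
  have h2 : dsFn n (b ≫ η[Red.DS S N]) = 1 := by
    have : b ≫ η[Red.DS S N] = 1 := by
      rw [Hom.one_def]; congr 1; exact toUnit_unique _ _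
    rw [this, dsFn_one]
  rw [h2] at h1
  exact h1.symm

theorem isAffineHom_DS (M : Type) [AddCommGroup M] : IsAffineHom (Red.DS S M).hom := by
  haveI : IsAffineHom (Red.diag (ULift.{u} ℤ) M).hom := by
    change IsAffineHom (Spec.map _)
    infer_instance
  exact MorphismProperty.pullback_snd (P := @IsAffineHom) _ _ this

variable (S)

/-- The kernel square. -/
theorem isKernel (f : N →+ M) (q : M →+ Q) (hq : Function.Surjective q)
    (hex : ∀ m : M, q m = 0 → m ∈ f.range) (hqf : q.comp f = 0) :
    IsPullback (Red.DSmap S q) (toUnit (Red.DS S Q)) (Red.DSmap S f) η[Red.DS S N] := by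
  haveI : Mono (Red.DSmap S q) := by
    haveI := mono_of_surjective (W := S) q hq
    exact (Over.forget S).mono_of_mono_map (by simpa using this)
  have hw : Red.DSmap S q ≫ Red.DSmap S f = 1 := by
    rw [DSmap_comp, hqf, DSmap_zero]
  refine Groth.Agent.Lib.Helper10.HomSp.isPullback_of_lift _ _ _ _ ?_
    (fun {W} a b hab => dsPt (exists_factor q hq (dsChar a)
      (char_trivial f q hex a b hab)).choose) ?_ ?_ ?_
  · rw [hw, Hom.one_def]
  · intro W a b hab
    apply dsFn_injective
    intro m
    rw [dsFn_DSmap, dsFn_dsPt]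
    exact (exists_factor q hq (dsChar a) (char_trivial f q hex a b hab)).choose_spec m
  · intro W a b hab
    exact toUnit_unique _ _
  · intro W m m' h1 _
    exact (cancel_mono _).mp h1

/-- The exactness statement, with the covering condition left as a hypothesis on `D(f)`. -/
theorem isExactSeq (K : Precoverage Scheme.{u}) (f : N →+ M) (q : M →+ Q)
    (hq : Function.Surjective q)
    (hex : ∀ m : M, q m = 0 → m ∈ f.range) (hqf : q.comp f = 0)
    (hK : Presieve.singleton (Red.DSmap S f).left ∈ K (Red.DS S N).left) :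
    NonAbH1.IsExactSeq K (Red.DSmap S q) (Red.DSmap S f) := by
  refine ⟨inferInstance, inferInstance, ?_, ?_, ?_⟩
  · rw [DSmap_comp, hqf, DSmap_zero]
  · exact Groth.Agent.Lib.Helper10.FppfQuot.isPullback_of_kernel _ _ (isKernel S f q hq hex hqf)
  · refine ⟨Presieve.singleton (Red.DSmap S f).left, hK, ?_⟩
    rintro S' g ⟨⟩
    exact ⟨𝟙 _, Category.id_comp _⟩

theorem isExactSeq_fpqc (f : N →+ M) (q : M →+ Q)
    (hq : Function.Surjective q) (hf : Function.Injective f)
    (hex : ∀ m : M, q m = 0 → m ∈ f.range) (hqf : q.comp f = 0) :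
    NonAbH1.IsExactSeq Scheme.fpqcPrecoverage (Red.DSmap S q) (Red.DSmap S f) := by
  apply isExactSeq S _ f q hq hex hqf
  obtain ⟨h1, h2⟩ := Groth.Agent.Lib.Helper10.DiagHomFlat.flat_surjective_of_injective
    (W := S) f hf
  haveI := h1
  haveI := h2
  haveI : IsAffineHom (Red.DS S M).hom := isAffineHom_DS M
  haveI : IsAffineHom (Red.DSmap S f).left := by
    haveI : IsAffineHom ((Red.DSmap S f).left ≫ (Red.DS S N).hom) := by
      rw [Over.w]; infer_instance
    haveI : IsAffineHom (Red.DS S N).hom := isAffineHom_DS N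
    exact IsAffineHom.of_comp _ (Red.DS S N).hom
  exact Scheme.Hom.singleton_mem_fpqcPrecoverage _

theorem lfp_diag (M : Type) [AddCommGroup M] (hM : AddGroup.FG M) :
    LocallyOfFinitePresentation (Red.diag (ULift.{u} ℤ) M).hom := by
  change LocallyOfFinitePresentation (Spec.map (CommRingCat.ofHom
    (algebraMap (ULift.{u} ℤ) (MonoidAlgebra (ULift.{u} ℤ) (Multiplicative M)))))
  rw [HasRingHomProperty.Spec_iff (P := @LocallyOfFinitePresentation), CommRingCat.hom_ofHom]
  haveI : IsNoetherianRing (ULift.{u} ℤ) :=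
    isNoetherianRing_of_ringEquiv ℤ (ULift.ringEquiv (R := ℤ)).symm
  rw [← RingHom.FinitePresentation.of_finiteType, RingHom.finiteType_algebraMap]
  haveI : Monoid.FG (Multiplicative M) :=
    AddMonoid.fg_iff_mul_fg.mp (AddGroup.fg_iff_addMonoid_fg.mp hM)
  exact MonoidAlgebra.finiteType_of_fg

theorem lfp_DS (M : Type) [AddCommGroup M] (hM : AddGroup.FG M) :
    LocallyOfFinitePresentation (Red.DS S M).hom :=
  MorphismProperty.pullback_snd (P := @LocallyOfFinitePresentation) _ _ (lfp_diag M hM)

theorem isExactSeq_fppf (f : N →+ M) (q : M →+ Q)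
    (hM : AddGroup.FG M) (hN : AddGroup.FG N)
    (hq : Function.Surjective q) (hf : Function.Injective f)
    (hex : ∀ m : M, q m = 0 → m ∈ f.range) (hqf : q.comp f = 0) :
    NonAbH1.IsExactSeq Scheme.fppfPrecoverage (Red.DSmap S q) (Red.DSmap S f) := by
  apply isExactSeq S _ f q hq hex hqf
  obtain ⟨h1, h2⟩ := Groth.Agent.Lib.Helper10.DiagHomFlat.flat_surjective_of_injective
    (W := S) f hf
  haveI := h1
  haveI := h2
  haveI : LocallyOfFinitePresentation (Red.DSmap S f).left := by
    apply Groth.Agent.Lib.Helper14.AS.locallyOfFinitePresentation_of_comp _ (Red.DS S N).hom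
    · rw [Over.w]; exact lfp_DS S M hM
    · exact Groth.Agent.Lib.Helper10.MultTypeMono.lft_DS S N hN
  exact Scheme.Hom.singleton_mem_fppfPrecoverage _

end Groth.Agent.Lib.Helper10.Kummer
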