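import Mathlib
import Groth.Agent.Lib.Helper10.RepDesc1
import Groth.Agent.Lib.Helper10.HomFamBC
import Groth.Agent.Lib.Helper10.IQADesc5

/-!
# Representability of the functor of homomorphisms descends along fpqc coverings
-/

set_option autoImplicit false
set_option linter.unusedSectionVars false
set_option linter.style.haveILetI false
set_option backward.isDefEq.respectTransparency.types false
set_option maxHeartbeats 4000000
set_option synthInstance.maxHeartbeats 400000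
universe u
open CategoryTheory CategoryTheory.Limits AlgebraicGeometry Opposite MonoidalCategory
  CartesianMonoidalCategory MonObj GrpObj

namespace Groth.Agent.Lib.Helper10.RepDesc

open Desc Groth.Agent.Lib.Helper10.HomFamBC

variable {S : Scheme.{u}} (H G : Over S) [GrpObj H] [GrpObj G]
  {J : Type u} {X : J → Scheme.{u}} (f : ∀ i, X i ⟶ S)

/-- local representing data for the functor of homomorphisms `H → G`. -/
structure LocData where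
  A' : ∀ i, Over (X i)
  Υ : ∀ i, H ⊗ (Over.map (f i)).obj (A' i) ⟶ G
  hΥ : ∀ i, IsHomFam (Υ i)
  huniv : ∀ i (T : Over (X i)) (Φ : H ⊗ (Over.map (f i)).obj T ⟶ G), IsHomFam Φ →
    ∃! a : T ⟶ A' i, (H ◁ (Over.map (f i)).map a) ≫ Υ i = Φ

variable {H G f} (L : LocData H G f)

namespace LocData

/-- the morphism over `S` attached to a point of `A' i`. -/
def liftHom {i : J} {T : Over S} {x : T.left ⟶ X i} (h : x ≫ f i = T.hom)
    (v : Lifts (L.A' i) x) : T ⟶ (Over.map (f i)).obj (L.A' i) :=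
  Over.homMk v.1 (by
    change v.1 ≫ (L.A' i).hom ≫ f i = T.hom
    rw [← Category.assoc, v.2, h])

/-- the family of homomorphisms attached to a point of `A' i`. -/
noncomputable def toFam {i : J} {T : Over S} {x : T.left ⟶ X i} (h : x ≫ f i = T.hom)
    (v : Lifts (L.A' i) x) : H ⊗ T ⟶ G :=
  (H ◁ L.liftHom h v) ≫ L.Υ i

theorem isHomFam_toFam {i : J} {T : Over S} {x : T.left ⟶ X i} (h : x ≫ f i = T.hom)
    (v : Lifts (L.A' i) x) : IsHomFam (L.toFam h v) :=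
  (L.hΥ i).whisker _

theorem toFam_comp {i : J} {T W : Over S} (a : W ⟶ T) {x : T.left ⟶ X i}
    (h : x ≫ f i = T.hom) (v : Lifts (L.A' i) x) :
    (H ◁ a) ≫ L.toFam h v =
      L.toFam (x := a.left ≫ x) (by rw [Category.assoc, h, Over.w])
        ⟨a.left ≫ v.1, by rw [Category.assoc, v.2]⟩ := by
  unfold toFam
  rw [← Category.assoc, ← MonoidalCategory.whiskerLeft_comp]
  rfl

theorem toFam_bij {i : J} (T : Over S) (x : T.left ⟶ X i) (h : x ≫ f i = T.hom)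
    (Φ : H ⊗ T ⟶ G) (hΦ : IsHomFam Φ) : ∃! v : Lifts (L.A' i) x, L.toFam h v = Φ := by
  obtain ⟨TL, ⟨⟨⟩⟩, Th⟩ := T
  change TL ⟶ X i at x
  change x ≫ f i = Th at h
  subst h
  obtain ⟨a, ha, hau⟩ := L.huniv i (Over.mk x) Φ hΦ
  refine ⟨⟨a.left, Over.w a⟩, ?_, ?_⟩
  · change (H ◁ _) ≫ L.Υ i = Φ
    rw [← ha]
    rfl
  · intro w hw
    have h2 := hau (Over.homMk w.1 w.2) (by
      rw [← hw]
      rfl)
    apply Subtype.ext
    change w.1 = a.left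
    rw [← h2]
    rfl

theorem toFam_injective {i : J} {T : Over S} {x : T.left ⟶ X i} (h : x ≫ f i = T.hom)
    (v w : Lifts (L.A' i) x) (hvw : L.toFam h v = L.toFam h w) : v = w :=
  (L.toFam_bij T x h _ (L.isHomFam_toFam h w)).unique hvw rfl

/-- transfer of points between the local representing objects. -/
noncomputable def transfer {i j : J} {T : Over S} {x₀ : T.left ⟶ X i} {x₁ : T.left ⟶ X j}
    (h₀ : x₀ ≫ f i = T.hom) (h₁ : x₁ ≫ f j = T.hom) (v : Lifts (L.A' i) x₀) :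
    Lifts (L.A' j) x₁ :=
  (L.toFam_bij T x₁ h₁ (L.toFam h₀ v) (L.isHomFam_toFam h₀ v)).choose

theorem toFam_transfer {i j : J} {T : Over S} {x₀ : T.left ⟶ X i} {x₁ : T.left ⟶ X j}
    (h₀ : x₀ ≫ f i = T.hom) (h₁ : x₁ ≫ f j = T.hom) (v : Lifts (L.A' i) x₀) :
    L.toFam h₁ (L.transfer h₀ h₁ v) = L.toFam h₀ v :=
  (L.toFam_bij T x₁ h₁ (L.toFam h₀ v) (L.isHomFam_toFam h₀ v)).choose_spec.1

theorem transfer_unique {i j : J} {T : Over S} {x₀ : T.left ⟶ X i} {x₁ : T.left ⟶ X j}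
    (h₀ : x₀ ≫ f i = T.hom) (h₁ : x₁ ≫ f j = T.hom) (v : Lifts (L.A' i) x₀)
    (w : Lifts (L.A' j) x₁) (hw : L.toFam h₁ w = L.toFam h₀ v) : w = L.transfer h₀ h₁ v :=
  L.toFam_injective h₁ _ _ (hw.trans (L.toFam_transfer h₀ h₁ v).symm)

theorem transfer_self {i : J} {T : Over S} {x₀ : T.left ⟶ X i}
    (h₀ : x₀ ≫ f i = T.hom) (v : Lifts (L.A' i) x₀) : L.transfer h₀ h₀ v = v :=
  (L.transfer_unique h₀ h₀ v v rfl).symm

theorem transfer_trans {i j k : J} {T : Over S} {x₀ : T.left ⟶ X i} {x₁ : T.left ⟶ X j}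
    {x₂ : T.left ⟶ X k} (h₀ : x₀ ≫ f i = T.hom) (h₁ : x₁ ≫ f j = T.hom)
    (h₂ : x₂ ≫ f k = T.hom) (v : Lifts (L.A' i) x₀) :
    L.transfer h₁ h₂ (L.transfer h₀ h₁ v) = L.transfer h₀ h₂ v :=
  L.transfer_unique h₀ h₂ v _ ((L.toFam_transfer h₁ h₂ _).trans (L.toFam_transfer h₀ h₁ v))

theorem transfer_comp {i j : J} {T W : Over S} (a : W ⟶ T) {x₀ : T.left ⟶ X i}
    {x₁ : T.left ⟶ X j} (h₀ : x₀ ≫ f i = T.hom) (h₁ : x₁ ≫ f j = T.hom)
    (v : Lifts (L.A' i) x₀) :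
    (L.transfer (T := W) (x₀ := a.left ≫ x₀) (x₁ := a.left ≫ x₁)
      (by rw [Category.assoc, h₀, Over.w]) (by rw [Category.assoc, h₁, Over.w])
      ⟨a.left ≫ v.1, by rw [Category.assoc, v.2]⟩).1 = a.left ≫ (L.transfer h₀ h₁ v).1 := by
  have := L.transfer_unique (T := W) (x₀ := a.left ≫ x₀) (x₁ := a.left ≫ x₁)
    (by rw [Category.assoc, h₀, Over.w]) (by rw [Category.assoc, h₁, Over.w])
    ⟨a.left ≫ v.1, by rw [Category.assoc, v.2]⟩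
    ⟨a.left ≫ (L.transfer h₀ h₁ v).1, by rw [Category.assoc, (L.transfer h₀ h₁ v).2]⟩ (by
      rw [← L.toFam_comp a h₁, ← L.toFam_comp a h₀, L.toFam_transfer])
  exact (congrArg Subtype.val this).symm

theorem transfer_congr {i j : J} {T₀ : Scheme.{u}} {t t' : T₀ ⟶ S} (e : t = t')
    {x₀ : T₀ ⟶ X i} {x₁ : T₀ ⟶ X j} (h₀ : x₀ ≫ f i = t) (h₁ : x₁ ≫ f j = t)
    (v : Lifts (L.A' i) x₀) :
    L.transfer (T := Over.mk t) h₀ h₁ v =
      L.transfer (T := Over.mk t') (h₀.trans e) (h₁.trans e) v := by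
  subst e
  rfl

/-- the transfer bijection. -/
noncomputable def transferEquiv {i j : J} {T : Over S} {x₀ : T.left ⟶ X i} {x₁ : T.left ⟶ X j}
    (h₀ : x₀ ≫ f i = T.hom) (h₁ : x₁ ≫ f j = T.hom) : Lifts (L.A' i) x₀ ≃ Lifts (L.A' j) x₁ where
  toFun := L.transfer h₀ h₁
  invFun := L.transfer h₁ h₀
  left_inv := fun v => by rw [transfer_trans, transfer_self]
  right_inv := fun v => by rw [transfer_trans, transfer_self]

theorem transferEquiv_apply {i j : J} {T : Over S} {x₀ : T.left ⟶ X i} {x₁ : T.left ⟶ X j}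
    (h₀ : x₀ ≫ f i = T.hom) (h₁ : x₁ ≫ f j = T.hom) (v : Lifts (L.A' i) x₀) :
    L.transferEquiv h₀ h₁ v = L.transfer h₀ h₁ v := rfl

theorem dd_natural ⦃T T' : Scheme.{u}⦄ (g : T' ⟶ T) ⦃i j : J⦄ (x₀ : T ⟶ X i) (x₁ : T ⟶ X j)
    (h : x₀ ≫ f i = x₁ ≫ f j) (y₀ : T' ⟶ X i) (y₁ : T' ⟶ X j) (hy₀ : g ≫ x₀ = y₀)
    (hy₁ : g ≫ x₁ = y₁)
    (h' : y₀ ≫ f i = y₁ ≫ f j) (v : Lifts (L.A' i) x₀) (v' : Lifts (L.A' i) y₀)
    (hv' : v'.1 = g ≫ v.1) :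
    (L.transfer (T := Over.mk (y₀ ≫ f i)) (x₀ := y₀) (x₁ := y₁) rfl h'.symm v').1 =
      g ≫ (L.transfer (T := Over.mk (x₀ ≫ f i)) (x₀ := x₀) (x₁ := x₁) rfl h.symm v).1 := by
  subst hy₀ hy₁
  have ev : v' = ⟨g ≫ v.1, by rw [Category.assoc, v.2]⟩ := Subtype.ext hv'
  subst ev
  have h1 := L.transfer_comp (T := Over.mk (x₀ ≫ f i)) (W := Over.mk (g ≫ x₀ ≫ f i))
    (Over.homMk g rfl) (x₀ := x₀) (x₁ := x₁) rfl h.symm v
  have h2 := L.transfer_congr (Category.assoc g x₀ (f i)) (x₀ := g ≫ x₀) (x₁ := g ≫ x₁) rfl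
    h'.symm ⟨g ≫ v.1, by rw [Category.assoc, v.2]⟩
  exact (congrArg Subtype.val h2).trans h1

theorem dd_comp ⦃T : Scheme.{u}⦄ ⦃i j k : J⦄ (x₀ : T ⟶ X i) (x₁ : T ⟶ X j) (x₂ : T ⟶ X k)
    (h₀₁ : x₀ ≫ f i = x₁ ≫ f j) (h₁₂ : x₁ ≫ f j = x₂ ≫ f k) (v : Lifts (L.A' i) x₀) :
    L.transfer (T := Over.mk (x₁ ≫ f j)) (x₀ := x₁) (x₁ := x₂) rfl h₁₂.symm
      (L.transfer (T := Over.mk (x₀ ≫ f i)) (x₀ := x₀) (x₁ := x₁) rfl h₀₁.symm v) =
      L.transfer (T := Over.mk (x₀ ≫ f i)) (x₀ := x₀) (x₁ := x₂) rfl (h₀₁.trans h₁₂).symm v := by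
  have h2 := L.transfer_congr h₀₁.symm (x₀ := x₁) (x₁ := x₂) rfl h₁₂.symm
    (L.transfer (T := Over.mk (x₀ ≫ f i)) (x₀ := x₀) (x₁ := x₁) rfl h₀₁.symm v)
  rw [h2]
  exact L.transfer_trans (T := Over.mk (x₀ ≫ f i)) (x₀ := x₀) (x₁ := x₁) (x₂ := x₂) rfl
    h₀₁.symm (h₀₁.trans h₁₂).symm v

/-- the descent datum on the local representing objects. -/
noncomputable def dd : SchDDFam f where
  obj := L.A'
  φ T i j x₀ x₁ h := L.transferEquiv (T := Over.mk (x₀ ≫ f i)) (x₀ := x₀) (x₁ := x₁) rfl h.symm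
  φ_natural T T' g i j x₀ x₁ h y₀ y₁ hy₀ hy₁ h' v v' hv' :=
    L.dd_natural g x₀ x₁ h y₀ y₁ hy₀ hy₁ h' v v' hv'
  φ_self T i x v := L.transfer_self (T := Over.mk (x ≫ f i)) (x₀ := x) rfl v
  φ_comp T i j k x₀ x₁ x₂ h₀₁ h₁₂ v := L.dd_comp x₀ x₁ x₂ h₀₁ h₁₂ v

theorem dd_φ {T : Scheme.{u}} {i j : J} (x₀ : T ⟶ X i) (x₁ : T ⟶ X j) (t : T ⟶ S)
    (h₀ : x₀ ≫ f i = t) (h₁ : x₁ ≫ f j = t) (v : Lifts (L.A' i) x₀) :
    L.dd.φ x₀ x₁ (h₀.trans h₁.symm) v = L.transfer (T := Over.mk t) h₀ h₁ v := by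
  subst h₀
  rfl

end LocData

end Groth.Agent.Lib.Helper10.RepDesc
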