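import Mathlib
import Groth.Agent.Lib.Helper10.RepDesc2

/-!
# Representability of the functor of homomorphisms descends along fpqc coverings: the gluing
-/

set_option autoImplicit false
set_option linter.unusedSectionVars false
set_option linter.style.haveILetI false
set_option backward.isDefEq.respectTransparency.types false
set_option maxHeartbeats 4000000
set_option synthInstance.maxHeartbeats 400000
universe u
open CategoryTheory CategoryTheory.Limits AlgebraicGeometry Opposite MonoidalCategory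
  CartesianMonoidalCategory MonObj GrpObj

namespace Groth.Agent.Lib.Helper10.RepDesc

open Desc Groth.Agent.Lib.Helper10.HomFamBC

variable {S : Scheme.{u}} {H G : Over S} [GrpObj H] [GrpObj G]
  {J : Type u} {X : J → Scheme.{u}} (f : ∀ i, X i ⟶ S)

section Cover

variable (A : Over S)

/-- the members of the base-changed covering -/
noncomputable abbrev Ai (i : J) : Over S := Over.mk (pullback.snd (f i) A.hom ≫ A.hom)

noncomputable def ci (i : J) : Ai f A i ⟶ A := Over.homMk (pullback.snd (f i) A.hom) rfl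

noncomputable def bi (i : J) : (Ai f A i).left ⟶ X i := pullback.fst (f i) A.hom

theorem bi_f (i : J) : bi f A i ≫ f i = (Ai f A i).hom := pullback.condition

theorem isPullback_ci (i : J) : IsPullback (ci f A i).left (bi f A i) A.hom (f i) :=
  (IsPullback.of_hasPullback (f i) A.hom).flip

theorem exists_factor (i : J) (W : Over S) (w : W ⟶ A) (x : W.left ⟶ X i)
    (hx : x ≫ f i = W.hom) :
    ∃ w' : W ⟶ Ai f A i, w' ≫ ci f A i = w ∧ w'.left ≫ bi f A i = x := by
  refine ⟨Over.homMk (pullback.lift x w.left (by rw [hx, Over.w])) ?_, ?_, ?_⟩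
  · change pullback.lift _ _ _ ≫ pullback.snd _ _ ≫ A.hom = W.hom
    rw [pullback.lift_snd_assoc, Over.w]
  · apply Over.OverMorphism.ext
    exact pullback.lift_snd _ _ _
  · exact pullback.lift_fst _ _ _

theorem ci_ext (i : J) {W : Over S} (w w' : W ⟶ Ai f A i) (h1 : w ≫ ci f A i = w' ≫ ci f A i)
    (h2 : w.left ≫ bi f A i = w'.left ≫ bi f A i) : w = w' := by
  apply Over.OverMorphism.ext
  apply pullback.hom_ext
  · exact h2
  · exact congrArg (fun z => z.left) h1

end Cover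

variable {f} (L : LocData H G f)

theorem LocData.toFam_congr {i : J} {T : Over S} {x x' : T.left ⟶ X i} (h : x ≫ f i = T.hom)
    (h' : x' ≫ f i = T.hom) (v : Lifts (L.A' i) x) (v' : Lifts (L.A' i) x') (hx : x = x')
    (hv : v.1 = v'.1) : L.toFam h v = L.toFam h' v' := by
  subst hx
  have : v = v' := Subtype.ext hv
  subst this
  rfl

section Glue

variable (A : Over S) (e : (toDDFam f).obj A ≅ L.dd)

theorem E_hom_inv (i : J) : (e.hom.hom i).left ≫ (e.inv.hom i).left = 𝟙 _ := by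
  have h1 : (e.hom ≫ e.inv).hom i = 𝟙 _ := by rw [e.hom_inv_id]; rfl
  have h2 := congrArg (fun z => z.left) h1
  exact h2

theorem E_inv_hom (i : J) : (e.inv.hom i).left ≫ (e.hom.hom i).left = 𝟙 _ := by
  have h1 : (e.inv ≫ e.hom).hom i = 𝟙 _ := by rw [e.inv_hom_id]; rfl
  have h2 := congrArg (fun z => z.left) h1
  exact h2

theorem E_hom_w (i : J) : (e.hom.hom i).left ≫ (L.A' i).hom = pullback.fst (f i) A.hom :=
  Over.w (e.hom.hom i)

theorem E_inv_w (i : J) : (e.inv.hom i).left ≫ pullback.fst (f i) A.hom = (L.A' i).hom :=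
  Over.w (e.inv.hom i)

/-- the universal point of `A' i` over the cover of `A`. -/
noncomputable def vi (i : J) : Lifts (L.A' i) (bi f A i) :=
  ⟨(e.hom.hom i).left, E_hom_w L A e i⟩

/-- points of `A' i` from points of the cover of `A`. -/
noncomputable def compLift (i : J) {W₀ : Scheme.{u}} (a : W₀ ⟶ (Ai f A i).left) :
    Lifts (L.A' i) (a ≫ bi f A i) :=
  ⟨a ≫ (e.hom.hom i).left,
    (Category.assoc _ _ _).trans (congrArg (fun z => a ≫ z) (E_hom_w L A e i))⟩

/-- the universal family over the cover of `A`. -/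
noncomputable def Ψ (i : J) : H ⊗ Ai f A i ⟶ G := L.toFam (bi_f f A i) (vi L A e i)

theorem whisker_Ψ {i : J} {W : Over S} (a : W ⟶ Ai f A i) :
    (H ◁ a) ≫ Ψ L A e i = L.toFam (x := a.left ≫ bi f A i)
      (by rw [Category.assoc, bi_f, Over.w])
      (compLift L A e i a.left) :=
  L.toFam_comp a (bi_f f A i) (vi L A e i)

theorem compat (i j : J) (W : Over S) (a₀ : W ⟶ Ai f A i) (a₁ : W ⟶ Ai f A j)
    (h : a₀ ≫ ci f A i = a₁ ≫ ci f A j) : (H ◁ a₀) ≫ Ψ L A e i = (H ◁ a₁) ≫ Ψ L A e j := by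
  obtain ⟨WL, ⟨⟨⟩⟩, Wh⟩ := W
  rw [whisker_Ψ, whisker_Ψ]
  have h₀ : (a₀.left ≫ bi f A i) ≫ f i = Wh := by
    rw [Category.assoc, bi_f]; exact Over.w a₀
  have h₁ : (a₁.left ≫ bi f A j) ≫ f j = Wh := by
    rw [Category.assoc, bi_f]; exact Over.w a₁
  have hsnd : a₀.left ≫ pullback.snd (f i) A.hom = a₁.left ≫ pullback.snd (f j) A.hom :=
    congrArg (fun z => z.left) h
  have hc := e.hom.comm (a₀.left ≫ bi f A i) (a₁.left ≫ bi f A j) (h₀.trans h₁.symm)
    ⟨a₀.left, rfl⟩ (compLift L A e i a₀.left) rfl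
  have hcan : (((toDDFam f).obj A).φ (a₀.left ≫ bi f A i) (a₁.left ≫ bi f A j)
      (h₀.trans h₁.symm) ⟨a₀.left, rfl⟩).1 = a₁.left := by
    apply pullback.hom_ext
    · change (canMapFam f A _ _ (h₀.trans h₁.symm) _).1 ≫ _ = _
      rw [canMapFam_val, pullback.lift_fst]
      rfl
    · change (canMapFam f A _ _ (h₀.trans h₁.symm) _).1 ≫ _ = _
      rw [canMapFam_val, pullback.lift_snd]
      exact hsnd
  rw [hcan, L.dd_φ _ _ Wh h₀ h₁] at hc
  have key : compLift L A e j a₁.left =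
      L.transfer (T := Over.mk Wh) h₀ h₁ (compLift L A e i a₀.left) :=
    Subtype.ext hc.symm
  have h3 := L.toFam_transfer (T := Over.mk Wh) h₀ h₁ (compLift L A e i a₀.left)
  rw [← key] at h3
  exact h3.symm

variable (hf : Presieve.ofArrows X f ∈ Scheme.fpqcPrecoverage S)

include hf in
theorem exists_υ : ∃ υ : H ⊗ A ⟶ G, ∀ i, (H ◁ ci f A i) ≫ υ = Ψ L A e i := by
  have hcompat : ∀ (i j : J) (W : Over S) (w₀ : W ⟶ H ⊗ Ai f A i) (w₁ : W ⟶ H ⊗ Ai f A j),
      w₀ ≫ (H ◁ ci f A i) = w₁ ≫ (H ◁ ci f A j) → w₀ ≫ Ψ L A e i = w₁ ≫ Ψ L A e j := by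
    intro i j W w₀ w₁ hw
    have hfst : w₀ ≫ fst _ _ = w₁ ≫ fst _ _ := by
      have := congrArg (fun z => z ≫ fst _ _) hw
      simpa only [Category.assoc, whiskerLeft_fst] using this
    have hsnd : (w₀ ≫ snd _ _) ≫ ci f A i = (w₁ ≫ snd _ _) ≫ ci f A j := by
      have := congrArg (fun z => z ≫ snd _ _) hw
      simpa only [Category.assoc, whiskerLeft_snd] using this
    have e0 : w₀ = lift (w₀ ≫ fst _ _) (𝟙 W) ≫ (H ◁ (w₀ ≫ snd _ _)) := by
      rw [lift_whiskerLeft, Category.id_comp, lift_comp_fst_snd]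
    have e1 : w₁ = lift (w₀ ≫ fst _ _) (𝟙 W) ≫ (H ◁ (w₁ ≫ snd _ _)) := by
      rw [lift_whiskerLeft, Category.id_comp, hfst, lift_comp_fst_snd]
    rw [e0, e1, Category.assoc, Category.assoc, compat L A e i j W _ _ hsnd]
  obtain ⟨υ, hυ, -⟩ := glue_over f hf (T := H ⊗ A) (Z := G) (T' := fun i => H ⊗ Ai f A i)
    (fun i => H ◁ ci f A i) (fun i => (snd H (Ai f A i)).left ≫ bi f A i)
    (fun i => isPullback_whiskerLeft_cover H (ci f A i) (f i) (bi f A i) (isPullback_ci f A i))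
    (fun i => Ψ L A e i) hcompat
  exact ⟨υ, hυ⟩

theorem lift_υ (υ : H ⊗ A ⟶ G) (hυ : ∀ i, (H ◁ ci f A i) ≫ υ = Ψ L A e i) {i : J} {W : Over S}
    (p : W ⟶ H) (w' : W ⟶ Ai f A i) :
    lift p (w' ≫ ci f A i) ≫ υ = lift p w' ≫ Ψ L A e i := by
  rw [← hυ i, ← Category.assoc, lift_whiskerLeft]

include hf in
theorem isHomFam_υ (υ : H ⊗ A ⟶ G) (hυ : ∀ i, (H ◁ ci f A i) ≫ υ = Ψ L A e i) :
    IsHomFam υ := by
  intro W a b t
  apply hom_ext_over f hf (T := W) (T' := fun i => Ai f W i) (fun i => ci f W i)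
    (fun i => bi f W i) (fun i => isPullback_ci f W i)
  intro i
  obtain ⟨t', ht', -⟩ := exists_factor f A i (Ai f W i) (ci f W i ≫ t) (bi f W i) (bi_f f W i)
  rw [MonObj.comp_mul, ← Category.assoc, ← Category.assoc, ← Category.assoc, comp_lift,
    comp_lift, comp_lift, MonObj.comp_mul, ← ht', lift_υ L A e υ hυ, lift_υ L A e υ hυ,
    lift_υ L A e υ hυ]
  exact L.isHomFam_toFam _ _ _ _ _ _

end Glue

end Groth.Agent.Lib.Helper10.RepDesc
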