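import Mathlib
import Groth.Agent.Lib.Helper10.RepDesc3

/-!
# Representability of the functor of homomorphisms descends along fpqc coverings: the
universal property
-/

set_option autoImplicit false
set_option linter.unusedSectionVars false
set_option linter.style.haveILetI false
set_option backward.isDefEq.respectTransparency.types false
set_option maxHeartbeats 4000000
set_option synthInstance.maxHeartbeats 400000
universe u
open CategoryTheory CategoryTheory.Limits AlgebraicGeometry Opposite MonoidalCategory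
  CartesianMonoidalCategory MonObj GrpObj

namespace Groth.Agent.Lib.Helper10.RepDesc

open Desc Groth.Agent.Lib.Helper10.HomFamBC

variable {S : Scheme.{u}} {H G : Over S} [GrpObj H] [GrpObj G]
  {J : Type u} {X : J → Scheme.{u}} {f : ∀ i, X i ⟶ S} (L : LocData H G f)
  (A : Over S) (e : (toDDFam f).obj A ≅ L.dd)
  (hf : Presieve.ofArrows X f ∈ Scheme.fpqcPrecoverage S)

/-- clean-typed components of the effectivity isomorphism -/
noncomputable def Eh (i : J) : pullback (f i) A.hom ⟶ (L.A' i).left := (e.hom.hom i).left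

noncomputable def Ei (i : J) : (L.A' i).left ⟶ pullback (f i) A.hom := (e.inv.hom i).left

theorem Eh_Ei (i : J) : Eh L A e i ≫ Ei L A e i = 𝟙 _ := E_hom_inv L A e i

theorem Ei_Eh (i : J) : Ei L A e i ≫ Eh L A e i = 𝟙 _ := E_inv_hom L A e i

theorem Eh_w (i : J) : Eh L A e i ≫ (L.A' i).hom = pullback.fst (f i) A.hom := E_hom_w L A e i

theorem Ei_w (i : J) : Ei L A e i ≫ pullback.fst (f i) A.hom = (L.A' i).hom := E_inv_w L A e i

theorem lifts_Ei_w (i : J) {W₀ : Scheme.{u}} {x : W₀ ⟶ X i} (v : Lifts (L.A' i) x) :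
    (v.1 ≫ Ei L A e i) ≫ pullback.fst (f i) A.hom = x := by
  rw [Category.assoc, Ei_w, v.2]

/-- the local classifying morphisms -/
noncomputable def locMap (T : Over S) (i : J) (v : Lifts (L.A' i) (bi f T i)) :
    Ai f T i ⟶ Ai f A i :=
  Over.homMk (v.1 ≫ Ei L A e i) (by
    change (v.1 ≫ Ei L A e i) ≫ pullback.snd (f i) A.hom ≫ A.hom = (Ai f T i).hom
    rw [← pullback.condition, ← Category.assoc, lifts_Ei_w, bi_f])

theorem locMap_left (T : Over S) (i : J) (v : Lifts (L.A' i) (bi f T i)) :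
    (locMap L A e T i v).left = v.1 ≫ Ei L A e i := rfl

theorem locMap_bi (T : Over S) (i : J) (v : Lifts (L.A' i) (bi f T i)) :
    (locMap L A e T i v).left ≫ bi f A i = bi f T i :=
  lifts_Ei_w L A e i v

theorem locMap_E (T : Over S) (i : J) (v : Lifts (L.A' i) (bi f T i)) :
    (locMap L A e T i v).left ≫ Eh L A e i = v.1 := by
  rw [locMap_left, Category.assoc, Ei_Eh, Category.comp_id]

theorem whisker_locMap_Ψ (T : Over S) (i : J) (v : Lifts (L.A' i) (bi f T i)) :
    (H ◁ locMap L A e T i v) ≫ Ψ L A e i = L.toFam (bi_f f T i) v := by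
  rw [whisker_Ψ]
  exact L.toFam_congr _ _ _ _ (locMap_bi L A e T i v) (locMap_E L A e T i v)

include hf in
theorem existsUnique_classify (υ : H ⊗ A ⟶ G) (hυ : ∀ i, (H ◁ ci f A i) ≫ υ = Ψ L A e i)
    (T : Over S) (Φ : H ⊗ T ⟶ G) (hΦ : IsHomFam Φ) : ∃! a : T ⟶ A, (H ◁ a) ≫ υ = Φ := by
  have hloc : ∀ i, ∃! v : Lifts (L.A' i) (bi f T i),
      L.toFam (bi_f f T i) v = (H ◁ ci f T i) ≫ Φ :=
    fun i => L.toFam_bij _ _ _ _ (hΦ.whisker _)
  choose v hv hvu using hloc
  -- compatibility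
  have hcompat : ∀ (i j : J) (W : Over S) (w₀ : W ⟶ Ai f T i) (w₁ : W ⟶ Ai f T j),
      w₀ ≫ ci f T i = w₁ ≫ ci f T j →
      w₀ ≫ locMap L A e T i (v i) ≫ ci f A i = w₁ ≫ locMap L A e T j (v j) ≫ ci f A j := by
    intro i j W w₀ w₁ hw
    obtain ⟨WL, ⟨⟨⟩⟩, Wh⟩ := W
    have h₀ : (w₀.left ≫ bi f T i) ≫ f i = Wh := by
      rw [Category.assoc, bi_f]; exact Over.w w₀
    have h₁ : (w₁.left ≫ bi f T j) ≫ f j = Wh := by
      rw [Category.assoc, bi_f]; exact Over.w w₁
    let v₀ : Lifts (L.A' i) (w₀.left ≫ bi f T i) :=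
      ⟨w₀.left ≫ (v i).1, by rw [Category.assoc, (v i).2]⟩
    let v₁ : Lifts (L.A' j) (w₁.left ≫ bi f T j) :=
      ⟨w₁.left ≫ (v j).1, by rw [Category.assoc, (v j).2]⟩
    have hF₀ : L.toFam (T := Over.mk Wh) h₀ v₀ = (H ◁ (w₀ ≫ ci f T i)) ≫ Φ := by
      have := L.toFam_comp w₀ (bi_f f T i) (v i)
      rw [hv i, ← Category.assoc, ← MonoidalCategory.whiskerLeft_comp] at this
      exact this.symm
    have hF₁ : L.toFam (T := Over.mk Wh) h₁ v₁ = (H ◁ (w₁ ≫ ci f T j)) ≫ Φ := by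
      have := L.toFam_comp w₁ (bi_f f T j) (v j)
      rw [hv j, ← Category.assoc, ← MonoidalCategory.whiskerLeft_comp] at this
      exact this.symm
    have hv01 : v₁ = L.transfer (T := Over.mk Wh) h₀ h₁ v₀ :=
      L.transfer_unique (T := Over.mk Wh) h₀ h₁ v₀ v₁ (by rw [hF₀, hF₁, hw])
    have hc := e.inv.comm (w₀.left ≫ bi f T i) (w₁.left ≫ bi f T j) (h₀.trans h₁.symm) v₀
      ⟨v₀.1 ≫ Ei L A e i, lifts_Ei_w L A e i v₀⟩ rfl
    rw [L.dd_φ _ _ Wh h₀ h₁, ← hv01] at hc
    have hc2 := congrArg (fun z => z ≫ pullback.snd (f j) A.hom) hc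
    change (canMapFam f A _ _ (h₀.trans h₁.symm) _).1 ≫ pullback.snd (f j) A.hom =
      (v₁.1 ≫ Ei L A e j) ≫ pullback.snd (f j) A.hom at hc2
    rw [canMapFam_val, pullback.lift_snd] at hc2
    apply Over.OverMorphism.ext
    change w₀.left ≫ ((v i).1 ≫ Ei L A e i) ≫ pullback.snd (f i) A.hom =
      w₁.left ≫ ((v j).1 ≫ Ei L A e j) ≫ pullback.snd (f j) A.hom
    have hc3 : ((w₀.left ≫ (v i).1) ≫ Ei L A e i) ≫ pullback.snd (f i) A.hom =
        ((w₁.left ≫ (v j).1) ≫ Ei L A e j) ≫ pullback.snd (f j) A.hom := hc2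
    simp only [Category.assoc] at hc3 ⊢
    exact hc3
  obtain ⟨a, ha, hau⟩ := glue_over f hf (T := T) (Z := A) (T' := fun i => Ai f T i)
    (fun i => ci f T i) (fun i => bi f T i) (fun i => isPullback_ci f T i)
    (fun i => locMap L A e T i (v i) ≫ ci f A i) hcompat
  have hloc2 : ∀ (a₂ : T ⟶ A), (H ◁ a₂) ≫ υ = Φ → ∀ i,
      ci f T i ≫ a₂ = locMap L A e T i (v i) ≫ ci f A i := by
    intro a₂ ha₂ i
    obtain ⟨w', hw', hw'b⟩ := exists_factor f A i (Ai f T i) (ci f T i ≫ a₂) (bi f T i)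
      (bi_f f T i)
    have h1 : (H ◁ ci f T i) ≫ Φ = (H ◁ w') ≫ Ψ L A e i := by
      rw [← ha₂, ← hυ i, ← Category.assoc, ← Category.assoc,
        ← MonoidalCategory.whiskerLeft_comp, ← MonoidalCategory.whiskerLeft_comp, hw']
    rw [whisker_Ψ] at h1
    have h2 : L.toFam (bi_f f T i)
        ⟨w'.left ≫ Eh L A e i, by
          rw [Category.assoc, Eh_w]; exact hw'b⟩ = (H ◁ ci f T i) ≫ Φ := by
      rw [h1]
      exact L.toFam_congr _ _ _ _ hw'b.symm rfl
    have h3 := hvu i _ h2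
    have h4 : w'.left ≫ Eh L A e i = (v i).1 := congrArg Subtype.val h3
    have h5 : w' = locMap L A e T i (v i) := by
      apply ci_ext f A i
      · apply Over.OverMorphism.ext
        change w'.left ≫ pullback.snd (f i) A.hom =
          ((v i).1 ≫ Ei L A e i) ≫ pullback.snd (f i) A.hom
        rw [← h4, Category.assoc, Category.assoc, ← Category.assoc (Eh L A e i), Eh_Ei,
          Category.id_comp]
      · rw [hw'b, locMap_bi]
    rw [← hw', h5]
  have hcover := fun i => isPullback_whiskerLeft_cover H (ci f T i) (f i) (bi f T i)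
    (isPullback_ci f T i)
  refine ⟨a, ?_, ?_⟩
  · apply hom_ext_over f hf (T := H ⊗ T) (T' := fun i => H ⊗ Ai f T i)
      (fun i => H ◁ ci f T i) (fun i => (snd H (Ai f T i)).left ≫ bi f T i) hcover
    intro i
    rw [← Category.assoc, ← MonoidalCategory.whiskerLeft_comp, ha i,
      MonoidalCategory.whiskerLeft_comp, Category.assoc, hυ i, whisker_locMap_Ψ, hv i]
  · intro a₂ ha₂
    exact hau a₂ (hloc2 a₂ ha₂)

end Groth.Agent.Lib.Helper10.RepDesc
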