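import Mathlib
import Groth.Agent.Lib.Helper10.RepDesc4

/-!
# Representability of the functor of homomorphisms descends along fpqc coverings: statement
-/

set_option autoImplicit false
set_option linter.unusedSectionVars false
set_option linter.style.haveILetI false
set_option backward.isDefEq.respectTransparency.types false
set_option maxHeartbeats 4000000
set_option synthInstance.maxHeartbeats 400000
universe u
open CategoryTheory CategoryTheory.Limits AlgebraicGeometry Opposite MonoidalCategory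
  CartesianMonoidalCategory MonObj GrpObj

namespace Groth.Agent.Lib.Helper10.RepDesc

open Desc Groth.Agent.Lib.Helper10.HomFamBC

variable {S : Scheme.{u}} {H G : Over S} [GrpObj H] [GrpObj G]
  {J : Type u} {X : J → Scheme.{u}} {f : ∀ i, X i ⟶ S} (L : LocData H G f)
  (A : Over S) (e : (toDDFam f).obj A ≅ L.dd)

/-- the comparison isomorphism -/
noncomputable def cmpIso (i : J) : Red.bc (f i) A ≅ L.A' i :=
  Over.isoMk (pullbackSymmetry A.hom (f i) ≪≫
    ⟨Eh L A e i, Ei L A e i, Eh_Ei L A e i, Ei_Eh L A e i⟩) (by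
      change (pullbackSymmetry A.hom (f i)).hom ≫ Eh L A e i ≫ (L.A' i).hom =
        pullback.snd A.hom (f i)
      rw [Eh_w, pullbackSymmetry_hom_comp_fst])

theorem cmpIso_inv_left (i : J) :
    (cmpIso L A e i).inv.left = Ei L A e i ≫ (pullbackSymmetry A.hom (f i)).inv := rfl

theorem tr_cmpIso_inv (υ : H ⊗ A ⟶ G) (hυ : ∀ i, (H ◁ ci f A i) ≫ υ = Ψ L A e i) (i : J) :
    (H ◁ tr (f i) (cmpIso L A e i).inv) ≫ υ = L.Υ i := by
  let k' : (Over.map (f i)).obj (L.A' i) ⟶ Ai f A i := Over.homMk (Ei L A e i) (by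
    change Ei L A e i ≫ pullback.snd (f i) A.hom ≫ A.hom = (L.A' i).hom ≫ f i
    rw [← pullback.condition, ← Category.assoc, Ei_w])
  have h1 : tr (f i) (cmpIso L A e i).inv = k' ≫ ci f A i := by
    apply Over.OverMorphism.ext
    change (cmpIso L A e i).inv.left ≫ pullback.fst A.hom (f i) =
      Ei L A e i ≫ pullback.snd (f i) A.hom
    rw [cmpIso_inv_left, Category.assoc, pullbackSymmetry_inv_comp_fst]
  rw [h1, MonoidalCategory.whiskerLeft_comp, Category.assoc, hυ i, whisker_Ψ]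
  have h2 : L.toFam (T := (Over.map (f i)).obj (L.A' i)) (x := (L.A' i).hom) rfl
      ⟨𝟙 _, Category.id_comp _⟩ = L.Υ i := by
    unfold LocData.toFam
    have : L.liftHom (T := (Over.map (f i)).obj (L.A' i)) (x := (L.A' i).hom) rfl
        ⟨𝟙 _, Category.id_comp _⟩ = 𝟙 _ := by
      apply Over.OverMorphism.ext
      rfl
    rw [this, MonoidalCategory.whiskerLeft_id, Category.id_comp]
  rw [← h2]
  refine L.toFam_congr _ _ _ _ ?_ ?_
  · exact Ei_w L A e i
  · exact Ei_Eh L A e i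

/-- **Descent of representability of the functor of homomorphisms.** -/
theorem exists_rep (hf : Presieve.ofArrows X f ∈ Scheme.fpqcPrecoverage S)
    (hIQA : ∀ i, MoreMor.IsIndQuasiAffineHom (L.A' i).hom) :
    ∃ (A : Over S) (υ : H ⊗ A ⟶ G), IsHomFam υ ∧
      (∀ (T : Over S) (Φ : H ⊗ T ⟶ G), IsHomFam Φ → ∃! a : T ⟶ A, (H ◁ a) ≫ υ = Φ) ∧
      ∀ i, ∃ ε : Red.bc (f i) A ≅ L.A' i, (H ◁ tr (f i) ε.inv) ≫ υ = L.Υ i := by
  obtain ⟨A, ⟨e⟩⟩ := Groth.Agent.Lib.Helper10.IQADesc.isEffective_of_indQuasiAffine f hf L.dd hIQA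
  obtain ⟨υ, hυ⟩ := exists_υ L A e hf
  exact ⟨A, υ, isHomFam_υ L A e hf υ hυ, existsUnique_classify L A e hf υ hυ,
    fun i => ⟨cmpIso L A e i, tr_cmpIso_inv L A e υ hυ i⟩⟩

end Groth.Agent.Lib.Helper10.RepDesc
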