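import Mathlib
import Groth.Agent.Lib.Helper10.TwCQc1
import Groth.Agent.Lib.Helper25.ProperDescent

set_option autoImplicit false
set_option linter.unusedSectionVars false
set_option linter.style.haveILetI false
set_option backward.isDefEq.respectTransparency.types false
set_option maxHeartbeats 4000000
set_option synthInstance.maxHeartbeats 400000

universe u

open CategoryTheory CategoryTheory.Limits AlgebraicGeometry Opposite

namespace Groth.Agent.Lib.Helper10.TwCVal

/-- A constant scheme is separated over its base. -/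
theorem isSeparated_sigmaDesc (T : Scheme.{u}) (I : Type u) :
    IsSeparated (Sigma.desc (fun _ : I => 𝟙 T)) := by
  set f := Sigma.desc (fun _ : I => 𝟙 T) with hf
  have hιf : ∀ i, Sigma.ι (fun _ : I => T) i ≫ f = 𝟙 T := fun i => by simp [hf]
  refine ⟨IsClosedImmersion.of_isPreimmersion _ ?_⟩
  rw [← isOpen_compl_iff, isOpen_iff_forall_mem_open]
  intro z hz
  obtain ⟨i, a, ha⟩ := (sigmaOpenCover (fun _ : I => T)).exists_eq (pullback.fst f f z)
  obtain ⟨j, b, hb⟩ := (sigmaOpenCover (fun _ : I => T)).exists_eq (pullback.snd f f z)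
  change Sigma.ι (fun _ : I => T) i a = _ at ha
  change Sigma.ι (fun _ : I => T) j b = _ at hb
  let V : Set ↥(pullback f f) :=
    pullback.fst f f ⁻¹' Set.range (Sigma.ι (fun _ : I => T) i) ∩
      pullback.snd f f ⁻¹' Set.range (Sigma.ι (fun _ : I => T) j)
  have hVo : IsOpen V :=
    ((Sigma.ι (fun _ : I => T) i).isOpenEmbedding.isOpen_range.preimage
      (pullback.fst f f).continuous).inter
    ((Sigma.ι (fun _ : I => T) j).isOpenEmbedding.isOpen_range.preimage
      (pullback.snd f f).continuous)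
  have hzV : z ∈ V := ⟨⟨a, ha⟩, ⟨b, hb⟩⟩
  refine ⟨V, ?_, hVo, hzV⟩
  by_cases hij : i = j
  · -- then z is in the range of the diagonal: contradiction
    subst hij
    exfalso
    apply hz
    have he : 𝟙 T ≫ 𝟙 T = Sigma.ι (fun _ : I => T) i ≫ f := by rw [hιf, Category.comp_id]
    have hr := Scheme.Pullback.range_map (f := 𝟙 T) (g := 𝟙 T) f f (Sigma.ι (fun _ : I => T) i)
      (Sigma.ι (fun _ : I => T) i) (𝟙 T) he he
    have hzr : z ∈ Set.range (pullback.map (𝟙 T) (𝟙 T) f f (Sigma.ι (fun _ : I => T) i)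
        (Sigma.ι (fun _ : I => T) i) (𝟙 T) he he) := by
      rw [hr]; exact hzV
    obtain ⟨t, rfl⟩ := hzr
    have hc : pullback.fst (𝟙 T) (𝟙 T) = pullback.snd (𝟙 T) (𝟙 T) := by
      have := pullback.condition (f := 𝟙 T) (g := 𝟙 T)
      rwa [Category.comp_id, Category.comp_id] at this
    have hmap : pullback.map (𝟙 T) (𝟙 T) f f (Sigma.ι (fun _ : I => T) i)
        (Sigma.ι (fun _ : I => T) i) (𝟙 T) he he =
        (pullback.fst (𝟙 T) (𝟙 T) ≫ Sigma.ι (fun _ : I => T) i) ≫ pullback.diagonal f := by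
      apply pullback.hom_ext
      · rw [Category.assoc, pullback.diagonal_fst, Category.comp_id]
        exact pullback.lift_fst _ _ _
      · rw [Category.assoc, pullback.diagonal_snd, Category.comp_id, hc]
        exact pullback.lift_snd _ _ _
    rw [hmap]
    exact ⟨_, rfl⟩
  · -- V is disjoint from the diagonal
    rintro y ⟨⟨a', ha'⟩, ⟨b', hb'⟩⟩ ⟨x, rfl⟩
    have h1 : pullback.fst f f (pullback.diagonal f x) = x := by
      rw [← Scheme.Hom.comp_apply, pullback.diagonal_fst]; rfl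
    have h2 : pullback.snd f f (pullback.diagonal f x) = x := by
      rw [← Scheme.Hom.comp_apply, pullback.diagonal_snd]; rfl
    rw [h1] at ha'
    rw [h2] at hb'
    have := (sigmaι_eq_iff (fun _ : I => T) i j a' b').mp (ha'.trans hb'.symm)
    exact hij (congrArg Sigma.fst this)

/-- fpqc descent of separatedness from an affine chart mapping into an affine open. -/
theorem isSeparated_restrict_of_pullback {S Z W : Scheme.{u}} (h : Z ⟶ S) (g : W ⟶ S) [Flat g]
    [IsAffine W] (U V : S.Opens) (hV : IsAffineOpen V) (hUV : U ≤ V)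
    (hU : (U : Set S) = Set.range g)
    (hsep : IsSeparated (pullback.snd h g)) : IsSeparated (h ∣_ U) := by
  have hr : Set.range g ⊆ Set.range U.ι := by
    rw [Scheme.Opens.range_ι, hU]
  let g' : W ⟶ (U : Scheme.{u}) := IsOpenImmersion.lift U.ι g hr
  have hfac : g' ≫ U.ι = g := IsOpenImmersion.lift_fac _ _ _
  haveI : Flat (g' ≫ U.ι) := by rw [hfac]; infer_instance
  haveI : Flat g' := MorphismProperty.of_postcomp (W := @Flat)
    (W' := MorphismProperty.monomorphisms Scheme.{u}) g' U.ι (inferInstance : Mono U.ι) ‹_›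
  haveI : Surjective g' := by
    refine ⟨fun u => ?_⟩
    have : U.ι u ∈ Set.range g := by rw [← hU]; exact u.2
    obtain ⟨w, hw⟩ := this
    refine ⟨w, ?_⟩
    apply U.ι.isOpenEmbedding.injective
    rw [← Scheme.Hom.comp_apply, hfac, hw]
  haveI : IsAffine (V : Scheme.{u}) := hV
  haveI : QuasiCompact (g' ≫ S.homOfLE hUV) := inferInstance
  haveI : QuasiCompact g' := QuasiCompact.of_comp g' (S.homOfLE hUV)
  have s : IsPullback (pullback.fst h g) (pullback.snd h g) h (g' ≫ U.ι) := by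
    rw [hfac]; exact IsPullback.of_hasPullback h g
  have t : IsPullback (h ⁻¹ᵁ U).ι (h ∣_ U) h U.ι := (isPullback_morphismRestrict h U).flip
  have key := (IsPullback.of_right' s t).flip
  exact MorphismProperty.of_isPullback_of_descendsAlong (P := @IsSeparated)
    (Q := @Surjective ⊓ @Flat ⊓ @QuasiCompact) key
    ⟨⟨inferInstance, inferInstance⟩, inferInstance⟩ hsep

/-- A scheme which is étale-locally constant is separated over the base. -/
theorem isSeparated_of_charts {S Pl : Scheme.{u}} (pP : Pl ⟶ S)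
    (hchart : ∀ s : S, ∃ (S' : Scheme.{u}) (f : S' ⟶ S) (_ : Etale f) (I : Type u)
      (ε : pullback pP f ≅ ∐ fun _ : I => S')
      (_ : ε.hom ≫ Sigma.desc (fun _ : I => 𝟙 S') = pullback.snd pP f),
      s ∈ Set.range f) : IsSeparated pP := by
  have key : ∀ s : S, ∃ U : S.Opens, s ∈ U ∧ IsSeparated (pP ∣_ U) := by
    intro s
    obtain ⟨S', f, hf, I, ε, hε, s', hs'⟩ := hchart s
    haveI := hf
    obtain ⟨_, ⟨V0, hV0 : IsAffineOpen V0, rfl⟩, hsV0, -⟩ :=
      S.isBasis_affineOpens.exists_subset_of_mem_open (Set.mem_univ s) isOpen_univ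
    obtain ⟨V, hVeq⟩ : ∃ V : S.Opens, V = V0 := ⟨V0, rfl⟩
    have hV : IsAffineOpen V := hVeq ▸ hV0
    have hsV : s ∈ V := hVeq ▸ hsV0
    have hs'V : s' ∈ ((f ⁻¹ᵁ V : S'.Opens) : Set S') := by
      change f s' ∈ V; rw [hs']; exact hsV
    obtain ⟨_, ⟨W0, hW0 : IsAffineOpen W0, rfl⟩, hsW0, hWV0⟩ :=
      S'.isBasis_affineOpens.exists_subset_of_mem_open hs'V (f ⁻¹ᵁ V).isOpen
    obtain ⟨W, hWeq⟩ : ∃ W : S'.Opens, W = W0 := ⟨W0, rfl⟩
    have hW : IsAffineOpen W := hWeq ▸ hW0
    have hsW : s' ∈ W := hWeq ▸ hsW0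
    have hWV : (W : Set S') ⊆ ((f ⁻¹ᵁ V : S'.Opens) : Set S') := hWeq ▸ hWV0
    haveI : IsAffine (W : Scheme.{u}) := hW
    let U : S.Opens := ⟨Set.range (W.ι ≫ f), (W.ι ≫ f).isOpenMap.isOpen_range⟩
    have hUV : U ≤ V := by
      rintro _ ⟨w, rfl⟩
      exact hWV w.2
    refine ⟨U, ⟨⟨s', hsW⟩, hs'⟩, ?_⟩
    obtain ⟨ε', hε'⟩ := TwCQc.exists_triv_comp pP f ε hε W.ι
    refine isSeparated_restrict_of_pullback pP (W.ι ≫ f) U V hV hUV rfl ?_
    rw [← hε']
    haveI := isSeparated_sigmaDesc (W : Scheme.{u}) I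
    infer_instance
  choose U hsU hU using key
  have hcov : iSup U = ⊤ := by
    rw [eq_top_iff]
    intro s _
    exact TopologicalSpace.Opens.mem_iSup.2 ⟨s, hsU s⟩
  exact IsZariskiLocalAtTarget.of_iSup_eq_top (P := @IsSeparated) U hcov hU

end Groth.Agent.Lib.Helper10.TwCVal
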