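import Mathlib
import Groth.Agent.Lib.Helper10.RepDesc5
import Groth.Agent.Lib.Helper10.RepLoc2
import Groth.Agent.Lib.Helper10.MultTypeHom
import Groth.Agent.Lib.Helper10.TwCVal1
import Groth.Agent.Lib.Helper24.Filt5a
import Groth.Agent.S1402

/-!
# Homomorphisms between quasi-isotrivial groups of multiplicative type: representability
-/

set_option autoImplicit false
set_option linter.unusedSectionVars false
set_option linter.style.haveILetI false
set_option backward.isDefEq.respectTransparency.types false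
set_option maxHeartbeats 4000000
set_option synthInstance.maxHeartbeats 400000
universe u
open CategoryTheory CategoryTheory.Limits AlgebraicGeometry Opposite MonoidalCategory
  CartesianMonoidalCategory MonObj GrpObj

namespace Groth.Agent.Lib.Helper10.RepAsm

open Groth.Agent.Lib.Helper10.HomFamBC Groth.Agent.Lib.Helper10.RepDesc
  Groth.Agent.Lib.Helper10.RepLoc Groth.Agent.Lib.Helper10.MultTypeHom

variable {S : Scheme.{u}} {H G : Over S} [GrpObj H] [GrpObj G]

/-- local representing data from a representing object of the base-changed functor -/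
theorem locData_of_represents {Xi : Scheme.{u}} (g : Xi ⟶ S) (A' : Over Xi)
    (υ' : Red.bc g H ⊗ A' ⟶ Red.bc g G) (hυ' : IsHomFam υ')
    (huniv : ∀ (T : Over Xi) (φ : Red.bc g H ⊗ T ⟶ Red.bc g G), IsHomFam φ →
      ∃! a : T ⟶ A', (Red.bc g H ◁ a) ≫ υ' = φ) :
    IsHomFam (toS g υ') ∧ ∀ (T : Over Xi) (Φ : H ⊗ (Over.map g).obj T ⟶ G), IsHomFam Φ →
      ∃! a : T ⟶ A', (H ◁ (Over.map g).map a) ≫ toS g υ' = Φ := by
  refine ⟨isHomFam_toS g hυ', ?_⟩
  intro T Φ hΦ
  have key : ∀ a : T ⟶ A', (H ◁ (Over.map g).map a) ≫ toS g υ' = Φ ↔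
      (Red.bc g H ◁ a) ≫ υ' = toU g Φ := by
    intro a
    constructor
    · intro h
      rw [← h, toU_whisker, toU_toS]
    · intro h
      have h2 := congrArg (toS g) h
      rw [toS_toU, ← toU_toS g υ', ← toU_whisker, toS_toU] at h2
      exact h2
  obtain ⟨a, ha, hau⟩ := huniv T (toU g Φ) (isHomFam_toU g hΦ)
  exact ⟨a, (key a).2 ha, fun a' ha' => hau a' ((key a').1 ha')⟩

/-- a constant scheme is ind-quasi-affine over its base -/
theorem isIndQuasiAffineHom_const (T : Scheme.{u}) (I : Type u) :
    MoreMor.IsIndQuasiAffineHom (TwC.const T I).hom := by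
  haveI : IsSeparated (TwC.const T I).hom :=
    Groth.Agent.Lib.Helper10.TwCVal.isSeparated_sigmaDesc T I
  haveI : Etale (TwC.const T I).hom := by
    change Etale (Sigma.desc fun _ : I => 𝟙 T)
    rw [IsZariskiLocalAtSource.iff_of_openCover (P := @Etale) (sigmaOpenCover fun _ : I => T)]
    intro i
    change Etale (Sigma.ι (fun _ : I => T) i ≫ Sigma.desc fun _ : I => 𝟙 T)
    rw [Sigma.ι_desc]
    infer_instance
  haveI : LocallyQuasiFinite (TwC.const T I).hom :=
    Groth.Agent.Lib.Helper24.Filt5a.locallyQuasiFinite_of_etale _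
  exact Groth.Agent.S1402.result _

/-- an étale jointly surjective family is an fpqc covering -/
theorem etale_family_mem_fpqc {J : Type u} {X : J → Scheme.{u}} (c : ∀ i, X i ⟶ S)
    (hc : ∀ i, Etale (c i)) (hs : ∀ s : S, ∃ i, s ∈ Set.range (c i)) :
    Presieve.ofArrows X c ∈ Scheme.fpqcPrecoverage S := by
  apply Scheme.fppfPrecoverage_le_fpqcPrecoverage
  change Presieve.ofArrows X c ∈ Scheme.precoverage (@Flat ⊓ @LocallyOfFinitePresentation) S
  rw [Scheme.ofArrows_mem_precoverage_iff]
  refine ⟨hs, fun i => ?_⟩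
  haveI := hc i
  exact ⟨inferInstance, inferInstance⟩

end Groth.Agent.Lib.Helper10.RepAsm
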