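import Mathlib
import Groth.Agent.Lib.Helper10.HomFamBC
import Groth.Agent.Lib.Helper21.DSPts

/-!
# The group structure on the scheme of homomorphisms into a commutative group
-/

set_option autoImplicit false
set_option linter.unusedSectionVars false
set_option linter.style.haveILetI false
set_option backward.isDefEq.respectTransparency.types false
set_option maxHeartbeats 4000000
set_option synthInstance.maxHeartbeats 400000
universe u
open CategoryTheory CategoryTheory.Limits AlgebraicGeometry Opposite MonoidalCategory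
  CartesianMonoidalCategory MonObj GrpObj

namespace Groth.Agent.Lib.Helper10.RepGrp

open Groth.Agent.Lib.Helper10.HomFamBC Groth.Agent.Lib.Helper21.GaPts

variable {S : Scheme.{u}}

/-- diagonalisable groups are commutative on points -/
theorem ds_comm {M : Type} [AddCommGroup M] (X : Over S) (a b : X ⟶ Red.DS S M) :
    a * b = b * a := by
  apply dsFn_injective
  intro m
  rw [dsFn_mul, dsFn_mul, mul_comm]

variable (H G : Over S) [GrpObj H] [GrpObj G]
  (hcomm : ∀ (X : Over S) (a b : X ⟶ G), a * b = b * a)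

include hcomm

/-- the subgroup of families of homomorphisms -/
noncomputable def famSubgroup (T : Over S) : Subgroup (H ⊗ T ⟶ G) where
  carrier := {Φ | IsHomFam Φ}
  mul_mem' := by
    intro Φ Ψ hΦ hΨ X a b t
    rw [MonObj.comp_mul, MonObj.comp_mul, MonObj.comp_mul, hΦ X a b t, hΨ X a b t]
    rw [_root_.mul_assoc, _root_.mul_assoc]
    congr 1
    rw [← _root_.mul_assoc, ← _root_.mul_assoc, hcomm X (lift b t ≫ Φ) (lift a t ≫ Ψ)]
  one_mem' := by
    intro X a b t
    rw [MonObj.comp_one, MonObj.comp_one, MonObj.comp_one, _root_.mul_one]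
  inv_mem' := by
    intro Φ hΦ X a b t
    rw [GrpObj.comp_inv, GrpObj.comp_inv, GrpObj.comp_inv, hΦ X a b t, _root_.mul_inv_rev]
    exact hcomm X _ _

theorem mem_famSubgroup {T : Over S} (Φ : H ⊗ T ⟶ G) :
    Φ ∈ famSubgroup H G hcomm T ↔ IsHomFam Φ := Iff.rfl

/-- restriction of families -/
noncomputable def famMap {T T' : Over S} (a : T' ⟶ T) : famSubgroup H G hcomm T →* famSubgroup H G hcomm T' where
  toFun Φ := ⟨(H ◁ a) ≫ Φ.1, Φ.2.whisker a⟩
  map_one' := Subtype.ext (MonObj.comp_one _)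
  map_mul' Φ Ψ := Subtype.ext (MonObj.comp_mul _ _ _)

/-- the presheaf of groups of families of homomorphisms -/
noncomputable def famFunctor : (Over S)ᵒᵖ ⥤ GrpCat.{u} where
  obj T := GrpCat.of (famSubgroup H G hcomm T.unop)
  map a := GrpCat.ofHom (famMap H G hcomm a.unop)
  map_id T := by
    apply GrpCat.hom_ext
    apply MonoidHom.ext
    intro Φ
    apply Subtype.ext
    change (H ◁ 𝟙 _) ≫ Φ.1 = Φ.1
    rw [MonoidalCategory.whiskerLeft_id, Category.id_comp]
  map_comp a b := by
    apply GrpCat.hom_ext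
    apply MonoidHom.ext
    intro Φ
    apply Subtype.ext
    change (H ◁ (b.unop ≫ a.unop)) ≫ Φ.1 = (H ◁ b.unop) ≫ (H ◁ a.unop) ≫ Φ.1
    rw [MonoidalCategory.whiskerLeft_comp, Category.assoc]

variable {H G} (D : Over S) (υ : H ⊗ D ⟶ G) (hυ : IsHomFam υ)
  (hD : ∀ (T : Over S) (Φ : H ⊗ T ⟶ G), IsHomFam Φ → ∃! a : T ⟶ D, (H ◁ a) ≫ υ = Φ)

/-- the representing object represents the presheaf of groups -/
noncomputable def famRep : (famFunctor H G hcomm ⋙ forget GrpCat).RepresentableBy D where
  homEquiv {T} :=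
    { toFun := fun a => (⟨(H ◁ a) ≫ υ, hυ.whisker a⟩ : famSubgroup H G hcomm T)
      invFun := fun Φ => (hD T Φ.1 Φ.2).choose
      left_inv := fun a => ((hD T _ (hυ.whisker a)).choose_spec.2 a rfl).symm
      right_inv := fun Φ => Subtype.ext (hD T Φ.1 Φ.2).choose_spec.1 }
  homEquiv_comp {T T'} f g := by
    apply Subtype.ext
    change (H ◁ (f ≫ g)) ≫ υ = (H ◁ f) ≫ (H ◁ g) ≫ υ
    rw [MonoidalCategory.whiskerLeft_comp, Category.assoc]

/-- the group structure on the representing object -/
@[instance_reducible] noncomputable def grpObjRep : GrpObj D :=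
  GrpObj.ofRepresentableBy D (famFunctor H G hcomm) (famRep hcomm D υ hυ hD)

theorem whisker_mul {T : Over S} (a b : T ⟶ D) :
    letI := grpObjRep hcomm D υ hυ hD
    (H ◁ (a * b)) ≫ υ = ((H ◁ a) ≫ υ) * ((H ◁ b) ≫ υ) := by
  letI := grpObjRep hcomm D υ hυ hD
  have h := ((yonedaGrpObjIsoOfRepresentableBy D (famFunctor H G hcomm)
    (famRep hcomm D υ hυ hD)).hom.app (op T)).hom.map_mul a b
  exact congrArg Subtype.val h

theorem lift_mul {X : Over S} (h : X ⟶ H) (a b : X ⟶ D) :
    letI := grpObjRep hcomm D υ hυ hD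
    lift h (a * b) ≫ υ = (lift h a ≫ υ) * (lift h b ≫ υ) := by
  letI := grpObjRep hcomm D υ hυ hD
  have e : ∀ z : X ⟶ D, lift h z ≫ υ = lift h (𝟙 X) ≫ (H ◁ z) ≫ υ := by
    intro z
    rw [← Category.assoc, lift_whiskerLeft, Category.id_comp]
  rw [e, e a, e b, whisker_mul hcomm D υ hυ hD a b, MonObj.comp_mul]

end Groth.Agent.Lib.Helper10.RepGrp
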