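import Mathlib
import Groth.Agent.Lib.Helper10.RepGrp1
import Groth.Agent.Lib.Helper10.RepAsm1

/-!
# Characters of a quasi-isotrivial group of multiplicative type: local structure
-/

set_option autoImplicit false
set_option linter.unusedSectionVars false
set_option linter.style.haveILetI false
set_option backward.isDefEq.respectTransparency.types false
set_option maxHeartbeats 4000000
set_option synthInstance.maxHeartbeats 400000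
universe u
open CategoryTheory CategoryTheory.Limits AlgebraicGeometry Opposite MonoidalCategory
  CartesianMonoidalCategory MonObj GrpObj

namespace Groth.Agent.Lib.Helper10.RepGrp

open Groth.Agent.Lib.Helper10.HomFamBC Groth.Agent.Lib.Helper21.GaPts
  Groth.Agent.Lib.Helper10.RepLoc Groth.Agent.Lib.Helper10.RepAsm
  Groth.Agent.Lib.Helper10.MultTypeHom

section Iso

variable {B : Scheme.{u}} {G₁ G₂ H₁ H₂ A : Over B} [GrpObj G₁] [GrpObj G₂] [GrpObj H₁] [GrpObj H₂]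

/-- transport of the scheme of homomorphisms along isomorphisms of groups, explicit form -/
theorem represents_iso' (eG : G₁ ≅ G₂) [IsMonHom eG.hom] (eH : H₁ ≅ H₂) [IsMonHom eH.hom]
    (υ : G₁ ⊗ A ⟶ H₁) (hυ : IsHomFam υ)
    (huniv : ∀ (T : Over B) (Φ : G₁ ⊗ T ⟶ H₁), IsHomFam Φ → ∃! w : T ⟶ A, (G₁ ◁ w) ≫ υ = Φ) :
    IsHomFam ((eG.inv ▷ A) ≫ υ ≫ eH.hom) ∧
      ∀ (T : Over B) (φ : G₂ ⊗ T ⟶ H₂), IsHomFam φ →
        ∃! v : T ⟶ A, (G₂ ◁ v) ≫ ((eG.inv ▷ A) ≫ υ ≫ eH.hom) = φ := by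
  haveI : IsMonHom eG.inv := inferInstance
  haveI : IsMonHom eH.inv := inferInstance
  have htrans : ∀ {T : Over B} (Φ : G₁ ⊗ T ⟶ H₁), IsHomFam Φ →
      IsHomFam ((eG.inv ▷ T) ≫ Φ ≫ eH.hom) := by
    intro T Φ hΦ X a b t
    simp only [← Category.assoc, lift_whiskerRight]
    rw [MonObj.mul_comp a b eG.inv, hΦ, MonObj.mul_comp]
  have htrans' : ∀ {T : Over B} (φ : G₂ ⊗ T ⟶ H₂), IsHomFam φ →
      IsHomFam ((eG.hom ▷ T) ≫ φ ≫ eH.inv) := by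
    intro T φ hφ X a b t
    simp only [← Category.assoc, lift_whiskerRight]
    rw [MonObj.mul_comp a b eG.hom, hφ, MonObj.mul_comp]
  have hcomm : ∀ {T : Over B} (v : T ⟶ A),
      (G₂ ◁ v) ≫ (eG.inv ▷ A) ≫ υ ≫ eH.hom = (eG.inv ▷ T) ≫ ((G₁ ◁ v) ≫ υ) ≫ eH.hom := by
    intro T v
    simp only [← Category.assoc]
    rw [whisker_exchange]
  refine ⟨htrans υ hυ, ?_⟩
  intro T φ hφ
  obtain ⟨w, hw, hwu⟩ := huniv T _ (htrans' φ hφ)
  have hw' : (G₁ ◁ w) ≫ υ = (eG.hom ▷ T) ≫ φ ≫ eH.inv := hw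
  refine ⟨w, ?_, ?_⟩
  · change (G₂ ◁ w) ≫ (eG.inv ▷ A) ≫ υ ≫ eH.hom = φ
    rw [hcomm, hw']
    simp only [Category.assoc, Iso.inv_hom_id, Category.comp_id]
    rw [← Category.assoc, ← MonoidalCategory.comp_whiskerRight, Iso.inv_hom_id,
      MonoidalCategory.id_whiskerRight, Category.id_comp]
  · intro v hv
    have hv' : (G₂ ◁ v) ≫ (eG.inv ▷ A) ≫ υ ≫ eH.hom = φ := hv
    rw [hcomm] at hv'
    apply hwu
    change (G₁ ◁ v) ≫ υ = (eG.hom ▷ T) ≫ φ ≫ eH.inv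
    rw [← hv']
    simp only [Category.assoc, Iso.hom_inv_id, Category.comp_id]
    rw [← Category.assoc, ← MonoidalCategory.comp_whiskerRight, Iso.hom_inv_id,
      MonoidalCategory.id_whiskerRight, Category.id_comp]

end Iso

variable {S : Scheme.{u}}

theorem toU_mul {Xi : Scheme.{u}} (g : Xi ⟶ S) {H G : Over S} [GrpObj H] [GrpObj G] {T : Over Xi}
    (Φ Ψ : H ⊗ (Over.map g).obj T ⟶ G) : toU g (Φ * Ψ) = toU g Φ * toU g Ψ := by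
  apply tr_injective g
  rw [tr_mul, tr_toU, tr_toU, tr_toU, MonObj.comp_mul]

theorem toU_injective {Xi : Scheme.{u}} (g : Xi ⟶ S) {H G : Over S} [GrpObj H] [GrpObj G]
    {T : Over Xi} (Φ Ψ : H ⊗ (Over.map g).obj T ⟶ G) (h : toU g Φ = toU g Ψ) : Φ = Ψ := by
  rw [← toS_toU g Φ, ← toS_toU g Ψ, h]

/-- a local trivialisation of `H` (and of `𝔾_m`) at a point -/
structure LocTriv (H : Over S) [GrpObj H] (s : S) where
  Xs : Scheme.{u}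
  c : Xs ⟶ S
  hc : Etale c
  hs : s ∈ Set.range c.base
  M₀ : Type
  [iM : AddCommGroup M₀]
  e₁ : Red.DS Xs M₀ ≅ Red.bc c H
  he₁ : IsMonHom e₁.hom
  e₂ : Red.DS Xs ℤ ≅ Red.bc c (Red.Gm S)
  he₂ : IsMonHom e₂.hom

attribute [instance] LocTriv.iM LocTriv.he₁ LocTriv.he₂

theorem nonempty_locTriv (H : Over S) [GrpObj H]
    (hH : TwC.Locally S TwC.Topology.etale (fun S' f => ∃ (M : Type) (_ : AddCommGroup M),
      Nonempty (Grp.mk (Red.bc f H) ≅ Grp.mk (Red.DS S' M)))) (s : S) :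
    Nonempty (LocTriv H s) := by
  obtain ⟨S₁, f₁, hf₁, hs₁, M, iM, ⟨φ₁⟩⟩ := hH s
  obtain ⟨e₁, he₁⟩ := exists_iso_isMonHom φ₁.symm
  obtain ⟨e₂, he₂⟩ := exists_iso_isMonHom (bcDSIso f₁ ℤ).symm
  exact ⟨⟨S₁, f₁, hf₁, hs₁, M, e₁, he₁, e₂, he₂⟩⟩

namespace LocTriv

variable {H : Over S} [GrpObj H] {s : S} (τ : LocTriv H s)

/-- the index group -/
abbrev I : Type u := Idx τ.Xs τ.M₀ ℤ

/-- the local universal family over the chart -/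
noncomputable def υ' : Red.bc τ.c H ⊗ A₀ τ.Xs τ.M₀ ℤ ⟶ Red.bc τ.c (Red.Gm S) :=
  (τ.e₁.inv ▷ A₀ τ.Xs τ.M₀ ℤ) ≫ υ₀ τ.Xs τ.M₀ ℤ ≫ τ.e₂.hom

/-- the local universal family over the base -/
noncomputable def Υ : H ⊗ (Over.map τ.c).obj (A₀ τ.Xs τ.M₀ ℤ) ⟶ Red.Gm S := toS τ.c τ.υ'

theorem fg_int : AddGroup.FG ℤ := inferInstance

theorem locData : IsHomFam τ.Υ ∧ ∀ (T : Over τ.Xs) (Φ : H ⊗ (Over.map τ.c).obj T ⟶ Red.Gm S),
    IsHomFam Φ → ∃! a : T ⟶ A₀ τ.Xs τ.M₀ ℤ, (H ◁ (Over.map τ.c).map a) ≫ τ.Υ = Φ := by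
  obtain ⟨h1, h2⟩ := represents_iso' τ.e₁ τ.e₂ (υ₀ τ.Xs τ.M₀ ℤ) isHomFam_υ₀
    (existsUnique_classify fg_int)
  exact locData_of_represents τ.c (A₀ τ.Xs τ.M₀ ℤ) τ.υ' h1 h2

/-- the family attached to a constant section -/
noncomputable def Φ (m : τ.I) : H ⊗ (Over.map τ.c).obj (𝟙_ (Over τ.Xs)) ⟶ Red.Gm S :=
  (H ◁ (Over.map τ.c).map (TwC.pt τ.Xs τ.I m)) ≫ τ.Υ

theorem toU_Φ (m : τ.I) : toU τ.c (τ.Φ m) =
    ((τ.e₁.inv ▷ 𝟙_ (Over τ.Xs)) ≫ fst _ _ ≫ Red.DSmap τ.Xs m.down) ≫ τ.e₂.hom := by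
  unfold Φ Υ
  rw [toU_whisker, toU_toS]
  unfold υ'
  rw [← Category.assoc, whisker_exchange, Category.assoc, ← Category.assoc (Red.DS τ.Xs τ.M₀ ◁ _),
    whisker_υ₀ (TwC.pt τ.Xs τ.I m) m (by
      change Sigma.ι (fun _ : τ.I => τ.Xs) m = 𝟙 _ ≫ Sigma.ι (fun _ : τ.I => τ.Xs) m
      rw [Category.id_comp])]
  simp only [Category.assoc]

theorem Φ_mul (m n : τ.I) : τ.Φ m * τ.Φ n = τ.Φ (m + n) := by
  apply toU_injective τ.c
  rw [toU_mul, toU_Φ, toU_Φ, toU_Φ, ← MonObj.mul_comp _ _ τ.e₂.hom]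
  congr 1
  apply dsFn_injective
  intro k
  rw [dsFn_mul, ← Category.assoc, ← Category.assoc, ← Category.assoc, dsFn_DSmap, dsFn_DSmap,
    dsFn_DSmap, ← dsFn_add]
  rfl

end LocTriv

end Groth.Agent.Lib.Helper10.RepGrp
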