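import Mathlib
import Groth.Agent.Lib.Helper10.CharLoc2
import Groth.Agent.Lib.Helper10.RepGrp2
import Groth.Agent.Lib.Helper10.RepDesc5
import Groth.Agent.Lib.Helper10.Kummer1
import Groth.Agent.S1398
import Groth.Prelude.Def_AutFam

/-!
# Characters of a commutative twisted constant group: assembly
-/

set_option autoImplicit false
set_option linter.unusedSectionVars false
set_option linter.style.haveILetI false
set_option backward.isDefEq.respectTransparency.types false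
set_option maxHeartbeats 4000000
set_option synthInstance.maxHeartbeats 400000
universe u
open CategoryTheory CategoryTheory.Limits AlgebraicGeometry Opposite MonoidalCategory
  CartesianMonoidalCategory MonObj GrpObj

namespace Groth.Agent.Lib.Helper10.CharAsm

open Groth.Agent.Lib.Helper10.HomFamBC Groth.Agent.Lib.Helper21.GaPts
  Groth.Agent.Lib.Helper10.RepLoc Groth.Agent.Lib.Helper10.RepAsm
  Groth.Agent.Lib.Helper10.MultTypeHom Groth.Agent.Lib.Helper10.RepDesc
  Groth.Agent.Lib.Helper10.RepGrp Groth.Agent.Lib.Helper10.CharLoc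

variable {S : Scheme.{u}}

/-- a diagonalisable group is ind-quasi-affine over its base -/
theorem isIndQuasiAffineHom_DS (V : Scheme.{u}) (M : Type) [AddCommGroup M] :
    MoreMor.IsIndQuasiAffineHom (Red.DS V M).hom := by
  haveI : IsAffineHom (Red.DS V M).hom := Groth.Agent.Lib.Helper10.Kummer.isAffineHom_DS M
  refine (Groth.Agent.S1398.result (Red.DS V M).hom).2 ⟨inferInstance, ?_⟩
  intro W hW
  haveI : IsAffine ((Red.DS V M).hom ⁻¹ᵁ W : Scheme.{u}) :=
    IsAffineHom.isAffine_preimage _ hW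
  infer_instance

/-- a local trivialisation of the twisted constant group `R` -/
structure CharTriv (R : Over S) [GrpObj R] {S' : Scheme.{u}} (f : S' ⟶ S) (s' : S') where
  V : S'.Opens
  hs : s' ∈ V
  M : Type
  [iM : Group M]
  e : Red.bc (V.ι ≫ f) R ≅ TwC.const V M
  hconst : TwC.IsConstGrp M (Red.bc (V.ι ≫ f) R) e
  e₂ : Red.DS V ℤ ≅ Red.bc (V.ι ≫ f) (Red.Gm S)
  he₂ : IsMonHom e₂.hom

attribute [instance] CharTriv.iM CharTriv.he₂

namespace CharTriv

variable {R : Over S} [GrpObj R] {S' : Scheme.{u}} {f : S' ⟶ S} {s' : S'} (τ : CharTriv R f s')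

/-- the chart -/
noncomputable abbrev c : (τ.V : Scheme.{u}) ⟶ S := τ.V.ι ≫ f

/-- the local representing object -/
noncomputable abbrev Dloc : Over (τ.V : Scheme.{u}) := Red.DS τ.V (Mab τ.M)

/-- the local universal family over the chart -/
noncomputable def υ' : Red.bc τ.c R ⊗ τ.Dloc ⟶ Red.bc τ.c (Red.Gm S) :=
  ((Iso.refl (Red.bc τ.c R)).inv ▷ τ.Dloc) ≫ υloc τ.e ≫ τ.e₂.hom

theorem υ'_eq : τ.υ' = υloc τ.e ≫ τ.e₂.hom := by
  unfold υ'
  rw [Iso.refl_inv, MonoidalCategory.id_whiskerRight, Category.id_comp]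

/-- the local universal family over the base -/
noncomputable def Υ : R ⊗ (Over.map τ.c).obj τ.Dloc ⟶ Red.Gm S := toS τ.c τ.υ'

theorem locData : IsHomFam τ.Υ ∧ ∀ (T : Over (τ.V : Scheme.{u}))
    (Φ : R ⊗ (Over.map τ.c).obj T ⟶ Red.Gm S),
    IsHomFam Φ → ∃! a : T ⟶ τ.Dloc, (R ◁ (Over.map τ.c).map a) ≫ τ.Υ = Φ := by
  haveI : IsMonHom (Iso.refl (Red.bc τ.c R)).hom := by
    rw [Iso.refl_hom]
    infer_instance
  obtain ⟨h1, h2⟩ := represents_iso' (Iso.refl (Red.bc τ.c R)) τ.e₂ (υloc τ.e)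
    (isHomFam_υloc τ.e τ.hconst)
    (fun T φ hφ => existsUnique_classify τ.e τ.hconst φ hφ)
  exact locData_of_represents τ.c τ.Dloc τ.υ' h1 h2

/-- the family attached to a point of the local representing object -/
noncomputable def Ξ {X : Over (τ.V : Scheme.{u})} (z : X ⟶ τ.Dloc) :
    R ⊗ (Over.map τ.c).obj X ⟶ Red.Gm S :=
  (R ◁ (Over.map τ.c).map z) ≫ τ.Υ

theorem toU_Ξ {X : Over (τ.V : Scheme.{u})} (z : X ⟶ τ.Dloc) :
    toU τ.c (τ.Ξ z) = ((Red.bc τ.c R ◁ z) ≫ υloc τ.e) ≫ τ.e₂.hom := by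
  unfold Ξ Υ
  rw [toU_whisker, toU_toS, υ'_eq, Category.assoc]

theorem Ξ_mul {X : Over (τ.V : Scheme.{u})} (x y : X ⟶ τ.Dloc) :
    τ.Ξ (x * y) = τ.Ξ x * τ.Ξ y := by
  apply toU_injective τ.c
  rw [toU_mul, toU_Ξ, toU_Ξ, toU_Ξ, whisker_mul_υloc, MonObj.mul_comp _ _ τ.e₂.hom]

end CharTriv

end Groth.Agent.Lib.Helper10.CharAsm
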