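import Mathlib
import Groth.Agent.Lib.Helper10.CharAsm1

/-!
# Characters of a commutative twisted constant group: the theorem
-/

set_option autoImplicit false
set_option linter.unusedSectionVars false
set_option linter.style.haveILetI false
set_option backward.isDefEq.respectTransparency.types false
set_option maxHeartbeats 4000000
set_option synthInstance.maxHeartbeats 400000
universe u
open CategoryTheory CategoryTheory.Limits AlgebraicGeometry Opposite MonoidalCategory
  CartesianMonoidalCategory MonObj GrpObj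

namespace Groth.Agent.Lib.Helper10.CharAsm

open Groth.Agent.Lib.Helper10.HomFamBC Groth.Agent.Lib.Helper21.GaPts
  Groth.Agent.Lib.Helper10.RepLoc Groth.Agent.Lib.Helper10.RepAsm
  Groth.Agent.Lib.Helper10.MultTypeHom Groth.Agent.Lib.Helper10.RepDesc
  Groth.Agent.Lib.Helper10.RepGrp Groth.Agent.Lib.Helper10.CharLoc

variable {S : Scheme.{u}}

/-- the family of open pieces of an fpqc covering is an fpqc covering family -/
theorem fpqc_family_mem {S' : Scheme.{u}} (f : S' ⟶ S) (hfl : Flat f) (hsurj : Surjective f)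
    (hqc : ∀ V : S.Opens, IsAffineOpen V → ∃ W : S'.Opens, IsCompact (W : Set S') ∧
      f.base '' (W : Set S') = (V : Set S))
    (V : S' → S'.Opens) (hV : ∀ s', s' ∈ V s') :
    Presieve.ofArrows (fun s' => ((V s' : S'.Opens) : Scheme.{u})) (fun s' => (V s').ι ≫ f) ∈
      Scheme.fpqcPrecoverage S := by
  change _ ∈ (Scheme.qcPrecoverage ⊓ Scheme.precoverage @Flat) S
  refine ⟨?_, ?_⟩
  · let E : PreZeroHypercover.{u} S :=
      { I₀ := S', X := fun s' => ((V s' : S'.Opens) : Scheme.{u}), f := fun s' => (V s').ι ≫ f }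
    have hE : QuasiCompactCover E := by
      refine ⟨fun {W₀} hW₀ => ?_⟩
      obtain ⟨W, hWc, hWeq⟩ := hqc W₀ hW₀
      have hA : ∀ w : W, ∃ A : S'.Opens, IsAffineOpen A ∧ (w : S') ∈ A ∧ A ≤ W ⊓ V w := by
        intro w
        obtain ⟨A0, hA0, hwA, hle⟩ := TopologicalSpace.Opens.isBasis_iff_nbhd.mp
          S'.isBasis_affineOpens (show (w : S') ∈ W ⊓ V w from ⟨w.2, hV w⟩)
        exact ⟨A0, hA0, hwA, hle⟩
      choose A hAaff hwA hAle using hA
      obtain ⟨t, ht⟩ := hWc.elim_finite_subcover (fun w : W => ((A w : S'.Opens) : Set S'))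
        (fun w => (A w).isOpen) (by
          intro x hx
          exact Set.mem_iUnion.2 ⟨⟨x, hx⟩, hwA ⟨x, hx⟩⟩)
      refine IsCompactOpenCovered.of_finite (κ := t) (fun k => ((k.1 : W) : S'))
        (fun k => (V ((k.1 : W) : S')).ι ⁻¹ᵁ A k.1) ?_ ?_
      · intro k
        apply (V ((k.1 : W) : S')).ι.isOpenEmbedding.isInducing.isCompact_preimage'
          (hAaff k.1).isCompact
        rw [Scheme.Opens.range_ι]
        exact fun x hx => (hAle k.1 hx).2
      · have himg : ∀ k : t, (fun x => E.f ((k.1 : W) : S') x) ''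
            (((V ((k.1 : W) : S')).ι ⁻¹ᵁ A k.1 : (V ((k.1 : W) : S')).toScheme.Opens) :
              Set (V ((k.1 : W) : S')).toScheme) = f.base '' (A k.1 : Set S') := by
          intro k
          ext y
          constructor
          · rintro ⟨x, hx, rfl⟩
            exact ⟨(V ((k.1 : W) : S')).ι x, hx, rfl⟩
          · rintro ⟨x, hx, rfl⟩
            exact ⟨⟨x, (hAle k.1 hx).2⟩, hx, rfl⟩
        simp only [himg]
        rw [← Set.image_iUnion, ← hWeq]
        congr 1
        apply subset_antisymm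
        · exact Set.iUnion_subset fun k x hx => (hAle k.1 hx).1
        · intro x hx
          obtain ⟨w, hw, hxw⟩ := Set.mem_iUnion₂.1 (ht hx)
          exact Set.mem_iUnion.2 ⟨⟨w, hw⟩, hxw⟩
    exact (Scheme.presieve₀_mem_qcPrecoverage_iff (E := E)).2 hE
  · rw [Scheme.ofArrows_mem_precoverage_iff]
    haveI := hfl
    refine ⟨fun s => ?_, fun s' => inferInstance⟩
    obtain ⟨s', rfl⟩ := hsurj.surj s
    exact ⟨s', ⟨⟨s', hV s'⟩, rfl⟩⟩

end Groth.Agent.Lib.Helper10.CharAsm
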