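import Mathlib
import Groth.Agent.Lib.Helper10.CharAsm2

/-!
# Characters of a commutative twisted constant group: the theorem
-/

set_option autoImplicit false
set_option linter.unusedSectionVars false
set_option linter.style.haveILetI false
set_option backward.isDefEq.respectTransparency.types false
set_option maxHeartbeats 4000000
set_option synthInstance.maxHeartbeats 400000
universe u
open CategoryTheory CategoryTheory.Limits AlgebraicGeometry Opposite MonoidalCategory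
  CartesianMonoidalCategory MonObj GrpObj

namespace Groth.Agent.Lib.Helper10.CharAsm

open Groth.Agent.Lib.Helper10.HomFamBC Groth.Agent.Lib.Helper21.GaPts
  Groth.Agent.Lib.Helper10.RepLoc Groth.Agent.Lib.Helper10.RepAsm
  Groth.Agent.Lib.Helper10.MultTypeHom Groth.Agent.Lib.Helper10.RepDesc
  Groth.Agent.Lib.Helper10.RepGrp Groth.Agent.Lib.Helper10.CharLoc

variable {S : Scheme.{u}}

/-- **Representability of the character functor of a twisted constant group by a group of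
multiplicative type.** -/
theorem exists_char_rep_twConst (R : Over S) [GrpObj R]
    (hR : TwC.Locally S TwC.Topology.fpqc (fun S' f => ∃ (M : Type) (_ : Group M)
      (e : Red.bc f R ≅ TwC.const S' M), TwC.IsConstGrp M (Red.bc f R) e)) :
    ∃ (D : Over S) (_ : GrpObj D) (υ : R ⊗ D ⟶ Red.Gm S),
      AutFam.RepresentsHom R (Red.Gm S) D υ ∧
      (∀ (X : Over S) (r : X ⟶ R) (a b : X ⟶ D),
        lift r (a * b) ≫ υ = (lift r a ≫ υ) * (lift r b ≫ υ)) ∧
      TwC.Locally S TwC.Topology.fpqc (fun S' f => ∃ (M : Type) (_ : AddCommGroup M),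
        Nonempty (Grp.mk (Red.bc f D) ≅ Grp.mk (Red.DS S' M))) := by
  obtain ⟨S', f, hfl, hsurj, hqc, hloc⟩ := hR
  have hτ : ∀ s', Nonempty (CharTriv R f s') := fun s' => by
    obtain ⟨V, hs, M, iM, e, hconst⟩ := hloc s'
    obtain ⟨e₂, he₂⟩ := exists_iso_isMonHom (bcDSIso (V.ι ≫ f) ℤ).symm
    exact ⟨⟨V, hs, M, e, hconst, e₂, he₂⟩⟩
  let τ : ∀ s', CharTriv R f s' := fun s' => (hτ s').some
  let L : LocData R (Red.Gm S) (fun s' => (τ s').c) :=
    ⟨fun s' => (τ s').Dloc, fun s' => (τ s').Υ, fun s' => (τ s').locData.1,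
      fun s' => (τ s').locData.2⟩
  obtain ⟨D, υ, hυ, hD, hiso⟩ := exists_rep L
    (fpqc_family_mem f hfl hsurj hqc (fun s' => (τ s').V) (fun s' => (τ s').hs))
    (fun s' => isIndQuasiAffineHom_DS _ _)
  have hcomm : ∀ (X : Over S) (a b : X ⟶ Red.Gm S), a * b = b * a :=
    fun X a b => ds_comm (S := S) (M := ℤ) X a b
  letI instD : GrpObj D := grpObjRep hcomm D υ hυ hD
  refine ⟨D, instD, υ, ⟨hυ, hD⟩, fun X h a b => lift_mul hcomm D υ hυ hD h a b, ?_⟩
  refine ⟨S', f, hfl, hsurj, hqc, fun s' => ⟨(τ s').V, (τ s').hs, Mab (τ s').M, inferInstance, ?_⟩⟩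
  obtain ⟨ε, hε⟩ := hiso s'
  have hmulpts : ∀ (X : Over ((τ s').V : Scheme.{u})) (x y : X ⟶ (τ s').Dloc),
      (x * y) ≫ ε.inv = (x ≫ ε.inv) * (y ≫ ε.inv) := by
    intro X x y
    apply tr_injective (τ s').c
    rw [tr_mul, tr_comp, tr_comp, tr_comp]
    have hx : ∀ z : X ⟶ (τ s').Dloc, (R ◁ ((Over.map (τ s').c).map z ≫
        tr (τ s').c ε.inv)) ≫ υ = (τ s').Ξ z := by
      intro z
      rw [MonoidalCategory.whiskerLeft_comp, Category.assoc, hε]
      rfl
    have hfam : IsHomFam ((τ s').Ξ (x * y)) := ((τ s').locData.1).whisker _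
    refine (hD _ _ hfam).unique (hx (x * y)) ?_
    rw [whisker_mul hcomm D υ hυ hD, hx, hx, (τ s').Ξ_mul]
  have hone : (1 : 𝟙_ (Over ((τ s').V : Scheme.{u})) ⟶ (τ s').Dloc) ≫ ε.inv = 1 := by
    have h := hmulpts _ (1 : 𝟙_ (Over ((τ s').V : Scheme.{u})) ⟶ (τ s').Dloc) 1
    have e11 : (1 : 𝟙_ (Over ((τ s').V : Scheme.{u})) ⟶ (τ s').Dloc) * 1 = 1 :=
      _root_.mul_one (1 : 𝟙_ (Over ((τ s').V : Scheme.{u})) ⟶ (τ s').Dloc)
    rw [e11] at h
    exact mul_eq_left.mp h.symm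
  haveI : IsMonHom ε.inv := isMonHom_of_points ε.inv hone hmulpts
  haveI : IsMonHom ε.symm.hom := (inferInstance : IsMonHom ε.inv)
  exact ⟨(Grp.mkIso' ε.symm).symm⟩

end Groth.Agent.Lib.Helper10.CharAsm
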