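import Mathlib
import Groth.Prelude.Def_W4c4chowquasisplitNorm

set_option autoImplicit false
set_option linter.unusedSectionVars false
set_option linter.style.haveILetI false
set_option backward.isDefEq.respectTransparency.types false
set_option maxHeartbeats 4000000
set_option synthInstance.maxHeartbeats 400000

universe u

open CategoryTheory CategoryTheory.Limits AlgebraicGeometry Opposite

namespace Groth.Agent.Lib.Helper10.ChowPt

/-- evaluation `F → κ(x)` at a point of `Spec F` -/
noncomputable def ev (F : Type u) [Field F] (x : ↥(Spec (CommRingCat.of F))) :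
    F →+* (Spec (CommRingCat.of F)).residueField x :=
  ((Scheme.ΓSpecIso (CommRingCat.of F)).inv ≫ (Spec (CommRingCat.of F)).Γevaluation x).hom

theorem ev_bijective (F : Type u) [Field F] (x : ↥(Spec (CommRingCat.of F))) :
    Function.Bijective (ev F x) := by
  refine ⟨(ev F x).injective, ?_⟩
  have h := Scheme.Spec.algebraMap_residueFieldIso_inv (CommRingCat.of F) x
  have hx : x.asIdeal.IsMaximal := by
    have : x.asIdeal = ⊥ := Ideal.eq_bot_of_prime x.asIdeal
    rw [this]
    exact Ideal.bot_isMaximal
  have hs : Function.Surjective (algebraMap F x.asIdeal.ResidueField) :=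
    Ideal.algebraMap_residueField_surjective x.asIdeal
  have hev : ev F x = (CommRingCat.ofHom (algebraMap (CommRingCat.of F) x.asIdeal.ResidueField) ≫
      (Scheme.Spec.residueFieldIso (CommRingCat.of F) x).inv).hom := by
    rw [h]; rfl
  rw [hev]
  intro y
  obtain ⟨a, ha⟩ := hs ((Scheme.Spec.residueFieldIso (CommRingCat.of F) x).hom y)
  refine ⟨a, ?_⟩
  change (Scheme.Spec.residueFieldIso (CommRingCat.of F) x).inv (algebraMap F _ a) = y
  rw [ha]
  exact congrArg (fun φ => φ.hom y) (Scheme.Spec.residueFieldIso (CommRingCat.of F) x).hom_inv_id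

theorem residueDegree_specMap (k : Type u) [Field k] (F : Type u) [Field F] [Algebra k F]
    (x : ↥(Spec (CommRingCat.of F))) :
    (Spec.map (CommRingCat.ofHom (algebraMap k F))).residueDegree x = Module.finrank k F := by
  unfold Scheme.Hom.residueDegree
  set f := Spec.map (CommRingCat.ofHom (algebraMap k F)) with hf
  letI := (f.residueFieldMap x).hom.toAlgebra
  symm
  refine Algebra.finrank_eq_of_equiv_equiv (RingEquiv.ofBijective _ (ev_bijective k (f x)))
    (RingEquiv.ofBijective _ (ev_bijective F x)) ?_
  have h1 := Scheme.Γevaluation_naturality f x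
  have h2 := Scheme.ΓSpecIso_inv_naturality (CommRingCat.ofHom (algebraMap k F))
  ext a
  change (f.residueFieldMap x).hom (ev k (f x) a) = ev F x (algebraMap k F a)
  unfold ev
  have h3 : (Scheme.ΓSpecIso (CommRingCat.of k)).inv ≫ (Spec (CommRingCat.of k)).Γevaluation (f x) ≫
      f.residueFieldMap x = CommRingCat.ofHom (algebraMap k F) ≫
        (Scheme.ΓSpecIso (CommRingCat.of F)).inv ≫ (Spec (CommRingCat.of F)).Γevaluation x := by
    rw [h1, ← Category.assoc, ← h2, Category.assoc]
  exact congrArg (fun φ => φ.hom a) h3

end Groth.Agent.Lib.Helper10.ChowPt
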