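import Mathlib
import Groth.Prelude.Def_W4c4chowquasisplitNorm
import Groth.Agent.Lib.Helper10.ChowPt1

set_option autoImplicit false
set_option linter.unusedSectionVars false
set_option linter.style.haveILetI false
set_option backward.isDefEq.respectTransparency.types false
set_option maxHeartbeats 4000000
set_option synthInstance.maxHeartbeats 400000

universe u

open CategoryTheory CategoryTheory.Limits AlgebraicGeometry Opposite

namespace Groth.Agent.Lib.Helper10.ChowPt

noncomputable instance uniqueSpec (F : Type u) [Field F] : Unique ↥(Spec (CommRingCat.of F)) :=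
  inferInstanceAs (Unique (PrimeSpectrum F))

/-- the constant cycle `n` on the one-point scheme `Spec F` -/
noncomputable def constCycle (F : Type u) [Field F] (n : ℤ) :
    AlgebraicCycle (Spec (CommRingCat.of F)) ℤ where
  toFun := fun _ => n
  supportWithinDomain' := Set.subset_univ _
  supportLocallyFiniteWithinDomain' := fun _ _ => ⟨Set.univ, Filter.univ_mem, Set.toFinite _⟩

@[simp] theorem constCycle_apply (F : Type u) [Field F] (n : ℤ) (x : ↥(Spec (CommRingCat.of F))) :
    constCycle F n x = n := rfl

theorem cycle_eq_zsmul (F : Type u) [Field F] (α : AlgebraicCycle (Spec (CommRingCat.of F)) ℤ) :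
    α = (α default) • constCycle F 1 := by
  ext x
  rw [Unique.eq_default x, Function.locallyFinsuppWithin.coe_zsmul]
  simp

theorem map_apply_pt (k : Type u) [Field k] (F : Type u) [Field F] [Algebra k F]
    (α : AlgebraicCycle (Spec (CommRingCat.of F)) ℤ) (y : ↥(Spec (CommRingCat.of k))) :
    AlgebraicCycle.map (Spec.map (CommRingCat.ofHom (algebraMap k F)))
      (fun _ => (0 : ℤ)) (fun _ => (0 : ℤ)) α y = α default * (Module.finrank k F : ℤ) := by
  unfold AlgebraicCycle.map
  rw [Function.locallyFinsupp.map_apply]
  have hpre : (⇑(Spec.map (CommRingCat.ofHom (algebraMap k F))) ⁻¹' {y}) = {default} := by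
    ext x
    simp only [Set.mem_preimage, Set.mem_singleton_iff]
    exact ⟨fun _ => Unique.eq_default x, fun _ => Subsingleton.elim _ _⟩
  rw [hpre, finsum_mem_singleton]
  simp only [AlgebraicCycle.mapCoeff, if_true, residueDegree_specMap]

end Groth.Agent.Lib.Helper10.ChowPt
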