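import Mathlib
import Groth.Prelude.Def_W4c4chowquasisplitNorm
import Groth.Agent.Lib.Helper10.ChowPt2

set_option autoImplicit false
set_option linter.unusedSectionVars false
set_option linter.style.haveILetI false
set_option backward.isDefEq.respectTransparency.types false
set_option maxHeartbeats 4000000
set_option synthInstance.maxHeartbeats 400000

universe u

open CategoryTheory CategoryTheory.Limits AlgebraicGeometry Opposite

namespace Groth.Agent.Lib.Helper10.ChowPt

variable (k : Type u) [Field k]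

theorem mem_Zk (α : AlgebraicCycle (Spec (CommRingCat.of k)) ℤ) :
    α ∈ Cyc.Zk (Spec (CommRingCat.of k)) (fun _ => 0) 0 :=
  fun _ hx => absurd rfl hx

/-- the class of the point -/
noncomputable def e : ChowOps.CH (Spec (CommRingCat.of k)) (fun _ => 0) 0 :=
  ChowOps.cl (constCycle k 1) (mem_Zk k _)

theorem cl_eq (α : AlgebraicCycle (Spec (CommRingCat.of k)) ℤ)
    (h : α ∈ Cyc.Zk (Spec (CommRingCat.of k)) (fun _ => 0) 0) :
    ChowOps.cl α h = (α default) • e k := by
  unfold e ChowOps.cl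
  rw [← map_zsmul]
  congr 1
  apply Subtype.ext
  change α = ((α default) • (⟨constCycle k 1, mem_Zk k _⟩ :
    ↥(ChowOps.zk (Spec (CommRingCat.of k)) (fun _ => 0) 0))).1
  rw [AddSubgroup.coe_zsmul]
  exact cycle_eq_zsmul k α

theorem ratTriv_eq_bot : ChowOps.ratTriv (Spec (CommRingCat.of k)) (fun _ => 0) 0 = ⊥ := by
  unfold ChowOps.ratTriv
  rw [AddSubgroup.closure_eq_bot_iff]
  rintro a ⟨ι, ξ, f, h1, -, -, h4⟩
  have hι : IsEmpty ι := ⟨fun i => by have := h1 i; simp at this⟩
  change a = 0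
  apply Subtype.ext
  apply Function.locallyFinsuppWithin.ext
  intro x
  rw [h4 x, finsum_of_isEmpty]
  rfl

theorem exists_zsmul (c : ChowOps.CH (Spec (CommRingCat.of k)) (fun _ => 0) 0) :
    ∃ n : ℤ, c = n • e k := by
  obtain ⟨⟨α, h⟩, rfl⟩ := QuotientAddGroup.mk_surjective c
  exact ⟨α default, cl_eq k α h⟩

theorem zsmul_e_eq_zero (n : ℤ) (h : n • e k = 0) : n = 0 := by
  unfold e ChowOps.cl at h
  rw [← map_zsmul] at h
  have h2 : n • (⟨constCycle k 1, mem_Zk k _⟩ :
      ↥(ChowOps.zk (Spec (CommRingCat.of k)) (fun _ => 0) 0)) ∈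
      ChowOps.ratTriv (Spec (CommRingCat.of k)) (fun _ => 0) 0 :=
    (QuotientAddGroup.eq_zero_iff _).mp h
  rw [ratTriv_eq_bot, AddSubgroup.mem_bot] at h2
  have h3 := congrArg (fun a : ↥(ChowOps.zk (Spec (CommRingCat.of k)) (fun _ => 0) 0) =>
    (a.1 : AlgebraicCycle (Spec (CommRingCat.of k)) ℤ) default) h2
  simp only [AddSubgroup.coe_zsmul, Function.locallyFinsuppWithin.coe_zsmul] at h3
  simpa using h3

/-- the isomorphism-like homomorphism `ℤ → CH_0(Spec k)` -/
noncomputable def phi : ℤ →+ ChowOps.CH (Spec (CommRingCat.of k)) (fun _ => 0) 0 :=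
  zmultiplesHom _ (e k)

theorem phi_apply (n : ℤ) : phi k n = n • e k := rfl

theorem phi_bijective : Function.Bijective (phi k) := by
  refine ⟨?_, fun c => ?_⟩
  · rw [injective_iff_map_eq_zero]
    intro n hn
    exact zsmul_e_eq_zero k n hn
  · obtain ⟨n, rfl⟩ := exists_zsmul k c
    exact ⟨n, rfl⟩

/-- generators of the norm subgroup, in terms of `phi` -/
theorem mem_gens_iff (K : Type u) [Field K] [Algebra k K]
    (c : ChowOps.CH (Spec (CommRingCat.of k)) (fun _ => 0) 0) :
    (∃ (F : IntermediateField k K) (_ : FiniteDimensional k F) (_ : F ≠ ⊥)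
        (α : AlgebraicCycle (Spec (CommRingCat.of (F : Type u))) ℤ)
        (h : AlgebraicCycle.map (Spec.map (CommRingCat.ofHom (algebraMap k F)))
          (fun _ => (0 : ℤ)) (fun _ => (0 : ℤ)) α ∈ Cyc.Zk (Spec (CommRingCat.of k)) (fun _ => 0) 0),
        c = ChowOps.cl (AlgebraicCycle.map (Spec.map (CommRingCat.ofHom (algebraMap k F)))
          (fun _ => (0 : ℤ)) (fun _ => (0 : ℤ)) α) h) ↔
    ∃ (F : IntermediateField k K) (_ : FiniteDimensional k F) (_ : F ≠ ⊥) (m : ℤ),
      c = phi k (m * (Module.finrank k F : ℤ)) := by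
  constructor
  · rintro ⟨F, hF, hne, α, h, rfl⟩
    refine ⟨F, hF, hne, α default, ?_⟩
    rw [cl_eq, map_apply_pt, phi_apply]
  · rintro ⟨F, hF, hne, m, rfl⟩
    refine ⟨F, hF, hne, constCycle F m, mem_Zk k _, ?_⟩
    rw [cl_eq, map_apply_pt, phi_apply]
    rfl

theorem ptNormSubgroup_eq (K : Type u) [Field K] [Algebra k K] :
    QsChow.ptNormSubgroup k K = (AddSubgroup.closure
      {n : ℤ | ∃ (F : IntermediateField k K) (_ : FiniteDimensional k F) (_ : F ≠ ⊥),
        n = (Module.finrank k F : ℤ)}).map (phi k) := by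
  unfold QsChow.ptNormSubgroup
  apply le_antisymm
  · rw [AddSubgroup.closure_le]
    intro c hc
    obtain ⟨F, hF, hne, m, rfl⟩ := (mem_gens_iff k K c).mp hc
    refine ⟨m * (Module.finrank k F : ℤ), ?_, rfl⟩
    have : (m * (Module.finrank k F : ℤ)) = m • (Module.finrank k F : ℤ) := by simp
    rw [this]
    refine AddSubgroup.zsmul_mem _ (AddSubgroup.subset_closure ?_) m
    exact ⟨F, hF, hne, rfl⟩
  · rw [AddSubgroup.map_le_iff_le_comap, AddSubgroup.closure_le]
    rintro n ⟨F, hF, hne, rfl⟩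
    apply AddSubgroup.subset_closure
    exact (mem_gens_iff k K _).mpr ⟨F, hF, hne, 1, by rw [one_mul]⟩

end Groth.Agent.Lib.Helper10.ChowPt
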