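import Mathlib
import Groth.Prelude.Def_W4c4chowquasisplitNorm
import Groth.Agent.Lib.Helper10.ChowPt3

set_option autoImplicit false
set_option linter.unusedSectionVars false
set_option linter.style.haveILetI false
set_option backward.isDefEq.respectTransparency.types false
set_option maxHeartbeats 4000000
set_option synthInstance.maxHeartbeats 400000

universe u

open CategoryTheory CategoryTheory.Limits AlgebraicGeometry Opposite

namespace Groth.Agent.Lib.Helper10.ChowPt

variable (k : Type u) [Field k] (K : Type u) [Field K] [Algebra k K]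

/-- fixed fields of subgroups of the Galois group of a finite Galois subextension,
as intermediate fields of the big extension -/
theorem exists_intermediateField_finrank (L : IntermediateField k K) [FiniteDimensional k L]
    [IsGalois k L] (H : Subgroup (L ≃ₐ[k] L)) :
    ∃ (F : IntermediateField k K) (_ : FiniteDimensional k F),
      Module.finrank k F * Nat.card H = Module.finrank k L := by
  let E : IntermediateField k ↥L := IntermediateField.fixedField H
  have h1 : Module.finrank E L = Nat.card H := IntermediateField.finrank_fixedField_eq_card H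
  have h2 : Module.finrank k E * Module.finrank E L = Module.finrank k L :=
    Module.finrank_mul_finrank k E L
  let e := IntermediateField.liftAlgEquiv E
  have h3 : Module.finrank k E = Module.finrank k (IntermediateField.lift E) :=
    e.toLinearEquiv.finrank_eq
  haveI : FiniteDimensional k (IntermediateField.lift E) :=
    Module.Finite.equiv e.toLinearEquiv
  refine ⟨IntermediateField.lift E, inferInstance, ?_⟩
  rw [← h3, ← h1, h2]

theorem card_gal (L : IntermediateField k K) [FiniteDimensional k L] [IsGalois k L] :
    Nat.card (L ≃ₐ[k] L) = Module.finrank k L :=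
  IsGalois.card_aut_eq_finrank k L

/-- the "prime to p" fields -/
theorem exists_intermediateField_ordCompl (L : IntermediateField k K) [FiniteDimensional k L]
    [IsGalois k L] (p : ℕ) (hp : p.Prime) :
    ∃ (F : IntermediateField k K) (_ : FiniteDimensional k F),
      Module.finrank k F = Module.finrank k L / p ^ (Module.finrank k L).factorization p := by
  haveI : Fact p.Prime := ⟨hp⟩
  obtain ⟨P⟩ : Nonempty (Sylow p (L ≃ₐ[k] L)) := inferInstance
  obtain ⟨F, hF, h⟩ := exists_intermediateField_finrank k K L (P : Subgroup (L ≃ₐ[k] L))
  refine ⟨F, hF, ?_⟩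
  have hc : Nat.card (P : Subgroup (L ≃ₐ[k] L)) = p ^ (Module.finrank k L).factorization p := by
    have := P.card_eq_multiplicity
    rwa [card_gal] at this
  rw [hc] at h
  exact (Nat.div_eq_of_eq_mul_left (pow_pos hp.pos _) h.symm).symm

theorem closure_eq_top_of_not_prime_pow (L : IntermediateField k K) [FiniteDimensional k L]
    [IsGalois k L] (hL : ∀ p n : ℕ, p.Prime → Module.finrank k L ≠ p ^ n) :
    AddSubgroup.closure
      {n : ℤ | ∃ (F : IntermediateField k K) (_ : FiniteDimensional k F) (_ : F ≠ ⊥),
        n = (Module.finrank k F : ℤ)} = ⊤ := by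
  set N := Module.finrank k L with hN
  have hNpos : 0 < N := Module.finrank_pos
  set S := AddSubgroup.closure
      {n : ℤ | ∃ (F : IntermediateField k K) (_ : FiniteDimensional k F) (_ : F ≠ ⊥),
        n = (Module.finrank k F : ℤ)} with hS
  obtain ⟨d, hd⟩ := Int.subgroup_cyclic S
  -- for each prime p dividing N, N / p^v ∈ S
  have hmem : ∀ p : ℕ, p.Prime → ((N / p ^ N.factorization p : ℕ) : ℤ) ∈ S := by
    intro p hp
    obtain ⟨F, hF, h⟩ := exists_intermediateField_ordCompl k K L p hp
    apply AddSubgroup.subset_closure
    refine ⟨F, hF, ?_, by rw [h]⟩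
    intro hbot
    have h1 : Module.finrank k F = 1 := IntermediateField.finrank_eq_one_iff.mpr hbot
    rw [h] at h1
    have h2 : N = p ^ N.factorization p := by
      have := Nat.div_mul_cancel (Nat.ordProj_dvd N p)
      rw [h1, one_mul] at this
      exact this.symm
    exact hL p _ hp h2
  have hdvd : ∀ p : ℕ, p.Prime → d ∣ ((N / p ^ N.factorization p : ℕ) : ℤ) := by
    intro p hp
    have := hmem p hp
    rw [hd, ← AddSubgroup.zmultiples_eq_closure] at this
    exact Int.mem_zmultiples_iff.mp this
  have hd1 : d.natAbs = 1 := by
    by_contra hne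
    obtain ⟨q, hq, hqd⟩ := Nat.exists_prime_and_dvd hne
    have h1 : (q : ℤ) ∣ ((N / q ^ N.factorization q : ℕ) : ℤ) :=
      (Int.natCast_dvd.mpr hqd).trans (hdvd q hq)
    have h2 : q ∣ N / q ^ N.factorization q := Int.natCast_dvd_natCast.mp h1
    exact Nat.not_dvd_ordCompl hq hNpos.ne' h2
  rw [hd, eq_top_iff, ← AddSubgroup.zmultiples_eq_closure]
  intro n _
  rw [Int.mem_zmultiples_iff]
  exact (Int.isUnit_iff_natAbs_eq.mpr hd1).dvd

end Groth.Agent.Lib.Helper10.ChowPt
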