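import Mathlib
import Groth.Prelude.Def_W4c4chowquasisplitNorm
import Groth.Agent.Lib.Helper10.ChowPt4

set_option autoImplicit false
set_option linter.unusedSectionVars false
set_option linter.style.haveILetI false
set_option backward.isDefEq.respectTransparency.types false
set_option maxHeartbeats 4000000
set_option synthInstance.maxHeartbeats 400000

universe u

open CategoryTheory CategoryTheory.Limits AlgebraicGeometry Opposite

namespace Groth.Agent.Lib.Helper10.ChowPt

variable (k : Type u) [Field k] (K : Type u) [Field K] [Algebra k K]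

theorem closure_eq_zmultiples_of_prime_pow (L : IntermediateField k K) [FiniteDimensional k L]
    [IsGalois k L] (p n : ℕ) (hp : p.Prime) (hn : 1 ≤ n) (hL : Module.finrank k L = p ^ n)
    (hF : ∀ F : IntermediateField k K, FiniteDimensional k F → ∃ e : ℕ, Module.finrank k F = p ^ e) :
    AddSubgroup.closure
      {n : ℤ | ∃ (F : IntermediateField k K) (_ : FiniteDimensional k F) (_ : F ≠ ⊥),
        n = (Module.finrank k F : ℤ)} = AddSubgroup.zmultiples (p : ℤ) := by
  haveI : Fact p.Prime := ⟨hp⟩
  apply le_antisymm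
  · rw [AddSubgroup.closure_le]
    rintro m ⟨F, hFd, hne, rfl⟩
    obtain ⟨e, he⟩ := hF F hFd
    have he0 : e ≠ 0 := by
      rintro rfl
      rw [pow_zero] at he
      exact hne (IntermediateField.finrank_eq_one_iff.mp he)
    change ((Module.finrank k F : ℕ) : ℤ) ∈ AddSubgroup.zmultiples (p : ℤ)
    rw [Int.mem_zmultiples_iff, he]
    exact Int.natCast_dvd_natCast.mpr (dvd_pow_self p he0)
  · rw [AddSubgroup.zmultiples_eq_closure, AddSubgroup.closure_le]
    rintro m rfl
    apply AddSubgroup.subset_closure
    obtain ⟨m, rfl⟩ : ∃ m, n = m + 1 := ⟨n - 1, by omega⟩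
    have hdvd : p ^ m ∣ Nat.card (L ≃ₐ[k] L) := by
      rw [card_gal, hL]
      exact pow_dvd_pow p (Nat.le_succ m)
    obtain ⟨H, hH⟩ := Sylow.exists_subgroup_card_pow_prime p hdvd
    obtain ⟨F, hFd, h⟩ := exists_intermediateField_finrank k K L H
    rw [hH, hL, pow_succ] at h
    have hFp : Module.finrank k F = p := by
      have := Nat.eq_of_mul_eq_mul_right (pow_pos hp.pos m) (h.trans (mul_comm _ _))
      exact this
    refine ⟨F, hFd, ?_, by rw [hFp]⟩
    intro hbot
    have h1 : Module.finrank k F = 1 := IntermediateField.finrank_eq_one_iff.mpr hbot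
    rw [hFp] at h1
    exact hp.one_lt.ne' h1

theorem index_ptNormSubgroup_of_prime_pow (L : IntermediateField k K) [FiniteDimensional k L]
    [IsGalois k L] (p n : ℕ) (hp : p.Prime) (hn : 1 ≤ n) (hL : Module.finrank k L = p ^ n)
    (hF : ∀ F : IntermediateField k K, FiniteDimensional k F → ∃ e : ℕ, Module.finrank k F = p ^ e) :
    (QsChow.ptNormSubgroup k K).index = p := by
  rw [ptNormSubgroup_eq, closure_eq_zmultiples_of_prime_pow k K L p n hp hn hL hF,
    AddSubgroup.index_map_of_bijective (phi_bijective k), Int.index_zmultiples]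
  rfl

end Groth.Agent.Lib.Helper10.ChowPt
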