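import Mathlib
import Groth.Agent.Lib.Helper10.OrbitDim1

/-!
# Orbits are locally closed and closed orbits exist in stable closed noetherian subsets
(without quasi-compactness of the ambient scheme); rational points are determined by their image
-/

set_option autoImplicit false
set_option backward.isDefEq.respectTransparency.types false
set_option maxHeartbeats 4000000
set_option synthInstance.maxHeartbeats 400000
universe u
open CategoryTheory CategoryTheory.Limits AlgebraicGeometry MonoidalCategory
  CartesianMonoidalCategory MonObj GrpObj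

namespace Groth.Agent.Lib.Helper10.ClosedOrb

open Groth.Agent.Lib.Helper10 Groth.Agent.Lib.Helper10.OrbitDim

section Pts

variable {k : Type u} [Field k] {Y : Over (Spec (CommRingCat.of k))}

theorem subsingleton_unit : Subsingleton ↥(𝟙_ (Over (Spec (CommRingCat.of k)))).left :=
  inferInstanceAs (Subsingleton (PrimeSpectrum k))

theorem isClosedImmersion_kpt (y : 𝟙_ (Over (Spec (CommRingCat.of k))) ⟶ Y) :
    IsClosedImmersion y.left := by
  haveI := subsingleton_unit (k := k)
  exact isClosedImmersion_of_comp_eq_id Y.hom y.left (Over.w y)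

theorem range_kpt (y : 𝟙_ (Over (Spec (CommRingCat.of k))) ⟶ Y)
    (pt : ↥(𝟙_ (Over (Spec (CommRingCat.of k)))).left) :
    Set.range y.left = {y.left pt} := by
  haveI := subsingleton_unit (k := k)
  ext z
  constructor
  · rintro ⟨q, rfl⟩
    rw [Subsingleton.elim q pt]
    rfl
  · rintro rfl
    exact ⟨pt, rfl⟩

theorem isClosed_singleton_kpt (y : 𝟙_ (Over (Spec (CommRingCat.of k))) ⟶ Y)
    (pt : ↥(𝟙_ (Over (Spec (CommRingCat.of k)))).left) :
    IsClosed ({y.left pt} : Set ↥Y.left) := by
  haveI := isClosedImmersion_kpt y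
  rw [← range_kpt y pt]
  exact y.left.isClosedEmbedding.isClosed_range

/-- a rational point is determined by its image point. -/
theorem kpt_ext (y y' : 𝟙_ (Over (Spec (CommRingCat.of k))) ⟶ Y)
    (pt : ↥(𝟙_ (Over (Spec (CommRingCat.of k)))).left) (h : y.left pt = y'.left pt) :
    y = y' := by
  haveI := isClosedImmersion_kpt y'
  haveI : IsClosedImmersion (pullback.fst y.left y'.left) :=
    inferInstanceAs (IsClosedImmersion (pullback.fst _ _))
  obtain ⟨z, -, -⟩ := Scheme.Pullback.exists_preimage_pullback (f := y.left) (g := y'.left)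
    pt pt h
  haveI : Surjective (pullback.fst y.left y'.left) := by
    constructor
    intro q
    haveI := subsingleton_unit (k := k)
    exact ⟨z, Subsingleton.elim _ _⟩
  haveI : IsReduced (𝟙_ (Over (Spec (CommRingCat.of k)))).left :=
    inferInstanceAs (IsReduced (Spec (CommRingCat.of k)))
  haveI : IsIso (pullback.fst y.left y'.left) :=
    isIso_of_isClosedImmersion_of_surjective _
  have hy : y.left ≫ Y.hom = 𝟙 _ := Over.w y
  have hy' : y'.left ≫ Y.hom = 𝟙 _ := Over.w y'
  have h1 : pullback.fst y.left y'.left = pullback.snd y.left y'.left := by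
    have := congrArg (fun t => t ≫ Y.hom) (pullback.condition (f := y.left) (g := y'.left))
    simp only [Category.assoc] at this
    rw [hy, hy'] at this
    simpa using this
  have h2 : pullback.fst y.left y'.left ≫ y.left = pullback.fst y.left y'.left ≫ y'.left := by
    conv_rhs => rw [h1]
    exact pullback.condition
  ext1
  exact (cancel_epi _).mp h2

end Pts

variable {k : Type u} [Field k] {G X : Over (Spec (CommRingCat.of k))} [GrpObj G]
  (a : AlgGrp.Action G X)

/-- **The orbit of a rational point is locally closed** (no quasi-compactness of `X`). -/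
theorem exists_isOpen_closure_inter_eq' [LocallyOfFiniteType G.hom] [QuasiCompact G.hom]
    [LocallyOfFiniteType X.hom]
    (x : 𝟙_ (Over (Spec (CommRingCat.of k))) ⟶ X) :
    ∃ U : Set ↥X.left, IsOpen U ∧
      closure (Set.range (a.orbitMap x).left) ∩ U = Set.range (a.orbitMap x).left := by
  classical
  let pt : ↥(𝟙_ (Over (Spec (CommRingCat.of k)))).left := IsLocalRing.closedPoint k
  haveI : CompactSpace ↥G.left := QuasiCompact.compactSpace_of_compactSpace G.hom
  haveI : IsLocallyNoetherian G.left := LocallyOfFiniteType.isLocallyNoetherian G.hom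
  haveI : IsNoetherian G.left := {}
  haveI : IsLocallyNoetherian X.left := LocallyOfFiniteType.isLocallyNoetherian X.hom
  let orb := a.orbitMap x
  let O : Set ↥X.left := Set.range orb.left
  let Z : Set ↥X.left := closure O
  have hOZ : O ⊆ Z := subset_closure
  have hOst : Stable a O := stable_range_orbitMap a x
  have hZst : Stable a Z := hOst.closure
  have hOne : O.Nonempty := ⟨_, ⟨η[G].left pt, rfl⟩⟩
  haveI : LocallyOfFiniteType orb.left := by
    haveI : LocallyOfFiniteType (orb.left ≫ X.hom) := by rw [Over.w orb]; infer_instance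
    exact locallyOfFiniteType_of_comp orb.left X.hom
  haveI : LocallyOfFinitePresentation orb.left := inferInstance
  haveI : QuasiCompact orb.left := inferInstance
  have hfin : (irreducibleComponents ↥G.left).Finite :=
    finite_irreducibleComponents_of_isNoetherian
  let S : Finset (Set ↥X.left) := hfin.toFinset.image fun C => orb.left '' C
  have hSO : ⋃₀ (S : Set (Set ↥X.left)) = O := by
    apply Set.Subset.antisymm
    · rintro y ⟨A, hA, hyA⟩
      rw [Finset.mem_coe, Finset.mem_image] at hA
      obtain ⟨C, -, rfl⟩ := hA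
      obtain ⟨z, -, rfl⟩ := hyA
      exact ⟨z, rfl⟩
    · rintro _ ⟨z, rfl⟩
      have hz : z ∈ ⋃₀ irreducibleComponents ↥G.left := by
        rw [sUnion_irreducibleComponents]; trivial
      obtain ⟨C, hC, hzC⟩ := hz
      refine ⟨orb.left '' C, ?_, ⟨z, hzC, rfl⟩⟩
      rw [Finset.mem_coe, Finset.mem_image]
      exact ⟨C, by simpa using hC, rfl⟩
  have hSne : S.Nonempty := by
    have hz : η[G].left pt ∈ ⋃₀ irreducibleComponents ↥G.left := by
      rw [sUnion_irreducibleComponents]; trivial
    obtain ⟨C, hC, -⟩ := hz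
    exact ⟨orb.left '' C, Finset.mem_image.mpr ⟨C, by simpa using hC, rfl⟩⟩
  obtain ⟨U, hU, hUne, hUsub⟩ := exists_open_inter_subset S hSne
    (by
      intro A hA
      obtain ⟨C, hC, rfl⟩ := Finset.mem_image.mp hA
      have hC' : C ∈ irreducibleComponents ↥G.left := by simpa using hC
      exact hC'.1.image _ orb.left.continuous.continuousOn)
    (by
      intro A hA
      obtain ⟨C, hC, rfl⟩ := Finset.mem_image.mp hA
      have hC' : C ∈ irreducibleComponents ↥G.left := by simpa using hC
      have hCcl : IsClosed C := isClosed_of_mem_irreducibleComponents C hC'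
      have h1 := orb.left.isLocallyConstructible_image
        (Groth.Agent.Lib.Helper12.isConstructible_of_isClosed hCcl).isLocallyConstructible
      exact h1.isConstructible_of_subset_of_isCompact subset_rfl
        (hCcl.isCompact.image orb.left.continuous))
  rw [hSO] at hUne hUsub
  -- the largest open subset `Us` with `Z ∩ Us ⊆ O`
  let Us : Set ↥X.left := ⋃₀ {V | IsOpen V ∧ Z ∩ V ⊆ O}
  have hUs_open : IsOpen Us := isOpen_sUnion fun V hV => hV.1
  have hUs_sub : Z ∩ Us ⊆ O := by
    rintro y ⟨hyZ, V, ⟨-, hV⟩, hyV⟩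
    exact hV ⟨hyZ, hyV⟩
  have hUs_ne : (Z ∩ Us).Nonempty := by
    obtain ⟨y, hyZ, hyU⟩ := hUne
    exact ⟨y, hyZ, U, ⟨hU, hUsub⟩, hyU⟩
  have hU'' : a.act.left '' ((snd G X).left ⁻¹' Us) ⊆ Us := by
    apply Set.subset_sUnion_of_mem
    refine ⟨isOpenMap_act a _ (hUs_open.preimage (snd G X).left.continuous), ?_⟩
    rintro y ⟨hyZ, w, hw, rfl⟩
    have h1 : (snd G X).left w ∈ Z := (hZst.mem_iff w).mp hyZ
    exact hOst w (hUs_sub ⟨h1, hw⟩)
  let B : Set ↥X.left := Z ∩ Usᶜ
  have hBst : Stable a B := by
    rintro w ⟨hwZ, hwU⟩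
    refine ⟨hZst w hwZ, fun hact => hwU ?_⟩
    apply hU''
    refine ⟨(flip a).left w, ?_, flip_act_apply a w⟩
    change (snd G X).left ((flip a).left w) ∈ Us
    rw [flip_snd_apply]
    exact hact
  have hOB : ¬ (B ∩ O).Nonempty := by
    intro hne
    have hsub : O ⊆ B := range_orbitMap_subset_of_inter a x hBst hne
    obtain ⟨y, hyZ, hyU⟩ := hUs_ne
    exact (hsub (hUs_sub ⟨hyZ, hyU⟩)).2 hyU
  refine ⟨Us, hUs_open, Set.Subset.antisymm hUs_sub ?_⟩
  intro y hy
  refine ⟨hOZ hy, ?_⟩
  by_contra h
  exact hOB ⟨y, ⟨hOZ hy, h⟩, hy⟩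

/-- **Existence of a closed orbit** in a nonempty closed stable noetherian subset. -/
theorem exists_closed_orbit_subset [IsAlgClosed k] [LocallyOfFiniteType G.hom]
    [QuasiCompact G.hom] [LocallyOfFiniteType X.hom] (Z₀ : Set ↥X.left) (hZ₀cl : IsClosed Z₀)
    (hZ₀st : Stable a Z₀) (hZ₀ne : Z₀.Nonempty) [TopologicalSpace.NoetherianSpace ↥Z₀] :
    ∃ x : 𝟙_ (Over (Spec (CommRingCat.of k))) ⟶ X, (∀ pt, x.left pt ∈ Z₀) ∧
      IsClosed (Set.range (a.orbitMap x).left) := by
  classical
  let pt : ↥(𝟙_ (Over (Spec (CommRingCat.of k)))).left := IsLocalRing.closedPoint k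
  -- a minimal nonempty closed stable subset of `Z₀`
  let 𝓕 : Set (TopologicalSpace.Closeds ↥Z₀) :=
    {Z | (Z : Set ↥Z₀).Nonempty ∧ Stable a (Subtype.val '' (Z : Set ↥Z₀))}
  have h𝓕 : 𝓕.Nonempty := by
    refine ⟨⊤, ?_, ?_⟩
    · obtain ⟨z, hz⟩ := hZ₀ne
      exact ⟨⟨z, hz⟩, trivial⟩
    · have : Subtype.val '' ((⊤ : TopologicalSpace.Closeds ↥Z₀) : Set ↥Z₀) = Z₀ := by
        simp
      rw [this]
      exact hZ₀st
  have hN : TopologicalSpace.NoetherianSpace ↥Z₀ := inferInstance
  haveI : WellFoundedLT (TopologicalSpace.Closeds ↥Z₀) :=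
    ((TopologicalSpace.noetherianSpace_TFAE ↥Z₀).out 0 1).mp hN
  have hwf : WellFounded fun s t : TopologicalSpace.Closeds ↥Z₀ => s < t := wellFounded_lt
  obtain ⟨Z', ⟨hZ'ne, hZ'st⟩, hZ'min⟩ := hwf.has_min 𝓕 h𝓕
  set Z : Set ↥X.left := Subtype.val '' (Z' : Set ↥Z₀) with hZdef
  have hZcl : IsClosed Z := hZ₀cl.isClosedEmbedding_subtypeVal.isClosedMap _ Z'.isClosed
  have hZne : Z.Nonempty := hZ'ne.image _
  have hZsub : Z ⊆ Z₀ := by
    rintro _ ⟨z, -, rfl⟩
    exact z.2
  have hZmin : ∀ B : Set ↥X.left, IsClosed B → B.Nonempty → Stable a B → B ⊆ Z → B = Z := by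
    intro B hBcl hBne hBst hBZ
    let B' : TopologicalSpace.Closeds ↥Z₀ := ⟨Subtype.val ⁻¹' B, hBcl.preimage continuous_subtype_val⟩
    have hB'img : Subtype.val '' (B' : Set ↥Z₀) = B := by
      change Subtype.val '' ((Subtype.val : ↥Z₀ → ↥X.left) ⁻¹' B) = B
      rw [Subtype.image_preimage_coe]
      exact Set.inter_eq_right.mpr (hBZ.trans hZsub)
    have hB'mem : B' ∈ 𝓕 := by
      refine ⟨?_, ?_⟩
      · obtain ⟨b, hb⟩ := hBne
        exact ⟨⟨b, hZsub (hBZ hb)⟩, hb⟩
      · rw [hB'img]
        exact hBst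
    have hle : B' ≤ Z' := by
      intro z hz
      obtain ⟨z', hz', hzz'⟩ := hBZ (show (z : ↥X.left) ∈ B from hz)
      rw [Subtype.ext hzz'] at hz'
      exact hz'
    by_contra hne
    have hlt : B' < Z' := by
      refine lt_of_le_of_ne hle ?_
      intro h
      apply hne
      rw [← hB'img, h]
    exact hZ'min B' hB'mem hlt
  obtain ⟨x, hx⟩ := OrbConn.exists_point_mem_of_isClosed X Z hZcl hZne
  refine ⟨x, fun q => hZsub (hx q), ?_⟩
  let O : Set ↥X.left := Set.range (a.orbitMap x).left
  have hOZ : O ⊆ Z := range_orbitMap_subset hZ'st x hx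
  have hOst : Stable a O := stable_range_orbitMap a x
  have hOne : O.Nonempty := ⟨_, ⟨η[G].left pt, rfl⟩⟩
  have hcl : closure O = Z :=
    hZmin _ isClosed_closure hOne.closure hOst.closure (closure_minimal hOZ hZcl)
  obtain ⟨U, hU, hUO⟩ := exists_isOpen_closure_inter_eq' a x
  have hBcl : IsClosed (closure O \ O) := by
    have : closure O \ O = closure O ∩ Uᶜ := by
      ext y
      constructor
      · rintro ⟨hy1, hy2⟩
        refine ⟨hy1, fun hyU => hy2 ?_⟩
        change y ∈ Set.range (a.orbitMap x).left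
        rw [← hUO]
        exact ⟨hy1, hyU⟩
      · rintro ⟨hy1, hy2⟩
        refine ⟨hy1, fun hyO => hy2 ?_⟩
        have : y ∈ closure (Set.range (a.orbitMap x).left) ∩ U := by
          rw [hUO]
          exact hyO
        exact this.2
    rw [this]
    exact isClosed_closure.inter hU.isClosed_compl
  have hBst : Stable a (closure O \ O) := hOst.closure.diff hOst
  have hBempty : closure O \ O = ∅ := by
    by_contra hne
    have hBne : (closure O \ O).Nonempty := Set.nonempty_iff_ne_empty.mpr hne
    have := hZmin _ hBcl hBne hBst (by rw [hcl]; exact Set.diff_subset)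
    obtain ⟨o, ho⟩ := hOne
    have ho' : o ∈ closure O \ O := by
      rw [this]
      exact hOZ ho
    exact ho'.2 ho
  have : closure O = O := by
    apply Set.Subset.antisymm _ subset_closure
    intro y hy
    by_contra hyO
    have : y ∈ closure O \ O := ⟨hy, hyO⟩
    rw [hBempty] at this
    exact this
  change IsClosed O
  rw [← this]
  exact isClosed_closure

end Groth.Agent.Lib.Helper10.ClosedOrb
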