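import Mathlib
import Groth.Agent.Lib.Helper10.ConstSch1
import Groth.Prelude.Def_TwC

/-!
# Points of constant group schemes with values in connected schemes; homomorphisms from
quasi-compact group schemes to torsion-free constant groups are trivial
-/

set_option autoImplicit false
set_option backward.isDefEq.respectTransparency.types false
set_option maxHeartbeats 4000000
set_option synthInstance.maxHeartbeats 400000
universe u
open CategoryTheory CategoryTheory.Limits AlgebraicGeometry MonoidalCategory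
  CartesianMonoidalCategory MonObj GrpObj

namespace Groth.Agent.Lib.Helper10.ConstHom

open Groth.Agent.Lib.Helper10.ConstSch

variable {S : Scheme.{u}} {Z : Type u}

theorem ι_str (m : Z) : Sigma.ι (fun _ : Z => S) m ≫ str S Z = 𝟙 S := Sigma.ι_desc _ _

theorem pre_comp_ι_self {T : Scheme.{u}} (f : T ⟶ S) (m : Z) :
    pre (f ≫ Sigma.ι (fun _ : Z => S) m) m = ⊤ := by
  rw [eq_top_iff]
  intro x _
  change (f ≫ Sigma.ι (fun _ : Z => S) m).base x ∈ cmp S m
  rw [Scheme.Hom.comp_apply]
  exact ⟨f.base x, rfl⟩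

/-- a morphism from a connected scheme to a constant scheme factors through one component. -/
theorem exists_eq_comp_ι {T : Scheme.{u}} [ConnectedSpace T] (z : T ⟶ cst S Z) :
    ∃ m : Z, z = (z ≫ str S Z) ≫ Sigma.ι (fun _ : Z => S) m := by
  obtain ⟨x⟩ : Nonempty T := inferInstance
  obtain ⟨m₀, hm₀⟩ := exists_mem_cmp (z.base x)
  have hx : x ∈ pre z m₀ := hm₀
  have hclopen : IsClopen ((pre z m₀ : T.Opens) : Set T) := by
    refine ⟨?_, (pre z m₀).2⟩
    rw [← isOpen_compl_iff]
    have : ((pre z m₀ : T.Opens) : Set T)ᶜ = ⋃ m ∈ {m : Z | m ≠ m₀}, ((pre z m : T.Opens) : Set T) := by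
      ext y
      simp only [Set.mem_compl_iff, SetLike.mem_coe, Set.mem_iUnion, Set.mem_ofPred_eq, exists_prop]
      constructor
      · intro hy
        obtain ⟨m, hm⟩ := exists_mem_cmp (z.base y)
        refine ⟨m, ?_, hm⟩
        rintro rfl
        exact hy hm
      · rintro ⟨m, hm, hy⟩ hy'
        have hd := disjoint_pre z m m₀ hm
        rw [disjoint_iff, eq_bot_iff] at hd
        exact hd ⟨hy, hy'⟩
    rw [this]
    exact isOpen_biUnion fun m _ => (pre z m).2
  have htop : pre z m₀ = ⊤ := by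
    apply TopologicalSpace.Opens.ext
    exact hclopen.eq_univ ⟨x, hx⟩
  refine ⟨m₀, ?_⟩
  apply hom_ext_of_pre_le
  · rw [Category.assoc, ι_str, Category.comp_id]
  · intro m
    by_cases hm : m = m₀
    · subst hm
      rw [pre_comp_ι_self]
      exact le_top
    · have hd := disjoint_pre z m m₀ hm
      rw [htop, disjoint_top] at hd
      rw [hd]
      exact bot_le

section Grp

variable [Group Z] {G : Over S} [GrpObj G] (eG : G ≅ TwC.const S Z)

/-- the constant point of index `m`. -/
noncomputable def cpt (T : Over S) (m : Z) : T ⟶ G := toUnit T ≫ TwC.pt S Z m ≫ eG.inv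

theorem comp_cpt {T T' : Over S} (f : T' ⟶ T) (m : Z) : f ≫ cpt eG T m = cpt eG T' m := by
  rw [cpt, cpt, ← Category.assoc]
  congr 1
  exact toUnit_unique _ _

theorem cpt_comp_hom_left (T : Over S) (m : Z) :
    (cpt eG T m ≫ eG.hom).left = T.hom ≫ Sigma.ι (fun _ : Z => S) m := by
  rw [cpt, Category.assoc, Category.assoc, Iso.inv_hom_id, Category.comp_id]
  rfl

variable (hG : TwC.IsConstGrp Z G eG)

include hG in
theorem cpt_mul (T : Over S) (m n : Z) : cpt eG T m * cpt eG T n = cpt eG T (m * n) := by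
  rw [cpt, cpt, cpt, ← MonObj.comp_mul, hG m n]

include hG in
theorem cpt_one (T : Over S) : cpt eG T (1 : Z) = 1 := by
  have h := cpt_mul eG hG T 1 1
  rw [_root_.mul_one] at h
  exact mul_eq_left.mp h

include hG in
theorem cpt_pow (T : Over S) (m : Z) (n : ℕ) : cpt eG T m ^ n = cpt eG T (m ^ n) := by
  induction n with
  | zero => rw [pow_zero, pow_zero, cpt_one eG hG]
  | succ n ih => rw [pow_succ, pow_succ, ih, cpt_mul eG hG]

theorem exists_eq_cpt {T : Over S} [ConnectedSpace T.left] (t : T ⟶ G) :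
    ∃ m : Z, t = cpt eG T m := by
  obtain ⟨m, hm⟩ := exists_eq_comp_ι (S := S) (Z := Z) (t ≫ eG.hom).left
  refine ⟨m, ?_⟩
  have h1 : t ≫ eG.hom = cpt eG T m ≫ eG.hom := by
    apply Over.OverMorphism.ext
    rw [cpt_comp_hom_left, hm]
    congr 1
    exact Over.w (t ≫ eG.hom)
  calc t = (t ≫ eG.hom) ≫ eG.inv := by rw [Category.assoc, Iso.hom_inv_id, Category.comp_id]
    _ = cpt eG T m := by rw [h1, Category.assoc, Iso.hom_inv_id, Category.comp_id]

/-- the point of `T` lies in the preimage of the component given by the index. -/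
theorem mem_pre_of_comp_eq_cpt {P T : Over S} (δ : P ⟶ G) (p : T ⟶ P) (m : Z)
    (h : p ≫ δ = cpt eG T m) (x : T.left) :
    p.left.base x ∈ pre (δ ≫ eG.hom).left m := by
  change (δ ≫ eG.hom).left.base (p.left.base x) ∈ cmp S m
  rw [← Scheme.Hom.comp_apply, ← Over.comp_left, ← Category.assoc, h, cpt_comp_hom_left,
    Scheme.Hom.comp_apply]
  exact ⟨T.hom.base x, rfl⟩

include hG in
/-- a morphism from a quasi-compact scheme to a torsion-free constant group which is compatible with
powers on enough connected points is trivial. -/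
theorem eq_one_of_pow {P : Over S} [GrpObj P] [CompactSpace P.left]
    (hZ : ∀ z : Z, IsOfFinOrder z → z = 1) (δ : P ⟶ G)
    (hpow : ∀ p : P.left, ∃ (T : Over S) (_ : ConnectedSpace T.left) (p' : T ⟶ P),
      p ∈ Set.range p'.left.base ∧ ∀ n : ℕ, ∃ q : T ⟶ P, q ≫ δ = (p' ≫ δ) ^ n) :
    δ = 1 := by
  set z := (δ ≫ eG.hom).left with hz
  -- finitely many nonempty components
  obtain ⟨F, hF⟩ : ∃ F : Finset Z, ∀ m : Z, (∃ x, x ∈ pre z m) → m ∈ F := by
    have hcov : (Set.univ : Set P.left) ⊆ ⋃ m : Z, ((pre z m : P.left.Opens) : Set P.left) := by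
      intro x _
      obtain ⟨m, hm⟩ := exists_mem_cmp (z.base x)
      exact Set.mem_iUnion.mpr ⟨m, hm⟩
    obtain ⟨F, hF⟩ := isCompact_univ.elim_finite_subcover
      (fun m : Z => ((pre z m : P.left.Opens) : Set P.left)) (fun m => (pre z m).2) hcov
    refine ⟨F, ?_⟩
    rintro m ⟨x, hx⟩
    have hx' := hF (Set.mem_univ x)
    simp only [Set.mem_iUnion, SetLike.mem_coe, exists_prop] at hx'
    obtain ⟨m', hm', hxm'⟩ := hx'
    by_contra hne
    have hmm : m ≠ m' := by
      rintro rfl
      exact hne hm'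
    have hd := disjoint_pre z m m' hmm
    rw [disjoint_iff, eq_bot_iff] at hd
    exact hd ⟨hx, hxm'⟩
  -- every nonempty component has index one
  have hone : ∀ m : Z, (∃ x, x ∈ pre z m) → m = 1 := by
    rintro m ⟨x, hx⟩
    obtain ⟨T, hT, p', ⟨t₀, ht₀⟩, hq⟩ := hpow x
    haveI := hT
    obtain ⟨m', hm'⟩ := exists_eq_cpt eG (p' ≫ δ)
    have hmm : m' = m := by
      by_contra hne
      have h1 := mem_pre_of_comp_eq_cpt eG δ p' m' hm' t₀
      rw [ht₀] at h1
      have hd := disjoint_pre z m' m hne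
      rw [disjoint_iff, eq_bot_iff] at hd
      exact hd ⟨h1, hx⟩
    subst hmm
    apply hZ
    by_contra hnf
    have hinj : Function.Injective (fun n : ℕ => m' ^ n) :=
      injective_pow_iff_not_isOfFinOrder.mpr hnf
    have hmem : ∀ n : ℕ, m' ^ n ∈ F := by
      intro n
      obtain ⟨q, hq'⟩ := hq n
      rw [hm', cpt_pow eG hG] at hq'
      exact hF _ ⟨q.left.base t₀, mem_pre_of_comp_eq_cpt eG δ q (m' ^ n) hq' t₀⟩
    have hfin : (Set.range fun n : ℕ => m' ^ n).Finite :=
      F.finite_toSet.subset (by rintro _ ⟨n, rfl⟩; exact hmem n)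
    exact Set.infinite_range_of_injective hinj hfin
  -- conclude
  have h1 : δ ≫ eG.hom = cpt eG P 1 ≫ eG.hom := by
    apply Over.OverMorphism.ext
    rw [cpt_comp_hom_left]
    apply hom_ext_of_pre_le
    · rw [Category.assoc, ι_str, Category.comp_id]
      exact Over.w (δ ≫ eG.hom)
    · intro m
      by_cases hm : m = 1
      · subst hm
        rw [pre_comp_ι_self]
        exact le_top
      · intro x hx
        exact absurd (hone m ⟨x, hx⟩) hm
  calc δ = (δ ≫ eG.hom) ≫ eG.inv := by rw [Category.assoc, Iso.hom_inv_id, Category.comp_id]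
    _ = cpt eG P 1 := by rw [h1, Category.assoc, Iso.hom_inv_id, Category.comp_id]
    _ = 1 := cpt_one eG hG P

end Grp

end Groth.Agent.Lib.Helper10.ConstHom
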