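import Mathlib
import Groth.Prelude.Def_ChGrp
import Groth.Agent.Lib.Helper10.FppfLift1

/-!
# The kernel of the action of `G` on `G/H` (the core of `H` in `G`)
-/

set_option autoImplicit false
set_option backward.isDefEq.respectTransparency.types false
set_option maxHeartbeats 4000000
set_option synthInstance.maxHeartbeats 400000
universe u
open CategoryTheory CategoryTheory.Limits AlgebraicGeometry MonoidalCategory
  CartesianMonoidalCategory MonObj GrpObj

namespace Groth.Agent.Lib.Helper10.Core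

open AlgGrp.Action

variable {S : Scheme.{u}} {G H Q N : Over S} [GrpObj G] [GrpObj H] [GrpObj N]
  (i : H ⟶ G) (aQ : AlgGrp.Action G Q) (q₀ : 𝟙_ (Over S) ⟶ Q) (n : N ⟶ G)

section Normal

variable (hN : ∀ (T : Over S) (g : T ⟶ G), (∃ g' : T ⟶ N, g' ≫ n = g) ↔
    ∀ (T' : Over S) (v : T' ⟶ T) (q : T' ⟶ Q), lift (v ≫ g) q ≫ aQ.act = q)

include hN in
theorem isNormalHom : AlgGrp.IsNormalHom n := by
  intro T g m
  suffices h : ∃ g' : T ⟶ N, g' ≫ n = g * (m ≫ n) * g⁻¹ by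
    obtain ⟨g', hg'⟩ := h
    exact ⟨g', hg'.symm⟩
  apply (hN T (g * (m ≫ n) * g⁻¹)).mpr
  intro T' v q
  have hm := (hN T (m ≫ n)).mp ⟨m, rfl⟩
  rw [MonObj.comp_mul, MonObj.comp_mul, GrpObj.comp_inv, lift_mul_act, lift_mul_act, hm T' v,
    ← lift_mul_act, mul_inv_cancel, lift_one_act]

include hN in
theorem unit_orbit : n ≫ aQ.orbitMap q₀ = toUnit N ≫ q₀ := by
  rw [comp_orbitMap]
  have := (hN N n).mp ⟨𝟙 N, Category.id_comp n⟩ N (𝟙 N) (toUnit N ≫ q₀)
  rwa [Category.id_comp] at this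

end Normal

theorem one_orbit (T : Over S) : (toUnit T ≫ η[G]) ≫ aQ.orbitMap q₀ = toUnit T ≫ q₀ := by
  rw [comp_orbitMap, ← Hom.one_def, lift_one_act]

variable (hsq : IsPullback (fst G H) ((G ◁ i) ≫ μ[G]) (aQ.orbitMap q₀) (aQ.orbitMap q₀))

include hsq in
/-- `H` fixes the base point. -/
theorem H_fixes {T : Over S} (h : T ⟶ H) :
    lift (h ≫ i) (toUnit T ≫ q₀) ≫ aQ.act = toUnit T ≫ q₀ := by
  have h1 : lift (toUnit T ≫ η[G]) h ≫ (fst G H ≫ aQ.orbitMap q₀) =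
      lift (toUnit T ≫ η[G]) h ≫ (((G ◁ i) ≫ μ[G]) ≫ aQ.orbitMap q₀) :=
    congrArg (fun t => lift (toUnit T ≫ η[G]) h ≫ t) hsq.w
  rw [lift_fst_assoc, one_orbit] at h1
  have h2 : lift (toUnit T ≫ η[G]) h ≫ ((G ◁ i) ≫ μ[G]) = h ≫ i := by
    rw [← Category.assoc, lift_whiskerLeft, ← Hom.mul_def, ← Hom.one_def, _root_.one_mul]
  rw [← comp_orbitMap, h1, ← Category.assoc, h2]

include hsq in
theorem exists_factor (h1 : n ≫ aQ.orbitMap q₀ = toUnit N ≫ q₀) : ∃ m : N ⟶ H, m ≫ i = n := by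
  let w := hsq.lift (toUnit N ≫ η[G]) n ((one_orbit aQ q₀ N).trans h1.symm)
  have hw1 : w ≫ fst G H = toUnit N ≫ η[G] := hsq.lift_fst _ _ _
  have hw2 : w ≫ (G ◁ i) ≫ μ[G] = n := hsq.lift_snd _ _ _
  refine ⟨w ≫ snd G H, ?_⟩
  have hw : w = lift (w ≫ fst G H) (w ≫ snd G H) := by
    apply CartesianMonoidalCategory.hom_ext
    · rw [lift_fst]
    · rw [lift_snd]
  rw [hw, ← Category.assoc, lift_whiskerLeft, ← Hom.mul_def, hw1] at hw2
  rw [Category.assoc]
  have h1' : (toUnit N ≫ η[G]) = (1 : N ⟶ G) := (Hom.one_def).symm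
  rw [h1', _root_.one_mul] at hw2
  rw [← hw2, Category.assoc]

section Max

variable {N' : Over S} [GrpObj N'] (n' : N' ⟶ G)

include hsq in
/-- a normal subgroup contained in `H` acts trivially on `G/H`. -/
theorem fixes_of_normal
    (hloc : NonAbH1.IsLocallyTrivialFor Scheme.fppfPrecoverage
      (Over.mk (aQ.orbitMap q₀).left : Over Q.left))
    (hnorm : AlgGrp.IsNormalHom n') (m' : N' ⟶ H) (hm' : m' ≫ i = n')
    {T' : Over S} (v : T' ⟶ N') (q : T' ⟶ Q) : lift (v ≫ n') q ≫ aQ.act = q := by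
  apply Over.OverMorphism.ext
  apply FppfLift.hom_ext_of_lift (aQ.orbitMap q₀).left hloc q.left
  intro W f c hc
  let W' : Over S := Over.mk (f ≫ T'.hom)
  let f' : W' ⟶ T' := Over.homMk f rfl
  have hcG : c ≫ G.hom = f ≫ T'.hom := by
    rw [← Over.w (aQ.orbitMap q₀), ← Category.assoc, hc, Category.assoc, Over.w q]
  let c' : W' ⟶ G := Over.homMk c hcG
  have hc' : c' ≫ aQ.orbitMap q₀ = f' ≫ q := by
    apply Over.OverMorphism.ext
    exact hc
  have key : f' ≫ lift (v ≫ n') q ≫ aQ.act = f' ≫ q := by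
    rw [← Category.assoc, comp_lift, ← hc', comp_orbitMap, ← lift_mul_act]
    obtain ⟨m'', hm''⟩ := hnorm W' c'⁻¹ (f' ≫ v)
    have h3 : (f' ≫ v ≫ n') * c' = c' * (m'' ≫ n') := by
      rw [← hm'', _root_.inv_inv, ← Category.assoc]
      group
    rw [h3, lift_mul_act, ← hm', ← Category.assoc, H_fixes i aQ q₀ hsq]
  exact congrArg (fun t => t.left) key

end Max

end Groth.Agent.Lib.Helper10.Core
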