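import Mathlib
import Groth.Prelude.Def_ActBC
import Groth.Agent.Lib.Helper10.HomSp5

/-!
# Identity component of a group scheme over a field / a local artinian ring:
normality, transfer to the special fibre
-/

set_option autoImplicit false
set_option backward.isDefEq.respectTransparency.types false
set_option maxHeartbeats 4000000
set_option synthInstance.maxHeartbeats 400000

universe u

open CategoryTheory CategoryTheory.Limits AlgebraicGeometry MonoidalCategory
  CartesianMonoidalCategory MonObj GrpObj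

namespace Groth.Agent.Lib.Helper10.HomSp

open Groth.Agent.Lib.Helper10.GrpTranslate Groth.Agent.Lib.Helper10.IdComp

section FieldNormal

variable (K : Type u) [Field K] (G : Over (Spec (CommRingCat.of K))) [GrpObj G]
  (pt : ↥(𝟙_ (Over (Spec (CommRingCat.of K)))).left)

/-- the identity component is stable under conjugation by arbitrary points. -/
theorem conj_mem_Z0 {T : Over (Spec (CommRingCat.of K))} (g n : T ⟶ G) (t : ↥T.left)
    (hn : n.left t ∈ Z0 K G pt) : (g * n * g⁻¹).left t ∈ Z0 K G pt := by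
  obtain ⟨T', q, t0', hT', hq⟩ := exists_geomPt T t
  haveI : Subsingleton ↥T'.left := hT'.sub
  haveI : IrreducibleSpace ↥T'.left := hT'.irr
  set g' : T' ⟶ G := q ≫ g with hg'
  set n' : T' ⟶ G := q ≫ n with hn'
  set ZT := (snd T' G).left ⁻¹' Z0 K G pt with hZT
  have hZTmem : ZT ∈ irreducibleComponents ↥(T' ⊗ G).left := preimage_snd_Z0_mem K G pt T'
  let c : T' ⊗ G ⟶ T' ⊗ G := transl g' ≫ transr g'⁻¹
  haveI : IsIso c := inferInstance
  haveI : IsIso c.left := (Over.forget _).map_isIso c
  let h := c.left.homeomorph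
  have happ : ∀ w, h w = c.left w := fun _ => rfl
  have hcs : c ≫ snd T' G = (fst T' G ≫ g') * snd T' G * (fst T' G ≫ g'⁻¹) := by
    simp only [c, Category.assoc]
    rw [transr_snd, MonObj.comp_mul, transl_snd, ← Category.assoc (transl g'), transl_fst]
  have hcf : c ≫ fst T' G = fst T' G := by
    simp only [c, Category.assoc]
    rw [transr_fst, transl_fst]
  have hlift : ∀ (x : T' ⟶ G), lift (𝟙 T') x ≫ c = lift (𝟙 T') (g' * x * g'⁻¹) := by
    intro x
    apply CartesianMonoidalCategory.hom_ext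
    · rw [Category.assoc, hcf, lift_fst, lift_fst]
    · rw [Category.assoc, hcs, MonObj.comp_mul, MonObj.comp_mul, lift_fst_assoc, lift_snd,
        lift_fst_assoc, Category.id_comp, Category.id_comp, lift_snd]
  have hs0 : (lift (𝟙 T') (1 : T' ⟶ G)).left t0' ∈ ZT := by
    change (snd T' G).left ((lift (𝟙 T') (1 : T' ⟶ G)).left t0') ∈ Z0 K G pt
    rw [← Scheme.Hom.comp_apply, ← Over.comp_left, lift_snd, one_left K G pt]
    exact unit_mem_Z0 K G pt
  have hfix : h ((lift (𝟙 T') (1 : T' ⟶ G)).left t0') = (lift (𝟙 T') (1 : T' ⟶ G)).left t0' := by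
    rw [happ, ← Scheme.Hom.comp_apply, ← Over.comp_left, hlift, _root_.mul_one, mul_inv_cancel]
  have hC' : h.symm ⁻¹' ZT ∈ irreducibleComponents ↥(T' ⊗ G).left :=
    preimage_mem_irreducibleComponents hZTmem h.symm.isOpenEmbedding
      ⟨_, hs0, ⟨h ((lift (𝟙 T') (1 : T' ⟶ G)).left t0'), h.symm_apply_apply _⟩⟩
  have hmem' : (lift (𝟙 T') (1 : T' ⟶ G)).left t0' ∈ h.symm ⁻¹' ZT := by
    change h.symm ((lift (𝟙 T') (1 : T' ⟶ G)).left t0') ∈ ZT
    have h0 : h.symm ((lift (𝟙 T') (1 : T' ⟶ G)).left t0') =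
        (lift (𝟙 T') (1 : T' ⟶ G)).left t0' := by
      rw [h.symm_apply_eq]
      exact hfix.symm
    rw [h0]
    exact hs0
  have heq : h.symm ⁻¹' ZT = ZT :=
    (hT'.uc G _) _ hC' _ hZTmem hmem' hs0
  have hpn : (lift (𝟙 T') n').left t0' ∈ ZT := by
    change (snd T' G).left ((lift (𝟙 T') n').left t0') ∈ Z0 K G pt
    rw [← Scheme.Hom.comp_apply, ← Over.comp_left, lift_snd, hn', Over.comp_left,
      Scheme.Hom.comp_apply, hq]
    exact hn
  have h1 : h ((lift (𝟙 T') n').left t0') ∈ ZT := by
    rw [← heq]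
    change h.symm (h _) ∈ ZT
    rw [h.symm_apply_apply]
    exact hpn
  rw [happ, ← Scheme.Hom.comp_apply, ← Over.comp_left, hlift] at h1
  have h2 : (snd T' G).left ((lift (𝟙 T') (g' * n' * g'⁻¹)).left t0') ∈ Z0 K G pt := h1
  rw [← Scheme.Hom.comp_apply, ← Over.comp_left, lift_snd, hg', hn', ← GrpObj.comp_inv,
    ← MonObj.comp_mul, ← MonObj.comp_mul, Over.comp_left, Scheme.Hom.comp_apply, hq] at h2
  exact h2

end FieldNormal

section ArtinGrp

variable (A : Type u) [CommRing A] [IsArtinianRing A] [IsLocalRing A]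

theorem fibreHomeo_map {X Y : Over (Spec (CommRingCat.of A))} (k : X ⟶ Y)
    (w : ↥((Over.pullback (resMap A)).obj X).left) :
    fibreHomeo A Y (((Over.pullback (resMap A)).map k).left w) = k.left (fibreHomeo A X w) := by
  rw [fibreHomeo_apply, fibreHomeo_apply, ← Scheme.Hom.comp_apply, ← Scheme.Hom.comp_apply,
    ActBC.pullback_map_left_fst]

variable (G : Over (Spec (CommRingCat.of A))) [GrpObj G]

open scoped CategoryTheory.Obj

theorem fibreHomeo_unit (pt : ↥(𝟙_ (Over (Spec (CommRingCat.of A)))).left)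
    (pt' : ↥(𝟙_ (Over (Spec (CommRingCat.of (IsLocalRing.ResidueField A))))).left) :
    fibreHomeo A G (η[(Over.pullback (resMap A)).obj G].left pt') = η[G].left pt := by
  rw [Functor.obj.η_def, Over.comp_left, Scheme.Hom.comp_apply, fibreHomeo_map]
  congr 1
  haveI := subsingleton_Spec_artin A
  exact Subsingleton.elim (α := ↥(Spec (CommRingCat.of A))) _ _

/-- the identity component over a local artinian ring is the image of that of the special
fibre. -/
theorem connectedComponent_unit_artin (pt : ↥(𝟙_ (Over (Spec (CommRingCat.of A)))).left)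
    (pt' : ↥(𝟙_ (Over (Spec (CommRingCat.of (IsLocalRing.ResidueField A))))).left) :
    connectedComponent (η[G].left pt) =
      fibreHomeo A G '' Z0 (IsLocalRing.ResidueField A) ((Over.pullback (resMap A)).obj G) pt' := by
  rw [← connectedComponent_unit_eq_Z0, image_connectedComponent_homeo,
    fibreHomeo_unit A G pt pt']

theorem mem_Z0_of_mem_cc (pt : ↥(𝟙_ (Over (Spec (CommRingCat.of A)))).left)
    (pt' : ↥(𝟙_ (Over (Spec (CommRingCat.of (IsLocalRing.ResidueField A))))).left)
    {T : Over (Spec (CommRingCat.of A))} (g : T ⟶ G)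
    (hg : Set.range g.left ⊆ connectedComponent (η[G].left pt))
    (w : ↥((Over.pullback (resMap A)).obj T).left) :
    ((Over.pullback (resMap A)).map g).left w ∈
      Z0 (IsLocalRing.ResidueField A) ((Over.pullback (resMap A)).obj G) pt' := by
  have h1 : g.left (fibreHomeo A T w) ∈ connectedComponent (η[G].left pt) := hg ⟨_, rfl⟩
  rw [connectedComponent_unit_artin A G pt pt', ← fibreHomeo_map] at h1
  obtain ⟨z, hz, hzw⟩ := h1
  rwa [(fibreHomeo A G).injective hzw] at hz

theorem range_subset_cc_of_forall (pt : ↥(𝟙_ (Over (Spec (CommRingCat.of A)))).left)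
    (pt' : ↥(𝟙_ (Over (Spec (CommRingCat.of (IsLocalRing.ResidueField A))))).left)
    {T : Over (Spec (CommRingCat.of A))} (g : T ⟶ G)
    (hg : ∀ w : ↥((Over.pullback (resMap A)).obj T).left,
      ((Over.pullback (resMap A)).map g).left w ∈
        Z0 (IsLocalRing.ResidueField A) ((Over.pullback (resMap A)).obj G) pt') :
    Set.range g.left ⊆ connectedComponent (η[G].left pt) := by
  rintro _ ⟨t, rfl⟩
  obtain ⟨w, rfl⟩ := (fibreHomeo A T).surjective t
  rw [connectedComponent_unit_artin A G pt pt', ← fibreHomeo_map]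
  exact ⟨_, hg w, rfl⟩

/-- the identity component over a local artinian ring is stable under `(g, h) ↦ g h⁻¹`. -/
theorem mul_inv_mem_cc_artin (pt : ↥(𝟙_ (Over (Spec (CommRingCat.of A)))).left)
    {T : Over (Spec (CommRingCat.of A))} (g h : T ⟶ G)
    (hg : Set.range g.left ⊆ connectedComponent (η[G].left pt))
    (hh : Set.range h.left ⊆ connectedComponent (η[G].left pt)) :
    Set.range (g * h⁻¹).left ⊆ connectedComponent (η[G].left pt) := by
  obtain ⟨pt'⟩ := exists_pt (k := IsLocalRing.ResidueField A)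
  apply range_subset_cc_of_forall A G pt pt'
  intro w
  rw [Functor.map_mul, Functor.map_inv']
  exact mul_mem_Z0 _ _ pt' _ _ w (mem_Z0_of_mem_cc A G pt pt' g hg w)
    (inv_mem_Z0 _ _ pt' _ w (mem_Z0_of_mem_cc A G pt pt' h hh w))

/-- the identity component over a local artinian ring is normal. -/
theorem conj_mem_cc_artin (pt : ↥(𝟙_ (Over (Spec (CommRingCat.of A)))).left)
    {T : Over (Spec (CommRingCat.of A))} (g n : T ⟶ G)
    (hn : Set.range n.left ⊆ connectedComponent (η[G].left pt)) :
    Set.range (g * n * g⁻¹).left ⊆ connectedComponent (η[G].left pt) := by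
  obtain ⟨pt'⟩ := exists_pt (k := IsLocalRing.ResidueField A)
  apply range_subset_cc_of_forall A G pt pt'
  intro w
  rw [Functor.map_mul, Functor.map_mul, Functor.map_inv']
  exact conj_mem_Z0 _ _ pt' _ _ w (mem_Z0_of_mem_cc A G pt pt' n hn w)

end ArtinGrp

end Groth.Agent.Lib.Helper10.HomSp
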