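import Mathlib
import Groth.Agent.Lib.Helper10.NeutFib3
import Groth.Agent.Lib.Helper10.HomSp6

/-!
# `U · V = G` for dense opens of a group scheme over a field or a local artinian ring
-/

set_option autoImplicit false
set_option backward.isDefEq.respectTransparency.types false
set_option maxHeartbeats 4000000
set_option synthInstance.maxHeartbeats 400000

universe u

open CategoryTheory CategoryTheory.Limits AlgebraicGeometry MonoidalCategory
  CartesianMonoidalCategory MonObj GrpObj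

namespace Groth.Agent.Lib.Helper10.DenseMul

open Groth.Agent.Lib.Helper10.IdComp Groth.Agent.Lib.Helper10.HomFamBC

/-- transfer of points of `G_s × G_s` to `G × G`. -/
theorem exists_prod_point {S U : Scheme.{u}} (σ : U ⟶ S) (G : Over S) [GrpObj G]
    (z' : ↥(Red.bc σ G ⊗ Red.bc σ G).left) :
    ∃ z : ↥(G ⊗ G).left,
      (fst G G).left z = pullback.fst G.hom σ ((fst (Red.bc σ G) (Red.bc σ G)).left z') ∧
      (snd G G).left z = pullback.fst G.hom σ ((snd (Red.bc σ G) (Red.bc σ G)).left z') ∧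
      μ[G].left z = pullback.fst G.hom σ (μ[Red.bc σ G].left z') := by
  let Gs := Red.bc σ G
  let τ : (Over.map σ).obj (Gs ⊗ Gs) ⟶ G ⊗ G := lift (tr σ (fst Gs Gs)) (tr σ (snd Gs Gs))
  have hτμ : τ ≫ μ[G] = tr σ μ[Gs] := by
    have : μ[Gs] = fst Gs Gs * snd Gs Gs := by
      rw [Hom.mul_def, lift_fst_snd, Category.id_comp]
    rw [this, tr_mul, FlatPt.lift_comp_mul]
  refine ⟨τ.left z', ?_, ?_, ?_⟩
  · have := congrArg (fun ψ => ψ.left z') (lift_fst (tr σ (fst Gs Gs)) (tr σ (snd Gs Gs)))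
    simp only [Over.comp_left, Scheme.Hom.comp_apply, tr_left] at this
    exact this
  · have := congrArg (fun ψ => ψ.left z') (lift_snd (tr σ (fst Gs Gs)) (tr σ (snd Gs Gs)))
    simp only [Over.comp_left, Scheme.Hom.comp_apply, tr_left] at this
    exact this
  · have := congrArg (fun ψ => ψ.left z') hτμ
    simp only [Over.comp_left, Scheme.Hom.comp_apply, tr_left] at this
    exact this

section Field

variable (k : Type u) [Field k] (G : Over (Spec (CommRingCat.of k))) [GrpObj G]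

theorem exists_mul_of_dense (U V : Set G.left) (hU : IsOpen U) (hUd : Dense U) (hV : IsOpen V)
    (hVd : Dense V) (g : G.left) :
    ∃ z : ↥(G ⊗ G).left, (fst G G).left z ∈ U ∧ (snd G G).left z ∈ V ∧ μ[G].left z = g := by
  obtain ⟨T, gT, t0, hgT, hT, hirr⟩ := exists_fieldPoint G g
  haveI := hirr
  haveI : Nonempty ↥T.left := ⟨t0⟩
  haveI : IsIso ι[G] := ⟨⟨ι[G], GrpObj.inv_comp_inv G, GrpObj.inv_comp_inv G⟩⟩
  let θ : T ⊗ G ⟶ T ⊗ G := (T ◁ ι[G]) ≫ GrpTranslate.transl gT
  haveI : IsIso θ := inferInstance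
  haveI : IsIso θ.left := (Over.forget _).map_isIso θ
  have hsndo : IsOpenMap (snd T G).left := isOpenMap_snd
  have hUT : Dense ((snd T G).left ⁻¹' U) := hUd.preimage hsndo
  have hVT : Dense ((snd T G).left ⁻¹' V) := hVd.preimage hsndo
  have hθo : IsOpen (θ.left ⁻¹' ((snd T G).left ⁻¹' U)) :=
    (hU.preimage (snd T G).left.continuous).preimage θ.left.continuous
  have hθd : Dense (θ.left ⁻¹' ((snd T G).left ⁻¹' U)) :=
    hUT.preimage θ.left.homeomorph.isOpenMap
  haveI : Nonempty ↥(T ⊗ G).left := by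
    obtain ⟨w, -⟩ := (surjective_snd (T := T) (G := G)) g
    exact ⟨w⟩
  have hne : (θ.left ⁻¹' ((snd T G).left ⁻¹' U)).Nonempty := hθd.nonempty
  obtain ⟨ζ, hζ1, hζ2⟩ := hVT.inter_open_nonempty _ hθo hne
  obtain ⟨T', q, t0', hq, hT', -⟩ := exists_fieldPoint (T ⊗ G) ζ
  have hθsnd : q ≫ θ ≫ snd T G = (q ≫ fst T G ≫ gT) * (q ≫ snd T G)⁻¹ := by
    simp only [θ, Category.assoc]
    rw [GrpTranslate.transl_snd, MonObj.comp_mul, MonObj.comp_mul,
      whiskerLeft_fst_assoc, whiskerLeft_snd, Hom.inv_def, Category.assoc]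
  have hb : (q ≫ snd T G).left t0' = (snd T G).left ζ := by
    rw [Over.comp_left, Scheme.Hom.comp_apply, hq]
  have hgq : (q ≫ fst T G ≫ gT).left t0' = g := by
    rw [← Category.assoc, Over.comp_left, Scheme.Hom.comp_apply, hT ((q ≫ fst T G).left t0'), hgT]
  have ha : (snd T G).left (θ.left ζ) = ((q ≫ fst T G ≫ gT) * (q ≫ snd T G)⁻¹).left t0' := by
    rw [← hθsnd]
    simp only [Over.comp_left, Scheme.Hom.comp_apply]
    rw [hq]
  refine ⟨(lift ((q ≫ fst T G ≫ gT) * (q ≫ snd T G)⁻¹) (q ≫ snd T G)).left t0', ?_, ?_, ?_⟩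
  · rw [← Scheme.Hom.comp_apply, ← Over.comp_left, lift_fst, ← ha]
    exact hζ1
  · rw [← Scheme.Hom.comp_apply, ← Over.comp_left, lift_snd, hb]
    exact hζ2
  · rw [← Scheme.Hom.comp_apply, ← Over.comp_left, ← Hom.mul_def, inv_mul_cancel_right]
    exact hgq

end Field

section Artin

open Groth.Agent.Lib.Helper10.HomSp

variable (A : Type u) [CommRing A] [IsArtinianRing A] [IsLocalRing A]
  (G : Over (Spec (CommRingCat.of A))) [GrpObj G]

theorem exists_mul_of_dense_artin (U V : Set G.left) (hU : IsOpen U) (hUd : Dense U)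
    (hV : IsOpen V) (hVd : Dense V) (g : G.left) :
    ∃ z : ↥(G ⊗ G).left, (fst G G).left z ∈ U ∧ (snd G G).left z ∈ V ∧ μ[G].left z = g := by
  let h := fibreHomeo A G
  have hU' : IsOpen (h ⁻¹' U) := hU.preimage h.continuous
  have hV' : IsOpen (h ⁻¹' V) := hV.preimage h.continuous
  have hUd' : Dense (h ⁻¹' U) := hUd.preimage h.isOpenMap
  have hVd' : Dense (h ⁻¹' V) := hVd.preimage h.isOpenMap
  obtain ⟨z', h1, h2, h3⟩ := exists_mul_of_dense (IsLocalRing.ResidueField A)
    (Red.bc (resMap A) G) (h ⁻¹' U) (h ⁻¹' V) hU' hUd' hV' hVd' (h.symm g)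
  obtain ⟨z, e1, e2, e3⟩ := exists_prod_point (resMap A) G z'
  refine ⟨z, ?_, ?_, ?_⟩
  · rw [e1]; exact h1
  · rw [e2]; exact h2
  · rw [e3, h3]
    exact h.apply_symm_apply g

end Artin

end Groth.Agent.Lib.Helper10.DenseMul
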