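import Mathlib
import Groth.Prelude.Def_ChGrp
import Groth.Prelude.Def_Desc
import Groth.Agent.Lib.Helper10.BalProd5

/-!
# The descent datum carried by an equivariant scheme over a pseudo-torsor
-/

set_option autoImplicit false
set_option backward.isDefEq.respectTransparency.types false
set_option maxHeartbeats 4000000
set_option synthInstance.maxHeartbeats 400000
universe u
open CategoryTheory CategoryTheory.Limits AlgebraicGeometry MonoidalCategory
  CartesianMonoidalCategory MonObj GrpObj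

namespace Groth.Agent.Lib.Helper10.DescTorsor

open Groth.Agent.Lib.Helper10.BalProd

variable {S : Scheme.{u}} {G X Y P : Over S} [GrpObj G]
  (a : AlgGrp.Action G X) (f : X ⟶ Y)
  (c : AlgGrp.Action G P) (pr : P ⟶ X)

/-- the square `act, G ◁ pr, pr, act` is cartesian for an equivariant `pr`. -/
theorem isPullback_act (heq : c.act ≫ pr = (G ◁ pr) ≫ a.act) :
    IsPullback c.act (G ◁ pr) pr a.act := by
  have hsplit : ∀ {T A B : Over S} (p : T ⟶ A ⊗ B), p = lift (p ≫ fst A B) (p ≫ snd A B) := by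
    intro T A B p
    rw [← comp_lift, lift_fst_snd, Category.comp_id]
  have heqpt : ∀ {T : Over S} (g : T ⟶ G) (p : T ⟶ P),
      (lift g p ≫ c.act) ≫ pr = lift g (p ≫ pr) ≫ a.act := by
    intro T g p
    rw [Category.assoc, heq, lift_whiskerLeft_assoc]
  apply isPullback_of_points _ _ _ _ heq
  · intro T p w hpw
    obtain ⟨g, hg⟩ : ∃ g : T ⟶ G, g = w ≫ fst G X := ⟨_, rfl⟩
    obtain ⟨x, hx⟩ : ∃ x : T ⟶ X, x = w ≫ snd G X := ⟨_, rfl⟩
    have hw : w = lift g x := by rw [hg, hx, ← hsplit]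
    refine ⟨lift g (lift g⁻¹ p ≫ c.act), ?_, ?_⟩
    · rw [← AlgGrp.Action.lift_mul_act, mul_inv_cancel, AlgGrp.Action.lift_one_act]
    · rw [lift_whiskerLeft, heqpt, hpw, hw, ← AlgGrp.Action.lift_mul_act, inv_mul_cancel,
        AlgGrp.Action.lift_one_act]
  · intro T t t' h1 h2
    obtain ⟨g, hg⟩ : ∃ g : T ⟶ G, g = t ≫ fst G P := ⟨_, rfl⟩
    have hg' : g = t' ≫ fst G P := by
      have := congrArg (fun s => s ≫ fst G X) h2
      simp only [Category.assoc, whiskerLeft_fst] at this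
      rw [hg, this]
    have ht : t = lift g (t ≫ snd G P) := by rw [hg, ← hsplit]
    have ht' : t' = lift g (t' ≫ snd G P) := by rw [hg', ← hsplit]
    have e : t ≫ snd G P = t' ≫ snd G P := by
      have e1 : lift g (t ≫ snd G P) ≫ c.act = lift g (t' ≫ snd G P) ≫ c.act := by
        rw [← ht, ← ht', h1]
      have e2 : lift g⁻¹ (lift g (t ≫ snd G P) ≫ c.act) ≫ c.act =
          lift g⁻¹ (lift g (t' ≫ snd G P) ≫ c.act) ≫ c.act := by rw [e1]
      rwa [← AlgGrp.Action.lift_mul_act, ← AlgGrp.Action.lift_mul_act, inv_mul_cancel,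
        AlgGrp.Action.lift_one_act, AlgGrp.Action.lift_one_act] at e2
    rw [ht, ht', e]

variable (hsq : IsPullback a.act.left (snd G X).left f.left f.left)
  (heq : c.act ≫ pr = (G ◁ pr) ≫ a.act)

include heq in
theorem sq3 : IsPullback c.act.left (G ◁ pr).left pr.left a.act.left :=
  (isPullback_act a c pr heq).map (Over.forget S)

omit [GrpObj G] in
theorem sq2 : IsPullback (snd G P).left (G ◁ pr).left pr.left (snd G X).left :=
  (isPullback_whiskerLeft G pr).map (Over.forget S)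

/-- the object of the descent datum: `P` as a scheme over `X`. -/
abbrev V : Over X.left := Over.mk pr.left

section

variable {T : Scheme.{u}} (x₀ x₁ : T ⟶ X.left) (h : x₀ ≫ f.left = x₁ ≫ f.left)

/-- transport of a point of `P` over `x₀` to a point over `x₁`. -/
noncomputable def fwd (v : Desc.Lifts (V pr) x₀) : Desc.Lifts (V pr) x₁ :=
  ⟨(sq3 a c pr heq).lift v.1 (hsq.lift x₀ x₁ h) (by
      have : v.1 ≫ pr.left = x₀ := v.2
      rw [this, hsq.lift_fst]) ≫ (snd G P).left, by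
    change (_ ≫ (snd G P).left) ≫ pr.left = x₁
    rw [Category.assoc, (sq2 pr).w, ← Category.assoc, (sq3 a c pr heq).lift_snd, hsq.lift_snd]⟩

/-- transport back. -/
noncomputable def bwd (v : Desc.Lifts (V pr) x₁) : Desc.Lifts (V pr) x₀ :=
  ⟨(sq2 pr).lift v.1 (hsq.lift x₀ x₁ h) (by
      have : v.1 ≫ pr.left = x₁ := v.2
      rw [this, hsq.lift_snd]) ≫ c.act.left, by
    change (_ ≫ c.act.left) ≫ pr.left = x₀
    rw [Category.assoc, (sq3 a c pr heq).w, ← Category.assoc, (sq2 pr).lift_snd, hsq.lift_fst]⟩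

/-- characterisation of `fwd` through the graph of the action. -/
theorem fwd_eq_of (v : Desc.Lifts (V pr) x₀) (u : T ⟶ P.left) (hu : u ≫ pr.left = x₁)
    (W : T ⟶ (G ⊗ P).left) (hW1 : W ≫ c.act.left = v.1) (hW2 : W ≫ (snd G P).left = u) :
    (fwd a f c pr hsq heq x₀ x₁ h v).1 = u := by
  have hv : v.1 ≫ pr.left = x₀ := v.2
  have hW3 : W ≫ (G ◁ pr).left = hsq.lift x₀ x₁ h := by
    apply hsq.hom_ext
    · rw [hsq.lift_fst, Category.assoc, ← (sq3 a c pr heq).w, ← Category.assoc, hW1, hv]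
    · rw [hsq.lift_snd, Category.assoc, ← (sq2 pr).w, ← Category.assoc, hW2, hu]
  have : W = (sq3 a c pr heq).lift v.1 (hsq.lift x₀ x₁ h) (by rw [hv, hsq.lift_fst]) := by
    apply (sq3 a c pr heq).hom_ext
    · rw [(sq3 a c pr heq).lift_fst, hW1]
    · rw [(sq3 a c pr heq).lift_snd, hW3]
  change _ ≫ (snd G P).left = u
  rw [← this, hW2]

theorem exists_of_fwd (v : Desc.Lifts (V pr) x₀) :
    ∃ W : T ⟶ (G ⊗ P).left, W ≫ c.act.left = v.1 ∧
      W ≫ (snd G P).left = (fwd a f c pr hsq heq x₀ x₁ h v).1 :=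
  ⟨_, (sq3 a c pr heq).lift_fst _ _ _, rfl⟩

theorem bwd_fwd (v : Desc.Lifts (V pr) x₀) :
    bwd a f c pr hsq heq x₀ x₁ h (fwd a f c pr hsq heq x₀ x₁ h v) = v := by
  apply Subtype.ext
  have hv : v.1 ≫ pr.left = x₀ := v.2
  change (sq2 pr).lift _ _ _ ≫ c.act.left = v.1
  have : (sq2 pr).lift (fwd a f c pr hsq heq x₀ x₁ h v).1 (hsq.lift x₀ x₁ h) (by
      have : (fwd a f c pr hsq heq x₀ x₁ h v).1 ≫ pr.left = x₁ :=
        (fwd a f c pr hsq heq x₀ x₁ h v).2
      rw [this, hsq.lift_snd]) =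
      (sq3 a c pr heq).lift v.1 (hsq.lift x₀ x₁ h) (by rw [hv, hsq.lift_fst]) := by
    apply (sq2 pr).hom_ext
    · rw [(sq2 pr).lift_fst]
      rfl
    · rw [(sq2 pr).lift_snd, (sq3 a c pr heq).lift_snd]
  rw [this, (sq3 a c pr heq).lift_fst]

theorem fwd_bwd (v : Desc.Lifts (V pr) x₁) :
    fwd a f c pr hsq heq x₀ x₁ h (bwd a f c pr hsq heq x₀ x₁ h v) = v := by
  apply Subtype.ext
  have hv : v.1 ≫ pr.left = x₁ := v.2
  apply fwd_eq_of a f c pr hsq heq x₀ x₁ h _ v.1 hv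
    ((sq2 pr).lift v.1 (hsq.lift x₀ x₁ h) (by rw [hv, hsq.lift_snd]))
  · rfl
  · rw [(sq2 pr).lift_fst]

end

/-- the unit section `p ↦ (1, p)`. -/
noncomputable def eP : P.left ⟶ (G ⊗ P).left := (lift (toUnit P ≫ η[G]) (𝟙 P)).left

theorem eP_act : eP (G := G) (P := P) ≫ c.act.left = 𝟙 P.left := by
  have : lift (toUnit P ≫ η[G]) (𝟙 P) ≫ c.act = 𝟙 P := by
    rw [← Hom.one_def, AlgGrp.Action.lift_one_act]
  change (lift (toUnit P ≫ η[G]) (𝟙 P)).left ≫ c.act.left = 𝟙 P.left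
  rw [← Over.comp_left, this]
  rfl

theorem eP_snd : eP (G := G) (P := P) ≫ (snd G P).left = 𝟙 P.left := by
  have : lift (toUnit P ≫ η[G]) (𝟙 P) ≫ snd G P = 𝟙 P := lift_snd _ _
  change (lift (toUnit P ≫ η[G]) (𝟙 P)).left ≫ (snd G P).left = 𝟙 P.left
  rw [← Over.comp_left, this]
  rfl

/-- transitivity of the graph of the action, on scheme-valued points. -/
theorem graph_trans {T : Scheme.{u}} (W₁ W₂ : T ⟶ (G ⊗ P).left)
    (h12 : W₁ ≫ (snd G P).left = W₂ ≫ c.act.left) :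
    ∃ W : T ⟶ (G ⊗ P).left, W ≫ c.act.left = W₁ ≫ c.act.left ∧
      W ≫ (snd G P).left = W₂ ≫ (snd G P).left := by
  have hhom1 : c.act.left ≫ P.hom = (G ⊗ P).hom := Over.w c.act
  have hhom2 : (snd G P).left ≫ P.hom = (G ⊗ P).hom := Over.w (snd G P)
  let T' : Over S := Over.mk (W₁ ≫ (G ⊗ P).hom)
  let w₁ : T' ⟶ G ⊗ P := Over.homMk W₁ rfl
  let w₂ : T' ⟶ G ⊗ P := Over.homMk W₂ (by
    change W₂ ≫ (G ⊗ P).hom = W₁ ≫ (G ⊗ P).hom
    rw [show W₂ ≫ (G ⊗ P).hom = W₂ ≫ c.act.left ≫ P.hom from by rw [hhom1], ← Category.assoc,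
      ← h12, Category.assoc, hhom2])
  have h12' : w₁ ≫ snd G P = w₂ ≫ c.act := Over.OverMorphism.ext h12
  have hsplit : ∀ (p : T' ⟶ G ⊗ P), p = lift (p ≫ fst G P) (p ≫ snd G P) := by
    intro p
    rw [← comp_lift, lift_fst_snd, Category.comp_id]
  have key : lift ((w₁ ≫ fst G P) * (w₂ ≫ fst G P)) (w₂ ≫ snd G P) ≫ c.act = w₁ ≫ c.act := by
    rw [AlgGrp.Action.lift_mul_act, ← hsplit w₂, ← h12', ← hsplit w₁]
  refine ⟨(lift ((w₁ ≫ fst G P) * (w₂ ≫ fst G P)) (w₂ ≫ snd G P)).left, ?_, ?_⟩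
  · have := congrArg (fun s => s.left) key
    simpa [w₁] using this
  · have : lift ((w₁ ≫ fst G P) * (w₂ ≫ fst G P)) (w₂ ≫ snd G P) ≫ snd G P = w₂ ≫ snd G P :=
      lift_snd _ _
    change (lift ((w₁ ≫ fst G P) * (w₂ ≫ fst G P)) (w₂ ≫ snd G P)).left ≫ (snd G P).left =
      W₂ ≫ (snd G P).left
    rw [← Over.comp_left, this]
    rfl

/-- **The descent datum on an equivariant scheme over a pseudo-torsor.** -/
noncomputable def descentDatum : Desc.SchDD f.left where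
  obj := V pr
  φ T x₀ x₁ h :=
    { toFun := fwd a f c pr hsq heq x₀ x₁ h
      invFun := bwd a f c pr hsq heq x₀ x₁ h
      left_inv := bwd_fwd a f c pr hsq heq x₀ x₁ h
      right_inv := fwd_bwd a f c pr hsq heq x₀ x₁ h }
  φ_natural T T' g x₀ x₁ h h' v v' hv' := by
    change (fwd a f c pr hsq heq (g ≫ x₀) (g ≫ x₁) h' v').1 =
      g ≫ (fwd a f c pr hsq heq x₀ x₁ h v).1
    obtain ⟨W, hW1, hW2⟩ := exists_of_fwd a f c pr hsq heq x₀ x₁ h v
    apply fwd_eq_of a f c pr hsq heq (g ≫ x₀) (g ≫ x₁) h' v' _ _ (g ≫ W)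
    · rw [Category.assoc, hW1, hv']
    · rw [Category.assoc, hW2]
    · have : (fwd a f c pr hsq heq x₀ x₁ h v).1 ≫ pr.left = x₁ :=
        (fwd a f c pr hsq heq x₀ x₁ h v).2
      rw [Category.assoc, this]
  φ_self T x v := by
    apply Subtype.ext
    change (fwd a f c pr hsq heq x x rfl v).1 = v.1
    apply fwd_eq_of a f c pr hsq heq x x rfl v v.1 v.2 (v.1 ≫ eP (G := G) (P := P))
    · rw [Category.assoc, eP_act]
      exact Category.comp_id _
    · rw [Category.assoc, eP_snd]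
      exact Category.comp_id _
  φ_comp T x₀ x₁ x₂ h₀₁ h₁₂ v := by
    apply Subtype.ext
    change (fwd a f c pr hsq heq x₁ x₂ h₁₂ (fwd a f c pr hsq heq x₀ x₁ h₀₁ v)).1 =
      (fwd a f c pr hsq heq x₀ x₂ (h₀₁.trans h₁₂) v).1
    obtain ⟨W₁, hW11, hW12⟩ := exists_of_fwd a f c pr hsq heq x₀ x₁ h₀₁ v
    obtain ⟨W₂, hW21, hW22⟩ := exists_of_fwd a f c pr hsq heq x₁ x₂ h₁₂
      (fwd a f c pr hsq heq x₀ x₁ h₀₁ v)
    obtain ⟨W, hW1, hW2⟩ := graph_trans c W₁ W₂ (by rw [hW12, hW21])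
    symm
    apply fwd_eq_of a f c pr hsq heq x₀ x₂ (h₀₁.trans h₁₂) v _ _ W
    · rw [hW1, hW11]
    · rw [hW2, hW22]
    · exact (fwd a f c pr hsq heq x₁ x₂ h₁₂ (fwd a f c pr hsq heq x₀ x₁ h₀₁ v)).2

@[simp] theorem descentDatum_obj : (descentDatum a f c pr hsq heq).obj = V pr := rfl

/-- the descent datum relates `act` and `snd`. -/
theorem descentDatum_φ_act :
    ((descentDatum a f c pr hsq heq).φ (c.act.left ≫ pr.left) ((snd G P).left ≫ pr.left)
      (by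
        rw [(sq3 a c pr heq).w, (sq2 pr).w, Category.assoc, Category.assoc, hsq.w])
      ⟨c.act.left, rfl⟩).1 = (snd G P).left := by
  change (fwd a f c pr hsq heq _ _ _ _).1 = _
  apply fwd_eq_of a f c pr hsq heq _ _ _ _ _ rfl (𝟙 _)
  · rw [Category.id_comp]
  · rw [Category.id_comp]

end Groth.Agent.Lib.Helper10.DescTorsor
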