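import Mathlib
import Groth.Agent.S1133
import Groth.Agent.Lib.Helper10.DescTorsor1

/-!
# Quotient of an equivariant affine scheme over an fpqc pseudo-torsor (associated bundles)
-/

set_option autoImplicit false
set_option backward.isDefEq.respectTransparency.types false
set_option maxHeartbeats 4000000
set_option synthInstance.maxHeartbeats 400000
universe u
open CategoryTheory CategoryTheory.Limits AlgebraicGeometry MonoidalCategory
  CartesianMonoidalCategory MonObj GrpObj

namespace Groth.Agent.Lib.Helper10.DescTorsor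

variable {S : Scheme.{u}} {G X Y P : Over S} [GrpObj G]
  (a : AlgGrp.Action G X) (f : X ⟶ Y)
  (c : AlgGrp.Action G P) (pr : P ⟶ X)
  (hsq : IsPullback a.act.left (snd G X).left f.left f.left)
  (heq : c.act ≫ pr = (G ◁ pr) ≫ a.act)

include hsq heq in
/-- **Existence of the quotient `P/G` over `Y = X/G`**, scheme level. -/
theorem exists_quotient [Flat f.left] [Surjective f.left] [QuasiCompact f.left]
    [IsAffineHom pr.left] :
    ∃ (U : Over Y.left) (φ' : P.left ⟶ U.left),
      IsPullback pr.left φ' f.left U.hom ∧ c.act.left ≫ φ' = (snd G P).left ≫ φ' := by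
  haveI : IsAffineHom (descentDatum a f c pr hsq heq).obj.hom :=
    inferInstanceAs (IsAffineHom pr.left)
  obtain ⟨U, ⟨e⟩⟩ := Groth.Agent.S1133.result f.left (descentDatum a f c pr hsq heq)
  obtain ⟨θ, hθ⟩ : ∃ θ : pullback f.left U.hom ⟶ P.left, θ = e.hom.hom.left := ⟨_, rfl⟩
  obtain ⟨θi, hθi⟩ : ∃ θi : P.left ⟶ pullback f.left U.hom, θi = e.inv.hom.left := ⟨_, rfl⟩
  have h1 : θ ≫ θi = 𝟙 _ := by
    have := congrArg (fun s => s.hom.left) e.hom_inv_id
    simp only [Desc.SchDD.comp_hom, Desc.SchDD.id_hom, Over.comp_left, Over.id_left] at this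
    rw [hθ, hθi]
    exact this
  have h2 : θi ≫ θ = 𝟙 _ := by
    have := congrArg (fun s => s.hom.left) e.inv_hom_id
    simp only [Desc.SchDD.comp_hom, Desc.SchDD.id_hom, Over.comp_left, Over.id_left] at this
    rw [hθ, hθi]
    exact this
  have h3 : θ ≫ pr.left = pullback.fst f.left U.hom := by
    rw [hθ]
    exact Over.w e.hom.hom
  have h4 : θi ≫ pullback.fst f.left U.hom = pr.left := by
    rw [hθi]
    exact Over.w e.inv.hom
  refine ⟨U, θi ≫ pullback.snd f.left U.hom, ?_, ?_⟩
  · refine IsPullback.of_iso (IsPullback.of_hasPullback f.left U.hom) ⟨θ, θi, h1, h2⟩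
      (Iso.refl _) (Iso.refl _) (Iso.refl _) ?_ ?_ ?_ ?_
    · simp only [Iso.refl_hom, Category.comp_id]
      exact h3.symm
    · simp only [Iso.refl_hom, Category.comp_id]
      rw [← Category.assoc, h1, Category.id_comp]
    · simp
    · simp
  · -- invariance
    have hx : (c.act.left ≫ pr.left) ≫ f.left = ((snd G P).left ≫ pr.left) ≫ f.left := by
      rw [(sq3 a c pr heq).w, (sq2 pr).w, Category.assoc, Category.assoc, hsq.w]
    have hcomm := e.hom.comm (c.act.left ≫ pr.left) ((snd G P).left ≫ pr.left) hx
      ⟨c.act.left ≫ θi, by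
        change (c.act.left ≫ θi) ≫ pullback.fst f.left U.hom = _
        rw [Category.assoc, h4]⟩
      ⟨c.act.left, rfl⟩ (by
        have h2' : θi ≫ e.hom.hom.left = 𝟙 P.left := by rw [← hθ]; exact h2
        exact (Category.comp_id _).symm.trans
          ((congrArg (fun t => c.act.left ≫ t) h2').symm.trans (Category.assoc _ _ _).symm))
    rw [descentDatum_φ_act a f c pr hsq heq] at hcomm
    have hcomm' : (snd G P).left = pullback.lift ((snd G P).left ≫ pr.left)
        ((c.act.left ≫ θi) ≫ pullback.snd f.left U.hom) (by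
          have h4' : θi ≫ pullback.fst f.left U.hom ≫ f.left = pr.left ≫ f.left := by
            rw [← Category.assoc, h4]
          simp only [Category.assoc]
          rw [← pullback.condition, h4']
          simpa only [Category.assoc] using hx.symm) ≫ θ := by
      rw [hθ]
      exact hcomm
    conv_rhs => rw [hcomm']
    simp only [Category.assoc]
    rw [← Category.assoc θ, h1, Category.id_comp, pullback.lift_snd]

include hsq heq in
/-- **Existence of the quotient `P/G` over `Y = X/G`**, over the base. -/
theorem exists_quotient_over [Flat f.left] [Surjective f.left] [QuasiCompact f.left]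
    [IsAffineHom pr.left] :
    ∃ (W : Over S) (φ : P ⟶ W) (ψ : W ⟶ Y),
      c.act ≫ φ = snd G P ≫ φ ∧ IsPullback pr.left φ.left f.left ψ.left := by
  obtain ⟨U, φ', hpb, hinv⟩ := exists_quotient a f c pr hsq heq
  have hw : φ' ≫ U.hom ≫ Y.hom = P.hom := by
    rw [← Category.assoc, ← hpb.w, Category.assoc, Over.w, Over.w]
  refine ⟨Over.mk (U.hom ≫ Y.hom), Over.homMk φ' hw, Over.homMk U.hom rfl, ?_, hpb⟩
  apply Over.OverMorphism.ext
  exact hinv

end Groth.Agent.Lib.Helper10.DescTorsor
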