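import Mathlib
import Groth.Agent.Lib.Helper7.GITBasic

/-!
# Products of reduced schemes over an algebraically closed field are reduced
-/

set_option autoImplicit false
set_option backward.isDefEq.respectTransparency.types false
set_option maxHeartbeats 4000000
set_option synthInstance.maxHeartbeats 400000
universe u
open CategoryTheory CategoryTheory.Limits AlgebraicGeometry TensorProduct

namespace Groth.Agent.Lib.Helper10.RedProd

section Ring

variable (k : Type u) (A B : Type u) [Field k] [IsAlgClosed k] [CommRing A] [Algebra k A]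
  [CommRing B] [Algebra k B]

/-- evaluation of the second factor at a rational point. -/
noncomputable def evalRight (χ : B →ₐ[k] k) : A ⊗[k] B →ₐ[k] A :=
  (Algebra.TensorProduct.rid k k A).toAlgHom.comp (Algebra.TensorProduct.map (AlgHom.id k A) χ)

theorem evalRight_tmul (χ : B →ₐ[k] k) (a : A) (b : B) :
    evalRight k A B χ (a ⊗ₜ b) = χ b • a := by
  simp [evalRight]

variable {k A B} in
theorem repr_evalRight {ι : Type*} [DecidableEq ι] (bas : Module.Basis ι k A) (χ : B →ₐ[k] k) (t : A ⊗[k] B)
    (i : ι) :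
    bas.repr (evalRight k A B χ t) i = χ (TensorProduct.equivFinsuppOfBasisLeft bas t i) := by
  induction t using TensorProduct.induction_on with
  | zero => simp
  | tmul a b =>
    rw [evalRight_tmul, TensorProduct.equivFinsuppOfBasisLeft_apply_tmul_apply, map_smul,
      Finsupp.smul_apply, map_smul, smul_eq_mul, smul_eq_mul, mul_comm]
  | add x y hx hy =>
    rw [map_add, map_add, Finsupp.add_apply, hx, hy, map_add, Finsupp.add_apply, map_add]

/-- **The tensor product of reduced algebras over an algebraically closed field is reduced**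
(one factor of finite type). -/
theorem isReduced_tensorProduct [IsReduced A] [Algebra.FiniteType k B] [IsReduced B] :
    IsReduced (A ⊗[k] B) := by
  classical
  refine ⟨fun t ht => ?_⟩
  let bas := Module.Free.chooseBasis k A
  have h0 : TensorProduct.equivFinsuppOfBasisLeft bas t = 0 := by
    ext i
    rw [Finsupp.zero_apply]
    have hnil : IsNilpotent (TensorProduct.equivFinsuppOfBasisLeft bas t i) := by
      apply Groth.Agent.Lib.Helper7.Comod.isNilpotent_of_forall_algHom_eq_zero (k := k)
      intro χ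
      rw [← repr_evalRight bas χ t i]
      have : evalRight k A B χ t = 0 := (ht.map (evalRight k A B χ)).eq_zero
      rw [this, map_zero, Finsupp.zero_apply]
    exact hnil.eq_zero
  exact (LinearEquiv.map_eq_zero_iff _).mp h0

end Ring

section Scheme

variable {k : Type u} [Field k] [IsAlgClosed k]

omit [IsAlgClosed k] in
/-- a morphism from an affine scheme to `Spec k` in `Spec.map` form. -/
theorem eq_isoSpec_comp {W : Scheme.{u}} [IsAffine W] (gW : W ⟶ Spec (CommRingCat.of k)) :
    gW = W.isoSpec.hom ≫ Spec.map ((Scheme.ΓSpecIso (CommRingCat.of k)).inv ≫ gW.appTop) := by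
  have h1 := Scheme.toSpecΓ_naturality gW
  have h2 : (Spec (CommRingCat.of k)).toSpecΓ =
      Spec.map (Scheme.ΓSpecIso (CommRingCat.of k)).hom := (SpecMap_ΓSpecIso_hom _).symm
  rw [Scheme.isoSpec_hom, Spec.map_comp, ← Category.assoc, ← h1, h2, Category.assoc,
    ← Spec.map_comp, Iso.inv_hom_id, Spec.map_id, Category.comp_id]

theorem isReduced_pullback_affine {X Z : Scheme.{u}} (x : X ⟶ Spec (CommRingCat.of k))
    (z : Z ⟶ Spec (CommRingCat.of k)) [IsAffine X] [IsAffine Z] [IsReduced X] [IsReduced Z]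
    [LocallyOfFiniteType z] : IsReduced (pullback x z) := by
  obtain ⟨φ, hφ⟩ : ∃ φ : CommRingCat.of k ⟶ Γ(X, ⊤), φ =
      (Scheme.ΓSpecIso (CommRingCat.of k)).inv ≫ x.appTop := ⟨_, rfl⟩
  obtain ⟨ψ, hψ⟩ : ∃ ψ : CommRingCat.of k ⟶ Γ(Z, ⊤), ψ =
      (Scheme.ΓSpecIso (CommRingCat.of k)).inv ≫ z.appTop := ⟨_, rfl⟩
  have hx : x = X.isoSpec.hom ≫ Spec.map φ := by rw [hφ]; exact eq_isoSpec_comp x
  have hz : z = Z.isoSpec.hom ≫ Spec.map ψ := by rw [hψ]; exact eq_isoSpec_comp z
  have hft : ψ.hom.FiniteType := by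
    have h1 : LocallyOfFiniteType (Z.isoSpec.hom ≫ Spec.map ψ) := hz ▸ inferInstance
    have h2 : LocallyOfFiniteType (Spec.map ψ) :=
      (MorphismProperty.cancel_left_of_respectsIso @LocallyOfFiniteType Z.isoSpec.hom _).mp h1
    exact (HasRingHomProperty.Spec_iff (P := @LocallyOfFiniteType)).mp h2
  algebraize [φ.hom, ψ.hom]
  haveI : Algebra.FiniteType k Γ(Z, ⊤) := hft
  haveI : _root_.IsReduced (Γ(X, ⊤) ⊗[k] Γ(Z, ⊤)) := isReduced_tensorProduct k _ _
  let e1 : pullback x z ⟶ pullback (Spec.map φ) (Spec.map ψ) :=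
    pullback.map x z (Spec.map φ) (Spec.map ψ) X.isoSpec.hom Z.isoSpec.hom (𝟙 _)
      (by rw [Category.comp_id, ← hx]) (by rw [Category.comp_id, ← hz])
  haveI : IsIso e1 := by
    dsimp only [e1]
    infer_instance
  have hφ' : φ = CommRingCat.ofHom (algebraMap k Γ(X, ⊤)) := rfl
  have hψ' : ψ = CommRingCat.ofHom (algebraMap k Γ(Z, ⊤)) := rfl
  let e2 := pullbackSpecIso k Γ(X, ⊤) Γ(Z, ⊤)
  haveI : IsReduced (pullback (Spec.map φ) (Spec.map ψ)) := by
    rw [hφ', hψ']
    exact isReduced_of_isOpenImmersion e2.hom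
  exact isReduced_of_isOpenImmersion e1

theorem isReduced_pullback {X Z : Scheme.{u}} (x : X ⟶ Spec (CommRingCat.of k))
    (z : Z ⟶ Spec (CommRingCat.of k)) [IsAffine Z] [IsReduced X] [IsReduced Z]
    [LocallyOfFiniteType z] : IsReduced (pullback x z) := by
  let 𝒰 := Scheme.Pullback.openCoverOfLeft X.affineCover x z
  haveI : ∀ i, IsReduced (𝒰.X i) := by
    intro i
    change IsReduced (pullback (X.affineCover.f i ≫ x) z)
    haveI : IsAffine (X.affineCover.X i) := by
      dsimp only [Scheme.affineCover]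
      infer_instance
    exact isReduced_pullback_affine _ _
  exact IsReduced.of_openCover _ 𝒰

end Scheme

end Groth.Agent.Lib.Helper10.RedProd
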