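import Mathlib
import Groth.Agent.Lib.Helper10.DescTorsor2
import Groth.Agent.Lib.Helper10.RedProd1
import Groth.Agent.Lib.Helper14.FppfLocalInst2
import Groth.Agent.Lib.Helper14.ReducedEtale

/-!
# Associated bundles `X ×^G Z` with affine fibre `Z` over a field
-/

set_option autoImplicit false
set_option backward.isDefEq.respectTransparency.types false
set_option maxHeartbeats 4000000
set_option synthInstance.maxHeartbeats 400000
universe u
open CategoryTheory CategoryTheory.Limits AlgebraicGeometry MonoidalCategory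
  CartesianMonoidalCategory MonObj GrpObj

namespace Groth.Agent.Lib.Helper10.DescTorsor

/-- properties of the base change descend to `ψ` in a cartesian square over an fpqc map. -/
theorem descend_of_isPullback (P : MorphismProperty Scheme.{u})
    [P.DescendsAlong (@Surjective ⊓ @Flat ⊓ @QuasiCompact : MorphismProperty Scheme.{u})]
    {A B C D : Scheme.{u}} {pr : A ⟶ B} {φ : A ⟶ C} {f : B ⟶ D} {ψ : C ⟶ D}
    (hpb : IsPullback pr φ f ψ) [Surjective f] [Flat f] [QuasiCompact f] (h : P pr) : P ψ :=
  MorphismProperty.of_isPullback_of_descendsAlong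
    (Q := (@Surjective ⊓ @Flat ⊓ @QuasiCompact : MorphismProperty Scheme.{u})) hpb
    ⟨⟨inferInstance, inferInstance⟩, inferInstance⟩ h

theorem assocBundle_of_affine (k : Type u) [Field k] [IsAlgClosed k]
    (G X Y Z : Over (Spec (CommRingCat.of k))) [GrpObj G]
    [IsReduced X.left] [QuasiCompact X.hom]
    [IsSeparated Y.hom] [LocallyOfFiniteType Y.hom] [QuasiCompact Y.hom]
    [IsReduced Z.left] [IsAffine Z.left] [LocallyOfFiniteType Z.hom]
    (a : AlgGrp.Action G X) (f : X ⟶ Y) [Flat f.left] [Surjective f.left]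
    (hsq : IsPullback a.act.left (snd G X).left f.left f.left) (b : AlgGrp.Action G Z) :
    ∃ (W : Over (Spec (CommRingCat.of k))) (φ : X ⊗ Z ⟶ W) (ψ : W ⟶ Y),
      IsReduced W.left ∧ IsSeparated W.hom ∧ LocallyOfFiniteType W.hom ∧ QuasiCompact W.hom ∧
      lift ((G ◁ fst X Z) ≫ a.act) ((G ◁ snd X Z) ≫ b.act) ≫ φ = snd G (X ⊗ Z) ≫ φ ∧
      IsPullback (fst X Z).left φ.left f.left ψ.left := by
  haveI : QuasiCompact f.left := by
    haveI : QuasiCompact (f.left ≫ Y.hom) := by rw [Over.w f]; infer_instance
    exact QuasiCompact.of_comp f.left Y.hom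
  haveI hZaff : IsAffineHom Z.hom := inferInstance
  haveI hpr : IsAffineHom (fst X Z).left := by
    change IsAffineHom (pullback.fst X.hom Z.hom)
    exact MorphismProperty.pullback_fst (P := @IsAffineHom) X.hom Z.hom hZaff
  have heq : (a.prod b).act ≫ fst X Z = (G ◁ fst X Z) ≫ a.act := by
    rw [AlgGrp.Action.prod_act, lift_fst]
  obtain ⟨W, φ, ψ, hinv, hpb⟩ := exists_quotient_over a f (a.prod b) (fst X Z) hsq heq
  haveI : Flat φ.left := MorphismProperty.of_isPullback (P := @Flat) hpb inferInstance
  haveI : Surjective φ.left := MorphismProperty.of_isPullback (P := @Surjective) hpb inferInstance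
  haveI : IsReduced (X ⊗ Z).left := by
    change IsReduced (pullback X.hom Z.hom)
    exact Groth.Agent.Lib.Helper10.RedProd.isReduced_pullback X.hom Z.hom
  have hsep : IsSeparated ψ.left := descend_of_isPullback @IsSeparated hpb inferInstance
  have hqc : QuasiCompact ψ.left := descend_of_isPullback @QuasiCompact hpb inferInstance
  have hlft : LocallyOfFiniteType ψ.left := by
    refine descend_of_isPullback @LocallyOfFiniteType hpb ?_
    change LocallyOfFiniteType (pullback.fst X.hom Z.hom)
    infer_instance
  have hW : ψ.left ≫ Y.hom = W.hom := Over.w ψ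
  refine ⟨W, φ, ψ, Groth.Agent.Lib.Helper14.isReduced_of_flat_surjective φ.left, ?_, ?_, ?_,
    hinv, hpb⟩
  · rw [← hW]; infer_instance
  · rw [← hW]; infer_instance
  · rw [← hW]; infer_instance

end Groth.Agent.Lib.Helper10.DescTorsor
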