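import Mathlib
import Groth.Prelude.Def_W4bk4git07Quot
import Groth.Prelude.Def_NonAbH2
import Groth.Agent.Lib.Helper24.FpqcLocal

/-!
# fpqc-locally trivial torsors: local properties of the structure morphism
-/

set_option autoImplicit false
set_option backward.isDefEq.respectTransparency.types false
set_option maxHeartbeats 4000000
set_option synthInstance.maxHeartbeats 400000

universe u

open CategoryTheory CategoryTheory.Limits AlgebraicGeometry MonoidalCategory
  CartesianMonoidalCategory MonObj GrpObj TopologicalSpace

namespace Groth.Agent.Lib.Helper10.TorsorLoc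

variable {S : Scheme.{u}} {G X Y : Over S} [GrpObj G] (a : AlgGrp.Action G X) (φ : X ⟶ Y)

/-- For a pseudo-torsor square, the base change of `φ` along a morphism `g` which lifts to `X` is
a base change of the second projection `G × X → X`. -/
theorem prop_pullback_snd_of_section (P : MorphismProperty Scheme.{u}) [P.RespectsIso]
    [P.IsStableUnderBaseChange]
    (hcart : IsPullback a.act (snd G X) φ φ) (hP : P G.hom)
    {S' : Scheme.{u}} (g : S' ⟶ Y.left) (s : S' ⟶ X.left) (hs : s ≫ φ.left = g) :
    P (pullback.snd φ.left g) := by
  have sqR : IsPullback a.act.left (snd G X).left φ.left φ.left := hcart.map (Over.forget S)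
  have sqL := IsPullback.of_hasPullback (snd G X).left s
  have sq := sqL.paste_horiz sqR
  rw [hs] at sq
  have h1 : P (snd G X).left := by
    rw [Over.snd_left]
    exact P.pullback_snd _ _ hP
  have h2 : P (pullback.snd (snd G X).left s) := P.pullback_snd _ _ h1
  have h3 : sq.isoPullback.hom ≫ pullback.snd φ.left g = pullback.snd (snd G X).left s :=
    sq.isoPullback_hom_snd
  rw [← h3] at h2
  exact (P.cancel_left_of_respectsIso _ _).mp h2

/-- A property of morphisms which is Zariski-local on the target, stable under base change and
descends along fpqc morphisms holds for the structure morphism of a `G`-torsor as soon as it holds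
for `G`. -/
theorem prop_of_locallyTrivial (P : MorphismProperty Scheme.{u}) [IsZariskiLocalAtTarget P]
    [P.IsStableUnderBaseChange]
    [P.DescendsAlong (@Surjective ⊓ @Flat ⊓ @QuasiCompact : MorphismProperty Scheme.{u})]
    (hcart : IsPullback a.act (snd G X) φ φ)
    (hloc : NonAbH1.IsLocallyTrivialFor Scheme.fpqcPrecoverage (Over.mk φ.left : Over Y.left))
    (hP : P G.hom) : P φ.left := by
  obtain ⟨R, hR, hsec⟩ := hloc
  refine Groth.Agent.Lib.Helper24.FpqcLocal.of_fpqc_presieve φ.left R hR ?_
  intro S' g hg
  obtain ⟨s, hs⟩ := hsec g hg
  exact prop_pullback_snd_of_section a φ P hcart hP g s hs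

/-- The cartesian action square gives that `PsiY` is an isomorphism. -/
theorem isIso_PsiY (hcart : IsPullback a.act (snd G X) φ φ) :
    IsIso (GIT.PsiY a φ hcart.w) := by
  have sqR : IsPullback a.act.left (snd G X).left φ.left φ.left := hcart.map (Over.forget S)
  have : GIT.PsiY a φ hcart.w = sqR.isoPullback.hom := by
    apply pullback.hom_ext
    · rw [sqR.isoPullback_hom_fst]
      exact pullback.lift_fst _ _ _
    · rw [sqR.isoPullback_hom_snd]
      exact pullback.lift_snd _ _ _
  rw [this]
  infer_instance

end Groth.Agent.Lib.Helper10.TorsorLoc
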