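import Mathlib.LinearAlgebra.TensorProduct.DirectLimit
import Mathlib.RingTheory.Flat.Tensor

/-!
# A directed colimit of flat modules is flat
-/

set_option autoImplicit false

namespace Groth.Agent.Lib.Helper10

open TensorProduct

lemma rid_rTensor {R : Type*} [CommRing R] {M N : Type*} [AddCommGroup M] [Module R M]
    [AddCommGroup N] [Module R N] (g : M →ₗ[R] N) (w : M ⊗[R] R) :
    TensorProduct.rid R N (LinearMap.rTensor R g w) = g (TensorProduct.rid R M w) := by
  induction w with
  | zero => simp
  | tmul m r => simp
  | add x y hx hy => simp [hx, hy]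

theorem flat_directLimit {R : Type*} [CommRing R] {ι : Type*} [Preorder ι] [DecidableEq ι]
    [Nonempty ι] [IsDirectedOrder ι] (G : ι → Type*) [∀ i, AddCommGroup (G i)]
    [∀ i, Module R (G i)] (f : ∀ i j, i ≤ j → G i →ₗ[R] G j) [DirectedSystem G (f · · ·)]
    [∀ i, Module.Flat R (G i)] : Module.Flat R (Module.DirectLimit G f) := by
  rw [Module.Flat.iff_lTensor_injective']
  intro I
  rw [injective_iff_map_eq_zero]
  intro x hx
  obtain ⟨j, z, hz⟩ := Module.DirectLimit.exists_of (TensorProduct.directLimitLeft f I x)
  have hx' : x = LinearMap.rTensor I (Module.DirectLimit.of R ι G f j) z := by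
    apply (TensorProduct.directLimitLeft f I).injective
    rw [TensorProduct.directLimitLeft_rTensor_of, hz]
  subst hx'
  set w := LinearMap.lTensor (G j) I.subtype z with hw
  have h1 : LinearMap.rTensor R (Module.DirectLimit.of R ι G f j) w = 0 := by
    rw [hw, ← LinearMap.comp_apply, LinearMap.rTensor_comp_lTensor, ← LinearMap.lTensor_comp_rTensor,
      LinearMap.comp_apply]
    exact hx
  have h2 : Module.DirectLimit.of R ι G f j (TensorProduct.rid R (G j) w) = 0 := by
    have := congrArg (TensorProduct.rid R _) h1
    rwa [rid_rTensor, map_zero] at this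
  obtain ⟨k, hjk, hk⟩ := Module.DirectLimit.of.zero_exact h2
  have h3 : LinearMap.rTensor R (f j k hjk) w = 0 := by
    apply (TensorProduct.rid R _).injective
    rw [rid_rTensor, hk, map_zero]
  have h4 : LinearMap.lTensor (G k) I.subtype (LinearMap.rTensor I (f j k hjk) z) = 0 := by
    rw [← LinearMap.comp_apply, LinearMap.lTensor_comp_rTensor, ← LinearMap.rTensor_comp_lTensor,
      LinearMap.comp_apply, ← hw, h3]
  have h5 : LinearMap.rTensor I (f j k hjk) z = 0 :=
    (Module.Flat.iff_lTensor_injective'.1 inferInstance I) (h4.trans (map_zero _).symm)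
  have h6 : Module.DirectLimit.of R ι G f j = Module.DirectLimit.of R ι G f k ∘ₗ f j k hjk := by
    ext y
    simp [Module.DirectLimit.of_f]
  rw [h6, LinearMap.rTensor_comp, LinearMap.comp_apply, h5, map_zero]

end Groth.Agent.Lib.Helper10
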