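import Mathlib.AlgebraicGeometry.IdealSheaf.Basic
import Mathlib.AlgebraicGeometry.AffineScheme
import Mathlib.AlgebraicGeometry.Noetherian
import Mathlib.RingTheory.Ideal.KrullsHeightTheorem
import Mathlib.RingTheory.Ideal.Height
import Mathlib.RingTheory.DiscreteValuationRing.TFAE
import Mathlib.RingTheory.Filtration
import Mathlib.RingTheory.Ideal.Colon
import Mathlib.RingTheory.Localization.Away.Basic
import Mathlib.RingTheory.Localization.Ideal
import Groth.Prelude.Def_Curv2
import Groth.Prelude.Def_BlowUp2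

set_option autoImplicit false
universe u
open CategoryTheory AlgebraicGeometry

namespace Groth.Agent.Lib.Helper10.DivLocal

variable {X : Scheme.{u}}

/-- membership in the support of an ideal sheaf, read on an affine open -/
theorem mem_support_iff_le_primeIdealOf (D : X.IdealSheafData) (U : X.affineOpens) (x : X)
    (hx : x ∈ (U : X.Opens)) :
    x ∈ D.support ↔ D.ideal U ≤ (U.2.primeIdealOf ⟨x, hx⟩).asIdeal := by
  rw [Scheme.IdealSheafData.mem_support_iff_of_mem hx]
  have h1 : U.2.fromSpec (U.2.primeIdealOf ⟨x, hx⟩) = x := U.2.fromSpec_primeIdealOf ⟨x, hx⟩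
  have h2 : x ∈ X.zeroLocus (U := U.1) (D.ideal U : Set Γ(X, U.1)) ↔
      U.2.fromSpec (U.2.primeIdealOf ⟨x, hx⟩) ∈ X.zeroLocus (U := U.1) (D.ideal U : Set Γ(X, U.1)) := by
    rw [h1]
  have h3 := Set.ext_iff.mp (U.2.fromSpec_preimage_zeroLocus (D.ideal U : Set Γ(X, U.1)))
    (U.2.primeIdealOf ⟨x, hx⟩)
  exact h2.trans (h3.trans (PrimeSpectrum.mem_zeroLocus _ _))

/-- a point of the support of `D` which is maximal under generization in the support
corresponds to a minimal prime over the ideal of `D`. -/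
theorem primeIdealOf_mem_minimalPrimes (D : X.IdealSheafData) (U : X.affineOpens) (ξ : X)
    (hξU : ξ ∈ (U : X.Opens)) (hξ : ξ ∈ (D.support : Set X))
    (hgen : ∀ y ∈ (D.support : Set X), y ⤳ ξ → y = ξ) :
    (U.2.primeIdealOf ⟨ξ, hξU⟩).asIdeal ∈ (D.ideal U).minimalPrimes := by
  have h1 : D.ideal U ≤ (U.2.primeIdealOf ⟨ξ, hξU⟩).asIdeal :=
    (mem_support_iff_le_primeIdealOf D U ξ hξU).1 hξ
  obtain ⟨q, hq, hqp⟩ := Ideal.exists_minimalPrimes_le h1
  have hqprime : q.IsPrime := hq.1.1
  let y : X := U.2.fromSpec ⟨q, hqprime⟩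
  have hyU : y ∈ (U : X.Opens) := by
    have : y ∈ Set.range U.2.fromSpec := ⟨_, rfl⟩
    rw [U.2.range_fromSpec] at this
    exact this
  have hpy : U.2.primeIdealOf ⟨y, hyU⟩ = ⟨q, hqprime⟩ := by
    have : IsOpenImmersion U.2.fromSpec := U.2.isOpenImmersion_fromSpec
    have hinj : Function.Injective U.2.fromSpec :=
      (Scheme.Hom.isOpenEmbedding U.2.fromSpec).injective
    apply hinj
    exact U.2.fromSpec_primeIdealOf ⟨y, hyU⟩
  have hyD : y ∈ (D.support : Set X) := by
    change y ∈ D.support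
    rw [mem_support_iff_le_primeIdealOf D U y hyU, hpy]
    exact hq.1.2
  have hspec : y ⤳ ξ := by
    have h0 : (⟨q, hqprime⟩ : PrimeSpectrum Γ(X, U.1)) ⤳ U.2.primeIdealOf ⟨ξ, hξU⟩ :=
      (PrimeSpectrum.le_iff_specializes _ _).1 hqp
    have := h0.map U.2.fromSpec.continuous
    rwa [U.2.fromSpec_primeIdealOf ⟨ξ, hξU⟩] at this
  have hyξ : y = ξ := hgen y hyD hspec
  have : (U.2.primeIdealOf ⟨ξ, hξU⟩).asIdeal = q := by
    have h3 : U.2.primeIdealOf ⟨ξ, hξU⟩ = U.2.primeIdealOf ⟨y, hyU⟩ := by
      congr 1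
      exact Subtype.ext hyξ.symm
    rw [h3, hpy]
  rw [this]
  exact hq

/-- the Krull dimension of the stalk is the height of the corresponding prime -/
theorem ringKrullDim_stalk_eq_height (U : X.affineOpens) (x : X) (hx : x ∈ (U : X.Opens)) :
    ringKrullDim (X.presheaf.stalk x) = (U.2.primeIdealOf ⟨x, hx⟩).asIdeal.height := by
  let _ : Algebra Γ(X, U.1) (X.presheaf.stalk x) := (X.presheaf.germ U.1 x hx).hom.toAlgebra
  have : IsLocalization.AtPrime (X.presheaf.stalk x) (U.2.primeIdealOf ⟨x, hx⟩).asIdeal :=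
    U.2.isLocalization_stalk ⟨x, hx⟩
  exact IsLocalization.AtPrime.ringKrullDim_eq_height (U.2.primeIdealOf ⟨x, hx⟩).asIdeal
    (X.presheaf.stalk x)

section DVR
open IsLocalRing

/-- In a Noetherian local ring whose maximal ideal is generated by `t`, every nonzero element is
a unit times a power of `t`. -/
theorem exists_eq_unit_mul_pow {R : Type u} [CommRing R] [IsNoetherianRing R] [IsLocalRing R]
    (t : R) (ht : maximalIdeal R = Ideal.span {t}) (x : R) (hx : x ≠ 0) :
    ∃ (a : R) (n : ℕ), IsUnit a ∧ x = a * t ^ n := by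
  classical
  have hK : ⨅ i, maximalIdeal R ^ i = ⊥ :=
    Ideal.iInf_pow_eq_bot_of_isLocalRing _ (maximalIdeal.isMaximal R).ne_top
  have hex : ∃ n, x ∉ maximalIdeal R ^ n := by
    by_contra hcon
    push Not at hcon
    apply hx
    have : x ∈ ⨅ i, maximalIdeal R ^ i := (Ideal.mem_iInf).2 hcon
    rw [hK] at this
    exact (Ideal.mem_bot).1 this
  have hfind := Nat.find_spec hex
  have hmin := fun m => Nat.find_min hex (m := m)
  set N := Nat.find hex with hN
  have hN0 : N ≠ 0 := by
    intro h0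
    rw [h0, pow_zero, Ideal.one_eq_top] at hfind
    exact hfind Submodule.mem_top
  obtain ⟨n, hn⟩ := Nat.exists_eq_succ_of_ne_zero hN0
  have hxn : x ∈ maximalIdeal R ^ n := by
    by_contra h
    exact hmin n (by omega) h
  rw [ht, Ideal.span_singleton_pow, Ideal.mem_span_singleton'] at hxn
  obtain ⟨a, ha⟩ := hxn
  refine ⟨a, n, ?_, ha.symm⟩
  by_contra hau
  have ham : a ∈ maximalIdeal R := (mem_maximalIdeal a).2 hau
  apply hfind
  rw [hn, pow_succ, ← ha, mul_comm a (t ^ n)]
  refine Ideal.mul_mem_mul ?_ ham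
  rw [ht, Ideal.span_singleton_pow]
  exact Ideal.subset_span rfl

/-- A Noetherian local ring whose maximal ideal is generated by a non-zero-divisor is a domain. -/
theorem isDomain_of_maximalIdeal_eq_span_nzd {R : Type u} [CommRing R] [IsNoetherianRing R]
    [IsLocalRing R] (t : R) (ht : maximalIdeal R = Ideal.span {t}) (htn : t ∈ nonZeroDivisors R) :
    IsDomain R := by
  have : NoZeroDivisors R := by
    refine ⟨fun {x y} hxy => ?_⟩
    by_contra hcon
    push Not at hcon
    obtain ⟨a, n, ha, rfl⟩ := exists_eq_unit_mul_pow t ht x hcon.1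
    obtain ⟨b, k, hb, rfl⟩ := exists_eq_unit_mul_pow t ht y hcon.2
    have h1 : (a * b) * t ^ (n + k) = 0 := by
      rw [← hxy, pow_add]; ring
    have h2 : t ^ (n + k) = 0 := by
      have := (ha.mul hb).mul_right_eq_zero.mp h1
      exact this
    have h3 : t ^ (n + k) ∈ nonZeroDivisors R := pow_mem htn _
    exact nonZeroDivisors.ne_zero h3 h2
  exact NoZeroDivisors.to_isDomain R

/-- A Noetherian local ring whose maximal ideal is generated by a non-zero-divisor is a discrete
valuation ring. -/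
theorem isDiscreteValuationRing_of_maximalIdeal_eq_span_nzd {R : Type u} [CommRing R]
    [IsNoetherianRing R] [IsLocalRing R] [IsDomain R] (t : R)
    (ht : maximalIdeal R = Ideal.span {t}) (htn : t ∈ nonZeroDivisors R) :
    IsDiscreteValuationRing R := by
  have hnf : ¬ IsField R := by
    rw [IsLocalRing.isField_iff_maximalIdeal_eq, ht, Ideal.span_singleton_eq_bot]
    exact nonZeroDivisors.ne_zero htn
  refine ((IsDiscreteValuationRing.TFAE R hnf).out 0 4).2 ?_
  exact ⟨⟨t, ht⟩⟩


end DVR

section Spread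
theorem exists_common_notMem {A : Type u} [CommRing A] (p : Ideal A) [p.IsPrime] (s : Finset A)
    (P : A → A → Prop) (hP : ∀ h h' b, P h b → P (h' * h) b)
    (H : ∀ b ∈ s, ∃ h, h ∉ p ∧ P h b) : ∃ h, h ∉ p ∧ ∀ b ∈ s, P h b := by
  classical
  induction s using Finset.induction_on with
  | empty => exact ⟨1, (Ideal.ne_top_iff_one p).1 (Ideal.IsPrime.ne_top inferInstance), by simp⟩
  | insert c s hc ih =>
    obtain ⟨h₀, hh₀, H₀⟩ := ih (fun b hb => H b (Finset.mem_insert_of_mem hb))
    obtain ⟨h₁, hh₁, H₁⟩ := H c (Finset.mem_insert_self c s)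
    refine ⟨h₁ * h₀, ?_, ?_⟩
    · intro hmem
      rcases Ideal.IsPrime.mem_or_mem inferInstance hmem with h | h
      · exact hh₁ h
      · exact hh₀ h
    · intro b hb
      rcases Finset.mem_insert.1 hb with rfl | hb
      · rw [mul_comm]; exact hP _ _ _ H₁
      · exact hP _ _ _ (H₀ b hb)

/-- Spreading out: if the ideal `I` becomes principal, generated by a non-zero-divisor, in the
localization at the prime `p` of a Noetherian ring, then the same holds after inverting a single
element outside `p`. -/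
theorem exists_away_principal_nzd {A : Type u} [CommRing A] [IsNoetherianRing A] (p : Ideal A)
    [p.IsPrime] (I : Ideal A) (S : Type u) [CommRing S] [Algebra A S] [IsLocalization.AtPrime S p]
    (g : S) (hg : g ∈ nonZeroDivisors S) (hI : I.map (algebraMap A S) = Ideal.span {g}) :
    ∃ h : A, h ∉ p ∧ ∃ a : A, ∀ (B : Type u) [CommRing B] [Algebra A B] [IsLocalization.Away h B],
      algebraMap A B a ∈ nonZeroDivisors B ∧
        I.map (algebraMap A B) = Ideal.span {algebraMap A B a} := by
  classical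
  -- Step 1: a generator coming from `I`
  have hgI : g ∈ I.map (algebraMap A S) := by rw [hI]; exact Ideal.subset_span rfl
  obtain ⟨⟨⟨a, haI⟩, s⟩, hgs⟩ := (IsLocalization.mem_map_algebraMap_iff p.primeCompl S).1 hgI
  have hgs' : g * algebraMap A S s = algebraMap A S a := hgs
  have hsu : IsUnit (algebraMap A S (s : A)) := IsLocalization.map_units S s
  have hanzd : algebraMap A S a ∈ nonZeroDivisors S := by
    rw [← hgs']
    exact mul_mem hg hsu.mem_nonZeroDivisors
  have hspan : ∀ b ∈ I, ∃ c : S, algebraMap A S b = c * algebraMap A S a := by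
    intro b hb
    have : algebraMap A S b ∈ Ideal.span {g} := by
      rw [← hI]; exact Ideal.mem_map_of_mem _ hb
    obtain ⟨c, hc⟩ := Ideal.mem_span_singleton'.1 this
    obtain ⟨u, hu⟩ := hsu
    refine ⟨c * ↑u⁻¹, ?_⟩
    rw [← hgs', ← hu, ← hc]
    have : (↑u⁻¹ : S) * ↑u = 1 := Units.inv_mul u
    calc c * g = c * g * (↑u⁻¹ * ↑u) := by rw [this, mul_one]
      _ = c * ↑u⁻¹ * (g * ↑u) := by ring
  -- Step 2: clearing denominators for generators of `I`
  have h2 : ∀ b ∈ I, ∃ h, h ∉ p ∧ h * b ∈ Ideal.span {a} := by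
    intro b hb
    obtain ⟨c', hc'⟩ := hspan b hb
    obtain ⟨⟨c, t⟩, hct⟩ := IsLocalization.mk'_surjective p.primeCompl c'
    have hct' : c' * algebraMap A S t = algebraMap A S c := by
      rw [← hct]; exact IsLocalization.mk'_spec S c t
    have heq : algebraMap A S (b * t) = algebraMap A S (c * a) := by
      rw [map_mul, map_mul, hc', ← hct']; ring
    obtain ⟨u, hu⟩ := (IsLocalization.eq_iff_exists p.primeCompl S).1 heq
    refine ⟨u * t, ?_, ?_⟩
    · intro hmem
      rcases Ideal.IsPrime.mem_or_mem inferInstance hmem with h | h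
      · exact u.2 h
      · exact t.2 h
    · rw [Ideal.mem_span_singleton']
      refine ⟨u * c, ?_⟩
      calc (u : A) * c * a = u * (c * a) := by ring
        _ = u * (b * t) := hu.symm
        _ = u * t * b := by ring
  obtain ⟨sI, hsI⟩ := (isNoetherianRing_iff_ideal_fg A).1 inferInstance I
  obtain ⟨h₁, hh₁, H₁⟩ := exists_common_notMem p sI (fun h b => h * b ∈ Ideal.span {a})
    (fun h h' b hb => by
      have : h' * h * b = h' * (h * b) := by ring
      rw [this]; exact Ideal.mul_mem_left _ _ hb)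
    (fun b hb => h2 b (hsI ▸ Ideal.subset_span hb))
  have H₁' : ∀ x ∈ I, h₁ * x ∈ Ideal.span {a} := by
    intro x hx
    have hle : Ideal.span (sI : Set A) ≤ (Ideal.span {a}).colon {h₁} := by
      rw [Ideal.span_le]
      intro b hb
      change b ∈ (Ideal.span {a}).colon {h₁}
      rw [Submodule.mem_colon_singleton, smul_eq_mul, mul_comm]
      exact H₁ b hb
    have := hle (hsI.symm ▸ hx)
    rw [Submodule.mem_colon_singleton, smul_eq_mul, mul_comm] at this
    exact this
  -- Step 3: the annihilator of `a`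
  set K : Ideal A := (⊥ : Ideal A).colon {a} with hK
  have hKmem : ∀ x, x ∈ K ↔ x * a = 0 := by
    intro x
    rw [hK, Submodule.mem_colon_singleton, smul_eq_mul, Ideal.mem_bot]
  have h3 : ∀ d ∈ K, ∃ h, h ∉ p ∧ h * d = 0 := by
    intro d hd
    have hd0 : algebraMap A S d = 0 := by
      have : algebraMap A S d * algebraMap A S a = 0 := by
        rw [← map_mul, (hKmem d).1 hd, map_zero]
      exact (mul_right_mem_nonZeroDivisors_eq_zero_iff hanzd).1 this
    obtain ⟨m, hm⟩ := (IsLocalization.map_eq_zero_iff p.primeCompl S d).1 hd0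
    exact ⟨m, m.2, hm⟩
  obtain ⟨sK, hsK⟩ := (isNoetherianRing_iff_ideal_fg A).1 inferInstance K
  obtain ⟨h₂, hh₂, H₂⟩ := exists_common_notMem p sK (fun h b => h * b = 0)
    (fun h h' b hb => by
      have : h' * h * b = h' * (h * b) := by ring
      rw [this, hb, mul_zero])
    (fun b hb => h3 b (hsK ▸ Ideal.subset_span hb))
  have H₂' : ∀ x ∈ K, h₂ * x = 0 := by
    intro x hx
    have hle : Ideal.span (sK : Set A) ≤ (⊥ : Ideal A).colon {h₂} := by
      rw [Ideal.span_le]
      intro b hb
      change b ∈ (⊥ : Ideal A).colon {h₂}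
      rw [Submodule.mem_colon_singleton, smul_eq_mul, Ideal.mem_bot, mul_comm]
      exact H₂ b hb
    have := hle (hsK.symm ▸ hx)
    rw [Submodule.mem_colon_singleton, smul_eq_mul, Ideal.mem_bot, mul_comm] at this
    exact this
  -- Step 4
  refine ⟨h₁ * h₂, ?_, a, ?_⟩
  · intro hmem
    rcases Ideal.IsPrime.mem_or_mem inferInstance hmem with h | h
    · exact hh₁ h
    · exact hh₂ h
  intro B _ _ _
  have hunit : IsUnit (algebraMap A B (h₁ * h₂)) := IsLocalization.Away.algebraMap_isUnit _
  have hunit₁ : IsUnit (algebraMap A B h₁) := by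
    rw [map_mul] at hunit
    exact isUnit_of_mul_isUnit_left hunit
  constructor
  · rw [mem_nonZeroDivisors_iff_right]
    intro z hz
    obtain ⟨⟨x, m⟩, hxm⟩ := IsLocalization.mk'_surjective (Submonoid.powers (h₁ * h₂)) z
    have hzm : z * algebraMap A B m = algebraMap A B x := by
      rw [← hxm]; exact IsLocalization.mk'_spec B x m
    have hxa : algebraMap A B (x * a) = 0 := by
      rw [map_mul, ← hzm]
      calc z * algebraMap A B m * algebraMap A B a = (z * algebraMap A B a) * algebraMap A B m := by ring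
        _ = 0 := by rw [hz, zero_mul]
    obtain ⟨m', hm'⟩ := (IsLocalization.map_eq_zero_iff (Submonoid.powers (h₁ * h₂)) B _).1 hxa
    have hmK : (m' : A) * x ∈ K := by
      rw [hKmem]
      calc (m' : A) * x * a = m' * (x * a) := by ring
        _ = 0 := hm'
    have h0 : h₂ * (m' * x) = 0 := H₂' _ hmK
    have hx0 : algebraMap A B x = 0 := by
      rw [IsLocalization.map_eq_zero_iff (Submonoid.powers (h₁ * h₂)) B]
      refine ⟨⟨(h₁ * h₂) * m', Submonoid.mul_mem _ (Submonoid.mem_powers _) m'.2⟩, ?_⟩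
      calc h₁ * h₂ * m' * x = h₁ * (h₂ * (m' * x)) := by ring
        _ = 0 := by rw [h0, mul_zero]
    have hmu : IsUnit (algebraMap A B (m : A)) := IsLocalization.map_units B m
    rw [hx0] at hzm
    exact (hmu.mul_left_eq_zero).1 hzm
  · apply le_antisymm
    · rw [Ideal.map_le_iff_le_comap]
      intro x hx
      rw [Ideal.mem_comap]
      obtain ⟨r, hr⟩ := Ideal.mem_span_singleton'.1 (H₁' x hx)
      obtain ⟨u, hu⟩ := hunit₁
      rw [Ideal.mem_span_singleton']
      refine ⟨↑u⁻¹ * algebraMap A B r, ?_⟩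
      have e1 : algebraMap A B r * algebraMap A B a = ↑u * algebraMap A B x := by
        rw [hu, ← map_mul, ← map_mul, hr]
      calc ↑u⁻¹ * algebraMap A B r * algebraMap A B a = ↑u⁻¹ * (algebraMap A B r * algebraMap A B a) := by ring
        _ = ↑u⁻¹ * (↑u * algebraMap A B x) := by rw [e1]
        _ = algebraMap A B x := by rw [← mul_assoc, Units.inv_mul, one_mul]
    · rw [Ideal.span_le, Set.singleton_subset_iff]
      exact Ideal.mem_map_of_mem _ haI


end Spread

end Groth.Agent.Lib.Helper10.DivLocal
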