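import Mathlib
import Groth.Agent.Lib.Helper10.FEtGraph
import Groth.Agent.Lib.Helper6.BddFibEtale
import Groth.Agent.S0063

/-!
# Descent of morphisms between étale schemes along universally submersive morphisms with
connected geometric fibres (helper10)
-/

set_option autoImplicit false

universe u

open AlgebraicGeometry CategoryTheory CategoryTheory.Limits

namespace Groth.Agent.Lib.Helper10.EtSubm

/-- A scheme étale over a field is separated over it. -/
theorem isSeparated_of_etale_field {k : Type u} [Field k] {T : Scheme.{u}}
    (p : T ⟶ Spec (CommRingCat.of k)) [Etale p] : IsSeparated p := by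
  haveI : DiscreteTopology ↥(pullback p p) :=
    Groth.Agent.Lib.Helper6.BddFibLib.discreteTopology_of_etale_field (pullback.fst p p ≫ p)
  exact ⟨IsClosedImmersion.of_isPreimmersion _ (isClosed_discrete _)⟩

/-- Every point of a scheme is the image of a geometric point. -/
theorem exists_geomPoint (W : Scheme.{u}) (w : W) :
    ∃ (Ω : Type u) (_ : Field Ω) (_ : IsAlgClosed Ω) (j : Spec (CommRingCat.of Ω) ⟶ W),
      Set.range j = {w} := by
  refine ⟨AlgebraicClosure (W.residueField w), inferInstance, inferInstance,
    Spec.map (CommRingCat.ofHom (algebraMap (W.residueField w)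
      (AlgebraicClosure (W.residueField w)))) ≫ W.fromSpecResidueField w, ?_⟩
  ext y
  constructor
  · rintro ⟨z, rfl⟩
    have : (W.fromSpecResidueField w)
        ((Spec.map (CommRingCat.ofHom (algebraMap (W.residueField w)
          (AlgebraicClosure (W.residueField w))))) z) ∈
        Set.range (W.fromSpecResidueField w) := ⟨_, rfl⟩
    rw [Scheme.range_fromSpecResidueField] at this
    exact this
  · rintro rfl
    have hne : Nonempty ↥(Spec (CommRingCat.of (AlgebraicClosure (W.residueField y)))) :=
      inferInstance
    obtain ⟨z⟩ := hne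
    refine ⟨z, ?_⟩
    have : (W.fromSpecResidueField y)
        ((Spec.map (CommRingCat.ofHom (algebraMap (W.residueField y)
          (AlgebraicClosure (W.residueField y))))) z) ∈
        Set.range (W.fromSpecResidueField y) := ⟨_, rfl⟩
    rw [Scheme.range_fromSpecResidueField] at this
    exact this

/-- Descent of morphisms to an étale scheme along a universally submersive morphism with connected
geometric fibres. -/
theorem exists_lift_of_submersive {S' S : Scheme.{u}} (g : S' ⟶ S)
    (hg : MorphismProperty.universally
      (AlgebraicGeometry.topologically fun f => Topology.IsQuotientMap f) g)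
    (hconn : ∀ (K : Type u) [Field K] [IsAlgClosed K] (ξ : Spec (CommRingCat.of K) ⟶ S),
      ConnectedSpace ↑(pullback g ξ))
    {A B : Scheme.{u}} (a : A ⟶ S) (b : B ⟶ S) [Etale b]
    (ψ : pullback a g ⟶ pullback b g) (hψ : ψ ≫ pullback.snd b g = pullback.snd a g) :
    ∃ φ : A ⟶ B, φ ≫ b = a ∧ pullback.fst a g ≫ φ = ψ ≫ pullback.fst b g := by
  have hπq : Topology.IsQuotientMap (pullback.fst a g) :=
    hg (pullback.snd a g) a (pullback.fst a g) (IsPullback.of_hasPullback a g)
  haveI : Surjective (pullback.fst a g) := ⟨hπq.surjective⟩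
  let γ : pullback a g ⟶ pullback a b :=
    pullback.lift (pullback.fst a g) (ψ ≫ pullback.fst b g) (by
      rw [Category.assoc, pullback.condition (f := b) (g := g), ← Category.assoc, hψ,
        pullback.condition])
  have hγ : γ ≫ pullback.fst a b = pullback.fst a g := pullback.lift_fst _ _ _
  have hγ2 : γ ≫ pullback.snd a b = ψ ≫ pullback.fst b g := pullback.lift_snd _ _ _
  let s' : pullback a g ⟶ pullback (pullback.fst a b) (pullback.fst a g) :=
    pullback.lift γ (𝟙 _) (by rw [hγ, Category.id_comp])
  have hs' : s' ≫ pullback.snd _ _ = 𝟙 _ := pullback.lift_snd _ _ _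
  have hs'1 : s' ≫ pullback.fst _ _ = γ := pullback.lift_fst _ _ _
  haveI hoi : IsOpenImmersion s' := FEtGraph.isOpenImmersion_of_section s' _ hs'
  have hpb : IsPullback
      (pullback.fst (pullback.fst a b) (pullback.fst a g))
      (pullback.snd (pullback.fst a b) (pullback.fst a g) ≫ pullback.snd a g)
      (pullback.fst a b ≫ a) g :=
    (IsPullback.of_hasPullback (pullback.fst a b) (pullback.fst a g)).paste_vert
      (IsPullback.of_hasPullback a g)
  have hquot : Topology.IsQuotientMap (pullback.fst (pullback.fst a b) (pullback.fst a g)) :=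
    hg _ _ _ hpb
  -- saturation of the graph
  have hsat : (pullback.fst (pullback.fst a b) (pullback.fst a g)) ⁻¹'
      ((pullback.fst (pullback.fst a b) (pullback.fst a g)) '' Set.range s') = Set.range s' := by
    apply Set.Subset.antisymm _ (Set.subset_preimage_image _ _)
    rintro x ⟨c, hc, hcx⟩
    obtain ⟨Ω, _, _, j, hj⟩ := exists_geomPoint (pullback a b)
      ((pullback.fst (pullback.fst a b) (pullback.fst a g)) x)
    have hru : Set.range (pullback.fst (pullback.fst (pullback.fst a b) (pullback.fst a g)) j) =
        (pullback.fst (pullback.fst a b) (pullback.fst a g)) ⁻¹' Set.range j :=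
      Scheme.Pullback.range_fst _ j
    have h2 : IsPullback (pullback.fst (pullback.fst (pullback.fst a b) (pullback.fst a g)) j ≫
        (pullback.snd (pullback.fst a b) (pullback.fst a g) ≫ pullback.snd a g))
        (pullback.snd (pullback.fst (pullback.fst a b) (pullback.fst a g)) j) g
        (j ≫ (pullback.fst a b ≫ a)) :=
      (IsPullback.of_hasPullback (pullback.fst (pullback.fst a b) (pullback.fst a g)) j).paste_horiz
        hpb.flip
    haveI := hconn Ω (j ≫ (pullback.fst a b ≫ a))
    haveI : ConnectedSpace ↥(pullback (pullback.fst (pullback.fst a b) (pullback.fst a g)) j) :=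
      (h2.isoPullback.inv.homeomorph).surjective.connectedSpace
        (h2.isoPullback.inv.homeomorph).continuous
    -- abbreviations
    set p := pullback.fst (pullback.fst a b) (pullback.fst a g) with hp
    set q := pullback.snd (pullback.fst a b) (pullback.fst a g) with hq
    set u := pullback.fst p j with hu
    obtain ⟨z₀, hz₀⟩ : c ∈ Set.range u := by
      rw [hru, hj]; exact hcx
    obtain ⟨z₁, hz₁⟩ : x ∈ Set.range u := by
      rw [hru, hj]; rfl
    have hcondP : p ≫ pullback.fst a b = q ≫ pullback.fst a g := pullback.condition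
    have hcondQ : u ≫ p = pullback.snd p j ≫ j := pullback.condition
    -- the étale scheme over `Ω`
    haveI : IsSeparated (pullback.snd b (j ≫ (pullback.fst a b ≫ a))) :=
      isSeparated_of_etale_field _
    let θ : pullback p j ⟶ pullback b (j ≫ (pullback.fst a b ≫ a)) :=
      pullback.lift (u ≫ p ≫ pullback.snd a b) (pullback.snd p j) (by
        rw [Category.assoc, Category.assoc, ← pullback.condition (f := a) (g := b),
          ← Category.assoc, ← Category.assoc, hcondQ, Category.assoc, Category.assoc])
    let θ' : pullback p j ⟶ pullback b (j ≫ (pullback.fst a b ≫ a)) :=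
      pullback.lift (u ≫ q ≫ γ ≫ pullback.snd a b) (pullback.snd p j) (by
        have e1 : (u ≫ q ≫ γ ≫ pullback.snd a b) ≫ b = (u ≫ p) ≫ pullback.fst a b ≫ a := by
          simp only [Category.assoc]
          rw [← pullback.condition (f := a) (g := b), reassoc_of% hγ, reassoc_of% hcondP]
        rw [e1, hcondQ, Category.assoc])
    have hθ : θ ≫ pullback.snd b _ = pullback.snd p j := pullback.lift_snd _ _ _
    have hθ' : θ' ≫ pullback.snd b _ = pullback.snd p j := pullback.lift_snd _ _ _
    have hθ1 : θ ≫ pullback.fst b _ = u ≫ p ≫ pullback.snd a b := pullback.lift_fst _ _ _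
    have hθ'1 : θ' ≫ pullback.fst b _ = u ≫ q ≫ γ ≫ pullback.snd a b := pullback.lift_fst _ _ _
    -- agreement at `z₀`
    have hrange : Set.range ((pullback p j).fromSpecResidueField z₀ ≫ u) ⊆ Set.range s' := by
      rintro _ ⟨t, rfl⟩
      rw [Scheme.Hom.comp_apply]
      have : (pullback p j).fromSpecResidueField z₀ t ∈
          Set.range ((pullback p j).fromSpecResidueField z₀) := ⟨_, rfl⟩
      rw [Scheme.range_fromSpecResidueField] at this
      rw [this, hz₀]
      exact hc
    have hfac : IsOpenImmersion.lift s' ((pullback p j).fromSpecResidueField z₀ ≫ u) hrange ≫ s' =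
        (pullback p j).fromSpecResidueField z₀ ≫ u := IsOpenImmersion.lift_fac _ _ _
    have hlift : IsOpenImmersion.lift s' ((pullback p j).fromSpecResidueField z₀ ≫ u) hrange =
        (pullback p j).fromSpecResidueField z₀ ≫ u ≫ q := by
      have := congrArg (· ≫ q) hfac
      simp only [Category.assoc] at this
      rw [hs', Category.comp_id] at this
      exact this
    have hρ : (pullback p j).fromSpecResidueField z₀ ≫ u ≫ p =
        (pullback p j).fromSpecResidueField z₀ ≫ u ≫ q ≫ γ := by
      rw [← Category.assoc, ← hfac, hlift]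
      simp only [Category.assoc]
      rw [hs'1]
    have hy : (pullback p j).fromSpecResidueField z₀ ≫ θ =
        (pullback p j).fromSpecResidueField z₀ ≫ θ' := by
      apply pullback.hom_ext
      · rw [Category.assoc, Category.assoc, hθ1, hθ'1, reassoc_of% hρ]
      · rw [Category.assoc, Category.assoc, hθ, hθ']
    have hθθ' : θ = θ' :=
      Groth.Agent.S0063.result (pullback.snd b (j ≫ (pullback.fst a b ≫ a)))
        (pullback.snd p j) θ θ' hθ hθ' z₀ hy
    have hup : u ≫ p = u ≫ q ≫ γ := by
      apply pullback.hom_ext
      · simp only [Category.assoc]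
        rw [hγ, hcondP]
      · simp only [Category.assoc]
        rw [← hθ1, ← hθ'1, hθθ']
    have key : u = (u ≫ q) ≫ s' := by
      apply pullback.hom_ext
      · rw [Category.assoc, Category.assoc, hs'1]
        exact hup
      · rw [Category.assoc, Category.assoc, hs', Category.comp_id]
    rw [← hz₁, key, Scheme.Hom.comp_apply]
    exact ⟨_, rfl⟩
  obtain ⟨σ, hσ1, hσ2⟩ := FEtGraph.exists_section_of_opens a b (pullback.fst a g) γ hγ
    ⟨(pullback.fst (pullback.fst a b) (pullback.fst a g)) '' Set.range s',
      hquot.isOpen_preimage.mp (by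
      rw [hsat]; exact (Scheme.Hom.isOpenEmbedding s').isOpen_range)⟩ hsat
  refine ⟨σ ≫ pullback.snd a b, ?_, ?_⟩
  · rw [Category.assoc, ← pullback.condition, ← Category.assoc, hσ1]
    exact Category.id_comp _
  · rw [← Category.assoc, hσ2, hγ2]

end Groth.Agent.Lib.Helper10.EtSubm
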