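import Mathlib
import Groth.Agent.Lib.Helper10.FEtGraph
import Groth.Agent.S0063

/-!
# Universally submersive morphisms are descent morphisms for maps into étale schemes (helper10)
-/

set_option autoImplicit false

universe u

open AlgebraicGeometry CategoryTheory CategoryTheory.Limits

namespace Groth.Agent.Lib.Helper10.EtSubm2

/-- Two morphisms over `S` into an unramified `S`-scheme which agree after composing with a
surjective morphism are equal. -/
theorem eq_of_comp_surjective {S A A' B : Scheme.{u}} (a : A ⟶ S) (b : B ⟶ S)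
    [FormallyUnramified b] [LocallyOfFiniteType b] (π : A' ⟶ A) (hπ : Function.Surjective π)
    (u₁ u₂ : A ⟶ B) (h₁ : u₁ ≫ b = a) (h₂ : u₂ ≫ b = a) (h : π ≫ u₁ = π ≫ u₂) : u₁ = u₂ := by
  let X : Over S := Over.mk a
  let Y : Over S := Over.mk b
  let φ₁ : X ⟶ Y := Over.homMk u₁ h₁
  let φ₂ : X ⟶ Y := Over.homMk u₂ h₂
  haveI : FormallyUnramified Y.hom := ‹_›
  haveI : LocallyOfFiniteType Y.hom := ‹_›
  have := Groth.Agent.S0063.eq_of_range_equalizer_eq_univ φ₁ φ₂ (by
    rw [Set.eq_univ_iff_forall]
    intro x
    obtain ⟨x', rfl⟩ := hπ x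
    let P : Over S := Over.mk (π ≫ a)
    let ι' : P ⟶ X := Over.homMk π rfl
    have hι : ι' ≫ φ₁ = ι' ≫ φ₂ := by
      ext1
      exact h
    refine ⟨(equalizer.lift ι' hι).left x', ?_⟩
    rw [← Scheme.Hom.comp_apply, ← Over.comp_left, equalizer.lift_ι]
    rfl)
  exact this

/-- Descent of morphisms to an étale scheme along a universally submersive morphism, given the
cocycle condition. -/
theorem exists_lift_of_cocycle {S' S : Scheme.{u}} (g : S' ⟶ S)
    (hg : MorphismProperty.universally
      (AlgebraicGeometry.topologically fun f => Topology.IsQuotientMap f) g)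
    {A B : Scheme.{u}} (a : A ⟶ S) (b : B ⟶ S) [Etale b]
    (ψ : pullback a g ⟶ pullback b g) (hψ : ψ ≫ pullback.snd b g = pullback.snd a g)
    (hcoc : pullback.fst (pullback.fst a g) (pullback.fst a g) ≫ ψ ≫ pullback.fst b g =
      pullback.snd (pullback.fst a g) (pullback.fst a g) ≫ ψ ≫ pullback.fst b g) :
    ∃ φ : A ⟶ B, φ ≫ b = a ∧ pullback.fst a g ≫ φ = ψ ≫ pullback.fst b g := by
  have hπq : Topology.IsQuotientMap (pullback.fst a g) :=
    hg (pullback.snd a g) a (pullback.fst a g) (IsPullback.of_hasPullback a g)
  haveI : Surjective (pullback.fst a g) := ⟨hπq.surjective⟩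
  let γ : pullback a g ⟶ pullback a b :=
    pullback.lift (pullback.fst a g) (ψ ≫ pullback.fst b g) (by
      rw [Category.assoc, pullback.condition (f := b) (g := g), ← Category.assoc, hψ,
        pullback.condition])
  have hγ : γ ≫ pullback.fst a b = pullback.fst a g := pullback.lift_fst _ _ _
  have hγ2 : γ ≫ pullback.snd a b = ψ ≫ pullback.fst b g := pullback.lift_snd _ _ _
  let s' : pullback a g ⟶ pullback (pullback.fst a b) (pullback.fst a g) :=
    pullback.lift γ (𝟙 _) (by rw [hγ, Category.id_comp])
  have hs' : s' ≫ pullback.snd _ _ = 𝟙 _ := pullback.lift_snd _ _ _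
  have hs'1 : s' ≫ pullback.fst _ _ = γ := pullback.lift_fst _ _ _
  haveI hoi : IsOpenImmersion s' := FEtGraph.isOpenImmersion_of_section s' _ hs'
  have hpb : IsPullback
      (pullback.fst (pullback.fst a b) (pullback.fst a g))
      (pullback.snd (pullback.fst a b) (pullback.fst a g) ≫ pullback.snd a g)
      (pullback.fst a b ≫ a) g :=
    (IsPullback.of_hasPullback (pullback.fst a b) (pullback.fst a g)).paste_vert
      (IsPullback.of_hasPullback a g)
  have hquot : Topology.IsQuotientMap (pullback.fst (pullback.fst a b) (pullback.fst a g)) :=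
    hg _ _ _ hpb
  -- cocycle for `γ`
  have hcocγ : pullback.fst (pullback.fst a g) (pullback.fst a g) ≫ γ =
      pullback.snd (pullback.fst a g) (pullback.fst a g) ≫ γ := by
    apply pullback.hom_ext
    · rw [Category.assoc, Category.assoc, hγ]
      exact pullback.condition
    · rw [Category.assoc, Category.assoc, hγ2]
      exact hcoc
  -- the preimage of `range γ` is the graph
  have hsat : (pullback.fst (pullback.fst a b) (pullback.fst a g)) ⁻¹' (Set.range γ) =
      Set.range s' := by
    apply Set.Subset.antisymm
    · rintro x ⟨x'', hx''⟩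
      obtain ⟨d, hd1, hd2⟩ := Scheme.Pullback.exists_preimage_pullback
        (f := γ) (g := pullback.fst (pullback.fst a b) (pullback.fst a g)) x'' x hx''
      -- the map `D ⟶ X' ×_X X'`
      let κ : pullback γ (pullback.fst (pullback.fst a b) (pullback.fst a g)) ⟶
          pullback (pullback.fst a g) (pullback.fst a g) :=
        pullback.lift (pullback.fst _ _) (pullback.snd _ _ ≫ pullback.snd _ _) (by
          rw [← hγ, ← Category.assoc, pullback.condition, Category.assoc, Category.assoc,
            pullback.condition])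
      have hκ1 : κ ≫ pullback.fst _ _ = pullback.fst _ _ := pullback.lift_fst _ _ _
      have hκ2 : κ ≫ pullback.snd _ _ = pullback.snd _ _ ≫ pullback.snd _ _ :=
        pullback.lift_snd _ _ _
      have e1 : pullback.snd γ (pullback.fst (pullback.fst a b) (pullback.fst a g)) ≫
          pullback.fst (pullback.fst a b) (pullback.fst a g) =
          pullback.snd γ (pullback.fst (pullback.fst a b) (pullback.fst a g)) ≫
            pullback.snd (pullback.fst a b) (pullback.fst a g) ≫ γ := by
        rw [← pullback.condition, ← hκ1, Category.assoc, hcocγ, ← Category.assoc, hκ2,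
          Category.assoc]
      have key : pullback.snd γ (pullback.fst (pullback.fst a b) (pullback.fst a g)) =
          (pullback.snd γ (pullback.fst (pullback.fst a b) (pullback.fst a g)) ≫
            pullback.snd (pullback.fst a b) (pullback.fst a g)) ≫ s' := by
        apply pullback.hom_ext
        · rw [Category.assoc, Category.assoc, hs'1]
          exact e1
        · rw [Category.assoc, Category.assoc, hs', Category.comp_id]
      rw [← hd2, key, Scheme.Hom.comp_apply]
      exact ⟨_, rfl⟩
    · rintro _ ⟨x', rfl⟩
      refine ⟨x', ?_⟩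
      rw [← hs'1, Scheme.Hom.comp_apply]
  obtain ⟨σ, hσ1, hσ2⟩ := FEtGraph.exists_section_of_opens a b (pullback.fst a g) γ hγ
    ⟨Set.range γ, hquot.isOpen_preimage.mp (by
      rw [hsat]; exact (Scheme.Hom.isOpenEmbedding s').isOpen_range)⟩ hsat
  refine ⟨σ ≫ pullback.snd a b, ?_, ?_⟩
  · rw [Category.assoc, ← pullback.condition, ← Category.assoc, hσ1]
    exact Category.id_comp _
  · rw [← Category.assoc, hσ2, hγ2]

end Groth.Agent.Lib.Helper10.EtSubm2
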