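import Mathlib
import Groth.Agent.S0063

/-!
# Descent of properness/finiteness of étale morphisms along universally submersive morphisms
(helper10)
-/

set_option autoImplicit false

universe u

open AlgebraicGeometry CategoryTheory CategoryTheory.Limits

namespace Groth.Agent.Lib.Helper10.EtSubm3

/-- Étale morphisms are locally quasi-finite. -/
theorem locallyQuasiFinite_of_etale {X S : Scheme.{u}} (f : X ⟶ S) [Etale f] :
    LocallyQuasiFinite f := by
  refine ⟨fun {U} hU {V} hV e => ?_⟩
  have h : (f.appLE U V e).hom.Etale := HasRingHomProperty.appLE @Etale f inferInstance ⟨U, hU⟩ ⟨V, hV⟩ e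
  algebraize [(f.appLE U V e).hom]
  haveI : Algebra.Etale Γ(S, U) Γ(X, V) := h
  show Algebra.QuasiFinite Γ(S, U) Γ(X, V)
  infer_instance

/-- Universal closedness descends along universally submersive morphisms. -/
theorem universallyClosed_of_baseChange {X S S' : Scheme.{u}} (g : S' ⟶ S)
    (hg : MorphismProperty.universally
      (AlgebraicGeometry.topologically fun f => Topology.IsQuotientMap f) g)
    (f : X ⟶ S) [UniversallyClosed (pullback.snd f g)] : UniversallyClosed f := by
  refine ⟨fun X_T T i₁ i₂ f_T hT => ?_⟩
  have hq : Topology.IsQuotientMap (pullback.fst i₂ g) :=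
    hg (pullback.snd i₂ g) i₂ (pullback.fst i₂ g) (IsPullback.of_hasPullback i₂ g)
  have hbig : IsPullback (pullback.fst f_T (pullback.fst i₂ g) ≫ i₁)
      (pullback.snd f_T (pullback.fst i₂ g)) f (pullback.fst i₂ g ≫ i₂) :=
    (IsPullback.of_hasPullback f_T (pullback.fst i₂ g)).paste_horiz hT.flip
  let l : pullback f_T (pullback.fst i₂ g) ⟶ pullback f g :=
    pullback.lift (pullback.fst _ _ ≫ i₁) (pullback.snd _ _ ≫ pullback.snd i₂ g) (by
      rw [Category.assoc, ← hT.w, ← Category.assoc, pullback.condition, Category.assoc,
        Category.assoc, pullback.condition])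
  have hl1 : l ≫ pullback.fst f g = pullback.fst _ _ ≫ i₁ := pullback.lift_fst _ _ _
  have hl2 : l ≫ pullback.snd f g = pullback.snd _ _ ≫ pullback.snd i₂ g := pullback.lift_snd _ _ _
  have hleft : IsPullback l (pullback.snd f_T (pullback.fst i₂ g)) (pullback.snd f g)
      (pullback.snd i₂ g) := by
    refine IsPullback.of_right (h₁₂ := pullback.fst f g) (h₂₂ := g) (v₁₃ := f) ?_ hl2
      (IsPullback.of_hasPullback f g)
    rw [hl1, ← pullback.condition]
    exact hbig
  haveI : UniversallyClosed (pullback.snd f_T (pullback.fst i₂ g)) :=
    MorphismProperty.of_isPullback hleft inferInstance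
  intro Z hZ
  rw [← hq.isClosed_preimage]
  have := Scheme.image_preimage_eq_of_isPullback
    (IsPullback.of_hasPullback f_T (pullback.fst i₂ g)) Z
  change IsClosed ((pullback.fst i₂ g) ⁻¹' (f_T '' Z))
  erw [← this]
  exact (pullback.snd f_T (pullback.fst i₂ g)).isClosedMap _ (hZ.preimage
    (pullback.fst f_T (pullback.fst i₂ g)).continuous)

/-- Separatedness of an étale morphism descends along universally submersive morphisms. -/
theorem isSeparated_of_baseChange {X S S' : Scheme.{u}} (g : S' ⟶ S)
    (hg : MorphismProperty.universally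
      (AlgebraicGeometry.topologically fun f => Topology.IsQuotientMap f) g)
    (f : X ⟶ S) [Etale f] [IsSeparated (pullback.snd f g)] : IsSeparated f := by
  haveI : IsOpenImmersion (pullback.diagonal f) := inferInstance
  refine ⟨IsClosedImmersion.of_isPreimmersion _ ?_⟩
  have hq : Topology.IsQuotientMap (pullback.fst (pullback.fst f f ≫ f) g) :=
    hg (pullback.snd (pullback.fst f f ≫ f) g) (pullback.fst f f ≫ f)
      (pullback.fst (pullback.fst f f ≫ f) g) (IsPullback.of_hasPullback _ g)
  rw [← hq.isClosed_preimage]
  set ρ := pullback.fst (pullback.fst f f ≫ f) g with hρ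
  let a₁ : pullback (pullback.fst f f ≫ f) g ⟶ pullback f g :=
    pullback.lift (ρ ≫ pullback.fst f f) (pullback.snd _ g) (by
      rw [Category.assoc]; exact pullback.condition)
  let a₂ : pullback (pullback.fst f f ≫ f) g ⟶ pullback f g :=
    pullback.lift (ρ ≫ pullback.snd f f) (pullback.snd _ g) (by
      rw [Category.assoc, ← pullback.condition (f := f) (g := f)]; exact pullback.condition)
  let X'' : Over S' := Over.mk (pullback.snd (pullback.fst f f ≫ f) g)
  let Y'' : Over S' := Over.mk (pullback.snd f g)
  let α₁ : X'' ⟶ Y'' := Over.homMk a₁ (pullback.lift_snd _ _ _)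
  let α₂ : X'' ⟶ Y'' := Over.homMk a₂ (pullback.lift_snd _ _ _)
  haveI : FormallyUnramified Y''.hom := by
    show FormallyUnramified (pullback.snd f g); infer_instance
  haveI : LocallyOfFiniteType Y''.hom := by
    show LocallyOfFiniteType (pullback.snd f g); infer_instance
  haveI : IsSeparated Y''.hom := by
    show IsSeparated (pullback.snd f g); infer_instance
  have hcl : IsClosed (Set.range (equalizer.ι α₁ α₂).left) :=
    (Groth.Agent.S0063.isClopen_range_equalizer α₁ α₂).1
  have hΔ1 : pullback.diagonal f ≫ pullback.fst f f = 𝟙 X := pullback.diagonal_fst f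
  have hΔ2 : pullback.diagonal f ≫ pullback.snd f f = 𝟙 X := pullback.diagonal_snd f
  have heq : ρ ⁻¹' Set.range (pullback.diagonal f) = Set.range (equalizer.ι α₁ α₂).left := by
    apply Set.Subset.antisymm
    · intro d' hd'
      apply Groth.Agent.S0063.mem_range_equalizer α₁ α₂ d'
      have hrange : Set.range (X''.left.fromSpecResidueField d' ≫ ρ) ⊆
          Set.range (pullback.diagonal f) := by
        rintro _ ⟨t, rfl⟩
        rw [Scheme.Hom.comp_apply]
        have : X''.left.fromSpecResidueField d' t ∈
            Set.range (X''.left.fromSpecResidueField d') := ⟨_, rfl⟩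
        rw [Scheme.range_fromSpecResidueField] at this
        rw [this]
        exact hd'
      have hfac : IsOpenImmersion.lift (pullback.diagonal f)
          (X''.left.fromSpecResidueField d' ≫ ρ) hrange ≫ pullback.diagonal f =
          X''.left.fromSpecResidueField d' ≫ ρ := IsOpenImmersion.lift_fac _ _ _
      have h12 : X''.left.fromSpecResidueField d' ≫ ρ ≫ pullback.fst f f =
          X''.left.fromSpecResidueField d' ≫ ρ ≫ pullback.snd f f := by
        have e1 : (X''.left.fromSpecResidueField d' ≫ ρ) ≫ pullback.fst f f =
            IsOpenImmersion.lift (pullback.diagonal f)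
              (X''.left.fromSpecResidueField d' ≫ ρ) hrange :=
          calc (X''.left.fromSpecResidueField d' ≫ ρ) ≫ pullback.fst f f
              = (IsOpenImmersion.lift (pullback.diagonal f)
                  (X''.left.fromSpecResidueField d' ≫ ρ) hrange ≫ pullback.diagonal f) ≫
                  pullback.fst f f := congrArg (· ≫ pullback.fst f f) hfac.symm
            _ = _ := by rw [Category.assoc, hΔ1, Category.comp_id]
        have e2 : (X''.left.fromSpecResidueField d' ≫ ρ) ≫ pullback.snd f f =
            IsOpenImmersion.lift (pullback.diagonal f)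
              (X''.left.fromSpecResidueField d' ≫ ρ) hrange :=
          calc (X''.left.fromSpecResidueField d' ≫ ρ) ≫ pullback.snd f f
              = (IsOpenImmersion.lift (pullback.diagonal f)
                  (X''.left.fromSpecResidueField d' ≫ ρ) hrange ≫ pullback.diagonal f) ≫
                  pullback.snd f f := congrArg (· ≫ pullback.snd f f) hfac.symm
            _ = _ := by rw [Category.assoc, hΔ2, Category.comp_id]
        calc X''.left.fromSpecResidueField d' ≫ ρ ≫ pullback.fst f f
            = (X''.left.fromSpecResidueField d' ≫ ρ) ≫ pullback.fst f f :=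
              (Category.assoc _ _ _).symm
          _ = (X''.left.fromSpecResidueField d' ≫ ρ) ≫ pullback.snd f f := e1.trans e2.symm
          _ = _ := Category.assoc _ _ _
      show X''.left.fromSpecResidueField d' ≫ a₁ = X''.left.fromSpecResidueField d' ≫ a₂
      apply pullback.hom_ext
      · rw [Category.assoc, Category.assoc, pullback.lift_fst, pullback.lift_fst]
        exact h12
      · rw [Category.assoc, Category.assoc, pullback.lift_snd, pullback.lift_snd]
    · rintro _ ⟨t, rfl⟩
      have hc : (equalizer.ι α₁ α₂).left ≫ a₁ = (equalizer.ι α₁ α₂).left ≫ a₂ :=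
        congrArg CommaMorphism.left (equalizer.condition α₁ α₂)
      have h12 : (equalizer.ι α₁ α₂).left ≫ ρ ≫ pullback.fst f f =
          (equalizer.ι α₁ α₂).left ≫ ρ ≫ pullback.snd f f := by
        have e1 : a₁ ≫ pullback.fst f g = ρ ≫ pullback.fst f f := pullback.lift_fst _ _ _
        have e2 : a₂ ≫ pullback.fst f g = ρ ≫ pullback.snd f f := pullback.lift_fst _ _ _
        rw [← e1, ← e2, ← Category.assoc, hc, Category.assoc]
      have hfac : (equalizer.ι α₁ α₂).left ≫ ρ =
          ((equalizer.ι α₁ α₂).left ≫ ρ ≫ pullback.fst f f) ≫ pullback.diagonal f := by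
        apply pullback.hom_ext
        · rw [Category.assoc, Category.assoc, Category.assoc, hΔ1, Category.comp_id]
        · rw [Category.assoc, Category.assoc, Category.assoc, hΔ2, Category.comp_id]
          exact h12.symm
      show ρ ((equalizer.ι α₁ α₂).left t) ∈ Set.range (pullback.diagonal f)
      rw [← Scheme.Hom.comp_apply, hfac, Scheme.Hom.comp_apply]
      exact ⟨_, rfl⟩
  rw [heq]
  exact hcl

/-- Finiteness of an étale morphism descends along universally submersive morphisms. -/
theorem isFinite_of_baseChange {X S S' : Scheme.{u}} (g : S' ⟶ S)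
    (hg : MorphismProperty.universally
      (AlgebraicGeometry.topologically fun f => Topology.IsQuotientMap f) g)
    (f : X ⟶ S) [Etale f] [IsFinite (pullback.snd f g)] : IsFinite f := by
  haveI := universallyClosed_of_baseChange g hg f
  haveI := isSeparated_of_baseChange g hg f
  haveI := locallyQuasiFinite_of_etale f
  haveI : IsProper f := {}
  exact IsFinite.of_isProper_of_locallyQuasiFinite f

end Groth.Agent.Lib.Helper10.EtSubm3
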