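import Mathlib
import Groth.Agent.Lib.Helper10.FEtGraph
import Groth.Agent.S0063

/-!
# Etale schemes and thickenings: concrete full faithfulness of base change along a universal
homeomorphism, for etale (not necessarily finite or separated) schemes.
-/

set_option autoImplicit false
universe u
open CategoryTheory CategoryTheory.Limits AlgebraicGeometry

namespace Groth.Agent.Lib.Helper10.EtThick

/-- Two morphisms over `S` into an unramified `S`-scheme which agree after composition with a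
surjective morphism are equal. -/
theorem hom_ext_of_surjective {S Z₁ Z₂ W : Scheme.{u}} (z₁ : Z₁ ⟶ S) (z₂ : Z₂ ⟶ S)
    [FormallyUnramified z₂] [LocallyOfFiniteType z₂]
    (π : W ⟶ Z₁) [Surjective π] (t t' : Z₁ ⟶ Z₂) (ht : t ≫ z₂ = z₁) (ht' : t' ≫ z₂ = z₁)
    (h : π ≫ t = π ≫ t') : t = t' := by
  let X' : Over S := Over.mk z₁
  let Y' : Over S := Over.mk z₂
  haveI : FormallyUnramified Y'.hom := ‹FormallyUnramified z₂›
  haveI : LocallyOfFiniteType Y'.hom := ‹LocallyOfFiniteType z₂›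
  let f' : X' ⟶ Y' := Over.homMk t ht
  let g' : X' ⟶ Y' := Over.homMk t' ht'
  have key : f'.left = g'.left := by
    apply Groth.Agent.S0063.eq_of_range_equalizer_eq_univ f' g'
    let W' : Over S := Over.mk (π ≫ z₁)
    let π' : W' ⟶ X' := Over.homMk π rfl
    have hπ : π' ≫ f' = π' ≫ g' := by
      ext1
      exact h
    rw [Set.eq_univ_iff_forall]
    intro x
    obtain ⟨w, rfl⟩ := π.surjective x
    refine ⟨(equalizer.lift π' hπ).left w, ?_⟩
    rw [← Scheme.Hom.comp_apply, ← Over.comp_left, equalizer.lift_ι]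
    rfl
  exact key

/-- Existence of lifts of morphisms along a universal homeomorphism, with etale target. -/
theorem exists_lift_of_etale {S₀ S : Scheme.{u}} (f : S₀ ⟶ S) [IsIntegralHom f]
    [UniversallyInjective f] [Surjective f]
    {Z₁ Z₂ : Scheme.{u}} (z₁ : Z₁ ⟶ S) (z₂ : Z₂ ⟶ S) [Etale z₂]
    (ψ : pullback z₁ f ⟶ pullback z₂ f) (hψ : ψ ≫ pullback.snd z₂ f = pullback.snd z₁ f) :
    ∃ t : Z₁ ⟶ Z₂, t ≫ z₂ = z₁ ∧ pullback.fst z₁ f ≫ t = ψ ≫ pullback.fst z₂ f := by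
  haveI : UniversallyInjective (pullback.fst z₁ f) :=
    (UniversallyInjective.isStableUnderBaseChange).of_isPullback
      (IsPullback.of_hasPullback z₁ f).flip inferInstance
  let γ : pullback z₁ f ⟶ pullback z₁ z₂ :=
    pullback.lift (pullback.fst z₁ f) (ψ ≫ pullback.fst z₂ f) (by
      rw [Category.assoc, pullback.condition (f := z₂) (g := f), ← Category.assoc, hψ,
        pullback.condition])
  have hγ : γ ≫ pullback.fst z₁ z₂ = pullback.fst z₁ f := pullback.lift_fst _ _ _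
  have hγ2 : γ ≫ pullback.snd z₁ z₂ = ψ ≫ pullback.fst z₂ f := pullback.lift_snd _ _ _
  haveI hF3 : UniversallyInjective (pullback.fst (pullback.fst z₁ z₂) (pullback.fst z₁ f)) :=
    (UniversallyInjective.isStableUnderBaseChange).of_isPullback
      (IsPullback.of_hasPullback (pullback.fst z₁ z₂) (pullback.fst z₁ f)).flip inferInstance
  have hs' : (pullback.lift γ (𝟙 _) (by rw [hγ, Category.id_comp]) :
      pullback z₁ f ⟶ pullback (pullback.fst z₁ z₂) (pullback.fst z₁ f)) ≫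
      pullback.snd _ _ = 𝟙 _ := pullback.lift_snd _ _ _
  haveI hoi := Groth.Agent.Lib.Helper10.FEtGraph.isOpenImmersion_of_section _ _ hs'
  have hbij : Function.Bijective (pullback.fst (pullback.fst z₁ z₂) (pullback.fst z₁ f)) :=
    ⟨Scheme.Hom.injective _, Scheme.Hom.surjective _⟩
  have hopen : IsOpen ((pullback.fst (pullback.fst z₁ z₂) (pullback.fst z₁ f)) '' Set.range
      (pullback.lift γ (𝟙 _) (by rw [hγ, Category.id_comp]) :
      pullback z₁ f ⟶ pullback (pullback.fst z₁ z₂) (pullback.fst z₁ f))) := by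
    rw [← isClosed_compl_iff, ← Set.image_compl_eq hbij]
    apply Scheme.Hom.isClosedMap
    rw [isClosed_compl_iff]
    exact (Scheme.Hom.isOpenEmbedding _).isOpen_range
  obtain ⟨σ, hσ1, hσ2⟩ := Groth.Agent.Lib.Helper10.FEtGraph.exists_section_of_opens z₁ z₂
    (pullback.fst z₁ f) γ hγ ⟨_, hopen⟩ (Set.preimage_image_eq _ hbij.1)
  refine ⟨σ ≫ pullback.snd z₁ z₂, ?_, ?_⟩
  · rw [Category.assoc, ← pullback.condition, ← Category.assoc, hσ1]
    exact Category.id_comp _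
  · rw [← Category.assoc, hσ2, hγ2]

/-- Concrete full faithfulness of base change of etale schemes along a universal homeomorphism. -/
theorem existsUnique_lift {S₀ S : Scheme.{u}} (f : S₀ ⟶ S) [IsIntegralHom f]
    [UniversallyInjective f] [Surjective f]
    {Z₁ Z₂ W₁ W₂ : Scheme.{u}} (z₁ : Z₁ ⟶ S) (z₂ : Z₂ ⟶ S) [Etale z₂]
    (a₁ : W₁ ⟶ Z₁) (y₁ : W₁ ⟶ S₀) (a₂ : W₂ ⟶ Z₂) (y₂ : W₂ ⟶ S₀)
    (h₁ : IsPullback a₁ y₁ z₁ f) (h₂ : IsPullback a₂ y₂ z₂ f) (g : W₁ ⟶ W₂) (hg : g ≫ y₂ = y₁) :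
    ∃! t : Z₁ ⟶ Z₂, t ≫ z₂ = z₁ ∧ a₁ ≫ t = g ≫ a₂ := by
  obtain ⟨e₁, e1f, e1s⟩ : ∃ e : W₁ ≅ pullback z₁ f, e.hom ≫ pullback.fst z₁ f = a₁ ∧
      e.hom ≫ pullback.snd z₁ f = y₁ :=
    ⟨h₁.isoPullback, h₁.isoPullback_hom_fst, h₁.isoPullback_hom_snd⟩
  obtain ⟨e₂, e2f, e2s⟩ : ∃ e : W₂ ≅ pullback z₂ f, e.hom ≫ pullback.fst z₂ f = a₂ ∧
      e.hom ≫ pullback.snd z₂ f = y₂ :=
    ⟨h₂.isoPullback, h₂.isoPullback_hom_fst, h₂.isoPullback_hom_snd⟩
  have e1s' : pullback.snd z₁ f = e₁.inv ≫ y₁ := by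
    rw [← e1s, Iso.inv_hom_id_assoc]
  obtain ⟨t, ht1, ht2⟩ := exists_lift_of_etale f z₁ z₂ (e₁.inv ≫ g ≫ e₂.hom) (by
    simp only [Category.assoc]
    rw [e2s, hg, e1s'])
  haveI : Surjective a₁ := MorphismProperty.of_isPullback (P := @Surjective) h₁.flip inferInstance
  refine ⟨t, ⟨ht1, ?_⟩, ?_⟩
  · rw [← e1f, Category.assoc, ht2]
    simp only [Category.assoc]
    rw [Iso.hom_inv_id_assoc, e2f]
  · rintro t' ⟨ht'1, ht'2⟩
    refine hom_ext_of_surjective z₁ z₂ a₁ t' t ht'1 ht1 ?_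
    rw [ht'2, ← e1f, Category.assoc, ht2]
    simp only [Category.assoc]
    rw [Iso.hom_inv_id_assoc, e2f]

/-- An etale morphism whose base change along a surjective morphism is universally injective is an
open immersion. -/
theorem isOpenImmersion_of_isPullback {Z₁ Z₂ W₁ W₂ : Scheme.{u}} (t : Z₁ ⟶ Z₂) [Etale t]
    (a₂ : W₂ ⟶ Z₂) [Surjective a₂] (g : W₁ ⟶ W₂) (a₁ : W₁ ⟶ Z₁) (hsq : IsPullback g a₁ a₂ t)
    [UniversallyInjective g] : IsOpenImmersion t := by
  have hq_ui : UniversallyInjective t :=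
    MorphismProperty.of_isPullback_of_descendsAlong (P := @UniversallyInjective)
      (Q := @Surjective) hsq inferInstance inferInstance
  haveI : IsIso (pullback.diagonal t) := by
    haveI : Surjective (pullback.diagonal t) := (UniversallyInjective.iff_diagonal t).mp hq_ui
    apply isIso_of_isOpenImmersion_of_opensRange_eq_top
    ext x
    simpa using (pullback.diagonal t).surjective x
  haveI : Mono t := (pullback.isIso_diagonal_iff t).mp inferInstance
  exact IsOpenImmersion.of_flat_of_mono t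

/-- The transition map between two lifts is an open immersion when the map downstairs is. -/
theorem isOpenImmersion_lift {S₀ S : Scheme.{u}} (f : S₀ ⟶ S) [Surjective f]
    {Z₁ Z₂ W₁ W₂ : Scheme.{u}} (z₁ : Z₁ ⟶ S) (z₂ : Z₂ ⟶ S) [Etale z₁] [Etale z₂]
    (a₁ : W₁ ⟶ Z₁) (y₁ : W₁ ⟶ S₀) (a₂ : W₂ ⟶ Z₂) (y₂ : W₂ ⟶ S₀)
    (h₁ : IsPullback a₁ y₁ z₁ f) (h₂ : IsPullback a₂ y₂ z₂ f) (g : W₁ ⟶ W₂) (hg : g ≫ y₂ = y₁)
    [UniversallyInjective g]
    (t : Z₁ ⟶ Z₂) (ht1 : t ≫ z₂ = z₁) (ht2 : a₁ ≫ t = g ≫ a₂) : IsOpenImmersion t := by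
  haveI : Etale (t ≫ z₂) := by rw [ht1]; infer_instance
  haveI : Etale t := Etale.of_comp t z₂
  haveI : Surjective a₂ := MorphismProperty.of_isPullback (P := @Surjective) h₂.flip inferInstance
  have hsq : IsPullback a₁ g t a₂ := by
    refine IsPullback.of_bot ?_ ht2 h₂
    rw [hg, ht1]
    exact h₁
  exact isOpenImmersion_of_isPullback t a₂ g a₁ hsq.flip

end Groth.Agent.Lib.Helper10.EtThick
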