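import Mathlib

/-!
# Lifting standard etale algebras along surjections with nil kernel
-/

set_option autoImplicit false
universe u
open scoped TensorProduct

namespace Groth.Agent.Lib.Helper10.EtThick

open Polynomial in
/-- Standard etale pairs lift along surjections with nil kernel. -/
theorem exists_pair_lift {A A₀ : Type u} [CommRing A] [CommRing A₀] (φ : A →+* A₀)
    (hsurj : Function.Surjective φ) (hI : ∀ x, φ x = 0 → IsNilpotent x)
    (Pb : StandardEtalePair A₀) :
    ∃ P : StandardEtalePair A, P.map φ = Pb := by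
  obtain ⟨fb, hm, gb, ⟨p1b, p2b, n, hc⟩⟩ := Pb
  obtain ⟨f, hf, -, hfm⟩ := Polynomial.lifts_and_natDegree_eq_and_monic
    ((Polynomial.mem_lifts fb).mpr (Polynomial.map_surjective _ hsurj fb)) hm
  obtain ⟨g, hg⟩ := Polynomial.map_surjective _ hsurj gb
  obtain ⟨p1, hp1⟩ := Polynomial.map_surjective _ hsurj p1b
  obtain ⟨p2, hp2⟩ := Polynomial.map_surjective _ hsurj p2b
  subst hf hg hp1 hp2
  set ε : A[X] := derivative f * p1 + f * p2 - g ^ n with hε
  have hε0 : ε.map φ = 0 := by
    simp only [hε, Polynomial.map_sub, Polynomial.map_add, Polynomial.map_mul, Polynomial.map_pow,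
      ← Polynomial.derivative_map]
    rw [hc, sub_self]
  have hεn : IsNilpotent ε := by
    rw [Polynomial.isNilpotent_iff]
    intro k
    apply hI
    rw [← Polynomial.coeff_map, hε0, Polynomial.coeff_zero]
  obtain ⟨m, hm0⟩ := hεn
  obtain ⟨q, hq⟩ := sub_dvd_pow_sub_pow (g ^ n) (-ε) m
  have hu : g ^ n - -ε = derivative f * p1 + f * p2 := by
    rw [hε]; ring
  have hneg : (-ε) ^ m = 0 := by
    rw [neg_pow, hm0, mul_zero]
  rw [hu, hneg, sub_zero] at hq
  refine ⟨⟨f, hfm, g, ⟨p1 * q, p2 * q, n * m, ?_⟩⟩, rfl⟩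
  rw [pow_mul, hq]
  ring

/-- Transport of the standard etale algebra along an equality of pairs. -/
noncomputable def ringEquivOfEq {R : Type u} [CommRing R] {P Q : StandardEtalePair R}
    (h : P = Q) : P.Ring ≃ₐ[R] Q.Ring := by
  subst h
  exact AlgEquiv.refl

/-- Standard etale algebras lift along surjections with nil kernel. -/
theorem exists_lift_of_isStandardEtale (A A₀ : Type u) [CommRing A] [CommRing A₀] [Algebra A A₀]
    (hsurj : Function.Surjective (algebraMap A A₀))
    (hI : ∀ x, algebraMap A A₀ x = 0 → IsNilpotent x) (B : Type u) [CommRing B] [Algebra A₀ B]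
    [Algebra.IsStandardEtale A₀ B] :
    ∃ (B' : Type u) (_ : CommRing B') (_ : Algebra A B'), Algebra.Etale A B' ∧
      Nonempty (A₀ ⊗[A] B' ≃ₐ[A₀] B) := by
  let Pres : StandardEtalePresentation A₀ B :=
    Algebra.IsStandardEtale.nonempty_standardEtalePresentation.some
  obtain ⟨P, hP⟩ := exists_pair_lift (algebraMap A A₀) hsurj hI Pres.P
  refine ⟨P.Ring, inferInstance, inferInstance, inferInstance, ⟨?_⟩⟩
  let P0 : StandardEtalePresentation A P.Ring :=
    ⟨P, P.X, P.hasMap_X, by simpa [StandardEtalePair.lift_X_left] using Function.bijective_id⟩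
  let e1 : A₀ ⊗[A] P.Ring ≃ₐ[A₀] (P.map (algebraMap A A₀)).Ring :=
    (P0.baseChange (T := A₀)).equivRing
  exact (e1.trans (ringEquivOfEq hP)).trans Pres.equivRing.symm

end Groth.Agent.Lib.Helper10.EtThick
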