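import Mathlib
import Groth.Agent.Lib.Helper10.EtThick2

/-!
# Etale schemes and thickenings: local lifts
-/

set_option autoImplicit false
universe u
open CategoryTheory CategoryTheory.Limits AlgebraicGeometry
open scoped TensorProduct

namespace Groth.Agent.Lib.Helper10.EtThick

/-- Spec-level lifting of a standard etale algebra along a surjection with nil kernel. -/
theorem exists_lift_Spec {A A₀ B : CommRingCat.{u}} (φ : A ⟶ A₀)
    (hφ : Function.Surjective φ.hom) (hnil : ∀ x, φ.hom x = 0 → IsNilpotent x) (ψ : A₀ ⟶ B)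
    (hψ : ∃ (C : Type u) (_ : CommRing C) (_ : Algebra A₀ C) (_ : Algebra.IsStandardEtale A₀ C)
      (e : C ≃+* B), ∀ r, e (algebraMap A₀ C r) = ψ.hom r) :
    ∃ (Z : Scheme.{u}) (z : Z ⟶ Spec A) (a : Spec B ⟶ Z), Etale z ∧
      IsPullback a (Spec.map ψ) z (Spec.map φ) := by
  obtain ⟨C, _, _, _, e, he⟩ := hψ
  algebraize [φ.hom]
  obtain ⟨B', _, _, hEt, ⟨ε⟩⟩ := exists_lift_of_isStandardEtale A A₀ hφ hnil C
  let θ : A₀ ⊗[A] B' ≃+* B := ε.toRingEquiv.trans e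
  have hθ1 : ∀ r : A₀, θ (r ⊗ₜ[A] (1 : B')) = ψ.hom r := by
    intro r
    have h1 : ε (r ⊗ₜ[A] (1 : B')) = algebraMap A₀ C r := by
      rw [← ε.commutes r]
      rfl
    change e (ε (r ⊗ₜ[A] (1 : B'))) = _
    rw [h1, he]
  let β : CommRingCat.of B' ⟶ B :=
    CommRingCat.ofHom (θ.toRingHom.comp Algebra.TensorProduct.includeRight.toRingHom)
  have hpo : IsPushout (CommRingCat.ofHom (algebraMap A A₀)) (CommRingCat.ofHom (algebraMap A B'))
      ψ β := by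
    refine (CommRingCat.isPushout_tensorProduct A A₀ B').of_iso (Iso.refl _) (Iso.refl _)
      (Iso.refl _) θ.toCommRingCatIso ?_ ?_ ?_ ?_
    · simp
    · simp
    · ext r
      simp only [Iso.refl_hom, Category.id_comp]
      exact hθ1 r
    · ext r
      simp only [Iso.refl_hom, Category.id_comp]
      rfl
  have hφ' : CommRingCat.ofHom (algebraMap A A₀) = φ := rfl
  rw [hφ'] at hpo
  refine ⟨Spec (CommRingCat.of B'), Spec.map (CommRingCat.ofHom (algebraMap A B')), Spec.map β,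
    ?_, ?_⟩
  · rw [HasRingHomProperty.Spec_iff (P := @Etale)]
    exact RingHom.etale_algebraMap.mpr hEt
  · exact (isPullback_SpecMap_of_isPushout _ _ _ _ hpo).flip

/-- Sections in the kernel of a surjective (on points) morphism are nilpotent. -/
theorem isNilpotent_of_app_eq_zero {S₀ S : Scheme.{u}} (i : S₀ ⟶ S) [Surjective i]
    {V : S.Opens} (hV : IsAffineOpen V) (x : Γ(S, V)) (hx : (i.app V).hom x = 0) :
    IsNilpotent x := by
  rw [Scheme.isNilpotent_iff_basicOpen_eq_bot_of_isCompact hV.isCompact]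
  have h1 : i ⁻¹ᵁ S.basicOpen x = ⊥ := by
    rw [Scheme.preimage_basicOpen]
    have : (i.app V) x = 0 := hx
    rw [this, Scheme.basicOpen_zero]
  ext s
  simp only [TopologicalSpace.Opens.coe_bot, Set.mem_empty_iff_false, iff_false]
  intro hs
  obtain ⟨s₀, rfl⟩ := i.surjective s
  have : s₀ ∈ i ⁻¹ᵁ S.basicOpen x := hs
  rw [h1] at this
  exact this

variable {S₀ S : Scheme.{u}} (i : S₀ ⟶ S) {Y : Scheme.{u}} (y : Y ⟶ S₀)

/-- A lift of (the restriction along `j` of) the etale `S₀`-scheme `Y` to an etale `S`-scheme. -/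
def Lift {T : Scheme.{u}} (j : T ⟶ Y) : Prop :=
  ∃ (Z : Scheme.{u}) (z : Z ⟶ S) (a : T ⟶ Z), Etale z ∧ IsPullback a (j ≫ y) z i

/-- Local existence of lifts. -/
theorem exists_lift_nhd [IsClosedImmersion i] [Surjective i] [Etale y] (p : Y) :
    ∃ W : Y.Opens, p ∈ W ∧ Lift i y W.ι := by
  obtain ⟨V, hV, hpV, -⟩ := TopologicalSpace.Opens.isBasis_iff_nbhd.mp S.isBasis_affineOpens
    (show i (y p) ∈ (⊤ : S.Opens) from trivial)
  have hV₀ : IsAffineOpen (i ⁻¹ᵁ V) := hV.preimage i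
  obtain ⟨U₀, hU₀, hpU₀, hU₀le⟩ := TopologicalSpace.Opens.isBasis_iff_nbhd.mp
    Y.isBasis_affineOpens (show p ∈ y ⁻¹ᵁ (i ⁻¹ᵁ V) from hpV)
  have hψ₀ : (y.appLE (i ⁻¹ᵁ V) U₀ hU₀le).hom.Etale :=
    HasRingHomProperty.appLE (P := @Etale) y inferInstance ⟨_, hV₀⟩ ⟨_, hU₀⟩ hU₀le
  algebraize [(y.appLE (i ⁻¹ᵁ V) U₀ hU₀le).hom]
  let q : PrimeSpectrum Γ(Y, U₀) := hU₀.primeIdealOf ⟨p, hpU₀⟩
  haveI : Algebra.IsEtaleAt Γ(S₀, i ⁻¹ᵁ V) q.asIdeal := by
    have h1 : q ∈ Algebra.etaleLocus Γ(S₀, i ⁻¹ᵁ V) Γ(Y, U₀) := by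
      rw [Algebra.etaleLocus_eq_univ_iff.mpr inferInstance]
      trivial
    exact h1
  obtain ⟨f, hfq, hstd⟩ := Algebra.IsEtaleAt.exists_isStandardEtale (R := Γ(S₀, i ⁻¹ᵁ V)) q.asIdeal
  have hW : IsAffineOpen (Y.basicOpen f) := hU₀.basicOpen f
  have hWle : Y.basicOpen f ≤ U₀ := Y.basicOpen_le f
  have hpW : p ∈ Y.basicOpen f := by
    have h1 : hU₀.fromSpec q = p := hU₀.fromSpec_primeIdealOf ⟨p, hpU₀⟩
    have h2 : q ∈ hU₀.fromSpec ⁻¹ᵁ Y.basicOpen f := by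
      rw [hU₀.fromSpec_preimage_basicOpen]
      exact hfq
    rw [← h1]
    exact h2
  refine ⟨Y.basicOpen f, hpW, ?_⟩
  haveI hloc := hU₀.isLocalization_basicOpen f
  let e : Localization.Away f ≃ₐ[Γ(Y, U₀)] Γ(Y, Y.basicOpen f) :=
    IsLocalization.algEquiv (Submonoid.powers f) _ _
  obtain ⟨Z, z, a, hz, hpb⟩ := exists_lift_Spec (i.app V) (i.app_surjective V hV)
    (fun x hx => isNilpotent_of_app_eq_zero i hV x hx)
    (y.appLE (i ⁻¹ᵁ V) (Y.basicOpen f) (hWle.trans hU₀le))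
    ⟨Localization.Away f, inferInstance, inferInstance, hstd, e.toRingEquiv, by
      intro r
      rw [IsScalarTower.algebraMap_apply Γ(S₀, i ⁻¹ᵁ V) Γ(Y, U₀) (Localization.Away f)]
      change e (algebraMap Γ(Y, U₀) (Localization.Away f) _) = _
      rw [e.commutes]
      change (Y.presheaf.map (homOfLE hWle).op).hom ((y.appLE (i ⁻¹ᵁ V) U₀ hU₀le).hom r) = _
      rw [← CommRingCat.comp_apply, Scheme.Hom.appLE_map]⟩
  haveI := hV.isOpenImmersion_fromSpec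
  haveI := hV₀.isOpenImmersion_fromSpec
  have hsq : IsPullback (Spec.map (i.app V)) hV₀.fromSpec hV.fromSpec i := by
    refine IsOpenImmersion.isPullback _ _ _ _ ?_ ?_
    · rw [← Scheme.Hom.appLE_eq_app, IsAffineOpen.SpecMap_appLE_fromSpec i hV hV₀ le_rfl]
    · rw [hV.opensRange_fromSpec, hV₀.opensRange_fromSpec]
  have hbig := hpb.paste_vert hsq
  rw [IsAffineOpen.SpecMap_appLE_fromSpec y hV₀ hW (hWle.trans hU₀le)] at hbig
  -- transport along the iso `Spec Γ(Y, W) ≅ W`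
  haveI : IsAffine (Y.basicOpen f : Scheme.{u}) := hW
  refine ⟨Z, z ≫ hV.fromSpec, hW.isoSpec.hom ≫ a, inferInstance, ?_⟩
  refine hbig.of_iso hW.isoSpec.symm (Iso.refl _) (Iso.refl _) (Iso.refl _) ?_ ?_ ?_ ?_
  · simp
  · rw [Iso.refl_hom, Category.comp_id, Iso.symm_hom, ← Category.assoc,
      IsAffineOpen.isoSpec_inv_ι]
  · simp
  · simp

end Groth.Agent.Lib.Helper10.EtThick
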