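import Mathlib
import Groth.Agent.Lib.Helper10.UnivThick5

/-!
# Abstract gluing of local "thickenings" of a scheme along a basis of good opens

Given a scheme `Z`, a downward closed covering family of good opens, for each good open `V` a
scheme `thk V` with a morphism `inc V : V ⟶ thk V` which is bijective on points, and functorial
transition open immersions compatible with the `inc V`, we glue the `thk V` to a scheme `glued`
with a morphism `Z ⟶ glued` restricting to the `inc V`.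
-/

set_option autoImplicit false
universe u
open CategoryTheory CategoryTheory.Limits AlgebraicGeometry

namespace Groth.Agent.Lib.Helper10.ThkGlue

/-- The data to be glued. -/
structure Data (Z : Scheme.{u}) where
  Good : Z.Opens → Prop
  cov : ∀ z : Z, ∃ V : Z.Opens, z ∈ V ∧ Good V
  of_le : ∀ {V W : Z.Opens}, Good W → V ≤ W → Good V
  thk : {V : Z.Opens // Good V} → Scheme.{u}
  inc : ∀ V : {V : Z.Opens // Good V}, (V.1 : Scheme.{u}) ⟶ thk V
  inc_bij : ∀ V : {V : Z.Opens // Good V}, Function.Bijective (inc V)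
  tr : ∀ {V W : {V : Z.Opens // Good V}}, V.1 ≤ W.1 → (thk V ⟶ thk W)
  tr_id : ∀ V : {V : Z.Opens // Good V}, tr (le_refl V.1) = 𝟙 _
  tr_comp : ∀ {V W U : {V : Z.Opens // Good V}} (h1 : V.1 ≤ W.1) (h2 : W.1 ≤ U.1),
    tr h1 ≫ tr h2 = tr (h1.trans h2)
  inc_tr : ∀ {V W : {V : Z.Opens // Good V}} (h : V.1 ≤ W.1),
    inc V ≫ tr h = Z.homOfLE h ≫ inc W
  tr_open : ∀ {V W : {V : Z.Opens // Good V}} (h : V.1 ≤ W.1), IsOpenImmersion (tr h)

namespace Data

variable {Z : Scheme.{u}} (D : Data Z)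

/-- The index category: good opens. -/
abbrev J : Type u := {V : Z.Opens // D.Good V}

theorem isBasis_good : TopologicalSpace.Opens.IsBasis {V : Z.Opens | D.Good V} := by
  rw [TopologicalSpace.Opens.isBasis_iff_nbhd]
  intro U z hz
  obtain ⟨V, hzV, hV⟩ := D.cov z
  exact ⟨V ⊓ U, D.of_le hV inf_le_left, ⟨hzV, hz⟩, inf_le_right⟩

/-- The diagram of local pieces. -/
noncomputable def F : D.J ⥤ Scheme.{u} where
  obj := D.thk
  map f := D.tr (leOfHom f)
  map_id V := D.tr_id V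
  map_comp f g := (D.tr_comp (leOfHom f) (leOfHom g)).symm

instance isOpenImmersion_F_map {V W : D.J} (f : V ⟶ W) : IsOpenImmersion (D.F.map f) :=
  D.tr_open (leOfHom f)

theorem tr_inc_apply {V W : D.J} (hVW : V.1 ≤ W.1) (z : (V.1 : Scheme.{u})) :
    D.tr hVW (D.inc V z) = D.inc W (Z.homOfLE hVW z) := by
  rw [← Scheme.Hom.comp_apply, D.inc_tr hVW]
  rfl

instance isLocallyDirected_F : (D.F ⋙ Scheme.forget).IsLocallyDirected where
  cond {V₁ V₂ W} f₁ f₂ x₁ x₂ hx := by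
    change D.tr (leOfHom f₁) x₁ = D.tr (leOfHom f₂) x₂ at hx
    obtain ⟨z₁, rfl⟩ := (D.inc_bij V₁).2 x₁
    obtain ⟨z₂, rfl⟩ := (D.inc_bij V₂).2 x₂
    rw [tr_inc_apply, tr_inc_apply] at hx
    have hz := (D.inc_bij W).1 hx
    have hz' : V₁.1.ι z₁ = V₂.1.ι z₂ := by
      have := congrArg (fun w => W.1.ι w) hz
      simp only [← Scheme.Hom.comp_apply, Scheme.homOfLE_ι] at this
      exact this
    let V₃ : D.J := ⟨V₁.1 ⊓ V₂.1, D.of_le V₁.2 inf_le_left⟩
    have hmem : V₁.1.ι z₁ ∈ V₃.1 := ⟨z₁.2, hz' ▸ z₂.2⟩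
    let z₃ : (V₃.1 : Scheme.{u}) := ⟨V₁.1.ι z₁, hmem⟩
    refine ⟨V₃, homOfLE (show V₃.1 ≤ V₁.1 from inf_le_left),
      homOfLE (show V₃.1 ≤ V₂.1 from inf_le_right), D.inc V₃ z₃, ?_, ?_⟩
    · change D.tr _ (D.inc V₃ z₃) = D.inc V₁ z₁
      rw [tr_inc_apply]
      congr 1
      apply V₁.1.ι.isOpenEmbedding.injective
      rw [← Scheme.Hom.comp_apply, Scheme.homOfLE_ι]
      rfl
    · change D.tr _ (D.inc V₃ z₃) = D.inc V₂ z₂
      rw [tr_inc_apply]
      congr 1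
      apply V₂.1.ι.isOpenEmbedding.injective
      rw [← Scheme.Hom.comp_apply, Scheme.homOfLE_ι, ← hz']
      rfl

/-- The glued scheme. -/
noncomputable abbrev glued : Scheme.{u} := colimit D.F

/-- The inclusion of a local piece. -/
noncomputable abbrev ιV (V : D.J) : D.thk V ⟶ D.glued := colimit.ι D.F V

instance isOpenImmersion_ιV (V : D.J) : IsOpenImmersion (D.ιV V) :=
  inferInstanceAs (IsOpenImmersion (colimit.ι D.F V))

theorem tr_ιV {V W : D.J} (hVW : V.1 ≤ W.1) : D.tr hVW ≫ D.ιV W = D.ιV V :=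
  colimit.w D.F (homOfLE hVW)

/-- Gluing morphisms out of the glued scheme. -/
theorem exists_desc {T : Scheme.{u}} (s : ∀ V : D.J, D.thk V ⟶ T)
    (hs : ∀ {V W : D.J} (h : V.1 ≤ W.1), D.tr h ≫ s W = s V) :
    ∃ g : D.glued ⟶ T, ∀ V : D.J, D.ιV V ≫ g = s V := by
  refine ⟨colimit.desc D.F ⟨T, ⟨fun V => s V, ?_⟩⟩, fun V => colimit.ι_desc _ V⟩
  intro V W f
  simp only [Functor.const_obj_obj, Functor.const_obj_map, Category.comp_id]
  exact hs (leOfHom f)

theorem exists_ginc :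
    ∃ i : Z ⟶ D.glued, ∀ V : D.J, V.1.ι ≫ i = D.inc V ≫ D.ιV V := by
  obtain ⟨a, ha⟩ := Groth.Agent.Lib.Helper10.UnivThick.exists_glue_of_isBasis
    {V : Z.Opens | D.Good V} D.isBasis_good
    (fun V => D.inc V ≫ D.ιV V) (by
      intro V W hle
      rw [← Category.assoc, ← D.inc_tr hle, Category.assoc, D.tr_ιV])
  exact ⟨a, ha⟩

variable (i : Z ⟶ D.glued) (hi : ∀ V : D.J, V.1.ι ≫ i = D.inc V ≫ D.ιV V)

include hi

theorem ginc_apply (V : D.J) (z : (V.1 : Scheme.{u})) : i (V.1.ι z) = D.ιV V (D.inc V z) := by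
  rw [← Scheme.Hom.comp_apply, hi V, Scheme.Hom.comp_apply]

theorem preimage_opensRange (V : D.J) : i ⁻¹ᵁ (D.ιV V).opensRange = V.1 := by
  ext z
  constructor
  · rintro ⟨y, hy⟩
    obtain ⟨W, hzW, hW⟩ := D.cov z
    have h1 : i z = D.ιV ⟨W, hW⟩ (D.inc ⟨W, hW⟩ ⟨z, hzW⟩) :=
      D.ginc_apply i hi ⟨W, hW⟩ ⟨z, hzW⟩
    rw [h1] at hy
    obtain ⟨k, fi, fj, x, hx1, hx2⟩ := (Scheme.IsLocallyDirected.ι_eq_ι_iff D.F).mp hy
    obtain ⟨z'', rfl⟩ := (D.inc_bij k).2 x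
    change D.tr (leOfHom fj) (D.inc k z'') = D.inc ⟨W, hW⟩ ⟨z, hzW⟩ at hx2
    rw [tr_inc_apply] at hx2
    have h2 := (D.inc_bij ⟨W, hW⟩).1 hx2
    have hz : k.1.ι z'' = z := by
      have := congrArg (fun w => W.ι w) h2
      simp only [← Scheme.Hom.comp_apply, Scheme.homOfLE_ι] at this
      exact this
    rw [← hz]
    exact leOfHom fi z''.2
  · intro hz
    exact ⟨D.inc V ⟨z, hz⟩, (D.ginc_apply i hi V ⟨z, hz⟩).symm⟩

theorem isPullback_ginc (V : D.J) : IsPullback (D.inc V) V.1.ι (D.ιV V) i := by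
  refine IsOpenImmersion.isPullback _ _ _ _ (hi V) ?_
  rw [Scheme.Opens.opensRange_ι]
  exact D.preimage_opensRange i hi V

theorem ginc_surjective : Function.Surjective i := by
  intro y
  obtain ⟨V, x, rfl⟩ := Scheme.IsLocallyDirected.ι_jointly_surjective D.F y
  obtain ⟨z, rfl⟩ := (D.inc_bij V).2 x
  exact ⟨V.1.ι z, D.ginc_apply i hi V z⟩

omit hi in
theorem hom_ext_of_good {T : Scheme.{u}} (a b : Z ⟶ T)
    (h : ∀ V : D.J, V.1.ι ≫ a = V.1.ι ≫ b) : a = b := by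
  have hc : TopologicalSpace.IsOpenCover (fun V : D.J => (V.1 : Z.Opens)) := by
    refine top_le_iff.mp fun z _ => ?_
    obtain ⟨V, hzV, hV⟩ := D.cov z
    exact TopologicalSpace.Opens.mem_iSup.mpr ⟨⟨V, hV⟩, hzV⟩
  exact Scheme.Cover.hom_ext (Z.openCoverOfIsOpenCover _ hc) _ _ fun V => h V

end Data

end Groth.Agent.Lib.Helper10.ThkGlue
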