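import Mathlib
import Groth.Agent.Lib.Helper10.EtThick1
import Groth.Agent.Lib.Helper10.EtThick3
import Groth.Agent.Lib.Helper10.ThkGlue

/-!
# Etale schemes and thickenings: gluing the local lifts
-/

set_option autoImplicit false
universe u
open CategoryTheory CategoryTheory.Limits AlgebraicGeometry

namespace Groth.Agent.Lib.Helper10.EtThick

variable {S₀ S : Scheme.{u}} (i : S₀ ⟶ S) {Y : Scheme.{u}} (y : Y ⟶ S₀)

variable {i y} in
theorem Lift.of_le [IsClosedImmersion i] [Surjective i] {V W : Y.Opens} (hW : Lift i y W.ι)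
    (hVW : V ≤ W) : Lift i y V.ι := by
  obtain ⟨Z, z, a, hz, hpb⟩ := hW
  haveI : IsClosedImmersion a :=
    MorphismProperty.of_isPullback (P := @IsClosedImmersion) hpb.flip inferInstance
  haveI : Surjective a := MorphismProperty.of_isPullback (P := @Surjective) hpb.flip inferInstance
  have hbij : Function.Bijective a := ⟨a.isClosedEmbedding.injective, a.surjective⟩
  have hopen : IsOpen (a '' (W.ι ⁻¹ᵁ V : Set ↑W)) := by
    rw [← isClosed_compl_iff, ← Set.image_compl_eq hbij]
    exact a.isClosedEmbedding.isClosedMap _ (isClosed_compl_iff.mpr (W.ι ⁻¹ᵁ V).isOpen)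
  let Z₁ : Z.Opens := ⟨_, hopen⟩
  have hpre : a ⁻¹ᵁ Z₁ = W.ι ⁻¹ᵁ V := by
    ext w
    exact hbij.1.mem_set_image
  have hrange : Set.range (Y.homOfLE hVW ≫ a) ⊆ Set.range Z₁.ι := by
    rintro _ ⟨v, rfl⟩
    rw [Scheme.Opens.range_ι]
    refine ⟨Y.homOfLE hVW v, ?_, rfl⟩
    change W.ι (Y.homOfLE hVW v) ∈ V
    rw [← Scheme.Hom.comp_apply, Scheme.homOfLE_ι]
    exact v.2
  let a' : (V : Scheme.{u}) ⟶ (Z₁ : Scheme.{u}) :=
    IsOpenImmersion.lift Z₁.ι (Y.homOfLE hVW ≫ a) hrange
  have ha' : a' ≫ Z₁.ι = Y.homOfLE hVW ≫ a := IsOpenImmersion.lift_fac _ _ _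
  have hsq : IsPullback a' (Y.homOfLE hVW) Z₁.ι a :=
    IsOpenImmersion.isPullback a' _ _ _ ha'.symm (by
      rw [Scheme.Opens.opensRange_ι, hpre, Scheme.opensRange_homOfLE])
  have hbig := hsq.paste_vert hpb
  rw [Scheme.homOfLE_ι_assoc] at hbig
  exact ⟨Z₁, Z₁.ι ≫ z, a', inferInstance, hbig⟩

variable [IsClosedImmersion i] [Surjective i]

/-- Good opens: those over which `Y` lifts. -/
abbrev GoodOpen : Type u := {V : Y.Opens // Lift i y V.ι}

/-- The chosen lift over a good open. -/
noncomputable def thk (V : GoodOpen i y) : Scheme.{u} := V.2.choose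

/-- The structure morphism of the chosen lift. -/
noncomputable def str (V : GoodOpen i y) : thk i y V ⟶ S := V.2.choose_spec.choose

/-- The thickening into the chosen lift. -/
noncomputable def inc (V : GoodOpen i y) : (V.1 : Scheme.{u}) ⟶ thk i y V :=
  V.2.choose_spec.choose_spec.choose

instance etale_str (V : GoodOpen i y) : Etale (str i y V) :=
  V.2.choose_spec.choose_spec.choose_spec.1

theorem pb (V : GoodOpen i y) : IsPullback (inc i y V) (V.1.ι ≫ y) (str i y V) i :=
  V.2.choose_spec.choose_spec.choose_spec.2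

theorem inc_bij (V : GoodOpen i y) : Function.Bijective (inc i y V) := by
  haveI : IsClosedImmersion (inc i y V) :=
    MorphismProperty.of_isPullback (P := @IsClosedImmersion) (pb i y V).flip inferInstance
  haveI : Surjective (inc i y V) :=
    MorphismProperty.of_isPullback (P := @Surjective) (pb i y V).flip inferInstance
  exact ⟨(inc i y V).isClosedEmbedding.injective, (inc i y V).surjective⟩

theorem existsUnique_tr {V W : GoodOpen i y} (h : V.1 ≤ W.1) :
    ∃! t : thk i y V ⟶ thk i y W, t ≫ str i y W = str i y V ∧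
      inc i y V ≫ t = Y.homOfLE h ≫ inc i y W :=
  existsUnique_lift i (str i y V) (str i y W) (inc i y V) (V.1.ι ≫ y) (inc i y W) (W.1.ι ≫ y)
    (pb i y V) (pb i y W) (Y.homOfLE h) (by rw [Scheme.homOfLE_ι_assoc])

/-- The transition maps. -/
noncomputable def tr {V W : GoodOpen i y} (h : V.1 ≤ W.1) : thk i y V ⟶ thk i y W :=
  (existsUnique_tr i y h).exists.choose

theorem tr_str {V W : GoodOpen i y} (h : V.1 ≤ W.1) : tr i y h ≫ str i y W = str i y V :=
  (existsUnique_tr i y h).exists.choose_spec.1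

theorem inc_tr {V W : GoodOpen i y} (h : V.1 ≤ W.1) :
    inc i y V ≫ tr i y h = Y.homOfLE h ≫ inc i y W :=
  (existsUnique_tr i y h).exists.choose_spec.2

theorem tr_unique {V W : GoodOpen i y} (h : V.1 ≤ W.1) (t : thk i y V ⟶ thk i y W)
    (h1 : t ≫ str i y W = str i y V) (h2 : inc i y V ≫ t = Y.homOfLE h ≫ inc i y W) :
    t = tr i y h :=
  (existsUnique_tr i y h).unique ⟨h1, h2⟩ ⟨tr_str i y h, inc_tr i y h⟩

/-- The gluing data of local lifts. -/
noncomputable def glueData [Etale y] : ThkGlue.Data Y where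
  Good V := Lift i y V.ι
  cov := exists_lift_nhd i y
  of_le := Lift.of_le
  thk := thk i y
  inc := inc i y
  inc_bij := inc_bij i y
  tr h := tr i y h
  tr_id V := (tr_unique i y _ (𝟙 _) (Category.id_comp _)
    (by rw [Category.comp_id, Scheme.homOfLE_rfl, Category.id_comp])).symm
  tr_comp {V W U} h1 h2 := tr_unique i y _ _
    (by rw [Category.assoc, tr_str, tr_str])
    (by rw [← Category.assoc, inc_tr, Category.assoc, inc_tr, Scheme.homOfLE_homOfLE_assoc])
  inc_tr h := inc_tr i y h
  tr_open {V W} h := isOpenImmersion_lift i (str i y V) (str i y W) (inc i y V) (V.1.ι ≫ y)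
    (inc i y W) (W.1.ι ≫ y) (pb i y V) (pb i y W) (Y.homOfLE h)
    (by rw [Scheme.homOfLE_ι_assoc]) (tr i y h) (tr_str i y h) (inc_tr i y h)

set_option backward.isDefEq.respectTransparency false in
/-- Etale schemes lift along thickenings. -/
theorem exists_lift [Etale y] :
    ∃ (Z : Scheme.{u}) (z : Z ⟶ S) (a : Y ⟶ Z), Etale z ∧ IsPullback a y z i := by
  let D := glueData i y
  obtain ⟨gstr, hgstr⟩ := D.exists_desc (fun V => str i y V) (fun h => tr_str i y h)
  obtain ⟨ginc, hginc⟩ := D.exists_ginc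
  have hcomm : ginc ≫ gstr = y ≫ i := D.hom_ext_of_good _ _ (fun V => by
    rw [← Category.assoc, hginc V, Category.assoc, hgstr V, ← Category.assoc]
    exact (pb i y V).w)
  have hEt : Etale gstr := by
    refine IsZariskiLocalAtSource.of_openCover (P := @Etale)
      (Scheme.IsLocallyDirected.openCover D.F) (fun V => ?_)
    change Etale (D.ιV V ≫ gstr)
    rw [hgstr V]
    infer_instance
  refine ⟨D.glued, gstr, ginc, hEt, ?_⟩
  suffices key : ∀ V : D.J, IsPullback (pullback.snd ginc (D.ιV V))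
      (pullback.fst ginc (D.ιV V) ≫ y) (D.ιV V ≫ gstr) i from
    Scheme.isPullback_of_openCover ginc y gstr i (Scheme.IsLocallyDirected.openCover D.F)
      (fun V => key V)
  intro V
  have hsq := D.isPullback_ginc ginc hginc V
  have hp := pb i y V
  refine hp.of_iso hsq.flip.isoPullback (Iso.refl _) (Iso.refl _) (Iso.refl _) ?_ ?_ ?_ ?_
  · exact (Category.comp_id _).trans (hsq.flip.isoPullback_hom_snd).symm
  · exact (Category.comp_id _).trans
      ((congrArg (· ≫ y) (hsq.flip.isoPullback_hom_fst).symm).trans (Category.assoc _ _ _))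
  · exact (Category.comp_id _).trans ((hgstr V).symm.trans (Category.id_comp _).symm)
  · exact (Category.comp_id _).trans (Category.id_comp _).symm

end Groth.Agent.Lib.Helper10.EtThick
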