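import Mathlib

/-!
# Maps into an étale separated target agreeing on a section through connected fibres
-/

set_option autoImplicit false
set_option backward.isDefEq.respectTransparency.types false
set_option maxHeartbeats 4000000
set_option synthInstance.maxHeartbeats 400000
universe u
open CategoryTheory CategoryTheory.Limits AlgebraicGeometry MonoidalCategory
  CartesianMonoidalCategory MonObj GrpObj

namespace Groth.Agent.Lib.Helper10.EtTriv

set_option backward.isDefEq.respectTransparency false in
theorem isOpenImmersion_equalizer_ι_left {S : Scheme.{u}} {X Y : Over S}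
    [IsOpenImmersion (pullback.diagonal Y.hom)]
    (f g : X ⟶ Y) : IsOpenImmersion (equalizer.ι f g).left := by
  refine MorphismProperty.of_isPullback (P := @IsOpenImmersion)
    ((Limits.isPullback_equalizer_prod f g).map (Over.forget _)).flip ?_
  rw [← MorphismProperty.cancel_right_of_respectsIso @IsOpenImmersion _
    (Over.prodLeftIsoPullback Y Y).hom]
  convert! (inferInstance : IsOpenImmersion (pullback.diagonal Y.hom))
  ext1 <;> simp [← Over.comp_left]

/-- Two morphisms `f g : P ⟶ X` over `S` into an étale separated `S`-scheme which agree on a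
section `e` of `P` agree if the fibres of `P` are connected. -/
theorem eq_of_eq_on_section {S : Scheme.{u}} {P X : Over S} [Etale X.hom] [IsSeparated X.hom]
    (hP : ∀ s : S, ConnectedSpace ↥(P.hom.fiber s))
    (e : 𝟙_ (Over S) ⟶ P) (f g : P ⟶ X) (h : e ≫ f = e ≫ g) : f = g := by
  haveI : IsOpenImmersion (pullback.diagonal X.hom) := inferInstance
  haveI ho : IsOpenImmersion (equalizer.ι f g).left := isOpenImmersion_equalizer_ι_left f g
  haveI hc : IsClosedImmersion (equalizer.ι f g).left := inferInstance
  set j := (equalizer.ι f g).left with hj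
  have hclopen : IsClopen (Set.range j) :=
    ⟨j.isClosedEmbedding.isClosed_range, j.isOpenEmbedding.isOpen_range⟩
  have hsec : ∀ s : S, e.left s ∈ Set.range j := by
    intro s
    refine ⟨(equalizer.lift e h).left s, ?_⟩
    rw [hj, ← Scheme.Hom.comp_apply, ← Over.comp_left, equalizer.lift_ι]
  have hes : ∀ s : S, P.hom (e.left s) = s := by
    intro s
    have := Over.w e
    rw [← Scheme.Hom.comp_apply, this]
    rfl
  have hsurj : Function.Surjective j := by
    intro p
    set s := P.hom p with hs
    haveI := hP s
    have hC : IsClopen ((P.hom.fiberι s) ⁻¹' (Set.range j)) :=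
      hclopen.preimage (P.hom.fiberι s).continuous
    have hr := P.hom.range_fiberι s
    have h1 : e.left s ∈ Set.range (P.hom.fiberι s) := by
      rw [hr]; exact hes s
    have h2 : p ∈ Set.range (P.hom.fiberι s) := by
      rw [hr]; exact hs.symm
    obtain ⟨y, hy⟩ := h1
    obtain ⟨y', hy'⟩ := h2
    rcases isClopen_iff.mp hC with h0 | h0
    · exfalso
      have : y ∈ (P.hom.fiberι s) ⁻¹' (Set.range j) := by
        show (P.hom.fiberι s) y ∈ Set.range j
        rw [hy]; exact hsec s
      rw [h0] at this
      exact this
    · have : y' ∈ (P.hom.fiberι s) ⁻¹' (Set.range j) := by rw [h0]; trivial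
      have h3 : (P.hom.fiberι s) y' ∈ Set.range j := this
      rw [hy'] at h3
      exact h3
  haveI : Surjective j := ⟨hsurj⟩
  haveI : IsIso j := by
    apply isIso_of_isOpenImmersion_of_opensRange_eq_top
    ext x
    simp only [Scheme.Hom.coe_opensRange, TopologicalSpace.Opens.coe_top, Set.mem_univ, iff_true]
    exact hsurj x
  have hcond := equalizer.condition f g
  have : j ≫ f.left = j ≫ g.left := by
    rw [hj, ← Over.comp_left, ← Over.comp_left, hcond]
  have h4 : f.left = g.left := (cancel_epi j).mp this
  exact Over.OverMorphism.ext h4

end Groth.Agent.Lib.Helper10.EtTriv
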