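import Mathlib
import Groth.Agent.Lib.Helper6.TorsorLocal
import Groth.Prelude.Def_ChGrp

/-!
# Equivariant morphisms of fpqc torsors are isomorphisms
-/

set_option autoImplicit false
set_option backward.isDefEq.respectTransparency.types false
set_option maxHeartbeats 4000000
set_option synthInstance.maxHeartbeats 400000
universe u
open CategoryTheory CategoryTheory.Limits AlgebraicGeometry MonoidalCategory
  CartesianMonoidalCategory MonObj GrpObj

namespace Groth.Agent.Lib.Helper10.TorsorIso

open Groth.Agent.Lib.Helper6.Torsor Groth.Agent.Lib.Helper6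

variable {S : Scheme.{u}} {G X X' : Over S} [GrpObj G]
  (a : AlgGrp.Action G X) (a' : AlgGrp.Action G X')

theorem trivMap_whiskerRight (f : X ⟶ X') (hf : AlgGrp.Action.IsEquivariant a a' f)
    {T : Over S} (σ : T ⟶ X) : trivMap a σ ≫ (f ▷ T) = trivMap a' (σ ≫ f) := by
  have hf' : a.act ≫ f = (G ◁ f) ≫ a'.act := hf
  apply CartesianMonoidalCategory.hom_ext
  · rw [Category.assoc, whiskerRight_fst, trivMap_fst_assoc, trivMap_fst, hf',
      MonoidalCategory.whiskerLeft_comp, Category.assoc]
  · rw [Category.assoc, whiskerRight_snd, trivMap_snd, trivMap_snd]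

theorem isIso_whiskerRight (ha : NonAbH1.IsPseudoTorsorSch a) (ha' : NonAbH1.IsPseudoTorsorSch a')
    (f : X ⟶ X') (hf : AlgGrp.Action.IsEquivariant a a' f)
    {T : Over S} (σ : T ⟶ X) : IsIso (f ▷ T) := by
  haveI := isIso_trivMap a ha σ
  haveI := isIso_trivMap a' ha' (σ ≫ f)
  have h : f ▷ T = inv (trivMap a σ) ≫ trivMap a' (σ ≫ f) := by
    rw [IsIso.eq_inv_comp, trivMap_whiskerRight a a' f hf]
  rw [h]
  infer_instance

theorem isIso_whiskerLeft (ha : NonAbH1.IsPseudoTorsorSch a) (ha' : NonAbH1.IsPseudoTorsorSch a')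
    (f : X ⟶ X') (hf : AlgGrp.Action.IsEquivariant a a' f)
    {T : Over S} (σ : T ⟶ X) : IsIso (T ◁ f) := by
  haveI := isIso_whiskerRight a a' ha ha' f hf σ
  have h : T ◁ f = (β_ T X).hom ≫ f ▷ T ≫ (β_ T X').inv := by
    rw [← BraidedCategory.braiding_naturality_right_assoc, Iso.hom_inv_id, Category.comp_id]
  rw [h]
  infer_instance

/-- an iso top arrow in a pullback square makes the canonical base change an isomorphism. -/
theorem isomorphisms_of_isPullback {A B C D : Scheme.{u}} {t : A ⟶ B} {l : A ⟶ C} {r : B ⟶ D}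
    {b : C ⟶ D} (sq : IsPullback t l r b) [IsIso t] :
    MorphismProperty.isomorphisms Scheme.{u} (pullback.snd b r) := by
  have h : pullback.snd b r = sq.flip.isoPullback.inv ≫ t := by
    rw [Iso.eq_inv_comp]
    exact sq.flip.isoPullback_hom_snd
  rw [h]
  change IsIso _
  infer_instance

/-- **Equivariant morphisms of torsors are isomorphisms.** -/
theorem isIso_of_isEquivariant (ha : NonAbH1.IsTorsorFor Scheme.fpqcPrecoverage a)
    (ha' : NonAbH1.IsPseudoTorsorSch a')
    (f : X ⟶ X') (hf : AlgGrp.Action.IsEquivariant a a' f) : IsIso f := by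
  obtain ⟨hpt, R, hR, hsec⟩ := ha
  have key : MorphismProperty.isomorphisms Scheme.{u} f.left := by
    refine FpqcDescent.of_mem_fpqcPrecoverage (P := MorphismProperty.isomorphisms Scheme.{u})
      f.left (R.pullbackArrows X'.hom) (Precoverage.pullbackArrows_mem X'.hom hR) ?_
    rintro T g ⟨Z, h, hh⟩
    obtain ⟨s, hs⟩ := hsec h hh
    let σ : Over.mk h ⟶ X := Over.homMk s hs
    haveI : IsIso ((Over.mk h) ◁ f) := isIso_whiskerLeft a a' hpt ha' f hf σ
    haveI : IsIso ((Over.mk h) ◁ f).left :=
      inferInstanceAs (IsIso ((Over.forget S).map ((Over.mk h) ◁ f)))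
    have hw : f.left ≫ X'.hom = X.hom := Over.w f
    have sq : IsPullback ((Over.mk h) ◁ f).left (pullback.snd h X.hom)
        (pullback.snd h X'.hom) f.left := by
      refine IsPullback.of_right (h₁₂ := pullback.fst h X'.hom) (v₁₃ := h) (h₂₂ := X'.hom) ?_ ?_
        (IsPullback.of_hasPullback h X'.hom)
      · have e1 : ((Over.mk h) ◁ f).left ≫ pullback.fst h X'.hom = pullback.fst h X.hom := by
          exact Over.whiskerLeft_left_fst (R := Over.mk h) f
        rw [e1, hw]
        exact IsPullback.of_hasPullback h X.hom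
      · exact Over.whiskerLeft_left_snd (R := Over.mk h) f
    exact isomorphisms_of_isPullback sq
  haveI : IsIso ((Over.forget S).map f) := key
  exact isIso_of_reflects_iso f (Over.forget S)

end Groth.Agent.Lib.Helper10.TorsorIso
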