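import Mathlib
import Groth.Agent.Lib.Helper10.TorsorIso1
import Groth.Agent.Lib.Helper10.HomSp1

/-!
# Torsors are the actions which are locally equivariantly trivial
-/

set_option autoImplicit false
set_option backward.isDefEq.respectTransparency.types false
set_option maxHeartbeats 4000000
set_option synthInstance.maxHeartbeats 400000
universe u
open CategoryTheory CategoryTheory.Limits AlgebraicGeometry MonoidalCategory
  CartesianMonoidalCategory MonObj GrpObj

namespace Groth.Agent.Lib.Helper10.TorsorIso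

open Groth.Agent.Lib.Helper6.Torsor Groth.Agent.Lib.Helper6 Groth.Agent.Lib.Helper10.HomSp

variable {S : Scheme.{u}}

/-- fpqc descent of isomorphisms of `S`-schemes. -/
theorem isIso_of_forall_isIso_whiskerLeft {A B : Over S} (f : A ⟶ B) (R : Presieve S)
    (hR : R ∈ Scheme.fpqcPrecoverage S)
    (hf : ∀ ⦃S' : Scheme.{u}⦄ (g : S' ⟶ S), R g → IsIso ((Over.mk g) ◁ f)) : IsIso f := by
  have key : MorphismProperty.isomorphisms Scheme.{u} f.left := by
    refine FpqcDescent.of_mem_fpqcPrecoverage (P := MorphismProperty.isomorphisms Scheme.{u})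
      f.left (R.pullbackArrows B.hom) (Precoverage.pullbackArrows_mem B.hom hR) ?_
    rintro T g ⟨Z, h, hh⟩
    haveI : IsIso ((Over.mk h) ◁ f) := hf h hh
    haveI : IsIso ((Over.mk h) ◁ f).left :=
      inferInstanceAs (IsIso ((Over.forget S).map ((Over.mk h) ◁ f)))
    have hw : f.left ≫ B.hom = A.hom := Over.w f
    have sq : IsPullback ((Over.mk h) ◁ f).left (pullback.snd h A.hom)
        (pullback.snd h B.hom) f.left := by
      refine IsPullback.of_right (h₁₂ := pullback.fst h B.hom) (v₁₃ := h) (h₂₂ := B.hom) ?_ ?_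
        (IsPullback.of_hasPullback h B.hom)
      · have e1 : ((Over.mk h) ◁ f).left ≫ pullback.fst h B.hom = pullback.fst h A.hom :=
          Over.whiskerLeft_left_fst (R := Over.mk h) f
        rw [e1, hw]
        exact IsPullback.of_hasPullback h A.hom
      · exact Over.whiskerLeft_left_snd (R := Over.mk h) f
    exact isomorphisms_of_isPullback sq
  haveI : IsIso ((Over.forget S).map f) := key
  exact isIso_of_reflects_iso f (Over.forget S)

variable {G X : Over S} [GrpObj G] (a : AlgGrp.Action G X)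

theorem comp_act {Z : Over S} (v : Z ⟶ G ⊗ X) :
    v ≫ a.act = smul a (v ≫ fst G X) (v ≫ snd G X) := by
  rw [← smul_fst_snd a, comp_smul]

theorem lift_trivMap_fst {T Z : Over S} (s : T ⟶ X) (g : Z ⟶ G) (t : Z ⟶ T) :
    lift g t ≫ trivMap a s ≫ fst X T = smul a g (t ≫ s) := by
  rw [trivMap_fst, ← Category.assoc]
  change _ = lift g (t ≫ s) ≫ a.act
  congr 1
  apply CartesianMonoidalCategory.hom_ext
  · rw [Category.assoc, whiskerLeft_fst, lift_fst, lift_fst]
  · rw [Category.assoc, whiskerLeft_snd, lift_snd_assoc, lift_snd]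

theorem lift_trivMap {T Z : Over S} (s : T ⟶ X) (g : Z ⟶ G) (t : Z ⟶ T) :
    lift g t ≫ trivMap a s = lift (smul a g (t ≫ s)) t := by
  apply CartesianMonoidalCategory.hom_ext
  · rw [Category.assoc, lift_trivMap_fst, lift_fst]
  · rw [Category.assoc, trivMap_snd, lift_snd, lift_snd]

/-- if the trivialisation map of `s` is an isomorphism, then translating `s` is bijective on
points. -/
theorem bijective_smul {T : Over S} (s : T ⟶ X) [IsIso (trivMap a s)] {Z : Over S}
    (t : Z ⟶ T) : Function.Bijective (fun g : Z ⟶ G => smul a g (t ≫ s)) := by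
  constructor
  · intro g g' h
    have h' : smul a g (t ≫ s) = smul a g' (t ≫ s) := h
    have h1 : lift g t ≫ trivMap a s = lift g' t ≫ trivMap a s := by
      rw [lift_trivMap, lift_trivMap, h']
    have h2 : lift g t = lift g' t := (cancel_mono (trivMap a s)).mp h1
    have h3 := congrArg (fun k => k ≫ fst G T) h2
    simpa using h3
  · intro x
    set w : Z ⟶ G ⊗ T := lift x t ≫ inv (trivMap a s) with hw
    have h1 : w ≫ trivMap a s = lift x t := by
      rw [hw, Category.assoc, IsIso.inv_hom_id, Category.comp_id]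
    have h2 : w ≫ snd G T = t := by
      have := congrArg (fun k => k ≫ snd X T) h1
      simpa using this
    have h3 : lift (w ≫ fst G T) t = w := by
      apply CartesianMonoidalCategory.hom_ext
      · rw [lift_fst]
      · rw [lift_snd, h2]
    refine ⟨w ≫ fst G T, ?_⟩
    change smul a (w ≫ fst G T) (t ≫ s) = x
    rw [← lift_trivMap_fst, h3, ← Category.assoc, h1, lift_fst]

/-- an action which is equivariantly trivialised by a `T`-point is a pseudo-torsor after base
change to `T`. -/
theorem isIso_whiskerLeft_shear {T : Over S} (s : T ⟶ X) [IsIso (trivMap a s)] :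
    IsIso (T ◁ lift a.act (snd G X)) := by
  apply isIso_of_yoneda_map_bijective
  intro Z
  have hΦ1 : (T ◁ lift a.act (snd G X)) ≫ fst T (X ⊗ X) = fst T (G ⊗ X) := whiskerLeft_fst _ _
  have hΦ2 : (T ◁ lift a.act (snd G X)) ≫ snd T (X ⊗ X) ≫ fst X X =
      snd T (G ⊗ X) ≫ a.act := by
    rw [← Category.assoc, whiskerLeft_snd, Category.assoc, lift_fst]
  have hΦ3 : (T ◁ lift a.act (snd G X)) ≫ snd T (X ⊗ X) ≫ snd X X =
      snd T (G ⊗ X) ≫ snd G X := by
    rw [← Category.assoc, whiskerLeft_snd, Category.assoc, lift_snd]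
  constructor
  · intro w w' h
    have h' : w ≫ (T ◁ lift a.act (snd G X)) = w' ≫ (T ◁ lift a.act (snd G X)) := h
    have e1 : w ≫ fst T (G ⊗ X) = w' ≫ fst T (G ⊗ X) := by
      have := congrArg (fun k => k ≫ fst T (X ⊗ X)) h'
      simpa only [Category.assoc, hΦ1] using this
    have e3 : w ≫ snd T (G ⊗ X) ≫ snd G X = w' ≫ snd T (G ⊗ X) ≫ snd G X := by
      have := congrArg (fun k => k ≫ snd T (X ⊗ X) ≫ snd X X) h'
      simpa only [Category.assoc, hΦ3] using this
    have e2 : w ≫ snd T (G ⊗ X) ≫ a.act = w' ≫ snd T (G ⊗ X) ≫ a.act := by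
      have := congrArg (fun k => k ≫ snd T (X ⊗ X) ≫ fst X X) h'
      simpa only [Category.assoc, hΦ2] using this
    set t := w ≫ fst T (G ⊗ X) with ht
    set g := w ≫ snd T (G ⊗ X) ≫ fst G X with hg
    set g' := w' ≫ snd T (G ⊗ X) ≫ fst G X with hg'
    set x := w ≫ snd T (G ⊗ X) ≫ snd G X with hx
    have e2' : smul a g x = smul a g' x := by
      have k1 := comp_act a (w ≫ snd T (G ⊗ X))
      have k2 := comp_act a (w' ≫ snd T (G ⊗ X))
      simp only [Category.assoc] at k1 k2
      rw [← e3] at k2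
      rw [← k1, ← k2]
      exact e2
    obtain ⟨g₂, hg₂⟩ := (bijective_smul a s t).2 x
    have hg₂' : smul a g₂ (t ≫ s) = x := hg₂
    have e4 : g * g₂ = g' * g₂ := by
      apply (bijective_smul a s t).1
      change smul a (g * g₂) (t ≫ s) = smul a (g' * g₂) (t ≫ s)
      rw [HomSp.mul_smul, HomSp.mul_smul, hg₂', e2']
    have e5 : g = g' := mul_right_cancel e4
    apply CartesianMonoidalCategory.hom_ext
    · exact e1
    · apply CartesianMonoidalCategory.hom_ext
      · simpa only [Category.assoc] using e5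
      · simpa only [Category.assoc] using e3
  · intro v
    set t := v ≫ fst T (X ⊗ X) with ht
    set x₁ := v ≫ snd T (X ⊗ X) ≫ fst X X with hx₁
    set x₂ := v ≫ snd T (X ⊗ X) ≫ snd X X with hx₂
    obtain ⟨g₁, hg₁⟩ := (bijective_smul a s t).2 x₁
    obtain ⟨g₂, hg₂⟩ := (bijective_smul a s t).2 x₂
    have hg₁' : smul a g₁ (t ≫ s) = x₁ := hg₁
    have hg₂' : smul a g₂ (t ≫ s) = x₂ := hg₂
    refine ⟨lift t (lift (g₁ * g₂⁻¹) x₂), ?_⟩
    change lift t (lift (g₁ * g₂⁻¹) x₂) ≫ (T ◁ lift a.act (snd G X)) = v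
    apply CartesianMonoidalCategory.hom_ext
    · rw [Category.assoc, hΦ1, lift_fst]
    · apply CartesianMonoidalCategory.hom_ext
      · rw [Category.assoc, Category.assoc, hΦ2, lift_snd_assoc]
        change smul a (g₁ * g₂⁻¹) x₂ = _
        rw [← hg₂', ← HomSp.mul_smul, _root_.mul_assoc, inv_mul_cancel, _root_.mul_one, hg₁',
          hx₁, Category.assoc]
      · rw [Category.assoc, Category.assoc, hΦ3, lift_snd_assoc, lift_snd, hx₂, Category.assoc]

/-- **Torsors are the locally equivariantly trivial actions** (fpqc topology). -/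
theorem isTorsorFor_iff :
    NonAbH1.IsTorsorFor Scheme.fpqcPrecoverage a ↔
      ∃ R ∈ Scheme.fpqcPrecoverage S, ∀ ⦃S' : Scheme.{u}⦄ (f : S' ⟶ S), R f →
        ∃ s : Over.mk f ⟶ X, IsIso (trivMap a s) := by
  constructor
  · rintro ⟨hpt, R, hR, hsec⟩
    refine ⟨R, hR, fun S' f hf => ?_⟩
    obtain ⟨s, hs⟩ := hsec f hf
    exact ⟨Over.homMk s hs, isIso_trivMap a hpt _⟩
  · rintro ⟨R, hR, h⟩
    refine ⟨?_, R, hR, fun S' f hf => ?_⟩
    · change IsIso (lift a.act (snd G X))
      refine isIso_of_forall_isIso_whiskerLeft _ R hR fun S' f hf => ?_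
      obtain ⟨s, hs⟩ := h f hf
      haveI := hs
      exact isIso_whiskerLeft_shear a s
    · obtain ⟨s, hs⟩ := h f hf
      exact ⟨s.left, Over.w s⟩

end Groth.Agent.Lib.Helper10.TorsorIso
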