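import Mathlib
import Groth.Agent.Lib.Helper21.GaPts
import Groth.Agent.Lib.Helper10.Amitsur1
import Groth.Agent.Lib.Helper10.HomSp1
import Groth.Agent.Lib.Helper10.FppfQuot1
import Groth.Prelude.Def_NonAbH2

/-!
# `𝔾_a`-pseudo-torsors with a point over a faithfully flat affine cover of an affine scheme
have a point (additive Hilbert 90)
-/

set_option autoImplicit false
set_option backward.isDefEq.respectTransparency.types false
set_option maxHeartbeats 4000000
set_option synthInstance.maxHeartbeats 400000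
universe u
open CategoryTheory CategoryTheory.Limits AlgebraicGeometry MonoidalCategory
  CartesianMonoidalCategory MonObj GrpObj

namespace Groth.Agent.Lib.Helper10.GaTorsor

open Groth.Agent.Lib.Helper21.GaPts Groth.Agent.Lib.Helper10.HomSp
  Groth.Agent.Lib.Helper10.Amitsur TensorProduct

section Diff

variable {S : Scheme.{u}} {G X : Over S} [GrpObj G] (a : AlgGrp.Action G X)
  (ha : NonAbH1.IsPseudoTorsorSch a)

include ha in
theorem exists_unique_diff {W : Over S} (y₁ y₂ : W ⟶ X) :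
    ∃! g : W ⟶ G, smul a g y₂ = y₁ := by
  haveI : IsIso (lift a.act (snd G X)) := ha
  have hsnd : inv (lift a.act (snd G X)) ≫ snd G X = snd X X := by
    rw [IsIso.inv_comp_eq, lift_snd]
  have hact : inv (lift a.act (snd G X)) ≫ a.act = fst X X := by
    rw [IsIso.inv_comp_eq, lift_fst]
  refine ⟨lift y₁ y₂ ≫ inv (lift a.act (snd G X)) ≫ fst G X, ?_, ?_⟩
  · have h1 : lift (lift y₁ y₂ ≫ inv (lift a.act (snd G X)) ≫ fst G X) y₂ =
        lift y₁ y₂ ≫ inv (lift a.act (snd G X)) := by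
      apply CartesianMonoidalCategory.hom_ext
      · rw [lift_fst, Category.assoc]
      · rw [lift_snd, Category.assoc, hsnd, lift_snd]
    change lift _ y₂ ≫ a.act = y₁
    rw [h1, Category.assoc, hact, lift_fst]
  · intro g' hg'
    have h2 : lift g' y₂ ≫ lift a.act (snd G X) = lift y₁ y₂ := by
      apply CartesianMonoidalCategory.hom_ext
      · rw [Category.assoc, lift_fst, lift_fst]; exact hg'
      · rw [Category.assoc, lift_snd, lift_snd, lift_snd]
    have h3 : lift g' y₂ = lift y₁ y₂ ≫ inv (lift a.act (snd G X)) := by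
      rw [← h2, Category.assoc, IsIso.hom_inv_id, Category.comp_id]
    rw [← Category.assoc, ← h3, lift_fst]

/-- the difference of two points of a pseudo-torsor. -/
noncomputable def diff {W : Over S} (y₁ y₂ : W ⟶ X) : W ⟶ G :=
  (exists_unique_diff a ha y₁ y₂).choose

theorem diff_smul {W : Over S} (y₁ y₂ : W ⟶ X) : smul a (diff a ha y₁ y₂) y₂ = y₁ :=
  (exists_unique_diff a ha y₁ y₂).choose_spec.1

theorem eq_diff {W : Over S} (y₁ y₂ : W ⟶ X) (g : W ⟶ G) (hg : smul a g y₂ = y₁) :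
    g = diff a ha y₁ y₂ :=
  (exists_unique_diff a ha y₁ y₂).choose_spec.2 g hg

theorem comp_diff {W W' : Over S} (k : W' ⟶ W) (y₁ y₂ : W ⟶ X) :
    k ≫ diff a ha y₁ y₂ = diff a ha (k ≫ y₁) (k ≫ y₂) := by
  apply eq_diff
  rw [← comp_smul, diff_smul]

theorem diff_mul_diff {W : Over S} (y₁ y₂ y₃ : W ⟶ X) :
    diff a ha y₁ y₂ * diff a ha y₂ y₃ = diff a ha y₁ y₃ := by
  apply eq_diff
  rw [HomSp.mul_smul, diff_smul, diff_smul]

end Diff

section Cech

variable {S : Scheme.{u}} {R : Type u} [CommRing R] (j : Spec (CommRingCat.of R) ⟶ S)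

/-- the spectrum of an `R`-algebra, over `S`. -/
noncomputable abbrev SpS (C : Type u) [CommRing C] [Algebra R C] : Over S :=
  Over.mk (Spec.map (CommRingCat.ofHom (algebraMap R C)) ≫ j)

variable {C D : Type u} [CommRing C] [CommRing D] [Algebra R C] [Algebra R D]

/-- functoriality. -/
noncomputable def SpSmap (ψ : C →ₐ[R] D) : SpS j D ⟶ SpS j C :=
  Over.homMk (Spec.map (CommRingCat.ofHom ψ.toRingHom)) (by
    change Spec.map _ ≫ Spec.map _ ≫ j = Spec.map _ ≫ j
    rw [← Category.assoc, ← Spec.map_comp, ← CommRingCat.ofHom_comp]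
    congr 3
    exact ψ.comp_algebraMap)

theorem SpSmap_comp {E : Type u} [CommRing E] [Algebra R E] (ψ : C →ₐ[R] D) (χ : D →ₐ[R] E) :
    SpSmap j χ ≫ SpSmap j ψ = SpSmap j (χ.comp ψ) := by
  apply Over.OverMorphism.ext
  change Spec.map _ ≫ Spec.map _ = Spec.map _
  rw [← Spec.map_comp, ← CommRingCat.ofHom_comp]
  rfl

/-- the function of a point of `𝔾_a`. -/
noncomputable def fnC (g : SpS j C ⟶ Red.Ga S) : C :=
  (Scheme.ΓSpecIso (CommRingCat.of C)).hom (Red.gaFn g)

theorem fnC_injective : Function.Injective (fnC j (C := C)) := by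
  intro g g' h
  apply gaFn_injective
  have h1 := congrArg (Scheme.ΓSpecIso (CommRingCat.of C)).inv h
  simpa [fnC] using h1

theorem fnC_mul (g g' : SpS j C ⟶ Red.Ga S) : fnC j (g * g') = fnC j g + fnC j g' := by
  rw [fnC, gaFn_mul, map_add]
  rfl

theorem fnC_comp (ψ : C →ₐ[R] D) (g : SpS j C ⟶ Red.Ga S) :
    fnC j (SpSmap j ψ ≫ g) = ψ (fnC j g) := by
  rw [fnC, gaFn_comp]
  change (Scheme.ΓSpecIso (CommRingCat.of D)).hom
    ((Spec.map (CommRingCat.ofHom ψ.toRingHom)).appTop (Red.gaFn g)) = _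
  have h := Scheme.ΓSpecIso_naturality (CommRingCat.ofHom ψ.toRingHom)
  have h2 := congrArg (fun k => k (Red.gaFn g)) h
  simp only [CommRingCat.comp_apply] at h2
  exact h2

/-- the point of `𝔾_a` with a given function. -/
noncomputable def ptC (c : C) : SpS j C ⟶ Red.Ga S :=
  gaPt ((Scheme.ΓSpecIso (CommRingCat.of C)).inv c)

theorem fnC_ptC (c : C) : fnC j (ptC j c) = c := by
  rw [fnC, ptC, gaFn_gaPt]
  simp

variable (B : Type u) [CommRing B] [Algebra R B]

/-- descent of a morphism along a faithfully flat affine cover. -/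
theorem exists_desc [Module.FaithfullyFlat R B] {Y : Scheme.{u}}
    (y : Spec (CommRingCat.of B) ⟶ Y)
    (hy : Spec.map (CommRingCat.ofHom (j1 R B).toRingHom) ≫ y =
      Spec.map (CommRingCat.ofHom (j2 R B).toRingHom) ≫ y) :
    ∃ σ : Spec (CommRingCat.of R) ⟶ Y,
      Spec.map (CommRingCat.ofHom (algebraMap R B)) ≫ σ = y := by
  set q := Spec.map (CommRingCat.ofHom (algebraMap R B)) with hq
  have hff : (algebraMap R B).FaithfullyFlat :=
    (RingHom.faithfullyFlat_algebraMap_iff).mpr inferInstance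
  obtain ⟨h1, h2⟩ := (flat_and_surjective_SpecMap_iff (CommRingCat.ofHom (algebraMap R B))).mpr hff
  haveI : Flat q := h1
  haveI : Surjective q := h2
  haveI : QuasiCompact q := inferInstance
  refine Groth.Agent.Lib.Helper10.FppfQuot.desc_of_effectiveEpi q y ?_
  intro Z g₁ g₂ hg
  let l : Z ⟶ Spec (CommRingCat.of (B ⊗[R] B)) :=
    pullback.lift g₁ g₂ hg ≫ (pullbackSpecIso R B B).hom
  have e1 : l ≫ Spec.map (CommRingCat.ofHom (j1 R B).toRingHom) = g₁ := by
    change (pullback.lift g₁ g₂ hg ≫ (pullbackSpecIso R B B).hom) ≫ _ = _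
    rw [Category.assoc]
    erw [pullbackSpecIso_hom_fst]
    exact pullback.lift_fst _ _ _
  have e2 : l ≫ Spec.map (CommRingCat.ofHom (j2 R B).toRingHom) = g₂ := by
    change (pullback.lift g₁ g₂ hg ≫ (pullbackSpecIso R B B).hom) ≫ _ = _
    rw [Category.assoc]
    erw [pullbackSpecIso_hom_snd]
    exact pullback.lift_snd _ _ _
  calc g₁ ≫ y = (l ≫ Spec.map (CommRingCat.ofHom (j1 R B).toRingHom)) ≫ y := by rw [e1]
    _ = l ≫ Spec.map (CommRingCat.ofHom (j1 R B).toRingHom) ≫ y := Category.assoc _ _ _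
    _ = l ≫ Spec.map (CommRingCat.ofHom (j2 R B).toRingHom) ≫ y := by rw [hy]
    _ = (l ≫ Spec.map (CommRingCat.ofHom (j2 R B).toRingHom)) ≫ y := (Category.assoc _ _ _).symm
    _ = g₂ ≫ y := by rw [e2]

variable {X : Over S} (a : AlgGrp.Action (Red.Ga S) X) (ha : NonAbH1.IsPseudoTorsorSch a)

include ha in
/-- **Additive Hilbert 90** for pseudo-torsors. -/
theorem exists_section [Module.FaithfullyFlat R B] (x : SpS j B ⟶ X) :
    ∃ σ : Spec (CommRingCat.of R) ⟶ X.left, σ ≫ X.hom = j := by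
  -- the two pull-backs of the point and their difference
  set y₁ : SpS j (B ⊗[R] B) ⟶ X := SpSmap j (j1 R B) ≫ x with hy₁
  set y₂ : SpS j (B ⊗[R] B) ⟶ X := SpSmap j (j2 R B) ≫ x with hy₂
  set g := diff a ha y₁ y₂ with hg
  -- the cocycle condition
  set z₁ : SpS j ((B ⊗[R] B) ⊗[R] B) ⟶ X := SpSmap j ((j12 R B).comp (j1 R B)) ≫ x with hz₁
  set z₂ : SpS j ((B ⊗[R] B) ⊗[R] B) ⟶ X := SpSmap j ((j12 R B).comp (j2 R B)) ≫ x with hz₂
  set z₃ : SpS j ((B ⊗[R] B) ⊗[R] B) ⟶ X := SpSmap j ((j23 R B).comp (j2 R B)) ≫ x with hz₃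
  have k12 : SpSmap j (j12 R B) ≫ g = diff a ha z₁ z₂ := by
    rw [hg, comp_diff, hy₁, hy₂, ← Category.assoc, ← Category.assoc, SpSmap_comp, SpSmap_comp]
  have k23 : SpSmap j (j23 R B) ≫ g = diff a ha z₂ z₃ := by
    rw [hg, comp_diff, hy₁, hy₂, ← Category.assoc, ← Category.assoc, SpSmap_comp, SpSmap_comp,
      hz₂, j12_comp_j2]
  have k13 : SpSmap j (j13 R B) ≫ g = diff a ha z₁ z₃ := by
    rw [hg, comp_diff, hy₁, hy₂, ← Category.assoc, ← Category.assoc, SpSmap_comp, SpSmap_comp,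
      hz₁, j12_comp_j1, hz₃, j13_comp_j2]
  have hcoc : j12 R B (fnC j g) + j23 R B (fnC j g) = j13 R B (fnC j g) := by
    rw [← fnC_comp, ← fnC_comp, ← fnC_comp, ← fnC_mul, k12, k23, k13, diff_mul_diff]
  obtain ⟨h, hh⟩ := exists_of_cocycle R B (fnC j g) hcoc
  -- the corrected point
  set y : SpS j B ⟶ X := smul a (ptC j (-h)) x with hy
  have hyy : SpSmap j (j1 R B) ≫ y = SpSmap j (j2 R B) ≫ y := by
    rw [hy, comp_smul, comp_smul]
    change smul a _ y₁ = smul a _ y₂
    rw [← diff_smul a ha y₁ y₂, ← HomSp.mul_smul]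
    congr 1
    apply fnC_injective
    rw [fnC_mul, fnC_comp, fnC_comp, fnC_ptC, ← hg, hh, map_neg, map_neg]
    abel
  have hyl : Spec.map (CommRingCat.ofHom (j1 R B).toRingHom) ≫ y.left =
      Spec.map (CommRingCat.ofHom (j2 R B).toRingHom) ≫ y.left :=
    congrArg (fun k => k.left) hyy
  obtain ⟨σ, hσ⟩ := exists_desc B y.left hyl
  refine ⟨σ, ?_⟩
  have hff : (algebraMap R B).FaithfullyFlat :=
    (RingHom.faithfullyFlat_algebraMap_iff).mpr inferInstance
  obtain ⟨h1, h2⟩ := (flat_and_surjective_SpecMap_iff (CommRingCat.ofHom (algebraMap R B))).mpr hff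
  haveI : Flat (Spec.map (CommRingCat.ofHom (algebraMap R B))) := h1
  haveI : Surjective (Spec.map (CommRingCat.ofHom (algebraMap R B))) := h2
  haveI : Epi (Spec.map (CommRingCat.ofHom (algebraMap R B))) := inferInstance
  rw [← cancel_epi (Spec.map (CommRingCat.ofHom (algebraMap R B))), ← Category.assoc, hσ]
  exact Over.w y

end Cech

end Groth.Agent.Lib.Helper10.GaTorsor
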