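import Mathlib
import Groth.Agent.Lib.Helper10.GaTorsor1

/-!
# The base of an fpqc torsor is its categorical quotient; invariant functions
-/

set_option autoImplicit false
set_option backward.isDefEq.respectTransparency.types false
set_option maxHeartbeats 4000000
set_option synthInstance.maxHeartbeats 400000
universe u
open CategoryTheory CategoryTheory.Limits AlgebraicGeometry MonoidalCategory
  CartesianMonoidalCategory MonObj GrpObj

namespace Groth.Agent.Lib.Helper10.TorsorQuot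

open Groth.Agent.Lib.Helper10.HomSp Groth.Agent.Lib.Helper10.GaTorsor
  Groth.Agent.Lib.Helper21.GaPts

variable {S : Scheme.{u}}

/-- representable presheaves satisfy the sheaf condition for fpqc covering families. -/
theorem isSheafFor_yoneda (R : Presieve S) (hR : R ∈ Scheme.fpqcPrecoverage S) (Z : Scheme.{u}) :
    Presieve.IsSheafFor (yoneda.obj Z) R := by
  exact (GrothendieckTopology.Subcanonical.isSheaf_of_isRepresentable
    (J := Scheme.fpqcTopology) (yoneda.obj Z)).isSheafFor _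
    (Precoverage.generate_mem_toGrothendieck hR)

/-- morphisms out of `S` are determined on an fpqc covering family. -/
theorem hom_ext_of_mem_fpqc (R : Presieve S) (hR : R ∈ Scheme.fpqcPrecoverage S) {Z : Scheme.{u}}
    (ψ ψ' : S ⟶ Z) (h : ∀ ⦃T : Scheme.{u}⦄ (g : T ⟶ S), R g → g ≫ ψ = g ≫ ψ') : ψ = ψ' := by
  have hs := (isSheafFor_yoneda R hR Z).isSeparatedFor
  exact hs.ext (t₁ := ψ) (t₂ := ψ') (fun T g hg => h g hg)

/-- gluing of morphisms along an fpqc covering family. -/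
theorem exists_glue (R : Presieve S) (hR : R ∈ Scheme.fpqcPrecoverage S) {Z : Scheme.{u}}
    (x : ∀ ⦃T : Scheme.{u}⦄ (g : T ⟶ S), R g → (T ⟶ Z))
    (hx : ∀ ⦃T₁ T₂ W : Scheme.{u}⦄ (g₁ : W ⟶ T₁) (g₂ : W ⟶ T₂) ⦃f₁ : T₁ ⟶ S⦄ ⦃f₂ : T₂ ⟶ S⦄
      (h₁ : R f₁) (h₂ : R f₂), g₁ ≫ f₁ = g₂ ≫ f₂ → g₁ ≫ x f₁ h₁ = g₂ ≫ x f₂ h₂) :
    ∃ ψ : S ⟶ Z, ∀ ⦃T : Scheme.{u}⦄ (g : T ⟶ S) (hg : R g), g ≫ ψ = x g hg := by
  have hs := isSheafFor_yoneda R hR Z
  let x' : Presieve.FamilyOfElements (yoneda.obj Z) R := fun T g hg => x g hg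
  have hx' : x'.Compatible := by
    intro T₁ T₂ W g₁ g₂ f₁ f₂ h₁ h₂ e
    exact hx g₁ g₂ h₁ h₂ e
  refine ⟨hs.amalgamate x' hx', fun T g hg => ?_⟩
  exact hs.valid_glue hx' g hg

variable {G X : Over S} [GrpObj G] (a : AlgGrp.Action G X)

/-- an invariant morphism takes the same value on two points of a pseudo-torsor. -/
theorem comp_eq_of_invariant (ha : NonAbH1.IsPseudoTorsorSch a) {Z : Scheme.{u}}
    (φ : X.left ⟶ Z) (hφ : a.act.left ≫ φ = (snd G X).left ≫ φ) {W : Over S} (y₁ y₂ : W ⟶ X) :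
    y₁.left ≫ φ = y₂.left ≫ φ := by
  have h := diff_smul a ha y₁ y₂
  have h1 : y₁ = lift (diff a ha y₁ y₂) y₂ ≫ a.act := h.symm
  rw [h1, Over.comp_left, Category.assoc, hφ, ← Category.assoc, ← Over.comp_left, lift_snd]

/-- **The base of a torsor is its categorical quotient**: every invariant morphism from the torsor
to a scheme factors uniquely through the base. -/
theorem exists_unique_desc (ha : NonAbH1.IsTorsorFor Scheme.fpqcPrecoverage a) {Z : Scheme.{u}}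
    (φ : X.left ⟶ Z) (hφ : a.act.left ≫ φ = (snd G X).left ≫ φ) :
    ∃! ψ : S ⟶ Z, X.hom ≫ ψ = φ := by
  obtain ⟨hpt, R, hR, hsec⟩ := ha
  choose σ hσ using hsec
  have hglue := exists_glue R hR (Z := Z) (fun T g hg => σ g hg ≫ φ) (by
    intro T₁ T₂ W g₁ g₂ f₁ f₂ h₁ h₂ e
    let y₁ : Over.mk (g₁ ≫ f₁) ⟶ X := Over.homMk (g₁ ≫ σ f₁ h₁) (by
      change (g₁ ≫ σ f₁ h₁) ≫ X.hom = g₁ ≫ f₁
      rw [Category.assoc, hσ])
    let y₂ : Over.mk (g₁ ≫ f₁) ⟶ X := Over.homMk (g₂ ≫ σ f₂ h₂) (by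
      change (g₂ ≫ σ f₂ h₂) ≫ X.hom = g₁ ≫ f₁
      rw [Category.assoc, hσ, e])
    have := comp_eq_of_invariant a hpt φ hφ y₁ y₂
    simpa [y₁, y₂] using this)
  obtain ⟨ψ, hψ⟩ := hglue
  have hsep : ∀ ψ₁ ψ₂ : S ⟶ Z, X.hom ≫ ψ₁ = X.hom ≫ ψ₂ → ψ₁ = ψ₂ := by
    intro ψ₁ ψ₂ h
    apply hom_ext_of_mem_fpqc R hR
    intro T g hg
    rw [← hσ g hg, Category.assoc, Category.assoc, h]
  have hψX : X.hom ≫ ψ = φ := by
    apply hom_ext_of_mem_fpqc (R.pullbackArrows X.hom) (Precoverage.pullbackArrows_mem X.hom hR)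
    rintro T g ⟨T', h, hh⟩
    let y₁ : Over.mk (pullback.fst h X.hom ≫ h) ⟶ X := Over.homMk (pullback.fst h X.hom ≫ σ h hh) (by
      change (pullback.fst h X.hom ≫ σ h hh) ≫ X.hom = pullback.fst h X.hom ≫ h
      rw [Category.assoc, hσ])
    let y₂ : Over.mk (pullback.fst h X.hom ≫ h) ⟶ X := Over.homMk (pullback.snd h X.hom) (by
      change pullback.snd h X.hom ≫ X.hom = pullback.fst h X.hom ≫ h
      rw [pullback.condition])
    have e := comp_eq_of_invariant a hpt φ hφ y₁ y₂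
    have e' : (pullback.fst h X.hom ≫ σ h hh) ≫ φ = pullback.snd h X.hom ≫ φ := e
    rw [← e', ← Category.assoc (pullback.snd h X.hom), ← pullback.condition, Category.assoc,
      hψ h hh, Category.assoc]
  exact ⟨ψ, hψX, fun ψ' hψ' => hsep _ _ (by rw [hψ', hψX])⟩

end Groth.Agent.Lib.Helper10.TorsorQuot
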