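import Mathlib
import Groth.Agent.Lib.Helper10.TorsorIso2
import Groth.Agent.Lib.Helper10.TorsorQuot1
import Groth.Prelude.Def_ChGrp
import Groth.Prelude.Def_NonAbH2

/-!
# Fibres of equivariant maps to a quotient group are pseudo-torsors under the kernel
-/

set_option autoImplicit false
set_option backward.isDefEq.respectTransparency.types false
set_option maxHeartbeats 4000000
set_option synthInstance.maxHeartbeats 400000
universe u
open CategoryTheory CategoryTheory.Limits AlgebraicGeometry MonoidalCategory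
  CartesianMonoidalCategory MonObj GrpObj

namespace Groth.Agent.Lib.Helper10.ExactTorsor

open Groth.Agent.Lib.Helper10.HomSp Groth.Agent.Lib.Helper10.GaTorsor
  Groth.Agent.Lib.Helper10.TorsorIso

variable {S : Scheme.{u}}

section OfMono

variable {H P Q : Over S} [GrpObj H] (a : AlgGrp.Action H P) (π : Q ⟶ P) [Mono π]
  (actQ : H ⊗ Q ⟶ Q) (h : actQ ≫ π = (H ◁ π) ≫ a.act)

include h in
theorem lift_actQ_comp {T : Over S} (g : T ⟶ H) (q : T ⟶ Q) :
    (lift g q ≫ actQ) ≫ π = lift g (q ≫ π) ≫ a.act := by
  rw [Category.assoc, h, ← Category.assoc]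
  congr 1
  apply CartesianMonoidalCategory.hom_ext
  · rw [Category.assoc, whiskerLeft_fst, lift_fst, lift_fst]
  · rw [Category.assoc, whiskerLeft_snd, lift_snd_assoc, lift_snd]

/-- an action restricts to an invariant subobject. -/
noncomputable def ofMono : AlgGrp.Action H Q where
  act := actQ
  one_act := by
    rw [← cancel_mono π]
    apply AlgGrp.Action.hom_ext_lift₂
    intro T e q
    have he : e = toUnit T := toUnit_unique _ _
    subst he
    have h1 : lift (toUnit T) q ≫ η[H] ▷ Q = lift (1 : T ⟶ H) q := by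
      apply CartesianMonoidalCategory.hom_ext
      · rw [Category.assoc, whiskerRight_fst, lift_fst_assoc, lift_fst, Hom.one_def]
      · rw [Category.assoc, whiskerRight_snd, lift_snd, lift_snd]
    rw [← Category.assoc, ← Category.assoc, h1, lift_actQ_comp a π actQ h,
      AlgGrp.Action.lift_one_act, leftUnitor_hom, lift_snd_assoc]
  mul_act := by
    rw [← cancel_mono π]
    apply AlgGrp.Action.hom_ext_lift₃
    intro T g g' q
    have h1 : lift (lift g g') q ≫ μ[H] ▷ Q = lift (g * g') q := by
      apply CartesianMonoidalCategory.hom_ext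
      · rw [Category.assoc, whiskerRight_fst, lift_fst_assoc, lift_fst, Hom.mul_def]
      · rw [Category.assoc, whiskerRight_snd, lift_snd, lift_snd]
    have h2 : lift (lift g g') q ≫ (α_ H H Q).hom ≫ H ◁ actQ = lift g (lift g' q ≫ actQ) := by
      apply CartesianMonoidalCategory.hom_ext
      · simp
      · simp
    rw [← Category.assoc, ← Category.assoc, h1, lift_actQ_comp a π actQ h,
      AlgGrp.Action.lift_mul_act]
    have h3 : lift (lift g g') q ≫ ((α_ H H Q).hom ≫ H ◁ actQ ≫ actQ) ≫ π =
        (lift g (lift g' q ≫ actQ) ≫ actQ) ≫ π := by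
      rw [← h2]
      simp only [Category.assoc]
    rw [h3, lift_actQ_comp a π actQ h, lift_actQ_comp a π actQ h]

@[simp] theorem ofMono_act : (ofMono a π actQ h).act = actQ := rfl

theorem smul_ofMono_comp {T : Over S} (g : T ⟶ H) (q : T ⟶ Q) :
    smul (ofMono a π actQ h) g q ≫ π = smul a g (q ≫ π) :=
  lift_actQ_comp a π actQ h g q

end OfMono

section Points

variable {G X : Over S} [GrpObj G] (a : AlgGrp.Action G X)

/-- an action which is simply transitive on points is a pseudo-torsor. -/
theorem isPseudoTorsorSch_of_forall_existsUnique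
    (h : ∀ (T : Over S) (x₁ x₂ : T ⟶ X), ∃! g : T ⟶ G, smul a g x₂ = x₁) :
    NonAbH1.IsPseudoTorsorSch a := by
  change IsIso (lift a.act (snd G X))
  apply isIso_of_yoneda_map_bijective
  intro T
  constructor
  · intro w w' hw
    have hw' : w ≫ lift a.act (snd G X) = w' ≫ lift a.act (snd G X) := hw
    have e1 : w ≫ a.act = w' ≫ a.act := by
      have := congrArg (fun k => k ≫ fst X X) hw'
      simpa using this
    have e2 : w ≫ snd G X = w' ≫ snd G X := by
      have := congrArg (fun k => k ≫ snd X X) hw'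
      simpa using this
    obtain ⟨g, _, hu⟩ := h T (w ≫ a.act) (w ≫ snd G X)
    have k1 : w ≫ fst G X = g := hu _ (comp_act a w).symm
    have k2 : w' ≫ fst G X = g := hu _ (by rw [e2, e1]; exact (comp_act a w').symm)
    apply CartesianMonoidalCategory.hom_ext
    · rw [k1, k2]
    · exact e2
  · intro v
    obtain ⟨g, hg, _⟩ := h T (v ≫ fst X X) (v ≫ snd X X)
    refine ⟨lift g (v ≫ snd X X), ?_⟩
    change lift g (v ≫ snd X X) ≫ lift a.act (snd G X) = v
    apply CartesianMonoidalCategory.hom_ext
    · rw [Category.assoc, lift_fst]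
      exact hg
    · rw [Category.assoc, lift_snd, lift_snd]

end Points

section Exact

variable {G G' G'' : Over S} [GrpObj G] [GrpObj G'] [GrpObj G'']
  {u : G' ⟶ G} {v : G ⟶ G''}

/-- exactness on points: two points of `G` with the same image in `G''` differ by a unique point
of `G'`. -/
theorem exists_unique_of_comp_eq
    (sq : IsPullback (fst G G') ((G ◁ u) ≫ μ[G]) v v) {T : Over S} (g₁ g₂ : T ⟶ G)
    (h : g₁ ≫ v = g₂ ≫ v) : ∃! g' : T ⟶ G', g₁ * (g' ≫ u) = g₂ := by
  have key : ∀ g' : T ⟶ G', lift g₁ g' ≫ (G ◁ u) ≫ μ[G] = g₁ * (g' ≫ u) := by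
    intro g'
    rw [Hom.mul_def, ← Category.assoc]
    congr 1
    apply CartesianMonoidalCategory.hom_ext
    · rw [Category.assoc, whiskerLeft_fst, lift_fst, lift_fst]
    · rw [Category.assoc, whiskerLeft_snd, lift_snd_assoc, lift_snd]
  refine ⟨sq.lift g₁ g₂ h ≫ snd G G', ?_, ?_⟩
  · have e : lift g₁ (sq.lift g₁ g₂ h ≫ snd G G') = sq.lift g₁ g₂ h := by
      apply CartesianMonoidalCategory.hom_ext
      · rw [lift_fst, sq.lift_fst]
      · rw [lift_snd]
    change g₁ * ((sq.lift g₁ g₂ h ≫ snd G G') ≫ u) = g₂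
    rw [← key, e, sq.lift_snd]
  · intro g'' hg''
    have e : lift g₁ g'' = sq.lift g₁ g₂ h := by
      apply sq.hom_ext
      · rw [lift_fst, sq.lift_fst]
      · rw [key, hg'', sq.lift_snd]
    rw [← e, lift_snd]

end Exact

end Groth.Agent.Lib.Helper10.ExactTorsor
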