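import Mathlib
import Groth.Agent.Lib.Helper10.TorsorQuot1

/-!
# Relative version: `Y × X → Y` is a categorical quotient for a locally trivial `X`
-/

set_option autoImplicit false
set_option backward.isDefEq.respectTransparency.types false
set_option maxHeartbeats 4000000
set_option synthInstance.maxHeartbeats 400000
universe u
open CategoryTheory CategoryTheory.Limits AlgebraicGeometry MonoidalCategory
  CartesianMonoidalCategory MonObj GrpObj

namespace Groth.Agent.Lib.Helper10.TorsorQuot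

variable {S : Scheme.{u}}

/-- gluing of morphisms along an indexed fpqc covering family. -/
theorem exists_unique_glue_arrows {I : Type*} {T : I → Scheme.{u}} (g : ∀ i, T i ⟶ S)
    (hR : Presieve.ofArrows T g ∈ Scheme.fpqcPrecoverage S) {Z : Scheme.{u}}
    (x : ∀ i, T i ⟶ Z)
    (hx : ∀ i j (W : Scheme.{u}) (gi : W ⟶ T i) (gj : W ⟶ T j),
      gi ≫ g i = gj ≫ g j → gi ≫ x i = gj ≫ x j) :
    ∃! ψ : S ⟶ Z, ∀ i, g i ≫ ψ = x i := by
  have hs := isSheafFor_yoneda _ hR Z
  rw [Presieve.isSheafFor_arrows_iff] at hs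
  exact hs x hx

/-- **Relative categorical quotient**: if `X` acquires sections fpqc-locally on `S`, a morphism out
of `Y ×_S X` which does not depend on the `X`-coordinate factors uniquely through `Y`. -/
theorem exists_unique_desc_rel {X : Over S}
    (hX : NonAbH1.IsLocallyTrivialFor Scheme.fpqcPrecoverage X) (Y : Over S) {Z : Scheme.{u}}
    (φ : (Y ⊗ X).left ⟶ Z)
    (hφ : ∀ (T : Over S) (y : T ⟶ Y) (x₁ x₂ : T ⟶ X),
      (lift y x₁).left ≫ φ = (lift y x₂).left ≫ φ) :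
    ∃! ψ : Y.left ⟶ Z, (fst Y X).left ≫ ψ = φ := by
  obtain ⟨R, hR, hsec⟩ := hX
  obtain ⟨E, rfl⟩ := R.exists_eq_preZeroHypercover
  have hsec' : ∀ i, ∃ s : E.X i ⟶ X.left, s ≫ X.hom = E.f i := fun i => hsec (E.f i) ⟨i⟩
  choose σ hσ using hsec'
  have hR' : Presieve.ofArrows E.X E.f ∈ Scheme.fpqcPrecoverage S := hR
  -- the induced cover of `Y`
  let c : ∀ i, pullback (E.f i) Y.hom ⟶ Y.left := fun i => pullback.snd (E.f i) Y.hom
  have hc : Presieve.ofArrows (fun i => pullback (E.f i) Y.hom) c ∈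
      Scheme.fpqcPrecoverage Y.left :=
    Precoverage.mem_coverings_of_isPullback E.f hR' Y.hom c (fun i => pullback.fst (E.f i) Y.hom)
      (fun i => (IsPullback.of_hasPullback (E.f i) Y.hom).flip)
  let yy : ∀ i, Over.mk (c i ≫ Y.hom) ⟶ Y := fun i => Over.homMk (c i) rfl
  let qq : ∀ i, Over.mk (c i ≫ Y.hom) ⟶ X := fun i =>
    Over.homMk (pullback.fst (E.f i) Y.hom ≫ σ i) (by
      change (pullback.fst (E.f i) Y.hom ≫ σ i) ≫ X.hom = pullback.snd (E.f i) Y.hom ≫ Y.hom
      rw [Category.assoc, hσ, pullback.condition])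
  obtain ⟨ψ, hψ, hψu⟩ := exists_unique_glue_arrows c hc
    (fun i => (lift (yy i) (qq i)).left ≫ φ) (by
      intro i j W gi gj e
      let Gi : Over.mk (gi ≫ c i ≫ Y.hom) ⟶ Over.mk (c i ≫ Y.hom) := Over.homMk gi rfl
      let Gj : Over.mk (gi ≫ c i ≫ Y.hom) ⟶ Over.mk (c j ≫ Y.hom) := Over.homMk gj (by
        change gj ≫ c j ≫ Y.hom = gi ≫ c i ≫ Y.hom
        rw [← Category.assoc, ← e, Category.assoc])
      have e1 : Gi ≫ yy i = Gj ≫ yy j := Over.OverMorphism.ext e
      have h1 : gi ≫ (lift (yy i) (qq i)).left = (lift (Gi ≫ yy i) (Gi ≫ qq i)).left := by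
        rw [← comp_lift]
        rfl
      have h2 : gj ≫ (lift (yy j) (qq j)).left = (lift (Gj ≫ yy j) (Gj ≫ qq j)).left := by
        rw [← comp_lift]
        rfl
      rw [← Category.assoc, ← Category.assoc, h1, h2, ← e1]
      exact hφ _ _ _ _)
  have huniq : ∀ ψ' : Y.left ⟶ Z, (fst Y X).left ≫ ψ' = φ → ψ' = ψ := by
    intro ψ' hψ'
    apply hψu
    intro i
    change c i ≫ ψ' = (lift (yy i) (qq i)).left ≫ φ
    rw [← hψ', ← Category.assoc, ← Over.comp_left, lift_fst]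
    rfl
  refine ⟨ψ, ?_, huniq⟩
  -- check on a cover of `Y ⊗ X`
  let d : ∀ i, pullback (E.f i) (Y ⊗ X).hom ⟶ (Y ⊗ X).left :=
    fun i => pullback.snd (E.f i) (Y ⊗ X).hom
  have hd : Presieve.ofArrows (fun i => pullback (E.f i) (Y ⊗ X).hom) d ∈
      Scheme.fpqcPrecoverage (Y ⊗ X).left :=
    Precoverage.mem_coverings_of_isPullback E.f hR' (Y ⊗ X).hom d
      (fun i => pullback.fst (E.f i) (Y ⊗ X).hom)
      (fun i => (IsPullback.of_hasPullback (E.f i) (Y ⊗ X).hom).flip)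
  have hw : (fst Y X).left ≫ Y.hom = (Y ⊗ X).hom := Over.w (fst Y X)
  have key : ∀ i, d i ≫ (fst Y X).left ≫ ψ = d i ≫ φ := by
    intro i
    let m : pullback (E.f i) (Y ⊗ X).hom ⟶ pullback (E.f i) Y.hom :=
      pullback.lift (pullback.fst (E.f i) (Y ⊗ X).hom) (d i ≫ (fst Y X).left) (by
        rw [Category.assoc, hw, pullback.condition])
    have hm : m ≫ c i = d i ≫ (fst Y X).left := pullback.lift_snd _ _ _
    let M : Over.mk (d i ≫ (Y ⊗ X).hom) ⟶ Over.mk (c i ≫ Y.hom) := Over.homMk m (by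
      change m ≫ c i ≫ Y.hom = d i ≫ (Y ⊗ X).hom
      rw [← Category.assoc, hm, Category.assoc, hw])
    let D : Over.mk (d i ≫ (Y ⊗ X).hom) ⟶ Y ⊗ X := Over.homMk (d i) rfl
    have e1 : M ≫ yy i = D ≫ fst Y X := Over.OverMorphism.ext hm
    have h1 : m ≫ (lift (yy i) (qq i)).left = (lift (M ≫ yy i) (M ≫ qq i)).left := by
      rw [← comp_lift]
      rfl
    have h2 : d i = (lift (D ≫ fst Y X) (D ≫ snd Y X)).left := by
      rw [← comp_lift, lift_fst_snd, Category.comp_id]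
      rfl
    rw [← Category.assoc, ← hm, Category.assoc, hψ i, ← Category.assoc, h1, e1]
    conv_rhs => rw [h2]
    exact hφ _ _ _ _
  apply hom_ext_of_mem_fpqc _ hd
  rintro T g ⟨i⟩
  exact key i

end Groth.Agent.Lib.Helper10.TorsorQuot
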