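import Mathlib
import Groth.Agent.Lib.Helper10.ExactTorsor1
import Groth.Agent.Lib.Helper10.TorsorQuot3

/-!
# The quotient in an exact sequence of group schemes is a categorical quotient
-/

set_option autoImplicit false
set_option backward.isDefEq.respectTransparency.types false
set_option maxHeartbeats 4000000
set_option synthInstance.maxHeartbeats 400000
universe u
open CategoryTheory CategoryTheory.Limits AlgebraicGeometry MonoidalCategory
  CartesianMonoidalCategory MonObj GrpObj

namespace Groth.Agent.Lib.Helper10.ExactQuot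

open Groth.Agent.Lib.Helper10.TorsorQuot Groth.Agent.Lib.Helper10.ExactTorsor

variable {S : Scheme.{u}} {G E P : Over S} [GrpObj G] [GrpObj E] [GrpObj P]
  {u : G ⟶ E} {v : E ⟶ P}

/-- **Quotient property**: a morphism out of `E` which is invariant under translation by `G`
factors uniquely through `v : E ⟶ P`, when `v` has sections fpqc-locally. -/
theorem exists_unique_desc_of_exact
    (sq : IsPullback (fst E G) ((E ◁ u) ≫ μ[E]) v v)
    (hloc : NonAbH1.IsLocallyTrivialFor Scheme.fpqcPrecoverage (Over.mk v.left : Over P.left))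
    {Z : Over S} (d : E ⟶ Z)
    (hd : ∀ (T : Over S) (x : T ⟶ E) (g : T ⟶ G), (x * (g ≫ u)) ≫ d = x ≫ d) :
    ∃! d' : P ⟶ Z, v ≫ d' = d := by
  obtain ⟨R, hR, hsec⟩ := hloc
  obtain ⟨C, rfl⟩ := R.exists_eq_preZeroHypercover
  have hsec' : ∀ i, ∃ s : C.X i ⟶ E.left, s ≫ v.left = C.f i := fun i => hsec (C.f i) ⟨i⟩
  choose τ hτ using hsec'
  have hR' : Presieve.ofArrows C.X C.f ∈ Scheme.fpqcPrecoverage P.left := hR
  have hEw : E.hom = v.left ≫ P.hom := (Over.w v).symm
  -- invariance on points with the same image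
  have hinv : ∀ (T : Over S) (x₁ x₂ : T ⟶ E), x₁ ≫ v = x₂ ≫ v → x₁ ≫ d = x₂ ≫ d := by
    intro T x₁ x₂ h
    obtain ⟨g, hg, -⟩ := exists_unique_of_comp_eq sq x₁ x₂ h
    rw [← hg, hd]
  obtain ⟨ψ, hψ, hψu⟩ := exists_unique_glue_arrows C.f hR' (fun i => τ i ≫ d.left) (by
    intro i j W gi gj e
    let xi : Over.mk (gi ≫ C.f i ≫ P.hom) ⟶ E := Over.homMk (gi ≫ τ i) (by
      change (gi ≫ τ i) ≫ E.hom = gi ≫ C.f i ≫ P.hom
      rw [hEw, Category.assoc, ← Category.assoc (τ i), hτ])
    let xj : Over.mk (gi ≫ C.f i ≫ P.hom) ⟶ E := Over.homMk (gj ≫ τ j) (by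
      change (gj ≫ τ j) ≫ E.hom = gi ≫ C.f i ≫ P.hom
      rw [hEw, Category.assoc, ← Category.assoc (τ j), hτ, ← Category.assoc, ← e, Category.assoc])
    have hv : xi ≫ v = xj ≫ v := by
      apply Over.OverMorphism.ext
      change (gi ≫ τ i) ≫ v.left = (gj ≫ τ j) ≫ v.left
      rw [Category.assoc, hτ, Category.assoc, hτ, e]
    have := congrArg (fun k => k.left) (hinv _ xi xj hv)
    simpa [xi, xj] using this)
  have hψS : ψ ≫ Z.hom = P.hom := by
    apply hom_ext_of_mem_fpqc _ hR'
    have key : ∀ i, C.f i ≫ ψ ≫ Z.hom = C.f i ≫ P.hom := by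
      intro i
      rw [← Category.assoc, hψ i, Category.assoc, Over.w d, hEw, ← Category.assoc, hτ]
    rintro T g ⟨i⟩
    exact key i
  have hvψ : v.left ≫ ψ = d.left := by
    let D : ∀ i, pullback (C.f i) v.left ⟶ E.left := fun i => pullback.snd (C.f i) v.left
    have hD : Presieve.ofArrows (fun i => pullback (C.f i) v.left) D ∈
        Scheme.fpqcPrecoverage E.left :=
      Precoverage.mem_coverings_of_isPullback C.f hR' v.left D
        (fun i => pullback.fst (C.f i) v.left)
        (fun i => (IsPullback.of_hasPullback (C.f i) v.left).flip)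
    have key : ∀ i, D i ≫ v.left ≫ ψ = D i ≫ d.left := by
      intro i
      let x₁ : Over.mk (D i ≫ E.hom) ⟶ E :=
        Over.homMk (pullback.fst (C.f i) v.left ≫ τ i) (by
          change (pullback.fst (C.f i) v.left ≫ τ i) ≫ E.hom = pullback.snd (C.f i) v.left ≫ E.hom
          rw [hEw, Category.assoc, ← Category.assoc (τ i), hτ, ← Category.assoc,
            pullback.condition, Category.assoc])
      let x₂ : Over.mk (D i ≫ E.hom) ⟶ E := Over.homMk (D i) rfl
      have hv : x₁ ≫ v = x₂ ≫ v := by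
        apply Over.OverMorphism.ext
        change (pullback.fst (C.f i) v.left ≫ τ i) ≫ v.left = pullback.snd (C.f i) v.left ≫ v.left
        rw [Category.assoc, hτ, pullback.condition]
      have h1 := congrArg (fun k => k.left) (hinv _ x₁ x₂ hv)
      have h2 : (pullback.fst (C.f i) v.left ≫ τ i) ≫ d.left = D i ≫ d.left := h1
      rw [← h2, ← Category.assoc (D i), ← pullback.condition, Category.assoc, hψ i,
        Category.assoc]
    apply hom_ext_of_mem_fpqc _ hD
    rintro T g ⟨i⟩
    exact key i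
  refine ⟨Over.homMk ψ hψS, Over.OverMorphism.ext hvψ, ?_⟩
  intro d' hd'
  apply Over.OverMorphism.ext
  apply hψu
  intro i
  have h1 : v.left ≫ d'.left = d.left := congrArg (fun k => k.left) hd'
  rw [← h1, ← Category.assoc, hτ]

end Groth.Agent.Lib.Helper10.ExactQuot
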