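import Mathlib
import Groth.Agent.Lib.Helper10.ExactTorsor1

/-!
# Fibres of equivariant maps to a quotient group are pseudo-torsors under the kernel, II
-/

set_option autoImplicit false
set_option backward.isDefEq.respectTransparency.types false
set_option maxHeartbeats 4000000
set_option synthInstance.maxHeartbeats 400000
universe u
open CategoryTheory CategoryTheory.Limits AlgebraicGeometry MonoidalCategory
  CartesianMonoidalCategory MonObj GrpObj

namespace Groth.Agent.Lib.Helper10.ExactTorsor

open Groth.Agent.Lib.Helper10.HomSp Groth.Agent.Lib.Helper10.GaTorsor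
  Groth.Agent.Lib.Helper10.TorsorIso

variable {S : Scheme.{u}}

section Fibre

variable {G G' G'' : Over S} [GrpObj G] [GrpObj G'] [GrpObj G'']
  (u : G' ⟶ G) (v : G ⟶ G'') [hu : IsMonHom u] [hv : IsMonHom v]
  {P : Over S} (a : AlgGrp.Action G P)
  (w : P ⟶ G'') (hw : a.act ≫ w = lift (fst G P ≫ v) (snd G P ≫ w) ≫ μ[G''])
  (f : 𝟙_ (Over S) ⟶ G'')

include hw in
theorem smul_comp_w {T : Over S} (g : T ⟶ G) (p : T ⟶ P) :
    smul a g p ≫ w = (g ≫ v) * (p ≫ w) := by
  change (lift g p ≫ a.act) ≫ w = _
  rw [Category.assoc, hw, Hom.mul_def, ← Category.assoc]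
  congr 1
  apply CartesianMonoidalCategory.hom_ext
  · rw [Category.assoc, lift_fst, lift_fst_assoc, lift_fst]
  · rw [Category.assoc, lift_snd, lift_snd_assoc, lift_snd]

/-- the fibre of `w` over the section `f`. -/
noncomputable abbrev fib : Over S := Limits.pullback w f

/-- the inclusion of the fibre. -/
noncomputable abbrev fibι : fib w f ⟶ P := pullback.fst w f

instance mono_section : Mono f := ⟨fun _ _ _ => toUnit_unique _ _⟩

instance mono_fibι : Mono (fibι w f) := pullback.fst_of_mono

theorem comp_fibι_comp_w {T : Over S} (q : T ⟶ fib w f) :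
    (q ≫ fibι w f) ≫ w = toUnit T ≫ f := by
  rw [Category.assoc, pullback.condition, ← Category.assoc]
  congr 1
  exact toUnit_unique _ _

variable (huv : u ≫ v = 1)

/-- the action morphism on the fibre. -/
noncomputable def fibAct : G' ⊗ fib w f ⟶ fib w f :=
  pullback.lift (smul a (fst G' (fib w f) ≫ u) (snd G' (fib w f) ≫ fibι w f)) (toUnit _) (by
    rw [smul_comp_w v a w hw, Category.assoc, huv, MonObj.comp_one, _root_.one_mul,
      comp_fibι_comp_w])

theorem fibAct_comp :
    fibAct u v a w hw f huv ≫ fibι w f = (G' ◁ fibι w f) ≫ (a.restrict u).act := by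
  rw [fibAct, pullback.lift_fst, AlgGrp.Action.restrict_act, ← Category.assoc]
  change lift _ _ ≫ a.act = _
  congr 1
  apply CartesianMonoidalCategory.hom_ext
  · rw [lift_fst, Category.assoc, whiskerRight_fst, whiskerLeft_fst_assoc]
  · rw [lift_snd, Category.assoc, whiskerRight_snd, whiskerLeft_snd]

/-- the action of the kernel on the fibre. -/
noncomputable def fibAction : AlgGrp.Action G' (fib w f) :=
  ofMono (a.restrict u) (fibι w f) (fibAct u v a w hw f huv) (fibAct_comp u v a w hw f huv)

theorem smul_fibAction_comp {T : Over S} (g' : T ⟶ G') (q : T ⟶ fib w f) :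
    smul (fibAction u v a w hw f huv) g' q ≫ fibι w f = smul a (g' ≫ u) (q ≫ fibι w f) := by
  rw [fibAction, smul_ofMono_comp]
  exact AlgGrp.Action.lift_restrict_act u a g' _

theorem fibAction_act_comp :
    (fibAction u v a w hw f huv).act ≫ fibι w f =
      lift (fst G' (fib w f) ≫ u) (snd G' (fib w f) ≫ fibι w f) ≫ a.act := by
  change fibAct u v a w hw f huv ≫ fibι w f = _
  rw [fibAct, pullback.lift_fst]
  rfl

include hv in
/-- the fibre is a pseudo-torsor under the kernel. -/
theorem isPseudoTorsorSch_fibAction (hP : NonAbH1.IsPseudoTorsorSch a)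
    (sq : IsPullback (fst G G') ((G ◁ u) ≫ μ[G]) v v) :
    NonAbH1.IsPseudoTorsorSch (fibAction u v a w hw f huv) := by
  apply isPseudoTorsorSch_of_forall_existsUnique
  intro T q₁ q₂
  set d := diff a hP (q₁ ≫ fibι w f) (q₂ ≫ fibι w f) with hd
  have hd1 : smul a d (q₂ ≫ fibι w f) = q₁ ≫ fibι w f := diff_smul a hP _ _
  have hdv : d ≫ v = 1 := by
    have h1 : smul a d (q₂ ≫ fibι w f) ≫ w = (q₁ ≫ fibι w f) ≫ w := by rw [hd1]
    rw [smul_comp_w v a w hw, comp_fibι_comp_w, comp_fibι_comp_w] at h1
    exact mul_right_cancel (h1.trans (_root_.one_mul _).symm)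
  have h1v : (1 : T ⟶ G) ≫ v = d ≫ v := by rw [hdv, MonObj.one_comp v]
  obtain ⟨g', hg', hguniq⟩ := exists_unique_of_comp_eq sq (1 : T ⟶ G) d h1v
  rw [_root_.one_mul] at hg'
  refine ⟨g', ?_, ?_⟩
  · change smul (fibAction u v a w hw f huv) g' q₂ = q₁
    rw [← cancel_mono (fibι w f), smul_fibAction_comp, hg', hd1]
  · intro g'' hg''
    have hg''' : smul (fibAction u v a w hw f huv) g'' q₂ = q₁ := hg''
    apply hguniq
    rw [_root_.one_mul]
    apply eq_diff a hP
    rw [← smul_fibAction_comp u v a w hw f huv, hg''']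

end Fibre

end Groth.Agent.Lib.Helper10.ExactTorsor
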