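import Mathlib
import Groth.Agent.Lib.Helper10.TorsorQuot1

/-!
# Functions on the base of an fpqc torsor are the invariant functions on the torsor
-/

set_option autoImplicit false
set_option backward.isDefEq.respectTransparency.types false
set_option maxHeartbeats 4000000
set_option synthInstance.maxHeartbeats 400000
universe u
open CategoryTheory CategoryTheory.Limits AlgebraicGeometry MonoidalCategory
  CartesianMonoidalCategory MonObj GrpObj

namespace Groth.Agent.Lib.Helper10.TorsorQuot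

open Groth.Agent.Lib.Helper10.HomSp Groth.Agent.Lib.Helper10.GaTorsor
  Groth.Agent.Lib.Helper21.GaPts

variable {S : Scheme.{u}} {G X : Over S} [GrpObj G] (a : AlgGrp.Action G X)

theorem act_left_comp_hom : a.act.left ≫ X.hom = (snd G X).left ≫ X.hom := by
  rw [Over.w, Over.w]

/-- the structure morphism of a torsor is an epimorphism of schemes. -/
theorem cancel_hom (ha : NonAbH1.IsTorsorFor Scheme.fpqcPrecoverage a) {Z : Scheme.{u}}
    (ψ₁ ψ₂ : S ⟶ Z) (h : X.hom ≫ ψ₁ = X.hom ≫ ψ₂) : ψ₁ = ψ₂ := by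
  obtain ⟨ψ, _, hu⟩ := exists_unique_desc a ha (X.hom ≫ ψ₁) (by
    rw [← Category.assoc, ← Category.assoc, act_left_comp_hom])
  rw [hu ψ₁ rfl, hu ψ₂ h.symm]

theorem injective_appTop (ha : NonAbH1.IsTorsorFor Scheme.fpqcPrecoverage a) :
    Function.Injective X.hom.appTop.hom := by
  intro r r' h
  let p : X ⟶ Over.mk (𝟙 S) := Over.homMk X.hom (by simp)
  have h1 : p ≫ gaPt (S := S) (X := Over.mk (𝟙 S)) r = p ≫ gaPt (S := S) (X := Over.mk (𝟙 S)) r' := by
    rw [gaPt_comp, gaPt_comp]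
    congr 1
  have h2 : X.hom ≫ (gaPt (S := S) (X := Over.mk (𝟙 S)) r).left =
      X.hom ≫ (gaPt (S := S) (X := Over.mk (𝟙 S)) r').left :=
    congrArg (fun k => k.left) h1
  have h3 := cancel_hom a ha _ _ h2
  have h4 : gaPt (S := S) (X := Over.mk (𝟙 S)) r = gaPt (S := S) (X := Over.mk (𝟙 S)) r' :=
    Over.OverMorphism.ext h3
  have h5 := congrArg Red.gaFn h4
  rwa [gaFn_gaPt, gaFn_gaPt] at h5

theorem mem_range_appTop_iff (ha : NonAbH1.IsTorsorFor Scheme.fpqcPrecoverage a)
    (s : Γ(X.left, ⊤)) : s ∈ Set.range X.hom.appTop.hom ↔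
      a.act.left.appTop.hom s = (snd G X).left.appTop.hom s := by
  constructor
  · rintro ⟨r, rfl⟩
    have e1 : a.act.left.appTop.hom (X.hom.appTop.hom r) = (a.act.left ≫ X.hom).appTop.hom r := by
      rw [Scheme.Hom.comp_appTop]
      rfl
    have e2 : (snd G X).left.appTop.hom (X.hom.appTop.hom r) =
        ((snd G X).left ≫ X.hom).appTop.hom r := by
      rw [Scheme.Hom.comp_appTop]
      rfl
    rw [e1, e2, act_left_comp_hom]
  · intro hs
    let x : X ⟶ Red.Ga S := gaPt s
    have hx : a.act ≫ x = snd G X ≫ x := by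
      change a.act ≫ gaPt s = snd G X ≫ gaPt s
      rw [gaPt_comp, gaPt_comp]
      congr 1
    have hφ : a.act.left ≫ x.left = (snd G X).left ≫ x.left :=
      congrArg (fun k => k.left) hx
    obtain ⟨ψ, hψ, _⟩ := exists_unique_desc a ha x.left hφ
    have hψ1 : ψ ≫ (Red.Ga S).hom = 𝟙 S := by
      apply cancel_hom a ha
      rw [← Category.assoc, hψ, Over.w, Category.comp_id]
    let ψ' : Over.mk (𝟙 S) ⟶ Red.Ga S := Over.homMk ψ hψ1
    let p : X ⟶ Over.mk (𝟙 S) := Over.homMk X.hom (by simp)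
    have hp : p ≫ ψ' = x := Over.OverMorphism.ext hψ
    refine ⟨Red.gaFn ψ', ?_⟩
    have e := gaFn_comp p ψ'
    rw [hp] at e
    have e' : Red.gaFn x = s := gaFn_gaPt s
    rw [e'] at e
    exact e.symm

end Groth.Agent.Lib.Helper10.TorsorQuot
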