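import Mathlib
import Groth.Agent.Lib.Helper10.ExactTorsor2
import Groth.Agent.Lib.Helper10.TorsorQuot2

/-!
# Exactness of the cohomology sequence at `H¹(S, G')`
-/

set_option autoImplicit false
set_option backward.isDefEq.respectTransparency.types false
set_option maxHeartbeats 4000000
set_option synthInstance.maxHeartbeats 400000
universe u
open CategoryTheory CategoryTheory.Limits AlgebraicGeometry MonoidalCategory
  CartesianMonoidalCategory MonObj GrpObj

namespace Groth.Agent.Lib.Helper10.ExactTorsor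

open Groth.Agent.Lib.Helper10.HomSp Groth.Agent.Lib.Helper10.GaTorsor
  Groth.Agent.Lib.Helper10.TorsorIso Groth.Agent.Lib.Helper10.TorsorQuot

variable {S : Scheme.{u}} {G G' G'' : Over S} [GrpObj G] [GrpObj G'] [GrpObj G'']

theorem trivialAction_act : (NonAbH1.trivialAction G).act = μ[G] := rfl

theorem inv_comp_hom (v : G ⟶ G'') [IsMonHom v] : ι[G] ≫ v = v ≫ ι[G''] := by
  have h := GrpObj.inv_comp (𝟙 G) v
  rw [Hom.inv_def, Hom.inv_def, Category.id_comp, Category.id_comp] at h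
  exact h

theorem mul_hom_lift (v : G ⟶ G'') [IsMonHom v] :
    (NonAbH1.trivialAction G).act ≫ v = lift (fst G G ≫ v) (snd G G ≫ v) ≫ μ[G''] := by
  rw [trivialAction_act, IsMonHom.mul_hom]
  congr 1

variable (u : G' ⟶ G) (v : G ⟶ G'')

theorem isPushforward_of_isPullbackTorsor {X : Over S} (a : AlgGrp.Action G' X)
    (f : 𝟙_ (Over S) ⟶ G'') (i : X ⟶ G) (h : NonAbH1.IsPullbackTorsor u v f i a) :
    NonAbH1.IsPushforwardAlongSch u a (NonAbH1.trivialAction G) := by
  obtain ⟨_, _, _, heq⟩ := h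
  refine ⟨i⁻¹, ?_⟩
  have h1 : a.act ≫ i = (snd G' X ≫ i) * (fst G' X ≫ u)⁻¹ := by
    have := heq (G' ⊗ X) (fst G' X) (snd G' X)
    rwa [lift_fst_snd, Category.id_comp] at this
  rw [trivialAction_act, ← Hom.mul_def, GrpObj.comp_inv, h1, GrpObj.comp_inv, _root_.mul_inv_rev, _root_.inv_inv]

theorem isPullbackTorsor_of_isPushforward [IsCommMonObj G]
    (hex : NonAbH1.IsExactSeq Scheme.fpqcPrecoverage u v)
    (Q : NonAbH1.TorsorSch G' Scheme.fpqcPrecoverage)
    (h : NonAbH1.IsPushforwardAlongSch u Q.act (NonAbH1.trivialAction G)) :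
    ∃ (f : 𝟙_ (Over S) ⟶ G'') (i : Q.X ⟶ G), NonAbH1.IsPullbackTorsor u v f i Q.act := by
  obtain ⟨hu, hv, huv, sq, -⟩ := hex
  haveI := hu
  haveI := hv
  obtain ⟨j, hj⟩ := h
  rw [trivialAction_act, ← Hom.mul_def] at hj
  -- the section of `G''`
  have hinv : Q.act.act ≫ j ≫ v = snd G' Q.X ≫ j ≫ v := by
    rw [← Category.assoc, hj, MonObj.mul_comp, Category.assoc, huv, MonObj.comp_one, _root_.one_mul,
      Category.assoc]
  have hφ : Q.act.act.left ≫ (j ≫ v).left = (snd G' Q.X).left ≫ (j ≫ v).left :=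
    congrArg (fun k => k.left) hinv
  obtain ⟨ψ, hψ, -⟩ := exists_unique_desc Q.act Q.isTorsor (j ≫ v).left hφ
  have hψ1 : ψ ≫ G''.hom = 𝟙 S := by
    apply cancel_hom Q.act Q.isTorsor
    rw [← Category.assoc, hψ, Over.w, Category.comp_id]
  let f' : 𝟙_ (Over S) ⟶ G'' := Over.homMk ψ hψ1
  have hf' : j ≫ v = toUnit Q.X ≫ f' := Over.OverMorphism.ext hψ.symm
  -- the fibre of `v` over `f'`
  have hw := mul_hom_lift v
  have hF := isPseudoTorsorSch_fibAction u v (NonAbH1.trivialAction G) v hw f' huv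
    (NonAbH1.isPseudoTorsorSch_trivialAction G) sq
  let c : Q.X ⟶ fib v f' := pullback.lift j (toUnit Q.X) hf'
  have hc1 : c ≫ fibι v f' = j := pullback.lift_fst _ _ _
  have hc2 : c ≫ pullback.snd v f' = toUnit Q.X := pullback.lift_snd _ _ _
  have hceq : AlgGrp.Action.IsEquivariant Q.act
      (fibAction u v (NonAbH1.trivialAction G) v hw f' huv) c := by
    change Q.act.act ≫ c = (G' ◁ c) ≫ (fibAction u v (NonAbH1.trivialAction G) v hw f' huv).act
    rw [← cancel_mono (fibι v f'), Category.assoc, Category.assoc, hc1, fibAction_act_comp,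
      trivialAction_act, ← Hom.mul_def, hj, MonObj.comp_mul]
    congr 1
    · rw [whiskerLeft_fst_assoc]
    · rw [whiskerLeft_snd_assoc, hc1]
  haveI : IsIso c := isIso_of_isEquivariant Q.act _ Q.isTorsor hF c hceq
  have sq1 : IsPullback j (toUnit Q.X) v f' :=
    IsPullback.of_iso_pullback ⟨hf'⟩ (asIso c) hc1 hc2
  haveI : IsIso ι[G] := ⟨⟨ι[G], GrpObj.inv_comp_inv G, GrpObj.inv_comp_inv G⟩⟩
  haveI : IsIso ι[G''] := ⟨⟨ι[G''], GrpObj.inv_comp_inv G'', GrpObj.inv_comp_inv G''⟩⟩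
  have sq2 : IsPullback ι[G] v v ι[G''] := IsPullback.of_horiz_isIso ⟨inv_comp_hom v⟩
  refine ⟨f' ≫ ι[G''], j ≫ ι[G], hu, hv, sq1.paste_horiz sq2, ?_⟩
  intro T g' p
  have h1 : lift g' p ≫ Q.act.act ≫ j = (g' ≫ u) * (p ≫ j) := by
    rw [hj, MonObj.comp_mul, lift_fst_assoc, lift_snd_assoc]
  rw [← Category.assoc, ← Category.assoc, Category.assoc (lift g' p), h1, ← Hom.inv_def,
    ← Category.assoc, ← Hom.inv_def, _root_.mul_inv_rev]

end Groth.Agent.Lib.Helper10.ExactTorsor
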