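import Mathlib
import Groth.Agent.Lib.Helper10.ExactTorsor3
import Groth.Agent.Lib.Helper10.TorsorQuot3

/-!
# Exactness of the cohomology sequence at `H¹(S, G)`
-/

set_option autoImplicit false
set_option backward.isDefEq.respectTransparency.types false
set_option maxHeartbeats 4000000
set_option synthInstance.maxHeartbeats 400000
universe u
open CategoryTheory CategoryTheory.Limits AlgebraicGeometry MonoidalCategory
  CartesianMonoidalCategory MonObj GrpObj

namespace Groth.Agent.Lib.Helper10.ExactTorsor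

open Groth.Agent.Lib.Helper10.HomSp Groth.Agent.Lib.Helper10.GaTorsor
  Groth.Agent.Lib.Helper10.TorsorIso Groth.Agent.Lib.Helper10.TorsorQuot

variable {S : Scheme.{u}}

/-- the projection `Y ⊗ X ⟶ Y` is an epimorphism when `X` is locally trivial. -/
theorem cancel_fst_rel {X : Over S}
    (hX : NonAbH1.IsLocallyTrivialFor Scheme.fpqcPrecoverage X) {Y Z : Over S} (f₁ f₂ : Y ⟶ Z)
    (h : fst Y X ≫ f₁ = fst Y X ≫ f₂) : f₁ = f₂ := by
  obtain ⟨ψ, _, hu⟩ := exists_unique_desc_rel hX Y (fst Y X ≫ f₁).left (by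
    intro T y x₁ x₂
    rw [← Over.comp_left, ← Over.comp_left, ← Category.assoc, ← Category.assoc, lift_fst, lift_fst])
  apply Over.OverMorphism.ext
  rw [hu f₁.left rfl, hu f₂.left (congrArg (fun k => k.left) h.symm)]

section Diff

variable {G X : Over S} [GrpObj G] (a : AlgGrp.Action G X) (ha : NonAbH1.IsPseudoTorsorSch a)

theorem diff_smul_left {T : Over S} (g : T ⟶ G) (y z : T ⟶ X) :
    diff a ha (smul a g y) z = g * diff a ha y z := by
  symm
  apply eq_diff
  rw [HomSp.mul_smul, diff_smul]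

theorem diff_smul_right {T : Over S} (g : T ⟶ G) (y z : T ⟶ X) :
    diff a ha y (smul a g z) = diff a ha y z * g⁻¹ := by
  symm
  apply eq_diff
  rw [← HomSp.mul_smul, _root_.mul_assoc, inv_mul_cancel, _root_.mul_one, diff_smul]

end Diff

variable {G G' G'' : Over S} [GrpObj G] [GrpObj G'] [GrpObj G''] (u : G' ⟶ G) (v : G ⟶ G'')

/-- a torsor which has a reduction to `G'` has trivial image in `H¹(G'')`. -/
theorem isPushforward_of_reduction
    (hex : NonAbH1.IsExactSeq Scheme.fpqcPrecoverage u v)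
    (P : NonAbH1.TorsorSch G Scheme.fpqcPrecoverage)
    (Q : NonAbH1.TorsorSch G' Scheme.fpqcPrecoverage)
    (h : NonAbH1.IsPushforwardAlongSch u Q.act P.act) :
    NonAbH1.IsPushforwardAlongSch v P.act (NonAbH1.trivialAction G'') := by
  obtain ⟨hu, hv, huv, sq, -⟩ := hex
  haveI := hu
  haveI := hv
  obtain ⟨k, hk⟩ := h
  have hP := P.isTorsor.1
  have hQ := Q.isTorsor.1
  have hk' : ∀ {T : Over S} (g' : T ⟶ G') (q : T ⟶ Q.X),
      smul Q.act g' q ≫ k = smul P.act (g' ≫ u) (q ≫ k) := by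
    intro T g' q
    change (lift g' q ≫ Q.act.act) ≫ k = lift (g' ≫ u) (q ≫ k) ≫ P.act.act
    rw [Category.assoc, hk, ← Category.assoc]
    congr 1
    apply CartesianMonoidalCategory.hom_ext
    · rw [Category.assoc, lift_fst, lift_fst_assoc, lift_fst]
    · rw [Category.assoc, lift_snd, lift_snd_assoc, lift_snd]
  let m : P.X ⊗ Q.X ⟶ G'' := diff P.act hP (fst P.X Q.X) (snd P.X Q.X ≫ k) ≫ v
  have hm : ∀ {T : Over S} (y : T ⟶ P.X) (q : T ⟶ Q.X),
      lift y q ≫ m = diff P.act hP y (q ≫ k) ≫ v := by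
    intro T y q
    change lift y q ≫ diff P.act hP (fst P.X Q.X) (snd P.X Q.X ≫ k) ≫ v = _
    rw [← Category.assoc, comp_diff, lift_fst, lift_snd_assoc]
  have hminv : ∀ (T : Over S) (y : T ⟶ P.X) (q₁ q₂ : T ⟶ Q.X),
      lift y q₁ ≫ m = lift y q₂ ≫ m := by
    intro T y q₁ q₂
    rw [hm, hm]
    obtain ⟨g', rfl⟩ : ∃ g', smul Q.act g' q₂ = q₁ := ⟨_, diff_smul Q.act hQ q₁ q₂⟩
    rw [hk', diff_smul_right, MonObj.mul_comp, GrpObj.inv_comp, Category.assoc, huv,
      MonObj.comp_one, inv_one, _root_.mul_one]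
  obtain ⟨ψ, hψ, hψu⟩ := exists_unique_desc_rel Q.isTorsor.2 P.X m.left (by
    intro T y x₁ x₂
    rw [← Over.comp_left, ← Over.comp_left, hminv T y x₁ x₂])
  have hψS : ψ ≫ G''.hom = P.X.hom := by
    obtain ⟨ψ', _, hu'⟩ := exists_unique_desc_rel Q.isTorsor.2 P.X (Z := S) (P.X ⊗ Q.X).hom (by
      intro T y x₁ x₂
      rw [Over.w, Over.w])
    rw [hu' (ψ ≫ G''.hom) (by
      change (fst P.X Q.X).left ≫ ψ ≫ G''.hom = _
      rw [← Category.assoc, hψ, Over.w]), hu' P.X.hom (Over.w _)]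
  let w : P.X ⟶ G'' := Over.homMk ψ hψS
  have hfw : fst P.X Q.X ≫ w = m := Over.OverMorphism.ext hψ
  have hw : ∀ {T : Over S} (x : T ⟶ P.X) (q : T ⟶ Q.X),
      x ≫ w = diff P.act hP x (q ≫ k) ≫ v := by
    intro T x q
    rw [← hm, ← hfw, lift_fst_assoc]
  refine ⟨w, ?_⟩
  apply cancel_fst_rel Q.isTorsor.2
  rw [trivialAction_act, ← Hom.mul_def, MonObj.comp_mul, ← Category.assoc, comp_act P.act,
    hw _ (snd (G ⊗ P.X) Q.X), diff_smul_left, MonObj.mul_comp]
  congr 1
  have h5 := hw (fst (G ⊗ P.X) Q.X ≫ snd G P.X) (snd (G ⊗ P.X) Q.X)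
  simpa only [Category.assoc] using h5.symm

/-- a torsor with trivial image in `H¹(G'')` has a reduction to `G'`. -/
theorem exists_reduction
    (hex : NonAbH1.IsExactSeq Scheme.fpqcPrecoverage u v)
    (P : NonAbH1.TorsorSch G Scheme.fpqcPrecoverage)
    (h : NonAbH1.IsPushforwardAlongSch v P.act (NonAbH1.trivialAction G'')) :
    ∃ Q : NonAbH1.TorsorSch G' Scheme.fpqcPrecoverage,
      NonAbH1.IsPushforwardAlongSch u Q.act P.act := by
  obtain ⟨hu, hv, huv, sq, hloc⟩ := hex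
  haveI := hu
  haveI := hv
  obtain ⟨w, hw⟩ := h
  rw [trivialAction_act] at hw
  obtain ⟨hP, R, hR, hsec⟩ := P.isTorsor
  have hF := isPseudoTorsorSch_fibAction u v P.act w hw η[G''] huv hP sq
  -- local triviality of the fibre
  have hFloc : NonAbH1.IsLocallyTrivialFor Scheme.fpqcPrecoverage (fib w η[G'']) := by
    obtain ⟨E, rfl⟩ := R.exists_eq_preZeroHypercover
    obtain ⟨R'', hR'', hsec''⟩ := hloc
    obtain ⟨E'', rfl⟩ := R''.exists_eq_preZeroHypercover
    have hsec' : ∀ i, ∃ s : E.X i ⟶ P.X.left, s ≫ P.X.hom = E.f i := fun i => hsec (E.f i) ⟨i⟩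
    choose σ hσ using hsec'
    have hsec''' : ∀ j, ∃ s : E''.X j ⟶ G.left, s ≫ v.left = E''.f j :=
      fun j => hsec'' (E''.f j) ⟨j⟩
    choose τ hτ using hsec'''
    have hRa : Presieve.ofArrows E.X E.f ∈ Scheme.fpqcPrecoverage S := hR
    have hRa'' : Presieve.ofArrows E''.X E''.f ∈ Scheme.fpqcPrecoverage G''.left := hR''
    let e : ∀ i j, pullback (E''.f j) (σ i ≫ w.left) ⟶ E.X i :=
      fun i j => pullback.snd (E''.f j) (σ i ≫ w.left)
    have he : ∀ i, Presieve.ofArrows (fun j => pullback (E''.f j) (σ i ≫ w.left)) (e i) ∈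
        Scheme.fpqcPrecoverage (E.X i) := fun i =>
      Precoverage.mem_coverings_of_isPullback E''.f hRa'' (σ i ≫ w.left) (e i)
        (fun j => pullback.fst (E''.f j) (σ i ≫ w.left))
        (fun j => (IsPullback.of_hasPullback (E''.f j) (σ i ≫ w.left)).flip)
    have hcomp := Precoverage.comp_mem_coverings (J := Scheme.fpqcPrecoverage) E.f hRa
      (σ := fun _ => E''.I₀) (Y := fun i j => pullback (E''.f j) (σ i ≫ w.left)) e he
    have key : ∀ p : (Σ _ : E.I₀, E''.I₀),
        NonAbH1.HasSectionOver (fib w η[G'']) (e p.1 p.2 ≫ E.f p.1) := by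
      rintro ⟨i, j⟩
      let pt : Over.mk (e i j ≫ E.f i) ⟶ P.X := Over.homMk (e i j ≫ σ i) (by
        change (e i j ≫ σ i) ≫ P.X.hom = e i j ≫ E.f i
        rw [Category.assoc, hσ])
      have hGw : G.hom = v.left ≫ G''.hom := (Over.w v).symm
      have hPw : P.X.hom = w.left ≫ G''.hom := (Over.w w).symm
      let gpt : Over.mk (e i j ≫ E.f i) ⟶ G :=
        Over.homMk (pullback.fst (E''.f j) (σ i ≫ w.left) ≫ τ j) (by
          change (pullback.fst (E''.f j) (σ i ≫ w.left) ≫ τ j) ≫ G.hom = e i j ≫ E.f i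
          rw [hGw, Category.assoc, ← Category.assoc (τ j), hτ, ← Category.assoc,
            pullback.condition, Category.assoc, Category.assoc, ← hPw, hσ])
      have hgp : gpt ≫ v = pt ≫ w := by
        apply Over.OverMorphism.ext
        change (pullback.fst (E''.f j) (σ i ≫ w.left) ≫ τ j) ≫ v.left = (e i j ≫ σ i) ≫ w.left
        rw [Category.assoc, hτ, pullback.condition, Category.assoc]
      have hq : smul P.act gpt⁻¹ pt ≫ w = toUnit _ ≫ η[G''] := by
        rw [smul_comp_w v P.act w hw, GrpObj.inv_comp, hgp, inv_mul_cancel, Hom.one_def]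
      exact ⟨(pullback.lift (smul P.act gpt⁻¹ pt) (toUnit _) hq : _ ⟶ fib w η[G'']).left,
        Over.w _⟩
    refine ⟨_, hcomp, ?_⟩
    rintro S' f ⟨p⟩
    exact key p
  refine ⟨⟨fib w η[G''], fibAction u v P.act w hw η[G''] huv, hF, hFloc⟩, fibι w η[G''], ?_⟩
  exact fibAction_act_comp u v P.act w hw η[G''] huv

end Groth.Agent.Lib.Helper10.ExactTorsor
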