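import Mathlib
import Groth.Prelude.Def_ChGrp
import Groth.Prelude.Def_NonAbH2
import Groth.Agent.Lib.Helper10.HomSp1

/-!
# Composition of torsors

* `isPullback_act_iff`: the action square is cartesian iff `φ` is invariant and two points with the
  same image differ by a unique point of the group;
* `isPullback_comp`: a torsor under `N = ker q` followed by a torsor under `Q` (with `q` split) is a
  pseudo-torsor under `G`;
* `isLocallyTrivialFor_comp`: fpqc-local triviality of a composite.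
-/

set_option autoImplicit false
set_option backward.isDefEq.respectTransparency.types false
set_option maxHeartbeats 4000000
set_option synthInstance.maxHeartbeats 400000

universe u

open CategoryTheory CategoryTheory.Limits AlgebraicGeometry MonoidalCategory
  CartesianMonoidalCategory MonObj GrpObj

namespace Groth.Agent.Lib.Helper10.TorsorComp

variable {S : Scheme.{u}}

section Pointwise

variable {G X Y : Over S} [GrpObj G] (a : AlgGrp.Action G X) (φ : X ⟶ Y)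

theorem exists_unique_of_isPullback (h : IsPullback a.act (snd G X) φ φ) {T : Over S}
    (x x' : T ⟶ X) (hx : x ≫ φ = x' ≫ φ) : ∃! g : T ⟶ G, lift g x' ≫ a.act = x := by
  refine ⟨h.lift x x' hx ≫ fst G X, ?_, ?_⟩
  · have e : lift (h.lift x x' hx ≫ fst G X) x' = h.lift x x' hx := by
      apply CartesianMonoidalCategory.hom_ext
      · rw [lift_fst]
      · rw [lift_snd, h.lift_snd]
    show lift (h.lift x x' hx ≫ fst G X) x' ≫ a.act = x
    rw [e, h.lift_fst]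
  · intro g' hg'
    have e : lift g' x' = h.lift x x' hx := by
      apply h.hom_ext
      · rw [hg', h.lift_fst]
      · rw [lift_snd, h.lift_snd]
    rw [← e, lift_fst]

theorem isPullback_of_exists_unique (hinv : a.act ≫ φ = snd G X ≫ φ)
    (H : ∀ {T : Over S} (x x' : T ⟶ X), x ≫ φ = x' ≫ φ →
      ∃! g : T ⟶ G, lift g x' ≫ a.act = x) :
    IsPullback a.act (snd G X) φ φ := by
  refine HomSp.isPullback_of_lift _ _ _ _ hinv
    (fun α β h => lift (H α β h).choose β) ?_ ?_ ?_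
  · intro W α β h
    exact (H α β h).choose_spec.1
  · intro W α β h
    rw [lift_snd]
  · intro W m m' e1 e2
    have hm : lift (m ≫ fst G X) (m ≫ snd G X) = m := by
      apply CartesianMonoidalCategory.hom_ext <;> simp
    have hm' : lift (m' ≫ fst G X) (m' ≫ snd G X) = m' := by
      apply CartesianMonoidalCategory.hom_ext <;> simp
    have hx : (m ≫ a.act) ≫ φ = (m ≫ snd G X) ≫ φ := by
      rw [Category.assoc, Category.assoc, hinv]
    obtain ⟨g, -, hg⟩ := H (m ≫ a.act) (m ≫ snd G X) hx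
    have h1 : m ≫ fst G X = g :=
      hg _ (show lift (m ≫ fst G X) (m ≫ snd G X) ≫ a.act = m ≫ a.act by rw [hm])
    have h2 : m' ≫ fst G X = g :=
      hg _ (show lift (m' ≫ fst G X) (m ≫ snd G X) ≫ a.act = m ≫ a.act by rw [e2, hm', e1])
    rw [← hm, ← hm', h1, h2, e2]

end Pointwise

section Comp

variable {G N Q H X Y Z : Over S} [GrpObj G] [GrpObj N] [GrpObj Q] [GrpObj H]
  (iN : N ⟶ G) [IsMonHom iN] (q : G ⟶ Q) [IsMonHom q] (hker : AlgGrp.IsKernel iN q)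
  (a : AlgGrp.Action G X) (φ₁ : X ⟶ Y)
  (h₁ : IsPullback (a.restrict iN).act (snd N X) φ₁ φ₁)
  (aY : AlgGrp.Action Q Y) (hequiv : (q ⊗ₘ φ₁) ≫ aY.act = a.act ≫ φ₁)
  (φ₂ : Y ⟶ Z) (h₂ : IsPullback aY.act (snd Q Y) φ₂ φ₂)

include hequiv in
theorem map_act {T : Over S} (g : T ⟶ G) (x : T ⟶ X) :
    (lift g x ≫ a.act) ≫ φ₁ = lift (g ≫ q) (x ≫ φ₁) ≫ aY.act := by
  rw [Category.assoc, ← hequiv, ← Category.assoc]
  congr 1
  apply CartesianMonoidalCategory.hom_ext <;> simp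

include hker hequiv h₁ h₂ in
theorem isPullback_comp (iH : H ⟶ G) [IsIso (iH ≫ q)] :
    IsPullback a.act (snd G X) (φ₁ ≫ φ₂) (φ₁ ≫ φ₂) := by
  have hinv : a.act ≫ φ₁ ≫ φ₂ = snd G X ≫ φ₁ ≫ φ₂ := by
    rw [← Category.assoc, ← hequiv, Category.assoc, h₂.w]
    rw [← Category.assoc, ← Category.assoc]
    congr 1
    simp
  refine isPullback_of_exists_unique a (φ₁ ≫ φ₂) hinv ?_
  intro T x x' hx
  -- existence
  have hx' : (x ≫ φ₁) ≫ φ₂ = (x' ≫ φ₁) ≫ φ₂ := by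
    rw [Category.assoc, Category.assoc]; exact hx
  obtain ⟨qb, hqb, hqbu⟩ := exists_unique_of_isPullback aY φ₂ h₂ (x ≫ φ₁) (x' ≫ φ₁) hx'
  set h : T ⟶ G := qb ≫ CategoryTheory.inv (iH ≫ q) ≫ iH with hh
  have hhq : h ≫ q = qb := by
    rw [hh, Category.assoc, Category.assoc, IsIso.inv_hom_id, Category.comp_id]
  have e1 : x ≫ φ₁ = (lift h x' ≫ a.act) ≫ φ₁ := by
    rw [map_act q a φ₁ aY hequiv, hhq, hqb]
  obtain ⟨n, hn, -⟩ := exists_unique_of_isPullback (a.restrict iN) φ₁ h₁ x (lift h x' ≫ a.act) e1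
  rw [AlgGrp.Action.lift_restrict_act] at hn
  have uniq : ∀ g₁ g₂ : T ⟶ G, lift g₁ x' ≫ a.act = x → lift g₂ x' ≫ a.act = x → g₁ = g₂ := by
    intro g₁ g₂ hg₁ hg₂
    have e2 : g₁ ≫ q = g₂ ≫ q := by
      have t1 : lift (g₁ ≫ q) (x' ≫ φ₁) ≫ aY.act = x ≫ φ₁ := by
        rw [← map_act q a φ₁ aY hequiv, hg₁]
      have t2 : lift (g₂ ≫ q) (x' ≫ φ₁) ≫ aY.act = x ≫ φ₁ := by
        rw [← map_act q a φ₁ aY hequiv, hg₂]
      rw [hqbu _ t1, hqbu _ t2]
    have e3 : (g₁ * g₂⁻¹) ≫ q = toUnit T ≫ η[Q] := by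
      rw [MonObj.mul_comp, GrpObj.inv_comp, e2, mul_inv_cancel, Hom.one_def]
    have hker' : IsPullback iN (toUnit N) q η[Q] := hker
    set m : T ⟶ N := hker'.lift (g₁ * g₂⁻¹) (toUnit T) e3 with hm
    have hm1 : m ≫ iN = g₁ * g₂⁻¹ := hker'.lift_fst _ _ _
    have e4 : lift m x ≫ (a.restrict iN).act = x := by
      rw [AlgGrp.Action.lift_restrict_act, hm1]
      conv_lhs => rw [← hg₂]
      rw [← AlgGrp.Action.lift_mul_act, inv_mul_cancel_right, hg₁]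
    have e5 : lift (1 : T ⟶ N) x ≫ (a.restrict iN).act = x :=
      AlgGrp.Action.lift_one_act _ x
    obtain ⟨n₀, -, hn₀⟩ := exists_unique_of_isPullback (a.restrict iN) φ₁ h₁ x x rfl
    have e6 : m = 1 := (hn₀ m e4).trans (hn₀ 1 e5).symm
    have e7 : g₁ * g₂⁻¹ = 1 := by
      rw [← hm1, e6, MonObj.one_comp]
    exact mul_inv_eq_one.mp e7
  refine ⟨(n ≫ iN) * h, ?_, fun g' hg' => uniq _ _ hg' ?_⟩
  · show lift ((n ≫ iN) * h) x' ≫ a.act = x
    rw [AlgGrp.Action.lift_mul_act, hn]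
  · rw [AlgGrp.Action.lift_mul_act, hn]

end Comp

section Local

variable {X Y Z : Scheme.{u}} (f₁ : X ⟶ Y) (f₂ : Y ⟶ Z)

theorem isLocallyTrivialFor_comp
    (h₁ : NonAbH1.IsLocallyTrivialFor Scheme.fpqcPrecoverage (Over.mk f₁ : Over Y))
    (h₂ : NonAbH1.IsLocallyTrivialFor Scheme.fpqcPrecoverage (Over.mk f₂ : Over Z)) :
    NonAbH1.IsLocallyTrivialFor Scheme.fpqcPrecoverage (Over.mk (f₁ ≫ f₂) : Over Z) := by
  obtain ⟨R₁, hR₁, hs₁⟩ := h₁
  obtain ⟨R₂, hR₂, hs₂⟩ := h₂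
  have hR₁' : R₁ ∈ Scheme.propQCPrecoverage @Flat Y := hR₁
  have hR₂' : R₂ ∈ Scheme.propQCPrecoverage @Flat Z := hR₂
  obtain ⟨𝒰₁, -, rfl⟩ := Scheme.mem_propQCPrecoverage_iff_exists_quasiCompactCover.1 hR₁'
  obtain ⟨𝒰₂, -, rfl⟩ := Scheme.mem_propQCPrecoverage_iff_exists_quasiCompactCover.1 hR₂'
  have hs₁' : ∀ j, ∃ s : 𝒰₁.X j ⟶ X, s ≫ f₁ = 𝒰₁.f j := fun j => hs₁ _ ⟨j⟩
  have hs₂' : ∀ i, ∃ t : 𝒰₂.X i ⟶ Y, t ≫ f₂ = 𝒰₂.f i := fun i => hs₂ _ ⟨i⟩
  choose s hs using hs₁'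
  choose t ht using hs₂'
  have hmem : ∀ i, Presieve.ofArrows (fun j => pullback (t i) (𝒰₁.f j))
      (fun j => pullback.fst (t i) (𝒰₁.f j)) ∈ Scheme.fpqcPrecoverage (𝒰₂.X i) := by
    intro i
    exact Precoverage.IsStableUnderBaseChange.mem_coverings_of_isPullback 𝒰₁.f hR₁ (t i)
      (fun j => pullback.fst (t i) (𝒰₁.f j)) (fun j => pullback.snd (t i) (𝒰₁.f j))
      (fun j => IsPullback.of_hasPullback _ _)
  have hcomp := Precoverage.IsStableUnderComposition.comp_mem_coverings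
    (J := Scheme.fpqcPrecoverage) 𝒰₂.f hR₂
    (fun i j => pullback.fst (t i) (𝒰₁.f j)) hmem
  refine ⟨_, hcomp, ?_⟩
  rintro _ _ ⟨⟨i, j⟩⟩
  refine ⟨pullback.snd (t i) (𝒰₁.f j) ≫ s j, ?_⟩
  show (pullback.snd (t i) (𝒰₁.f j) ≫ s j) ≫ f₁ ≫ f₂ = pullback.fst (t i) (𝒰₁.f j) ≫ 𝒰₂.f i
  rw [Category.assoc, reassoc_of% (hs j), ← pullback.condition_assoc, ht]

end Local

end Groth.Agent.Lib.Helper10.TorsorComp
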