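import Mathlib
import Groth.Prelude.Def_NonAbH2
import Groth.Agent.Lib.Helper10.BalProd1
import Groth.Agent.Lib.Helper10.SpecialExt1
import Groth.Agent.Lib.Helper10.HomSp1

/-!
# Extensions by a commutative group: centrality and commutativity via fppf descent of morphisms
-/

set_option autoImplicit false
set_option backward.isDefEq.respectTransparency.types false
set_option maxHeartbeats 4000000
set_option synthInstance.maxHeartbeats 400000
universe u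
open CategoryTheory CategoryTheory.Limits AlgebraicGeometry MonoidalCategory
  CartesianMonoidalCategory MonObj GrpObj

namespace Groth.Agent.Lib.Helper10.ExtCentral

open Groth.Agent.Lib.Helper10.BalProd Groth.Agent.Lib.Helper10.SpecialExt

variable {S : Scheme.{u}} {P G E : Over S} [GrpObj P] [GrpObj G] [GrpObj E]

theorem mul_comm_pts [IsCommMonObj G] {T : Over S} (a b : T ⟶ G) : a * b = b * a := by
  letI := Hom.commGroup (X := T) (G := G)
  exact mul_comm a b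

theorem split {T A B : Over S} (p : T ⟶ A ⊗ B) : p = lift (p ≫ fst A B) (p ≫ snd A B) := by
  rw [← comp_lift, lift_fst_snd, Category.comp_id]

section

variable (u : G ⟶ E) (v : E ⟶ P) [IsMonHom u] [IsMonHom v] (huv : u ≫ v = 1)
  (hpb : IsPullback (fst E G) ((E ◁ u) ≫ μ[E]) v v)
  (hloc : NonAbH1.IsLocallyTrivialFor Scheme.fppfPrecoverage (Over.mk v.left : Over P.left))

include huv in
theorem comp_u_v {T : Over S} (g : T ⟶ G) : (g ≫ u) ≫ v = 1 := by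
  rw [Category.assoc, huv, MonObj.comp_one]

include hpb in
/-- points of the kernel of `v` come from `G`. -/
theorem exists_unique_of_ker {T : Over S} (z : T ⟶ E) (hz : z ≫ v = 1) :
    ∃! g : T ⟶ G, g ≫ u = z := by
  have h1 : (1 : T ⟶ E) ≫ v = z ≫ v := by rw [MonObj.one_comp, hz]
  obtain ⟨w, hw1, hw2⟩ : ∃ w : T ⟶ E ⊗ G, w ≫ fst E G = 1 ∧ w ≫ (E ◁ u) ≫ μ[E] = z :=
    ⟨hpb.lift 1 z h1, hpb.lift_fst _ _ _, hpb.lift_snd _ _ _⟩
  have key : ∀ g : T ⟶ G, lift (1 : T ⟶ E) g ≫ (E ◁ u) ≫ μ[E] = g ≫ u := by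
    intro g
    rw [lift_whiskerLeft_assoc, ← Hom.mul_def, _root_.one_mul]
  refine ⟨w ≫ snd E G, ?_, ?_⟩
  · change (w ≫ snd E G) ≫ u = z
    rw [← key, ← hw1, ← split w, hw2]
  · intro g' hg'
    have : lift (1 : T ⟶ E) g' = w := by
      apply hpb.hom_ext
      · rw [lift_fst, hw1]
      · rw [key, hg', hw2]
    rw [← this, lift_snd]

include hpb huv in
theorem u_inj {T : Over S} (g g' : T ⟶ G) (h : g ≫ u = g' ≫ u) : g = g' := by
  obtain ⟨g₀, -, hu⟩ := exists_unique_of_ker u v hpb (g ≫ u) (comp_u_v u v huv g)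
  rw [hu g rfl, hu g' h.symm]

include hpb in
theorem exists_diff {T : Over S} (x y : T ⟶ E) (h : x ≫ v = y ≫ v) :
    ∃ g : T ⟶ G, y = x * (g ≫ u) := by
  have hz : (x⁻¹ * y) ≫ v = 1 := by
    rw [MonObj.mul_comp, GrpObj.inv_comp, h, inv_mul_cancel]
  obtain ⟨g, hg, -⟩ := exists_unique_of_ker u v hpb (x⁻¹ * y) hz
  refine ⟨g, ?_⟩
  change g ≫ u = x⁻¹ * y at hg
  rw [hg, mul_inv_cancel_left]

include hloc in
theorem isLocallyTrivialFor_whiskerRight (A : Over S) :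
    NonAbH1.IsLocallyTrivialFor Scheme.fppfPrecoverage
      (Over.mk (v ▷ A).left : Over (P ⊗ A).left) :=
  isLocallyTrivialFor_of_isPullback' _
    ((Groth.Agent.Lib.Helper10.HomSp.isPullback_whiskerRight_fst v A).flip.map (Over.forget S))
    hloc

include hloc in
theorem isLocallyTrivialFor_whiskerLeft' (A : Over S) :
    NonAbH1.IsLocallyTrivialFor Scheme.fppfPrecoverage
      (Over.mk (A ◁ v).left : Over (A ⊗ P).left) :=
  isLocallyTrivialFor_of_isPullback' _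
    ((Groth.Agent.Lib.Helper10.HomSp.isPullback_whiskerLeft_snd A v).flip.map (Over.forget S))
    hloc

/-- `(x, g) ↦ x u(g) x⁻¹ u(g)⁻¹`. -/
noncomputable def z₁ : E ⊗ G ⟶ E :=
  fst E G * (snd E G ≫ u) * (fst E G)⁻¹ * (snd E G ≫ u)⁻¹

theorem lift_z₁ {T : Over S} (x : T ⟶ E) (g : T ⟶ G) :
    lift x g ≫ z₁ u = x * (g ≫ u) * x⁻¹ * (g ≫ u)⁻¹ := by
  unfold z₁
  rw [MonObj.comp_mul, MonObj.comp_mul, MonObj.comp_mul, GrpObj.comp_inv, GrpObj.comp_inv,
    lift_fst, lift_snd_assoc]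

include huv in
theorem z₁_v : z₁ u ≫ v = 1 := by
  unfold z₁
  rw [MonObj.mul_comp, MonObj.mul_comp, MonObj.mul_comp, GrpObj.inv_comp, GrpObj.inv_comp,
    comp_u_v u v huv]
  group

/-- `(x, y) ↦ x y x⁻¹ y⁻¹`. -/
noncomputable def z₂ : E ⊗ E ⟶ E :=
  fst E E * snd E E * (fst E E)⁻¹ * (snd E E)⁻¹

theorem lift_z₂ {T : Over S} (x y : T ⟶ E) :
    lift x y ≫ z₂ = x * y * x⁻¹ * y⁻¹ := by
  unfold z₂
  rw [MonObj.comp_mul, MonObj.comp_mul, MonObj.comp_mul, GrpObj.comp_inv, GrpObj.comp_inv,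
    lift_fst, lift_snd]

theorem z₂_v [IsCommMonObj P] : (z₂ : E ⊗ E ⟶ E) ≫ v = 1 := by
  unfold z₂
  rw [MonObj.mul_comp, MonObj.mul_comp, MonObj.mul_comp, GrpObj.inv_comp, GrpObj.inv_comp,
    mul_comm_pts (fst E E ≫ v) (snd E E ≫ v)]
  group

include huv hpb hloc in
/-- **centrality** of `u(G)`. -/
theorem central [IsCommMonObj G]
    (hPG : ∀ f : P ⊗ G ⟶ G, lift (𝟙 P) (toUnit P ≫ η[G]) ≫ f = 1 →
      lift (toUnit G ≫ η[P]) (𝟙 G) ≫ f = 1 → f = 1)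
    {T : Over S} (g : T ⟶ G) (x : T ⟶ E) : (g ≫ u) * x = x * (g ≫ u) := by
  obtain ⟨κ, hκ, -⟩ := exists_unique_of_ker u v hpb (z₁ u) (z₁_v u v huv)
  change κ ≫ u = z₁ u at hκ
  have hloc' := isLocallyTrivialFor_whiskerRight v hloc G
  haveI := epi_of_loc v hloc
  obtain ⟨f, hf, -⟩ := exists_unique_desc_over (v ▷ G) hloc' κ (by
    intro W p₁ p₂ h
    apply u_inj u v huv hpb
    rw [Category.assoc, Category.assoc, hκ]
    have hg : p₁ ≫ snd E G = p₂ ≫ snd E G := by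
      have := congrArg (fun t => t ≫ snd P G) h
      simpa only [Category.assoc, whiskerRight_snd] using this
    have hx : (p₁ ≫ fst E G) ≫ v = (p₂ ≫ fst E G) ≫ v := by
      have := congrArg (fun t => t ≫ fst P G) h
      simpa only [Category.assoc, whiskerRight_fst] using this
    obtain ⟨h', hh'⟩ := exists_diff u v hpb _ _ hx
    rw [split p₁, split p₂, lift_z₁, lift_z₁, ← hg, hh']
    obtain ⟨x, hx'⟩ : ∃ x : W ⟶ E, x = p₁ ≫ fst E G := ⟨_, rfl⟩
    obtain ⟨g', hg'⟩ : ∃ g' : W ⟶ G, g' = p₁ ≫ snd E G := ⟨_, rfl⟩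
    rw [← hx', ← hg']
    have hc : (h' ≫ u) * (g' ≫ u) = (g' ≫ u) * (h' ≫ u) := by
      rw [← MonObj.mul_comp, ← MonObj.mul_comp, mul_comm_pts h' g']
    calc x * (g' ≫ u) * x⁻¹ * (g' ≫ u)⁻¹
        = x * ((g' ≫ u) * (h' ≫ u)) * (h' ≫ u)⁻¹ * x⁻¹ * (g' ≫ u)⁻¹ := by group
      _ = x * ((h' ≫ u) * (g' ≫ u)) * (h' ≫ u)⁻¹ * x⁻¹ * (g' ≫ u)⁻¹ := by rw [hc]
      _ = x * (h' ≫ u) * (g' ≫ u) * (x * (h' ≫ u))⁻¹ * (g' ≫ u)⁻¹ := by group)
  have hf1 : f = 1 := by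
    apply hPG
    · rw [← cancel_epi v, MonObj.comp_one, ← Category.assoc, comp_lift, Category.comp_id]
      have e : lift v (v ≫ toUnit P ≫ η[G]) = lift (𝟙 E) (1 : E ⟶ G) ≫ (v ▷ G) := by
        rw [lift_whiskerRight, Category.id_comp, Hom.one_def, ← Category.assoc,
          toUnit_unique (v ≫ toUnit P) (toUnit E)]
      rw [e, Category.assoc, hf]
      apply u_inj u v huv hpb
      rw [Category.assoc, hκ, lift_z₁, MonObj.one_comp]
      group
    · have e : lift (toUnit G ≫ η[P]) (𝟙 G) = lift (1 : G ⟶ E) (𝟙 G) ≫ (v ▷ G) := by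
        rw [lift_whiskerRight, MonObj.one_comp, Hom.one_def]
      rw [e, Category.assoc, hf]
      apply u_inj u v huv hpb
      rw [Category.assoc, hκ, lift_z₁, MonObj.one_comp]
      group
  have hκ1 : κ = 1 := by rw [← hf, hf1, MonObj.comp_one]
  have hz : z₁ u = 1 := by rw [← hκ, hκ1, MonObj.one_comp]
  have := lift_z₁ u x g
  rw [hz, MonObj.comp_one] at this
  calc (g ≫ u) * x = (x * (g ≫ u) * x⁻¹ * (g ≫ u)⁻¹)⁻¹ * (x * (g ≫ u)) := by group
    _ = x * (g ≫ u) := by rw [← this, inv_one, _root_.one_mul]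

include huv hpb hloc in
/-- **commutativity** of the extension. -/
theorem comm [IsCommMonObj G] [IsCommMonObj P]
    (hcent : ∀ {T : Over S} (g : T ⟶ G) (x : T ⟶ E), (g ≫ u) * x = x * (g ≫ u))
    (hPP : ∀ f : P ⊗ P ⟶ G, lift (𝟙 P) (toUnit P ≫ η[P]) ≫ f = 1 →
      lift (toUnit P ≫ η[P]) (𝟙 P) ≫ f = 1 → f = 1) :
    IsCommMonObj E := by
  obtain ⟨γ', hγ, -⟩ := exists_unique_of_ker u v hpb (z₂ : E ⊗ E ⟶ E) (z₂_v v)
  change γ' ≫ u = z₂ at hγ
  have hloc1 := isLocallyTrivialFor_whiskerRight v hloc E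
  have hloc2 := isLocallyTrivialFor_whiskerLeft' v hloc P
  have hloc' : NonAbH1.IsLocallyTrivialFor Scheme.fppfPrecoverage
      (Over.mk ((v ▷ E) ≫ (P ◁ v)).left : Over (P ⊗ P).left) :=
    isLocallyTrivialFor_comp' _ _ _ hloc1 hloc2
  haveI := epi_of_loc v hloc
  have hvv : ∀ {W : Over S} (x y : W ⟶ E), lift x y ≫ (v ▷ E) ≫ (P ◁ v) = lift (x ≫ v) (y ≫ v) := by
    intro W x y
    rw [lift_whiskerRight_assoc, lift_whiskerLeft]
  obtain ⟨f, hf, -⟩ := exists_unique_desc_over ((v ▷ E) ≫ (P ◁ v)) hloc' γ' (by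
    intro W p₁ p₂ h
    apply u_inj u v huv hpb
    rw [Category.assoc, Category.assoc, hγ]
    rw [split p₁, split p₂, hvv, hvv] at h
    have hx : (p₁ ≫ fst E E) ≫ v = (p₂ ≫ fst E E) ≫ v := by
      have := congrArg (fun t => t ≫ fst P P) h
      simpa only [lift_fst] using this
    have hy : (p₁ ≫ snd E E) ≫ v = (p₂ ≫ snd E E) ≫ v := by
      have := congrArg (fun t => t ≫ snd P P) h
      simpa only [lift_snd] using this
    obtain ⟨a, ha⟩ := exists_diff u v hpb _ _ hx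
    obtain ⟨b, hb⟩ := exists_diff u v hpb _ _ hy
    rw [split p₁, split p₂, lift_z₂, lift_z₂, ha, hb]
    obtain ⟨x, hx'⟩ : ∃ x : W ⟶ E, x = p₁ ≫ fst E E := ⟨_, rfl⟩
    obtain ⟨y, hy'⟩ : ∃ y : W ⟶ E, y = p₁ ≫ snd E E := ⟨_, rfl⟩
    rw [← hx', ← hy']
    have h1 : (a ≫ u) * (y * (b ≫ u)) = (y * (b ≫ u)) * (a ≫ u) := hcent a _
    have h2 : (b ≫ u) * (a ≫ u)⁻¹ = (a ≫ u)⁻¹ * (b ≫ u) := by
      have := hcent b (a ≫ u)⁻¹
      exact this
    have h3 : (b ≫ u) * x⁻¹ = x⁻¹ * (b ≫ u) := hcent b x⁻¹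
    calc x * y * x⁻¹ * y⁻¹
        = x * y * (x⁻¹ * (b ≫ u)) * (b ≫ u)⁻¹ * y⁻¹ := by group
      _ = x * y * ((b ≫ u) * x⁻¹) * (b ≫ u)⁻¹ * y⁻¹ := by rw [h3]
      _ = x * ((y * (b ≫ u)) * (a ≫ u)) * (a ≫ u)⁻¹ * x⁻¹ * (y * (b ≫ u))⁻¹ := by group
      _ = x * ((a ≫ u) * (y * (b ≫ u))) * (a ≫ u)⁻¹ * x⁻¹ * (y * (b ≫ u))⁻¹ := by rw [h1]
      _ = x * (a ≫ u) * (y * (b ≫ u)) * (x * (a ≫ u))⁻¹ * (y * (b ≫ u))⁻¹ := by group)
  have hf1 : f = 1 := by
    apply hPP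
    · rw [← cancel_epi v, MonObj.comp_one, ← Category.assoc, comp_lift, Category.comp_id]
      have e : lift v (v ≫ toUnit P ≫ η[P]) = lift (𝟙 E) (1 : E ⟶ E) ≫ (v ▷ E) ≫ (P ◁ v) := by
        rw [hvv, Category.id_comp, MonObj.one_comp, Hom.one_def, ← Category.assoc,
          toUnit_unique (v ≫ toUnit P) (toUnit E)]
      rw [e, Category.assoc, Category.assoc, ← Category.assoc (v ▷ E), hf]
      apply u_inj u v huv hpb
      rw [Category.assoc, hγ, lift_z₂, MonObj.one_comp]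
      group
    · rw [← cancel_epi v, MonObj.comp_one, ← Category.assoc, comp_lift, Category.comp_id]
      have e : lift (v ≫ toUnit P ≫ η[P]) v = lift (1 : E ⟶ E) (𝟙 E) ≫ (v ▷ E) ≫ (P ◁ v) := by
        rw [hvv, Category.id_comp, MonObj.one_comp, Hom.one_def, ← Category.assoc,
          toUnit_unique (v ≫ toUnit P) (toUnit E)]
      rw [e, Category.assoc, Category.assoc, ← Category.assoc (v ▷ E), hf]
      apply u_inj u v huv hpb
      rw [Category.assoc, hγ, lift_z₂, MonObj.one_comp]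
      group
  have hγ1 : γ' = 1 := by rw [← hf, hf1, MonObj.comp_one]
  have hz : (z₂ : E ⊗ E ⟶ E) = 1 := by rw [← hγ, hγ1, MonObj.one_comp]
  have hxy : ∀ {T : Over S} (x y : T ⟶ E), x * y = y * x := by
    intro T x y
    have := lift_z₂ x y
    rw [hz, MonObj.comp_one] at this
    calc x * y = (x * y * x⁻¹ * y⁻¹) * (y * x) := by group
      _ = y * x := by rw [← this, _root_.one_mul]
  refine ⟨?_⟩
  have h1 : (μ[E] : E ⊗ E ⟶ E) = fst E E * snd E E := by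
    rw [Hom.mul_def, lift_fst_snd, Category.id_comp]
  have h2 : (β_ E E).hom ≫ μ[E] = snd E E * fst E E := by
    rw [Hom.mul_def]
    congr 1
  rw [h2, h1, hxy]

end

end Groth.Agent.Lib.Helper10.ExtCentral
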