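import Mathlib
import Groth.Agent.Lib.Helper10.ExtCentral1

/-!
# Morphisms of rigidified bitorsors of extensions are homomorphisms
-/

set_option autoImplicit false
set_option backward.isDefEq.respectTransparency.types false
set_option maxHeartbeats 4000000
set_option synthInstance.maxHeartbeats 400000
universe u
open CategoryTheory CategoryTheory.Limits AlgebraicGeometry MonoidalCategory
  CartesianMonoidalCategory MonObj GrpObj

namespace Groth.Agent.Lib.Helper10.ExtCentral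

open Groth.Agent.Lib.Helper10.BalProd Groth.Agent.Lib.Helper10.SpecialExt

variable {S : Scheme.{u}} {P G E E' : Over S} [GrpObj P] [GrpObj G] [GrpObj E] [GrpObj E']
  (u : G ⟶ E) (v : E ⟶ P) [IsMonHom u] [IsMonHom v] (huv : u ≫ v = 1)
  (hpb : IsPullback (fst E G) ((E ◁ u) ≫ μ[E]) v v)
  (hloc : NonAbH1.IsLocallyTrivialFor Scheme.fppfPrecoverage (Over.mk v.left : Over P.left))
  (u' : G ⟶ E') (v' : E' ⟶ P) [IsMonHom u'] [IsMonHom v'] (huv' : u' ≫ v' = 1)
  (hpb' : IsPullback (fst E' G) ((E' ◁ u') ≫ μ[E']) v' v')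
  (f : E ⟶ E') (hv : f ≫ v' = v) (h1 : η[E] ≫ f = η[E'])
  (hl : ∀ (T : Over S) (g : T ⟶ G) (x : T ⟶ E), ((g ≫ u) * x) ≫ f = (g ≫ u') * (x ≫ f))
  (hr : ∀ (T : Over S) (g : T ⟶ G) (x : T ⟶ E), (x * (g ≫ u)) ≫ f = (x ≫ f) * (g ≫ u'))

/-- the defect of multiplicativity. -/
noncomputable def defect : E ⊗ E ⟶ E' :=
  ((fst E E * snd E E) ≫ f) * ((fst E E ≫ f) * (snd E E ≫ f))⁻¹

theorem lift_defect {T : Over S} (x y : T ⟶ E) :
    lift x y ≫ defect f = ((x * y) ≫ f) * ((x ≫ f) * (y ≫ f))⁻¹ := by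
  unfold defect
  rw [MonObj.comp_mul, GrpObj.comp_inv, MonObj.comp_mul, ← Category.assoc, MonObj.comp_mul,
    ← Category.assoc, ← Category.assoc, lift_fst, lift_snd]

include hv in
theorem defect_v : defect f ≫ v' = 1 := by
  unfold defect
  rw [MonObj.mul_comp _ _ v', GrpObj.inv_comp _ v', MonObj.mul_comp _ _ v', Category.assoc,
    Category.assoc, Category.assoc, hv, MonObj.mul_comp _ _ v]
  group

include huv hpb hloc huv' hpb' hv h1 hl hr in
theorem isMonHom_of_bitorsor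
    (hPP : ∀ c : P ⊗ P ⟶ G, lift (𝟙 P) (toUnit P ≫ η[P]) ≫ c = 1 →
      lift (toUnit P ≫ η[P]) (𝟙 P) ≫ c = 1 → c = 1) : IsMonHom f := by
  have hf1 : ∀ {T : Over S}, (1 : T ⟶ E) ≫ f = 1 := by
    intro T
    rw [Hom.one_def, Category.assoc, h1, ← Hom.one_def]
  obtain ⟨δ, hδ, -⟩ := exists_unique_of_ker u' v' hpb' (defect f) (defect_v v v' f hv)
  change δ ≫ u' = defect f at hδ
  have hloc1 := isLocallyTrivialFor_whiskerRight v hloc E
  have hloc2 := isLocallyTrivialFor_whiskerLeft' v hloc P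
  have hloc' : NonAbH1.IsLocallyTrivialFor Scheme.fppfPrecoverage
      (Over.mk ((v ▷ E) ≫ (P ◁ v)).left : Over (P ⊗ P).left) :=
    isLocallyTrivialFor_comp' _ _ _ hloc1 hloc2
  haveI := epi_of_loc v hloc
  have hvv : ∀ {W : Over S} (x y : W ⟶ E),
      lift x y ≫ (v ▷ E) ≫ (P ◁ v) = lift (x ≫ v) (y ≫ v) := by
    intro W x y
    rw [lift_whiskerRight_assoc, lift_whiskerLeft]
  -- conjugation compatibility
  have hconj : ∀ {W : Over S} (g g'' : W ⟶ G) (y : W ⟶ E), (g ≫ u) * y = y * (g'' ≫ u) →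
      (g ≫ u') * (y ≫ f) = (y ≫ f) * (g'' ≫ u') := by
    intro W g g'' y h
    rw [← hl, h, hr]
  obtain ⟨c, hc, -⟩ := exists_unique_desc_over ((v ▷ E) ≫ (P ◁ v)) hloc' δ (by
    intro W p₁ p₂ h
    apply u_inj u' v' huv' hpb'
    rw [Category.assoc, Category.assoc, hδ]
    rw [split p₁, split p₂, hvv, hvv] at h
    have hx : (p₁ ≫ fst E E) ≫ v = (p₂ ≫ fst E E) ≫ v := by
      have := congrArg (fun t => t ≫ fst P P) h
      simpa only [lift_fst] using this
    have hy : (p₁ ≫ snd E E) ≫ v = (p₂ ≫ snd E E) ≫ v := by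
      have := congrArg (fun t => t ≫ snd P P) h
      simpa only [lift_snd] using this
    obtain ⟨a, ha⟩ := exists_diff u v hpb _ _ hx
    obtain ⟨b, hb⟩ := exists_diff u v hpb _ _ hy
    rw [split p₁, split p₂, lift_defect, lift_defect, ha, hb]
    obtain ⟨x, hx'⟩ : ∃ x : W ⟶ E, x = p₁ ≫ fst E E := ⟨_, rfl⟩
    obtain ⟨y, hy'⟩ : ∃ y : W ⟶ E, y = p₁ ≫ snd E E := ⟨_, rfl⟩
    rw [← hx', ← hy']
    -- `u(a) y = y u(a'')`
    have hz : (y⁻¹ * (a ≫ u) * y) ≫ v = 1 := by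
      rw [MonObj.mul_comp, MonObj.mul_comp, GrpObj.inv_comp, comp_u_v u v huv]
      group
    obtain ⟨a'', ha'', -⟩ := exists_unique_of_ker u v hpb _ hz
    change a'' ≫ u = y⁻¹ * (a ≫ u) * y at ha''
    have hay : (a ≫ u) * y = y * (a'' ≫ u) := by rw [ha'']; group
    have hay' := hconj a a'' y hay
    have e1 : x * (a ≫ u) * (y * (b ≫ u)) = (x * y) * ((a'' * b) ≫ u) := by
      rw [MonObj.mul_comp]
      calc x * (a ≫ u) * (y * (b ≫ u)) = x * ((a ≫ u) * y) * (b ≫ u) := by group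
        _ = x * (y * (a'' ≫ u)) * (b ≫ u) := by rw [hay]
        _ = _ := by group
    have e2 : ((x * (a ≫ u)) ≫ f) * ((y * (b ≫ u)) ≫ f) =
        (x ≫ f) * (y ≫ f) * ((a'' * b) ≫ u') := by
      rw [hr, hr, MonObj.mul_comp]
      calc (x ≫ f) * (a ≫ u') * ((y ≫ f) * (b ≫ u'))
          = (x ≫ f) * ((a ≫ u') * (y ≫ f)) * (b ≫ u') := by group
        _ = (x ≫ f) * ((y ≫ f) * (a'' ≫ u')) * (b ≫ u') := by rw [hay']
        _ = _ := by group
    rw [e1, e2, hr]
    group)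
  have hc1 : c = 1 := by
    apply hPP
    · rw [← cancel_epi v, MonObj.comp_one, ← Category.assoc, comp_lift, Category.comp_id]
      have e : lift v (v ≫ toUnit P ≫ η[P]) = lift (𝟙 E) (1 : E ⟶ E) ≫ (v ▷ E) ≫ (P ◁ v) := by
        rw [hvv, Category.id_comp, MonObj.one_comp, Hom.one_def, ← Category.assoc,
          toUnit_unique (v ≫ toUnit P) (toUnit E)]
      rw [e, Category.assoc, Category.assoc, ← Category.assoc (v ▷ E), hc]
      apply u_inj u' v' huv' hpb'
      rw [Category.assoc, hδ, lift_defect, MonObj.one_comp u', hf1]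
      group
    · rw [← cancel_epi v, MonObj.comp_one, ← Category.assoc, comp_lift, Category.comp_id]
      have e : lift (v ≫ toUnit P ≫ η[P]) v = lift (1 : E ⟶ E) (𝟙 E) ≫ (v ▷ E) ≫ (P ◁ v) := by
        rw [hvv, Category.id_comp, MonObj.one_comp, Hom.one_def, ← Category.assoc,
          toUnit_unique (v ≫ toUnit P) (toUnit E)]
      rw [e, Category.assoc, Category.assoc, ← Category.assoc (v ▷ E), hc]
      apply u_inj u' v' huv' hpb'
      rw [Category.assoc, hδ, lift_defect, MonObj.one_comp u', hf1]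
      group
  have hδ1 : δ = 1 := by rw [← hc, hc1, MonObj.comp_one]
  have hz : defect f = 1 := by rw [← hδ, hδ1, MonObj.one_comp]
  refine ⟨h1, ?_⟩
  have hd := lift_defect f (fst E E) (snd E E)
  rw [lift_fst_snd, Category.id_comp, hz] at hd
  have hmul : (fst E E * snd E E) ≫ f = (fst E E ≫ f) * (snd E E ≫ f) := by
    calc (fst E E * snd E E) ≫ f
        = ((fst E E * snd E E) ≫ f) * ((fst E E ≫ f) * (snd E E ≫ f))⁻¹ *
          ((fst E E ≫ f) * (snd E E ≫ f)) := by group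
      _ = _ := by rw [← hd, _root_.one_mul]
  have h1' : (μ[E] : E ⊗ E ⟶ E) = fst E E * snd E E := by
    rw [Hom.mul_def, lift_fst_snd, Category.id_comp]
  rw [h1', hmul, Hom.mul_def]
  congr 1

end Groth.Agent.Lib.Helper10.ExtCentral
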