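import Mathlib
import Groth.Agent.Lib.Helper10.QuotTower3
import Groth.Agent.Lib.Helper14.LfpOfComp
import Groth.Agent.Lib.Helper25.ImmDescent

/-!
# Morphisms of extensions of group schemes: the middle map is a closed immersion when the outer
ones are
-/

set_option autoImplicit false
set_option backward.isDefEq.respectTransparency.types false
set_option maxHeartbeats 4000000
set_option synthInstance.maxHeartbeats 400000
universe v u
open CategoryTheory CategoryTheory.Limits AlgebraicGeometry MonoidalCategory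
  CartesianMonoidalCategory MonObj GrpObj

namespace Groth.Agent.Lib.Helper10.ExtClosed

open Groth.Agent.Lib.Helper10.FppfQuot Groth.Agent.Lib.Helper10.HomSp

variable {S : Scheme.{u}}

theorem mono_of_isKernel {N G Q : Over S} [GrpObj Q] (i : N ⟶ G) (q : G ⟶ Q)
    (hk : AlgGrp.IsKernel i q) : Mono i := by
  refine ⟨fun a b hab => ?_⟩
  exact hk.hom_ext hab (toUnit_unique _ _)

theorem comp_eq_one_of_isKernel {N G Q : Over S} [GrpObj Q] (i : N ⟶ G) (q : G ⟶ Q)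
    (hk : AlgGrp.IsKernel i q) {T : Over S} (m : T ⟶ N) : (m ≫ i) ≫ q = 1 := by
  rw [Category.assoc, hk.w, ← Category.assoc, Hom.one_def]
  congr 1
  exact toUnit_unique _ _

section Main

variable {H₁' H₁ H₁'' H₂' H₂ H₂'' : Over S} [GrpObj H₁'] [GrpObj H₁] [GrpObj H₁''] [GrpObj H₂']
  [GrpObj H₂] [GrpObj H₂'']
  (a₁ : H₁' ⟶ H₁) (b₁ : H₁ ⟶ H₁'') (a₂ : H₂' ⟶ H₂) (b₂ : H₂ ⟶ H₂'')
  [IsMonHom a₁] [IsMonHom b₁] [IsMonHom a₂] [IsMonHom b₂]
  (h₁ : AlgGrp.IsKernel a₁ b₁) (h₂ : AlgGrp.IsKernel a₂ b₂)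
  (j' : H₁' ⟶ H₂') (j : H₁ ⟶ H₂) (j'' : H₁'' ⟶ H₂'') [IsMonHom j'] [IsMonHom j] [IsMonHom j'']
  (sq₁ : a₁ ≫ j = j' ≫ a₂) (sq₂ : b₁ ≫ j'' = j ≫ b₂)

include h₂ sq₂ in
theorem f_w : ((fst H₁ H₂' ≫ j) * (snd H₁ H₂' ≫ a₂)) ≫ b₂ = (fst H₁ H₂' ≫ b₁) ≫ j'' := by
  rw [MonObj.mul_comp, comp_eq_one_of_isKernel a₂ b₂ h₂, _root_.mul_one, Category.assoc, ← sq₂,
    Category.assoc]

/-- the "action" map `H₁ × H₂' → H₂ ×_{H₂''} H₁''` -/
noncomputable def f : H₁ ⊗ H₂' ⟶ pullback b₂ j'' :=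
  pullback.lift ((fst H₁ H₂' ≫ j) * (snd H₁ H₂' ≫ a₂)) (fst H₁ H₂' ≫ b₁)
    (f_w b₁ a₂ b₂ h₂ j j'' sq₂)

/-- the comparison map `H₁ → H₂ ×_{H₂''} H₁''` -/
noncomputable def uu : H₁ ⟶ pullback b₂ j'' := pullback.lift j b₁ sq₂.symm

theorem uu_fst : uu b₁ b₂ j j'' sq₂ ≫ pullback.fst b₂ j'' = j := pullback.lift_fst _ _ _

theorem uu_snd : uu b₁ b₂ j j'' sq₂ ≫ pullback.snd b₂ j'' = b₁ := pullback.lift_snd _ _ _

theorem f_fst : f b₁ a₂ b₂ h₂ j j'' sq₂ ≫ pullback.fst b₂ j'' =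
    (fst H₁ H₂' ≫ j) * (snd H₁ H₂' ≫ a₂) := pullback.lift_fst _ _ _

theorem f_snd : f b₁ a₂ b₂ h₂ j j'' sq₂ ≫ pullback.snd b₂ j'' = fst H₁ H₂' ≫ b₁ :=
  pullback.lift_snd _ _ _

theorem lift_f_fst {T : Over S} (h : T ⟶ H₁) (m : T ⟶ H₂') :
    lift h m ≫ f b₁ a₂ b₂ h₂ j j'' sq₂ ≫ pullback.fst b₂ j'' = (h ≫ j) * (m ≫ a₂) := by
  rw [f_fst, MonObj.comp_mul, ← Category.assoc, lift_fst, ← Category.assoc, lift_snd]

theorem lift_f_snd {T : Over S} (h : T ⟶ H₁) (m : T ⟶ H₂') :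
    lift h m ≫ f b₁ a₂ b₂ h₂ j j'' sq₂ ≫ pullback.snd b₂ j'' = h ≫ b₁ := by
  rw [f_snd, ← Category.assoc, lift_fst]

theorem comp_f_fst {T : Over S} (x : T ⟶ H₁ ⊗ H₂') :
    x ≫ f b₁ a₂ b₂ h₂ j j'' sq₂ ≫ pullback.fst b₂ j'' =
      ((x ≫ fst _ _) ≫ j) * ((x ≫ snd _ _) ≫ a₂) := by
  conv_lhs => rw [← lift_comp_fst_snd x]
  rw [lift_f_fst]

theorem comp_f_snd {T : Over S} (x : T ⟶ H₁ ⊗ H₂') :
    x ≫ f b₁ a₂ b₂ h₂ j j'' sq₂ ≫ pullback.snd b₂ j'' = (x ≫ fst _ _) ≫ b₁ := by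
  conv_lhs => rw [← lift_comp_fst_snd x]
  rw [lift_f_snd]

/-- first square: `f` is the base change of `b₁`. -/
theorem isPullback_f : IsPullback (fst H₁ H₂') (f b₁ a₂ b₂ h₂ j j'' sq₂) b₁ (pullback.snd b₂ j'') := by
  haveI := mono_of_isKernel a₂ b₂ h₂
  have kp := isPullback_of_kernel (u := a₂) (q := b₂) h₂
  have key : ∀ {W : Over S} (α : W ⟶ H₁) (β : W ⟶ pullback b₂ j''),
      α ≫ b₁ = β ≫ pullback.snd b₂ j'' →
      ∃ m : W ⟶ H₂', β ≫ pullback.fst b₂ j'' = (α ≫ j) * (m ≫ a₂) := by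
    intro W α β hαβ
    apply exists_of_π_eq kp
    rw [Category.assoc, ← sq₂, ← Category.assoc, hαβ, Category.assoc, Category.assoc,
      pullback.condition]
  refine isPullback_of_lift _ _ _ _ (f_snd b₁ a₂ b₂ h₂ j j'' sq₂).symm
    (fun {W} α β hαβ => lift α (key α β hαβ).choose) ?_ ?_ ?_
  · intro W α β hαβ
    exact lift_fst _ _
  · intro W α β hαβ
    apply pullback.hom_ext
    · rw [Category.assoc, lift_f_fst]
      exact (key α β hαβ).choose_spec.symm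
    · rw [Category.assoc, lift_f_snd]
      exact hαβ
  · intro W m m' e1 e2
    apply CartesianMonoidalCategory.hom_ext _ _ e1
    have e3 := congrArg (fun φ => φ ≫ pullback.fst b₂ j'') e2
    simp only [Category.assoc] at e3
    rw [comp_f_fst, comp_f_fst, e1] at e3
    have e4 := mul_left_cancel e3
    exact (cancel_mono a₂).mp e4

include sq₁ h₁ in
theorem sq_w : (H₁ ◁ j') ≫ f b₁ a₂ b₂ h₂ j j'' sq₂ = ((H₁ ◁ a₁) ≫ μ) ≫ uu b₁ b₂ j j'' sq₂ := by
  apply pullback.hom_ext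
  · have e : ((H₁ ◁ a₁) ≫ μ) ≫ j = (fst H₁ H₁' ≫ j) * (snd H₁ H₁' ≫ a₁ ≫ j) := by
      have := comp_act a₁ (𝟙 (H₁ ⊗ H₁'))
      rw [Category.id_comp, Category.id_comp, Category.id_comp] at this
      rw [this, MonObj.mul_comp, Category.assoc]
    rw [Category.assoc, comp_f_fst]
    conv_rhs => rw [Category.assoc, uu_fst, e]
    simp only [whiskerLeft_fst, whiskerLeft_snd, Category.assoc, sq₁]
  · have e : ((H₁ ◁ a₁) ≫ μ) ≫ b₁ = fst H₁ H₁' ≫ b₁ := by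
      have := comp_act a₁ (𝟙 (H₁ ⊗ H₁'))
      rw [Category.id_comp, Category.id_comp, Category.id_comp] at this
      rw [this, MonObj.mul_comp, comp_eq_one_of_isKernel a₁ b₁ h₁, _root_.mul_one]
    rw [Category.assoc, comp_f_snd]
    conv_rhs => rw [Category.assoc, uu_snd, e]
    rw [whiskerLeft_fst]

include h₁ sq₁ in
/-- second square: the base change of `uu` along `f` is `H₁ ◁ j'`. -/
theorem isPullback_uu : IsPullback (H₁ ◁ j') ((H₁ ◁ a₁) ≫ μ) (f b₁ a₂ b₂ h₂ j j'' sq₂)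
    (uu b₁ b₂ j j'' sq₂) := by
  haveI := mono_of_isKernel a₂ b₂ h₂
  haveI := mono_of_isKernel a₁ b₁ h₁
  have kp := isPullback_of_kernel (u := a₁) (q := b₁) h₁
  have key : ∀ {W : Over S} (α : W ⟶ H₁ ⊗ H₂') (β : W ⟶ H₁),
      α ≫ f b₁ a₂ b₂ h₂ j j'' sq₂ = β ≫ uu b₁ b₂ j j'' sq₂ →
      ∃ n : W ⟶ H₁', β = (α ≫ fst _ _) * (n ≫ a₁) := by
    intro W α β hαβ
    apply exists_of_π_eq kp
    have e3 := congrArg (fun φ => φ ≫ pullback.snd b₂ j'') hαβ
    simp only [Category.assoc] at e3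
    rw [comp_f_snd, uu_snd] at e3
    exact e3
  have key2 : ∀ {W : Over S} (α : W ⟶ H₁ ⊗ H₂') (β : W ⟶ H₁)
      (hαβ : α ≫ f b₁ a₂ b₂ h₂ j j'' sq₂ = β ≫ uu b₁ b₂ j j'' sq₂),
      (key α β hαβ).choose ≫ j' = α ≫ snd _ _ := by
    intro W α β hαβ
    have hn := (key α β hαβ).choose_spec
    have e3 := congrArg (fun φ => φ ≫ pullback.fst b₂ j'') hαβ
    simp only [Category.assoc] at e3
    rw [comp_f_fst, uu_fst] at e3
    rw [hn, MonObj.mul_comp, Category.assoc _ a₁ j, sq₁] at e3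
    have e4 := mul_left_cancel e3
    rw [← Category.assoc] at e4
    exact ((cancel_mono a₂).mp e4).symm
  refine isPullback_of_lift _ _ _ _ (sq_w a₁ b₁ a₂ b₂ h₁ h₂ j' j j'' sq₁ sq₂)
    (fun {W} α β hαβ => lift (α ≫ fst _ _) (key α β hαβ).choose) ?_ ?_ ?_
  · intro W α β hαβ
    rw [lift_whiskerLeft, key2 α β hαβ, lift_comp_fst_snd]
  · intro W α β hαβ
    rw [lift_act]
    exact (key α β hαβ).choose_spec.symm
  · intro W m m' e1 e2
    have e5 : m ≫ fst _ _ = m' ≫ fst _ _ := by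
      have := congrArg (fun φ => φ ≫ fst _ _) e1
      simpa using this
    apply CartesianMonoidalCategory.hom_ext _ _ e5
    rw [comp_act, comp_act, e5] at e2
    have e4 := mul_left_cancel e2
    rw [← Category.assoc, ← Category.assoc] at e4
    exact (cancel_mono a₁).mp e4

include h₁ h₂ sq₁ sq₂ in
/-- the middle morphism of a morphism of extensions is a closed immersion if the outer ones are -/
theorem isClosedImmersion_middle [LocallyOfFinitePresentation H₁.hom]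
    [LocallyOfFiniteType H₁''.hom] [Flat b₁.left] [Surjective b₁.left]
    (hj' : IsClosedImmersion j'.left) (hj'' : IsClosedImmersion j''.left) :
    IsClosedImmersion j.left := by
  have hb₁ : Fppf b₁.left := by
    refine ⟨inferInstance, inferInstance, ?_⟩
    apply Groth.Agent.Lib.Helper14.AS.locallyOfFinitePresentation_of_comp b₁.left H₁''.hom
    · rw [Over.w b₁]; infer_instance
    · infer_instance
  have hf : Fppf (f b₁ a₂ b₂ h₂ j j'' sq₂).left :=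
    Fppf.of_isPullback ((isPullback_f b₁ a₂ b₂ h₂ j j'' sq₂).map (Over.forget S)) hb₁
  have hcl : IsClosedImmersion (H₁ ◁ j').left :=
    MorphismProperty.of_isPullback (P := @IsClosedImmersion)
      ((isPullback_whiskerLeft_snd H₁ j').map (Over.forget S)).flip hj'
  have hu : IsClosedImmersion (uu b₁ b₂ j j'' sq₂).left := by
    have hd := Groth.Agent.Lib.Helper25.ImmDescent.descendsAlong_isClosedImmersion_fppf.{u}
    exact MorphismProperty.of_isPullback_of_descendsAlong (P := @IsClosedImmersion)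
      (Q := (@Surjective ⊓ @Flat ⊓ @LocallyOfFinitePresentation : MorphismProperty Scheme.{u}))
      ((isPullback_uu a₁ b₁ a₂ b₂ h₁ h₂ j' j j'' sq₁ sq₂).map (Over.forget S))
      ⟨⟨hf.1, hf.2.1⟩, hf.2.2⟩ hcl
  have hp : IsClosedImmersion (pullback.fst b₂ j'').left :=
    MorphismProperty.of_isPullback (P := @IsClosedImmersion)
      ((IsPullback.of_hasPullback b₂ j'').map (Over.forget S)).flip hj''
  have hfac : j = uu b₁ b₂ j j'' sq₂ ≫ pullback.fst b₂ j'' := by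
    rw [uu_fst]
  rw [hfac, Over.comp_left]
  infer_instance

end Main

end Groth.Agent.Lib.Helper10.ExtClosed
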