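import Mathlib.Algebra.Homology.DerivedCategory.Ext.Map
import Mathlib.Algebra.Homology.DerivedCategory.Ext.EnoughInjectives
import Mathlib.Algebra.Homology.DerivedCategory.Ext.ExactSequences

/-!
# Naturality of the action of exact functors on `Ext` groups

`Groth.Agent.Lib.Helper10.ExtNat.comp_mk₀_app`: an abstract naturality statement. Given two
"actions on Ext groups" `Φ`, `Ψ` lying over exact functors `A`, `B` (compatible with `mk₀`,
composition and extension classes of short exact sequences) and a natural transformation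
`α : A ⟶ B`, one has `Φ x ≫ α_Y = α_X ≫ Ψ x` for every `x : Ext X Y n`, provided the source
category has enough injectives (dimension shifting).

Special cases: `mapExactFunctor_comp_mk₀_app` (two exact functors),
`mapExactFunctor_comp_mk₀_app_id` (a transformation to the identity functor) and
`mapExactFunctor_mapExactFunctor_comp_mk₀_app` (a transformation from a composite).
-/

universe w w' v v' u u'

open CategoryTheory CategoryTheory.Limits CategoryTheory.Abelian

namespace Groth.Agent.Lib.Helper10.ExtNat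

variable {C : Type u} {D : Type u'} [Category.{v} C] [Category.{v'} D] [Abelian C] [Abelian D]
  [HasExt.{w} C] [HasExt.{w'} D]

/-- Abstract naturality of actions on `Ext` groups, by dimension shifting. -/
theorem comp_mk₀_app [EnoughInjectives C]
    (A B : C ⥤ D) [A.PreservesZeroMorphisms] [B.PreservesZeroMorphisms]
    [PreservesFiniteLimits A] [PreservesFiniteColimits A]
    [PreservesFiniteLimits B] [PreservesFiniteColimits B]
    (Φ : ∀ {X Y : C} {n : ℕ}, Ext.{w} X Y n → Ext.{w'} (A.obj X) (A.obj Y) n)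
    (Ψ : ∀ {X Y : C} {n : ℕ}, Ext.{w} X Y n → Ext.{w'} (B.obj X) (B.obj Y) n)
    (hΦ0 : ∀ {X Y : C} (f : X ⟶ Y), Φ (Ext.mk₀ f) = Ext.mk₀ (A.map f))
    (hΦc : ∀ {X Y Z : C} {a b c : ℕ} (x : Ext.{w} X Y a) (y : Ext.{w} Y Z b) (h : a + b = c),
      Φ (x.comp y h) = (Φ x).comp (Φ y) h)
    (hΦe : ∀ {S : ShortComplex C} (hS : S.ShortExact),
      Φ hS.extClass = (hS.map_of_exact A).extClass)
    (hΨ0 : ∀ {X Y : C} (f : X ⟶ Y), Ψ (Ext.mk₀ f) = Ext.mk₀ (B.map f))
    (hΨc : ∀ {X Y Z : C} {a b c : ℕ} (x : Ext.{w} X Y a) (y : Ext.{w} Y Z b) (h : a + b = c),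
      Ψ (x.comp y h) = (Ψ x).comp (Ψ y) h)
    (hΨe : ∀ {S : ShortComplex C} (hS : S.ShortExact),
      Ψ hS.extClass = (hS.map_of_exact B).extClass)
    (α : A ⟶ B) {X Y : C} {n : ℕ} (x : Ext.{w} X Y n) :
    (Φ x).comp (Ext.mk₀ (α.app Y)) (add_zero n) = (Ext.mk₀ (α.app X)).comp (Ψ x) (zero_add n) := by
  induction n generalizing Y with
  | zero =>
    obtain ⟨f, rfl⟩ := (Ext.mk₀_bijective X Y).2 x
    rw [hΦ0, hΨ0, Ext.mk₀_comp_mk₀, Ext.mk₀_comp_mk₀, α.naturality]
  | succ n ih =>
    -- embed `Y` into an injective object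
    let S : ShortComplex C := ShortComplex.mk (Injective.ι Y) (cokernel.π (Injective.ι Y))
      (cokernel.condition _)
    have hS : S.ShortExact :=
      { exact := ShortComplex.exact_of_g_is_cokernel _ (cokernelIsCokernel S.f) }
    have hx0 : x.comp (Ext.mk₀ S.f) (add_zero (n + 1)) = 0 := Ext.eq_zero_of_injective _
    obtain ⟨x₃, rfl⟩ := Ext.covariant_sequence_exact₁ X hS x hx0 rfl
    -- the morphism of short exact sequences induced by `α`
    let φ : S.map A ⟶ S.map B :=
      { τ₁ := α.app _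
        τ₂ := α.app _
        τ₃ := α.app _
        comm₁₂ := (α.naturality _).symm
        comm₂₃ := (α.naturality _).symm }
    have hnat := ShortComplex.ShortExact.extClass_naturality (hS.map_of_exact A)
      (hS.map_of_exact B) φ
    obtain ⟨eA, heA⟩ : ∃ eA : Ext.{w'} (A.obj S.X₃) (A.obj Y) 1,
        eA = (hS.map_of_exact A).extClass := ⟨_, rfl⟩
    obtain ⟨eB, heB⟩ : ∃ eB : Ext.{w'} (B.obj S.X₃) (B.obj Y) 1,
        eB = (hS.map_of_exact B).extClass := ⟨_, rfl⟩
    have e1 : eA.comp (Ext.mk₀ (α.app Y)) (add_zero 1) =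
        (Ext.mk₀ (α.app S.X₃)).comp eB (zero_add 1) := by
      rw [heA, heB]; exact hnat
    have e2 : Φ hS.extClass = eA := by rw [heA]; exact hΦe hS
    have e3 : Ψ hS.extClass = eB := by rw [heB]; exact hΨe hS
    rw [hΦc, hΨc, e2, e3, Ext.comp_assoc_of_third_deg_zero, e1,
      ← Ext.comp_assoc_of_second_deg_zero, ih x₃, Ext.comp_assoc]
    omega

section

variable (G G' : C ⥤ D) [G.Additive] [G'.Additive]
  [PreservesFiniteLimits G] [PreservesFiniteColimits G]
  [PreservesFiniteLimits G'] [PreservesFiniteColimits G']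

/-- Naturality of `mapExactFunctor` with respect to natural transformations of exact functors. -/
theorem mapExactFunctor_comp_mk₀_app [EnoughInjectives C] (α : G ⟶ G') {X Y : C} {n : ℕ}
    (x : Ext.{w} X Y n) :
    (x.mapExactFunctor G).comp (Ext.mk₀ (α.app Y)) (add_zero n) =
      (Ext.mk₀ (α.app X)).comp (x.mapExactFunctor G') (zero_add n) :=
  comp_mk₀_app G G' (fun x => x.mapExactFunctor G) (fun x => x.mapExactFunctor G')
    (fun f => Ext.mapExactFunctor_mk₀ G f) (fun x y h => Ext.mapExactFunctor_comp G x y h)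
    (fun hS => Ext.mapExactFunctor_extClass G hS)
    (fun f => Ext.mapExactFunctor_mk₀ G' f) (fun x y h => Ext.mapExactFunctor_comp G' x y h)
    (fun hS => Ext.mapExactFunctor_extClass G' hS) α x

end

section

variable (G : C ⥤ C) [G.Additive] [PreservesFiniteLimits G] [PreservesFiniteColimits G]

/-- Naturality of `mapExactFunctor` for a natural transformation to the identity functor. -/
theorem mapExactFunctor_comp_mk₀_app_id [EnoughInjectives C] (α : G ⟶ 𝟭 C) {X Y : C} {n : ℕ}
    (x : Ext.{w} X Y n) :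
    (x.mapExactFunctor G).comp (Ext.mk₀ (α.app Y)) (add_zero n) =
      (Ext.mk₀ (α.app X)).comp x (zero_add n) :=
  comp_mk₀_app G (𝟭 C) (fun x => x.mapExactFunctor G) (fun x => x)
    (fun f => Ext.mapExactFunctor_mk₀ G f) (fun x y h => Ext.mapExactFunctor_comp G x y h)
    (fun hS => Ext.mapExactFunctor_extClass G hS)
    (fun _ => rfl) (fun _ _ _ => rfl) (fun _ => rfl) α x

end

section

variable {E : Type*} [Category E] [Abelian E] [HasExt.{w'} E]
  (G₁ : C ⥤ D) (G₂ : D ⥤ E) (G₃ : C ⥤ E) [G₁.Additive] [G₂.Additive] [G₃.Additive]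
  [PreservesFiniteLimits G₁] [PreservesFiniteColimits G₁]
  [PreservesFiniteLimits G₂] [PreservesFiniteColimits G₂]
  [PreservesFiniteLimits G₃] [PreservesFiniteColimits G₃]

/-- Naturality of `mapExactFunctor` for a natural transformation out of a composite. -/
theorem mapExactFunctor_mapExactFunctor_comp_mk₀_app [EnoughInjectives C] (α : G₁ ⋙ G₂ ⟶ G₃)
    {X Y : C} {n : ℕ} (x : Ext.{w} X Y n) :
    ((x.mapExactFunctor G₁).mapExactFunctor G₂).comp (Ext.mk₀ (α.app Y)) (add_zero n) =
      (Ext.mk₀ (α.app X)).comp (x.mapExactFunctor G₃) (zero_add n) :=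
  haveI : PreservesFiniteLimits (G₁ ⋙ G₂) := comp_preservesFiniteLimits G₁ G₂
  haveI : PreservesFiniteColimits (G₁ ⋙ G₂) := comp_preservesFiniteColimits G₁ G₂
  comp_mk₀_app (G₁ ⋙ G₂) G₃ (fun x => (x.mapExactFunctor G₁).mapExactFunctor G₂)
    (fun x => x.mapExactFunctor G₃)
    (fun f => by rw [Ext.mapExactFunctor_mk₀, Ext.mapExactFunctor_mk₀]; rfl)
    (fun x y h => by rw [Ext.mapExactFunctor_comp, Ext.mapExactFunctor_comp])
    (fun hS => by
      rw [Ext.mapExactFunctor_extClass]
      exact Ext.mapExactFunctor_extClass G₂ (hS.map_of_exact G₁))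
    (fun f => Ext.mapExactFunctor_mk₀ G₃ f) (fun x y h => Ext.mapExactFunctor_comp G₃ x y h)
    (fun hS => Ext.mapExactFunctor_extClass G₃ hS) α x

end

end Groth.Agent.Lib.Helper10.ExtNat
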