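import Mathlib
import Groth.Agent.Lib.Helper10.ExactTorsor2
import Groth.Agent.Lib.Helper10.TorsorQuot2
import Groth.Prelude.Def_ActBC

/-!
# Fibres of a quotient map `F → F/G` over sections are `G`-torsors (reduction of structure group)
-/

set_option autoImplicit false
set_option backward.isDefEq.respectTransparency.types false
set_option maxHeartbeats 4000000
set_option synthInstance.maxHeartbeats 400000
universe u
open CategoryTheory CategoryTheory.Limits AlgebraicGeometry MonoidalCategory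
  CartesianMonoidalCategory MonObj GrpObj

namespace Groth.Agent.Lib.Helper10.QuotFibre

open Groth.Agent.Lib.Helper10.HomSp Groth.Agent.Lib.Helper10.GaTorsor
  Groth.Agent.Lib.Helper10.TorsorIso Groth.Agent.Lib.Helper10.TorsorQuot
  Groth.Agent.Lib.Helper10.ExactTorsor

variable {S : Scheme.{u}}

theorem etale_le_fpqc : Scheme.etalePrecoverage.{u} ≤ Scheme.fpqcPrecoverage.{u} :=
  le_trans Scheme.etalePrecoverage_le_proetalePrecoverage
    Scheme.proetalePrecoverage_le_fpqcPrecoverage

theorem isLocallyTrivialFor_mono {K K' : Precoverage Scheme.{u}} (h : K ≤ K') {X : Over S}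
    (hX : NonAbH1.IsLocallyTrivialFor K X) : NonAbH1.IsLocallyTrivialFor K' X := by
  obtain ⟨R, hR, hsec⟩ := hX
  exact ⟨R, h S hR, hsec⟩

theorem isTorsorFor_mono {K K' : Precoverage Scheme.{u}} (h : K ≤ K') {G X : Over S} [GrpObj G]
    {a : AlgGrp.Action G X} (ha : NonAbH1.IsTorsorFor K a) : NonAbH1.IsTorsorFor K' a :=
  ⟨ha.1, isLocallyTrivialFor_mono h ha.2⟩

section Fibre

variable {G F Q : Over S} [GrpObj G] (b : AlgGrp.Action G F) (π : F ⟶ Q)
  (hsq : IsPullback b.act (snd G F) π π) (σ : 𝟙_ (Over S) ⟶ Q)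

/-- the fibre of `π` over the section `σ`. -/
noncomputable abbrev qfib : Over S := Limits.pullback π σ

/-- the inclusion of the fibre. -/
noncomputable abbrev qfibι : qfib π σ ⟶ F := pullback.fst π σ

instance mono_section : Mono σ := ⟨fun _ _ _ => toUnit_unique _ _⟩

instance mono_qfibι : Mono (qfibι π σ) := pullback.fst_of_mono

theorem comp_qfibι_comp {T : Over S} (q : T ⟶ qfib π σ) :
    (q ≫ qfibι π σ) ≫ π = toUnit T ≫ σ := by
  rw [Category.assoc, pullback.condition, ← Category.assoc]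
  congr 1
  exact toUnit_unique _ _

include hsq in
theorem qfibAct_aux :
    ((G ◁ qfibι π σ) ≫ b.act) ≫ π = toUnit (G ⊗ qfib π σ) ≫ σ := by
  rw [Category.assoc, hsq.w, whiskerLeft_snd_assoc, ← Category.assoc, comp_qfibι_comp]

/-- the action morphism on the fibre of the quotient map. -/
noncomputable def qfibAct : G ⊗ qfib π σ ⟶ qfib π σ :=
  pullback.lift ((G ◁ qfibι π σ) ≫ b.act) (toUnit _) (qfibAct_aux b π hsq σ)

theorem qfibAct_comp : qfibAct b π hsq σ ≫ qfibι π σ = (G ◁ qfibι π σ) ≫ b.act :=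
  pullback.lift_fst _ _ _

/-- the action on the fibre of the quotient map. -/
noncomputable def qfibAction : AlgGrp.Action G (qfib π σ) :=
  ofMono b (qfibι π σ) (qfibAct b π hsq σ) (qfibAct_comp b π hsq σ)

theorem smul_qfibAction_comp {T : Over S} (g : T ⟶ G) (q : T ⟶ qfib π σ) :
    smul (qfibAction b π hsq σ) g q ≫ qfibι π σ = smul b g (q ≫ qfibι π σ) := by
  rw [qfibAction, smul_ofMono_comp]

theorem isPseudoTorsorSch_qfibAction : NonAbH1.IsPseudoTorsorSch (qfibAction b π hsq σ) := by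
  apply isPseudoTorsorSch_of_forall_existsUnique
  intro T q₁ q₂
  have h12 : (q₁ ≫ qfibι π σ) ≫ π = (q₂ ≫ qfibι π σ) ≫ π := by
    rw [comp_qfibι_comp, comp_qfibι_comp]
  set m := hsq.lift (q₁ ≫ qfibι π σ) (q₂ ≫ qfibι π σ) h12 with hm
  have hm1 : m ≫ b.act = q₁ ≫ qfibι π σ := hsq.lift_fst _ _ _
  have hm2 : m ≫ snd G F = q₂ ≫ qfibι π σ := hsq.lift_snd _ _ _
  have hm3 : lift (m ≫ fst G F) (q₂ ≫ qfibι π σ) = m := by
    apply CartesianMonoidalCategory.hom_ext
    · rw [lift_fst]
    · rw [lift_snd, hm2]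
  refine ⟨m ≫ fst G F, ?_, ?_⟩
  · change smul (qfibAction b π hsq σ) (m ≫ fst G F) q₂ = q₁
    rw [← cancel_mono (qfibι π σ), smul_qfibAction_comp]
    change lift _ _ ≫ b.act = _
    rw [hm3, hm1]
  · intro g hg
    have hg' : smul (qfibAction b π hsq σ) g q₂ = q₁ := hg
    have e : lift g (q₂ ≫ qfibι π σ) = m := by
      apply hsq.hom_ext
      · rw [hm1, ← hg', smul_qfibAction_comp]
        rfl
      · rw [lift_snd, hm2]
    rw [← e, lift_fst]

end Fibre

section Reduction

variable {G H F Q : Over S} [GrpObj G] [GrpObj H] (i : G ⟶ H) [IsMonHom i]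
  (aF : AlgGrp.Action H F) (π : F ⟶ Q)
  (hsq : IsPullback (aF.restrict i).act (snd G F) π π)

include hsq in
/-- a section of the quotient gives a reduction of the structure group. -/
theorem exists_reduction_of_section
    (hloc : NonAbH1.IsLocallyTrivialFor Scheme.etalePrecoverage (Over.mk π.left : Over Q.left))
    (σ : 𝟙_ (Over S) ⟶ Q) :
    ∃ (E : Over S) (aE : AlgGrp.Action G E) (φ : E ⟶ F),
      NonAbH1.IsTorsorFor Scheme.etalePrecoverage aE ∧
      AlgGrp.Action.IsEquivariant aE (aF.restrict i) φ ∧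
      IsPullback φ (toUnit E) π σ := by
  refine ⟨qfib π σ, qfibAction (aF.restrict i) π hsq σ, qfibι π σ,
    ⟨isPseudoTorsorSch_qfibAction (aF.restrict i) π hsq σ, ?_⟩, ?_, ?_⟩
  · obtain ⟨R, hR, hsec⟩ := hloc
    refine ⟨R.pullbackArrows σ.left, Precoverage.pullbackArrows_mem σ.left hR, ?_⟩
    rintro W g ⟨C, c, hc⟩
    obtain ⟨τ, hτ⟩ := hsec c hc
    have hτ' : τ ≫ π.left = c := hτ
    have hσS : σ.left ≫ Q.hom = 𝟙 S := Over.w σ
    have hFw : F.hom = π.left ≫ Q.hom := (Over.w π).symm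
    let pt : Over.mk (pullback.snd c σ.left) ⟶ F := Over.homMk (pullback.fst c σ.left ≫ τ) (by
      change (pullback.fst c σ.left ≫ τ) ≫ F.hom = pullback.snd c σ.left
      rw [hFw, Category.assoc, ← Category.assoc τ, hτ', ← Category.assoc, pullback.condition,
        Category.assoc, hσS]
      exact Category.comp_id _)
    have hpt : pt ≫ π = toUnit _ ≫ σ := by
      apply Over.OverMorphism.ext
      change (pullback.fst c σ.left ≫ τ) ≫ π.left = pullback.snd c σ.left ≫ σ.left
      rw [Category.assoc, hτ', pullback.condition]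
    exact ⟨(pullback.lift pt (toUnit _) hpt : _ ⟶ qfib π σ).left, Over.w _⟩
  · exact qfibAct_comp (aF.restrict i) π hsq σ
  · have h := IsPullback.of_hasPullback π σ
    have e : pullback.snd π σ = toUnit (qfib π σ) := toUnit_unique _ _
    rw [e] at h
    exact h

include hsq in
/-- a reduction of the structure group gives a unique section of the quotient. -/
theorem section_of_reduction {E : Over S} (aE : AlgGrp.Action G E)
    (hE : NonAbH1.IsTorsorFor Scheme.etalePrecoverage aE)
    (φ : E ⟶ F) (hφ : AlgGrp.Action.IsEquivariant aE (aF.restrict i) φ) :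
    (∃! σ : 𝟙_ (Over S) ⟶ Q, toUnit E ≫ σ = φ ≫ π) ∧
      ∀ σ : 𝟙_ (Over S) ⟶ Q, toUnit E ≫ σ = φ ≫ π → IsPullback φ (toUnit E) π σ := by
  have hE' : NonAbH1.IsTorsorFor Scheme.fpqcPrecoverage aE := isTorsorFor_mono etale_le_fpqc hE
  have hφ' : aE.act ≫ φ = (G ◁ φ) ≫ (aF.restrict i).act := hφ
  constructor
  · have hinv : aE.act ≫ φ ≫ π = snd G E ≫ φ ≫ π := by
      rw [← Category.assoc, hφ', Category.assoc, hsq.w, whiskerLeft_snd_assoc]
    have hinv' : aE.act.left ≫ (φ ≫ π).left = (snd G E).left ≫ (φ ≫ π).left :=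
      congrArg (fun k => k.left) hinv
    obtain ⟨ψ, hψ, hψu⟩ := exists_unique_desc aE hE' (φ ≫ π).left hinv'
    have hψ1 : ψ ≫ Q.hom = 𝟙 S := by
      apply cancel_hom aE hE'
      rw [← Category.assoc, hψ, Over.w, Category.comp_id]
    refine ⟨Over.homMk ψ hψ1, Over.OverMorphism.ext hψ, ?_⟩
    intro σ' hσ'
    apply Over.OverMorphism.ext
    exact hψu σ'.left (congrArg (fun k => k.left) hσ')
  · intro σ hσ
    let c : E ⟶ qfib π σ := pullback.lift φ (toUnit E) hσ.symm
    have hc1 : c ≫ qfibι π σ = φ := pullback.lift_fst _ _ _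
    have hc2 : c ≫ pullback.snd π σ = toUnit E := pullback.lift_snd _ _ _
    have hceq : AlgGrp.Action.IsEquivariant aE (qfibAction (aF.restrict i) π hsq σ) c := by
      change aE.act ≫ c = (G ◁ c) ≫ qfibAct (aF.restrict i) π hsq σ
      rw [← cancel_mono (qfibι π σ), Category.assoc, Category.assoc, hc1, qfibAct_comp,
        ← MonoidalCategory.whiskerLeft_comp_assoc, hc1]
      exact hφ'
    haveI : IsIso c := isIso_of_isEquivariant aE _ hE'
      (isPseudoTorsorSch_qfibAction (aF.restrict i) π hsq σ) c hceq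
    exact IsPullback.of_iso_pullback ⟨hσ.symm⟩ (asIso c) hc1 hc2

end Reduction

end Groth.Agent.Lib.Helper10.QuotFibre
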