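import Mathlib
import Groth.Agent.Lib.Helper10.ExactQuot1
import Groth.Agent.Lib.Helper10.ConstHom1
import Groth.Agent.Lib.Helper10.QuotFibre1

/-!
# Rigidity of extensions of a quasi-compact commutative group scheme by a torsion-free constant
group
-/

set_option autoImplicit false
set_option backward.isDefEq.respectTransparency.types false
set_option maxHeartbeats 4000000
set_option synthInstance.maxHeartbeats 400000
universe u
open CategoryTheory CategoryTheory.Limits AlgebraicGeometry MonoidalCategory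
  CartesianMonoidalCategory MonObj GrpObj

namespace Groth.Agent.Lib.Helper10.ExtRigid

open Groth.Agent.Lib.Helper10.ExactTorsor Groth.Agent.Lib.Helper10.ExactQuot
  Groth.Agent.Lib.Helper10.ConstHom Groth.Agent.Lib.Helper10.QuotFibre

variable {S : Scheme.{u}} {G E P : Over S} [GrpObj G] [GrpObj E] [GrpObj P]
  {u : G ⟶ E} {v : E ⟶ P}

/-- the kernel map of an exact sequence is injective on points. -/
theorem u_injective [IsMonHom u] [IsMonHom v] (huv : u ≫ v = 1)
    (sq : IsPullback (fst E G) ((E ◁ u) ≫ μ[E]) v v) {T : Over S} (g₁ g₂ : T ⟶ G)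
    (h : g₁ ≫ u = g₂ ≫ u) : g₁ = g₂ := by
  have h1 : (1 : T ⟶ E) ≫ v = (g₁ ≫ u) ≫ v := by
    rw [MonObj.one_comp v, Category.assoc, huv, MonObj.comp_one]
  obtain ⟨g, _, hu⟩ := exists_unique_of_comp_eq sq (1 : T ⟶ E) (g₁ ≫ u) h1
  have e1 : g₁ = g := hu g₁ (_root_.one_mul _)
  have e2 : g₂ = g := hu g₂ (by
    change 1 * (g₂ ≫ u) = g₁ ≫ u
    rw [_root_.one_mul, h])
  rw [e1, e2]

/-- **Rigidity** of extensions by a torsion-free constant group. -/
theorem rigid {Z : Type u} [Group Z] (hZ : ∀ z : Z, IsOfFinOrder z → z = 1)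
    [IsCommMonObj E] [CompactSpace P.left]
    (eG : G ≅ TwC.const S Z) (hG : TwC.IsConstGrp Z G eG)
    (hex : NonAbH1.IsExactSeq Scheme.fppfPrecoverage u v)
    (φ : E ≅ E) [IsMonHom φ.hom] (hφu : u ≫ φ.hom = u) (hφv : φ.hom ≫ v = v) :
    φ.hom = 𝟙 E := by
  obtain ⟨hu, hv, huv, sq, hloc⟩ := hex
  haveI := hu
  haveI := hv
  have hloc' : NonAbH1.IsLocallyTrivialFor Scheme.fpqcPrecoverage (Over.mk v.left : Over P.left) :=
    isLocallyTrivialFor_mono Scheme.fppfPrecoverage_le_fpqcPrecoverage hloc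
  -- the difference map
  have h12 : 𝟙 E ≫ v = φ.hom ≫ v := by rw [hφv, Category.id_comp]
  obtain ⟨δ, hδ, -⟩ := exists_unique_of_comp_eq sq (𝟙 E) φ.hom h12
  have hφpt : ∀ {T : Over S} (x : T ⟶ E), x ≫ φ.hom = x * ((x ≫ δ) ≫ u) := by
    intro T x
    rw [← hδ, MonObj.comp_mul, Category.comp_id, Category.assoc]
  have hδu : ∀ {T : Over S} (g : T ⟶ G), (g ≫ u) ≫ δ = 1 := by
    intro T g
    apply u_injective huv sq
    have h1 := hφpt (g ≫ u)
    rw [Category.assoc, hφu] at h1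
    rw [MonObj.one_comp u]
    exact (mul_eq_left.mp h1.symm)
  have hδmul : ∀ {T : Over S} (x y : T ⟶ E), (x * y) ≫ δ = (x ≫ δ) * (y ≫ δ) := by
    intro T x y
    apply u_injective huv sq
    have h1 := hφpt (x * y)
    rw [MonObj.mul_comp x y φ.hom, hφpt x, hφpt y, _root_.mul_mul_mul_comm] at h1
    rw [MonObj.mul_comp _ _ u]
    exact (mul_left_cancel h1).symm
  have hδone : ∀ {T : Over S}, (1 : T ⟶ E) ≫ δ = 1 := by
    intro T
    have h := hδmul (1 : T ⟶ E) 1
    rw [_root_.mul_one] at h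
    exact mul_eq_left.mp h.symm
  have hδpow : ∀ {T : Over S} (x : T ⟶ E) (n : ℕ), (x ^ n) ≫ δ = (x ≫ δ) ^ n := by
    intro T x n
    induction n with
    | zero => rw [pow_zero, pow_zero, hδone]
    | succ n ih => rw [pow_succ, pow_succ, hδmul, ih]
  have hd : ∀ (T : Over S) (x : T ⟶ E) (g : T ⟶ G), (x * (g ≫ u)) ≫ δ = x ≫ δ := by
    intro T x g
    rw [hδmul, hδu, _root_.mul_one]
  -- descend to the quotient
  obtain ⟨δ', hδ', -⟩ := exists_unique_desc_of_exact sq hloc' δ hd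
  -- the descended map is trivial
  have hδ'1 : δ' = 1 := by
    apply eq_one_of_pow eG hG hZ δ'
    intro p
    obtain ⟨R, hR, hsec⟩ := hloc
    obtain ⟨C, rfl⟩ := R.exists_eq_preZeroHypercover
    have hR2 : C.presieve₀ ∈ Scheme.precoverage (@Flat ⊓ @LocallyOfFinitePresentation) P.left := hR
    obtain ⟨i, y, hy⟩ := ((Scheme.presieve₀_mem_precoverage_iff
      (P := (@Flat ⊓ @LocallyOfFinitePresentation : MorphismProperty Scheme.{u})) C).mp hR2).1 p
    obtain ⟨τ, hτ⟩ := hsec (C.f i) ⟨i⟩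
    have hτ' : τ ≫ v.left = C.f i := hτ
    let x' : Over.mk (((C.X i).fromSpecResidueField y ≫ τ) ≫ E.hom) ⟶ E :=
      Over.homMk ((C.X i).fromSpecResidueField y ≫ τ) rfl
    haveI : ConnectedSpace (Over.mk (((C.X i).fromSpecResidueField y ≫ τ) ≫ E.hom)).left :=
      inferInstanceAs (ConnectedSpace (Spec ((C.X i).residueField y)))
    refine ⟨_, inferInstance, x' ≫ v, ?_, ?_⟩
    · obtain ⟨t₀⟩ : Nonempty (Spec ((C.X i).residueField y)) := inferInstance
      refine ⟨t₀, ?_⟩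
      change (((C.X i).fromSpecResidueField y ≫ τ) ≫ v.left).base t₀ = p
      rw [Category.assoc, hτ', Scheme.Hom.comp_apply, Scheme.fromSpecResidueField_apply, hy]
    · intro n
      refine ⟨(x' ^ n) ≫ v, ?_⟩
      have e1 : ((x' ^ n) ≫ v) ≫ δ' = (x' ^ n) ≫ δ := by
        rw [← hδ']
        exact Category.assoc _ _ _
      have e2 : (x' ≫ v) ≫ δ' = x' ≫ δ := by
        rw [← hδ']
        exact Category.assoc _ _ _
      rw [e1, e2, hδpow]
  rw [← hδ, ← hδ', hδ'1, MonObj.comp_one, MonObj.one_comp u, _root_.mul_one]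

end Groth.Agent.Lib.Helper10.ExtRigid
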