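import Mathlib
import Groth.Agent.Lib.Helper10.FEtGraph

/-!
# Connected fibres and clopen subsets (helper10)

Tools for the "graph trick" when the base change map `π` is not a homeomorphism but has
connected fibres:

* `preimage_image_eq_of_isClopen`: a clopen subset is saturated for a map with preconnected fibres.
* `exists_geom_point`: for `W` integral over `Spec k` and `K` algebraically closed over `k`,
  every point of `W` is the image of a `k`-morphism `Spec K ⟶ W`.
* `isPreconnected_fiber`: fibres of `W ×ₖ X ⟶ W` over such points are preconnected when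
  `X_K` is connected.
-/

set_option autoImplicit false

universe u

open AlgebraicGeometry CategoryTheory CategoryTheory.Limits

namespace Groth.Agent.Lib.Helper10.FEtConn

/-- A clopen subset is saturated with respect to a map with preconnected fibres. -/
theorem preimage_image_eq_of_isClopen {P W : Type*} [TopologicalSpace P]
    (p : P → W) (hfib : ∀ w, _root_.IsPreconnected (p ⁻¹' {w})) (C : Set P) (hC : IsClopen C) :
    p ⁻¹' (p '' C) = C := by
  apply Set.Subset.antisymm
  · rintro x ⟨c, hc, hcx⟩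
    have h := (hfib (p x)).subset_isClopen hC ⟨c, hcx, hc⟩
    exact h rfl
  · exact Set.subset_preimage_image p C

/-- Fibres of `P = W ×ₖ X ⟶ W` over a point hit by a `K`-point are preconnected when `X_K` is
connected. -/
theorem isPreconnected_fiber {k : Type u} [Field k] {K : Type u} [Field K] [Algebra k K]
    {X W P : Scheme.{u}}
    (f : X ⟶ Spec (CommRingCat.of k)) (gW : W ⟶ Spec (CommRingCat.of k)) (p : P ⟶ W) (q : P ⟶ X)
    (h : IsPullback p q gW f)
    [ConnectedSpace ↥(pullback f (Spec.map (CommRingCat.ofHom (algebraMap k K))))]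
    (w : W) (j : Spec (CommRingCat.of K) ⟶ W)
    (hj : j ≫ gW = Spec.map (CommRingCat.ofHom (algebraMap k K)))
    (hw : Set.range j = {w}) : _root_.IsPreconnected (p ⁻¹' {w}) := by
  have h1 : Set.range (pullback.fst p j) = p ⁻¹' Set.range j := Scheme.Pullback.range_fst p j
  rw [← hw, ← h1]
  have h2 : IsPullback (pullback.fst p j ≫ q) (pullback.snd p j) f (j ≫ gW) :=
    (IsPullback.of_hasPullback p j).paste_horiz h.flip
  rw [hj] at h2
  let e : pullback p j ≅ pullback f (Spec.map (CommRingCat.ofHom (algebraMap k K))) :=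
    h2.isoPullback
  haveI : ConnectedSpace ↥(pullback p j) :=
    (e.inv.homeomorph).surjective.connectedSpace (e.inv.homeomorph).continuous
  exact isPreconnected_range (pullback.fst p j).continuous

/-- Every point of a scheme integral over a field `k` is the image of a `K`-point over `k`, for
`K` an algebraically closed extension of `k`. -/
theorem exists_geom_point {k : Type u} [Field k] {K : Type u} [Field K] [Algebra k K]
    [IsAlgClosed K] {W : Scheme.{u}} (gW : W ⟶ Spec (CommRingCat.of k)) [IsIntegralHom gW]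
    (w : W) :
    ∃ j : Spec (CommRingCat.of K) ⟶ W,
      j ≫ gW = Spec.map (CommRingCat.ofHom (algebraMap k K)) ∧ Set.range j = {w} := by
  haveI : IsAffine W := isAffine_of_isAffineHom gW
  let ψ : CommRingCat.of k ⟶ Γ(W, ⊤) := (Scheme.ΓSpecIso (CommRingCat.of k)).inv ≫ gW.appTop
  have hg : gW = W.isoSpec.hom ≫ Spec.map ψ := by
    have h1 := Scheme.toSpecΓ_naturality gW
    have h2 : (Spec (CommRingCat.of k)).toSpecΓ = Spec.map (Scheme.ΓSpecIso (CommRingCat.of k)).hom :=
      (SpecMap_ΓSpecIso_hom _).symm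
    rw [Scheme.isoSpec_hom, Spec.map_comp, ← Category.assoc, ← h1, h2, Category.assoc,
      ← Spec.map_comp, Iso.inv_hom_id, Spec.map_id, Category.comp_id]
  have hint : ψ.hom.IsIntegral := by
    rw [← IsIntegralHom.SpecMap_iff]
    have : IsIntegralHom (W.isoSpec.hom ≫ Spec.map ψ) := hg ▸ inferInstance
    exact (MorphismProperty.cancel_left_of_respectsIso @IsIntegralHom W.isoSpec.hom _).mp this
  algebraize [ψ.hom]
  let 𝔭 : Ideal Γ(W, ⊤) := (W.isoSpec.hom w).asIdeal
  haveI h𝔭 : 𝔭.IsPrime := (W.isoSpec.hom w).isPrime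
  haveI hmax : 𝔭.IsMaximal := by
    apply Ideal.isMaximal_of_isIntegral_of_isMaximal_comap (R := k) 𝔭
    have : (𝔭.comap (algebraMap k Γ(W, ⊤))) = ⊥ := Ideal.eq_bot_of_prime _
    rw [this]
    exact Ideal.bot_isMaximal
  letI : Field (Γ(W, ⊤) ⧸ 𝔭) := Ideal.Quotient.field 𝔭
  haveI : Algebra.IsAlgebraic k (Γ(W, ⊤) ⧸ 𝔭) := by
    haveI : Algebra.IsIntegral k (Γ(W, ⊤) ⧸ 𝔭) :=
      Algebra.IsIntegral.of_surjective (Ideal.Quotient.mkₐ k 𝔭) (Ideal.Quotient.mkₐ_surjective k 𝔭)
    exact Algebra.IsIntegral.isAlgebraic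
  let l : (Γ(W, ⊤) ⧸ 𝔭) →ₐ[k] K := IsAlgClosed.lift
  let φ : Γ(W, ⊤) →+* K := l.toRingHom.comp (Ideal.Quotient.mk 𝔭)
  have hker : ∀ x, φ x = 0 ↔ x ∈ 𝔭 := by
    intro x
    change l (Ideal.Quotient.mk 𝔭 x) = 0 ↔ _
    rw [map_eq_zero_iff l l.toRingHom.injective, Ideal.Quotient.eq_zero_iff_mem]
  refine ⟨Spec.map (CommRingCat.ofHom φ) ≫ W.isoSpec.inv, ?_, ?_⟩
  · rw [hg, Category.assoc, Iso.inv_hom_id_assoc, ← Spec.map_comp]
    congr 1
    ext x
    change l (Ideal.Quotient.mk 𝔭 (algebraMap k Γ(W, ⊤) x)) = algebraMap k K x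
    exact l.commutes x
  · have hall : ∀ z : Spec (CommRingCat.of K),
        (Spec.map (CommRingCat.ofHom φ) ≫ W.isoSpec.inv) z = w := by
      intro z
      have hz : z.asIdeal = ⊥ := Ideal.eq_bot_of_prime _
      have h3 : Spec.map (CommRingCat.ofHom φ) z = W.isoSpec.hom w := by
        apply PrimeSpectrum.ext
        ext x
        rw [Spec.map_apply]
        change φ x ∈ z.asIdeal ↔ x ∈ 𝔭
        rw [hz, Ideal.mem_bot, hker]
      rw [Scheme.Hom.comp_apply, h3, ← Scheme.Hom.comp_apply, Iso.hom_inv_id]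
      rfl
    ext y
    constructor
    · rintro ⟨z, rfl⟩
      exact hall z
    · rintro rfl
      exact ⟨⟨⊥, Ideal.isPrime_bot⟩, hall _⟩

end Groth.Agent.Lib.Helper10.FEtConn
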