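import Mathlib
import Groth.Prelude.Def_FEt
import Groth.Agent.Lib.Helper24.EtaleNormal

set_option autoImplicit false
universe u
open TensorProduct

namespace Groth.Agent.Lib.Helper10.NormalExt

/-- `A` a normal domain with fraction field `K`, `B` étale over `A`, `L = B ⊗_A K`, `C` integral
over `A`. Every `A`-algebra map `C → L` factors through `B`. -/
theorem exists_algHom_of_isPushout (A B K L C : Type u) [CommRing A] [CommRing B] [CommRing K]
    [CommRing L] [CommRing C] [Algebra A B] [Algebra A K] [Algebra B L] [Algebra K L] [Algebra A L]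
    [Algebra A C] [IsScalarTower A B L] [IsScalarTower A K L] [IsDomain A] [IsIntegrallyClosed A]
    [Algebra.Etale A B] [IsFractionRing A K] [Algebra.IsPushout A B K L] [Algebra.IsIntegral A C]
    (ψ : C →ₐ[A] L) :
    Function.Injective (algebraMap B L) ∧ ∃ φ : C →ₐ[A] B, ∀ c, algebraMap B L (φ c) = ψ c := by
  let F := FractionRing A
  let e1 : B ⊗[A] F ≃ₐ[B] B ⊗[A] K :=
    Algebra.TensorProduct.congr (AlgEquiv.refl : B ≃ₐ[B] B) (FractionRing.algEquiv A K)
  let e2 : B ⊗[A] K ≃ₐ[B] L := Algebra.IsPushout.equiv A B K L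
  let e : B ⊗[A] F ≃ₐ[B] L := e1.trans e2
  have hcl : IsIntegrallyClosedIn B (B ⊗[A] F) :=
    Groth.Agent.Lib.Helper24.ENorm.isIntegrallyClosedIn_tensor_fractionRing A B
  have hinj : Function.Injective (algebraMap B L) := by
    have h1 : Function.Injective (algebraMap B (B ⊗[A] F)) := hcl.algebraMap_injective
    have h2 : (algebraMap B L : B → L) = e ∘ algebraMap B (B ⊗[A] F) := by
      funext b
      exact (e.commutes b).symm
    rw [h2]
    exact e.injective.comp h1
  refine ⟨hinj, ?_⟩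
  have hmem : ∀ c, ∃ b, algebraMap B L b = ψ c := by
    intro c
    have h1 : IsIntegral A (ψ c) := (Algebra.IsIntegral.isIntegral c).map ψ
    have h2 : IsIntegral B (ψ c) := h1.tower_top
    have h3 : IsIntegral B (e.symm (ψ c)) := h2.map e.symm
    obtain ⟨b, hb⟩ := hcl.isIntegral_iff.mp h3
    refine ⟨b, ?_⟩
    rw [← e.commutes b, hb, AlgEquiv.apply_symm_apply]
  let ρ : B →ₐ[A] L := IsScalarTower.toAlgHom A B L
  have hρinj : Function.Injective ρ := hinj
  let ψ' : C →ₐ[A] ρ.range := ψ.codRestrict ρ.range (fun c => by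
    obtain ⟨b, hb⟩ := hmem c
    exact ⟨b, hb⟩)
  let φ : C →ₐ[A] B := ((AlgEquiv.ofInjective ρ hρinj).symm : ρ.range ≃ₐ[A] B).toAlgHom.comp ψ'
  refine ⟨φ, fun c => ?_⟩
  have h1 : (AlgEquiv.ofInjective ρ hρinj) (φ c) = ψ' c :=
    (AlgEquiv.ofInjective ρ hρinj).apply_symm_apply (ψ' c)
  have h2 := congrArg Subtype.val h1
  rw [AlgEquiv.ofInjective_apply] at h2
  exact h2

open AlgebraicGeometry CategoryTheory CategoryTheory.Limits TopologicalSpace

section Scheme

variable {X T Y : Scheme.{u}} [IsIntegral X]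

theorem denseRange_fromSpecStalk_genericPoint :
    DenseRange (X.fromSpecStalk (genericPoint X)) := by
  have h1 : Dense ({genericPoint X} : Set X) := by
    rw [dense_iff_closure_eq]
    exact (genericPoint_spec X).def
  refine h1.mono ?_
  rintro _ rfl
  exact ⟨_, Scheme.fromSpecStalk_closedPoint⟩

theorem genericPoint_mem_of_mem (W : X.Opens) (x : X) (hx : x ∈ W) : genericPoint X ∈ W :=
  ((genericPoint_spec X).mem_open_set_iff W.isOpen).mpr ⟨x, trivial, hx⟩

/-- Uniqueness: morphisms over `X` from a reduced scheme, open over `X`, to a scheme separated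
over `X` agreeing on the generic fibre are equal. -/
theorem hom_ext_of_generic (p : T ⟶ X) (q : Y ⟶ X) [IsSeparated q] {P : Scheme.{u}} [IsReduced P]
    (c : P ⟶ T) (hc : IsOpenMap (c ≫ p))
    (a b : P ⟶ Y) (hab : a ≫ q = b ≫ q)
    (h : pullback.snd (pullback.fst p (X.fromSpecStalk (genericPoint X))) c ≫ a =
      pullback.snd (pullback.fst p (X.fromSpecStalk (genericPoint X))) c ≫ b) : a = b := by
  have hdom : IsDominant (pullback.snd (pullback.fst p (X.fromSpecStalk (genericPoint X))) c) := by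
    constructor
    show Dense (Set.range (pullback.snd (pullback.fst p (X.fromSpecStalk (genericPoint X))) c))
    rw [Scheme.Pullback.range_snd, Scheme.Pullback.range_fst]
    have := (denseRange_fromSpecStalk_genericPoint (X := X)).preimage hc
    exact this
  exact ext_of_isDominant_of_isSeparated q hab
    (pullback.snd (pullback.fst p (X.fromSpecStalk (genericPoint X))) c) h

/-- The map on sections induced by `Spec K(X) ⟶ X`. -/
theorem fromSpecStalk_appLE_top (W : X.Opens) (hη : genericPoint X ∈ W)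
    (e : (⊤ : (Spec (X.presheaf.stalk (genericPoint X))).Opens) ≤
      (X.fromSpecStalk (genericPoint X)) ⁻¹ᵁ W) :
    (X.fromSpecStalk (genericPoint X)).appLE W ⊤ e =
      X.presheaf.germ W (genericPoint X) hη ≫
        (Scheme.ΓSpecIso (X.presheaf.stalk (genericPoint X))).inv := by
  rw [Scheme.Hom.appLE, Scheme.fromSpecStalk_app hη, Category.assoc, Category.assoc,
    ← CategoryTheory.Functor.map_comp]
  have : (homOfLE le_top : (X.fromSpecStalk (genericPoint X)) ⁻¹ᵁ W ⟶ ⊤).op ≫ (homOfLE e).op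
      = 𝟙 _ := rfl
  rw [this, CategoryTheory.Functor.map_id, Category.comp_id]

theorem top_le_preimage_fromSpecStalk (W : X.Opens) (hη : genericPoint X ∈ W) :
    (⊤ : (Spec (X.presheaf.stalk (genericPoint X))).Opens) ≤
      (X.fromSpecStalk (genericPoint X)) ⁻¹ᵁ W := by
  intro z _
  have hz : (X.fromSpecStalk (genericPoint X)) z ∈ Set.range (X.fromSpecStalk (genericPoint X)) :=
    ⟨z, rfl⟩
  rw [Scheme.range_fromSpecStalk] at hz
  exact hz.mem_open W.isOpen hη

/-- `Γ(Spec K(X), ⊤)` is the fraction field of `Γ(X, W)` for `W` a nonempty affine open. -/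
theorem isFractionRing_fromSpecStalk (W : X.Opens) (hW : IsAffineOpen W)
    (hη : genericPoint X ∈ W)
    (e : (⊤ : (Spec (X.presheaf.stalk (genericPoint X))).Opens) ≤
      (X.fromSpecStalk (genericPoint X)) ⁻¹ᵁ W) :
    letI : Algebra Γ(X, W) Γ(Spec (X.presheaf.stalk (genericPoint X)), ⊤) :=
      ((X.fromSpecStalk (genericPoint X)).appLE W ⊤ e).hom.toAlgebra
    IsFractionRing Γ(X, W) Γ(Spec (X.presheaf.stalk (genericPoint X)), ⊤) := by
  letI : Algebra Γ(X, W) Γ(Spec (X.presheaf.stalk (genericPoint X)), ⊤) :=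
      ((X.fromSpecStalk (genericPoint X)).appLE W ⊤ e).hom.toAlgebra
  haveI : Nonempty W := ⟨⟨_, hη⟩⟩
  have hfr : IsFractionRing Γ(X, W) X.functionField :=
    functionField_isFractionRing_of_isAffineOpen X W hW
  let ε : X.functionField ≃ₐ[Γ(X, W)] Γ(Spec (X.presheaf.stalk (genericPoint X)), ⊤) :=
    { (Scheme.ΓSpecIso (X.presheaf.stalk (genericPoint X))).symm.commRingCatIsoToRingEquiv with
      commutes' := fun a => by
        have h := fromSpecStalk_appLE_top W hη e
        have h2 := congrArg (fun f => f.hom a) h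
        exact h2.symm }
  exact IsLocalization.isLocalization_of_algEquiv (nonZeroDivisors Γ(X, W)) ε


/-- Local existence of the extension over an affine open `W` of `X` containing the generic point. -/
theorem exists_local_extension (hX : ∀ x : X, IsIntegrallyClosed (X.presheaf.stalk x))
    (p : T ⟶ X) [IsFinite p] [Etale p] (q : Y ⟶ X) [IsFinite q]
    (W : X.Opens) (hW : IsAffineOpen W) (hη : genericPoint X ∈ W)
    (g : pullback p (X.fromSpecStalk (genericPoint X)) ⟶ Y)
    (hg : g ≫ q = pullback.fst p (X.fromSpecStalk (genericPoint X)) ≫ p) :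
    ∃ h : (p ⁻¹ᵁ W).toScheme ⟶ Y, h ≫ q = (p ⁻¹ᵁ W).ι ≫ p ∧
      ∀ (Q : Scheme.{u}) (a : Q ⟶ (p ⁻¹ᵁ W).toScheme)
        (b : Q ⟶ pullback p (X.fromSpecStalk (genericPoint X))),
        a ≫ (p ⁻¹ᵁ W).ι = b ≫ pullback.fst p (X.fromSpecStalk (genericPoint X)) →
        a ≫ h = b ≫ g := by
  let k := X.fromSpecStalk (genericPoint X)
  let j := pullback.fst p k
  let s := pullback.snd p k
  have hg' : g ≫ q = j ≫ p := hg
  have hNe : Nonempty W := ⟨⟨_, hη⟩⟩
  set O : T.Opens := p ⁻¹ᵁ W with hOdef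
  have hO : IsAffineOpen O := hW.preimage p
  set YW : Y.Opens := q ⁻¹ᵁ W with hYWdef
  have hYW : IsAffineOpen YW := hW.preimage q
  set OK : (pullback p k).Opens := j ⁻¹ᵁ O with hOKdef
  have ek : (⊤ : (Spec (X.presheaf.stalk (genericPoint X))).Opens) ≤ k ⁻¹ᵁ W :=
    top_le_preimage_fromSpecStalk W hη
  have eg : OK ≤ g ⁻¹ᵁ YW := by
    rw [hOKdef, hOdef, hYWdef, ← Scheme.Hom.comp_preimage, ← Scheme.Hom.comp_preimage, hg']
  have es : OK ≤ s ⁻¹ᵁ ⊤ := le_top
  -- the ring maps
  let αB : Γ(X, W) ⟶ Γ(T, O) := p.appLE W O le_rfl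
  let αK : Γ(X, W) ⟶ Γ(Spec (X.presheaf.stalk (genericPoint X)), ⊤) := k.appLE W ⊤ ek
  let βL : Γ(T, O) ⟶ Γ(pullback p k, OK) := j.appLE O OK le_rfl
  let κL : Γ(Spec (X.presheaf.stalk (genericPoint X)), ⊤) ⟶ Γ(pullback p k, OK) := s.appLE ⊤ OK es
  let αC : Γ(X, W) ⟶ Γ(Y, YW) := q.appLE W YW le_rfl
  let ψ0 : Γ(Y, YW) ⟶ Γ(pullback p k, OK) := g.appLE YW OK eg
  have c1 : αB ≫ βL = αK ≫ κL := by
    simp only [αB, βL, αK, κL, Scheme.Hom.appLE_comp_appLE]
    congr 1
    exact pullback.condition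
  have c2 : αC ≫ ψ0 = αB ≫ βL := by
    simp only [αB, βL, αC, ψ0, Scheme.Hom.appLE_comp_appLE]
    congr 1
  -- the pushout square
  have H : IsPullback j s p k := IsPullback.of_hasPullback p k
  have hUY : OK = j ⁻¹ᵁ O ⊓ s ⁻¹ᵁ ⊤ := by
    rw [hOKdef]; simp
  have hiso : IsIso (pushoutSection H ek (le_refl O) hUY) :=
    isIso_pushoutSection_of_isAffineOpen H ek (le_refl O) hUY hW (isAffineOpen_top _) hO
  have hPO := (isIso_pushoutSection_iff H ek (le_refl O) hUY).mp hiso
  -- algebra structures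
  letI : Algebra Γ(X, W) Γ(T, O) := αB.hom.toAlgebra
  letI : Algebra Γ(X, W) Γ(Spec (X.presheaf.stalk (genericPoint X)), ⊤) := αK.hom.toAlgebra
  letI : Algebra Γ(T, O) Γ(pullback p k, OK) := βL.hom.toAlgebra
  letI : Algebra Γ(Spec (X.presheaf.stalk (genericPoint X)), ⊤) Γ(pullback p k, OK) :=
    κL.hom.toAlgebra
  letI : Algebra Γ(X, W) Γ(pullback p k, OK) := (αB ≫ βL).hom.toAlgebra
  letI : Algebra Γ(X, W) Γ(Y, YW) := αC.hom.toAlgebra
  haveI : IsScalarTower Γ(X, W) Γ(T, O) Γ(pullback p k, OK) := .of_algebraMap_eq' rfl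
  haveI : IsScalarTower Γ(X, W) Γ(Spec (X.presheaf.stalk (genericPoint X)), ⊤)
      Γ(pullback p k, OK) := .of_algebraMap_eq' (congrArg CommRingCat.Hom.hom c1)
  haveI : IsIntegrallyClosed Γ(X, W) :=
    Groth.Agent.Lib.Helper24.ENorm.isIntegrallyClosed_of_isAffineOpen hX hW
  haveI : Algebra.Etale Γ(X, W) Γ(T, O) := Etale.etale_appLE p hW hO le_rfl
  haveI : IsFractionRing Γ(X, W) Γ(Spec (X.presheaf.stalk (genericPoint X)), ⊤) :=
    isFractionRing_fromSpecStalk W hW hη ek
  haveI : Algebra.IsPushout Γ(X, W) Γ(T, O) Γ(Spec (X.presheaf.stalk (genericPoint X)), ⊤)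
      Γ(pullback p k, OK) := CommRingCat.isPushout_iff_isPushout.mp hPO
  haveI : Algebra.IsIntegral Γ(X, W) Γ(Y, YW) := by
    have hfin : (q.app W).hom.Finite := IsFinite.finite_app q W hW
    have hfin' : αC.hom.Finite := by
      have : αC = q.app W := (Scheme.Hom.app_eq_appLE q).symm
      rw [this]; exact hfin
    haveI : Module.Finite Γ(X, W) Γ(Y, YW) := hfin'
    exact Algebra.IsIntegral.of_finite _ _
  let ψ : Γ(Y, YW) →ₐ[Γ(X, W)] Γ(pullback p k, OK) :=
    { ψ0.hom with
      commutes' := fun a => congrArg (fun f => f.hom a) c2 }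
  obtain ⟨hinj, φ, hφ⟩ := exists_algHom_of_isPushout Γ(X, W) Γ(T, O)
    Γ(Spec (X.presheaf.stalk (genericPoint X)), ⊤) Γ(pullback p k, OK) Γ(Y, YW) ψ
  let φ0 : Γ(Y, YW) ⟶ Γ(T, O) := CommRingCat.ofHom φ.toRingHom
  have f1 : φ0 ≫ βL = ψ0 := by
    ext c
    exact hφ c
  have f2 : αC ≫ φ0 = αB := by
    ext a
    exact φ.commutes a
  -- the morphism
  refine ⟨O.toSpecΓ ≫ Spec.map φ0 ≫ hYW.fromSpec, ?_, ?_⟩
  · have e1 : hYW.fromSpec ≫ q = Spec.map αC ≫ hW.fromSpec :=
      (IsAffineOpen.SpecMap_appLE_fromSpec q hW hYW le_rfl).symm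
    have e2 : hO.fromSpec ≫ p = Spec.map αB ≫ hW.fromSpec :=
      (IsAffineOpen.SpecMap_appLE_fromSpec p hW hO le_rfl).symm
    rw [Category.assoc, Category.assoc, e1, ← Spec.map_comp_assoc, f2, ← e2,
      IsAffineOpen.toSpecΓ_fromSpec_assoc]
  · have key : j.resLE O OK le_rfl ≫ (O.toSpecΓ ≫ Spec.map φ0 ≫ hYW.fromSpec) = OK.ι ≫ g := by
      rw [← Scheme.Opens.toSpecΓ_SpecMap_appLE_assoc, ← Spec.map_comp_assoc]
      change OK.toSpecΓ ≫ Spec.map (φ0 ≫ βL) ≫ hYW.fromSpec = OK.ι ≫ g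
      rw [f1]
      change OK.toSpecΓ ≫ Spec.map (g.appLE YW OK eg) ≫ hYW.fromSpec = OK.ι ≫ g
      rw [Scheme.Opens.toSpecΓ_SpecMap_appLE_assoc, IsAffineOpen.toSpecΓ_fromSpec,
        Scheme.Hom.resLE_comp_ι]
    intro Q a b hab
    have hrange : Set.range b ⊆ Set.range OK.ι := by
      rintro _ ⟨z, rfl⟩
      rw [Scheme.Opens.range_ι]
      show j (b z) ∈ O
      have : j (b z) = O.ι (a z) := by
        rw [← Scheme.Hom.comp_apply, ← Scheme.Hom.comp_apply, hab]
      rw [this]
      exact (a z).2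
    let m : Q ⟶ OK.toScheme := IsOpenImmersion.lift OK.ι b hrange
    have hm1 : m ≫ OK.ι = b := IsOpenImmersion.lift_fac _ _ _
    have hm2 : m ≫ j.resLE O OK le_rfl = a := by
      rw [← cancel_mono O.ι, Category.assoc, Scheme.Hom.resLE_comp_ι, ← Category.assoc, hm1, hab]
    rw [← hm2, Category.assoc, key, ← Category.assoc, hm1]


theorem isReduced_of_etale_of_normal (hX : ∀ x : X, IsIntegrallyClosed (X.presheaf.stalk x))
    (p : T ⟶ X) [Etale p] : IsReduced T := by
  haveI : ∀ t : T, _root_.IsReduced (T.presheaf.stalk t) := fun t => by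
    haveI := (Groth.Agent.Lib.Helper24.ENorm.stalk_of_etale hX p t).1
    infer_instance
  exact isReduced_of_isReduced_stalk T

/-- Extension from the generic fibre: `X` normal integral, `T` finite étale over `X`, `Y` finite
over `X`. Any `X`-morphism from the generic fibre of `T` to `Y` extends to `T`. -/
theorem exists_extend_of_generic (hX : ∀ x : X, IsIntegrallyClosed (X.presheaf.stalk x))
    (p : T ⟶ X) [IsFinite p] [Etale p] (q : Y ⟶ X) [IsFinite q]
    (g : pullback p (X.fromSpecStalk (genericPoint X)) ⟶ Y)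
    (hg : g ≫ q = pullback.fst p (X.fromSpecStalk (genericPoint X)) ≫ p) :
    ∃ g' : T ⟶ Y, pullback.fst p (X.fromSpecStalk (genericPoint X)) ≫ g' = g ∧ g' ≫ q = p := by
  haveI hTred : IsReduced T := isReduced_of_etale_of_normal hX p
  let I := {W : X.Opens // IsAffineOpen W ∧ genericPoint X ∈ W}
  let U : I → T.Opens := fun W => p ⁻¹ᵁ W.1
  have hU : IsOpenCover U := by
    refine eq_top_iff.mpr ?_
    intro t _
    obtain ⟨_, ⟨W, hW : IsAffineOpen W, rfl⟩, hpt, -⟩ :=
      X.isBasis_affineOpens.exists_subset_of_mem_open (Set.mem_univ (p t)) isOpen_univ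
    exact Opens.mem_iSup.mpr ⟨⟨W, hW, genericPoint_mem_of_mem W (p t) hpt⟩, hpt⟩
  choose h hh1 hh2 using fun W : I => exists_local_extension hX p q W.1 W.2.1 W.2.2 g hg
  let 𝒰 : T.OpenCover := T.openCoverOfIsOpenCover U hU
  have hcompat : ∀ x y : 𝒰.I₀, pullback.fst (𝒰.f x) (𝒰.f y) ≫ h x = pullback.snd _ _ ≫ h y := by
    intro x y
    change pullback.fst (U x).ι (U y).ι ≫ h x = pullback.snd (U x).ι (U y).ι ≫ h y
    haveI : IsReduced (pullback (U x).ι (U y).ι) :=
      isReduced_of_isOpenImmersion (pullback.fst (U x).ι (U y).ι ≫ (U x).ι)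
    refine hom_ext_of_generic p q (pullback.fst (U x).ι (U y).ι ≫ (U x).ι)
      (Scheme.Hom.isOpenMap _) _ _ ?_ ?_
    · rw [Category.assoc, Category.assoc, hh1 x, hh1 y, pullback.condition_assoc]
    · rw [← Category.assoc, ← Category.assoc]
      rw [hh2 x _ (pullback.snd _ _ ≫ pullback.fst (U x).ι (U y).ι) (pullback.fst _ _) (by
        rw [Category.assoc]; exact pullback.condition.symm)]
      rw [hh2 y _ (pullback.snd _ _ ≫ pullback.snd (U x).ι (U y).ι) (pullback.fst _ _) (by
        rw [Category.assoc, ← pullback.condition]; exact pullback.condition.symm)]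
  let g' : T ⟶ Y := 𝒰.glueMorphisms h hcompat
  have hg'f : ∀ W : I, (U W).ι ≫ g' = h W := fun W => 𝒰.ι_glueMorphisms h hcompat W
  refine ⟨g', ?_, ?_⟩
  · apply Scheme.Cover.hom_ext
      (Precoverage.ZeroHypercover.pullback₁ (pullback.fst p (X.fromSpecStalk (genericPoint X))) 𝒰)
    intro W
    change pullback.fst (pullback.fst p (X.fromSpecStalk (genericPoint X))) (U W).ι ≫
      pullback.fst p (X.fromSpecStalk (genericPoint X)) ≫ g' =
      pullback.fst (pullback.fst p (X.fromSpecStalk (genericPoint X))) (U W).ι ≫ g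
    rw [pullback.condition_assoc, hg'f W]
    exact hh2 W _ _ _ pullback.condition.symm
  · apply Scheme.Cover.hom_ext 𝒰
    intro W
    change (U W).ι ≫ g' ≫ q = (U W).ι ≫ p
    rw [← Category.assoc, hg'f W, hh1 W]


/-- Extension from a nonempty open: `X` normal integral, `T` finite étale over `X`, `Y` finite
over `X`. Any `X`-morphism from `T|_U` to `Y` extends to `T`. -/
theorem exists_extend_of_open (hX : ∀ x : X, IsIntegrallyClosed (X.presheaf.stalk x))
    (p : T ⟶ X) [IsFinite p] [Etale p] (q : Y ⟶ X) [IsFinite q]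
    (U : X.Opens) (hU : (U : Set X).Nonempty)
    (ψ : pullback p U.ι ⟶ Y) (hψ : ψ ≫ q = pullback.fst p U.ι ≫ p) :
    ∃ g' : T ⟶ Y, pullback.fst p U.ι ≫ g' = ψ ∧ g' ≫ q = p := by
  haveI hTred : IsReduced T := isReduced_of_etale_of_normal hX p
  obtain ⟨x, hx⟩ := hU
  have hη : genericPoint X ∈ U := genericPoint_mem_of_mem U x hx
  let kU := U.fromSpecStalkOfMem (genericPoint X) hη
  have hkU : kU ≫ U.ι = X.fromSpecStalk (genericPoint X) := U.fromSpecStalkOfMem_ι _ hη
  let m : pullback p (X.fromSpecStalk (genericPoint X)) ⟶ pullback p U.ι :=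
    pullback.lift (pullback.fst p _) (pullback.snd p _ ≫ kU) (by
      rw [Category.assoc, hkU]; exact pullback.condition)
  have hm1 : m ≫ pullback.fst p U.ι = pullback.fst p _ := pullback.lift_fst _ _ _
  have hm2 : m ≫ pullback.snd p U.ι = pullback.snd p _ ≫ kU := pullback.lift_snd _ _ _
  obtain ⟨g', hg'1, hg'2⟩ := exists_extend_of_generic hX p q (m ≫ ψ) (by
    rw [Category.assoc, hψ, ← Category.assoc, hm1])
  refine ⟨g', ?_, hg'2⟩
  haveI : IsReduced (pullback p U.ι) := isReduced_of_isOpenImmersion (pullback.fst p U.ι)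
  refine hom_ext_of_generic p q (pullback.fst p U.ι) (Scheme.Hom.isOpenMap _) _ _ ?_ ?_
  · rw [Category.assoc, hg'2, hψ]
  · have hfac : pullback.fst (pullback.fst p (X.fromSpecStalk (genericPoint X)))
        (pullback.fst p U.ι) ≫ m = pullback.snd _ _ := by
      apply pullback.hom_ext
      · rw [Category.assoc, hm1]; exact pullback.condition
      · have hc : pullback.snd p U.ι ≫ U.ι = pullback.fst p U.ι ≫ p :=
          (pullback.condition (f := p) (g := U.ι)).symm
        rw [← cancel_mono U.ι]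
        calc ((pullback.fst _ _ ≫ m) ≫ pullback.snd p U.ι) ≫ U.ι
            = pullback.fst _ _ ≫ (m ≫ pullback.fst p U.ι) ≫ p := by
              simp only [Category.assoc, hc]
          _ = pullback.snd _ _ ≫ pullback.fst p U.ι ≫ p := by
              rw [hm1, ← Category.assoc, pullback.condition, Category.assoc]
          _ = (pullback.snd _ _ ≫ pullback.snd p U.ι) ≫ U.ι := by
              simp only [Category.assoc, hc]
    rw [← Category.assoc, ← pullback.condition, Category.assoc, hg'1, ← Category.assoc, hfac]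

end Scheme

section Full

variable {X Z : Scheme.{u}}

set_option backward.isDefEq.respectTransparency.types false in
/-- A criterion for fullness of `FEt.restrict f`. -/
theorem full_of_extend (f : Z ⟶ X)
    (H : ∀ (Y₁ Y₂ : FEt.Cat X) (ψ : pullback Y₁.hom f ⟶ pullback Y₂.hom f),
      ψ ≫ pullback.snd Y₂.hom f = pullback.snd Y₁.hom f →
      ∃ g' : Y₁.left ⟶ Y₂.left, g' ≫ Y₂.hom = Y₁.hom ∧
        pullback.fst Y₁.hom f ≫ g' = ψ ≫ pullback.fst Y₂.hom f) :
    (FEt.restrict f).Full := by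
  refine ⟨fun {Y₁ Y₂} ψ => ?_⟩
  have hψ : ψ.left ≫ pullback.snd Y₂.hom f = pullback.snd Y₁.hom f := Over.w ψ.hom
  obtain ⟨g', hg2, hg1⟩ := H Y₁ Y₂ ψ.left hψ
  let φ : Y₁ ⟶ Y₂ := MorphismProperty.Over.homMk g' hg2 trivial
  have hφ : φ.left = g' := rfl
  have e1 : ((FEt.restrict f).map φ).left ≫ pullback.fst Y₂.hom f =
      pullback.fst Y₁.hom f ≫ φ.left := by
    dsimp [FEt.restrict]
    exact pullback.lift_fst _ _ _
  have e2 : ((FEt.restrict f).map φ).left ≫ pullback.snd Y₂.hom f =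
      pullback.snd Y₁.hom f := by
    dsimp [FEt.restrict]
    exact pullback.lift_snd _ _ _
  refine ⟨φ, ?_⟩
  apply MorphismProperty.Over.Hom.ext
  apply pullback.hom_ext
  · exact e1.trans (hφ ▸ hg1)
  · exact e2.trans hψ.symm

end Full


end Groth.Agent.Lib.Helper10.NormalExt
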