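import Mathlib
import Groth.Prelude.Def_FEt
import Groth.Agent.Lib.Helper10.FEtGraph
import Groth.Agent.Lib.Helper10.FEtConn
import Groth.Agent.Lib.Helper10.NormalExt
import Groth.Agent.S0237

/-!
# Full faithfulness of `FEt.restrict f` for universally open surjective `f` with connected fibres
(helper10)
-/

set_option autoImplicit false

universe u

open AlgebraicGeometry CategoryTheory CategoryTheory.Limits

namespace Groth.Agent.Lib.Helper10.FEtConn2

/-- Fibres of a base change of `f` are preconnected when all geometric fibres of `f` are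
connected. -/
theorem isPreconnected_fiber_of_geomFibres {X S W P : Scheme.{u}} (f : X ⟶ S) (gW : W ⟶ S)
    (p : P ⟶ W) (q : P ⟶ X) (h : IsPullback p q gW f)
    (hfib : ∀ (Ω : Type u) [Field Ω] [IsAlgClosed Ω] (s : Spec (CommRingCat.of Ω) ⟶ S),
      ConnectedSpace ↥(pullback f s))
    (w : W) : _root_.IsPreconnected (p ⁻¹' {w}) := by
  let Ω : Type u := AlgebraicClosure (W.residueField w)
  let j : Spec (CommRingCat.of Ω) ⟶ W :=
    Spec.map (CommRingCat.ofHom (algebraMap (W.residueField w) Ω)) ≫ W.fromSpecResidueField w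
  have hw : Set.range j = {w} := by
    ext y
    constructor
    · rintro ⟨z, rfl⟩
      have : (W.fromSpecResidueField w)
          ((Spec.map (CommRingCat.ofHom (algebraMap (W.residueField w) Ω))) z) ∈
          Set.range (W.fromSpecResidueField w) := ⟨_, rfl⟩
      rw [Scheme.range_fromSpecResidueField] at this
      exact this
    · rintro rfl
      have hne : Nonempty ↥(Spec (CommRingCat.of Ω)) := inferInstance
      obtain ⟨z⟩ := hne
      refine ⟨z, ?_⟩
      have : (W.fromSpecResidueField y)
          ((Spec.map (CommRingCat.ofHom (algebraMap (W.residueField y) Ω))) z) ∈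
          Set.range (W.fromSpecResidueField y) := ⟨_, rfl⟩
      rw [Scheme.range_fromSpecResidueField] at this
      exact this
  have h1 : Set.range (pullback.fst p j) = p ⁻¹' Set.range j := Scheme.Pullback.range_fst p j
  rw [← hw, ← h1]
  have h2 : IsPullback (pullback.fst p j ≫ q) (pullback.snd p j) f (j ≫ gW) :=
    (IsPullback.of_hasPullback p j).paste_horiz h.flip
  let e : pullback p j ≅ pullback f (j ≫ gW) := h2.isoPullback
  haveI := hfib Ω (j ≫ gW)
  haveI : ConnectedSpace ↥(pullback p j) :=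
    (e.inv.homeomorph).surjective.connectedSpace (e.inv.homeomorph).continuous
  exact isPreconnected_range (pullback.fst p j).continuous

/-- If `f` is surjective, universally open and all its base changes have preconnected fibres,
then pulling back finite étale covers along `f` is fully faithful. -/
theorem fullyFaithful_of_connected_fibres {X S : Scheme.{u}} (f : X ⟶ S) [UniversallyOpen f]
    [Surjective f]
    (hfib : ∀ {W P : Scheme.{u}} (gW : W ⟶ S) (p : P ⟶ W) (q : P ⟶ X), IsPullback p q gW f →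
      ∀ w, _root_.IsPreconnected (p ⁻¹' {w})) :
    (FEt.restrict f).Full ∧ (FEt.restrict f).Faithful := by
  refine ⟨?_, Groth.Agent.S0237.result f (fun y => by
    rw [(Set.range_eq_univ.mpr f.surjective), closure_univ]; trivial)⟩
  apply Groth.Agent.Lib.Helper10.NormalExt.full_of_extend
  intro Y₁ Y₂ ψ hψ
  haveI : Etale Y₂.hom := Y₂.prop.2
  haveI : IsFinite Y₂.hom := Y₂.prop.1
  haveI : IsFinite Y₁.hom := Y₁.prop.1
  let γ : pullback Y₁.hom f ⟶ pullback Y₁.hom Y₂.hom :=
    pullback.lift (pullback.fst Y₁.hom f) (ψ ≫ pullback.fst Y₂.hom f) (by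
        rw [Category.assoc, pullback.condition (f := Y₂.hom) (g := f),
          ← Category.assoc, hψ, pullback.condition])
  have hγ : γ ≫ pullback.fst Y₁.hom Y₂.hom = pullback.fst Y₁.hom f := pullback.lift_fst _ _ _
  have hγ2 : γ ≫ pullback.snd Y₁.hom Y₂.hom = ψ ≫ pullback.fst Y₂.hom f :=
    pullback.lift_snd _ _ _
  have hs' : (pullback.lift γ (𝟙 _) (by rw [hγ, Category.id_comp]) :
      pullback Y₁.hom f ⟶ pullback (pullback.fst Y₁.hom Y₂.hom) (pullback.fst Y₁.hom f)) ≫
      pullback.snd _ _ = 𝟙 _ := pullback.lift_snd _ _ _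
  haveI hoi := Groth.Agent.Lib.Helper10.FEtGraph.isOpenImmersion_of_section _ _ hs'
  haveI hci : IsClosedImmersion (pullback.lift γ (𝟙 _) (by rw [hγ, Category.id_comp]) :
      pullback Y₁.hom f ⟶ pullback (pullback.fst Y₁.hom Y₂.hom) (pullback.fst Y₁.hom f)) := by
    haveI : IsClosedImmersion ((pullback.lift γ (𝟙 _) (by rw [hγ, Category.id_comp]) :
      pullback Y₁.hom f ⟶ pullback (pullback.fst Y₁.hom Y₂.hom) (pullback.fst Y₁.hom f)) ≫
        pullback.snd _ _) := by
      rw [hs']; infer_instance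
    exact IsClosedImmersion.of_comp _ (pullback.snd _ _)
  have hclopen : IsClopen (Set.range (pullback.lift γ (𝟙 _) (by rw [hγ, Category.id_comp]) :
      pullback Y₁.hom f ⟶ pullback (pullback.fst Y₁.hom Y₂.hom) (pullback.fst Y₁.hom f))) :=
    ⟨(Scheme.Hom.isClosedEmbedding _).isClosed_range, (Scheme.Hom.isOpenEmbedding _).isOpen_range⟩
  have hpb : IsPullback
      (pullback.fst (pullback.fst Y₁.hom Y₂.hom) (pullback.fst Y₁.hom f))
      (pullback.snd (pullback.fst Y₁.hom Y₂.hom) (pullback.fst Y₁.hom f) ≫ pullback.snd Y₁.hom f)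
      (pullback.fst Y₁.hom Y₂.hom ≫ Y₁.hom) f :=
    (IsPullback.of_hasPullback (pullback.fst Y₁.hom Y₂.hom) (pullback.fst Y₁.hom f)).paste_vert
      (IsPullback.of_hasPullback Y₁.hom f)
  have hfib' := hfib _ _ _ hpb
  have hopenmap : IsOpenMap (pullback.fst (pullback.fst Y₁.hom Y₂.hom)
      (pullback.fst Y₁.hom f)) := by
    haveI : UniversallyOpen (pullback.fst (pullback.fst Y₁.hom Y₂.hom) (pullback.fst Y₁.hom f)) :=
      MorphismProperty.of_isPullback hpb.flip inferInstance
    exact Scheme.Hom.isOpenMap _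
  obtain ⟨σ, hσ1, hσ2⟩ := Groth.Agent.Lib.Helper10.FEtGraph.exists_section_of_opens Y₁.hom Y₂.hom
    (pullback.fst Y₁.hom f) γ hγ ⟨_, hopenmap _ hclopen.2⟩
    (Groth.Agent.Lib.Helper10.FEtConn.preimage_image_eq_of_isClopen _ hfib' _ hclopen)
  refine ⟨σ ≫ pullback.snd Y₁.hom Y₂.hom, ?_, ?_⟩
  · rw [Category.assoc, ← pullback.condition, ← Category.assoc, hσ1]
    exact Category.id_comp _
  · rw [← Category.assoc, hσ2, hγ2]

end Groth.Agent.Lib.Helper10.FEtConn2
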