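import Mathlib
import Groth.Agent.Lib.Helper10.ProjBC

/-!
# Base change of sections along a finite projective algebra: scheme level (helper10)

For a cartesian square `Y = X ×_S T` with `T ⊇ UT` affine over `US ⊆ S` affine such that
`Γ(T, UT)` has a finite "dual basis" over `Γ(S, US)` (i.e. is finite projective), and with
`Γ(S, US) → Γ(X, iX⁻¹ US)` bijective, the map `Γ(T, UT) → Γ(Y, pr⁻¹ UT)` is bijective.
No finiteness assumption on `X`.
-/

set_option autoImplicit false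

universe u

open AlgebraicGeometry CategoryTheory CategoryTheory.Limits TopologicalSpace Opposite

namespace Groth.Agent.Lib.Helper10.ProjBC

variable {X Y S T : Scheme.{u}} {f : T ⟶ S} {g : Y ⟶ X} {iX : X ⟶ S} {iY : Y ⟶ T}

theorem bijective_appLE_of_dualBasis (H : IsPullback g iY iX f) {US : S.Opens} {UT : T.Opens}
    (hUS : IsAffineOpen US) (hUT : IsAffineOpen UT) (hUST : UT ≤ f ⁻¹ᵁ US)
    {n : ℕ} (b : Fin n → Γ(T, UT)) (φ : Fin n → (Γ(T, UT) →+ Γ(S, US)))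
    (hφ : ∀ i x y, φ i ((f.appLE US UT hUST).hom x * y) = x * φ i y)
    (hdual : ∀ y, y = ∑ i, (f.appLE US UT hUST).hom (φ i y) * b i)
    (hbij : Function.Bijective (iX.app US)) :
    Function.Bijective (iY.appLE UT (g ⁻¹ᵁ (iX ⁻¹ᵁ US) ⊓ iY ⁻¹ᵁ UT) inf_le_right) := by
  -- pushout squares over affine opens of `X`
  have hPO : ∀ (V : X.Opens) (_ : IsAffineOpen V) (hV : V ≤ iX ⁻¹ᵁ US),
      IsPushout (CommRingCat.ofHom (iX.appLE US V hV).hom)
        (CommRingCat.ofHom (f.appLE US UT hUST).hom)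
        (CommRingCat.ofHom (g.appLE V (g ⁻¹ᵁ V ⊓ iY ⁻¹ᵁ UT) inf_le_left).hom)
        (CommRingCat.ofHom (iY.appLE UT (g ⁻¹ᵁ V ⊓ iY ⁻¹ᵁ UT) inf_le_right).hom) :=
    fun V hVa hV => (isIso_pushoutSection_iff H hUST hV rfl).mp
      (isIso_pushoutSection_of_isAffineOpen H hUST hV rfl hUS hUT hVa)
  have hκ : ∀ (V : X.Opens) (_ : IsAffineOpen V) (hV : V ≤ iX ⁻¹ᵁ US) (i : Fin n),
      ∃ κ : Γ(Y, g ⁻¹ᵁ V ⊓ iY ⁻¹ᵁ UT) →+ Γ(X, V), ∀ a y,
        κ ((g.appLE V (g ⁻¹ᵁ V ⊓ iY ⁻¹ᵁ UT) inf_le_left).hom a *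
          (iY.appLE UT (g ⁻¹ᵁ V ⊓ iY ⁻¹ᵁ UT) inf_le_right).hom y) =
        a * (iX.appLE US V hV).hom (φ i y) :=
    fun V hVa hV i => exists_coeff _ _ _ _ (hPO V hVa hV) (φ i) (hφ i)
  choose κ hκ using hκ
  -- restriction lemmas
  have hle : ∀ {V V' : X.Opens}, V' ≤ V → g ⁻¹ᵁ V' ⊓ iY ⁻¹ᵁ UT ≤ g ⁻¹ᵁ V ⊓ iY ⁻¹ᵁ UT :=
    fun h => inf_le_inf ((Opens.map g.base).monotone h) le_rfl
  have r1 : ∀ {V V' : X.Opens} (h : V' ≤ V) (a : Γ(X, V)),
      (Y.presheaf.map (homOfLE (hle h)).op).hom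
        ((g.appLE V (g ⁻¹ᵁ V ⊓ iY ⁻¹ᵁ UT) inf_le_left).hom a) =
      (g.appLE V' (g ⁻¹ᵁ V' ⊓ iY ⁻¹ᵁ UT) inf_le_left).hom
        ((X.presheaf.map (homOfLE h).op).hom a) := by
    intro V V' h a
    rw [← RingHom.comp_apply, ← RingHom.comp_apply, ← CommRingCat.hom_comp,
      ← CommRingCat.hom_comp, Scheme.Hom.appLE_map, Scheme.Hom.map_appLE]
  have r2 : ∀ {V V' : X.Opens} (h : V' ≤ V) (y : Γ(T, UT)),
      (Y.presheaf.map (homOfLE (hle h)).op).hom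
        ((iY.appLE UT (g ⁻¹ᵁ V ⊓ iY ⁻¹ᵁ UT) inf_le_right).hom y) =
      (iY.appLE UT (g ⁻¹ᵁ V' ⊓ iY ⁻¹ᵁ UT) inf_le_right).hom y := by
    intro V V' h y
    rw [← RingHom.comp_apply, ← CommRingCat.hom_comp, Scheme.Hom.appLE_map]
  have r3 : ∀ {V V' : X.Opens} (h : V' ≤ V) (hV : V ≤ iX ⁻¹ᵁ US) (x : Γ(S, US)),
      (X.presheaf.map (homOfLE h).op).hom ((iX.appLE US V hV).hom x) =
      (iX.appLE US V' (h.trans hV)).hom x := by
    intro V V' h hV x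
    rw [← RingHom.comp_apply, ← CommRingCat.hom_comp, Scheme.Hom.appLE_map]
  -- compatibility of the coefficient maps with restriction
  have hcompat : ∀ (V V' : X.Opens) (hVa : IsAffineOpen V) (hVa' : IsAffineOpen V')
      (hV : V ≤ iX ⁻¹ᵁ US) (h : V' ≤ V) (i : Fin n) (c : Γ(Y, g ⁻¹ᵁ V ⊓ iY ⁻¹ᵁ UT)),
      (X.presheaf.map (homOfLE h).op).hom (κ V hVa hV i c) =
        κ V' hVa' (h.trans hV) i ((Y.presheaf.map (homOfLE (hle h)).op).hom c) := by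
    intro V V' hVa hVa' hV h i c
    refine addHom_ext _ _ _ _ (hPO V hVa hV)
      ((X.presheaf.map (homOfLE h).op).hom.toAddMonoidHom.comp (κ V hVa hV i))
      ((κ V' hVa' (h.trans hV) i).comp (Y.presheaf.map (homOfLE (hle h)).op).hom.toAddMonoidHom)
      (fun a y => ?_) c
    show (X.presheaf.map (homOfLE h).op).hom (κ V hVa hV i _) =
      κ V' hVa' (h.trans hV) i ((Y.presheaf.map (homOfLE (hle h)).op).hom _)
    rw [hκ, map_mul, map_mul, r1 h, r2 h, hκ, r3 h hV]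
  -- every point of an open has an affine neighbourhood inside
  have haff : ∀ (O : X.Opens) (x : X), x ∈ O → ∃ V : X.Opens, IsAffineOpen V ∧ x ∈ V ∧ V ≤ O := by
    intro O x hx
    obtain ⟨_, ⟨V, hV, rfl⟩, hxV, hVO⟩ :=
      X.isBasis_affineOpens.exists_subset_of_mem_open hx O.2
    exact ⟨V, hV, hxV, hVO⟩
  have happ : ∀ (V : X.Opens) (hV : V ≤ iX ⁻¹ᵁ US) (x : Γ(S, US)),
      (X.presheaf.map (homOfLE hV).op).hom ((iX.app US).hom x) = (iX.appLE US V hV).hom x := by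
    intro V hV x
    rw [Scheme.Hom.appLE]
    rfl
  constructor
  · -- injectivity
    intro y₁ y₂ hy
    have hy0 : (iY.appLE UT (g ⁻¹ᵁ (iX ⁻¹ᵁ US) ⊓ iY ⁻¹ᵁ UT) inf_le_right).hom (y₁ - y₂) = 0 := by
      rw [map_sub]; exact sub_eq_zero.mpr hy
    have hφ0 : ∀ i, φ i (y₁ - y₂) = 0 := by
      intro i
      apply hbij.1
      rw [map_zero]
      apply X.IsSheaf.section_ext
      intro x hx
      obtain ⟨V, hVa, hxV, hV⟩ := haff (iX ⁻¹ᵁ US) x hx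
      refine ⟨V, hV, hxV, ?_⟩
      rw [map_zero]
      have h1 := hκ V hVa hV i 1 (y₁ - y₂)
      rw [map_one, one_mul, one_mul] at h1
      have h2 := r2 (V := iX ⁻¹ᵁ US) (V' := V) hV (y₁ - y₂)
      rw [hy0, map_zero] at h2
      rw [← h2, map_zero] at h1
      exact (happ V hV _).trans h1.symm
    have := hdual (y₁ - y₂)
    simp only [hφ0, map_zero, zero_mul, Finset.sum_const_zero] at this
    exact sub_eq_zero.mp this
  · -- surjectivity
    intro t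
    -- the coefficients on each affine open
    let J := {V : X.Opens // IsAffineOpen V ∧ V ≤ iX ⁻¹ᵁ US}
    let UJ : J → X.Opens := fun V => V.1
    let tV : ∀ V : J, Γ(Y, g ⁻¹ᵁ V.1 ⊓ iY ⁻¹ᵁ UT) := fun V =>
      (Y.presheaf.map (homOfLE (hle V.2.2)).op).hom t
    have hres : ∀ (V V' : J) (h : V'.1 ≤ V.1),
        (Y.presheaf.map (homOfLE (hle h)).op).hom (tV V) = tV V' := by
      intro V V' h
      show (Y.presheaf.map _).hom ((Y.presheaf.map _).hom t) = (Y.presheaf.map _).hom t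
      rw [← RingHom.comp_apply, ← CommRingCat.hom_comp, ← Functor.map_comp]
      rfl
    have hglue : ∀ i : Fin n, ∃ a : Γ(X, iX ⁻¹ᵁ US), ∀ V : J,
        (X.presheaf.map (homOfLE V.2.2).op).hom a = κ V.1 V.2.1 V.2.2 i (tV V) := by
      intro i
      have hcomp : TopCat.Presheaf.IsCompatible X.sheaf.1 UJ
          (fun V : J => κ V.1 V.2.1 V.2.2 i (tV V)) := by
        intro V₁ V₂
        apply X.IsSheaf.section_ext
        intro x hx
        obtain ⟨V₃, hVa₃, hxV₃, hV₃⟩ := haff (UJ V₁ ⊓ UJ V₂) x hx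
        refine ⟨V₃, hV₃, hxV₃, ?_⟩
        have h31 : V₃ ≤ V₁.1 := hV₃.trans inf_le_left
        have h32 : V₃ ≤ V₂.1 := hV₃.trans inf_le_right
        let V₃' : J := ⟨V₃, hVa₃, h31.trans V₁.2.2⟩
        have e1 := hcompat V₁.1 V₃ V₁.2.1 hVa₃ V₁.2.2 h31 i (tV V₁)
        have e2 := hcompat V₂.1 V₃ V₂.2.1 hVa₃ V₂.2.2 h32 i (tV V₂)
        rw [hres V₁ V₃' h31] at e1
        rw [hres V₂ V₃' h32] at e2
        have l1 : (X.presheaf.map (homOfLE hV₃).op).hom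
            ((X.presheaf.map (Opens.infLELeft (UJ V₁) (UJ V₂)).op).hom
              (κ V₁.1 V₁.2.1 V₁.2.2 i (tV V₁))) =
            (X.presheaf.map (homOfLE h31).op).hom (κ V₁.1 V₁.2.1 V₁.2.2 i (tV V₁)) := by
          rw [← RingHom.comp_apply, ← CommRingCat.hom_comp, ← Functor.map_comp]
          rfl
        have l2 : (X.presheaf.map (homOfLE hV₃).op).hom
            ((X.presheaf.map (Opens.infLERight (UJ V₁) (UJ V₂)).op).hom
              (κ V₂.1 V₂.2.1 V₂.2.2 i (tV V₂))) =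
            (X.presheaf.map (homOfLE h32).op).hom (κ V₂.1 V₂.2.1 V₂.2.2 i (tV V₂)) := by
          rw [← RingHom.comp_apply, ← CommRingCat.hom_comp, ← Functor.map_comp]
          rfl
        exact (l1.trans (e1.trans e2.symm)).trans l2.symm
      have hcover : iX ⁻¹ᵁ US ≤ iSup UJ := by
        intro x hx
        obtain ⟨V, hVa, hxV, hV⟩ := haff (iX ⁻¹ᵁ US) x hx
        exact Opens.mem_iSup.mpr ⟨⟨V, hVa, hV⟩, hxV⟩
      obtain ⟨a, ha, -⟩ := X.sheaf.existsUnique_gluing' UJ (iX ⁻¹ᵁ US)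
        (fun V => homOfLE V.2.2) hcover _ hcomp
      exact ⟨a, ha⟩
    choose a ha using hglue
    -- descend the coefficients to `Γ(S, US)`
    have hρ : ∀ i, ∃ ρ : Γ(S, US), (iX.app US).hom ρ = a i := fun i => hbij.2 (a i)
    choose ρ hρ using hρ
    refine ⟨∑ i, (f.appLE US UT hUST).hom (ρ i) * b i, ?_⟩
    apply Y.IsSheaf.section_ext
    intro y hy
    obtain ⟨V, hVa, hxV, hV⟩ := haff (iX ⁻¹ᵁ US) (g y) hy.1
    refine ⟨g ⁻¹ᵁ V ⊓ iY ⁻¹ᵁ UT, hle hV, ⟨hxV, hy.2⟩, ?_⟩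
    let VJ : J := ⟨V, hVa, hV⟩
    have hw : ∀ x, (g.appLE V (g ⁻¹ᵁ V ⊓ iY ⁻¹ᵁ UT) inf_le_left).hom
        ((iX.appLE US V hV).hom x) =
        (iY.appLE UT (g ⁻¹ᵁ V ⊓ iY ⁻¹ᵁ UT) inf_le_right).hom ((f.appLE US UT hUST).hom x) :=
      fun x => congrArg (fun m => m.hom x) (hPO V hVa hV).w
    have e1 := r2 (V := iX ⁻¹ᵁ US) (V' := V) hV (∑ i, (f.appLE US UT hUST).hom (ρ i) * b i)
    refine e1.trans ?_
    have e2 := sum_coeff _ _ _ _ (hPO V hVa hV) b φ hdual (fun i => κ V hVa hV i)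
      (fun i => hκ V hVa hV i) (tV VJ)
    refine Eq.trans ?_ e2.symm
    rw [map_sum]
    refine Finset.sum_congr rfl fun i _ => ?_
    rw [map_mul, ← hw]
    congr 2
    rw [← ha i VJ, ← hρ i]
    exact (happ V hV _).symm
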