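import Mathlib
import Groth.Agent.Lib.Helper10.ProjBC2
import Groth.Agent.Lib.Helper10.ClopenIdem

/-!
# Clopen subsets descend along `f` with `O_S ≅ f_* O_X`, over finite locally free `W → S`
(helper10)
-/

set_option autoImplicit false

universe u

open AlgebraicGeometry CategoryTheory CategoryTheory.Limits TopologicalSpace Opposite

namespace Groth.Agent.Lib.Helper10.FEtDirect

/-- If `O_S → f_* O_X` is injective on every open then `f` has dense range. -/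
theorem denseRange_of_app_injective {X S : Scheme.{u}} (f : X ⟶ S)
    (hf : ∀ U : S.Opens, Function.Injective (f.app U)) : DenseRange f := by
  rw [DenseRange, dense_iff_inter_open]
  intro U hU hne
  by_contra hempty
  have h1 : f ⁻¹ᵁ (⟨U, hU⟩ : S.Opens) = ⊥ := by
    ext x
    simp only [Opens.coe_bot, Set.mem_empty_iff_false, iff_false]
    intro hx
    exact hempty ⟨f x, hx, x, rfl⟩
  haveI : Subsingleton Γ(X, f ⁻¹ᵁ (⟨U, hU⟩ : S.Opens)) := by rw [h1]; infer_instance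
  haveI : Subsingleton Γ(S, (⟨U, hU⟩ : S.Opens)) := (hf ⟨U, hU⟩).subsingleton
  have h2 : (⟨U, hU⟩ : S.Opens) = ⊥ := by
    have e1 := Scheme.basicOpen_of_isUnit S (U := ⟨U, hU⟩) (f := (1 : Γ(S, (⟨U, hU⟩ : S.Opens))))
      isUnit_one
    rw [Subsingleton.elim (1 : Γ(S, (⟨U, hU⟩ : S.Opens))) 0, Scheme.basicOpen_zero] at e1
    exact e1.symm
  obtain ⟨x, hx⟩ := hne
  have : x ∈ (⟨U, hU⟩ : S.Opens) := hx
  rw [h2] at this
  exact this

/-- Density of the range is preserved by base change along a universally open (e.g. flat, locally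
finitely presented) morphism. -/
theorem exists_mem_of_isPullback {X S W P : Scheme.{u}} (f : X ⟶ S) (hd : DenseRange f)
    (h : W ⟶ S) (hopen : IsOpenMap h) (p : P ⟶ W) (q : P ⟶ X) (hpb : IsPullback p q h f)
    (N : Set W) (hN : IsOpen N) (hne : N.Nonempty) : ∃ z, p z ∈ N := by
  obtain ⟨s, ⟨w, hw, rfl⟩, ⟨x, hx⟩⟩ :=
    (dense_iff_inter_open.mp hd) (h '' N) (hopen N hN) (hne.image h)
  obtain ⟨z, hz1, -⟩ := Scheme.exists_preimage_of_isPullback hpb w x hx.symm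
  exact ⟨z, by rw [show p z = w from hz1]; exact hw⟩

/-- The local statement: over an affine open `U` of `S`, a clopen subset of `P = W ×_S X` is the
preimage of a clopen subset of `h⁻¹ U`. -/
theorem exists_local_clopen {X S W P : Scheme.{u}} (f : X ⟶ S)
    (hf : ∀ U : S.Opens, Function.Bijective (f.app U))
    (h : W ⟶ S) [IsFinite h] [Flat h] [LocallyOfFinitePresentation h]
    (p : P ⟶ W) (q : P ⟶ X) (hpb : IsPullback p q h f) (C : Set P) (hC : IsClopen C)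
    (U : S.Opens) (hU : IsAffineOpen U) :
    ∃ T : Set W, IsOpen T ∧ T ⊆ h ⁻¹' U ∧ IsOpen ((h ⁻¹' U) \ T) ∧
      p ⁻¹' T = C ∩ p ⁻¹' (h ⁻¹' U) := by
  have hV : IsAffineOpen (h ⁻¹ᵁ U) := hU.preimage h
  set O' : P.Opens := q ⁻¹ᵁ (f ⁻¹ᵁ U) ⊓ p ⁻¹ᵁ (h ⁻¹ᵁ U) with hO'def
  have hO' : (O' : Set P) = p ⁻¹' (h ⁻¹' U) := by
    ext z
    constructor
    · rintro ⟨-, hz⟩
      exact hz
    · intro hz
      refine ⟨?_, hz⟩
      show f (q z) ∈ U
      rw [← Scheme.Hom.comp_apply, ← hpb.w, Scheme.Hom.comp_apply]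
      exact hz
  let Copen : P.Opens := ⟨C, hC.2⟩
  have hopen : IsOpen ((O' : Set P) \ (Copen ⊓ O' : P.Opens)) := by
    have : ((O' : Set P) \ (Copen ⊓ O' : P.Opens)) = (O' : Set P) ∩ Cᶜ := by
      ext z
      constructor
      · rintro ⟨hz1, hz2⟩
        exact ⟨hz1, fun hzC => hz2 ⟨hzC, hz1⟩⟩
      · rintro ⟨hz1, hz2⟩
        exact ⟨hz1, fun hz => hz2 hz.1⟩
    rw [this]
    exact O'.2.inter hC.1.isOpen_compl
  obtain ⟨e', he', hbe'⟩ := ClopenIdem.exists_idempotent_of_isClopen_in O' (Copen ⊓ O')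
    inf_le_right hopen
  have hfin : (h.appLE U (h ⁻¹ᵁ U) le_rfl).hom.Finite := by
    rw [← Scheme.Hom.app_eq_appLE]
    exact IsFinite.finite_app h U hU
  have hflat : (h.appLE U (h ⁻¹ᵁ U) le_rfl).hom.Flat :=
    HasRingHomProperty.appLE @Flat h inferInstance ⟨U, hU⟩ ⟨h ⁻¹ᵁ U, hV⟩ le_rfl
  have hfp : (h.appLE U (h ⁻¹ᵁ U) le_rfl).hom.FinitePresentation :=
    HasRingHomProperty.appLE @LocallyOfFinitePresentation h inferInstance ⟨U, hU⟩
      ⟨h ⁻¹ᵁ U, hV⟩ le_rfl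
  obtain ⟨n, b, φ, hφ, hdual⟩ := ClopenIdem.exists_dualBasis _ hfin hflat hfp
  have hbij := ProjBC.bijective_appLE_of_dualBasis hpb.flip hU hV le_rfl b φ hφ hdual (hf U)
  obtain ⟨e, hee'⟩ := hbij.2 e'
  have he : e * e = e := by
    apply hbij.1
    rw [map_mul, hee', he']
  refine ⟨(W.basicOpen e : Set W), (W.basicOpen e).2, Scheme.basicOpen_le _ _, ?_, ?_⟩
  · have := ClopenIdem.basicOpen_one_sub (h ⁻¹ᵁ U) e he
    rw [show (h ⁻¹' (U : Set S)) = ((h ⁻¹ᵁ U : W.Opens) : Set W) from rfl, ← this]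
    exact (W.basicOpen (1 - e)).2
  · have h1 := Scheme.basicOpen_appLE p O' (h ⁻¹ᵁ U) inf_le_right e
    rw [hee', hbe'] at h1
    have h2 : ((Copen ⊓ O' : P.Opens) : Set P) = ((O' ⊓ p ⁻¹ᵁ W.basicOpen e : P.Opens) : Set P) :=
      congrArg (fun o : P.Opens => (o : Set P)) h1
    ext z
    constructor
    · intro hz
      have hzV : z ∈ p ⁻¹' (h ⁻¹' U) :=
        (Scheme.basicOpen_le W e : W.basicOpen e ≤ h ⁻¹ᵁ U) hz
      have hzO : z ∈ (O' : Set P) := by rw [hO']; exact hzV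
      have : z ∈ ((Copen ⊓ O' : P.Opens) : Set P) := by
        rw [h2]; exact ⟨hzO, hz⟩
      exact ⟨this.1, hzV⟩
    · rintro ⟨hzC, hzV⟩
      have hzO : z ∈ (O' : Set P) := by rw [hO']; exact hzV
      have : z ∈ ((O' ⊓ p ⁻¹ᵁ W.basicOpen e : P.Opens) : Set P) := by
        rw [← h2]; exact ⟨hzC, hzO⟩
      exact this.2

/-- Lemma L: clopen subsets of `P = W ×_S X` descend to `W`. -/
theorem exists_clopen_preimage {X S W P : Scheme.{u}} (f : X ⟶ S)
    (hf : ∀ U : S.Opens, Function.Bijective (f.app U))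
    (h : W ⟶ S) [IsFinite h] [Flat h] [LocallyOfFinitePresentation h]
    (p : P ⟶ W) (q : P ⟶ X) (hpb : IsPullback p q h f) (C : Set P) (hC : IsClopen C) :
    ∃ T : Set W, IsClopen T ∧ p ⁻¹' T = C := by
  have hd : DenseRange f := denseRange_of_app_injective f (fun U => (hf U).1)
  have hopenmap : IsOpenMap h := h.isOpenMap
  have hdp := exists_mem_of_isPullback f hd h hopenmap p q hpb
  have hloc := fun U : S.affineOpens => exists_local_clopen f hf h p q hpb C hC U.1 U.2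
  choose T hT1 hT2 hT3 hT4 using hloc
  have hkey : ∀ U U' : S.affineOpens, T U ∩ h ⁻¹' (U'.1 : Set S) ⊆ T U' := by
    intro U U' x hx
    by_contra hxT
    have hN : IsOpen (T U ∩ ((h ⁻¹' (U'.1 : Set S)) \ T U')) := (hT1 U).inter (hT3 U')
    obtain ⟨z, hz⟩ := hdp _ hN ⟨x, hx.1, hx.2, hxT⟩
    have hz1 : z ∈ p ⁻¹' T U := hz.1
    rw [hT4 U] at hz1
    have hz2 : z ∈ p ⁻¹' T U' := by
      rw [hT4 U']
      exact ⟨hz1.1, hz.2.1⟩
    exact hz.2.2 hz2
  have hcov : ∀ s : S, ∃ U : S.affineOpens, s ∈ U.1 := by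
    intro s
    obtain ⟨_, ⟨V, hV, rfl⟩, hsV, -⟩ :=
      S.isBasis_affineOpens.exists_subset_of_mem_open (Set.mem_univ s) isOpen_univ
    exact ⟨⟨V, hV⟩, hsV⟩
  refine ⟨⋃ U, T U, ⟨?_, isOpen_iUnion hT1⟩, ?_⟩
  · rw [← isOpen_compl_iff]
    have : (⋃ U, T U)ᶜ = ⋃ U' : S.affineOpens, ((h ⁻¹' (U'.1 : Set S)) \ T U') := by
      ext x
      constructor
      · intro hx
        obtain ⟨U', hU'⟩ := hcov (h x)
        exact Set.mem_iUnion.mpr ⟨U', hU', fun hxT => hx (Set.mem_iUnion.mpr ⟨U', hxT⟩)⟩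
      · intro hx hxT
        obtain ⟨U', hxU', hxT'⟩ := Set.mem_iUnion.mp hx
        obtain ⟨U, hxU⟩ := Set.mem_iUnion.mp hxT
        exact hxT' (hkey U U' ⟨hxU, hxU'⟩)
    rw [this]
    exact isOpen_iUnion hT3
  · ext z
    constructor
    · intro hz
      obtain ⟨U, hzU⟩ := Set.mem_iUnion.mp hz
      have : z ∈ p ⁻¹' T U := hzU
      rw [hT4 U] at this
      exact this.1
    · intro hz
      obtain ⟨U, hU⟩ := hcov (h (p z))
      have : z ∈ p ⁻¹' T U := by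
        rw [hT4 U]; exact ⟨hz, hU⟩
      exact Set.mem_iUnion.mpr ⟨U, this⟩

end Groth.Agent.Lib.Helper10.FEtDirect
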