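import Mathlib
import Groth.Prelude.Def_FEt
import Groth.Agent.Lib.Helper10.FEtGraph
import Groth.Agent.Lib.Helper24.FEtFaithful

/-!
# Rank argument for the graph trick (helper10)

When the base change map `π : A' ⟶ A` is not surjective but meets every nonempty clopen subset of
`A`, a finite étale `q : T ⟶ A` which becomes an isomorphism over `A'` is an isomorphism (its rank
is locally constant and equal to one on the image of `π`).
-/

set_option autoImplicit false

universe u

open AlgebraicGeometry CategoryTheory CategoryTheory.Limits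

namespace Groth.Agent.Lib.Helper10.FEtRank

/-- The condition "every nonempty clopen subset of the target meets the range". -/
def ClopenMeets {A' A : Type*} [TopologicalSpace A] (π : A' → A) : Prop :=
  ∀ C : Set A, IsClopen C → C.Nonempty → (C ∩ Set.range π).Nonempty

theorem clopenMeets_of_surjective {A' A : Type*} [TopologicalSpace A] (π : A' → A)
    (h : Function.Surjective π) : ClopenMeets π := by
  intro C _ ⟨c, hc⟩
  exact ⟨c, hc, h c⟩

theorem clopenMeets_of_connectedComponentsMap_surjective {A' A : Type*} [TopologicalSpace A]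
    [TopologicalSpace A'] (π : A' → A) (hπ : Continuous π)
    (h : Function.Surjective hπ.connectedComponentsMap) : ClopenMeets π := by
  intro C hC ⟨c, hc⟩
  obtain ⟨c', hc'⟩ := h (ConnectedComponents.mk c)
  obtain ⟨a', rfl⟩ := ConnectedComponents.surjective_coe c'
  rw [Continuous.connectedComponentsMap_mk] at hc'
  have h1 : π a' ∈ connectedComponent c := by
    rw [← ConnectedComponents.coe_eq_coe'] 
    exact hc'
  exact ⟨π a', hC.connectedComponent_subset hc h1, a', rfl⟩

/-- Lemma D: a finite flat finitely presented morphism which is an isomorphism after base change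
along a map meeting every nonempty clopen is an isomorphism. -/
theorem isIso_of_isPullback_of_clopenMeets {T A A' T' : Scheme.{u}} (q : T ⟶ A) [Flat q]
    [IsFinite q] [LocallyOfFinitePresentation q]
    (π : A' ⟶ A) (hπ : ClopenMeets π) (q' : T' ⟶ A') (r : T' ⟶ T)
    (hsq : IsPullback q' r π q) [IsIso q'] : IsIso q := by
  rw [Scheme.Hom.isIso_iff_finrank_eq]
  ext a
  have hlc := Scheme.Hom.isLocallyConstant_finrank q
  have hC : IsClopen ((Scheme.Hom.finrank q) ⁻¹' {Scheme.Hom.finrank q a}) :=
    hlc.isClopen_fiber _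
  obtain ⟨x, hxC, ⟨y, rfl⟩⟩ := hπ _ hC ⟨a, rfl⟩
  have h1 : Scheme.Hom.finrank q' y = Scheme.Hom.finrank q (π y) :=
    Scheme.Hom.finrank_of_isPullback r q' q π hsq.flip y
  rw [Scheme.Hom.finrank_eq_one_of_isIso] at h1
  have h2 : Scheme.Hom.finrank q (π y) = Scheme.Hom.finrank q a := hxC
  rw [← h2, ← h1]
  rfl

/-- Descent of sections, general form: the criterion for `T ⟶ A` to be an isomorphism is a
hypothesis. -/
theorem exists_section_of_opens_gen {S A B A' : Scheme.{u}} (a : A ⟶ S) (b : B ⟶ S) [Etale b]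
    (π : A' ⟶ A) (γ : A' ⟶ pullback a b) (hγ : γ ≫ pullback.fst a b = π)
    (T : (pullback a b).Opens)
    (hT : ((pullback.fst (pullback.fst a b) π) ⁻¹ᵁ T : Set ↥(pullback (pullback.fst a b) π)) =
      Set.range (pullback.lift γ (𝟙 A') (by rw [hγ, Category.id_comp]) :
        A' ⟶ pullback (pullback.fst a b) π))
    (hcrit : ∀ {T' : Scheme.{u}} (q' : T' ⟶ A') (r : T' ⟶ ↑T),
      IsPullback q' r π (T.ι ≫ pullback.fst a b) → IsIso q' → IsIso (T.ι ≫ pullback.fst a b)) :
    ∃ σ : A ⟶ pullback a b, σ ≫ pullback.fst a b = 𝟙 A ∧ π ≫ σ = γ := by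
  let s' : A' ⟶ pullback (pullback.fst a b) π :=
    pullback.lift γ (𝟙 A') (by rw [hγ, Category.id_comp])
  have hs' : s' ≫ pullback.snd (pullback.fst a b) π = 𝟙 A' := pullback.lift_snd _ _ _
  have hs'1 : s' ≫ pullback.fst (pullback.fst a b) π = γ := pullback.lift_fst _ _ _
  haveI : IsOpenImmersion s' := FEtGraph.isOpenImmersion_of_section s' _ hs'
  let F := pullback.fst (pullback.fst a b) π
  let e := IsOpenImmersion.isoOfRangeEq s' (F ⁻¹ᵁ T).ι (by
    rw [Scheme.Opens.range_ι]; exact hT.symm)
  have he : e.hom ≫ (F ⁻¹ᵁ T).ι = s' := IsOpenImmersion.isoOfRangeEq_hom_fac _ _ _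
  have hx : (F ⁻¹ᵁ T).ι ≫ pullback.snd (pullback.fst a b) π = e.inv := by
    rw [← cancel_epi e.hom, ← Category.assoc, he, hs', e.hom_inv_id]
  haveI hiso : IsIso ((F ⁻¹ᵁ T).ι ≫ pullback.snd (pullback.fst a b) π) := by
    rw [hx]; infer_instance
  have hsq : IsPullback ((F ⁻¹ᵁ T).ι ≫ pullback.snd (pullback.fst a b) π) (F ∣_ T) π
      (T.ι ≫ pullback.fst a b) :=
    ((isPullback_morphismRestrict F T).paste_vert
      (IsPullback.of_hasPullback (pullback.fst a b) π)).flip
  haveI : IsIso (T.ι ≫ pullback.fst a b) := hcrit _ _ hsq hiso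
  refine ⟨inv (T.ι ≫ pullback.fst a b) ≫ T.ι, ?_, ?_⟩
  · rw [Category.assoc, IsIso.inv_hom_id]
  · have h1 : γ = (e.hom ≫ (F ∣_ T)) ≫ T.ι := by
      rw [Category.assoc, morphismRestrict_ι, ← Category.assoc, he, hs'1]
    have h2 : (e.hom ≫ (F ∣_ T)) ≫ (T.ι ≫ pullback.fst a b) = π := by
      rw [← Category.assoc, ← h1, hγ]
    calc π ≫ inv (T.ι ≫ pullback.fst a b) ≫ T.ι
        = ((e.hom ≫ (F ∣_ T)) ≫ (T.ι ≫ pullback.fst a b)) ≫
            inv (T.ι ≫ pullback.fst a b) ≫ T.ι :=
          congrArg (· ≫ (inv (T.ι ≫ pullback.fst a b) ≫ T.ι)) h2.symm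
      _ = (e.hom ≫ (F ∣_ T)) ≫ T.ι := by rw [Category.assoc, IsIso.hom_inv_id_assoc]
      _ = γ := h1.symm

/-- Descent of sections along `π` meeting every nonempty clopen: here `b` is finite étale and
`T` is clopen. -/
theorem exists_section_of_clopen {S A B A' : Scheme.{u}} (a : A ⟶ S) (b : B ⟶ S) [Etale b]
    [IsFinite b]
    (π : A' ⟶ A) (hπ : ClopenMeets π) (γ : A' ⟶ pullback a b) (hγ : γ ≫ pullback.fst a b = π)
    (T : (pullback a b).Opens) (hTc : IsClosed (T : Set ↥(pullback a b)))
    (hT : ((pullback.fst (pullback.fst a b) π) ⁻¹ᵁ T : Set ↥(pullback (pullback.fst a b) π)) =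
      Set.range (pullback.lift γ (𝟙 A') (by rw [hγ, Category.id_comp]) :
        A' ⟶ pullback (pullback.fst a b) π)) :
    ∃ σ : A ⟶ pullback a b, σ ≫ pullback.fst a b = 𝟙 A ∧ π ≫ σ = γ := by
  apply exists_section_of_opens_gen a b π γ hγ T hT
  intro T' q' r hsq hq'
  haveI : IsClosedImmersion T.ι :=
    IsClosedImmersion.of_isPreimmersion _ (by rw [Scheme.Opens.range_ι]; exact hTc)
  haveI : IsFinite (T.ι ≫ pullback.fst a b) := inferInstance
  haveI : Etale (T.ι ≫ pullback.fst a b) := inferInstance
  exact isIso_of_isPullback_of_clopenMeets (T.ι ≫ pullback.fst a b) π hπ q' r hsq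

/-- A Noetherian space has finitely many connected components. -/
theorem finite_connectedComponents_of_noetherianSpace (W : Type*) [TopologicalSpace W]
    [TopologicalSpace.NoetherianSpace W] : Finite (ConnectedComponents W) := by
  haveI : Finite ↥(irreducibleComponents W) :=
    (TopologicalSpace.NoetherianSpace.finite_irreducibleComponents (α := W)).to_subtype
  have hne : ∀ Z : ↥(irreducibleComponents W), (Z.1).Nonempty := fun Z => Z.2.1.1
  refine Finite.of_surjective
    (fun Z : ↥(irreducibleComponents W) => ConnectedComponents.mk (hne Z).some) ?_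
  intro c
  obtain ⟨x, rfl⟩ := ConnectedComponents.surjective_coe c
  refine ⟨⟨irreducibleComponent x, irreducibleComponent_mem_irreducibleComponents x⟩, ?_⟩
  rw [ConnectedComponents.coe_eq_coe']
  have hpre : _root_.IsPreconnected (irreducibleComponent x) :=
    (isIrreducible_irreducibleComponent (x := x)).isConnected.isPreconnected
  exact hpre.subset_connectedComponent mem_irreducibleComponent (hne ⟨_, _⟩).some_mem

/-- Lemma G: if `p` induces an injection on connected components and the target has finitely many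
connected components, every clopen of the source is the preimage of a clopen of the target. -/
theorem exists_clopen_of_connectedComponentsMap_injective {P W : Type*} [TopologicalSpace P]
    [TopologicalSpace W] [Finite (ConnectedComponents W)] (p : P → W) (hp : Continuous p)
    (hinj : Function.Injective hp.connectedComponentsMap) (C : Set P) (hC : IsClopen C) :
    ∃ T : Set W, IsClopen T ∧ p ⁻¹' T = C := by
  refine ⟨ConnectedComponents.mk ⁻¹' (hp.connectedComponentsMap '' (ConnectedComponents.mk '' C)),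
    (isClopen_discrete _).preimage ConnectedComponents.continuous_coe, ?_⟩
  ext x
  simp only [Set.mem_preimage, Set.mem_image]
  constructor
  · rintro ⟨_, ⟨c, hc, rfl⟩, hcx⟩
    rw [← Continuous.connectedComponentsMap_mk hp] at hcx
    have h1 := hinj hcx
    rw [ConnectedComponents.coe_eq_coe'] at h1
    have h2 : x ∈ connectedComponent c := by
      rw [← connectedComponent_eq h1]
      exact mem_connectedComponent
    exact hC.connectedComponent_subset hc h2
  · intro hx
    exact ⟨_, ⟨x, hx, rfl⟩, Continuous.connectedComponentsMap_mk hp x⟩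

/-- Lemma E: faithfulness criterion. -/
theorem faithful_of_clopenMeets {X Y : Scheme.{u}} (f : X ⟶ Y)
    (h : ∀ Y₁ : FEt.Cat Y, ClopenMeets (pullback.fst Y₁.hom f)) : (FEt.restrict f).Faithful := by
  refine ⟨fun {Y₁ Y₂} {φ ψ} hφψ => ?_⟩
  apply Groth.Agent.Lib.Helper24.FEtFaith.eq_of_range_eq_univ
  have hsub := Groth.Agent.Lib.Helper24.FEtFaith.preimage_subset_range_equalizer f φ ψ hφψ
  have hcl : IsClopen (Set.range (equalizer.ι (Groth.Agent.Lib.Helper24.FEtFaith.ov φ)
      (Groth.Agent.Lib.Helper24.FEtFaith.ov ψ)).left) :=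
    Groth.Agent.S0063.isClopen_range_equalizer _ _
  by_contra hne
  have hne' : (Set.range (equalizer.ι (Groth.Agent.Lib.Helper24.FEtFaith.ov φ)
      (Groth.Agent.Lib.Helper24.FEtFaith.ov ψ)).left)ᶜ.Nonempty := by
    rw [Set.nonempty_compl]; exact hne
  obtain ⟨x, hx1, hx2⟩ := h Y₁ _ hcl.compl hne'
  rw [Scheme.Pullback.range_fst] at hx2
  exact hx1 (hsub hx2)

end Groth.Agent.Lib.Helper10.FEtRank
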