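import Mathlib
import Groth.Prelude.Def_FEt
import Groth.Agent.S0283
import Groth.Agent.S0239

/-!
# Finite etale covers and thickenings: concrete full faithfulness, henselian pairs with nil ideal,
the affine case of essential surjectivity.
-/

set_option autoImplicit false
universe u
open CategoryTheory CategoryTheory.Limits AlgebraicGeometry

namespace Groth.Agent.Lib.Helper10.FEtThick

/-- Concrete form of full faithfulness of `FEt.restrict f` for a universal homeomorphism `f`. -/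
theorem existsUnique_lift {S S' : Scheme.{u}} (f : S ⟶ S') [IsIntegralHom f]
    [UniversallyInjective f] [Surjective f]
    {Z₁ Z₂ W₁ W₂ : Scheme.{u}} (z₁ : Z₁ ⟶ S') (z₂ : Z₂ ⟶ S')
    [IsFinite z₁] [Etale z₁] [IsFinite z₂] [Etale z₂]
    (a₁ : W₁ ⟶ Z₁) (y₁ : W₁ ⟶ S) (a₂ : W₂ ⟶ Z₂) (y₂ : W₂ ⟶ S)
    (h₁ : IsPullback a₁ y₁ z₁ f) (h₂ : IsPullback a₂ y₂ z₂ f) (g : W₁ ⟶ W₂) (hg : g ≫ y₂ = y₁) :
    ∃! t : Z₁ ⟶ Z₂, t ≫ z₂ = z₁ ∧ a₁ ≫ t = g ≫ a₂ := by
  obtain ⟨hfull, hfaith⟩ := Groth.Agent.S0283.result f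
  let O₁ : FEt.Cat S' := MorphismProperty.Over.mk ⊤ z₁ ⟨inferInstance, inferInstance⟩
  let O₂ : FEt.Cat S' := MorphismProperty.Over.mk ⊤ z₂ ⟨inferInstance, inferInstance⟩
  have map_fst : ∀ (φ : O₁ ⟶ O₂), ((FEt.restrict f).map φ).left ≫ pullback.fst z₂ f =
      pullback.fst z₁ f ≫ φ.left := by
    intro φ
    dsimp [FEt.restrict]
    exact pullback.lift_fst _ _ _
  have map_snd : ∀ (φ : O₁ ⟶ O₂), ((FEt.restrict f).map φ).left ≫ pullback.snd z₂ f =
      pullback.snd z₁ f := by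
    intro φ
    dsimp [FEt.restrict]
    exact pullback.lift_snd _ _ _
  obtain ⟨e₁, e1f, e1s⟩ : ∃ e : W₁ ≅ pullback z₁ f, e.hom ≫ pullback.fst z₁ f = a₁ ∧
      e.hom ≫ pullback.snd z₁ f = y₁ :=
    ⟨h₁.isoPullback, h₁.isoPullback_hom_fst, h₁.isoPullback_hom_snd⟩
  obtain ⟨e₂, e2f, e2s⟩ : ∃ e : W₂ ≅ pullback z₂ f, e.hom ≫ pullback.fst z₂ f = a₂ ∧
      e.hom ≫ pullback.snd z₂ f = y₂ :=
    ⟨h₂.isoPullback, h₂.isoPullback_hom_fst, h₂.isoPullback_hom_snd⟩
  have e1f' : pullback.fst z₁ f = e₁.inv ≫ a₁ := by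
    rw [← e1f, Iso.inv_hom_id_assoc]
  have e1s' : pullback.snd z₁ f = e₁.inv ≫ y₁ := by
    rw [← e1s, Iso.inv_hom_id_assoc]
  let ψ : pullback z₁ f ⟶ pullback z₂ f := e₁.inv ≫ g ≫ e₂.hom
  have hψ : ψ ≫ pullback.snd z₂ f = pullback.snd z₁ f := by
    simp only [ψ, Category.assoc]
    rw [e2s, hg, e1s']
  have hψf : ψ ≫ pullback.fst z₂ f = e₁.inv ≫ g ≫ a₂ := by
    simp only [ψ, Category.assoc]
    rw [e2f]
  let Ψ : (FEt.restrict f).obj O₁ ⟶ (FEt.restrict f).obj O₂ :=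
    MorphismProperty.Over.homMk ψ hψ trivial
  obtain ⟨φ, hφ⟩ := (FEt.restrict f).map_surjective Ψ
  have hφl : ((FEt.restrict f).map φ).left = ψ := by rw [hφ]; rfl
  have key : ∀ t : Z₁ ⟶ Z₂, a₁ ≫ t = g ≫ a₂ ↔ pullback.fst z₁ f ≫ t = ψ ≫ pullback.fst z₂ f := by
    intro t
    rw [hψf, e1f', Category.assoc]
    constructor
    · intro h
      rw [h]
    · intro h
      have := congrArg (fun m => e₁.hom ≫ m) h
      simpa only [Iso.hom_inv_id_assoc] using this
  refine ⟨φ.left, ⟨MorphismProperty.Over.w φ, ?_⟩, ?_⟩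
  · refine (key φ.left).mpr ?_
    have h3 := map_fst φ
    rw [hφl] at h3
    exact h3.symm
  · rintro t ⟨ht1, ht2⟩
    let φ' : O₁ ⟶ O₂ := MorphismProperty.Over.homMk t ht1 trivial
    have hφ' : φ'.left = t := rfl
    have : (FEt.restrict f).map φ' = (FEt.restrict f).map φ := by
      apply MorphismProperty.Over.Hom.ext
      refine pullback.hom_ext (f := z₂) (g := f) ?_ ?_
      · refine (map_fst φ').trans (Eq.trans ?_ (map_fst φ).symm)
        have h3 := map_fst φ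
        rw [hφl] at h3
        exact ((key t).mp ht2).trans h3
      · exact (map_snd φ').trans (map_snd φ).symm
    have h4 := (FEt.restrict f).map_injective this
    rw [← hφ', h4]

/-- A morphism of finite etale covers which restricts to the identity (under identifications)
along a universal homeomorphism is an isomorphism. -/
theorem isIso_of_lift {S S' : Scheme.{u}} (f : S ⟶ S') [IsIntegralHom f]
    [UniversallyInjective f] [Surjective f]
    {Z₁ Z₂ W : Scheme.{u}} (z₁ : Z₁ ⟶ S') (z₂ : Z₂ ⟶ S')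
    [IsFinite z₁] [Etale z₁] [IsFinite z₂] [Etale z₂]
    (a₁ : W ⟶ Z₁) (a₂ : W ⟶ Z₂) (y : W ⟶ S)
    (h₁ : IsPullback a₁ y z₁ f) (h₂ : IsPullback a₂ y z₂ f) (t : Z₁ ⟶ Z₂)
    (ht1 : t ≫ z₂ = z₁) (ht2 : a₁ ≫ t = a₂) : IsIso t := by
  obtain ⟨s, ⟨hs1, hs2⟩, -⟩ := existsUnique_lift f z₂ z₁ a₂ y a₁ y h₂ h₁ (𝟙 W) (Category.id_comp _)
  rw [Category.id_comp] at hs2
  have u1 := (existsUnique_lift f z₁ z₁ a₁ y a₁ y h₁ h₁ (𝟙 W) (Category.id_comp _)).unique
    (y₁ := t ≫ s) (y₂ := 𝟙 Z₁)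
    ⟨by rw [Category.assoc, hs1, ht1], by rw [← Category.assoc, ht2, hs2, Category.id_comp]⟩
    ⟨Category.id_comp _, by rw [Category.id_comp, Category.comp_id]⟩
  have u2 := (existsUnique_lift f z₂ z₂ a₂ y a₂ y h₂ h₂ (𝟙 W) (Category.id_comp _)).unique
    (y₁ := s ≫ t) (y₂ := 𝟙 Z₂)
    ⟨by rw [Category.assoc, ht1, hs1], by rw [← Category.assoc, hs2, ht2, Category.id_comp]⟩
    ⟨Category.id_comp _, by rw [Category.id_comp, Category.comp_id]⟩
  exact ⟨s, u1, u2⟩

/-- A pair `(A, I)` with `I` a nil ideal is henselian. -/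
theorem henselianRing_of_nil (A : Type u) [CommRing A] (I : Ideal A)
    (hI : ∀ x ∈ I, IsNilpotent x) : HenselianRing A I := by
  have jac : I ≤ Ideal.jacobson ⊥ := by
    intro x hx
    have : x ∈ nilradical A := mem_nilradical.mpr (hI x hx)
    exact Ideal.radical_le_jacobson this
  refine ⟨jac, ?_⟩
  intro f hf a₀ h₁ h₂
  haveI hloc : IsLocalHom (Ideal.Quotient.mk I) := isLocalHom_of_le_jacobson_bot I jac
  have hnil : IsNilpotent (Polynomial.aeval a₀ f) := by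
    rw [Polynomial.coe_aeval_eq_eval]
    exact hI _ h₁
  have hunit : IsUnit (Polynomial.aeval a₀ (Polynomial.derivative f)) := by
    rw [Polynomial.coe_aeval_eq_eval]
    exact (isUnit_map_iff (Ideal.Quotient.mk I) _).mp h₂
  obtain ⟨r, ⟨hr1, hr2⟩, -⟩ := Polynomial.existsUnique_nilpotent_sub_and_aeval_eq_zero hnil hunit
  have hq : ∀ (b : A) (p : Polynomial A), Polynomial.aeval (Ideal.Quotient.mk I b) p =
      Ideal.Quotient.mk I (Polynomial.aeval b p) := by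
    intro b p
    exact Polynomial.aeval_algebraMap_apply (A := A) (B := A ⧸ I) b p
  have hnil' : IsNilpotent (Polynomial.aeval (Ideal.Quotient.mk I a₀) f) := by
    rw [hq]
    exact hnil.map (Ideal.Quotient.mk I)
  have hunit' : IsUnit (Polynomial.aeval (Ideal.Quotient.mk I a₀) (Polynomial.derivative f)) := by
    rw [hq]
    exact hunit.map (Ideal.Quotient.mk I)
  have huniq := (Polynomial.existsUnique_nilpotent_sub_and_aeval_eq_zero hnil' hunit').unique
    (y₁ := Ideal.Quotient.mk I a₀) (y₂ := Ideal.Quotient.mk I r)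
    ⟨by rw [sub_self]; exact IsNilpotent.zero, by
      rw [hq, Polynomial.coe_aeval_eq_eval]
      exact Ideal.Quotient.eq_zero_iff_mem.mpr h₁⟩
    ⟨by rw [← map_sub]; exact hr1.map (Ideal.Quotient.mk I), by rw [hq, hr2, map_zero]⟩
  refine ⟨r, ?_, ?_⟩
  · rw [Polynomial.IsRoot.def, ← Polynomial.coe_aeval_eq_eval]
    exact hr2
  · have h3 := (Ideal.Quotient.eq.mp huniq)
    have h4 := I.neg_mem h3
    rwa [neg_sub] at h4

/-- The concrete form of essential surjectivity of `FEt.restrict i`. -/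
def ES {X X' : Scheme.{u}} (i : X ⟶ X') : Prop :=
  ∀ (Y : Scheme.{u}) (y : Y ⟶ X), IsFinite y → Etale y →
    ∃ (Z : Scheme.{u}) (z : Z ⟶ X') (a : Y ⟶ Z), IsFinite z ∧ Etale z ∧ IsPullback a y z i

theorem ES.of_iso {X X' X₁ X₁' : Scheme.{u}} (i : X ⟶ X') (i₁ : X₁ ⟶ X₁') (e : X ≅ X₁)
    (e' : X' ≅ X₁') (hcomm : i ≫ e'.hom = e.hom ≫ i₁) (H : ES i₁) : ES i := by
  intro Y y _ _
  obtain ⟨Z, z₁, a, hz1, hz2, hpb⟩ := H Y (y ≫ e.hom) inferInstance inferInstance
  refine ⟨Z, z₁ ≫ e'.inv, a, inferInstance, inferInstance, ?_⟩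
  refine hpb.of_iso (Iso.refl _) (Iso.refl _) e.symm e'.symm ?_ ?_ ?_ ?_
  · simp
  · simp
  · simp
  · rw [Iso.symm_hom, Iso.symm_hom, Iso.comp_inv_eq, Category.assoc, hcomm, Iso.inv_hom_id_assoc]

theorem ES.of_essSurj {X X' : Scheme.{u}} (i : X ⟶ X') [(FEt.restrict i).EssSurj] : ES i := by
  intro Y y _ _
  let OY : FEt.Cat X := MorphismProperty.Over.mk ⊤ y ⟨inferInstance, inferInstance⟩
  let O : FEt.Cat X' := (FEt.restrict i).objPreimage OY
  let iso : (FEt.restrict i).obj O ≅ OY := (FEt.restrict i).objObjPreimageIso OY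
  haveI : IsFinite O.hom := O.prop.1
  haveI : Etale O.hom := O.prop.2
  have h1 : iso.hom.left ≫ iso.inv.left = 𝟙 _ := by
    rw [← MorphismProperty.Comma.comp_left, Iso.hom_inv_id]
    rfl
  have h2 : iso.inv.left ≫ iso.hom.left = 𝟙 _ := by
    rw [← MorphismProperty.Comma.comp_left, Iso.inv_hom_id]
    rfl
  let isoL : pullback O.hom i ≅ Y := ⟨iso.hom.left, iso.inv.left, h1, h2⟩
  refine ⟨O.left, O.hom, iso.inv.left ≫ pullback.fst O.hom i, inferInstance, inferInstance, ?_⟩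
  refine (IsPullback.of_hasPullback O.hom i).of_iso isoL (Iso.refl _) (Iso.refl _) (Iso.refl _)
    ?_ ?_ ?_ ?_
  · rw [Iso.refl_hom, Category.comp_id]
    exact ((congrArg (fun m => m ≫ pullback.fst O.hom i) h1).trans (Category.id_comp _)).symm.trans
      (Category.assoc _ _ _)
  · rw [Iso.refl_hom, Category.comp_id]
    exact (MorphismProperty.Over.w iso.hom).symm
  · simp
  · simp

/-- The affine case: finite etale covers lift along thickenings of affine schemes. -/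
theorem ES.of_isAffine {X X' : Scheme.{u}} (i : X ⟶ X') [IsClosedImmersion i] [Surjective i]
    [IsAffine X'] : ES i := by
  obtain ⟨hXaff, hsurj⟩ := IsClosedImmersion.isAffine_surjective_of_isAffine i
  haveI := hXaff
  let φ : Γ(X', ⊤) →+* Γ(X, ⊤) := i.appTop.hom
  let I : Ideal Γ(X', ⊤) := RingHom.ker φ
  have hSpecSurj : Surjective (Spec.map i.appTop) := by
    have : Spec.map i.appTop = X.isoSpec.inv ≫ i ≫ X'.isoSpec.hom := by
      rw [← Scheme.isoSpec_hom_naturality, Iso.inv_hom_id_assoc]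
    rw [this]
    infer_instance
  have hI : ∀ x ∈ I, IsNilpotent x := by
    intro x hx
    rw [nilpotent_iff_mem_prime]
    intro J hJ
    obtain ⟨q, hq⟩ := (Spec.map i.appTop).surjective ⟨J, hJ⟩
    have hJq : J = Ideal.comap φ q.asIdeal := by
      have := congrArg PrimeSpectrum.asIdeal hq
      exact this.symm
    rw [hJq, Ideal.mem_comap, RingHom.mem_ker.mp hx]
    exact zero_mem _
  haveI := henselianRing_of_nil _ I hI
  haveI := Groth.Agent.S0239.result Γ(X', ⊤) I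
  have H : ES (Spec.map (CommRingCat.ofHom (Ideal.Quotient.mk I))) :=
    ES.of_essSurj (Spec.map (CommRingCat.ofHom (Ideal.Quotient.mk I)))
  let ψ : (Γ(X', ⊤) ⧸ I) ≃+* Γ(X, ⊤) := RingHom.quotientKerEquivOfSurjective hsurj
  let e : X ≅ Spec (CommRingCat.of (Γ(X', ⊤) ⧸ I)) :=
    X.isoSpec ≪≫ Scheme.Spec.mapIso ψ.toCommRingCatIso.op
  refine ES.of_iso i _ e X'.isoSpec ?_ H
  have h1 : CommRingCat.ofHom (Ideal.Quotient.mk I) ≫ ψ.toCommRingCatIso.hom = i.appTop := by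
    ext a
    exact RingHom.quotientKerEquivOfSurjective_apply_mk hsurj a
  have h2 : e.hom = X.isoSpec.hom ≫ Spec.map ψ.toCommRingCatIso.hom := rfl
  rw [h2, Category.assoc, ← Spec.map_comp, h1, Scheme.isoSpec_hom_naturality]

end Groth.Agent.Lib.Helper10.FEtThick
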