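import Mathlib
import Groth.Agent.Lib.Helper10.FEtThick1

/-!
# Finite etale covers and thickenings: transition maps between local lifts
-/

set_option autoImplicit false
universe u
open CategoryTheory CategoryTheory.Limits AlgebraicGeometry

namespace Groth.Agent.Lib.Helper10.FEtThick

variable {X X' : Scheme.{u}} (i : X ⟶ X') {Y : Scheme.{u}} (y : Y ⟶ X)

theorem isPullback_homOfLE {V U : X.Opens} (h : V ≤ U) :
    IsPullback (Y.homOfLE (y.preimage_mono h)) (y ∣_ V) (y ∣_ U) (X.homOfLE h) := by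
  refine (IsOpenImmersion.isPullback (y ∣_ V) (Y.homOfLE (y.preimage_mono h)) (X.homOfLE h)
    (y ∣_ U) ?_ ?_).flip
  · rw [← cancel_mono U.ι, Category.assoc, Category.assoc, morphismRestrict_ι, Scheme.homOfLE_ι,
      Scheme.homOfLE_ι_assoc, morphismRestrict_ι]
  · rw [Scheme.opensRange_homOfLE, Scheme.opensRange_homOfLE, ← Scheme.Hom.comp_preimage,
      morphismRestrict_ι, Scheme.Hom.comp_preimage]

instance surjective_morphismRestrict [Surjective i] (U' : X'.Opens) : Surjective (i ∣_ U') :=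
  IsZariskiLocalAtTarget.restrict ‹Surjective i› U'

/-- Transition maps between two local lifts. -/
theorem exists_trans [IsClosedImmersion i] [Surjective i] {V' U' : X'.Opens} (h : V' ≤ U')
    {ZU ZV : Scheme.{u}} (zU : ZU ⟶ (U' : Scheme.{u})) (zV : ZV ⟶ (V' : Scheme.{u}))
    [IsFinite zU] [Etale zU] [IsFinite zV] [Etale zV]
    (aU : ((y ⁻¹ᵁ (i ⁻¹ᵁ U') : Y.Opens) : Scheme.{u}) ⟶ ZU)
    (aV : ((y ⁻¹ᵁ (i ⁻¹ᵁ V') : Y.Opens) : Scheme.{u}) ⟶ ZV)
    (hU : IsPullback aU (y ∣_ (i ⁻¹ᵁ U')) zU (i ∣_ U'))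
    (hV : IsPullback aV (y ∣_ (i ⁻¹ᵁ V')) zV (i ∣_ V')) :
    ∃ t : ZV ⟶ ZU, (t ≫ zU = zV ≫ X'.homOfLE h ∧
        aV ≫ t = Y.homOfLE (y.preimage_mono (i.preimage_mono h)) ≫ aU) ∧
      IsPullback t zV zU (X'.homOfLE h) ∧
      ∀ t' : ZV ⟶ ZU, t' ≫ zU = zV ≫ X'.homOfLE h →
        aV ≫ t' = Y.homOfLE (y.preimage_mono (i.preimage_mono h)) ≫ aU → t' = t := by
  have hc1 := (isPullback_homOfLE y (i.preimage_mono h)).w
  have hc2 := (isPullback_homOfLE i h).w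
  let b : ((y ⁻¹ᵁ (i ⁻¹ᵁ V') : Y.Opens) : Scheme.{u}) ⟶ pullback zU (X'.homOfLE h) :=
    pullback.lift (Y.homOfLE (y.preimage_mono (i.preimage_mono h)) ≫ aU)
      ((y ∣_ (i ⁻¹ᵁ V')) ≫ (i ∣_ V')) (by
        rw [Category.assoc, hU.w, ← Category.assoc, hc1, Category.assoc, hc2, Category.assoc])
  have hb1 : b ≫ pullback.fst zU (X'.homOfLE h) =
      Y.homOfLE (y.preimage_mono (i.preimage_mono h)) ≫ aU := pullback.lift_fst _ _ _
  have hb2 : b ≫ pullback.snd zU (X'.homOfLE h) = (y ∣_ (i ⁻¹ᵁ V')) ≫ (i ∣_ V') :=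
    pullback.lift_snd _ _ _
  have hbpb : IsPullback b (y ∣_ (i ⁻¹ᵁ V')) (pullback.snd zU (X'.homOfLE h)) (i ∣_ V') := by
    have big := (isPullback_homOfLE y (i.preimage_mono h)).paste_horiz hU
    rw [← hb1, hc2] at big
    exact IsPullback.of_right big hb2 (IsPullback.of_hasPullback zU (X'.homOfLE h))
  obtain ⟨s, ⟨hs1, hs2⟩, hsu⟩ := existsUnique_lift (i ∣_ V') zV (pullback.snd zU (X'.homOfLE h))
    aV (y ∣_ (i ⁻¹ᵁ V')) b (y ∣_ (i ⁻¹ᵁ V')) hV hbpb (𝟙 _) (Category.id_comp _)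
  rw [Category.id_comp] at hs2
  haveI : IsIso s := isIso_of_lift (i ∣_ V') zV (pullback.snd zU (X'.homOfLE h)) aV b
    (y ∣_ (i ⁻¹ᵁ V')) hV hbpb s hs1 hs2
  refine ⟨s ≫ pullback.fst zU (X'.homOfLE h), ⟨?_, ?_⟩, ?_, ?_⟩
  · rw [Category.assoc, pullback.condition, ← Category.assoc, hs1]
  · rw [← Category.assoc, hs2, hb1]
  · refine IsPullback.of_iso_pullback ⟨?_⟩ (asIso s) rfl ?_
    · rw [Category.assoc, pullback.condition, ← Category.assoc, hs1]
    · exact hs1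
  · intro t' h1 h2
    have : pullback.lift t' zV h1 = s := hsu _ ⟨pullback.lift_snd _ _ _, by
      rw [Category.id_comp]
      apply pullback.hom_ext
      · rw [Category.assoc, pullback.lift_fst, h2, hb1]
      · rw [Category.assoc, pullback.lift_snd, hV.w, hb2]⟩
    rw [← this, pullback.lift_fst]

end Groth.Agent.Lib.Helper10.FEtThick
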