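import Mathlib
import Groth.Agent.Lib.Helper10.FEtThick2

/-!
# Finite etale covers and thickenings: gluing the local lifts
-/

set_option autoImplicit false
universe u
open CategoryTheory CategoryTheory.Limits AlgebraicGeometry

namespace Groth.Agent.Lib.Helper10.FEtThick

variable {X X' : Scheme.{u}} (i : X ⟶ X') {Y : Scheme.{u}} (y : Y ⟶ X)

/-- Local lifts of the finite etale cover `y` over all affine opens of `X'`. -/
structure LocData where
  Z : X'.affineOpens → Scheme.{u}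
  z : ∀ U : X'.affineOpens, Z U ⟶ (U.1 : Scheme.{u})
  a : ∀ U : X'.affineOpens, ((y ⁻¹ᵁ (i ⁻¹ᵁ U.1) : Y.Opens) : Scheme.{u}) ⟶ Z U
  fin : ∀ U, IsFinite (z U)
  et : ∀ U, Etale (z U)
  pb : ∀ U, IsPullback (a U) (y ∣_ (i ⁻¹ᵁ U.1)) (z U) (i ∣_ U.1)

theorem nonempty_locData [IsClosedImmersion i] [Surjective i] [IsFinite y] [Etale y] :
    Nonempty (LocData i y) := by
  have H : ∀ U : X'.affineOpens, ∃ (Z : Scheme.{u}) (z : Z ⟶ (U.1 : Scheme.{u}))
      (a : ((y ⁻¹ᵁ (i ⁻¹ᵁ U.1) : Y.Opens) : Scheme.{u}) ⟶ Z),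
      IsFinite z ∧ Etale z ∧ IsPullback a (y ∣_ (i ⁻¹ᵁ U.1)) z (i ∣_ U.1) := by
    intro U
    haveI : IsAffine (U.1 : Scheme.{u}) := U.2
    exact ES.of_isAffine (i ∣_ U.1) _ (y ∣_ (i ⁻¹ᵁ U.1)) inferInstance inferInstance
  choose Z z a h1 h2 h3 using H
  exact ⟨⟨Z, z, a, h1, h2, h3⟩⟩

namespace LocData

variable {i y} (D : LocData i y) [IsClosedImmersion i] [Surjective i]

instance (U : X'.affineOpens) : IsFinite (D.z U) := D.fin U
instance (U : X'.affineOpens) : Etale (D.z U) := D.et U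

/-- The transition maps. -/
noncomputable def t {V U : X'.affineOpens} (h : V.1 ≤ U.1) : D.Z V ⟶ D.Z U :=
  (exists_trans i y h (D.z U) (D.z V) (D.a U) (D.a V) (D.pb U) (D.pb V)).choose

theorem t_z {V U : X'.affineOpens} (h : V.1 ≤ U.1) : D.t h ≫ D.z U = D.z V ≫ X'.homOfLE h :=
  (exists_trans i y h (D.z U) (D.z V) (D.a U) (D.a V) (D.pb U) (D.pb V)).choose_spec.1.1

theorem a_t {V U : X'.affineOpens} (h : V.1 ≤ U.1) :
    D.a V ≫ D.t h = Y.homOfLE (y.preimage_mono (i.preimage_mono h)) ≫ D.a U :=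
  (exists_trans i y h (D.z U) (D.z V) (D.a U) (D.a V) (D.pb U) (D.pb V)).choose_spec.1.2

theorem isPullback_t {V U : X'.affineOpens} (h : V.1 ≤ U.1) :
    IsPullback (D.t h) (D.z V) (D.z U) (X'.homOfLE h) :=
  (exists_trans i y h (D.z U) (D.z V) (D.a U) (D.a V) (D.pb U) (D.pb V)).choose_spec.2.1

theorem t_unique {V U : X'.affineOpens} (h : V.1 ≤ U.1) (t' : D.Z V ⟶ D.Z U)
    (h1 : t' ≫ D.z U = D.z V ≫ X'.homOfLE h)
    (h2 : D.a V ≫ t' = Y.homOfLE (y.preimage_mono (i.preimage_mono h)) ≫ D.a U) : t' = D.t h :=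
  (exists_trans i y h (D.z U) (D.z V) (D.a U) (D.a V) (D.pb U) (D.pb V)).choose_spec.2.2 t' h1 h2

theorem t_id (U : X'.affineOpens) : D.t (le_refl U.1) = 𝟙 _ := by
  symm
  apply D.t_unique
  · rw [Scheme.homOfLE_rfl, Category.id_comp, Category.comp_id]
  · rw [Scheme.homOfLE_rfl, Category.id_comp, Category.comp_id]

theorem t_comp {W V U : X'.affineOpens} (h1 : W.1 ≤ V.1) (h2 : V.1 ≤ U.1) :
    D.t h1 ≫ D.t h2 = D.t (h1.trans h2) := by
  apply D.t_unique
  · rw [Category.assoc, D.t_z, ← Category.assoc, D.t_z, Category.assoc, Scheme.homOfLE_homOfLE]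
  · rw [← Category.assoc, D.a_t, Category.assoc, D.a_t, ← Category.assoc, Scheme.homOfLE_homOfLE]

/-- The functor of local lifts. -/
noncomputable def F : X'.directedAffineCover.I₀ ⥤ Scheme.{u} where
  obj U := D.Z U
  map {V U} f := D.t (leOfHom f)
  map_id U := D.t_id U
  map_comp {W V U} f g := (D.t_comp (leOfHom f) (leOfHom g)).symm

theorem trans_eq {V U : X'.directedAffineCover.I₀} (f : V ⟶ U) :
    X'.directedAffineCover.trans f = X'.homOfLE (leOfHom f) := rfl

/-- The relative gluing datum. -/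
noncomputable def gluingData : X'.directedAffineCover.RelativeGluingData where
  functor := D.F
  natTrans :=
    { app := fun U => D.z U
      naturality := fun V U f => by
        exact D.t_z (leOfHom f) }
  equifibered := by
    intro V U f
    exact D.isPullback_t (leOfHom f)

end LocData

end Groth.Agent.Lib.Helper10.FEtThick
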