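import Mathlib
import Groth.Agent.Lib.Helper10.FEtThick3

/-!
# Finite etale covers and thickenings: the glued lift
-/

set_option autoImplicit false
universe u
open CategoryTheory CategoryTheory.Limits AlgebraicGeometry

namespace Groth.Agent.Lib.Helper10.FEtThick

variable {X X' : Scheme.{u}} {i : X ⟶ X'} {Y : Scheme.{u}} {y : Y ⟶ X}

namespace LocData

variable (D : LocData i y) [IsClosedImmersion i] [Surjective i]

/-- The glued scheme. -/
noncomputable def P : Scheme.{u} := D.gluingData.glued

/-- The structure morphism of the glued scheme. -/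
noncomputable def p : D.P ⟶ X' := D.gluingData.toBase

/-- The inclusions of the local pieces. -/
noncomputable def ι (U : X'.affineOpens) : D.Z U ⟶ D.P := colimit.ι D.gluingData.functor U

instance (U : X'.affineOpens) : IsOpenImmersion (D.ι U) := by
  have : ∀ V : X'.directedAffineCover.I₀, IsOpenImmersion (colimit.ι D.gluingData.functor V) :=
    fun V => inferInstance
  exact this U

theorem ι_p (U : X'.affineOpens) : D.ι U ≫ D.p = D.z U ≫ U.1.ι :=
  D.gluingData.ι_toBase U

theorem t_ι {V U : X'.affineOpens} (h : V.1 ≤ U.1) : D.t h ≫ D.ι U = D.ι V :=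
  colimit.w D.gluingData.functor (homOfLE h)

theorem isPullback_ι (U : X'.affineOpens) : IsPullback (D.z U) (D.ι U) U.1.ι D.p :=
  D.gluingData.isPullback_natTrans_ι_toBase U

theorem opensRange_ι (U : X'.affineOpens) : (D.ι U).opensRange = D.p ⁻¹ᵁ U.1 := by
  have h := D.gluingData.toBase_preimage_eq_opensRange_ι U
  have h2 : (U.1.ι).opensRange = U.1 := Scheme.Opens.opensRange_ι _
  exact (h.symm.trans (congrArg (fun W => D.p ⁻¹ᵁ W) h2))

theorem prop_p (Q : MorphismProperty Scheme.{u}) [IsZariskiLocalAtTarget Q]
    (hQ : ∀ U : X'.affineOpens, Q (D.z U)) : Q D.p := by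
  apply IsZariskiLocalAtTarget.of_openCover X'.directedAffineCover
  intro U
  have h := (D.isPullback_ι U).flip
  have h2 : Scheme.Cover.pullbackHom X'.directedAffineCover D.p U =
      h.isoPullback.inv ≫ D.z U := (h.isoPullback_inv_snd).symm
  have h3 : Q (h.isoPullback.inv ≫ D.z U) := (Q.cancel_left_of_respectsIso _ _).mpr (hQ U)
  rw [h2]
  exact h3

set_option backward.isDefEq.respectTransparency false in
instance : IsFinite D.p := D.prop_p @IsFinite (fun U => D.fin U)

set_option backward.isDefEq.respectTransparency false in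
instance : Etale D.p := D.prop_p @Etale (fun U => D.et U)

end LocData

end Groth.Agent.Lib.Helper10.FEtThick
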