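import Mathlib
import Groth.Agent.Lib.Helper10.FEtThick4

/-!
# Finite etale covers and thickenings: the glued lift restricts to the given cover
-/

set_option autoImplicit false
universe u
open CategoryTheory CategoryTheory.Limits AlgebraicGeometry

namespace Groth.Agent.Lib.Helper10.FEtThick

variable {X X' : Scheme.{u}} {i : X ⟶ X'} {Y : Scheme.{u}} {y : Y ⟶ X}

namespace LocData

variable (D : LocData i y) [IsClosedImmersion i] [Surjective i]

/-- The identification of the pullback of an open with the preimage, with the preimage written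
as an iterated preimage. -/
noncomputable def ρ (i : X ⟶ X') (y : Y ⟶ X) (U : X'.Opens) :
    pullback (y ≫ i) U.ι ≅ ((y ⁻¹ᵁ (i ⁻¹ᵁ U) : Y.Opens) : Scheme.{u}) :=
  pullbackRestrictIsoRestrict (y ≫ i) U

theorem ρ_hom_ι (i : X ⟶ X') (y : Y ⟶ X) (U : X'.Opens) :
    (ρ i y U).hom ≫ (y ⁻¹ᵁ (i ⁻¹ᵁ U)).ι = pullback.fst (y ≫ i) U.ι :=
  pullbackRestrictIsoRestrict_hom_ι _ _

/-- The local pieces of the morphism from `Y` to the glued scheme. -/
noncomputable def gl (U : X'.affineOpens) : pullback (y ≫ i) U.1.ι ⟶ D.P :=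
  (ρ i y U.1).hom ≫ D.a U ≫ D.ι U

theorem gl_compat {V U : X'.affineOpens} (h : V.1 ≤ U.1)
    (τ : pullback (y ≫ i) V.1.ι ⟶ pullback (y ≫ i) U.1.ι)
    (hτ : τ ≫ pullback.fst (y ≫ i) U.1.ι = pullback.fst (y ≫ i) V.1.ι) :
    τ ≫ D.gl U = D.gl V := by
  have h1 : τ ≫ (ρ i y U.1).hom =
      (ρ i y V.1).hom ≫ Y.homOfLE (y.preimage_mono (i.preimage_mono h)) := by
    rw [← cancel_mono (y ⁻¹ᵁ (i ⁻¹ᵁ U.1)).ι, Category.assoc, Category.assoc, ρ_hom_ι,
      Scheme.homOfLE_ι, ρ_hom_ι, hτ]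
  unfold gl
  rw [← Category.assoc, h1, Category.assoc, ← Category.assoc (Y.homOfLE _), ← D.a_t h,
    Category.assoc, D.t_ι]

theorem ι_eq_of_fst (U : X'.affineOpens) (a : Y ⟶ D.P)
    (ha : pullback.fst (y ≫ i) U.1.ι ≫ a = D.gl U) :
    (y ⁻¹ᵁ (i ⁻¹ᵁ U.1)).ι ≫ a = D.a U ≫ D.ι U := by
  rw [← cancel_epi (ρ i y U.1).hom, ← Category.assoc, ρ_hom_ι]
  exact ha

theorem gl_p (U : X'.affineOpens) : D.gl U ≫ D.p = pullback.fst (y ≫ i) U.1.ι ≫ y ≫ i := by
  unfold gl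
  rw [← ρ_hom_ι]
  simp only [Category.assoc]
  rw [D.ι_p, ← Category.assoc (D.a U), (D.pb U).w, Category.assoc, morphismRestrict_ι,
    ← Category.assoc (y ∣_ _), morphismRestrict_ι, Category.assoc]

theorem exists_glue : ∃ a : Y ⟶ D.P, (∀ U : X'.affineOpens,
    (y ⁻¹ᵁ (i ⁻¹ᵁ U.1)).ι ≫ a = D.a U ≫ D.ι U) ∧ a ≫ D.p = y ≫ i := by
  let 𝒱 : Y.OpenCover := X'.directedAffineCover.pullback₁ (y ≫ i)
  let g : ∀ U : 𝒱.I₀, 𝒱.X U ⟶ D.P := fun U => D.gl U
  have hg : ∀ {V U : 𝒱.I₀} (f : V ⟶ U), Scheme.Cover.trans 𝒱 f ≫ g U = g V := by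
    intro V U f
    exact D.gl_compat (leOfHom f) _ ((pullback.lift_fst _ _ _).trans (Category.comp_id _))
  refine ⟨Scheme.OpenCover.glueMorphismsOfLocallyDirected 𝒱 g hg, fun U => ?_, ?_⟩
  · exact D.ι_eq_of_fst U _ (Scheme.OpenCover.map_glueMorphismsOfLocallyDirected 𝒱 g hg U)
  · refine Scheme.Cover.hom_ext 𝒱 _ _ (fun U => ?_)
    have h2 := Scheme.OpenCover.map_glueMorphismsOfLocallyDirected 𝒱 g hg U
    rw [← Category.assoc, h2]
    exact D.gl_p U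

theorem isPullback_glue (a : Y ⟶ D.P)
    (ha : ∀ U : X'.affineOpens, (y ⁻¹ᵁ (i ⁻¹ᵁ U.1)).ι ≫ a = D.a U ≫ D.ι U)
    (hap : a ≫ D.p = y ≫ i) : IsPullback a y D.p i := by
  suffices key : ∀ U : X'.affineOpens, IsPullback (pullback.snd a (D.ι U))
      (pullback.fst a (D.ι U) ≫ y) (D.ι U ≫ D.p) i from
    Scheme.isPullback_of_openCover a y D.p i D.gluingData.cover (fun U => key U)
  intro U
  have hsq : IsPullback (D.a U) (y ⁻¹ᵁ (i ⁻¹ᵁ U.1)).ι (D.ι U) a := by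
    refine IsOpenImmersion.isPullback _ _ _ _ (ha U) ?_
    rw [D.opensRange_ι, Scheme.Opens.opensRange_ι, ← Scheme.Hom.comp_preimage, hap]
    rfl
  have hp : IsPullback (D.a U) ((y ⁻¹ᵁ (i ⁻¹ᵁ U.1)).ι ≫ y) (D.z U ≫ U.1.ι) i := by
    have := (D.pb U).paste_vert (isPullback_morphismRestrict i U.1)
    rwa [morphismRestrict_ι] at this
  refine hp.of_iso hsq.flip.isoPullback (Iso.refl _) (Iso.refl _) (Iso.refl _) ?_ ?_ ?_ ?_
  · rw [Iso.refl_hom, Category.comp_id, IsPullback.isoPullback_hom_snd]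
  · rw [Iso.refl_hom, Category.comp_id, ← Category.assoc, IsPullback.isoPullback_hom_fst]
  · rw [Iso.refl_hom, Iso.refl_hom, Category.comp_id, Category.id_comp, D.ι_p]
  · rw [Iso.refl_hom, Iso.refl_hom, Category.comp_id, Category.id_comp]

end LocData

/-- Finite etale covers lift along thickenings. -/
theorem ES.of_thickening (i : X ⟶ X') [IsClosedImmersion i] [Surjective i] : ES i := by
  intro Y y _ _
  obtain ⟨D⟩ := nonempty_locData i y
  obtain ⟨a, ha, hap⟩ := D.exists_glue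
  exact ⟨D.P, D.p, a, inferInstance, inferInstance, D.isPullback_glue a ha hap⟩

end Groth.Agent.Lib.Helper10.FEtThick
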