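import Mathlib
import Groth.Prelude.Def_MoreMor

/-!
# First order thickenings: basic lemmas

* `mul_eq_zero_of_app_eq_zero`: for a first order thickening `t : T ⟶ T'`, two sections over an
  arbitrary open of `T'` that both restrict to zero on `T` have product zero.
* `sq_le_ker_of_le_ker_comp`: if `I ≤ (t ≫ b).ker` sectionwise then `I ^ 2 ≤ b.ker`.
-/

set_option autoImplicit false
universe u
open CategoryTheory CategoryTheory.Limits AlgebraicGeometry Opposite

namespace Groth.Agent.Lib.Helper10.FOThick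

/-- For a first order thickening `t : T ⟶ T'` and an open `W ⊆ T'`, the product of two sections
over `W` that die on `T` is zero. -/
theorem mul_eq_zero_of_app_eq_zero {T T' : Scheme.{u}} (t : T ⟶ T')
    (ht : MoreMor.IsFirstOrderThickening t) (W : T'.Opens) (p q : Γ(T', W))
    (hp : t.app W p = 0) (hq : t.app W q = 0) : p * q = 0 := by
  obtain ⟨⟨hci, -⟩, hsq⟩ := ht
  have := hci
  -- affine opens inside `W` cover `W`
  let ι := {W' : T'.affineOpens // W'.1 ≤ W}
  let U : ι → T'.Opens := fun W' => W'.1.1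
  have hcover : W ≤ iSup U := by
    intro x hx
    obtain ⟨V, hV, hxV, hVW⟩ :=
      TopologicalSpace.Opens.isBasis_iff_nbhd.mp T'.isBasis_affineOpens hx
    exact TopologicalSpace.Opens.mem_iSup.mpr ⟨⟨⟨V, hV⟩, hVW⟩, hxV⟩
  refine TopCat.Sheaf.eq_of_locally_eq' T'.sheaf U W (fun i => homOfLE i.2) hcover _ _ ?_
  rintro ⟨W', hW'⟩
  change (T'.presheaf.map (homOfLE hW').op) (p * q) = (T'.presheaf.map (homOfLE hW').op) 0
  rw [map_zero, map_mul]
  have key : ∀ r : Γ(T', W), t.app W r = 0 →
      (T'.presheaf.map (homOfLE hW').op) r ∈ t.ker.ideal W' := by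
    intro r hr
    rw [Scheme.Hom.ker_apply, RingHom.mem_ker]
    have hnat := t.naturality (homOfLE hW').op
    have := congr($hnat r)
    simp only [CommRingCat.comp_apply] at this
    rw [this, hr, map_zero]
  have h1 : (T'.presheaf.map (homOfLE hW').op) p * (T'.presheaf.map (homOfLE hW').op) q ∈
      (t.ker * t.ker).ideal W' := by
    rw [Scheme.IdealSheafData.ideal_mul]
    exact Ideal.mul_mem_mul (key p hp) (key q hq)
  rw [hsq] at h1
  exact h1

/-- If `I ≤ (t ≫ b).ker` for a first order thickening `t`, then `I ^ 2 ≤ b.ker`. -/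
theorem sq_le_ker_of_le_ker_comp {X T T' : Scheme.{u}} (I : X.IdealSheafData) (t : T ⟶ T')
    (ht : MoreMor.IsFirstOrderThickening t) (b : T' ⟶ X) (hI : I ≤ (t ≫ b).ker) :
    I ^ 2 ≤ b.ker := by
  rw [Scheme.Hom.ker, Scheme.IdealSheafData.le_ofIdeals_iff]
  intro U
  rw [Scheme.IdealSheafData.ideal_pow, pow_two, Pi.mul_apply, Ideal.mul_le]
  intro r hr s hs
  rw [RingHom.mem_ker, map_mul]
  have key : ∀ r ∈ I.ideal U, t.app (b ⁻¹ᵁ U.1) (b.app U.1 r) = 0 := by
    intro r hr
    have h1 : r ∈ (t ≫ b).ker.ideal U := Scheme.IdealSheafData.le_def.mp hI U hr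
    have h2 := (t ≫ b).ideal_ker_le U h1
    rw [RingHom.mem_ker] at h2
    exact h2
  exact mul_eq_zero_of_app_eq_zero t ht _ _ _ (key r hr) (key s hs)

end Groth.Agent.Lib.Helper10.FOThick
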