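import Mathlib
import Groth.Prelude.Def_FEt

set_option autoImplicit false
set_option linter.unusedSectionVars false
set_option linter.style.haveILetI false
set_option backward.isDefEq.respectTransparency.types false
set_option maxHeartbeats 4000000
set_option synthInstance.maxHeartbeats 400000

universe u

open CategoryTheory CategoryTheory.Limits AlgebraicGeometry Opposite

namespace Groth.Agent.Lib.Helper10.FibCard

/-- Over a separably closed field, a finite étale algebra of rank `n` has exactly `n` points. -/
theorem card_algHom_eq_finrank (K A : Type u) [Field K] [IsSepClosed K] [CommRing A] [Algebra K A]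
    [Module.Finite K A] [Algebra.FormallyEtale K A] :
    Nat.card (A →ₐ[K] K) = Module.finrank K A := by
  classical
  apply le_antisymm (card_algHom_le_finrank K A K)
  haveI : IsArtinianRing A := IsArtinianRing.of_finite K A
  haveI : Finite (PrimeSpectrum A) := inferInstance
  letI := Fintype.ofFinite (PrimeSpectrum A)
  let e := Algebra.FormallyEtale.equivPiOfIsSepClosed K A
  have h1 : Module.finrank K A = Nat.card (PrimeSpectrum A) := by
    rw [LinearEquiv.finrank_eq e.toLinearEquiv, Module.finrank_fintype_fun_eq_card,
      Nat.card_eq_fintype_card]
  let g : PrimeSpectrum A → (A →ₐ[K] K) := fun p =>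
    (Pi.evalAlgHom K (fun _ : PrimeSpectrum A => K) p).comp e.toAlgHom
  have hg : Function.Injective g := by
    intro p q hpq
    by_contra hne
    have := congrArg (fun (m : A →ₐ[K] K) => m (e.symm (Pi.single p 1))) hpq
    have h2 : ∀ r : PrimeSpectrum A, g r (e.symm (Pi.single p 1)) = (Pi.single p (1 : K) : _ → K) r := by
      intro r
      change e (e.symm (Pi.single p 1)) r = _
      rw [AlgEquiv.apply_symm_apply]
    simp only [h2, Pi.single_eq_same] at this
    rw [Pi.single_eq_of_ne (Ne.symm hne)] at this
    exact one_ne_zero this
  rw [h1]
  exact Nat.card_le_card_of_injective g hg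

end Groth.Agent.Lib.Helper10.FibCard
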