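import Mathlib
import Groth.Prelude.Def_FEt
import Groth.Agent.Lib.Helper10.FibCard1

set_option autoImplicit false
set_option linter.unusedSectionVars false
set_option linter.style.haveILetI false
set_option backward.isDefEq.respectTransparency.types false
set_option maxHeartbeats 4000000
set_option synthInstance.maxHeartbeats 400000

universe u

open CategoryTheory CategoryTheory.Limits AlgebraicGeometry Opposite

namespace Groth.Agent.Lib.Helper10.FibCard

/-- A finite étale scheme over a separably closed field has exactly `rank` sections. -/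
theorem card_sections {Ω : Type u} [Field Ω] [IsSepClosed Ω] {P : Scheme.{u}}
    (f : P ⟶ Spec (CommRingCat.of Ω)) [IsFinite f] [Etale f] (pt : Spec (CommRingCat.of Ω)) :
    Nat.card {s : Spec (CommRingCat.of Ω) ⟶ P // s ≫ f = 𝟙 _} = f.finrank pt := by
  haveI : IsAffine P := isAffine_of_isAffineHom f
  let ρ : Ω →+* Γ(P, ⊤) := ((Scheme.ΓSpecIso (CommRingCat.of Ω)).inv ≫ f.appTop).hom
  letI : Algebra Ω Γ(P, ⊤) := ρ.toAlgebra
  have hf : f = P.isoSpec.hom ≫ Spec.map (CommRingCat.ofHom ρ) := by
    have h1 := Scheme.isoSpec_hom_naturality f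
    have h2 : Spec.map (CommRingCat.ofHom ρ) =
        Spec.map f.appTop ≫ Spec.map (Scheme.ΓSpecIso (CommRingCat.of Ω)).inv := by
      rw [← Spec.map_comp]; rfl
    rw [h2, ← Category.assoc, h1, Category.assoc, ← Scheme.isoSpec_Spec_inv, Iso.hom_inv_id,
      Category.comp_id]
  have hf' : Spec.map (CommRingCat.ofHom ρ) = P.isoSpec.inv ≫ f := by
    rw [hf, Iso.inv_hom_id_assoc]
  haveI : IsFinite (Spec.map (CommRingCat.ofHom ρ)) := by rw [hf']; infer_instance
  haveI : Etale (Spec.map (CommRingCat.ofHom ρ)) := by rw [hf']; infer_instance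
  have hfin : ρ.Finite := by
    have := (IsFinite.SpecMap_iff (f := CommRingCat.ofHom ρ)).mp inferInstance
    exact this
  have het : ρ.Etale := by
    have := (HasRingHomProperty.Spec_iff (P := @Etale) (φ := CommRingCat.ofHom ρ)).mp inferInstance
    exact this
  haveI : Module.Finite Ω Γ(P, ⊤) := hfin
  haveI : Algebra.Etale Ω Γ(P, ⊤) := het
  haveI : Module.Flat Ω Γ(P, ⊤) := inferInstance
  -- the bijection
  let Ψ : (Γ(P, ⊤) →ₐ[Ω] Ω) → {s : Spec (CommRingCat.of Ω) ⟶ P // s ≫ f = 𝟙 _} := fun α =>
    ⟨Spec.map (CommRingCat.ofHom α.toRingHom) ≫ P.isoSpec.inv, by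
      rw [hf, Category.assoc, Iso.inv_hom_id_assoc, ← Spec.map_comp]
      have : CommRingCat.ofHom ρ ≫ CommRingCat.ofHom α.toRingHom = 𝟙 _ := by
        ext a
        exact α.commutes a
      rw [this, Spec.map_id]⟩
  have hΨ : Function.Bijective Ψ := by
    constructor
    · intro α β h
      have h1 := congrArg Subtype.val h
      simp only [Ψ] at h1
      rw [cancel_mono] at h1
      have h2 := Spec.map_injective h1
      ext a
      have := congrArg (fun m => m.hom a) h2
      exact this
    · rintro ⟨s, hs⟩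
      let β : Γ(P, ⊤) ⟶ CommRingCat.of Ω := Spec.preimage (s ≫ P.isoSpec.hom)
      have hβ : Spec.map β = s ≫ P.isoSpec.hom := Spec.map_preimage _
      have hc : CommRingCat.ofHom ρ ≫ β = 𝟙 _ := by
        apply Spec.map_injective
        rw [Spec.map_comp, hβ, Category.assoc, ← hf, hs, Spec.map_id]
      refine ⟨{ toRingHom := β.hom, commutes' := fun a => ?_ }, ?_⟩
      · exact congrArg (fun m => m.hom a) hc
      · apply Subtype.ext
        change Spec.map (CommRingCat.ofHom β.hom) ≫ P.isoSpec.inv = s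
        rw [show CommRingCat.ofHom β.hom = β from rfl, hβ, Category.assoc, Iso.hom_inv_id,
          Category.comp_id]
  rw [← Nat.card_congr (Equiv.ofBijective Ψ hΨ), card_algHom_eq_finrank]
  have h3 : f.finrank pt = (Spec.map (CommRingCat.ofHom ρ)).finrank pt := by
    rw [hf, Scheme.Hom.finrank_comp_left_of_isIso]
  rw [h3]
  have h4 := Scheme.Hom.finrank_SpecMap_algebraMap Ω Γ(P, ⊤) pt
  rw [show (algebraMap Ω Γ(P, ⊤)) = ρ from rfl] at h4
  rw [h4, Module.rankAtStalk_eq_finrank_of_free]
  rfl

/-- The geometric fibre of a finite étale cover has cardinality the rank. -/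
theorem card_fiberObj {X : Scheme.{u}} {Ω : Type u} [Field Ω] [IsSepClosed Ω]
    (ξ : Spec (CommRingCat.of Ω) ⟶ X) (Y : FEt.Cat X) (pt : Spec (CommRingCat.of Ω)) :
    Nat.card (FEt.fiberObj ξ Y) = Y.hom.finrank (ξ pt) := by
  haveI hfin : IsFinite Y.hom := Y.prop.1
  haveI het : Etale Y.hom := Y.prop.2
  rw [← Scheme.Hom.finrank_pullback_snd Y.hom ξ pt, ← card_sections (pullback.snd Y.hom ξ) pt]
  refine Nat.card_congr
    { toFun := fun s => ⟨pullback.lift s.1 (𝟙 _) (by rw [s.2, Category.id_comp]),
        pullback.lift_snd _ _ _⟩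
      invFun := fun σ => ⟨σ.1 ≫ pullback.fst Y.hom ξ, by
        rw [Category.assoc, pullback.condition, ← Category.assoc, σ.2, Category.id_comp]⟩
      left_inv := fun s => Subtype.ext (pullback.lift_fst _ _ _)
      right_inv := fun σ => Subtype.ext (by
        apply pullback.hom_ext
        · exact pullback.lift_fst _ _ _
        · exact (pullback.lift_snd _ _ _).trans σ.2.symm) }

end Groth.Agent.Lib.Helper10.FibCard
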