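import Mathlib
import Groth.Prelude.Def_FEt
import Groth.Agent.Lib.Helper10.FibCard2
import Groth.Agent.S0294

set_option autoImplicit false
set_option linter.unusedSectionVars false
set_option linter.style.haveILetI false
set_option backward.isDefEq.respectTransparency.types false
set_option maxHeartbeats 4000000
set_option synthInstance.maxHeartbeats 400000

universe u

open CategoryTheory CategoryTheory.Limits AlgebraicGeometry Opposite

namespace Groth.Agent.Lib.Helper10.FibCard

/-- An open immersion with closed range is finite. -/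
theorem isFinite_of_isOpenImmersion_of_isClosed_range {U Z : Scheme.{u}} (j : U ⟶ Z)
    [IsOpenImmersion j] (h : IsClosed (Set.range j)) : IsFinite j := by
  haveI : IsClosedImmersion j := by
    refine IsClosedImmersion.of_isPreimmersion j h
  infer_instance

/-- A morphism from the spectrum of a field whose range meets an open immersion factors
through it. -/
theorem range_subset_of_mem {Ω : Type u} [Field Ω] {Z : Scheme.{u}}
    (t : Spec (CommRingCat.of Ω) ⟶ Z) (V : Set Z) (z : Spec (CommRingCat.of Ω)) (hz : t z ∈ V) :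
    Set.range t ⊆ V := by
  rintro _ ⟨w, rfl⟩
  have : w = z := Subsingleton.elim _ _
  rw [this]; exact hz

/-- Natural transformations between fibre functors are injective on each fibre. -/
theorem app_injective {X : Scheme.{u}} {Ω Ω' : Type u} [Field Ω] [Field Ω']
    (ξ : Spec (CommRingCat.of Ω) ⟶ X) (ξ' : Spec (CommRingCat.of Ω') ⟶ X)
    (φ : FEt.fiber ξ ⟶ FEt.fiber ξ') (Y : FEt.Cat X) :
    Function.Injective (φ.app Y) := by
  haveI hfin : IsFinite Y.hom := Y.prop.1
  haveI het : Etale Y.hom := Y.prop.2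
  intro a b hab
  by_contra hne
  -- the diagonal is open and closed
  haveI : IsOpenImmersion (pullback.diagonal Y.hom) := inferInstance
  haveI : IsClosedImmersion (pullback.diagonal Y.hom) := inferInstance
  have hcl : IsClosed (Set.range (pullback.diagonal Y.hom)) :=
    (pullback.diagonal Y.hom).isClosedEmbedding.isClosed_range
  have hop : IsOpen (Set.range (pullback.diagonal Y.hom)) :=
    (pullback.diagonal Y.hom).isOpenEmbedding.isOpen_range
  let C : (pullback Y.hom Y.hom).Opens := ⟨(Set.range (pullback.diagonal Y.hom))ᶜ, hcl.isOpen_compl⟩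
  have hCr : Set.range C.ι = (Set.range (pullback.diagonal Y.hom))ᶜ := by
    rw [Scheme.Opens.range_ι]; rfl
  haveI : IsFinite C.ι := isFinite_of_isOpenImmersion_of_isClosed_range C.ι (by
    rw [hCr]; exact hop.isClosed_compl)
  -- objects
  let YY : FEt.Cat X := MorphismProperty.Over.mk ⊤ (pullback.fst Y.hom Y.hom ≫ Y.hom)
    ⟨inferInstance, inferInstance⟩
  let CC : FEt.Cat X := MorphismProperty.Over.mk ⊤ (C.ι ≫ pullback.fst Y.hom Y.hom ≫ Y.hom)
    ⟨inferInstance, inferInstance⟩
  let ι : CC ⟶ YY := MorphismProperty.Over.homMk C.ι rfl trivial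
  let p1 : YY ⟶ Y := MorphismProperty.Over.homMk (pullback.fst Y.hom Y.hom) rfl trivial
  let p2 : YY ⟶ Y := MorphismProperty.Over.homMk (pullback.snd Y.hom Y.hom)
    pullback.condition.symm trivial
  -- the pair (a, b)
  let ab : Spec (CommRingCat.of Ω) ⟶ pullback Y.hom Y.hom :=
    pullback.lift a.1 b.1 (a.2.trans b.2.symm)
  have hab1 : ab ≫ pullback.fst Y.hom Y.hom = a.1 := pullback.lift_fst _ _ _
  have hab2 : ab ≫ pullback.snd Y.hom Y.hom = b.1 := pullback.lift_snd _ _ _
  have habC : Set.range ab ⊆ Set.range C.ι := by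
    rw [hCr]
    rintro _ ⟨z, rfl⟩ hz
    have hsub : Set.range ab ⊆ Set.range (pullback.diagonal Y.hom) :=
      range_subset_of_mem ab _ z hz
    let l := IsOpenImmersion.lift (pullback.diagonal Y.hom) ab hsub
    have hl : l ≫ pullback.diagonal Y.hom = ab := IsOpenImmersion.lift_fac _ _ _
    have h1 : l = a.1 := by
      rw [← hab1, ← hl, Category.assoc, pullback.diagonal_fst, Category.comp_id]
    have h2 : l = b.1 := by
      rw [← hab2, ← hl, Category.assoc, pullback.diagonal_snd, Category.comp_id]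
    exact hne (Subtype.ext (h1.symm.trans h2))
  let c : Spec (CommRingCat.of Ω) ⟶ C := IsOpenImmersion.lift C.ι ab habC
  have hc : c ≫ C.ι = ab := IsOpenImmersion.lift_fac _ _ _
  let abY : FEt.fiberObj ξ YY := ⟨ab, by
    change ab ≫ pullback.fst Y.hom Y.hom ≫ Y.hom = ξ
    rw [← Category.assoc, hab1, a.2]⟩
  let cC : FEt.fiberObj ξ CC := ⟨c, by
    change c ≫ C.ι ≫ pullback.fst Y.hom Y.hom ≫ Y.hom = ξ
    rw [← Category.assoc, hc, ← Category.assoc, hab1, a.2]⟩
  -- naturality
  have hn1 : (FEt.fiber ξ').map ι (φ.app CC cC) = φ.app YY ((FEt.fiber ξ).map ι cC) :=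
    (FunctorToTypes.naturality φ ι cC).symm
  have hn2 : (FEt.fiber ξ').map p1 (φ.app YY abY) = φ.app Y ((FEt.fiber ξ).map p1 abY) :=
    (FunctorToTypes.naturality φ p1 abY).symm
  have hn3 : (FEt.fiber ξ').map p2 (φ.app YY abY) = φ.app Y ((FEt.fiber ξ).map p2 abY) :=
    (FunctorToTypes.naturality φ p2 abY).symm
  have e1 : (FEt.fiber ξ).map ι cC = abY := Subtype.ext hc
  have e2 : (FEt.fiber ξ).map p1 abY = a := Subtype.ext hab1
  have e3 : (FEt.fiber ξ).map p2 abY = b := Subtype.ext hab2
  rw [e1] at hn1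
  rw [e2] at hn2
  rw [e3] at hn3
  -- d = φ(ab) has both projections equal
  let d : Spec (CommRingCat.of Ω') ⟶ pullback Y.hom Y.hom := (φ.app YY abY).1
  have hd1 : d ≫ pullback.fst Y.hom Y.hom = (φ.app Y a).1 := congrArg Subtype.val hn2
  have hd2 : d ≫ pullback.snd Y.hom Y.hom = (φ.app Y b).1 := congrArg Subtype.val hn3
  have hd : d = (φ.app Y a).1 ≫ pullback.diagonal Y.hom := by
    apply pullback.hom_ext
    · rw [hd1, Category.assoc, pullback.diagonal_fst, Category.comp_id]
    · rw [hd2, Category.assoc, pullback.diagonal_snd, Category.comp_id, hab]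
  have hd' : d = (φ.app CC cC).1 ≫ C.ι := (congrArg Subtype.val hn1).symm
  -- contradiction at any point of Spec Ω'
  obtain ⟨w⟩ : Nonempty (Spec (CommRingCat.of Ω')) := inferInstance
  have hw1 : d w ∈ Set.range (pullback.diagonal Y.hom) := by
    rw [hd]; exact ⟨(φ.app Y a).1 w, rfl⟩
  have hw2 : d w ∈ (Set.range (pullback.diagonal Y.hom))ᶜ := by
    rw [← hCr, hd']; exact ⟨(φ.app CC cC).1 w, rfl⟩
  exact hw2 hw1

/-- For a connected scheme, every morphism between fibre functors at geometric points is an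
isomorphism. -/
theorem isIso_fiber_hom {X : Scheme.{u}} [ConnectedSpace X] {Ω Ω' : Type u} [Field Ω]
    [IsSepClosed Ω] [Field Ω'] [IsSepClosed Ω'] (ξ : Spec (CommRingCat.of Ω) ⟶ X)
    (ξ' : Spec (CommRingCat.of Ω') ⟶ X) (φ : FEt.fiber ξ ⟶ FEt.fiber ξ') : IsIso φ := by
  haveI : ∀ Y, IsIso (φ.app Y) := by
    intro Y
    haveI hfin : IsFinite Y.hom := Y.prop.1
    haveI het : Etale Y.hom := Y.prop.2
    rw [isIso_iff_bijective]
    obtain ⟨w⟩ : Nonempty (Spec (CommRingCat.of Ω)) := inferInstance
    obtain ⟨w'⟩ : Nonempty (Spec (CommRingCat.of Ω')) := inferInstance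
    have h1 := card_fiberObj ξ Y w
    have h2 := card_fiberObj ξ' Y w'
    haveI : PreconnectedSpace ↥((Functor.fromPUnit X).obj Y.right) :=
      (inferInstance : PreconnectedSpace X)
    have h3 : Y.hom.finrank (ξ w) = Y.hom.finrank (ξ' w') :=
      (Scheme.Hom.isLocallyConstant_finrank Y.hom).apply_eq_of_preconnectedSpace _ _
    let f : FEt.fiberObj ξ Y → FEt.fiberObj ξ' Y := fun s => φ.app Y s
    have hinj : Function.Injective f := app_injective ξ ξ' φ Y
    change Function.Bijective f
    by_cases h0 : Y.hom.finrank (ξ w) = 0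
    · -- empty fibres
      have he' : IsEmpty (FEt.fiberObj ξ' Y) := by
        have : Nat.card (FEt.fiberObj ξ' Y) = 0 := by rw [h2, ← h3, h0]
        rcases Nat.card_eq_zero.mp this with h | h
        · exact h
        · exfalso
          exact h.not_finite (Groth.Agent.S0294.result ξ' Y)
      exact ⟨hinj, fun y => (he'.false y).elim⟩
    · haveI : Finite (FEt.fiberObj ξ Y) := Groth.Agent.S0294.result ξ Y
      haveI : Finite (FEt.fiberObj ξ' Y) := Groth.Agent.S0294.result ξ' Y
      exact (Nat.bijective_iff_injective_and_card f).mpr ⟨hinj, by rw [h1, h2, h3]⟩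
  exact NatIso.isIso_of_isIso_app φ

end Groth.Agent.Lib.Helper10.FibCard
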