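import Mathlib
import Groth.Agent.Lib.Helper10.RigidAA3
import Groth.Agent.Lib.Helper10.ProperConst1
import Groth.Agent.Lib.Helper16.ReducedSub

/-!
# Translating connected components of fibres of a morphism from an abelian variety
-/

set_option autoImplicit false
set_option backward.isDefEq.respectTransparency.types false
set_option maxHeartbeats 4000000
set_option synthInstance.maxHeartbeats 400000
universe u
open CategoryTheory CategoryTheory.Limits AlgebraicGeometry MonoidalCategory
  CartesianMonoidalCategory MonObj GrpObj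

namespace Groth.Agent.Lib.Helper10.FibComp

open Groth.Agent.Lib.Helper10.RigidAA Groth.Agent.Lib.Helper10

variable {k : Type u} [Field k]

/-- universally closed, reduced, connected with a rational point ⇒ `O(X) = k`. -/
theorem bijective_of_universallyClosed_of_point (X : Over (Spec (CommRingCat.of k)))
    [UniversallyClosed X.hom] [IsReduced X.left] [ConnectedSpace X.left]
    (x₀ : 𝟙_ (Over (Spec (CommRingCat.of k))) ⟶ X) :
    Function.Bijective ((Scheme.ΓSpecIso (CommRingCat.of k)).inv ≫ X.hom.appTop).hom := by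
  constructor
  · haveI : Nontrivial ↑Γ(X.left, ⊤) := by
      by_contra hn
      rw [not_nontrivial_iff_subsingleton] at hn
      obtain ⟨x₁⟩ : Nonempty X.left := inferInstance
      have hx : x₁ ∈ X.left.basicOpen (1 : Γ(X.left, ⊤)) := by
        rw [X.left.basicOpen_of_isUnit isUnit_one]; trivial
      rw [Subsingleton.elim (1 : Γ(X.left, ⊤)) 0, Scheme.basicOpen_zero] at hx
      exact hx
    exact RingHom.injective _
  · intro s
    let c : k := (Scheme.ΓSpecIso (CommRingCat.of k)).hom.hom (x₀.left.appTop.hom s)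
    refine ⟨c, ?_⟩
    have hw : x₀.left ≫ X.hom = 𝟙 _ := Over.w x₀
    have h1 : x₀.left.appTop.hom (X.hom.appTop.hom
        ((Scheme.ΓSpecIso (CommRingCat.of k)).inv.hom c)) =
        (Scheme.ΓSpecIso (CommRingCat.of k)).inv.hom c := by
      have : X.hom.appTop ≫ x₀.left.appTop = 𝟙 _ := by
        rw [← Scheme.Hom.comp_appTop, hw]; rfl
      exact congrArg (fun m => m.hom ((Scheme.ΓSpecIso (CommRingCat.of k)).inv.hom c)) this
    have h2 : (Scheme.ΓSpecIso (CommRingCat.of k)).inv.hom c = x₀.left.appTop.hom s := by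
      show (Scheme.ΓSpecIso (CommRingCat.of k)).inv.hom
        ((Scheme.ΓSpecIso (CommRingCat.of k)).hom.hom (x₀.left.appTop.hom s)) = _
      exact congrArg (fun m => m.hom (x₀.left.appTop.hom s))
        (Scheme.ΓSpecIso (CommRingCat.of k)).hom_inv_id
    set s' : Γ(X.left, ⊤) := s - X.hom.appTop.hom
      ((Scheme.ΓSpecIso (CommRingCat.of k)).inv.hom c) with hs'
    have h3 : x₀.left.appTop.hom s' = 0 := by
      rw [hs', map_sub, h1, h2, sub_self]
    have h4 : X.left.basicOpen s' = ⊥ := by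
      rcases ProperConst.basicOpen_eq_bot_or_top X.hom s' with h | h
      · exact h
      · exfalso
        have hpt : x₀.left (IsLocalRing.closedPoint k) ∈ X.left.basicOpen s' := by
          rw [h]; trivial
        have : (IsLocalRing.closedPoint k : Spec (CommRingCat.of k)) ∈
            x₀.left ⁻¹ᵁ X.left.basicOpen s' := hpt
        rw [Scheme.preimage_basicOpen_top, h3, Scheme.basicOpen_zero] at this
        exact this
    have h5 : s' = 0 := (basicOpen_eq_bot_iff s').mp h4
    have h6 : s = X.hom.appTop.hom ((Scheme.ΓSpecIso (CommRingCat.of k)).inv.hom c) := by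
      rw [← sub_eq_zero]; exact h5
    exact h6.symm

section Translate

variable (X : Over (Spec (CommRingCat.of k))) [GrpObj X] [IsProper X.hom]
  [ConnectedSpace ↥X.left]

/-- translation by a rational point -/
noncomputable def tr (b : 𝟙_ (Over (Spec (CommRingCat.of k))) ⟶ X) : X ⟶ X :=
  lift (toUnit X ≫ b) (𝟙 X) ≫ μ[X]

theorem tr_eq (b : 𝟙_ (Over (Spec (CommRingCat.of k))) ⟶ X) :
    tr X b = (toUnit X ≫ b) * 𝟙 X := by
  rw [tr, Hom.mul_def]

theorem comp_tr {T : Over (Spec (CommRingCat.of k))} (g : T ⟶ X)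
    (b : 𝟙_ (Over (Spec (CommRingCat.of k))) ⟶ X) :
    g ≫ tr X b = (toUnit T ≫ b) * g := by
  rw [tr_eq, MonObj.comp_mul, Category.comp_id, ← Category.assoc]
  congr 2
  exact toUnit_unique _ _

theorem tr_tr (b c : 𝟙_ (Over (Spec (CommRingCat.of k))) ⟶ X) :
    tr X b ≫ tr X c = tr X (c * b) := by
  rw [comp_tr, tr_eq, tr_eq, ← _root_.mul_assoc, MonObj.comp_mul]

theorem tr_one : tr X (1 : 𝟙_ (Over (Spec (CommRingCat.of k))) ⟶ X) = 𝟙 X := by
  rw [tr_eq, MonObj.comp_one, _root_.one_mul]

variable {X}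
variable {Y : Scheme.{u}} (q : Y ⟶ Spec (CommRingCat.of k)) [IsSeparated q] (f : X.left ⟶ Y)
  (hf : f ≫ q = X.hom)

include hf in
theorem image_tr_subset (a b : 𝟙_ (Over (Spec (CommRingCat.of k))) ⟶ X) :
    (tr X b).left '' connectedComponentIn (f ⁻¹' {f (a.left (IsLocalRing.closedPoint k))})
        (a.left (IsLocalRing.closedPoint k)) ⊆
      connectedComponentIn (f ⁻¹' {f ((a ≫ tr X b).left (IsLocalRing.closedPoint k))})
        ((a ≫ tr X b).left (IsLocalRing.closedPoint k)) := by
  let pt : (𝟙_ (Over (Spec (CommRingCat.of k)))).left := IsLocalRing.closedPoint k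
  haveI hsub : Subsingleton ↥(Spec (CommRingCat.of k)) :=
    inferInstanceAs (Subsingleton (PrimeSpectrum k))
  haveI hsub' : Subsingleton ↥(𝟙_ (Over (Spec (CommRingCat.of k)))).left := hsub
  let Yo : Over (Spec (CommRingCat.of k)) := Over.mk q
  let fo : X ⟶ Yo := Over.homMk f hf
  haveI : IsSeparated Yo.hom := ‹IsSeparated q›
  -- the section `a ≫ fo` is a closed immersion
  let s : 𝟙_ (Over (Spec (CommRingCat.of k))) ⟶ Yo := a ≫ fo
  haveI hs : IsClosedImmersion s.left := by
    have hw : s.left ≫ q = 𝟙 _ := Over.w s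
    haveI : IsClosedImmersion (s.left ≫ q) := by rw [hw]; infer_instance
    exact IsClosedImmersion.of_comp s.left q
  have hrange : Set.range s.left = {f (a.left pt)} := by
    ext y
    constructor
    · rintro ⟨z, rfl⟩
      rw [Subsingleton.elim z pt]
      rfl
    · intro hy
      exact ⟨pt, hy.symm⟩
  have hclosedpt : IsClosed ({f (a.left pt)} : Set Y) := by
    rw [← hrange]; exact s.left.isClosedEmbedding.isClosed_range
  set F : Set X.left := f ⁻¹' {f (a.left pt)} with hF
  have hFclosed : IsClosed F := hclosedpt.preimage f.continuous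
  set Zs : Set X.left := connectedComponentIn F (a.left pt) with hZs
  have haF : a.left pt ∈ F := rfl
  have haZ : a.left pt ∈ Zs := mem_connectedComponentIn haF
  have hZsclosed : IsClosed Zs := by
    rw [hZs, connectedComponentIn_eq_image haF]
    exact hFclosed.isClosedEmbedding_subtypeVal.isClosedMap _ isClosed_connectedComponent
  -- the reduced closed subscheme
  let I := Scheme.IdealSheafData.vanishingIdeal (X := X.left) ⟨Zs, hZsclosed⟩
  let Z : Over (Spec (CommRingCat.of k)) := Over.mk (I.subschemeι ≫ X.hom)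
  let i : Z ⟶ X := Over.homMk I.subschemeι rfl
  haveI hi : IsClosedImmersion i.left := inferInstanceAs (IsClosedImmersion I.subschemeι)
  have hirange : Set.range i.left = Zs := by
    change Set.range I.subschemeι = Zs
    rw [Scheme.IdealSheafData.range_subschemeι]
    simp [I]
  haveI : IsReduced Z.left :=
    Groth.Agent.Lib.Helper16.isReduced_subscheme_vanishingIdeal (X := X.left) ⟨Zs, hZsclosed⟩
  haveI : IsProper Z.hom := by
    change IsProper (I.subschemeι ≫ X.hom)
    infer_instance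
  haveI : ConnectedSpace Z.left := by
    have hconn : _root_.IsConnected Zs := by
      rw [hZs]; exact isConnected_connectedComponentIn_iff.mpr haF
    rw [← hirange] at hconn
    have hpre : _root_.IsPreconnected (Set.univ : Set Z.left) := by
      rw [← i.left.isEmbedding.isInducing.isPreconnected_image, Set.image_univ]
      exact hconn.isPreconnected
    have hne : Nonempty Z.left := by
      obtain ⟨w, hw⟩ := hconn.nonempty
      obtain ⟨z, _⟩ := hw
      exact ⟨z⟩
    exact @ConnectedSpace.mk _ _ ⟨hpre⟩ hne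
  -- lift `a` to `Z`
  haveI : IsReduced (𝟙_ (Over (Spec (CommRingCat.of k)))).left :=
    inferInstanceAs (IsReduced (Spec (CommRingCat.of k)))
  obtain ⟨aZ, haZ'⟩ := exists_factor_of_reduced i a (by
    intro z
    rw [hirange, Subsingleton.elim z pt]
    exact haZ)
  have hO := bijective_of_universallyClosed_of_point Z aZ
  -- `fo` is constant on `Z`
  obtain ⟨ψ, hψ⟩ := exists_factor_of_reduced s (i ≫ fo) (by
    intro z
    rw [hrange]
    have hz : i.left z ∈ F := by
      have : i.left z ∈ Zs := by rw [← hirange]; exact ⟨z, rfl⟩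
      exact connectedComponentIn_subset F _ this
    exact hz)
  have hψ' : i ≫ fo = toUnit Z ≫ a ≫ fo := by
    rw [← hψ, toUnit_unique ψ (toUnit Z)]
  -- the map `(z, g) ↦ f(g z)`
  let m : Z ⊗ X ⟶ X := (snd Z X) * (fst Z X ≫ i)
  have hm : ∀ {T : Over (Spec (CommRingCat.of k))} (u : T ⟶ Z) (v : T ⟶ X),
      lift u v ≫ m = v * (u ≫ i) := by
    intro T u v
    show lift u v ≫ ((snd Z X) * (fst Z X ≫ i)) = _
    rw [MonObj.comp_mul, lift_snd, lift_fst_assoc]
  let φ : Z ⊗ X ⟶ Yo := m ≫ fo
  haveI : IsLocallyNoetherian X.left := LocallyOfFiniteType.isLocallyNoetherian X.hom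
  haveI : Nonempty ↥(𝟙_ (Over (Spec (CommRingCat.of k)))).left := ⟨pt⟩
  have hgam : gam aZ φ = ((𝟙 X) * (toUnit X ≫ a)) ≫ fo := by
    rw [gam]
    show lift (toUnit X ≫ aZ) (𝟙 X) ≫ m ≫ fo = _
    rw [← Category.assoc, hm, Category.assoc, haZ']
  have e2 : (η[X] : 𝟙_ (Over (Spec (CommRingCat.of k))) ⟶ X) = 1 := MonObj.one_eq_one X
  have hgood : Good aZ φ η[X] := by
    rw [Good, hgam]
    have hw : Z ◁ η[X] = lift (fst Z (𝟙_ (Over (Spec (CommRingCat.of k)))))
        (snd Z (𝟙_ (Over (Spec (CommRingCat.of k)))) ≫ η[X]) := by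
      apply CartesianMonoidalCategory.hom_ext
      · rw [whiskerLeft_fst, lift_fst]
      · rw [whiskerLeft_snd, lift_snd]
    show (Z ◁ η[X]) ≫ m ≫ fo = _
    rw [hw, ← Category.assoc, hm, e2, MonObj.comp_one, _root_.one_mul, Category.assoc, hψ']
    rw [← Category.assoc (1 : 𝟙_ (Over (Spec (CommRingCat.of k))) ⟶ X), MonObj.comp_mul,
      Category.comp_id]
    have h1 : (1 : 𝟙_ (Over (Spec (CommRingCat.of k))) ⟶ X) ≫ toUnit X = 𝟙 _ :=
      toUnit_unique _ _
    rw [← Category.assoc (1 : 𝟙_ (Over (Spec (CommRingCat.of k))) ⟶ X), h1, Category.id_comp,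
      _root_.one_mul, ← Category.assoc]
    congr 1
    exact toUnit_unique _ _
  have hrig := rigidity Z X Yo hO aZ φ η[X] hgood
  -- evaluate at `(z, b)`
  have hkey : i ≫ tr X b ≫ fo = toUnit Z ≫ (a ≫ tr X b) ≫ fo := by
    have h1 : lift (𝟙 Z) (toUnit Z ≫ b) ≫ φ = lift (𝟙 Z) (toUnit Z ≫ b) ≫ snd Z X ≫
        lift (toUnit X ≫ aZ) (𝟙 X) ≫ φ := by rw [← hrig]
    have l1 : lift (𝟙 Z) (toUnit Z ≫ b) ≫ φ = i ≫ tr X b ≫ fo := by
      show lift (𝟙 Z) (toUnit Z ≫ b) ≫ m ≫ fo = _
      rw [← Category.assoc, hm, Category.id_comp, ← Category.assoc i, comp_tr]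
    have l2 : lift (𝟙 Z) (toUnit Z ≫ b) ≫ snd Z X ≫ lift (toUnit X ≫ aZ) (𝟙 X) ≫ φ =
        toUnit Z ≫ (a ≫ tr X b) ≫ fo := by
      show lift (𝟙 Z) (toUnit Z ≫ b) ≫ snd Z X ≫ lift (toUnit X ≫ aZ) (𝟙 X) ≫ m ≫ fo = _
      have h3 : lift (toUnit X ≫ aZ) (𝟙 X) ≫ m = 𝟙 X * (toUnit X ≫ a) := by
        rw [hm, Category.assoc, haZ']
      have h4 : (toUnit Z ≫ b) ≫ (𝟙 X * (toUnit X ≫ a)) = toUnit Z ≫ (a ≫ tr X b) := by
        rw [comp_tr, MonObj.comp_mul, MonObj.comp_mul, Category.comp_id]
        have u1 : toUnit Z ≫ toUnit (𝟙_ (Over (Spec (CommRingCat.of k)))) ≫ b = toUnit Z ≫ b := by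
          rw [← Category.assoc]; congr 1
        have u2 : (toUnit Z ≫ b) ≫ toUnit X ≫ a = toUnit Z ≫ a := by
          rw [← Category.assoc]; congr 1; exact toUnit_unique _ _
        rw [u1, u2]
      rw [lift_snd_assoc, ← Category.assoc (lift (toUnit X ≫ aZ) (𝟙 X)), h3,
        ← Category.assoc (toUnit Z ≫ b), h4, Category.assoc]
    rw [← l1, ← l2]
    exact h1
  have hpoint : ∀ z : Z.left, f ((tr X b).left (i.left z)) = f ((a ≫ tr X b).left pt) := by
    intro z
    have h1 := congrArg (fun m => m.left z) hkey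
    simp only [Over.comp_left, Scheme.Hom.comp_apply] at h1
    have h2 : (toUnit Z).left z = pt := Subsingleton.elim _ _
    rw [h2] at h1
    exact h1
  -- conclude
  have himg : (tr X b).left '' Zs ⊆ f ⁻¹' {f ((a ≫ tr X b).left pt)} := by
    rintro _ ⟨w, hw, rfl⟩
    rw [← hirange] at hw
    obtain ⟨z, rfl⟩ := hw
    exact hpoint z
  have hpre : _root_.IsPreconnected ((tr X b).left '' Zs) :=
    (isPreconnected_connectedComponentIn).image _ (tr X b).left.continuous.continuousOn
  have hmem : (a ≫ tr X b).left pt ∈ (tr X b).left '' Zs := ⟨a.left pt, haZ, rfl⟩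
  exact hpre.subset_connectedComponentIn hmem himg

end Translate

end Groth.Agent.Lib.Helper10.FibComp
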