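import Mathlib

/-!
# Non-vanishing of fibres under base change (helper10)

Pure commutative algebra: for a commutative square of local rings `A → A'`, `A → B`, `B → B'`,
`A' → B'` such that `A' ⊗_A B → B'` is flat, and a `B`-module `N` with `N / m_A N ≠ 0`, the
`B'`-module `B' ⊗_B N` satisfies `(B' ⊗_B N) / m_{A'} (B' ⊗_B N) ≠ 0`.
-/

universe u
open scoped TensorProduct
open IsLocalRing

namespace Groth.Agent.Lib.Helper10.FibreNonvanish

section LemmaG
variable {R : Type u} [CommRing R] {S : Type u} [CommRing S] [Algebra R S] [Module.Flat R S]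
  {P : Type u} [AddCommGroup P] [Module R P]

/-- If `S` is flat over `R` and `1 ⊗ p = 0` in `S ⊗ P`, then `1 ∈ ann(p) S`. -/
theorem one_mem_map_of_tmul_eq_zero (p : P) (h : (1 : S) ⊗ₜ[R] p = 0) :
    (1 : S) ∈ Ideal.map (algebraMap R S) (LinearMap.ker (LinearMap.toSpanSingleton R P p)) := by
  set K : Ideal R := LinearMap.ker (LinearMap.toSpanSingleton R P p) with hK
  let j : (R ⧸ K) →ₗ[R] P := Submodule.liftQ K (LinearMap.toSpanSingleton R P p) le_rfl
  have hj : Function.Injective j := by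
    rw [← LinearMap.ker_eq_bot]
    exact Submodule.ker_liftQ_eq_bot _ _ _ le_rfl
  have hinj := Module.Flat.lTensor_preserves_injective_linearMap (M := S) j hj
  have hj1 : j (Ideal.Quotient.mk K 1) = p := by
    change (LinearMap.toSpanSingleton R P p) 1 = p
    rw [LinearMap.toSpanSingleton_apply, one_smul]
  have h2 : (1 : S) ⊗ₜ[R] (Ideal.Quotient.mk K 1 : R ⧸ K) = 0 := by
    apply hinj
    rw [LinearMap.lTensor_tmul, hj1, h, map_zero]
  have h3 := congrArg (TensorProduct.tensorQuotEquivQuotSMul S K) h2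
  rw [map_zero, TensorProduct.tensorQuotEquivQuotSMul_tmul_mk, Submodule.Quotient.mk_eq_zero,
    one_smul, Ideal.smul_top_eq_map] at h3
  exact h3

end LemmaG

section Functional

variable (A B B' : Type u) [CommRing A] [CommRing B] [CommRing B']
  [Algebra A B] [Algebra B B'] [Algebra A B'] [IsScalarTower A B B']
  (N : Type u) [AddCommGroup N] [Module A N] [Module B N] [IsScalarTower A B N]
  [IsLocalRing A] [IsLocalRing B] [IsLocalRing B']
  [IsLocalHom (algebraMap B B')] [IsLocalHom (algebraMap A B')]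

omit [IsLocalRing B] in
theorem exists_eq_one_tmul (v : ResidueField A ⊗[A] B) : ∃ b : B, v = 1 ⊗ₜ b := by
  induction v using TensorProduct.induction_on with
  | zero => exact ⟨0, (TensorProduct.tmul_zero _ _).symm⟩
  | tmul c b =>
    obtain ⟨a, rfl⟩ := residue_surjective c
    refine ⟨a • b, ?_⟩
    rw [← TensorProduct.smul_tmul, ← ResidueField.algebraMap_eq, Algebra.algebraMap_eq_smul_one]
  | add x y hx hy =>
    obtain ⟨b₁, rfl⟩ := hx
    obtain ⟨b₂, rfl⟩ := hy
    exact ⟨b₁ + b₂, (TensorProduct.tmul_add _ _ _).symm⟩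

/-- A functional on `κ ⊗ N` extending `b • n ↦ residue b`. -/
theorem exists_functional (n : N) (h1n : (1 : ResidueField A) ⊗ₜ[A] n ≠ 0) :
    ∃ lam : ResidueField A ⊗[A] N →ₗ[A] ResidueField B',
      ∀ b : B, lam (1 ⊗ₜ (b • n)) = residue B' (algebraMap B B' b) := by
  let ν₀ : B →ₗ[A] N := (LinearMap.toSpanSingleton B N n).restrictScalars A
  let β : ResidueField A ⊗[A] B →ₗ[ResidueField A] ResidueField A ⊗[A] N :=
    LinearMap.baseChange (ResidueField A) ν₀
  let g₀ : B →ₗ[A] ResidueField B' :=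
    ((Algebra.linearMap B' (ResidueField B')).restrictScalars A) ∘ₗ
      (IsScalarTower.toAlgHom A B B').toLinearMap
  have hg₀ : ∀ b, g₀ b = residue B' (algebraMap B B' b) := fun b => rfl
  let γ : ResidueField A ⊗[A] B →ₗ[ResidueField A] ResidueField B' :=
    g₀.liftBaseChange (ResidueField A)
  have hβ : ∀ b : B, β (1 ⊗ₜ b) = 1 ⊗ₜ (b • n) := fun b => by
    change (LinearMap.baseChange (ResidueField A) ν₀) (1 ⊗ₜ b) = _
    rw [LinearMap.baseChange_tmul]
    rfl
  have hγ : ∀ b : B, γ (1 ⊗ₜ b) = residue B' (algebraMap B B' b) := fun b => by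
    change g₀.liftBaseChange (ResidueField A) (1 ⊗ₜ b) = _
    rw [LinearMap.liftBaseChange_tmul, one_smul, hg₀]
  have hker : LinearMap.ker β ≤ LinearMap.ker γ := by
    intro v hv
    obtain ⟨b, rfl⟩ := exists_eq_one_tmul A B v
    rw [LinearMap.mem_ker, hβ] at hv
    rw [LinearMap.mem_ker, hγ, residue_eq_zero_iff]
    have hb : b ∈ maximalIdeal B := by
      by_contra hb
      rw [mem_maximalIdeal, mem_nonunits_iff, not_not] at hb
      obtain ⟨u, rfl⟩ := hb
      let ψ : ResidueField A ⊗[A] N →ₗ[A] ResidueField A ⊗[A] N :=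
        LinearMap.lTensor (ResidueField A)
          ((LinearMap.lsmul B N ((u⁻¹ : Bˣ) : B)).restrictScalars A)
      have h2 : ψ (1 ⊗ₜ ((u : B) • n)) = 1 ⊗ₜ n := by
        change (LinearMap.lTensor (ResidueField A)
          ((LinearMap.lsmul B N ((u⁻¹ : Bˣ) : B)).restrictScalars A)) (1 ⊗ₜ ((u : B) • n)) = _
        rw [LinearMap.lTensor_tmul]
        change (1 : ResidueField A) ⊗ₜ[A] (((u⁻¹ : Bˣ) : B) • ((u : B) • n)) = _
        rw [smul_smul, Units.inv_mul, one_smul]
      rw [hv, map_zero] at h2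
      exact h1n h2.symm
    rw [mem_maximalIdeal, mem_nonunits_iff] at hb ⊢
    exact fun hu => hb (isUnit_of_map_unit (algebraMap B B') b hu)
  let βbar : (ResidueField A ⊗[A] B) ⧸ LinearMap.ker β →ₗ[ResidueField A] ResidueField A ⊗[A] N :=
    (LinearMap.ker β).liftQ β le_rfl
  have hβbar : LinearMap.ker βbar = ⊥ := Submodule.ker_liftQ_eq_bot _ _ _ le_rfl
  obtain ⟨ρ, hρ⟩ := LinearMap.exists_leftInverse_of_injective βbar hβbar
  let γbar : (ResidueField A ⊗[A] B) ⧸ LinearMap.ker β →ₗ[ResidueField A] ResidueField B' :=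
    (LinearMap.ker β).liftQ γ hker
  refine ⟨(γbar ∘ₗ ρ).restrictScalars A, fun b => ?_⟩
  change γbar (ρ (1 ⊗ₜ (b • n))) = _
  rw [← hβ b]
  have h3 : ρ (β (1 ⊗ₜ b)) = Submodule.Quotient.mk (1 ⊗ₜ b) := by
    have := LinearMap.congr_fun hρ (Submodule.Quotient.mk (1 ⊗ₜ b))
    exact this
  rw [h3]
  change γ (1 ⊗ₜ b) = _
  exact hγ b

end Functional

section Main

attribute [local instance] Algebra.TensorProduct.rightAlgebra

variable (A A' B B' : Type u) [CommRing A] [CommRing A'] [CommRing B] [CommRing B']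
  [Algebra A A'] [Algebra A B] [Algebra B B'] [Algebra A' B'] [Algebra A B']
  [IsScalarTower A B B'] [IsScalarTower A A' B']
  (N : Type u) [AddCommGroup N] [Module A N] [Module B N] [IsScalarTower A B N]
  [IsLocalRing A] [IsLocalRing A'] [IsLocalRing B] [IsLocalRing B']
  [IsLocalHom (algebraMap B B')] [IsLocalHom (algebraMap A' B')] [IsLocalHom (algebraMap A B')]

omit [IsLocalRing A] [IsLocalRing B] [IsLocalRing B'] [IsLocalHom (algebraMap B B')]
  [IsLocalHom (algebraMap A' B')] [IsLocalHom (algebraMap A B')] [Algebra B B'] [Algebra A' B']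
  [Algebra A B'] [IsScalarTower A B B'] [IsScalarTower A A' B'] [Module B N]
  [IsScalarTower A B N] [Algebra A B] in
theorem smul_residue_tensor_eq_zero (M : Type u) [AddCommGroup M] [Module A M]
    (a' : A') (ha' : a' ∈ maximalIdeal A') (w : ResidueField A' ⊗[A] M) : a' • w = 0 := by
  induction w using TensorProduct.induction_on with
  | zero => exact smul_zero _
  | tmul c x =>
    rw [TensorProduct.smul_tmul']
    have : a' • c = 0 := by
      rw [Algebra.smul_def, ResidueField.algebraMap_eq, (residue_eq_zero_iff a').mpr ha', zero_mul]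
    rw [this, TensorProduct.zero_tmul]
  | add x y hx hy => rw [smul_add, hx, hy, add_zero]

/-- **Non-vanishing of the fibre under base change.** -/
theorem smul_top_ne_top_baseChange
    (hφ : (Algebra.TensorProduct.productMap (IsScalarTower.toAlgHom A A' B')
      (IsScalarTower.toAlgHom A B B')).toRingHom.Flat)
    (h : maximalIdeal A • (⊤ : Submodule A N) ≠ ⊤) :
    maximalIdeal A' • (⊤ : Submodule A' (B' ⊗[B] N)) ≠ ⊤ := by
  intro hcon
  -- pick `n ∉ m_A N`
  obtain ⟨n, hn⟩ : ∃ n : N, n ∉ maximalIdeal A • (⊤ : Submodule A N) := by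
    by_contra hall
    push Not at hall
    exact h (Submodule.eq_top_iff'.mpr hall)
  have h1n : (1 : ResidueField A) ⊗ₜ[A] n ≠ 0 := by
    intro h0
    have h2 : (Submodule.Quotient.mk n : N ⧸ (maximalIdeal A • (⊤ : Submodule A N))) = 0 := by
      rw [← TensorProduct.quotTensorEquivQuotSMul_mk_one_tmul (maximalIdeal A) n]
      have h0' : ((1 : A ⧸ maximalIdeal A) ⊗ₜ[A] n) = 0 := h0
      rw [h0', map_zero]
    rw [Submodule.Quotient.mk_eq_zero] at h2
    exact hn h2
  obtain ⟨lam, hlam⟩ := exists_functional A B B' N n h1n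
  -- the ring `R = A' ⊗ B` and the flat algebra `B'`
  let φ := Algebra.TensorProduct.productMap (IsScalarTower.toAlgHom A A' B')
      (IsScalarTower.toAlgHom A B B')
  letI algRB' : Algebra (A' ⊗[A] B) B' := φ.toRingHom.toAlgebra
  have hφt : ∀ (a' : A') (b : B), algebraMap (A' ⊗[A] B) B' (a' ⊗ₜ b) =
      algebraMap A' B' a' * algebraMap B B' b := fun a' b => by
    change φ (a' ⊗ₜ b) = _
    simp [φ]
  haveI tower1 : IsScalarTower B (A' ⊗[A] B) B' := by
    refine IsScalarTower.of_algebraMap_eq fun b => ?_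
    change algebraMap B B' b = φ (1 ⊗ₜ b)
    simp [φ]
  haveI tower2 : IsScalarTower A' (A' ⊗[A] B) B' := by
    refine IsScalarTower.of_algebraMap_eq fun a => ?_
    change algebraMap A' B' a = φ (a ⊗ₜ 1)
    simp [φ]
  haveI hfl : Module.Flat (A' ⊗[A] B) B' := hφ
  let I_R : Ideal (A' ⊗[A] B) := Ideal.map (algebraMap A' (A' ⊗[A] B)) (maximalIdeal A')
  let N₁ : Submodule (A' ⊗[A] B) ((A' ⊗[A] B) ⊗[B] N) := I_R • ⊤
  -- the map `Ψ`
  let c := TensorProduct.AlgebraTensorModule.cancelBaseChange B (A' ⊗[A] B) B' B' N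
  let Ψ : B' ⊗[B] N →ₗ[B'] B' ⊗[A' ⊗[A] B] (((A' ⊗[A] B) ⊗[B] N) ⧸ N₁) :=
    (TensorProduct.AlgebraTensorModule.lTensor B' B' N₁.mkQ) ∘ₗ c.symm.toLinearMap
  have hΨ1 : Ψ (1 ⊗ₜ n) = 1 ⊗ₜ N₁.mkQ (1 ⊗ₜ n) := by
    change (TensorProduct.AlgebraTensorModule.lTensor B' B' N₁.mkQ) (c.symm (1 ⊗ₜ n)) = _
    rw [TensorProduct.AlgebraTensorModule.cancelBaseChange_symm_tmul]
    rfl
  have hkill : ∀ a' ∈ maximalIdeal A', ∀ w : B' ⊗[A' ⊗[A] B] (((A' ⊗[A] B) ⊗[B] N) ⧸ N₁),
      (algebraMap A' B' a') • w = 0 := by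
    intro a' ha' w
    induction w using TensorProduct.induction_on with
    | zero => exact smul_zero _
    | tmul b' q =>
      rw [TensorProduct.smul_tmul', smul_eq_mul, IsScalarTower.algebraMap_apply A' (A' ⊗[A] B) B',
        ← Algebra.smul_def, TensorProduct.smul_tmul]
      obtain ⟨y, rfl⟩ := N₁.mkQ_surjective q
      have : algebraMap A' (A' ⊗[A] B) a' • N₁.mkQ y = 0 := by
        rw [← map_smul, Submodule.mkQ_apply, Submodule.Quotient.mk_eq_zero]
        exact Submodule.smul_mem_smul (Ideal.mem_map_of_mem _ ha') Submodule.mem_top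
      rw [this, TensorProduct.tmul_zero]
    | add x y hx hy => rw [smul_add, hx, hy, add_zero]
  have hΨ0 : ∀ z ∈ maximalIdeal A' • (⊤ : Submodule A' (B' ⊗[B] N)), Ψ z = 0 := by
    intro z hz
    refine Submodule.smul_induction_on hz (fun a' ha' y _ => ?_)
      (fun x y hx hy => by rw [map_add, hx, hy, add_zero])
    rw [← algebraMap_smul B' a' y, map_smul]
    exact hkill a' ha' _
  have h0 : (1 : B') ⊗ₜ[A' ⊗[A] B] N₁.mkQ ((1 : A' ⊗[A] B) ⊗ₜ[B] n) = 0 := by
    rw [← hΨ1]
    exact hΨ0 _ (by rw [hcon]; exact Submodule.mem_top)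
  -- flatness gives `r`
  have h1 := one_mem_map_of_tmul_eq_zero (R := A' ⊗[A] B) (S := B')
    (N₁.mkQ ((1 : A' ⊗[A] B) ⊗ₜ[B] n)) h0
  obtain ⟨r, hrK, hr⟩ : ∃ r ∈ LinearMap.ker (LinearMap.toSpanSingleton (A' ⊗[A] B) _
      (N₁.mkQ ((1 : A' ⊗[A] B) ⊗ₜ[B] n))), algebraMap (A' ⊗[A] B) B' r ∉ maximalIdeal B' := by
    by_contra hall
    push Not at hall
    have hle : Ideal.map (algebraMap (A' ⊗[A] B) B') (LinearMap.ker
        (LinearMap.toSpanSingleton (A' ⊗[A] B) _ (N₁.mkQ ((1 : A' ⊗[A] B) ⊗ₜ[B] n)))) ≤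
        maximalIdeal B' := Ideal.map_le_iff_le_comap.mpr (fun r hr => hall r hr)
    exact (Ideal.ne_top_iff_one _).mp (IsLocalRing.maximalIdeal.isMaximal B').ne_top (hle h1)
  have hrn : r • ((1 : A' ⊗[A] B) ⊗ₜ[B] n) ∈ N₁ := by
    have h2 : r • N₁.mkQ ((1 : A' ⊗[A] B) ⊗ₜ[B] n) = 0 := hrK
    rwa [← map_smul, Submodule.mkQ_apply, Submodule.Quotient.mk_eq_zero] at h2
  -- the map `Θ`
  let e := Algebra.IsPushout.cancelBaseChange A A' B (A' ⊗[A] B) N
  let t : A' ⊗[A] N →ₗ[A'] ResidueField A' ⊗[A] (ResidueField A ⊗[A] N) :=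
    TensorProduct.AlgebraTensorModule.map (Algebra.linearMap A' (ResidueField A'))
      (TensorProduct.mk A (ResidueField A) N 1)
  let Θ : (A' ⊗[A] B) ⊗[B] N →ₗ[A'] ResidueField A' ⊗[A] (ResidueField A ⊗[A] N) :=
    t ∘ₗ e.toLinearMap
  have hΘkill : ∀ z ∈ N₁, Θ z = 0 := by
    have aux : ∀ ρ ∈ I_R, ∀ y : (A' ⊗[A] B) ⊗[B] N, Θ (ρ • y) = 0 := by
      intro ρ hρ
      refine Submodule.span_induction (p := fun ρ _ => ∀ y : (A' ⊗[A] B) ⊗[B] N, Θ (ρ • y) = 0)
        ?_ ?_ ?_ ?_ hρ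
      · rintro _ ⟨a', ha', rfl⟩ y
        rw [algebraMap_smul, map_smul]
        exact smul_residue_tensor_eq_zero A A' _ a' ha' _
      · intro y
        rw [zero_smul, map_zero]
      · intro ρ₁ ρ₂ _ _ h₁ h₂ y
        rw [add_smul, map_add, h₁, h₂, add_zero]
      · intro s ρ₁ _ h₁ y
        rw [smul_eq_mul, mul_comm, mul_smul]
        exact h₁ _
    intro z hz
    refine Submodule.smul_induction_on hz (fun ρ hρ y _ => aux ρ hρ y)
      (fun x y hx hy => by rw [map_add, hx, hy, add_zero])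
  -- `μ`
  let ν₀ : B →ₗ[A] N := (LinearMap.toSpanSingleton B N n).restrictScalars A
  let μ : A' ⊗[A] B →ₗ[A] ResidueField A' ⊗[A] (ResidueField A ⊗[A] N) :=
    TensorProduct.map ((Algebra.linearMap A' (ResidueField A')).restrictScalars A)
      ((TensorProduct.mk A (ResidueField A) N 1) ∘ₗ ν₀)
  have hΘr : ∀ r : A' ⊗[A] B, Θ (r • ((1 : A' ⊗[A] B) ⊗ₜ[B] n)) = μ r := by
    intro r
    induction r using TensorProduct.induction_on with
    | zero => rw [zero_smul, map_zero, map_zero]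
    | tmul a' b =>
      have h3 : (a' ⊗ₜ[A] b) • ((1 : A' ⊗[A] B) ⊗ₜ[B] n) = e.symm (a' ⊗ₜ[A] (b • n)) := by
        rw [Algebra.IsPushout.cancelBaseChange_symm_tmul, TensorProduct.smul_tmul', smul_eq_mul,
          mul_one]
        have h4 : (a' ⊗ₜ[A] b : A' ⊗[A] B) = b • (algebraMap A' (A' ⊗[A] B) a') := by
          rw [Algebra.smul_def, Algebra.TensorProduct.right_algebraMap_apply,
            Algebra.TensorProduct.algebraMap_apply, Algebra.TensorProduct.tmul_mul_tmul]
          simp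
        rw [h4, TensorProduct.smul_tmul]
      rw [h3]
      change t (e (e.symm (a' ⊗ₜ[A] (b • n)))) = _
      rw [LinearEquiv.apply_symm_apply]
      rfl
    | add x y hx hy => rw [add_smul, map_add, hx, hy, map_add]
  -- `Λ`
  let ι : ResidueField A' →+* ResidueField B' := ResidueField.map (algebraMap A' B')
  have hLam : ∃ Lam : ResidueField A' ⊗[A] (ResidueField A ⊗[A] N) →ₗ[A] ResidueField B',
      ∀ (c : ResidueField A') (x : ResidueField A ⊗[A] N), Lam (c ⊗ₜ x) = ι c * lam x := by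
    refine ⟨TensorProduct.lift (LinearMap.mk₂ A (fun c x => ι c * lam x) ?_ ?_ ?_ ?_),
      fun c x => rfl⟩
    · intro c₁ c₂ x
      rw [map_add, add_mul]
    · intro a c x
      obtain ⟨c, rfl⟩ := residue_surjective c
      rw [Algebra.smul_def, Algebra.smul_def, ← mul_assoc]
      congr 1
      rw [map_mul]
      congr 1
      change ι (residue A' (algebraMap A A' a)) = residue B' (algebraMap A B' a)
      rw [ResidueField.map_residue, ← IsScalarTower.algebraMap_apply]
    · intro c x₁ x₂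
      rw [map_add, mul_add]
    · intro a c x
      rw [map_smul, Algebra.smul_def, Algebra.smul_def, mul_left_comm]
  obtain ⟨Lam, hLamt⟩ := hLam
  have hLamμ : ∀ r : A' ⊗[A] B, Lam (μ r) = residue B' (algebraMap (A' ⊗[A] B) B' r) := by
    intro r
    induction r using TensorProduct.induction_on with
    | zero => rw [map_zero, map_zero, map_zero, map_zero]
    | tmul a' b =>
      change Lam ((residue A' a') ⊗ₜ[A] ((1 : ResidueField A) ⊗ₜ[A] (b • n))) = _
      rw [hLamt, hlam, hφt, map_mul]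
      congr 1
    | add x y hx hy => rw [map_add, map_add, hx, hy, map_add, map_add]
  -- contradiction
  apply hr
  rw [← residue_eq_zero_iff, ← hLamμ, ← hΘr, hΘkill _ hrn, map_zero]

end Main

end Groth.Agent.Lib.Helper10.FibreNonvanish
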