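import Groth.Agent.Lib.Helper10.FibreProductStalk
import Groth.Agent.Lib.Helper10.FibreNonvanish

/-!
# Non-vanishing of fibres of a quasi-coherent module under base change (helper10)
-/

universe u
open CategoryTheory CategoryTheory.Limits AlgebraicGeometry Opposite TopologicalSpace
open scoped TensorProduct
open IsLocalRing

namespace Groth.Agent.Lib.Helper10.FibreNonvanish

theorem smul_top_eq_top_of_linearEquiv {R M M' : Type*} [CommRing R] [AddCommGroup M]
    [AddCommGroup M'] [Module R M] [Module R M'] (I : Ideal R) (e : M ≃ₗ[R] M')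
    (h : I • (⊤ : Submodule R M) = ⊤) : I • (⊤ : Submodule R M') = ⊤ := by
  have h1 := congrArg (Submodule.map e.toLinearMap) h
  rw [Submodule.map_smul'', Submodule.map_top, LinearEquiv.range] at h1
  exact h1

open Groth.Agent.Lib.Helper10.PullbackStalk Groth.Agent.Lib.Helper10.FibreProductStalk

variable {X S X' S' : Scheme.{u}} {f : X ⟶ S} {f' : X' ⟶ S'} {g' : X' ⟶ X} {g : S' ⟶ S}

/-- If the fibre of `F` at `g' x'` over `S` is non-zero, then the fibre of `g'^* F` at `x'` over
`S'` is non-zero. -/
theorem smul_top_ne_top_pullback (hc : IsPullback g' f' f g) (x' : X') (F : X.Modules)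
    [F.IsQuasicoherent]
    (h : letI := FlatMod.moduleStalkOver f F (g'.base x')
      maximalIdeal (S.presheaf.stalk (f.base (g'.base x'))) •
        (⊤ : Submodule (S.presheaf.stalk (f.base (g'.base x'))) (F.presheaf.stalk (g'.base x'))) ≠ ⊤) :
    letI := FlatMod.moduleStalkOver f' ((Scheme.Modules.pullback g').obj F) x'
    maximalIdeal (S'.presheaf.stalk (f'.base x')) •
      (⊤ : Submodule (S'.presheaf.stalk (f'.base x'))
        (((Scheme.Modules.pullback g').obj F).presheaf.stalk x')) ≠ ⊤ := by
  let _ : Algebra (S.presheaf.stalk (f.base (g'.base x'))) (X.presheaf.stalk (g'.base x')) :=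
    (f.stalkMap (g'.base x')).hom.toAlgebra
  let _ : Algebra (S.presheaf.stalk (f.base (g'.base x'))) (S'.presheaf.stalk (f'.base x')) :=
    (baseStalkMap hc x').hom.toAlgebra
  let _ : Algebra (X.presheaf.stalk (g'.base x')) (X'.presheaf.stalk x') :=
    (g'.stalkMap x').hom.toAlgebra
  let _ : Algebra (S'.presheaf.stalk (f'.base x')) (X'.presheaf.stalk x') :=
    (f'.stalkMap x').hom.toAlgebra
  let _ : Algebra (S.presheaf.stalk (f.base (g'.base x'))) (X'.presheaf.stalk x') :=
    (f.stalkMap (g'.base x') ≫ g'.stalkMap x').hom.toAlgebra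
  have : IsScalarTower (S.presheaf.stalk (f.base (g'.base x'))) (X.presheaf.stalk (g'.base x'))
      (X'.presheaf.stalk x') := IsScalarTower.of_algebraMap_eq fun a => rfl
  have : IsScalarTower (S.presheaf.stalk (f.base (g'.base x'))) (S'.presheaf.stalk (f'.base x'))
      (X'.presheaf.stalk x') := by
    refine IsScalarTower.of_algebraMap_eq fun a => ?_
    change (f.stalkMap (g'.base x') ≫ g'.stalkMap x').hom a =
      (baseStalkMap hc x' ≫ f'.stalkMap x').hom a
    rw [stalkMap_comp_eq hc x']
  let _ : Module (S.presheaf.stalk (f.base (g'.base x'))) (F.presheaf.stalk (g'.base x')) :=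
    FlatMod.moduleStalkOver f F (g'.base x')
  have : IsScalarTower (S.presheaf.stalk (f.base (g'.base x'))) (X.presheaf.stalk (g'.base x'))
      (F.presheaf.stalk (g'.base x')) := IsScalarTower.of_algebraMap_smul fun a m => rfl
  let _ : Module (S'.presheaf.stalk (f'.base x'))
      (((Scheme.Modules.pullback g').obj F).presheaf.stalk x') :=
    FlatMod.moduleStalkOver f' ((Scheme.Modules.pullback g').obj F) x'
  have : IsScalarTower (S'.presheaf.stalk (f'.base x')) (X'.presheaf.stalk x')
      (((Scheme.Modules.pullback g').obj F).presheaf.stalk x') :=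
    IsScalarTower.of_algebraMap_smul fun a m => rfl
  have hl1 : IsLocalHom (algebraMap (X.presheaf.stalk (g'.base x')) (X'.presheaf.stalk x')) :=
    inferInstanceAs (IsLocalHom (g'.stalkMap x').hom)
  have hl2 : IsLocalHom (algebraMap (S'.presheaf.stalk (f'.base x')) (X'.presheaf.stalk x')) :=
    inferInstanceAs (IsLocalHom (f'.stalkMap x').hom)
  have hl3 : IsLocalHom (algebraMap (S.presheaf.stalk (f.base (g'.base x')))
      (X'.presheaf.stalk x')) := by
    change IsLocalHom (f.stalkMap (g'.base x') ≫ g'.stalkMap x').hom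
    rw [CommRingCat.hom_comp]
    infer_instance
  have hφ := flat_of_comp_include hc x'
    (Algebra.TensorProduct.productMap
      (IsScalarTower.toAlgHom (S.presheaf.stalk (f.base (g'.base x')))
        (S'.presheaf.stalk (f'.base x')) (X'.presheaf.stalk x'))
      (IsScalarTower.toAlgHom (S.presheaf.stalk (f.base (g'.base x')))
        (X.presheaf.stalk (g'.base x')) (X'.presheaf.stalk x'))).toRingHom
    (fun a => by simp; rfl) (fun b => by simp; rfl)
  have hne := smul_top_ne_top_baseChange (S.presheaf.stalk (f.base (g'.base x')))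
    (S'.presheaf.stalk (f'.base x')) (X.presheaf.stalk (g'.base x')) (X'.presheaf.stalk x')
    (F.presheaf.stalk (g'.base x')) hφ h
  obtain ⟨e⟩ := nonempty_stalk_pullback_equiv g' F x'
  intro hcon
  exact hne (smul_top_eq_top_of_linearEquiv _
    (e.restrictScalars (S'.presheaf.stalk (f'.base x'))) hcon)

end Groth.Agent.Lib.Helper10.FibreNonvanish
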