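import Mathlib

/-!
# Fibres of `P ⊗_B N` over `A` (helper10)

For a ring map `A → B`, a `B`-module `P` and a `B`-module `N`, and an ideal `I` of `A`:
* `smul_top_eq_top_tensor`: if `I N = N` then `I (P ⊗_B N) = P ⊗_B N`;
* `smul_top_ne_top_tensor`: if `P` is faithfully flat over `B` and `I N ≠ N` then
  `I (P ⊗_B N) ≠ P ⊗_B N`.
-/

universe u
open scoped TensorProduct

namespace Groth.Agent.Lib.Helper10.FibreNonvanish

section TensorFibre

variable (A B P N : Type*) [CommRing A] [CommRing B] [Algebra A B]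
  [AddCommGroup P] [Module A P] [Module B P] [IsScalarTower A B P]
  [AddCommGroup N] [Module A N] [Module B N] [IsScalarTower A B N]

theorem tmul_smul_comm' (c : A) (p : P) (n : N) : p ⊗ₜ[B] (c • n) = c • (p ⊗ₜ[B] n) := by
  rw [TensorProduct.smul_tmul', ← algebraMap_smul B c p, TensorProduct.smul_tmul,
    algebraMap_smul]

theorem smul_top_eq_top_tensor (I : Ideal A) (h : I • (⊤ : Submodule A N) = ⊤) :
    I • (⊤ : Submodule A (P ⊗[B] N)) = ⊤ := by
  rw [Submodule.eq_top_iff']
  intro w
  induction w using TensorProduct.induction_on with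
  | zero => exact zero_mem _
  | add x y hx hy => exact add_mem hx hy
  | tmul p n =>
    have hn : n ∈ I • (⊤ : Submodule A N) := by rw [h]; exact Submodule.mem_top
    refine Submodule.smul_induction_on (p := fun n => p ⊗ₜ[B] n ∈ I • (⊤ : Submodule A (P ⊗[B] N)))
      hn (fun c hc n' _ => ?_) (fun x y hx hy => ?_)
    · rw [tmul_smul_comm']
      exact Submodule.smul_mem_smul hc Submodule.mem_top
    · rw [TensorProduct.tmul_add]
      exact add_mem hx hy

theorem smul_top_ne_top_tensor [Module.FaithfullyFlat B P] (I : Ideal A)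
    (h : I • (⊤ : Submodule A N) ≠ ⊤) : I • (⊤ : Submodule A (P ⊗[B] N)) ≠ ⊤ := by
  intro hcon
  let J : Ideal B := I.map (algebraMap A B)
  let G₁ : Submodule B N := J • ⊤
  have F1 : ∀ n ∈ G₁, n ∈ I • (⊤ : Submodule A N) := by
    have aux : ∀ j ∈ J, ∀ n : N, j • n ∈ I • (⊤ : Submodule A N) := by
      intro j hj
      refine Submodule.span_induction (p := fun j _ => ∀ n : N, j • n ∈ I • (⊤ : Submodule A N))
        ?_ ?_ ?_ ?_ hj
      · rintro _ ⟨c, hc, rfl⟩ n
        rw [algebraMap_smul]
        exact Submodule.smul_mem_smul hc Submodule.mem_top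
      · intro n
        rw [zero_smul]
        exact zero_mem _
      · intro j₁ j₂ _ _ h₁ h₂ n
        rw [add_smul]
        exact add_mem (h₁ n) (h₂ n)
      · intro b j₁ _ h₁ n
        rw [smul_eq_mul, mul_comm, mul_smul]
        exact h₁ _
    intro n hn
    refine Submodule.smul_induction_on hn (fun j hj n' _ => aux j hj n')
      (fun x y hx hy => add_mem hx hy)
  have hG₁ : G₁ ≠ ⊤ := by
    intro hG
    apply h
    rw [Submodule.eq_top_iff']
    intro n
    exact F1 n (by rw [hG]; exact Submodule.mem_top)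
  haveI : Nontrivial (N ⧸ G₁) := Submodule.Quotient.nontrivial_iff.mpr hG₁
  haveI : Nontrivial (P ⊗[B] (N ⧸ G₁)) := Module.FaithfullyFlat.lTensor_nontrivial B P (N ⧸ G₁)
  let π : P ⊗[B] N →ₗ[B] P ⊗[B] (N ⧸ G₁) := LinearMap.lTensor P G₁.mkQ
  have hπs : Function.Surjective π := LinearMap.lTensor_surjective P G₁.mkQ_surjective
  have hJkill : ∀ j ∈ J, ∀ v : P ⊗[B] (N ⧸ G₁), j • v = 0 := by
    intro j hj v
    induction v using TensorProduct.induction_on with
    | zero => exact smul_zero _
    | add x y hx hy => rw [smul_add, hx, hy, add_zero]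
    | tmul p q =>
      obtain ⟨n, rfl⟩ := G₁.mkQ_surjective q
      rw [TensorProduct.smul_tmul', TensorProduct.smul_tmul, ← map_smul]
      have : G₁.mkQ (j • n) = 0 := by
        rw [Submodule.mkQ_apply, Submodule.Quotient.mk_eq_zero]
        exact Submodule.smul_mem_smul hj Submodule.mem_top
      rw [this, TensorProduct.tmul_zero]
  have hπ0 : ∀ w : P ⊗[B] N, π w = 0 := by
    intro w
    have hw : w ∈ I • (⊤ : Submodule A (P ⊗[B] N)) := by rw [hcon]; exact Submodule.mem_top
    refine Submodule.smul_induction_on hw (fun c hc w' _ => ?_)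
      (fun x y hx hy => by rw [map_add, hx, hy, add_zero])
    rw [← algebraMap_smul B c w', map_smul]
    exact hJkill _ (Ideal.mem_map_of_mem _ hc) _
  obtain ⟨v, hv⟩ := exists_ne (0 : P ⊗[B] (N ⧸ G₁))
  obtain ⟨w, rfl⟩ := hπs v
  exact hv (hπ0 w)

end TensorFibre

end Groth.Agent.Lib.Helper10.FibreNonvanish
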