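import Groth.Agent.Lib.Helper10.MagnetDom
import Groth.Agent.Lib.Helper21.DSPts
import Mathlib.AlgebraicGeometry.Sites.Fpqc
import Mathlib.RingTheory.RingHom.FaithfullyFlat

/-!
# The attractor of a subgroup magnet is the fixed-point functor of the quotient diagonalizable group

For a commutative group `M`, a subgroup `Z` and an action of `D(M)_S` on `X`, the attractor `X^Z`
is identified with the fixed points of `D(M/Z)_S`: `D(M)_S → D(Z)_S` is an fpqc torsor under
`D(M/Z)_S` (the monoid algebra `R[M]` is free over `R[Z]`), and orbit maps of fixed points descend.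
-/

set_option autoImplicit false
universe u
open CategoryTheory CategoryTheory.Limits MonoidalCategory CartesianMonoidalCategory MonObj AlgebraicGeometry Opposite
open Magnet
open Groth.Agent.Lib.Helper21.GaPts

namespace Groth.Agent.Lib.Helper10.MagnetQuot

/-! ### Ring level: `R[G]` is free over `R[H]` for a subgroup `H` -/

section Ring
open MonoidAlgebra

variable {R : Type*} [CommRing R] {G H : Type*} [CommGroup G] [CommMonoid H]

/-- the subgroup `range i` for a monoid hom with inverse-closed range. -/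
def rangeSubgroup (i : H →* G) (hinv : ∀ h, ∃ h', i h' = (i h)⁻¹) : Subgroup G where
  carrier := Set.range i
  mul_mem' := by
    rintro _ _ ⟨a, rfl⟩ ⟨b, rfl⟩
    exact ⟨a * b, map_mul i a b⟩
  one_mem' := ⟨1, map_one i⟩
  inv_mem' := by
    rintro _ ⟨a, rfl⟩
    exact hinv a

theorem exists_rep (i : H →* G) (hinv : ∀ h, ∃ h', i h' = (i h)⁻¹) (g : G) :
    ∃ h : H, g = Quotient.out (g : G ⧸ rangeSubgroup i hinv) * i h := by
  have h1 : ((Quotient.out (g : G ⧸ rangeSubgroup i hinv) : G) : G ⧸ rangeSubgroup i hinv) = g :=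
    Quotient.out_eq' _
  rw [QuotientGroup.eq] at h1
  obtain ⟨h, hh⟩ := h1
  exact ⟨h, by rw [hh]; group⟩

/-- the coordinate in `H` of `g` relative to the chosen coset representative. -/
noncomputable def coord (i : H →* G) (hinv : ∀ h, ∃ h', i h' = (i h)⁻¹) (g : G) : H :=
  (exists_rep i hinv g).choose

theorem coord_spec (i : H →* G) (hinv : ∀ h, ∃ h', i h' = (i h)⁻¹) (g : G) :
    g = Quotient.out (g : G ⧸ rangeSubgroup i hinv) * i (coord i hinv g) :=
  (exists_rep i hinv g).choose_spec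

theorem mk_out_mul (i : H →* G) (hinv : ∀ h, ∃ h', i h' = (i h)⁻¹) (c : G ⧸ rangeSubgroup i hinv) (h : H) :
    ((Quotient.out c * i h : G) : G ⧸ rangeSubgroup i hinv) = c := by
  rw [QuotientGroup.mk_mul_of_mem _ (show i h ∈ rangeSubgroup i hinv from ⟨h, rfl⟩)]
  exact Quotient.out_eq' c

theorem coord_out_mul (i : H →* G) (hi : Function.Injective i) (hinv : ∀ h, ∃ h', i h' = (i h)⁻¹)
    (c : G ⧸ rangeSubgroup i hinv) (h : H) :
    coord i hinv (Quotient.out c * i h) = h := by
  have h1 := coord_spec i hinv (Quotient.out c * i h)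
  rw [mk_out_mul] at h1
  exact (hi (mul_left_cancel h1)).symm

/-- The group algebra `R[G]` is free, hence faithfully flat, over `R[H]` for a subgroup `H`. -/
theorem faithfullyFlat_of_single [Nontrivial R] (i : H →* G) (hi : Function.Injective i)
    (hinv : ∀ h, ∃ h', i h' = (i h)⁻¹) (f : MonoidAlgebra R H →+* MonoidAlgebra R G)
    (hf : ∀ h r, f (single h r) = single (i h) r) : f.FaithfullyFlat := by
  let _ : Algebra (MonoidAlgebra R H) (MonoidAlgebra R G) := f.toAlgebra
  change Module.FaithfullyFlat (MonoidAlgebra R H) (MonoidAlgebra R G)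
  let Q := G ⧸ rangeSubgroup i hinv
  let v : Q → MonoidAlgebra R G := fun c => single (Quotient.out c) 1
  let L : (Q →₀ MonoidAlgebra R H) →ₗ[MonoidAlgebra R H] MonoidAlgebra R G :=
    Finsupp.linearCombination (MonoidAlgebra R H) v
  have hL : ∀ (c : Q) (h : H) (r : R), L (Finsupp.single c (single h r)) =
      single (Quotient.out c * i h) r := by
    intro c h r
    change Finsupp.linearCombination (MonoidAlgebra R H) v (Finsupp.single c (single h r)) = _
    rw [Finsupp.linearCombination_single]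
    change f (single h r) * single (Quotient.out c) 1 = _
    rw [hf, single_mul_single, _root_.mul_one, _root_.mul_comm]
  let e' : MonoidAlgebra R G →+ (Q →₀ MonoidAlgebra R H) :=
    (Finsupp.liftAddHom (fun g : G => (Finsupp.singleAddHom ((g : G) : Q)).comp
      (MonoidAlgebra.singleAddHom (R := R) (coord i hinv g)))).comp coeffAddEquiv.toAddMonoidHom
  have he' : ∀ (g : G) (r : R), e' (single g r) =
      Finsupp.single ((g : G) : Q) (single (coord i hinv g) r) := by
    intro g r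
    change Finsupp.liftAddHom _ (Finsupp.single g r) = _
    rw [Finsupp.liftAddHom_apply_single]
    rfl
  have c1 : ∀ x, L (e' x) = x := by
    have : L.toAddMonoidHom.comp e' = AddMonoidHom.id _ := by
      apply MonoidAlgebra.addMonoidHom_ext
      intro g r
      change L (e' (single g r)) = single g r
      rw [he', hL, ← coord_spec]
    intro x
    exact DFunLike.congr_fun this x
  have c2 : ∀ y, e' (L y) = y := by
    have : e'.comp L.toAddMonoidHom = AddMonoidHom.id _ := by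
      apply Finsupp.addHom_ext'
      intro c
      apply MonoidAlgebra.addMonoidHom_ext
      intro h r
      change e' (L (Finsupp.single c (single h r))) = Finsupp.single c (single h r)
      rw [hL, he', mk_out_mul, coord_out_mul i hi]
    intro y
    exact DFunLike.congr_fun this y
  have hbij : Function.Bijective L :=
    ⟨Function.LeftInverse.injective c2, Function.RightInverse.surjective c1⟩
  have : Module.Free (MonoidAlgebra R H) (MonoidAlgebra R G) :=
    Module.Free.of_equiv (LinearEquiv.ofBijective L hbij)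
  infer_instance

end Ring

/-! ### fpqc morphisms and whiskering in `Over S` -/

section Whisker

variable {S : Scheme.{u}}

theorem isPullback_whiskerRight_left {Y Y' : Over S} (f : Y ⟶ Y') (W : Over S) :
    IsPullback (f ▷ W).left (pullback.fst Y.hom W.hom) (pullback.fst Y'.hom W.hom) f.left := by
  refine IsPullback.of_right (h₁₂ := pullback.snd Y'.hom W.hom) (v₁₃ := W.hom) (h₂₂ := Y'.hom) ?_
    (Over.whiskerRight_left_fst f) (IsPullback.of_hasPullback Y'.hom W.hom).flip
  rw [Over.whiskerRight_left_snd, Over.w f]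
  exact (IsPullback.of_hasPullback Y.hom W.hom).flip

theorem isPullback_whiskerLeft_left {Y Y' : Over S} (f : Y ⟶ Y') (W : Over S) :
    IsPullback (W ◁ f).left (pullback.snd W.hom Y.hom) (pullback.snd W.hom Y'.hom) f.left := by
  refine IsPullback.of_right (h₁₂ := pullback.fst W.hom Y'.hom) (v₁₃ := W.hom) (h₂₂ := Y'.hom) ?_
    (Over.whiskerLeft_left_snd f) (IsPullback.of_hasPullback W.hom Y'.hom)
  rw [Over.whiskerLeft_left_fst, Over.w f]
  exact IsPullback.of_hasPullback W.hom Y.hom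

/-- fpqc coverings consisting of a single morphism. -/
structure IsFpqc {X Y : Scheme.{u}} (f : X ⟶ Y) : Prop where
  flat : Flat f
  surj : Surjective f
  qc : QuasiCompact f

theorem IsFpqc.of_isPullback {P X Y Z : Scheme.{u}} {f' : P ⟶ X} {g' : P ⟶ Y} {f : X ⟶ Z} {g : Y ⟶ Z}
    (h : IsPullback f' g' f g) (hg : IsFpqc g) : IsFpqc f' :=
  ⟨MorphismProperty.of_isPullback h.flip hg.flat, MorphismProperty.of_isPullback h.flip hg.surj,
    MorphismProperty.of_isPullback h.flip hg.qc⟩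

theorem IsFpqc.epi {X Y : Scheme.{u}} {f : X ⟶ Y} (h : IsFpqc f) : Epi f := by
  have := h.flat
  have := h.surj
  exact Flat.epi_of_flat_of_surjective f

theorem IsFpqc.effectiveEpi {X Y : Scheme.{u}} {f : X ⟶ Y} (h : IsFpqc f) : EffectiveEpi f := by
  have := h.flat
  have := h.surj
  have := h.qc
  infer_instance

theorem isFpqc_SpecMap {R₁ R₂ : CommRingCat.{u}} (f : R₁ ⟶ R₂) (h : f.hom.FaithfullyFlat) :
    IsFpqc (Spec.map f) := by
  obtain ⟨h1, h2⟩ := (flat_and_surjective_SpecMap_iff _).2 h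
  exact ⟨h1, h2, inferInstance⟩

theorem IsFpqc.whiskerRight {Y Y' : Over S} {f : Y ⟶ Y'} (h : IsFpqc f.left) (W : Over S) :
    IsFpqc (f ▷ W).left :=
  IsFpqc.of_isPullback (isPullback_whiskerRight_left f W) h

theorem IsFpqc.whiskerLeft {Y Y' : Over S} {f : Y ⟶ Y'} (h : IsFpqc f.left) (W : Over S) :
    IsFpqc (W ◁ f).left :=
  IsFpqc.of_isPullback (isPullback_whiskerLeft_left f W) h

theorem epi_of_isFpqc_left {Y Y' : Over S} {f : Y ⟶ Y'} (h : IsFpqc f.left) : Epi f := by
  have := h.epi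
  exact (Over.forget S).epi_of_epi_map this

end Whisker

/-! ### The zero map and base change squares -/

section Zero

variable (R : Type u) [CommRing R] {N P : Type} [AddCommMonoid N] [AddCommMonoid P]

theorem AMon_map_zero : AMon.map R (0 : N →+ P) = toUnit (AMon R P) ≫ η[AMon R N] := by
  ext : 1
  rw [AMon.map_left, Over.comp_left, Over.toUnit_left, one_spec_asOver_spec_left]
  change _ = Spec.map (CommRingCat.ofHom (algebraMap R _)) ≫ _
  rw [← Spec.map_comp, ← CommRingCat.ofHom_comp]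
  congr 2
  apply MonoidAlgebra.ringHom_ext
  · intro r; simp
  · intro m; simp

theorem AMonS_map_zero (S : Scheme.{u}) :
    AMonS.map S (0 : N →+ P) = toUnit (AMonS S P) ≫ η[AMonS S N] := by
  rw [AMonS.map, AMon_map_zero, Functor.map_comp]
  change _ = _ ≫ Functor.LaxMonoidal.ε (Over.pullback _) ≫ (Over.pullback _).map η
  rw [← Category.assoc]
  congr 1
  rw [← cancel_mono (Functor.OplaxMonoidal.η (Over.pullback (Limits.IsTerminal.from specULiftZIsTerminal S)))]
  exact toUnit_unique _ _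

end Zero

theorem AMonS_map_eq_DSmap (S : Scheme.{u}) {M N : Type} [AddCommGroup M] [AddCommGroup N] (φ : M →+ N) :
    AMonS.map S φ = Red.DSmap S φ := rfl

theorem isPullback_AMonS_map_left (S : Scheme.{u}) {M N : Type} [AddCommMonoid M] [AddCommMonoid N]
    (j : N →+ M) :
    IsPullback (AMonS.map S j).left
      (pullback.fst (AMon (ULift.{u} ℤ) M).hom (Limits.IsTerminal.from specULiftZIsTerminal S))
      (pullback.fst (AMon (ULift.{u} ℤ) N).hom (Limits.IsTerminal.from specULiftZIsTerminal S))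
      (AMon.map (ULift.{u} ℤ) j).left := by
  have e2 : (AMonS.map S j).left ≫ pullback.fst (AMon (ULift.{u} ℤ) N).hom
        (Limits.IsTerminal.from specULiftZIsTerminal S) =
      pullback.fst (AMon (ULift.{u} ℤ) M).hom (Limits.IsTerminal.from specULiftZIsTerminal S) ≫
        (AMon.map (ULift.{u} ℤ) j).left := pullback.lift_fst _ _ _
  have e3 : (AMonS.map S j).left ≫ pullback.snd (AMon (ULift.{u} ℤ) N).hom
        (Limits.IsTerminal.from specULiftZIsTerminal S) =
      pullback.snd (AMon (ULift.{u} ℤ) M).hom (Limits.IsTerminal.from specULiftZIsTerminal S) :=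
    pullback.lift_snd _ _ _
  refine IsPullback.of_right (h₁₂ := pullback.snd (AMon (ULift.{u} ℤ) N).hom
      (Limits.IsTerminal.from specULiftZIsTerminal S))
    (v₁₃ := Limits.IsTerminal.from specULiftZIsTerminal S) (h₂₂ := (AMon (ULift.{u} ℤ) N).hom) ?_ e2
    (IsPullback.of_hasPullback _ _).flip
  rw [e3, Over.w (AMon.map (ULift.{u} ℤ) j)]
  exact (IsPullback.of_hasPullback _ _).flip

/-! ### The quotient `D(M) → D(Z)` -/

section Main

variable (S : Scheme.{u}) {M : Type} [AddCommGroup M] (Z : AddSubgroup M)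

theorem isFpqc_AMon_map_left :
    IsFpqc (AMon.map (ULift.{u} ℤ) Z.toAddSubmonoid.subtype).left := by
  rw [AMon.map_left]
  have hff : (CommRingCat.ofHom (MonoidAlgebra.mapDomainBialgHom (ULift.{u} ℤ)
      (AddMonoidHom.toMultiplicative Z.toAddSubmonoid.subtype)).toAlgHom.toRingHom).hom.FaithfullyFlat := by
    refine faithfullyFlat_of_single (AddMonoidHom.toMultiplicative Z.toAddSubmonoid.subtype) ?_ ?_ _ ?_
    · intro a b h
      exact Subtype.ext h
    · rintro ⟨z, hz⟩
      exact ⟨Multiplicative.ofAdd ⟨-z, Z.neg_mem hz⟩, rfl⟩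
    · intro h r
      exact MonoidAlgebra.mapDomainBialgHom_single _ _ _
  exact isFpqc_SpecMap _ hff

theorem isFpqc_AMonS_map_left :
    IsFpqc (AMonS.map S Z.toAddSubmonoid.subtype).left :=
  IsFpqc.of_isPullback (isPullback_AMonS_map_left S _) (isFpqc_AMon_map_left Z)

theorem quot_comp_sub :
    AMonS.map S (QuotientAddGroup.mk' Z) ≫ AMonS.map S Z.toAddSubmonoid.subtype =
      toUnit _ ≫ η[AMonS S Z.toAddSubmonoid] := by
  rw [← AMonS.map_comp, ← AMonS_map_zero]
  congr 1
  ext ⟨z, hz⟩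
  exact (QuotientAddGroup.eq_zero_iff z).2 hz

/-- a point of `D(M)` killed by `D(M) → D(Z)` has trivial character values on `Z`. -/
theorem dsFn_eq_one_of_comp_eq_one {W : Over S} (k : W ⟶ AMonS S M)
    (hk : k ≫ AMonS.map S Z.toAddSubmonoid.subtype = toUnit W ≫ η[AMonS S Z.toAddSubmonoid])
    (z : M) (hz : z ∈ Z) : dsFn z (k : W ⟶ Red.DS S M) = 1 := by
  let c : ℤ →+ ↥Z.toAddSubmonoid :=
    (zmultiplesHom M z).codRestrict Z.toAddSubmonoid (fun n => Z.zsmul_mem hz n)
  have h1 : Z.toAddSubmonoid.subtype.comp c = zmultiplesHom M z := by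
    ext
    rfl
  have h2 : k ≫ AMonS.map S Z.toAddSubmonoid.subtype ≫ AMonS.map S c =
      k ≫ Red.DSmap S (zmultiplesHom M z) := by
    rw [← AMonS.map_comp, h1]
    rfl
  have h3 : k ≫ AMonS.map S Z.toAddSubmonoid.subtype ≫ AMonS.map S c =
      (1 : W ⟶ Red.DS S ℤ) := by
    rw [← Category.assoc, hk, Category.assoc, IsMonHom.one_hom]
    rfl
  have h4 := dsFn_DSmap (S := S) (zmultiplesHom M z) (1 : ℤ) (k : W ⟶ Red.DS S M)
  rw [← h2, h3, dsFn_one] at h4
  rw [h4]
  simp

/-- exactness of `D(M/Z) → D(M) → D(Z)` on points. -/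
theorem exists_lift_of_comp_eq_one {W : Over S} (k : W ⟶ AMonS S M)
    (hk : k ≫ AMonS.map S Z.toAddSubmonoid.subtype = toUnit W ≫ η[AMonS S Z.toAddSubmonoid]) :
    ∃ k' : W ⟶ AMonS S (M ⧸ Z), k' ≫ AMonS.map S (QuotientAddGroup.mk' Z) = k := by
  let ψ : M →+ Additive Γ(W.left, ⊤) := MonoidHom.toAdditiveRight (dsChar (k : W ⟶ Red.DS S M))
  have hψ : ∀ z ∈ Z, ψ z = 0 := by
    intro z hz
    exact congrArg Additive.ofMul (dsFn_eq_one_of_comp_eq_one S Z k hk z hz)
  let ψ' : M ⧸ Z →+ Additive Γ(W.left, ⊤) := QuotientAddGroup.lift Z ψ hψ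
  let χ' : Multiplicative (M ⧸ Z) →* Γ(W.left, ⊤) := AddMonoidHom.toMultiplicativeLeft ψ'
  refine ⟨(dsPt χ' : W ⟶ Red.DS S (M ⧸ Z)), ?_⟩
  apply dsFn_injective (S := S) (M := M)
  intro m
  rw [AMonS_map_eq_DSmap, dsFn_DSmap, dsFn_dsPt]
  rfl

end Main

/-! ### Descent of orbit maps and the main theorem -/

section Desc

variable {S : Scheme.{u}} {M : Type} [AddCommGroup M] (Z : AddSubgroup M) {X : Over S}
  (a : MonAct (AMonS S M) X)

/-- The orbit map of a point fixed by `D(M/Z)` descends along `D(M) × T → D(Z) × T`. -/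
theorem exists_desc (T : Over S) (x : T ⟶ X)
    (hx : ∀ (T' : Over S) (t : T' ⟶ T) (g : T' ⟶ AMonS S (M ⧸ Z)),
      lift (g ≫ AMonS.map S (QuotientAddGroup.mk' Z)) (t ≫ x) ≫ a.act = t ≫ x) :
    ∃ φ : AMonS S Z.toAddSubmonoid ⊗ T ⟶ X,
      (AMonS.map S Z.toAddSubmonoid.subtype ▷ T) ≫ φ = (AMonS S M ◁ x) ≫ a.act := by
  set π := AMonS.map S Z.toAddSubmonoid.subtype with hπ
  set o := (AMonS S M ◁ x) ≫ a.act with ho
  have hfpqc : IsFpqc (π ▷ T).left := (isFpqc_AMonS_map_left S Z).whiskerRight T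
  have heff : EffectiveEpi (π ▷ T).left := hfpqc.effectiveEpi
  have hepi : Epi (π ▷ T).left := hfpqc.epi
  have hker : ∀ {W₀ : Scheme.{u}} (g₁ g₂ : W₀ ⟶ (AMonS S M ⊗ T).left),
      g₁ ≫ (π ▷ T).left = g₂ ≫ (π ▷ T).left → g₁ ≫ o.left = g₂ ≫ o.left := by
    intro W₀ g₁ g₂ hg
    let W : Over S := Over.mk (g₁ ≫ (AMonS S M ⊗ T).hom)
    let p₁ : W ⟶ AMonS S M ⊗ T := Over.homMk g₁ rfl
    have hg₂ : g₂ ≫ (AMonS S M ⊗ T).hom = g₁ ≫ (AMonS S M ⊗ T).hom := by
      rw [← Over.w (π ▷ T), ← Category.assoc, ← hg, Category.assoc]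
    let p₂ : W ⟶ AMonS S M ⊗ T := Over.homMk g₂ hg₂
    have hp : p₁ ≫ (π ▷ T) = p₂ ≫ (π ▷ T) := by
      apply Over.OverMorphism.ext
      exact hg
    suffices h : p₁ ≫ o = p₂ ≫ o from congrArg (fun q => q.left) h
    have e1 : p₁ = lift (p₁ ≫ fst _ _) (p₁ ≫ snd _ _) := (lift_comp_fst_snd p₁).symm
    have e2 : p₂ = lift (p₂ ≫ fst _ _) (p₂ ≫ snd _ _) := (lift_comp_fst_snd p₂).symm
    generalize p₁ ≫ fst _ _ = m₁ at e1
    generalize p₁ ≫ snd _ _ = t₁ at e1
    generalize p₂ ≫ fst _ _ = m₂ at e2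
    generalize p₂ ≫ snd _ _ = t₂ at e2
    rw [e1, e2] at hp ⊢
    rw [lift_whiskerRight, lift_whiskerRight] at hp
    have hm : m₁ ≫ π = m₂ ≫ π := by
      have := congrArg (fun q => q ≫ fst _ _) hp
      simpa using this
    have ht : t₁ = t₂ := by
      have := congrArg (fun q => q ≫ snd _ _) hp
      simpa using this
    subst ht
    let k : W ⟶ AMonS S M := m₂⁻¹ * m₁
    have hk : k ≫ π = toUnit W ≫ η[AMonS S Z.toAddSubmonoid] := by
      change (m₂⁻¹ * m₁) ≫ π = _
      rw [MonObj.mul_comp, hm, ← MonObj.mul_comp, inv_mul_cancel, MonObj.one_comp]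
      rfl
    obtain ⟨k', hk'⟩ := exists_lift_of_comp_eq_one S Z k hk
    have hm₁ : m₁ = m₂ * k := by
      change m₁ = m₂ * (m₂⁻¹ * m₁)
      rw [mul_inv_cancel_left]
    rw [ho, lift_whiskerLeft_assoc, lift_whiskerLeft_assoc, hm₁, MonAct.lift_mul_act, ← hk',
      hx W t₁ k']
  let φ₀ := EffectiveEpi.desc (π ▷ T).left o.left hker
  have hφ₀ : (π ▷ T).left ≫ φ₀ = o.left := EffectiveEpi.fac _ _ _
  have hw : φ₀ ≫ X.hom = (AMonS S Z.toAddSubmonoid ⊗ T).hom := by
    rw [← cancel_epi (π ▷ T).left, ← Category.assoc, hφ₀, Over.w o, Over.w (π ▷ T)]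
  refine ⟨Over.homMk φ₀ hw, ?_⟩
  ext : 1
  exact hφ₀

/-- A morphism out of `D(Z) × T` restricting to an orbit map is equivariant. -/
theorem isEquivariant_of_comp_eq_orbit (T : Over S) (x : T ⟶ X)
    (φ : AMonS S Z.toAddSubmonoid ⊗ T ⟶ X)
    (h : (AMonS.map S Z.toAddSubmonoid.subtype ▷ T) ≫ φ = (AMonS S M ◁ x) ≫ a.act) :
    MonAct.IsEquivariant ((subAct S M Z.toAddSubmonoid).prod (MonAct.trivial (AMonS S M) T)) a φ := by
  set π := AMonS.map S Z.toAddSubmonoid.subtype with hπ
  have hepi : Epi (AMonS S M ◁ (π ▷ T)) :=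
    epi_of_isFpqc_left (((isFpqc_AMonS_map_left S Z).whiskerRight T).whiskerLeft (AMonS S M))
  unfold MonAct.IsEquivariant
  rw [← cancel_epi (AMonS S M ◁ (π ▷ T))]
  apply hom_ext_lift₂
  intro T' g z
  rw [← lift_comp_fst_snd z]
  generalize z ≫ fst _ _ = m
  generalize z ≫ snd _ _ = t
  have hval : ∀ (m' : T' ⟶ AMonS S M), lift (m' ≫ π) t ≫ φ = lift m' (t ≫ x) ≫ a.act := by
    intro m'
    rw [← lift_whiskerRight_assoc, h, lift_whiskerLeft_assoc]
  have hL : lift g (lift m t) ≫ (AMonS S M ◁ (π ▷ T)) ≫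
      ((subAct S M Z.toAddSubmonoid).prod (MonAct.trivial (AMonS S M) T)).act ≫ φ =
      lift (g * m) (t ≫ x) ≫ a.act := by
    rw [lift_whiskerLeft_assoc, lift_whiskerRight, MonAct.lift_prod_act_assoc,
      MonAct.lift_trivial_act, subAct, MonAct.lift_restrict_act, MonAct.lift_regular_act,
      ← MonObj.mul_comp, hval]
  have hR : lift g (lift m t) ≫ (AMonS S M ◁ (π ▷ T)) ≫ (AMonS S M ◁ φ) ≫ a.act =
      lift g (lift m (t ≫ x) ≫ a.act) ≫ a.act := by
    rw [lift_whiskerLeft_assoc, lift_whiskerLeft_assoc, lift_whiskerRight, hval]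
  rw [hL, hR, MonAct.lift_mul_act]

/-- Evaluation at the unit of an equivariant family lands in the `D(M/Z)`-fixed points. -/
theorem eval_fixed (T : Over S) (φ : AMonS S Z.toAddSubmonoid ⊗ T ⟶ X)
    (hφ : MonAct.IsEquivariant
      ((subAct S M Z.toAddSubmonoid).prod (MonAct.trivial (AMonS S M) T)) a φ)
    (T' : Over S) (t : T' ⟶ T) (g : T' ⟶ AMonS S (M ⧸ Z)) :
    lift g (t ≫ lift (toUnit T ≫ η[AMonS S Z.toAddSubmonoid]) (𝟙 T) ≫ φ) ≫
        (a.restrict (AMonS.map S (QuotientAddGroup.mk' Z))).act =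
      t ≫ lift (toUnit T ≫ η[AMonS S Z.toAddSubmonoid]) (𝟙 T) ≫ φ := by
  rw [MonAct.mem_eqvHom_iff] at hφ
  have h1 : t ≫ lift (toUnit T ≫ η[AMonS S Z.toAddSubmonoid]) (𝟙 T) ≫ φ =
      lift (1 : T' ⟶ AMonS S Z.toAddSubmonoid) t ≫ φ := by
    rw [← Category.assoc, comp_lift, Category.comp_id, ← Category.assoc,
      toUnit_unique (t ≫ toUnit T) (toUnit T'), ← Hom.one_def]
  rw [h1, MonAct.lift_restrict_act]
  have h2 := hφ T' (g ≫ AMonS.map S (QuotientAddGroup.mk' Z)) 1 t
  have h3 : lift (g ≫ AMonS.map S (QuotientAddGroup.mk' Z)) (1 : T' ⟶ AMonS S Z.toAddSubmonoid) ≫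
      (subAct S M Z.toAddSubmonoid).act = 1 := by
    rw [subAct, MonAct.lift_restrict_act, MonAct.lift_regular_act, _root_.mul_one, Category.assoc,
      quot_comp_sub, ← Category.assoc, toUnit_unique (g ≫ toUnit _) (toUnit T'), ← Hom.one_def]
  rw [h3] at h2
  exact h2.symm

/-- The natural map from the attractor `X^Z` to the fixed points of `D(M/Z)`. -/
noncomputable def toFixed : attr a Z.toAddSubmonoid ⟶
    MonAct.fixedPsh (a.restrict (AMonS.map S (QuotientAddGroup.mk' Z))) where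
  app T := TypeCat.ofHom fun φ =>
    ⟨lift (toUnit (unop T) ≫ η[AMonS S Z.toAddSubmonoid]) (𝟙 (unop T)) ≫ φ.1,
      fun T' t g => eval_fixed Z a (unop T) φ.1 φ.2 T' t g⟩
  naturality T T' t := ConcreteCategory.hom_ext _ _ fun φ => Subtype.ext (by
    change lift (toUnit (unop T') ≫ η[AMonS S Z.toAddSubmonoid]) (𝟙 (unop T')) ≫
        (AMonS S Z.toAddSubmonoid ◁ t.unop) ≫ φ.1 =
      t.unop ≫ lift (toUnit (unop T) ≫ η[AMonS S Z.toAddSubmonoid]) (𝟙 (unop T)) ≫ φ.1
    rw [lift_whiskerLeft_assoc, Category.id_comp, ← Category.assoc t.unop, comp_lift,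
      Category.comp_id, ← Category.assoc, toUnit_unique (t.unop ≫ toUnit _) (toUnit _)])

theorem toFixed_comp : toFixed Z a ≫ MonAct.fixedPshι _ = attrToX a Z.toAddSubmonoid := by
  ext T φ
  rfl

theorem isIso_toFixed : IsIso (toFixed Z a) := by
  apply (config := {allowSynthFailures := true}) NatIso.isIso_of_isIso_app
  intro T
  rw [isIso_iff_bijective]
  have hepi : Epi (AMonS.map S Z.toAddSubmonoid.subtype ▷ unop T) :=
    epi_of_isFpqc_left ((isFpqc_AMonS_map_left S Z).whiskerRight (unop T))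
  constructor
  · intro φ ψ h
    have h' : lift (toUnit (unop T) ≫ η[AMonS S Z.toAddSubmonoid]) (𝟙 (unop T)) ≫ φ.1 =
        lift (toUnit (unop T) ≫ η[AMonS S Z.toAddSubmonoid]) (𝟙 (unop T)) ≫ ψ.1 :=
      congrArg Subtype.val h
    apply Subtype.ext
    rw [← cancel_epi (AMonS.map S Z.toAddSubmonoid.subtype ▷ unop T),
      Groth.Agent.Lib.Helper10.MagnetDom.whiskerRight_comp_eq_orbit
        (AMonS.map S Z.toAddSubmonoid.subtype) a φ.1 φ.2,
      Groth.Agent.Lib.Helper10.MagnetDom.whiskerRight_comp_eq_orbit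
        (AMonS.map S Z.toAddSubmonoid.subtype) a ψ.1 ψ.2, h']
  · intro x
    obtain ⟨φ, hφ⟩ := exists_desc Z a (unop T) x.1 (fun T' t g => by
      have := x.2 T' t g
      rwa [MonAct.lift_restrict_act] at this)
    refine ⟨⟨φ, isEquivariant_of_comp_eq_orbit Z a (unop T) x.1 φ hφ⟩, ?_⟩
    apply Subtype.ext
    change lift (toUnit (unop T) ≫ η[AMonS S Z.toAddSubmonoid]) (𝟙 (unop T)) ≫ φ = x.1
    have h1 : lift (toUnit (unop T) ≫ η[AMonS S Z.toAddSubmonoid]) (𝟙 (unop T)) =
        lift (1 : unop T ⟶ AMonS S M) (𝟙 (unop T)) ≫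
          (AMonS.map S Z.toAddSubmonoid.subtype ▷ unop T) := by
      rw [lift_whiskerRight, MonObj.one_comp]
      rfl
    rw [h1, Category.assoc, hφ, lift_whiskerLeft_assoc, Category.id_comp, MonAct.lift_one_act]

/-- **Main theorem**: the attractor of a subgroup magnet is the fixed-point functor of the
quotient diagonalizable group. -/
theorem exists_attr_iso_fixedPsh :
    ∃ e : attr a Z.toAddSubmonoid ≅
        MonAct.fixedPsh (a.restrict (AMonS.map S (QuotientAddGroup.mk' Z))),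
      e.hom ≫ MonAct.fixedPshι _ = attrToX a Z.toAddSubmonoid := by
  have := isIso_toFixed Z a
  exact ⟨asIso (toFixed Z a), toFixed_comp Z a⟩

end Desc

end Groth.Agent.Lib.Helper10.MagnetQuot
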