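import Mathlib
import Groth.Agent.Lib.Helper10.TrivLoc2
import Groth.Agent.Lib.Helper10.ClosedOrb2
import Groth.Agent.Lib.Helper10.MagnetQuot

/-!
# A finite group scheme over a field is the product of its reduced subgroup and its neutral
component (when the former exists)
-/

set_option autoImplicit false
set_option backward.isDefEq.respectTransparency.types false
set_option maxHeartbeats 4000000
set_option synthInstance.maxHeartbeats 400000
universe u
open CategoryTheory CategoryTheory.Limits AlgebraicGeometry MonoidalCategory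
  CartesianMonoidalCategory MonObj GrpObj

namespace Groth.Agent.Lib.Helper10.FinGrpSplit

open Groth.Agent.Lib.Helper10.TrivLoc Groth.Agent.Lib.Helper10.ClosedOrb
  Groth.Agent.Lib.Helper10.MagnetQuot

variable (k : Type u) [Field k]

theorem isLocallyArtinian_of_isFinite {X : Scheme.{u}} (f : X ⟶ Spec (CommRingCat.of k))
    [IsFinite f] : IsLocallyArtinian X := by
  obtain ⟨hA, hfin⟩ := (HasAffineProperty.iff_of_isAffine (P := @IsFinite)).mp ‹IsFinite f›
  haveI : IsArtinianRing Γ(Spec (CommRingCat.of k), ⊤) :=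
    (Scheme.ΓSpecIso (CommRingCat.of k)).commRingCatIsoToRingEquiv.symm.isArtinianRing
  letI : Algebra Γ(Spec (CommRingCat.of k), ⊤) Γ(X, ⊤) := f.appTop.hom.toAlgebra
  haveI : Module.Finite Γ(Spec (CommRingCat.of k), ⊤) Γ(X, ⊤) := hfin
  haveI : IsArtinianRing Γ(X, ⊤) := IsArtinianRing.of_finite Γ(Spec (CommRingCat.of k), ⊤) Γ(X, ⊤)
  haveI : IsLocallyArtinian (Spec Γ(X, ⊤)) := Scheme.isLocallyArtinianScheme_Spec.mpr inferInstance
  exact .of_isImmersion X.isoSpec.hom

variable {k}
variable {G Gr G₀ : Over (Spec (CommRingCat.of k))} [GrpObj G] [GrpObj Gr] [GrpObj G₀]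

section Key

variable [IsFinite G.hom] (r : Gr ⟶ G) [IsMonHom r] [IsClosedImmersion r.left] [IsReduced Gr.left]
  (i₀ : G₀ ⟶ G) [IsMonHom i₀] [IsOpenImmersion i₀.left] [ConnectedSpace ↥G₀.left]

include i₀ in
theorem subsingleton_neutral : Subsingleton ↥G₀.left := by
  haveI : IsLocallyArtinian G.left := isLocallyArtinian_of_isFinite k G.hom
  haveI : DiscreteTopology ↥G.left := inferInstance
  haveI : DiscreteTopology ↥G₀.left := i₀.left.isOpenEmbedding.discreteTopology
  exact PreconnectedSpace.trivial_of_discrete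

/-- a point of `G_red` landing in `G⁰` is trivial. -/
theorem eq_one_of_comp_eq {T : Over (Spec (CommRingCat.of k))} (c : T ⟶ Gr) (d : T ⟶ G₀)
    (h : c ≫ r = d ≫ i₀) : c = 1 := by
  haveI := subsingleton_neutral i₀
  let U : Gr.left.Opens := r.left ⁻¹ᵁ i₀.left.opensRange
  -- `U` is a subsingleton
  have hUsub : ∀ x y : ↥Gr.left, x ∈ U → y ∈ U → x = y := by
    rintro x y ⟨x', hx'⟩ ⟨y', hy'⟩
    apply r.left.isClosedEmbedding.injective
    rw [← hx', ← hy', Subsingleton.elim x' y']
  haveI : Subsingleton ↥(U : Scheme.{u}) :=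
    ⟨fun x y => Subtype.ext (hUsub x.1 y.1 x.2 y.2)⟩
  -- the unit section lands in `U`
  have hη : Set.range (η[Gr]).left.base ⊆ ((U : Gr.left.Opens) : Set ↥Gr.left) := by
    rintro _ ⟨t, rfl⟩
    refine ⟨(η[G₀]).left t, ?_⟩
    rw [← Scheme.Hom.comp_apply, ← Over.comp_left, IsMonHom.one_hom,
      ← Scheme.Hom.comp_apply, ← Over.comp_left, IsMonHom.one_hom]
  let η' : Spec (CommRingCat.of k) ⟶ (U : Scheme.{u}) :=
    IsOpenImmersion.lift U.ι (η[Gr]).left (by rwa [Scheme.Opens.range_ι])
  have hη' : η' ≫ U.ι = (η[Gr]).left := IsOpenImmersion.lift_fac _ _ _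
  haveI : Subsingleton ↥(Spec (CommRingCat.of k)) :=
    inferInstanceAs (Subsingleton (PrimeSpectrum k))
  have hret : η' ≫ (U.ι ≫ Gr.hom) = 𝟙 _ := by
    rw [← Category.assoc, hη']
    exact Over.w η[Gr]
  haveI : IsClosedImmersion η' := isClosedImmersion_of_comp_eq_id (U.ι ≫ Gr.hom) η' hret
  haveI : Surjective η' := by
    constructor
    intro y
    obtain ⟨t⟩ : Nonempty ↥(Spec (CommRingCat.of k)) :=
      inferInstanceAs (Nonempty (PrimeSpectrum k))
    exact ⟨t, Subsingleton.elim _ _⟩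
  haveI : IsIso η' := isIso_of_isClosedImmersion_of_surjective η'
  -- `c` factors through `U`
  have hc : Set.range c.left.base ⊆ ((U : Gr.left.Opens) : Set ↥Gr.left) := by
    rintro _ ⟨t, rfl⟩
    refine ⟨d.left t, ?_⟩
    rw [← Scheme.Hom.comp_apply, ← Over.comp_left, ← h, Over.comp_left, Scheme.Hom.comp_apply]
  let c' : T.left ⟶ (U : Scheme.{u}) :=
    IsOpenImmersion.lift U.ι c.left (by rwa [Scheme.Opens.range_ι])
  have hc' : c' ≫ U.ι = c.left := IsOpenImmersion.lift_fac _ _ _
  have hret' : (U.ι ≫ Gr.hom) ≫ η' = 𝟙 _ := by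
    rw [← cancel_epi η', ← Category.assoc, hret, Category.id_comp, Category.comp_id]
  have h1 : c' = (c' ≫ (U.ι ≫ Gr.hom)) ≫ η' := by
    rw [Category.assoc, hret', Category.comp_id]
  rw [Hom.one_def]
  ext1
  rw [Over.comp_left, ← hc', h1, Category.assoc, hη', ← Category.assoc c', hc', Over.w c]
  rfl

end Key

section Main

variable [IsFinite G.hom] (r : Gr ⟶ G) [IsMonHom r] [IsClosedImmersion r.left] [IsReduced Gr.left]
  [Surjective r.left]
  (i₀ : G₀ ⟶ G) [IsMonHom i₀] [IsOpenImmersion i₀.left] [ConnectedSpace ↥G₀.left]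

theorem mul_eq : (r ⊗ₘ i₀) ≫ μ[G] = (Gr ◁ i₀) ≫ translAct r := by
  rw [comp_translAct, whiskerLeft_fst, whiskerLeft_snd, Hom.mul_def]
  congr 1

theorem mono_mul : Mono ((r ⊗ₘ i₀) ≫ μ[G]) := by
  haveI : Mono i₀ := by
    constructor
    intro Z g h e
    ext1
    rw [← cancel_mono i₀.left, ← Over.comp_left, ← Over.comp_left, e]
  constructor
  intro T u v huv
  rw [mul_eq, ← Category.assoc, ← Category.assoc, comp_translAct, comp_translAct] at huv
  simp only [Category.assoc, whiskerLeft_fst, whiskerLeft_snd] at huv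
  set a := u ≫ fst Gr G₀ with ha
  set b := u ≫ snd Gr G₀ with hb
  set a' := v ≫ fst Gr G₀ with ha'
  set b' := v ≫ snd Gr G₀ with hb'
  have huv' : (a ≫ r) * (b ≫ i₀) = (a' ≫ r) * (b' ≫ i₀) := by
    simp only [a, b, a', b', Category.assoc]
    exact huv
  have hcd : (a'⁻¹ * a) ≫ r = (b' * b⁻¹) ≫ i₀ := by
    rw [MonObj.mul_comp, MonObj.mul_comp, GrpObj.inv_comp, GrpObj.inv_comp]
    rw [inv_mul_eq_iff_eq_mul, ← _root_.mul_assoc, eq_mul_inv_iff_mul_eq]
    exact huv'
  have h1 : a'⁻¹ * a = 1 := eq_one_of_comp_eq r i₀ _ _ hcd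
  have h2 : a = a' := by
    rw [inv_mul_eq_one] at h1
    exact h1.symm
  have h3 : b = b' := by
    rw [← cancel_mono i₀]
    rw [h2] at huv'
    exact mul_left_cancel huv'
  apply CartesianMonoidalCategory.hom_ext
  · exact h2
  · exact h3

theorem isIso_mul : IsIso ((r ⊗ₘ i₀) ≫ μ[G]) := by
  haveI := subsingleton_neutral i₀
  let m := (r ⊗ₘ i₀) ≫ μ[G]
  let act : AlgGrp.Action Gr G := translAction r
  have hm : m = (Gr ◁ i₀) ≫ flip act ≫ snd Gr G := by
    rw [flip_snd]
    exact mul_eq r i₀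
  -- flat
  have hflat : ∀ {Y : Scheme.{u}} [Subsingleton Y] [IsIntegral Y] {X : Scheme.{u}} (g : X ⟶ Y),
      Flat g := fun g => inferInstance
  haveI : Subsingleton ↥(Spec (CommRingCat.of k)) :=
    inferInstanceAs (Subsingleton (PrimeSpectrum k))
  haveI : Flat Gr.hom := hflat Gr.hom
  haveI : Flat (snd Gr G).left := by
    rw [Over.snd_left]
    infer_instance
  haveI : Flat (Gr ◁ i₀).left :=
    MorphismProperty.of_isPullback (P := @Flat) (isPullback_whiskerLeft_left i₀ Gr).flip
      inferInstance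
  haveI : IsIso (flip act).left := (Over.forget _).map_isIso (flip act)
  haveI : Flat m.left := by
    rw [hm, Over.comp_left, Over.comp_left]
    infer_instance
  -- quasi-compact
  haveI : IsLocallyArtinian G.left := isLocallyArtinian_of_isFinite k G.hom
  haveI : DiscreteTopology ↥G.left := inferInstance
  haveI : DiscreteTopology ↥G₀.left := i₀.left.isOpenEmbedding.discreteTopology
  haveI : Finite ↥G₀.left := Finite.of_subsingleton
  haveI : IsAffine G₀.left := inferInstance
  haveI : IsAffine G.left := isAffine_of_isAffineHom G.hom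
  haveI : IsAffine Gr.left := isAffine_of_isAffineHom r.left
  haveI : IsAffine (Gr ⊗ G₀).left := by
    change IsAffine (pullback Gr.hom G₀.hom)
    infer_instance
  haveI : QuasiCompact m.left := inferInstance
  -- surjective
  haveI : Surjective m.left := by
    constructor
    intro x
    obtain ⟨y, rfl⟩ := (‹Surjective r.left›).1 x
    let j : Gr ⟶ Gr ⊗ G₀ := lift (𝟙 Gr) 1
    have hj : j ≫ m = r := by
      change j ≫ (r ⊗ₘ i₀) ≫ μ[G] = r
      rw [mul_eq, ← Category.assoc, comp_translAct]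
      simp only [j, Category.assoc, whiskerLeft_fst, whiskerLeft_snd, lift_fst_assoc,
        lift_snd_assoc, Category.id_comp]
      rw [MonObj.one_comp, _root_.mul_one]
    refine ⟨j.left y, ?_⟩
    rw [← Scheme.Hom.comp_apply, ← Over.comp_left, hj]
  -- mono
  haveI : Mono m := mono_mul r i₀
  haveI : Mono m.left := inferInstance
  haveI : IsIso m.left := Flat.isIso_of_surjective_of_mono m.left
  haveI : IsIso ((Over.forget _).map m) := ‹IsIso m.left›
  exact isIso_of_reflects_iso m (Over.forget _)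

end Main

end Groth.Agent.Lib.Helper10.FinGrpSplit
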