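import Mathlib
import Groth.Agent.Lib.Helper10.NeutFib5
import Groth.Agent.Lib.Helper10.EtTriv1
import Groth.Agent.Lib.Helper10.HomSp1

/-!
# Étale equivariant morphisms reflect fixed points (connected fibres)
-/

set_option autoImplicit false
set_option backward.isDefEq.respectTransparency.types false
set_option maxHeartbeats 4000000
set_option synthInstance.maxHeartbeats 400000
universe u
open CategoryTheory CategoryTheory.Limits AlgebraicGeometry MonoidalCategory
  CartesianMonoidalCategory MonObj GrpObj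

namespace Groth.Agent.Lib.Helper10.FixRefl

open Groth.Agent.Lib.Helper10.HomSp Groth.Agent.Lib.Helper10.HomFamBC
  Groth.Agent.Lib.Helper10.NeutFib

variable {S : Scheme.{u}}

section NeutralUniv

variable (G : Over S) [GrpObj G]

theorem neutralSet_eq_univ (hconn : ∀ s : S, ConnectedSpace (G.hom.fiber s)) :
    SGA3x.neutralSet G = Set.univ := by
  rw [Set.eq_univ_iff_forall]
  intro g
  rw [mem_neutralSet_iff]
  obtain ⟨x, hx⟩ := exists_incl G (G.hom g) g rfl
  refine ⟨x, hx, ?_⟩
  haveI : ConnectedSpace ↥(fib G (G.hom g)).left := hconn (G.hom g)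
  rw [PreconnectedSpace.connectedComponent_eq_univ]
  trivial

theorem neutralSet_bc_eq_univ (hconn : ∀ s : S, ConnectedSpace (G.hom.fiber s))
    {S' : Scheme.{u}} (f : S' ⟶ S) : SGA3x.neutralSet (Red.bc f G) = Set.univ := by
  rw [neutralSet_bc, neutralSet_eq_univ G hconn, Set.preimage_univ]

end NeutralUniv

section Tr

variable {U : Scheme.{u}} (g : U ⟶ S) (G : Over S) [GrpObj G]

theorem tr_one {Z : Over U} : tr g (1 : Z ⟶ Red.bc g G) = 1 := by
  apply Over.OverMorphism.ext
  rw [tr_left, AMonPts.bc_one_left_fst, Hom.one_def, Over.comp_left]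
  rfl

end Tr

section Main

variable {G X Y T : Over S} [GrpObj G]
  (a : AlgGrp.Action G X) (b : AlgGrp.Action G Y) (f : X ⟶ Y)
  (x : T ⟶ X)

/-- `(g, t) ↦ g · x(t)` -/
noncomputable def phi : G ⊗ T ⟶ X := lift (fst G T) (snd G T ≫ x) ≫ a.act

/-- `(g, t) ↦ x(t)` -/
noncomputable def psi : G ⊗ T ⟶ X := snd G T ≫ x

theorem lift_phi {T' : Over S} (g : T' ⟶ G) (t : T' ⟶ T) :
    lift g t ≫ phi a x = smul a g (t ≫ x) := by
  unfold phi smul
  rw [← Category.assoc, comp_lift, lift_fst, ← Category.assoc, lift_snd]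

theorem lift_psi {T' : Over S} (g : T' ⟶ G) (t : T' ⟶ T) :
    lift g t ≫ psi (G := G) x = t ≫ x := by
  unfold psi
  rw [← Category.assoc, lift_snd]

theorem phi_f (hf : a.act ≫ f = (G ◁ f) ≫ b.act)
    (hx : ∀ (T' : Over S) (t : T' ⟶ T) (g : T' ⟶ G), lift g (t ≫ x ≫ f) ≫ b.act = t ≫ x ≫ f) :
    phi a x ≫ f = psi (G := G) x ≫ f := by
  unfold phi psi
  rw [Category.assoc, hf, ← Category.assoc, lift_whiskerLeft, Category.assoc]
  exact hx _ _ _

variable [Etale f.left]

variable (hfx : phi a x ≫ f = psi (G := G) x ≫ f)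

/-- the source, over `Y` -/
noncomputable abbrev PY : Over Y.left := Over.mk ((psi (G := G) x ≫ f).left)

noncomputable abbrev XY : Over Y.left := Over.mk f.left

include hfx in
theorem phi_w : (phi a x).left ≫ f.left = (psi (G := G) x ≫ f).left := by
  rw [← Over.comp_left, hfx]

noncomputable def phiY : PY (G := G) f x ⟶ XY f :=
  Over.homMk (phi a x).left (phi_w a f x hfx)

noncomputable def psiY : PY (G := G) f x ⟶ XY f := Over.homMk (psi (G := G) x).left rfl

/-- the open immersion of the equalizer -/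
noncomputable def iE : (equalizer (phiY a f x hfx) (psiY f x)).left ⟶ (G ⊗ T).left :=
  (equalizer.ι (phiY a f x hfx) (psiY f x)).left

instance : IsOpenImmersion (iE a f x hfx) := by
  haveI : IsOpenImmersion (pullback.diagonal (XY f).hom) :=
    inferInstanceAs (IsOpenImmersion (pullback.diagonal f.left))
  exact Groth.Agent.Lib.Helper10.EtTriv.isOpenImmersion_equalizer_ι_left _ _

theorem iE_cond : iE a f x hfx ≫ (phi a x).left = iE a f x hfx ≫ (psi (G := G) x).left := by
  have := congrArg (fun φ => φ.left) (equalizer.condition (phiY a f x hfx) (psiY f x))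
  exact this

/-- the open locus where `φ = ψ` -/
noncomputable def W : Set ↥(G ⊗ T).left := Set.range (iE a f x hfx)

theorem isOpen_W : IsOpen (W a f x hfx) := (iE a f x hfx).isOpenEmbedding.isOpen_range

theorem range_subset_W {Z : Scheme.{u}} (u : Z ⟶ (G ⊗ T).left)
    (hu : u ≫ (phi a x).left = u ≫ (psi (G := G) x).left) : Set.range u ⊆ W a f x hfx := by
  let Z' : Over Y.left := Over.mk (u ≫ (PY (G := G) f x).hom)
  let u' : Z' ⟶ PY (G := G) f x := Over.homMk u rfl
  have h : u' ≫ phiY a f x hfx = u' ≫ psiY f x := by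
    apply Over.OverMorphism.ext
    exact hu
  have hl : (equalizer.lift u' h).left ≫ iE a f x hfx = u := by
    have := congrArg (fun φ => φ.left) (equalizer.lift_ι u' h)
    exact this
  rintro _ ⟨z, rfl⟩
  refine ⟨(equalizer.lift u' h).left z, ?_⟩
  rw [← Scheme.Hom.comp_apply, hl]

theorem eq_of_range_subset_W {Z : Scheme.{u}} (u : Z ⟶ (G ⊗ T).left)
    (hu : Set.range u ⊆ W a f x hfx) : u ≫ (phi a x).left = u ≫ (psi (G := G) x).left := by
  have h1 : IsOpenImmersion.lift (iE a f x hfx) u hu ≫ iE a f x hfx = u :=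
    IsOpenImmersion.lift_fac _ _ _
  rw [← h1, Category.assoc, Category.assoc, iE_cond]

/-- points of `G_T` over `T` as points of `G ⊗ T`. -/
noncomputable def ptOf {Z : Over T.left} (ζ : Z ⟶ Red.bc T.hom G) :
    (Over.map T.hom).obj Z ⟶ G ⊗ T :=
  lift (tr T.hom ζ) (Over.homMk Z.hom rfl)

theorem ptOf_left {Z : Over T.left} (ζ : Z ⟶ Red.bc T.hom G) :
    (ptOf ζ).left = ζ.left := by
  unfold ptOf
  rw [Over.lift_left]
  apply pullback.hom_ext
  · rw [pullback.lift_fst, tr_left]
  · rw [pullback.lift_snd]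
    exact (Over.w ζ).symm

/-- the structure morphism `Z' → T` -/
noncomputable abbrev tau (Z : Over T.left) : (Over.map T.hom).obj Z ⟶ T := Over.homMk Z.hom rfl

theorem range_subset_W_iff {Z : Over T.left} (ζ : Z ⟶ Red.bc T.hom G) :
    Set.range ζ.left ⊆ W a f x hfx ↔ smul a (tr T.hom ζ) (tau Z ≫ x) = tau Z ≫ x := by
  have e1 : ptOf ζ ≫ phi a x = smul a (tr T.hom ζ) (tau Z ≫ x) := lift_phi a x _ _
  have e2 : ptOf ζ ≫ psi (G := G) x = tau Z ≫ x := lift_psi x _ _
  constructor
  · intro h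
    have := eq_of_range_subset_W a f x hfx ζ.left h
    rw [← ptOf_left ζ, ← Over.comp_left, ← Over.comp_left, e1, e2] at this
    exact Over.OverMorphism.ext this
  · intro h
    apply range_subset_W
    rw [← ptOf_left ζ, ← Over.comp_left, ← Over.comp_left, e1, e2, h]

theorem W_eq_univ (hconn : ∀ s : S, ConnectedSpace (G.hom.fiber s)) :
    W a f x hfx = Set.univ := by
  rw [Set.eq_univ_iff_forall]
  intro g
  have hg : (g : ↥(Red.bc T.hom G).left) ∈ SGA3x.neutralSet (Red.bc T.hom G) := by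
    rw [neutralSet_bc_eq_univ G hconn]; trivial
  have he : ∀ p : ↥(𝟙_ (Over T.left)).left,
      η[Red.bc T.hom G].left p ∈ (W a f x hfx : Set ↥(Red.bc T.hom G).left) := by
    intro p
    have h1 : (1 : 𝟙_ (Over T.left) ⟶ Red.bc T.hom G) = η[Red.bc T.hom G] := by
      rw [Hom.one_def, toUnit_unique (toUnit _) (𝟙 _), Category.id_comp]
    have h2 := (range_subset_W_iff a f x hfx (1 : 𝟙_ (Over T.left) ⟶ Red.bc T.hom G)).mpr (by
      rw [tr_one, HomSp.one_smul])
    rw [h1] at h2
    exact h2 ⟨p, rfl⟩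
  obtain ⟨z, hz, hz1, hz2⟩ := exists_mul_of_mem_neutralSet (Red.bc T.hom G)
    (W a f x hfx : Set ↥(Red.bc T.hom G).left) (isOpen_W a f x hfx) he g hg
  -- the residue field point
  let GT := Red.bc T.hom G
  let u : Spec ((GT ⊗ GT).left.residueField z) ⟶ (GT ⊗ GT).left :=
    (GT ⊗ GT).left.fromSpecResidueField z
  let Z : Over T.left := Over.mk (u ≫ (GT ⊗ GT).hom)
  let ζ : Z ⟶ GT ⊗ GT := Over.homMk u rfl
  have hr : ∀ (v : GT ⊗ GT ⟶ GT), Set.range (ζ ≫ v).left = {v.left z} := by
    intro v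
    rw [Over.comp_left, Scheme.Hom.comp_base, TopCat.coe_comp, Set.range_comp]
    have : Set.range ζ.left = {z} := Scheme.range_fromSpecResidueField z
    rw [this, Set.image_singleton]
  have k1 := (range_subset_W_iff a f x hfx (ζ ≫ fst GT GT)).mp (by
    rw [hr]; exact Set.singleton_subset_iff.mpr hz1)
  have k2 := (range_subset_W_iff a f x hfx (ζ ≫ snd GT GT)).mp (by
    rw [hr]; exact Set.singleton_subset_iff.mpr hz2)
  have k3 : ζ ≫ μ[GT] = (ζ ≫ fst GT GT) * (ζ ≫ snd GT GT) := by
    rw [Hom.mul_def, lift_comp_fst_snd]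
  have k4 := (range_subset_W_iff a f x hfx (ζ ≫ μ[GT])).mpr (by
    rw [k3, tr_mul, HomSp.mul_smul, k2, k1])
  rw [hr] at k4
  rw [← hz]
  exact Set.singleton_subset_iff.mp k4

include hfx in
theorem phi_eq_psi (hconn : ∀ s : S, ConnectedSpace (G.hom.fiber s)) :
    phi a x = psi (G := G) x := by
  have h := eq_of_range_subset_W a f x hfx (𝟙 _) (by rw [W_eq_univ a f x hfx hconn]; exact Set.subset_univ _)
  rw [Category.id_comp, Category.id_comp] at h
  exact Over.OverMorphism.ext h

end Main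

/-- étale equivariant morphisms reflect fixed points -/
theorem reflects_fixed {G X Y T : Over S} [GrpObj G]
    (hconn : ∀ s : S, ConnectedSpace (G.hom.fiber s))
    (a : AlgGrp.Action G X) (b : AlgGrp.Action G Y) (f : X ⟶ Y) [Etale f.left]
    (hf : a.act ≫ f = (G ◁ f) ≫ b.act) (x : T ⟶ X)
    (hx : ∀ (T' : Over S) (t : T' ⟶ T) (g : T' ⟶ G), lift g (t ≫ x ≫ f) ≫ b.act = t ≫ x ≫ f)
    (T' : Over S) (t : T' ⟶ T) (g : T' ⟶ G) : lift g (t ≫ x) ≫ a.act = t ≫ x := by
  have hfx := phi_f a b f x hf hx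
  have h := phi_eq_psi a f x hfx hconn
  have h1 := lift_phi a x g t
  rw [h, lift_psi] at h1
  exact h1.symm

end Groth.Agent.Lib.Helper10.FixRefl
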