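import Mathlib
import Groth.Prelude.Def_Magnet3
import Groth.Agent.Lib.Helper10.ClosedSubF

/-!
# Étale (flat + open) descent of closed representability of the fixed-point functor
-/

set_option autoImplicit false
set_option backward.isDefEq.respectTransparency.types false
set_option maxHeartbeats 4000000
set_option synthInstance.maxHeartbeats 400000
universe u
open CategoryTheory CategoryTheory.Limits MonoidalCategory CartesianMonoidalCategory MonObj
  AlgebraicGeometry Opposite
open Magnet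

namespace Groth.Agent.Lib.Helper10.FixedDescent

open Groth.Agent.Lib.Helper10.ClosedSubF

variable {S : Scheme.{u}} {G X : Over S} [MonObj G]

/-- fixedness of a point. -/
def IsFix (a : MonAct G X) {T : Over S} (x : T ⟶ X) : Prop :=
  ∀ (T' : Over S) (t : T' ⟶ T) (g : T' ⟶ G), lift g (t ≫ x) ≫ a.act = t ≫ x

theorem IsFix.comp {a : MonAct G X} {T T₁ : Over S} {x : T ⟶ X} (h : IsFix a x) (e : T₁ ⟶ T) :
    IsFix a (e ≫ x) := by
  intro T' t g
  rw [← Category.assoc]
  exact h T' (t ≫ e) g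

theorem isFix_iff_of_iso {a : MonAct G X} {T T₁ : Over S} (x : T ⟶ X) (e : T₁ ≅ T) :
    IsFix a (e.hom ≫ x) ↔ IsFix a x := by
  refine ⟨fun h => ?_, fun h => h.comp e.hom⟩
  have := h.comp e.inv
  rwa [Iso.inv_hom_id_assoc] at this

/-- the point of `X` in `Over S` attached to a scheme morphism to `X.left`. -/
abbrev pt {T : Scheme.{u}} (t : T ⟶ X.left) : Over.mk (t ≫ X.hom) ⟶ X := Over.homMk t rfl

theorem isFix_iff_left (a : MonAct G X) {T : Over S} (x : T ⟶ X) :
    IsFix a x ↔ IsFix a (pt x.left) := by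
  let e : Over.mk (x.left ≫ X.hom) ≅ T := Over.isoMk (Iso.refl _) (by simp)
  have : pt x.left = e.hom ≫ x := by
    ext
    simp [e]
  rw [this, isFix_iff_of_iso]

theorem isFix_congr (a : MonAct G X) {T : Scheme.{u}} {t t' : T ⟶ X.left} (h : t = t') :
    IsFix a (pt t) ↔ IsFix a (pt t') := by
  subst h
  rfl

/-- the fixed-point subfunctor on schemes over `X.left`. -/
def fixSubF (a : MonAct G X) : SubF X.left where
  P T t := IsFix a (pt t)
  pre T T' s t h := by
    have : pt (X := X) (s ≫ t) =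
        (Over.homMk s (by simp) : Over.mk ((s ≫ t) ≫ X.hom) ⟶ Over.mk (t ≫ X.hom)) ≫ pt t := by
      ext
      simp
    rw [this]
    exact h.comp _

theorem fixSubF_P (a : MonAct G X) {T : Scheme.{u}} (t : T ⟶ X.left) :
    (fixSubF a).P t ↔ IsFix a (pt t) := Iff.rfl

theorem step (a : MonAct G X) {T T' : Scheme.{u}} (π : T' ⟶ T) (t : T ⟶ X.left)
    (h : IsFix a (pt (π ≫ t)))
    {T'' : Over S} (s : T'' ⟶ Over.mk (t ≫ X.hom)) (g : T'' ⟶ G) {P : Scheme.{u}}
    (p : P ⟶ T''.left) (q : P ⟶ T') (hpq : p ≫ s.left = q ≫ π) :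
    (Over.homMk p rfl : Over.mk (p ≫ T''.hom) ⟶ T'') ≫ lift g (s ≫ pt t) ≫ a.act =
      (Over.homMk p rfl : Over.mk (p ≫ T''.hom) ⟶ T'') ≫ s ≫ pt t := by
  have hw : s.left ≫ t ≫ X.hom = T''.hom := Over.w s
  have hq : q ≫ (π ≫ t) ≫ X.hom = p ≫ T''.hom := by
    rw [← hw, reassoc_of% hpq]
    simp
  let q' : Over.mk (p ≫ T''.hom) ⟶ Over.mk ((π ≫ t) ≫ X.hom) := Over.homMk q hq
  have e : (Over.homMk p rfl : Over.mk (p ≫ T''.hom) ⟶ T'') ≫ s ≫ pt t = q' ≫ pt (π ≫ t) := by
    ext
    simp [q', reassoc_of% hpq]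
  rw [← Category.assoc _ _ a.act, comp_lift, e]
  exact h _ q' _

theorem fixSubF_isLocal (a : MonAct G X) : (fixSubF a).IsLocal := by
  intro T T' π _ _ t h T'' s g
  have hepi : Epi (pullback.fst s.left π) := Flat.epi_of_flat_of_surjective _
  have hepi' : Epi (Over.homMk (pullback.fst s.left π) rfl :
      Over.mk (pullback.fst s.left π ≫ T''.hom) ⟶ T'') := by
    have : Epi (Over.homMk (pullback.fst s.left π) rfl :
      Over.mk (pullback.fst s.left π ≫ T''.hom) ⟶ T'').left := hepi
    exact Over.epi_of_epi_left _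
  rw [← cancel_epi (Over.homMk (pullback.fst s.left π) rfl :
      Over.mk (pullback.fst s.left π ≫ T''.hom) ⟶ T'')]
  exact step a π t h s g _ (pullback.snd s.left π) pullback.condition

theorem fixSubF_isZarLocal (a : MonAct G X) : (fixSubF a).IsZarLocal := by
  intro T 𝒱 t h T'' s g
  apply Over.OverMorphism.ext
  apply (𝒱.pullback₁ s.left).hom_ext
  intro k
  have := congrArg (fun m => m.left)
    (step a (𝒱.f k) t (h k) s g ((𝒱.pullback₁ s.left).f k) (𝒱.pullbackHom s.left k)
      (𝒱.pullbackHom_map s.left k).symm)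
  simpa using this

section Descent

variable {U : Over S} (a : MonAct G X) (b : MonAct G U) (f : U ⟶ X)

theorem isFix_of_fixedPsh {T : Over S} (x : (MonAct.fixedPsh a).obj (op T)) : IsFix a x.1 := x.2

/-- the point of the fixed-point functor given by a fixed point. -/
def IsFix.toPsh {T : Over S} {x : T ⟶ X} (h : IsFix a x) : (MonAct.fixedPsh a).obj (op T) := ⟨x, h⟩

theorem repBy_restrict (hf : MonAct.IsEquivariant b a f)
    (hfpr : IsPullback (MonAct.fixedPsh.map f hf) (MonAct.fixedPshι b) (MonAct.fixedPshι a)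
      (yoneda.map f))
    {W' : Over S} (i' : W' ⟶ U) (e' : (MonAct.fixedPsh b).RepresentableBy W')
    (he' : ∀ (T : Over S) (w : T ⟶ W'),
        (MonAct.fixedPshι b).app (op T) (e'.homEquiv w) = w ≫ i') :
    ((fixSubF a).restrict f.left).RepBy i'.left := by
  intro T t
  constructor
  · intro h
    change IsFix a (pt (t ≫ f.left)) at h
    let T₀ : Over S := Over.mk (t ≫ U.hom)
    let y : T₀ ⟶ U := Over.homMk t rfl
    have hyf : IsFix a (y ≫ f) := by
      rw [isFix_iff_left]
      exact h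
    have hpb := hfpr.map ((evaluation _ _).obj (op T₀))
    obtain ⟨z, -, hz⟩ := Types.exists_of_isPullback hpb (hyf.toPsh a) y rfl
    have hz' : z.1 = y := hz
    let w : T₀ ⟶ W' := e'.homEquiv.symm z
    have hw : w ≫ i' = y := by
      rw [← he' T₀ w]
      simp only [w, Equiv.apply_symm_apply]
      exact hz'
    exact ⟨w.left, congrArg (fun m => m.left) hw⟩
  · rintro ⟨w, rfl⟩
    change IsFix a (pt ((w ≫ i'.left) ≫ f.left))
    let T₀ : Over S := Over.mk (w ≫ W'.hom)
    let w' : T₀ ⟶ W' := Over.homMk w rfl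
    have h1 : IsFix b (w' ≫ i') := by
      have := isFix_of_fixedPsh b (e'.homEquiv w')
      have e := he' T₀ w'
      rw [MonAct.fixedPshι_app] at e
      rwa [e] at this
    have h2 : IsFix a ((w' ≫ i') ≫ f) :=
      isFix_of_fixedPsh a ((MonAct.fixedPsh.map f hf).app (op T₀) (h1.toPsh b))
    rw [isFix_iff_left] at h2
    exact h2

/-- **Descent of closed representability of the fixed-point functor** along a flat, open,
surjective, equivariant, fixed-point reflecting morphism. -/
theorem exists_representableBy_fixedPsh (hflat : Flat f.left) (hsurj : Surjective f.left)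
    (hopen : IsOpenMap f.left) (hf : MonAct.IsEquivariant b a f)
    (hfpr : IsPullback (MonAct.fixedPsh.map f hf) (MonAct.fixedPshι b) (MonAct.fixedPshι a)
      (yoneda.map f))
    (hU : ∃ (W' : Over S) (i' : W' ⟶ U) (e' : (MonAct.fixedPsh b).RepresentableBy W'),
      IsClosedImmersion i'.left ∧ ∀ (T : Over S) (w : T ⟶ W'),
        (MonAct.fixedPshι b).app (op T) (e'.homEquiv w) = w ≫ i') :
    ∃ (W : Over S) (i : W ⟶ X) (e : (MonAct.fixedPsh a).RepresentableBy W),
      IsClosedImmersion i.left ∧ ∀ (T : Over S) (w : T ⟶ W),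
        (MonAct.fixedPshι a).app (op T) (e.homEquiv w) = w ≫ i := by
  obtain ⟨W', i', e', hcl', he'⟩ := hU
  obtain ⟨W₀, i₀, hcl, hrep⟩ := SubF.exists_repBy_of_flat_open f.left hopen (fixSubF a)
    (fixSubF_isLocal a) (fixSubF_isZarLocal a) i'.left (repBy_restrict a b f hf hfpr i' e' he')
  have hmono : Mono i₀ := inferInstance
  let W : Over S := Over.mk (i₀ ≫ X.hom)
  let i : W ⟶ X := Over.homMk i₀ rfl
  have hfix : ∀ {T : Over S} (w : T ⟶ W), IsFix a (w ≫ i) := by
    intro T w
    rw [isFix_iff_left]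
    exact (hrep (w ≫ i).left).2 ⟨w.left, rfl⟩
  have hex : ∀ {T : Over S} (x : T ⟶ X), IsFix a x → ∃ w : T ⟶ W, w ≫ i = x := by
    intro T x hx
    rw [isFix_iff_left] at hx
    obtain ⟨w₀, hw₀⟩ := (hrep x.left).1 hx
    refine ⟨Over.homMk w₀ ?_, ?_⟩
    · change w₀ ≫ i₀ ≫ X.hom = T.hom
      rw [reassoc_of% hw₀]
      exact Over.w x
    · ext
      simpa [i] using hw₀
  have hmonoi : Mono i := by
    have : Mono i.left := hmono
    exact Over.mono_of_mono_left _
  refine ⟨W, i, ⟨fun {T} => ⟨fun w => ⟨w ≫ i, hfix w⟩, fun x => (hex x.1 x.2).choose, ?_, ?_⟩, ?_⟩,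
    hcl, fun T w => rfl⟩
  · intro w
    rw [← cancel_mono i]
    exact (hex (w ≫ i) (hfix w)).choose_spec
  · intro x
    exact Subtype.ext (hex x.1 x.2).choose_spec
  · intro T T' t w
    apply Subtype.ext
    exact Category.assoc _ _ _

end Descent

end Groth.Agent.Lib.Helper10.FixedDescent
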