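import Mathlib

/-!
# Flat algebras over a domain with finite generic fibre are quasi-finite
-/

set_option autoImplicit false
set_option maxHeartbeats 1000000
set_option linter.unusedSectionVars false
set_option linter.style.haveILetI false
universe u
open TensorProduct

namespace Groth.Agent.Lib.Helper10.FlatQF

variable {R : Type u} [CommRing R] [IsDomain R] {B : Type u} [CommRing B] [Algebra R B]
  [Module.Flat R B]

/-- bound on independent families in the fibre at a local domain. -/
theorem finite_of_linearIndependent {A : Type u} [CommRing A] [IsDomain A] [IsLocalRing A]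
    {K : Type u} [Field K] [Algebra A K] [IsFractionRing A K]
    {M : Type u} [AddCommGroup M] [Module A M] [Module.Flat A M]
    [Module.Finite K (K ⊗[A] M)] {ι : Type u} (v : ι → M)
    (h : LinearIndependent (IsLocalRing.ResidueField A)
      (TensorProduct.mk A (IsLocalRing.ResidueField A) M 1 ∘ v)) : Finite ι := by
  have h1 : LinearIndependent A v := Module.IsLocalRing.linearIndependent_of_flat v h
  have h2 : LinearIndependent K (TensorProduct.mk A K M 1 ∘ v) :=
    h1.of_isLocalizedModule K (nonZeroDivisors A) (TensorProduct.mk A K M 1)
  exact h2.finite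

theorem finite_fibre_local {A : Type u} [CommRing A] [IsDomain A] [IsLocalRing A]
    {K : Type u} [Field K] [Algebra A K] [IsFractionRing A K]
    {M : Type u} [AddCommGroup M] [Module A M] [Module.Flat A M]
    [Module.Finite K (K ⊗[A] M)] :
    Module.Finite (IsLocalRing.ResidueField A) (IsLocalRing.ResidueField A ⊗[A] M) := by
  set k := IsLocalRing.ResidueField A
  have hspan : Submodule.span k (Set.range (TensorProduct.mk A k M 1)) = ⊤ := by
    rw [eq_top_iff]
    rintro x -
    induction x using TensorProduct.induction_on with
    | zero => exact Submodule.zero_mem _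
    | tmul c m =>
      have : c ⊗ₜ[A] m = c • ((1 : k) ⊗ₜ[A] m) := by
        rw [TensorProduct.smul_tmul', smul_eq_mul, mul_one]
      rw [this]
      exact Submodule.smul_mem _ _ (Submodule.subset_span ⟨m, rfl⟩)
    | add x y hx hy => exact Submodule.add_mem _ hx hy
  obtain ⟨b, hb, hbs, hli⟩ := exists_linearIndependent k (Set.range (TensorProduct.mk A k M 1))
  choose w hw using fun x : b => hb x.2
  have hli' : LinearIndependent k (TensorProduct.mk A k M 1 ∘ w) := by
    have : (TensorProduct.mk A k M 1 ∘ w) = ((↑) : b → k ⊗[A] M) := funext hw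
    rw [this]
    exact hli
  haveI : Finite b := finite_of_linearIndependent (K := K) w hli'
  have hbfin : b.Finite := Set.toFinite b
  refine ⟨⟨hbfin.toFinset, ?_⟩⟩
  rw [Set.Finite.coe_toFinset, hbs, hspan]

variable (R B) in
theorem finite_fiber [Module.Finite (FractionRing R) (FractionRing R ⊗[R] B)] (P : Ideal R)
    [P.IsPrime] : Module.Finite P.ResidueField (P.Fiber B) := by
  let A := Localization.AtPrime P
  let K := FractionRing R
  let M := A ⊗[R] B
  haveI : Module.Flat A M := inferInstance
  let e1 : K ⊗[A] M ≃ₗ[K] K ⊗[R] B := TensorProduct.AlgebraTensorModule.cancelBaseChange R A K K B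
  haveI : Module.Finite K (K ⊗[A] M) := Module.Finite.equiv e1.symm
  have h := finite_fibre_local (A := A) (K := K) (M := M)
  let e2 : P.ResidueField ⊗[A] M ≃ₗ[P.ResidueField] P.ResidueField ⊗[R] B :=
    TensorProduct.AlgebraTensorModule.cancelBaseChange R A P.ResidueField P.ResidueField B
  exact Module.Finite.equiv e2

variable (R B) in
theorem quasiFinite [Algebra.QuasiFinite (FractionRing R) (FractionRing R ⊗[R] B)] :
    Algebra.QuasiFinite R B := by
  haveI : Module.Finite (FractionRing R) (FractionRing R ⊗[R] B) := Module.Finite.of_quasiFinite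
  exact ⟨fun P _ => finite_fiber R B P⟩

end Groth.Agent.Lib.Helper10.FlatQF
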