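import Mathlib
import Groth.Agent.Lib.Helper10.FlatQF1
import Groth.Prelude.Def_Neron

/-!
# Flat schemes over a domain with locally quasi-finite generic fibre are locally quasi-finite
-/

set_option autoImplicit false
set_option maxHeartbeats 1000000
set_option linter.unusedSectionVars false
set_option linter.style.haveILetI false
universe u
open CategoryTheory CategoryTheory.Limits AlgebraicGeometry TensorProduct

namespace Groth.Agent.Lib.Helper10.FlatQF

variable (R : Type u) [CommRing R] [IsDomain R]

theorem quasiFinite_of_spec (B : CommRingCat.{u})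
    (g : Spec B ⟶ Spec (CommRingCat.of R)) [Flat g]
    [hq : LocallyQuasiFinite (pullback.snd g (Neron.genPt R))] : LocallyQuasiFinite g := by
  obtain ⟨φ, rfl⟩ := Spec.map_surjective g
  have hfl : φ.hom.Flat := (HasRingHomProperty.Spec_iff (P := @Flat)).mp inferInstance
  rw [HasRingHomProperty.Spec_iff (P := @LocallyQuasiFinite)]
  algebraize [φ.hom]
  haveI : LocallyQuasiFinite (pullback.snd (Spec.map (CommRingCat.ofHom (algebraMap R B)))
      (Spec.map (CommRingCat.ofHom (algebraMap R (FractionRing R))))) := hq
  have h1 : LocallyQuasiFinite ((pullbackSpecIso R B (FractionRing R)).inv ≫ pullback.snd _ _) :=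
    inferInstance
  rw [pullbackSpecIso_inv_snd, HasRingHomProperty.Spec_iff (P := @LocallyQuasiFinite)] at h1
  have h2 : (algebraMap (FractionRing R) (FractionRing R ⊗[R] B)).QuasiFinite := by
    have : algebraMap (FractionRing R) (FractionRing R ⊗[R] B) =
        (Algebra.TensorProduct.comm R B (FractionRing R)).toRingEquiv.toRingHom.comp
          (RingHomClass.toRingHom (Algebra.TensorProduct.includeRight :
            FractionRing R →ₐ[R] B ⊗[R] FractionRing R)) := by
      ext x
      simp [Algebra.TensorProduct.algebraMap_apply]
    rw [this]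
    exact RingHom.QuasiFinite.respectsIso.1 _ _ h1
  haveI : Algebra.QuasiFinite (FractionRing R) (FractionRing R ⊗[R] B) :=
    RingHom.quasiFinite_algebraMap.mp h2
  exact RingHom.quasiFinite_algebraMap.mpr (quasiFinite R B)

theorem locallyQuasiFinite_of_generic (H : Over (Spec (CommRingCat.of R))) [Flat H.hom]
    [hK : LocallyQuasiFinite ((Neron.genericFibre R).obj H).hom] : LocallyQuasiFinite H.hom := by
  rw [IsZariskiLocalAtSource.iff_of_openCover (P := @LocallyQuasiFinite) H.left.affineCover]
  intro i
  have hK' : LocallyQuasiFinite (pullback.snd H.hom (Neron.genPt R)) := hK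
  have hfl : Flat (H.left.affineCover.f i ≫ H.hom) := inferInstance
  have hq : LocallyQuasiFinite
      (pullback.snd (H.left.affineCover.f i ≫ H.hom) (Neron.genPt R)) := by
    have e : pullback.snd (H.left.affineCover.f i ≫ H.hom) (Neron.genPt R) =
        pullback.map (H.left.affineCover.f i ≫ H.hom) (Neron.genPt R) H.hom (Neron.genPt R)
          (H.left.affineCover.f i) (𝟙 _) (𝟙 _) (by simp) (by simp) ≫
          pullback.snd H.hom (Neron.genPt R) := by
      rw [pullback.lift_snd, Category.comp_id]
    rw [e]
    infer_instance
  exact @quasiFinite_of_spec R _ _ _ (H.left.affineCover.f i ≫ H.hom) hfl hq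

end Groth.Agent.Lib.Helper10.FlatQF
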