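import Mathlib
import Groth.Agent.Lib.Helper24.DescAffSh
import Groth.Agent.Lib.Helper24.DescSlqf
import Groth.Agent.Lib.Helper10.QuotShBr1

/-!
# A sheaf on the big fppf site which is fppf locally representable by affine schemes over the
cover is representable by a scheme affine over the base (`QuotSh` form of
`Helper24.DescAffSh.exists_rep_of_chart_aff`).
-/

set_option autoImplicit false
set_option backward.isDefEq.respectTransparency.types false
set_option maxHeartbeats 4000000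
set_option synthInstance.maxHeartbeats 400000
universe u
open CategoryTheory CategoryTheory.Limits AlgebraicGeometry Opposite

namespace Groth.Agent.Lib.Helper10.FppfAffRep

open AlgSp QuotSh Groth.Agent.Lib.Helper14.AS Groth.Agent.Lib.Helper24.QuotBridge
  Groth.Agent.Lib.Helper24.DescBridge Groth.Agent.Lib.Helper10.QuotShBr
  Groth.Agent.Lib.Helper24.DescSlqf

theorem representable_of_fppf_locally_affine {S S' : Scheme.{u}} (f : S' ⟶ S)
    [Flat f] [Surjective f] [LocallyOfFinitePresentation f]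
    (Z : QuotSh.Sh Scheme.fppfPrecoverage S)
    (T' : Over S) (a : T' ⟶ Over.mk f) [IsAffineHom a.left]
    (φ : QuotSh.rep Scheme.fppfPrecoverage T' ≅ Z ⨯ QuotSh.rep Scheme.fppfPrecoverage (Over.mk f))
    (hφ : φ.hom ≫ prod.snd = QuotSh.repMap Scheme.fppfPrecoverage a) :
    ∃ T : Over S, IsAffineHom T.hom ∧ Nonempty (QuotSh.rep Scheme.fppfPrecoverage T ≅ Z) := by
  let B : Over S := Over.mk (𝟙 S)
  let hB : IsTerminal ((AlgSp.yon S).obj B) := isTerminalYonBase S
  let π : Z ⟶ (AlgSp.yon S).obj B := hB.from Z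
  let c : Over.mk f ⟶ B := Over.homMk f (Category.comp_id f)
  let iA := QuotSh.repIsoUliftYoneda Scheme.fppfPrecoverage T'
  let iS := QuotSh.repIsoUliftYoneda Scheme.fppfPrecoverage (Over.mk f)
  let fstV : (AlgSp.yon S).obj T' ⟶ Z := iA.inv ≫ φ.hom ≫ prod.fst
  have h0 : IsPullback (prod.fst : Z ⨯ QuotSh.rep Scheme.fppfPrecoverage (Over.mk f) ⟶ Z)
      prod.snd (hB.from _) (hB.from _) :=
    IsPullback.of_is_product (prodIsProd _ _) hB
  have hsnd : (prod.snd : Z ⨯ QuotSh.rep Scheme.fppfPrecoverage (Over.mk f) ⟶ _) =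
      φ.inv ≫ iA.hom ≫ (AlgSp.yon S).map a ≫ iS.inv := by
    rw [← repMap_eq, ← hφ, Iso.inv_hom_id_assoc]
  have sq : IsPullback fstV ((AlgSp.yon S).map a) π ((AlgSp.yon S).map c) := by
    refine IsPullback.of_iso h0 (φ.symm ≪≫ iA) (Iso.refl _) iS (Iso.refl _) ?_ ?_ ?_ ?_
    · simp [fstV]
    · rw [hsnd]
      simp
    · simp [π]
    · exact hB.hom_ext _ _
  obtain ⟨U, ρ, e, -, hρ⟩ := Groth.Agent.Lib.Helper24.DescAffSh.exists_rep_of_chart_aff π
    (fun x => ⟨Over.mk f, T', c, a, fstV, sq, ‹Flat f›, ‹LocallyOfFinitePresentation f›,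
      f.surjective x, ‹IsAffineHom a.left›⟩)
  refine ⟨U, ?_, ⟨QuotSh.repIsoUliftYoneda Scheme.fppfPrecoverage U ≪≫ e⟩⟩
  have hw : ρ.left ≫ 𝟙 S = U.hom := Over.w ρ
  have hw' : ρ.left = U.hom := (Category.comp_id _).symm.trans hw
  rw [← hw']
  exact hρ

end Groth.Agent.Lib.Helper10.FppfAffRep
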