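import Mathlib
import Groth.Agent.Lib.Helper10.FppfQuot1
import Groth.Agent.Lib.Helper10.HomSp1

/-!
# Generalized fpqc coverings (morphisms generating a covering sieve of Mathlib's fpqc topology)
are effective epimorphisms; quotient group structures along them
-/

set_option autoImplicit false
set_option backward.isDefEq.respectTransparency.types false
set_option maxHeartbeats 4000000
set_option synthInstance.maxHeartbeats 400000
universe u
open CategoryTheory CategoryTheory.Limits AlgebraicGeometry MonoidalCategory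
  CartesianMonoidalCategory MonObj GrpObj

namespace Groth.Agent.Lib.Helper10.FpqcCov

open Groth.Agent.Lib.Helper10.HomSp Groth.Agent.Lib.Helper10.FppfQuot

/-- `f` generates a covering sieve for the fpqc topology -/
def Cov {X Y : Scheme.{u}} (f : X ⟶ Y) : Prop :=
  Sieve.generate (Presieve.singleton f) ∈ Scheme.fpqcTopology Y

theorem cov_of_flat {Z Y : Scheme.{u}} (q : Z ⟶ Y) [Flat q] [Surjective q]
    (hqc : ∀ V : Y.Opens, IsAffineOpen V → ∃ W : Z.Opens, IsCompact (W : Set Z) ∧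
      q '' (W : Set Z) = (V : Set Y)) : Cov q := by
  apply Precoverage.generate_mem_toGrothendieck
  refine ⟨?_, ?_⟩
  · rw [Scheme.qcPrecoverage, PreZeroHypercoverFamily.mem_precoverage_iff]
    refine ⟨(q.cover (P := ⊤) trivial).toPreZeroHypercover, ?_, by simp⟩
    simp only [Scheme.qcCoverFamily_property, Scheme.quasiCompactCover_iff]
    constructor
    intro U hU
    obtain ⟨W, hWc, hWU⟩ := hqc U hU
    refine ⟨{default}, Set.finite_singleton _, fun _ _ => W, fun _ _ => hWc, ?_⟩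
    simp only [Set.mem_singleton_iff, Set.iUnion_iUnion_eq_left]
    exact hWU
  · rw [Scheme.singleton_mem_precoverage_iff]
    exact ⟨q.surjective, inferInstance⟩

theorem Cov.of_fac {Z X Y : Scheme.{u}} (r : Z ⟶ X) (p : X ⟶ Y) (h : Cov (r ≫ p)) : Cov p := by
  refine (Scheme.fpqcTopology).superset_covering ?_ h
  rw [Sieve.generate_le_iff]
  rintro T t ⟨⟩
  exact ⟨X, r, p, Presieve.singleton.mk, rfl⟩

theorem Cov.of_isPullback {P X Y Z : Scheme.{u}} {f' : P ⟶ X} {g' : P ⟶ Y} {g : X ⟶ Z}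
    {f : Y ⟶ Z} (sq : IsPullback f' g' g f) (hg : Cov g) : Cov g' := by
  have h1 := (Scheme.fpqcTopology).pullback_stable f hg
  refine (Scheme.fpqcTopology).superset_covering ?_ h1
  rintro T t ⟨W, s, k, hk, hsk⟩
  obtain ⟨⟩ := hk
  exact ⟨P, sq.lift s t hsk, g', Presieve.singleton.mk, sq.lift_snd _ _ _⟩

theorem Cov.comp {X Y Z : Scheme.{u}} {f : X ⟶ Y} {g : Y ⟶ Z} (hf : Cov f) (hg : Cov g) :
    Cov (f ≫ g) := by
  refine (Scheme.fpqcTopology).transitive hg _ ?_
  rintro T t ⟨W, s, k, hk, hsk⟩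
  obtain ⟨⟩ := hk
  have h1 := (Scheme.fpqcTopology).pullback_stable s hf
  refine (Scheme.fpqcTopology).superset_covering ?_ h1
  rintro T' w ⟨W', v, k', hk', hvk⟩
  obtain ⟨⟩ := hk'
  refine ⟨X, v, f ≫ g, Presieve.singleton.mk, ?_⟩
  rw [← Category.assoc, hvk, Category.assoc, hsk]

theorem Cov.of_isIso {X Y : Scheme.{u}} (f : X ⟶ Y) [IsIso f] : Cov f := by
  have : Sieve.generate (Presieve.singleton f) = ⊤ := by
    rw [eq_top_iff]
    rintro T t -
    exact ⟨X, t ≫ inv f, f, Presieve.singleton.mk, by simp⟩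
  rw [Cov, this]
  exact (Scheme.fpqcTopology).top_mem Y

theorem Cov.effectiveEpi {X Y : Scheme.{u}} {f : X ⟶ Y} (h : Cov f) : EffectiveEpi f := by
  rw [← Sieve.effectiveEpimorphic_singleton,
    Presieve.EffectiveEpimorphic.iff_forall_isSheafFor_yoneda]
  intro Z
  exact (GrothendieckTopology.Subcanonical.isSheaf_of_isRepresentable _).isSheafFor _ h

variable {S : Scheme.{u}}

theorem cov_whiskerRight {A B : Over S} (f : A ⟶ B) (X : Over S) (h : Cov f.left) :
    Cov (f ▷ X).left := by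
  have sq := (isPullback_whiskerRight_fst f X).map (Over.forget S)
  exact Cov.of_isPullback sq.flip h

theorem cov_whiskerLeft (X : Over S) {A B : Over S} (f : A ⟶ B) (h : Cov f.left) :
    Cov (X ◁ f).left := by
  have sq := (isPullback_whiskerLeft_snd X f).map (Over.forget S)
  exact Cov.of_isPullback sq.flip h

theorem cov_tensorHom {A B A' B' : Over S} (f : A ⟶ B) (g : A' ⟶ B') (hf : Cov f.left)
    (hg : Cov g.left) : Cov (f ⊗ₘ g).left := by
  rw [MonoidalCategory.tensorHom_def, Over.comp_left]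
  exact (cov_whiskerRight f A' hf).comp (cov_whiskerLeft B g hg)

theorem epi_of_cov {A B : Over S} (f : A ⟶ B) (h : Cov f.left) : Epi f := by
  haveI := h.effectiveEpi
  have : Epi ((Over.forget S).map f) := by
    show Epi f.left
    infer_instance
  exact (Over.forget S).epi_of_epi_map this

theorem desc_of_cov {A B : Over S} (f : A ⟶ B) (h : Cov f.left) : Desc f := by
  haveI := h.effectiveEpi
  intro W e h
  have h' : ∀ {Z : Scheme.{u}} (g₁ g₂ : Z ⟶ A.left), g₁ ≫ f.left = g₂ ≫ f.left →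
      g₁ ≫ e.left = g₂ ≫ e.left := by
    intro Z g₁ g₂ hg
    have hZ : g₁ ≫ A.hom = g₂ ≫ A.hom := by
      rw [← Over.w f, ← Category.assoc, hg, Category.assoc]
    let Z' : Over S := Over.mk (g₁ ≫ A.hom)
    let a₁ : Z' ⟶ A := Over.homMk g₁ rfl
    let a₂ : Z' ⟶ A := Over.homMk g₂ hZ.symm
    have := h a₁ a₂ (by ext; exact hg)
    exact congrArg (·.left) this
  let d := EffectiveEpi.desc f.left e.left h'
  have hd : f.left ≫ d = e.left := EffectiveEpi.fac f.left e.left h'
  refine ⟨Over.homMk d ?_, ?_⟩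
  · rw [← cancel_epi f.left, ← Category.assoc, hd, Over.w, Over.w]
  · ext; exact hd

theorem cov_id (X : Over S) : Cov (Over.Hom.left (𝟙 X : X ⟶ X)) := by
  rw [Over.id_left]; exact Cov.of_isIso _

theorem existsUnique_grpObj_over {H G Q : Over S} [GrpObj H] [hG : GrpObj G]
    (i : H ⟶ G) [IsMonHom i]
    (hn : ∀ {Y : Over S} (g : Y ⟶ G) (h : Y ⟶ H), ∃ h' : Y ⟶ H, g * (h ≫ i) * g⁻¹ = h' ≫ i)
    (q : G ⟶ Q) (F1 : Cov q.left) (k : IsPullback (fst G H) ((G ◁ i) ≫ μ) q q) :
    ∃! s : GrpObj Q, @IsMonHom (Over S) _ _ G Q hG.toMonObj s.toMonObj q := by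
  have F2 : Cov (q ⊗ₘ q).left := cov_tensorHom q q F1 F1
  have F3 : Cov ((q ⊗ₘ q) ⊗ₘ q).left := cov_tensorHom _ q F2 F1
  have F4 : Cov (𝟙 (𝟙_ (Over S)) ⊗ₘ q).left := cov_tensorHom _ q (cov_id _) F1
  have F5 : Cov (q ⊗ₘ 𝟙 (𝟙_ (Over S))).left := cov_tensorHom q _ F1 (cov_id _)
  haveI := epi_of_cov _ F1
  haveI := epi_of_cov _ F2
  haveI := epi_of_cov _ F3
  haveI := epi_of_cov _ F4
  haveI := epi_of_cov _ F5
  exact existsUnique_grpObj i q k hn (desc_of_cov q F1) (desc_of_cov _ F2)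

theorem existsUnique_factor_over {H G Q K : Over S} [GrpObj G] [GrpObj Q] [GrpObj K]
    (i : H ⟶ G) (q : G ⟶ Q) [IsMonHom q] (F1 : Cov q.left)
    (k : IsPullback (fst G H) ((G ◁ i) ≫ μ) q q)
    (f : G ⟶ K) [IsMonHom f] (hf : i ≫ f = 1) :
    ∃! g : Q ⟶ K, q ≫ g = f ∧ IsMonHom g := by
  have F2 : Cov (q ⊗ₘ q).left := cov_tensorHom q q F1 F1
  haveI := epi_of_cov _ F1
  haveI := epi_of_cov _ F2
  exact existsUnique_factor i q k (desc_of_cov q F1) f hf

end Groth.Agent.Lib.Helper10.FpqcCov
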