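import Mathlib

/-!
# Faithfully flat quasi-compact morphisms: injectivity on sections, scheme-theoretic dominance
-/

set_option autoImplicit false
set_option backward.isDefEq.respectTransparency.types false
set_option maxHeartbeats 4000000
set_option synthInstance.maxHeartbeats 400000
universe u
open CategoryTheory CategoryTheory.Limits AlgebraicGeometry TopologicalSpace

namespace Groth.Agent.Lib.Helper10.FpqcDesc

/-- Compatibility of restriction to opens with global sections. -/
theorem topIso_inv_appTop {A B : Scheme.{u}} (f : A ⟶ B) (U : B.Opens) :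
    U.topIso.inv ≫ (f ∣_ U).appTop = f.app U ≫ (f ⁻¹ᵁ U).topIso.inv := by
  have h : (f ∣_ U).appTop = U.topIso.hom ≫ f.app U ≫ (f ⁻¹ᵁ U).topIso.inv := by
    rw [← Scheme.Hom.resLE_eq_morphismRestrict]
    have := Scheme.Hom.resLE_app_top f (U := U) (V := f ⁻¹ᵁ U) le_rfl
    rw [Scheme.Hom.appLE_eq_app] at this
    exact this
  rw [h]
  exact Iso.inv_hom_id_assoc U.topIso _

theorem restrict_surjective {A B : Scheme.{u}} (f : A ⟶ B) [Surjective f] (U : B.Opens) :
    Surjective (f ∣_ U) := by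
  refine ⟨fun y => ?_⟩
  obtain ⟨x, hx⟩ := f.surjective y.1
  refine ⟨⟨x, ?_⟩, ?_⟩
  · show f x ∈ U
    rw [hx]
    exact y.2
  · apply Subtype.ext
    rw [morphismRestrict_base_coe]
    exact hx

/-- Two global sections with the same pull-back along an epimorphism are equal. -/
theorem appTop_injective_of_epi {A B : Scheme.{u}} (f : A ⟶ B) [Epi f] :
    Function.Injective f.appTop := by
  intro s t hst
  let e := AffineSpace.toSpecMvPolyIntEquiv (X := B) PUnit.{u+1}
  let e' := AffineSpace.toSpecMvPolyIntEquiv (X := A) PUnit.{u+1}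
  have h1 : f ≫ e.symm (fun _ => s) = f ≫ e.symm (fun _ => t) := by
    apply e'.injective
    funext i
    rw [AffineSpace.toSpecMvPolyIntEquiv_comp, AffineSpace.toSpecMvPolyIntEquiv_comp]
    show f.appTop (e (e.symm fun _ => s) i) = f.appTop (e (e.symm fun _ => t) i)
    rw [Equiv.apply_symm_apply, Equiv.apply_symm_apply]
    exact hst
  have h2 := (cancel_epi f).mp h1
  have h3 := congrArg (fun g => e g PUnit.unit) h2
  simpa using h3

/-- A flat, surjective, quasi-compact morphism is injective on sections over every open. -/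
theorem app_injective_of_flat {A B : Scheme.{u}} (f : A ⟶ B) [Flat f] [Surjective f]
    [QuasiCompact f] (U : B.Opens) : Function.Injective (f.app U) := by
  haveI : Flat (f ∣_ U) := IsZariskiLocalAtTarget.restrict ‹Flat f› U
  haveI : QuasiCompact (f ∣_ U) := IsZariskiLocalAtTarget.restrict ‹QuasiCompact f› U
  haveI : Surjective (f ∣_ U) := restrict_surjective f U
  haveI : Epi (f ∣_ U) := inferInstance
  have hinj := appTop_injective_of_epi (f ∣_ U)
  intro s t hst
  have h1 : (f ∣_ U).appTop (U.topIso.inv s) = (f ∣_ U).appTop (U.topIso.inv t) := by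
    have e := topIso_inv_appTop f U
    have es := congrArg (fun r => r.hom s) e
    have et := congrArg (fun r => r.hom t) e
    simp only [CommRingCat.hom_comp, RingHom.comp_apply] at es et
    rw [es, et, show (f.app U).hom s = (f.app U).hom t from hst]
  have h2 := hinj h1
  have h3 := congrArg U.topIso.hom h2
  have hinvhom : ∀ s : Γ(B, U), U.topIso.hom (U.topIso.inv s) = s := fun s =>
    congrArg (fun r => r.hom s) U.topIso.inv_hom_id
  rwa [hinvhom, hinvhom] at h3

/-- A morphism injective on sections over all (affine) opens is scheme-theoretically dominant. -/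
theorem isSchemeTheoreticallyDominant_of_app_injective {A B : Scheme.{u}} (f : A ⟶ B)
    (hi : ∀ U : B.Opens, Function.Injective (f.app U)) : IsSchemeTheoreticallyDominant f := by
  rw [isSchemeTheoreticallyDominant_iff]
  apply Scheme.IdealSheafData.ext
  funext U
  rw [Scheme.IdealSheafData.ideal_bot, Pi.bot_apply, ← le_bot_iff]
  refine (Scheme.Hom.ideal_ker_le f U).trans ?_
  rw [le_bot_iff, ← RingHom.injective_iff_ker_eq_bot]
  exact hi U.1

/-- The flat base change of a quasi-compact morphism injective on sections is injective on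
sections. -/
theorem app_injective_of_isPullback {A B A' B' : Scheme.{u}} {f : A ⟶ B} {g : B' ⟶ B}
    {pA : A' ⟶ A} {f' : A' ⟶ B'} (H : IsPullback pA f' f g) [QuasiCompact f] [Flat g]
    (hi : ∀ U : B.Opens, Function.Injective (f.app U)) (U' : B'.Opens) :
    Function.Injective (f'.app U') := by
  haveI := isSchemeTheoreticallyDominant_of_app_injective f hi
  haveI : IsSchemeTheoreticallyDominant f' := IsSchemeTheoreticallyDominant.of_isPullback H
  haveI : QuasiCompact f' := MorphismProperty.of_isPullback H ‹QuasiCompact f›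
  exact f'.app_injective U'

/-- Descent of sections along a flat, surjective, quasi-compact morphism: a section over `α⁻¹U`
whose two pull-backs to the kernel pair agree comes from a section over `U`. -/
theorem exists_section_of_kernelPair {B' B : Scheme.{u}} (α : B' ⟶ B) [Flat α] [Surjective α]
    [QuasiCompact α] (U : B.Opens) (s' : Γ(B', α ⁻¹ᵁ U))
    (H : (pullback.fst (α ∣_ U) (α ∣_ U)).appTop ((α ⁻¹ᵁ U).topIso.inv s') =
      (pullback.snd (α ∣_ U) (α ∣_ U)).appTop ((α ⁻¹ᵁ U).topIso.inv s')) :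
    ∃ s : Γ(B, U), α.app U s = s' := by
  haveI : Flat (α ∣_ U) := IsZariskiLocalAtTarget.restrict ‹Flat α› U
  haveI : QuasiCompact (α ∣_ U) := IsZariskiLocalAtTarget.restrict ‹QuasiCompact α› U
  haveI : Surjective (α ∣_ U) := restrict_surjective α U
  haveI : EffectiveEpi (α ∣_ U) := inferInstance
  let E := fun (Z : Scheme.{u}) => AffineSpace.toSpecMvPolyIntEquiv (X := Z) PUnit.{u+1}
  let e : (α ⁻¹ᵁ U).toScheme ⟶ Spec (CommRingCat.of (MvPolynomial PUnit.{u+1} (ULift.{u} ℤ))) :=
    (E _).symm (fun _ => (α ⁻¹ᵁ U).topIso.inv s')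
  have hcond : ∀ {T : Scheme.{u}} (g₁ g₂ : T ⟶ (α ⁻¹ᵁ U).toScheme),
      g₁ ≫ (α ∣_ U) = g₂ ≫ (α ∣_ U) → g₁ ≫ e = g₂ ≫ e := by
    intro T g₁ g₂ hg
    have e1 : g₁ = pullback.lift g₁ g₂ hg ≫ pullback.fst _ _ := (pullback.lift_fst _ _ _).symm
    have e2 : g₂ = pullback.lift g₁ g₂ hg ≫ pullback.snd _ _ := (pullback.lift_snd _ _ _).symm
    have key : pullback.fst (α ∣_ U) (α ∣_ U) ≫ e = pullback.snd (α ∣_ U) (α ∣_ U) ≫ e := by
      apply (E _).injective
      funext i
      show E _ (pullback.fst (α ∣_ U) (α ∣_ U) ≫ e) i = E _ (pullback.snd (α ∣_ U) (α ∣_ U) ≫ e) i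
      rw [AffineSpace.toSpecMvPolyIntEquiv_comp, AffineSpace.toSpecMvPolyIntEquiv_comp]
      show (pullback.fst (α ∣_ U) (α ∣_ U)).appTop (E _ ((E _).symm _) i) =
        (pullback.snd (α ∣_ U) (α ∣_ U)).appTop (E _ ((E _).symm _) i)
      rw [Equiv.apply_symm_apply]
      exact H
    calc g₁ ≫ e = (pullback.lift g₁ g₂ hg ≫ pullback.fst _ _) ≫ e := by rw [← e1]
      _ = pullback.lift g₁ g₂ hg ≫ pullback.snd _ _ ≫ e := by rw [Category.assoc, key]
      _ = g₂ ≫ e := by rw [← Category.assoc, ← e2]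
  let d := EffectiveEpi.desc (α ∣_ U) e hcond
  have hd : (α ∣_ U) ≫ d = e := EffectiveEpi.fac (α ∣_ U) e hcond
  let sh : Γ(U.toScheme, ⊤) := E _ d PUnit.unit
  have hsh : (α ∣_ U).appTop sh = (α ⁻¹ᵁ U).topIso.inv s' := by
    have h1 : E _ ((α ∣_ U) ≫ d) PUnit.unit = E _ e PUnit.unit :=
      congrArg (fun g => E _ g PUnit.unit) hd
    rw [AffineSpace.toSpecMvPolyIntEquiv_comp] at h1
    refine h1.trans ?_
    show E _ ((E _).symm _) PUnit.unit = _
    rw [Equiv.apply_symm_apply]
  refine ⟨U.topIso.hom sh, ?_⟩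
  have e3 := congrArg (fun r => r.hom (U.topIso.hom sh)) (topIso_inv_appTop α U)
  simp only [CommRingCat.hom_comp, RingHom.comp_apply] at e3
  have hhominv : U.topIso.inv (U.topIso.hom sh) = sh :=
    congrArg (fun r => r.hom sh) U.topIso.hom_inv_id
  rw [show (U.topIso.inv).hom ((U.topIso.hom).hom sh) = sh from hhominv] at e3
  rw [show ((α ∣_ U).appTop).hom sh = (α ⁻¹ᵁ U).topIso.inv s' from hsh] at e3
  have e4 := congrArg (α ⁻¹ᵁ U).topIso.hom e3
  have hinvhom : ∀ t : Γ(B', α ⁻¹ᵁ U), (α ⁻¹ᵁ U).topIso.hom ((α ⁻¹ᵁ U).topIso.inv t) = t :=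
    fun t => congrArg (fun r => r.hom t) (α ⁻¹ᵁ U).topIso.inv_hom_id
  rw [hinvhom] at e4
  exact (e4.trans (hinvhom _)).symm

theorem ι_appLE_top {B' : Scheme.{u}} (V : B'.Opens) (h : (⊤ : V.toScheme.Opens) ≤ V.ι ⁻¹ᵁ V) :
    V.ι.appLE V ⊤ h = V.topIso.inv := by
  rw [Scheme.Opens.ι_appLE, Scheme.Opens.topIso_inv]
  congr 1

/-- pulling back the global section `V.topIso.inv s'` along a morphism into the open subscheme. -/
theorem appTop_topIso_inv {B' T : Scheme.{u}} (V : B'.Opens) (g : T ⟶ V.toScheme)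
    (s' : Γ(B', V)) (h : (⊤ : T.Opens) ≤ (g ≫ V.ι) ⁻¹ᵁ V) :
    g.appTop (V.topIso.inv s') = (g ≫ V.ι).appLE V ⊤ h s' := by
  have h0 : (⊤ : V.toScheme.Opens) ≤ V.ι ⁻¹ᵁ V := by
    rw [Scheme.Opens.ι_preimage_self]
  have e : (g ≫ V.ι).appLE V ⊤ h = V.ι.appLE V ⊤ h0 ≫ g.appLE ⊤ ⊤ le_top := by
    rw [Scheme.Hom.appLE_comp_appLE]
  have e2 : g.appLE ⊤ ⊤ le_top = g.appTop := by
    simp [Scheme.Hom.appLE]
  rw [e, ι_appLE_top, e2]
  rfl

end Groth.Agent.Lib.Helper10.FpqcDesc
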