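import Mathlib
import Groth.Prelude.Def_W4bk4git07Quot
import Groth.Agent.Lib.Helper10.BCAct1
import Groth.Agent.Lib.Helper10.InvSec1
import Groth.Agent.Lib.Helper10.CatQuot2
import Groth.Agent.Lib.Helper10.FpqcDesc1
import Groth.Agent.Lib.Helper10.GoodQuot3

/-!
# Descent of geometric quotients along faithfully flat quasi-compact base change
-/

set_option autoImplicit false
set_option backward.isDefEq.respectTransparency.types false
set_option maxHeartbeats 4000000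
set_option synthInstance.maxHeartbeats 400000
universe u
open CategoryTheory CategoryTheory.Limits AlgebraicGeometry MonoidalCategory
  CartesianMonoidalCategory MonObj GrpObj TopologicalSpace

namespace Groth.Agent.Lib.Helper10.FpqcDesc

open Groth.Agent.Lib.Helper10 Groth.Agent.Lib.Helper10.HomSp

variable {S : Scheme.{u}} {G X Y X' Y' : Over S} [GrpObj G] (a : AlgGrp.Action G X) (φ : X ⟶ Y)
  (hinv : GIT.IsInvariant a φ)
  (α : Y' ⟶ Y) (pr : X' ⟶ X) (φ' : X' ⟶ Y') (hpb : IsPullback pr φ' φ α)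
  (a' : AlgGrp.Action G X') (heq : a'.act ≫ pr = (G ◁ pr) ≫ a.act)
  (hinv' : GIT.IsInvariant a' φ')

include hpb in
theorem surjective_desc (hα : Function.Surjective α.left) (hs' : Function.Surjective φ'.left) :
    Function.Surjective φ.left := by
  intro y
  obtain ⟨y', rfl⟩ := hα y
  obtain ⟨x', rfl⟩ := hs' y'
  refine ⟨pr.left x', ?_⟩
  have := congrArg (fun t => t.left x') hpb.w
  simpa only [Over.comp_left, Scheme.Hom.comp_apply] using this

include hpb heq in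
theorem surjective_PsiY_desc (hα : Function.Surjective α.left)
    (horb' : Function.Surjective (GIT.PsiY a' φ' hinv').base) :
    Function.Surjective (GIT.PsiY a φ hinv).base := by
  have hpbL : IsPullback pr.left φ'.left φ.left α.left := hpb.map (Over.forget S)
  have h1 : Surjective α.left := ⟨hα⟩
  have h2 : Surjective pr.left := MorphismProperty.of_isPullback hpbL.flip h1
  have h3 : Surjective (BCAct.kmap hpb) :=
    MorphismProperty.of_isPullback (BCAct.isPullback_kmap_snd hpb).flip h2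
  intro z
  obtain ⟨z', rfl⟩ := h3.surj z
  obtain ⟨w', rfl⟩ := horb' z'
  refine ⟨(G ◁ pr).left w', ?_⟩
  have := congrArg (fun t => t.base w') (BCAct.PsiY_kmap hpb hinv a' heq hinv')
  simp only [Scheme.Hom.comp_base, TopCat.comp_app] at this
  exact this.symm

include hpb in
theorem isUnivSubmersive_desc [Flat α.left] [Surjective α.left] [QuasiCompact α.left]
    (hsub' : GIT.IsUnivSubmersive φ'.left) : GIT.IsUnivSubmersive φ.left := by
  have hpbL : IsPullback pr.left φ'.left φ.left α.left := hpb.map (Over.forget S)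
  intro X₂ T i₁ i₂ f'' hsq
  -- hsq : IsPullback f'' i₁ i₂ φ.left
  let β : pullback i₂ α.left ⟶ T := pullback.fst i₂ α.left
  haveI : Flat β := inferInstance
  haveI : Surjective β := inferInstance
  haveI : QuasiCompact β := inferInstance
  have hβ : Topology.IsQuotientMap β := Flat.isQuotientMap_of_surjective β
  let pX₂ : pullback f'' β ⟶ X₂ := pullback.fst f'' β
  let f₃ : pullback f'' β ⟶ pullback i₂ α.left := pullback.snd f'' β
  -- the map to `X'`
  have hw : (pX₂ ≫ i₁) ≫ φ.left = (f₃ ≫ pullback.snd i₂ α.left) ≫ α.left := by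
    rw [Category.assoc, ← hsq.w, ← Category.assoc, pullback.condition, Category.assoc,
      pullback.condition, Category.assoc]
  let l : pullback f'' β ⟶ X'.left := hpbL.lift (pX₂ ≫ i₁) (f₃ ≫ pullback.snd i₂ α.left) hw
  have hl1 : l ≫ pr.left = pX₂ ≫ i₁ := hpbL.lift_fst _ _ _
  have hl2 : l ≫ φ'.left = f₃ ≫ pullback.snd i₂ α.left := hpbL.lift_snd _ _ _
  -- outer square
  have sq1 : IsPullback pX₂ f₃ f'' β := IsPullback.of_hasPullback f'' β
  have sq2 : IsPullback (pullback.fst i₂ α.left) (pullback.snd i₂ α.left) i₂ α.left :=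
    IsPullback.of_hasPullback i₂ α.left
  -- `f₃` is a base change of `φ'`
  have outer : IsPullback (pX₂ ≫ i₁) f₃ φ.left (β ≫ i₂) := sq1.paste_horiz hsq.flip
  have outer' : IsPullback (l ≫ pr.left) f₃ φ.left (pullback.snd i₂ α.left ≫ α.left) := by
    rw [hl1, ← pullback.condition]
    exact outer
  have left : IsPullback l f₃ φ'.left (pullback.snd i₂ α.left) :=
    IsPullback.of_right outer' hl2 hpbL
  have hf₃ : Topology.IsQuotientMap f₃ := hsub' _ _ _ left.flip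
  have hcomp : Topology.IsQuotientMap (f'' ∘ pX₂) := by
    have : (f'' ∘ pX₂ : ↥(pullback f'' β) → ↥T) = β ∘ f₃ := by
      funext x
      have := congrArg (fun t => t.base x) (pullback.condition (f := f'') (g := β))
      simp only [Scheme.Hom.comp_base, TopCat.comp_app] at this
      exact this
    rw [this]
    exact hβ.comp hf₃
  exact Topology.IsQuotientMap.of_comp pX₂.continuous f''.continuous hcomp

theorem appLE_congr_hom {A B : Scheme.{u}} {f g : A ⟶ B} (e : f = g) (U : B.Opens) (V : A.Opens)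
    (h₁ : V ≤ f ⁻¹ᵁ U) (h₂ : V ≤ g ⁻¹ᵁ U) : f.appLE U V h₁ = g.appLE U V h₂ := by
  subst e
  rfl

theorem appLE_comp_apply {A B C : Scheme.{u}} (f : A ⟶ B) (g : B ⟶ C) (U : C.Opens)
    (V : B.Opens) (W : A.Opens) (e₁ : V ≤ g ⁻¹ᵁ U) (e₂ : W ≤ f ⁻¹ᵁ V) (e₃ : W ≤ (f ≫ g) ⁻¹ᵁ U)
    (s : Γ(C, U)) : f.appLE V W e₂ (g.appLE U V e₁ s) = (f ≫ g).appLE U W e₃ s := by
  have := Scheme.Hom.appLE_comp_appLE f g U V W e₁ e₂
  exact congrArg (fun t => t.hom s) this

theorem appTop_comp_topIso_inv {B' T XT : Scheme.{u}} (V : B'.Opens) (p : T ⟶ V.toScheme)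
    (φT : XT ⟶ T) (s' : Γ(B', V)) (h : (⊤ : XT.Opens) ≤ (φT ≫ p ≫ V.ι) ⁻¹ᵁ V) :
    φT.appTop (p.appTop (V.topIso.inv s')) = (φT ≫ p ≫ V.ι).appLE V ⊤ h s' := by
  have h' : (⊤ : XT.Opens) ≤ ((φT ≫ p) ≫ V.ι) ⁻¹ᵁ V := by
    rw [Category.assoc]; exact h
  have e1 : φT.appTop (p.appTop (V.topIso.inv s')) = (φT ≫ p).appTop (V.topIso.inv s') := by
    rw [Scheme.Hom.comp_appTop]
    rfl
  rw [e1, appTop_topIso_inv V (φT ≫ p) s' h']
  exact congrArg (fun t => t.hom s') (appLE_congr_hom (Category.assoc _ _ _) _ _ h' h)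

section Sections

variable {a φ α pr φ' a'}

/-- the key computation: pulling a section `s'` of `O_{Y'}` with `φ'^* s' = pr^* f` back along a
square over `φ'`. -/
theorem key_comp (U : Y.left.Opens)
    (hle : φ'.left ⁻¹ᵁ (α.left ⁻¹ᵁ U) ≤ pr.left ⁻¹ᵁ (φ.left ⁻¹ᵁ U))
    {XT T₀ : Scheme.{u}} (q : XT ⟶ X'.left) (β : T₀ ⟶ Y'.left) (φT : XT ⟶ T₀)
    (hq : q ≫ φ'.left = φT ≫ β) (hβ : (⊤ : T₀.Opens) ≤ β ⁻¹ᵁ (α.left ⁻¹ᵁ U))
    (s' : Γ(Y'.left, α.left ⁻¹ᵁ U)) (f : Γ(X.left, φ.left ⁻¹ᵁ U))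
    (hs' : φ'.left.app (α.left ⁻¹ᵁ U) s' = pr.left.appLE _ _ hle f)
    (h₁ : (⊤ : XT.Opens) ≤ (φT ≫ β) ⁻¹ᵁ (α.left ⁻¹ᵁ U))
    (h₂ : (⊤ : XT.Opens) ≤ (q ≫ pr.left) ⁻¹ᵁ (φ.left ⁻¹ᵁ U)) :
    (φT ≫ β).appLE (α.left ⁻¹ᵁ U) ⊤ h₁ s' = (q ≫ pr.left).appLE (φ.left ⁻¹ᵁ U) ⊤ h₂ f := by
  have h₃ : (⊤ : XT.Opens) ≤ (q ≫ φ'.left) ⁻¹ᵁ (α.left ⁻¹ᵁ U) := by
    rw [hq]; exact h₁
  have h₄ : (⊤ : XT.Opens) ≤ q ⁻¹ᵁ (φ'.left ⁻¹ᵁ (α.left ⁻¹ᵁ U)) := h₃
  rw [appLE_congr_hom hq.symm _ _ h₁ h₃,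
    ← appLE_comp_apply q φ'.left (α.left ⁻¹ᵁ U) (φ'.left ⁻¹ᵁ (α.left ⁻¹ᵁ U)) ⊤ le_rfl h₄ h₃,
    Scheme.Hom.appLE_eq_app, hs', appLE_comp_apply]

theorem top_le_of_comp (U : Y.left.Opens)
    (hpt : ∀ x : X'.left, φ.left (pr.left x) = α.left (φ'.left x))
    {XT T₀ : Scheme.{u}} (q : XT ⟶ X'.left) (p : T₀ ⟶ (α.left ⁻¹ᵁ U).toScheme) (φT : XT ⟶ T₀)
    (hq : q ≫ φ'.left = φT ≫ p ≫ (α.left ⁻¹ᵁ U).ι) :
    (⊤ : XT.Opens) ≤ (q ≫ pr.left) ⁻¹ᵁ (φ.left ⁻¹ᵁ U) := by
  intro x _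
  show φ.left (pr.left (q x)) ∈ U
  rw [hpt]
  have := congrArg (fun t => t.base x) hq
  simp only [Scheme.Hom.comp_base, TopCat.comp_app] at this
  show α.left (φ'.left (q x)) ∈ U
  rw [this]
  exact (p (φT x)).2

theorem key_comp' (U : Y.left.Opens)
    (hpt : ∀ x : X'.left, φ.left (pr.left x) = α.left (φ'.left x))
    (hle : φ'.left ⁻¹ᵁ (α.left ⁻¹ᵁ U) ≤ pr.left ⁻¹ᵁ (φ.left ⁻¹ᵁ U))
    {XT T₀ : Scheme.{u}} (q : XT ⟶ X'.left) (p : T₀ ⟶ (α.left ⁻¹ᵁ U).toScheme) (φT : XT ⟶ T₀)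
    (hq : q ≫ φ'.left = φT ≫ p ≫ (α.left ⁻¹ᵁ U).ι)
    (s' : Γ(Y'.left, α.left ⁻¹ᵁ U)) (f : Γ(X.left, φ.left ⁻¹ᵁ U))
    (hs' : φ'.left.app (α.left ⁻¹ᵁ U) s' = pr.left.appLE _ _ hle f) :
    φT.appTop (p.appTop ((α.left ⁻¹ᵁ U).topIso.inv s')) =
      (q ≫ pr.left).appLE (φ.left ⁻¹ᵁ U) ⊤ (top_le_of_comp U hpt q p φT hq) f := by
  have hβtop : (⊤ : T₀.Opens) ≤ (p ≫ (α.left ⁻¹ᵁ U).ι) ⁻¹ᵁ (α.left ⁻¹ᵁ U) :=
    fun x _ => (p x).2
  have htop1 : (⊤ : XT.Opens) ≤ (φT ≫ p ≫ (α.left ⁻¹ᵁ U).ι) ⁻¹ᵁ (α.left ⁻¹ᵁ U) :=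
    fun x _ => (p (φT x)).2
  rw [appTop_comp_topIso_inv (α.left ⁻¹ᵁ U) p φT s' htop1]
  exact key_comp U hle q (p ≫ (α.left ⁻¹ᵁ U).ι) φT hq hβtop s' f hs' htop1 _

include hpb heq in
theorem sections_desc [Flat α.left] [Surjective α.left] [QuasiCompact α.left]
    [QuasiCompact φ.left] (hinv : GIT.IsInvariant a φ)
    (hsec' : ∀ U' : Y'.left.Opens, Function.Injective (φ'.left.app U') ∧
      Set.range (φ'.left.app U') = {f | GIT.IsInvSection a' φ' U' f})
    (U : Y.left.Opens) :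
    Function.Injective (φ.left.app U) ∧
      Set.range (φ.left.app U) = {f | GIT.IsInvSection a φ U f} := by
  have hpbL : IsPullback pr.left φ'.left φ.left α.left := hpb.map (Over.forget S)
  have hwL : pr.left ≫ φ.left = φ'.left ≫ α.left := hpbL.w
  have hpt : ∀ x : X'.left, φ.left (pr.left x) = α.left (φ'.left x) := by
    intro x
    have := congrArg (fun t => t.base x) hwL
    simpa only [Scheme.Hom.comp_base, TopCat.comp_app] using this
  have hle : φ'.left ⁻¹ᵁ (α.left ⁻¹ᵁ U) ≤ pr.left ⁻¹ᵁ (φ.left ⁻¹ᵁ U) := by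
    intro x hx
    show φ.left (pr.left x) ∈ U
    rw [hpt]
    exact hx
  have hge : pr.left ⁻¹ᵁ (φ.left ⁻¹ᵁ U) ≤ φ'.left ⁻¹ᵁ (α.left ⁻¹ᵁ U) := by
    intro x hx
    show α.left (φ'.left x) ∈ U
    rw [← hpt]
    exact hx
  have heqV : φ'.left ⁻¹ᵁ (α.left ⁻¹ᵁ U) = pr.left ⁻¹ᵁ (φ.left ⁻¹ᵁ U) := le_antisymm hle hge
  have R1 : α.left.app U ≫ φ'.left.app (α.left ⁻¹ᵁ U) =
      φ.left.app U ≫ pr.left.appLE (φ.left ⁻¹ᵁ U) (φ'.left ⁻¹ᵁ (α.left ⁻¹ᵁ U)) hle := by
    rw [Scheme.Hom.app_eq_appLE, Scheme.Hom.app_eq_appLE, Scheme.Hom.app_eq_appLE (f := φ.left),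
      Scheme.Hom.appLE_comp_appLE, Scheme.Hom.appLE_comp_appLE]
    exact appLE_congr_hom hwL.symm _ _ _ _
  haveI : Flat pr.left := MorphismProperty.of_isPullback hpbL.flip ‹Flat α.left›
  haveI : Surjective pr.left := MorphismProperty.of_isPullback hpbL.flip ‹Surjective α.left›
  haveI : QuasiCompact pr.left := MorphismProperty.of_isPullback hpbL.flip ‹QuasiCompact α.left›
  haveI : QuasiCompact φ'.left := MorphismProperty.of_isPullback hpbL ‹QuasiCompact φ.left›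
  have hprinj : Function.Injective
      (pr.left.appLE (φ.left ⁻¹ᵁ U) (φ'.left ⁻¹ᵁ (α.left ⁻¹ᵁ U)) hle) := by
    rw [Scheme.Hom.appLE]
    have h1 := app_injective_of_flat pr.left (φ.left ⁻¹ᵁ U)
    have hiso : IsIso (X'.left.presheaf.map (homOfLE hle).op) := by
      have : homOfLE hle = eqToHom heqV := Subsingleton.elim _ _
      rw [this]
      infer_instance
    have h2 := ((ConcreteCategory.isIso_iff_bijective _).mp hiso).1
    intro s t hst
    exact h1 (h2 hst)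
  refine ⟨?_, ?_⟩
  · intro s t hst
    apply app_injective_of_flat α.left U
    apply (hsec' (α.left ⁻¹ᵁ U)).1
    have es := congrArg (fun r => r.hom s) R1
    have et := congrArg (fun r => r.hom t) R1
    simp only [CommRingCat.hom_comp, RingHom.comp_apply] at es et
    rw [es, et, show (φ.left.app U).hom s = (φ.left.app U).hom t from hst]
  · apply Set.Subset.antisymm
    · rintro _ ⟨s, rfl⟩
      have := CatQuot.isInvSection_appLE a φ φ hinv U U le_rfl s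
      rwa [Scheme.Hom.appLE_eq_app] at this
    · intro f hf
      -- the pulled back section is invariant
      have hf' : GIT.IsInvSection a' φ' (α.left ⁻¹ᵁ U)
          (pr.left.appLE (φ.left ⁻¹ᵁ U) (φ'.left ⁻¹ᵁ (α.left ⁻¹ᵁ U)) hle f) := by
        have h1 := InvSec.isInv_restrict a a' pr heq (φ.left ⁻¹ᵁ U) f hf
        have h2 := (GoodQuot.isInv_congr a' heqV (pr.left.app (φ.left ⁻¹ᵁ U) f)).mp h1
        have e3 : pr.left.appLE (φ.left ⁻¹ᵁ U) (φ'.left ⁻¹ᵁ (α.left ⁻¹ᵁ U)) hle f =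
            X'.left.presheaf.map (eqToHom heqV).op (pr.left.app (φ.left ⁻¹ᵁ U) f) := by
          have : homOfLE hle = eqToHom heqV := Subsingleton.elim _ _
          rw [Scheme.Hom.appLE, this]
          rfl
        rw [e3]
        exact h2
      obtain ⟨s', hs'⟩ : pr.left.appLE (φ.left ⁻¹ᵁ U) (φ'.left ⁻¹ᵁ (α.left ⁻¹ᵁ U)) hle f ∈
          Set.range (φ'.left.app (α.left ⁻¹ᵁ U)) := by
        rw [(hsec' (α.left ⁻¹ᵁ U)).2]
        exact hf'
      -- descend `s'`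
      have H : (pullback.fst (α.left ∣_ U) (α.left ∣_ U)).appTop
            ((α.left ⁻¹ᵁ U).topIso.inv s') =
          (pullback.snd (α.left ∣_ U) (α.left ∣_ U)).appTop
            ((α.left ⁻¹ᵁ U).topIso.inv s') := by
        haveI : Flat (α.left ∣_ U) := IsZariskiLocalAtTarget.restrict ‹Flat α.left› U
        have hβ : (pullback.fst (α.left ∣_ U) (α.left ∣_ U) ≫ (α.left ⁻¹ᵁ U).ι) ≫ α.left =
            (pullback.snd (α.left ∣_ U) (α.left ∣_ U) ≫ (α.left ⁻¹ᵁ U).ι) ≫ α.left := by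
          rw [Category.assoc, Category.assoc, ← morphismRestrict_ι, ← Category.assoc,
            ← Category.assoc, pullback.condition]
        haveI : Flat (pullback.fst (α.left ∣_ U) (α.left ∣_ U)) := inferInstance
        haveI : Flat (pullback.fst (α.left ∣_ U) (α.left ∣_ U) ≫ (α.left ⁻¹ᵁ U).ι) :=
          inferInstance
        have sqT := IsPullback.of_hasPullback φ'.left
          (pullback.fst (α.left ∣_ U) (α.left ∣_ U) ≫ (α.left ⁻¹ᵁ U).ι)
        have hφT : Function.Injective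
            (pullback.snd φ'.left
              (pullback.fst (α.left ∣_ U) (α.left ∣_ U) ≫ (α.left ⁻¹ᵁ U).ι)).appTop :=
          app_injective_of_isPullback sqT (fun U => (hsec' U).1) ⊤
        apply hφT
        have hw2 : (pullback.fst φ'.left
              (pullback.fst (α.left ∣_ U) (α.left ∣_ U) ≫ (α.left ⁻¹ᵁ U).ι) ≫ pr.left) ≫ φ.left =
            (pullback.snd φ'.left
              (pullback.fst (α.left ∣_ U) (α.left ∣_ U) ≫ (α.left ⁻¹ᵁ U).ι) ≫
              pullback.snd (α.left ∣_ U) (α.left ∣_ U) ≫ (α.left ⁻¹ᵁ U).ι) ≫ α.left := by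
          rw [Category.assoc, hwL, ← Category.assoc, sqT.w, Category.assoc, hβ]
          simp only [Category.assoc]
        have hq₂1 := hpbL.lift_fst _ _ hw2
        have hq₂2 := hpbL.lift_snd _ _ hw2
        have hq₁2 : pullback.fst φ'.left
              (pullback.fst (α.left ∣_ U) (α.left ∣_ U) ≫ (α.left ⁻¹ᵁ U).ι) ≫ φ'.left =
            pullback.snd φ'.left
              (pullback.fst (α.left ∣_ U) (α.left ∣_ U) ≫ (α.left ⁻¹ᵁ U).ι) ≫
              pullback.fst (α.left ∣_ U) (α.left ∣_ U) ≫ (α.left ⁻¹ᵁ U).ι := sqT.w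
        rw [key_comp' U hpt hle _ _ _ hq₁2 s' f hs', key_comp' U hpt hle _ _ _ hq₂2 s' f hs']
        exact congrArg (fun t => t.hom f)
          (appLE_congr_hom hq₂1.symm (φ.left ⁻¹ᵁ U) ⊤ _ _)
      obtain ⟨s, hs⟩ := exists_section_of_kernelPair α.left U s' H
      refine ⟨s, ?_⟩
      apply hprinj
      have es := congrArg (fun r => r.hom s) R1
      simp only [CommRingCat.hom_comp, RingHom.comp_apply] at es
      rw [← es, show (α.left.app U).hom s = s' from hs]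
      exact hs'

include hpb heq in
/-- Descent of geometric quotients along a faithfully flat quasi-compact base change. -/
theorem isGeomQuot_desc [Flat α.left] [Surjective α.left] [QuasiCompact α.left]
    [QuasiCompact φ.left] (hinv : GIT.IsInvariant a φ) (h : GIT.IsGeomQuot a' φ') :
    GIT.IsGeomQuot a φ :=
  ⟨hinv,
    surjective_desc φ α pr φ' hpb (inferInstance : Surjective α.left).surj h.surj,
    surjective_PsiY_desc a φ hinv α pr φ' hpb a' heq h.inv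
      (inferInstance : Surjective α.left).surj h.orbit,
    isUnivSubmersive_desc φ α pr φ' hpb h.subm,
    sections_desc hpb heq hinv h.sections⟩

end Sections

end Groth.Agent.Lib.Helper10.FpqcDesc
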