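import Mathlib
import Groth.Prelude.Def_W4bk4git07Quot
import Groth.Agent.Lib.Helper10.FpqcDesc2

/-!
# Descent of universal geometric quotients along faithfully flat quasi-compact base change
-/

set_option autoImplicit false
set_option backward.isDefEq.respectTransparency.types false
set_option maxHeartbeats 4000000
set_option synthInstance.maxHeartbeats 400000
universe u
open CategoryTheory CategoryTheory.Limits AlgebraicGeometry MonoidalCategory
  CartesianMonoidalCategory MonObj GrpObj TopologicalSpace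

namespace Groth.Agent.Lib.Helper10.FpqcDesc

open Groth.Agent.Lib.Helper10 Groth.Agent.Lib.Helper10.HomSp

variable {S : Scheme.{u}} {G X Y X' Y' : Over S} [GrpObj G] {a : AlgGrp.Action G X} {φ : X ⟶ Y}
  {α : Y' ⟶ Y} {pr : X' ⟶ X} {φ' : X' ⟶ Y'} (hpb : IsPullback pr φ' φ α)
  {a' : AlgGrp.Action G X'} (heq : a'.act ≫ pr = (G ◁ pr) ≫ a.act)

include hpb heq in
theorem isUnivGeomQuot_desc [Flat α.left] [Surjective α.left] [QuasiCompact α.left]
    [QuasiCompact φ.left] (hinv : GIT.IsInvariant a φ) (h : GIT.IsUnivGeomQuot a' φ') :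
    GIT.IsUnivGeomQuot a φ := by
  refine ⟨isGeomQuot_desc hpb heq hinv h.1, ?_⟩
  intro X₂ T pr₂ φ₂ g₂ _ hpb₂ a₂ ha₂ hinv₂
  have hpb' : IsPullback (pullback.fst φ₂ (pullback.fst g₂ α)) (pullback.snd φ₂ (pullback.fst g₂ α))
      φ₂ (pullback.fst g₂ α) := IsPullback.of_hasPullback _ _
  obtain ⟨a₂', ha₂', hinv₂'⟩ := BCAct.exists_induced_action a₂ φ₂ _ _ _ hpb' hinv₂
  have sqα : IsPullback (pullback.fst g₂ α).left (pullback.snd g₂ α).left g₂.left α.left :=
    (IsPullback.of_hasPullback g₂ α).map (Over.forget S)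
  haveI : Flat (pullback.fst g₂ α).left := MorphismProperty.of_isPullback sqα.flip ‹Flat α.left›
  haveI : Surjective (pullback.fst g₂ α).left :=
    MorphismProperty.of_isPullback sqα.flip ‹Surjective α.left›
  haveI : QuasiCompact (pullback.fst g₂ α).left :=
    MorphismProperty.of_isPullback sqα.flip ‹QuasiCompact α.left›
  haveI : QuasiCompact φ₂.left :=
    MorphismProperty.of_isPullback (hpb₂.map (Over.forget S)) ‹QuasiCompact φ.left›
  -- the base change of `φ'`
  have hw : (pullback.fst φ₂ (pullback.fst g₂ α) ≫ pr₂) ≫ φ =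
      (pullback.snd φ₂ (pullback.fst g₂ α) ≫ pullback.snd g₂ α) ≫ α := by
    rw [Category.assoc, hpb₂.w, ← Category.assoc, hpb'.w, Category.assoc, pullback.condition,
      Category.assoc]
  have hl1 := hpb.lift_fst _ _ hw
  have hl2 := hpb.lift_snd _ _ hw
  have outer : IsPullback (hpb.lift _ _ hw ≫ pr) (pullback.snd φ₂ (pullback.fst g₂ α)) φ
      (pullback.snd g₂ α ≫ α) := by
    rw [hl1, ← pullback.condition]
    exact hpb'.paste_horiz hpb₂
  have left : IsPullback (hpb.lift _ _ hw) (pullback.snd φ₂ (pullback.fst g₂ α)) φ'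
      (pullback.snd g₂ α) := IsPullback.of_right outer hl2 hpb
  have hequiv : a₂'.act ≫ hpb.lift _ _ hw = (G ◁ hpb.lift _ _ hw) ≫ a'.act := by
    apply hpb.hom_ext
    · rw [Category.assoc, hl1, ← Category.assoc, ha₂', Category.assoc, ha₂, Category.assoc, heq,
        ← MonoidalCategory.whiskerLeft_comp_assoc, ← MonoidalCategory.whiskerLeft_comp_assoc, hl1]
    · rw [Category.assoc, hl2, ← Category.assoc, hinv₂', Category.assoc, Category.assoc, h.1.inv,
        whiskerLeft_snd_assoc, hl2]
  have h' : GIT.IsGeomQuot a₂' (pullback.snd φ₂ (pullback.fst g₂ α)) :=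
    h.2 _ _ _ trivial left a₂' hequiv hinv₂'
  exact isGeomQuot_desc hpb' ha₂' hinv₂ h'

end Groth.Agent.Lib.Helper10.FpqcDesc
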