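import Mathlib

/-!
# Descent of fpqc-local properties along flat open morphisms (SGA3 VI_B 2.1, 2.2)
-/

set_option autoImplicit false
set_option backward.isDefEq.respectTransparency.types false
set_option maxHeartbeats 4000000
set_option synthInstance.maxHeartbeats 400000
universe u
open CategoryTheory CategoryTheory.Limits AlgebraicGeometry

namespace Groth.Agent.Lib.Helper10.FpqcOpen

section Restrict

variable {X Y : Scheme.{u}} (f : X ⟶ Y)

theorem isPullback_restrict_le {U W : Y.Opens} (h : U ≤ W) :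
    IsPullback (X.homOfLE (f.preimage_mono h)) (f ∣_ U) (f ∣_ W) (Y.homOfLE h) := by
  have t : IsPullback (f ⁻¹ᵁ W).ι (f ∣_ W) f W.ι := (isPullback_morphismRestrict f W).flip
  have s : IsPullback (X.homOfLE (f.preimage_mono h) ≫ (f ⁻¹ᵁ W).ι) (f ∣_ U) f
      (Y.homOfLE h ≫ W.ι) := by
    rw [Scheme.homOfLE_ι, Scheme.homOfLE_ι]
    exact (isPullback_morphismRestrict f U).flip
  refine IsPullback.of_right s ?_ t
  rw [← cancel_mono W.ι, Category.assoc, Category.assoc, Scheme.homOfLE_ι, morphismRestrict_ι,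
    ← Category.assoc, Scheme.homOfLE_ι, morphismRestrict_ι]

variable (P : MorphismProperty Scheme.{u}) [IsZariskiLocalAtTarget P]

theorem restrict_of_le {U W : Y.Opens} (h : U ≤ W) (hW : P (f ∣_ W)) : P (f ∣_ U) :=
  IsZariskiLocalAtTarget.of_isPullback (isPullback_restrict_le f h) hW

/-- to check `P` over an open `W`, it suffices to check it over the affine opens inside `W`. -/
theorem restrict_of_affine (W : Y.Opens)
    (H : ∀ V : Y.Opens, IsAffineOpen V → V ≤ W → P (f ∣_ V)) : P (f ∣_ W) := by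
  refine IsZariskiLocalAtTarget.of_iSup_eq_top (P := P)
    (fun V : W.toScheme.affineOpens => V.1) (iSup_affineOpens_eq_top _) fun V => ?_
  refine (P.arrow_mk_iso_iff (morphismRestrictRestrict f W V.1)).mpr ?_
  apply H
  · exact V.2.image_of_isOpenImmersion W.ι
  · intro y hy
    obtain ⟨w, -, rfl⟩ := hy
    exact w.2

end Restrict

section Descent

variable (P : MorphismProperty Scheme.{u}) [P.IsStableUnderBaseChange] [IsZariskiLocalAtTarget P]
  [P.DescendsAlong (@Flat ⊓ @Surjective ⊓ @QuasiCompact)]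

variable {X Y X' Y' : Scheme.{u}} {p : X' ⟶ X} {f' : X' ⟶ Y'} {f : X ⟶ Y} {g : Y' ⟶ Y}

/-- descent over an affine open contained in the image of an open where `P` holds. -/
theorem descent_affine (sq : IsPullback p f' f g) [Flat g] (hg : IsOpenMap g)
    (W' : Y'.Opens) (hW' : P (f' ∣_ W')) (V : Y.Opens) (hV : IsAffineOpen V)
    (hVW : (V : Set Y) ⊆ g '' (W' : Set Y')) : P (f ∣_ V) := by
  -- a quasi-compact open `U ≤ W'` with image `V`
  let W'' : Y'.Opens := W' ⊓ g ⁻¹ᵁ V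
  let k : W''.toScheme ⟶ Y := W''.ι ≫ g
  have hk : IsOpenMap k := by
    change IsOpenMap (W''.ι ≫ g)
    rw [Scheme.Hom.comp_base, TopCat.coe_comp]
    exact hg.comp W''.ι.isOpenEmbedding.isOpenMap
  obtain ⟨U₀, hU₀c, hU₀⟩ := hk.exists_opens_image_eq_of_prespectralSpace k.continuous
    (U := (V : Set Y)) (by
      intro y hy
      obtain ⟨w, hw, rfl⟩ := hVW hy
      exact ⟨⟨w, hw, hy⟩, rfl⟩) V.2 hV.isCompact
  let U : Y'.Opens := W''.ι ''ᵁ U₀
  have hUW' : U ≤ W' := by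
    rintro _ ⟨w, -, rfl⟩
    exact w.2.1
  have hUc : IsCompact (U : Set Y') := by
    change IsCompact (W''.ι '' (U₀ : Set W''.toScheme))
    exact hU₀c.image W''.ι.continuous
  have hUV : g '' (U : Set Y') = V := by
    change g '' (W''.ι '' (U₀ : Set W''.toScheme)) = V
    rw [← Set.image_comp]
    exact hU₀
  have hPU : P (f' ∣_ U) := restrict_of_le f' P hUW' hW'
  -- the induced morphism `U ⟶ V`
  have hrange : Set.range (U.ι ≫ g) ⊆ Set.range V.ι := by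
    rw [Scheme.Opens.range_ι]
    rintro _ ⟨w, rfl⟩
    rw [← hUV]
    exact ⟨w.1, w.2, rfl⟩
  let h : U.toScheme ⟶ V.toScheme := IsOpenImmersion.lift V.ι (U.ι ≫ g) hrange
  have hfac : h ≫ V.ι = U.ι ≫ g := IsOpenImmersion.lift_fac _ _ _
  haveI : IsAffine V.toScheme := hV
  haveI : CompactSpace U.toScheme := isCompact_iff_compactSpace.mp hUc
  haveI : QuasiCompact h := (quasiCompact_iff_compactSpace h).mpr inferInstance
  haveI : Flat h := by
    have sq0 : IsPullback (𝟙 U.toScheme) h (h ≫ V.ι) V.ι :=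
      IsPullback.of_horiz_isIso_mono ⟨by simp⟩
    have : Flat (h ≫ V.ι) := by
      rw [hfac]
      infer_instance
    exact MorphismProperty.of_isPullback (P := @Flat) sq0 this
  haveI : Surjective h := by
    refine ⟨fun v => ?_⟩
    have hv : V.ι v ∈ g '' (U : Set Y') := by
      rw [hUV]
      exact v.2
    obtain ⟨w, hw, hwv⟩ := hv
    refine ⟨⟨w, hw⟩, ?_⟩
    apply V.ι.isOpenEmbedding.injective
    rw [← Scheme.Hom.comp_apply, hfac, Scheme.Hom.comp_apply]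
    exact hwv
  -- the pullback square
  have sqC : IsPullback (f' ∣_ U) ((f' ⁻¹ᵁ U).ι ≫ p) (U.ι ≫ g) f :=
    (isPullback_morphismRestrict f' U).paste_vert sq.flip
  have sqD : IsPullback (f ∣_ V) (f ⁻¹ᵁ V).ι V.ι f := isPullback_morphismRestrict f V
  let l : (f' ⁻¹ᵁ U).toScheme ⟶ (f ⁻¹ᵁ V).toScheme :=
    sqD.lift ((f' ∣_ U) ≫ h) ((f' ⁻¹ᵁ U).ι ≫ p) (by
      rw [Category.assoc, hfac]
      exact sqC.w)
  have hl1 : l ≫ (f ∣_ V) = (f' ∣_ U) ≫ h := sqD.lift_fst _ _ _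
  have hl2 : l ≫ (f ⁻¹ᵁ V).ι = (f' ⁻¹ᵁ U).ι ≫ p := sqD.lift_snd _ _ _
  have sqE : IsPullback (f' ∣_ U) l h (f ∣_ V) := by
    refine IsPullback.of_bot ?_ hl1.symm sqD
    rw [hl2, hfac]
    exact sqC
  exact MorphismProperty.of_isPullback_of_descendsAlong (P := P)
    (Q := @Flat ⊓ @Surjective ⊓ @QuasiCompact) sqE ⟨⟨inferInstance, inferInstance⟩, inferInstance⟩
    hPU

/-- **descent along flat open morphisms**: if the base change `f'` of `f` along a flat open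
morphism `g` has `P` over an open `W'`, then `f` has `P` over the open `g(W')`. -/
theorem descent_image (sq : IsPullback p f' f g) [Flat g] (hg : IsOpenMap g)
    (W' : Y'.Opens) (hW' : P (f' ∣_ W')) (W : Y.Opens) (hW : (W : Set Y) ⊆ g '' (W' : Set Y')) :
    P (f ∣_ W) :=
  restrict_of_affine f P W fun V hV hVW =>
    descent_affine P sq hg W' hW' V hV (fun _ hy => hW (hVW hy))

/-- base change over an open. -/
theorem baseChange_restrict (sq : IsPullback p f' f g) (W : Y.Opens) (hW : P (f ∣_ W)) :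
    P (f' ∣_ (g ⁻¹ᵁ W)) := by
  -- `f' ∣_ g⁻¹W` is a base change of `f ∣_ W` along `g ∣_ W`
  have sqC : IsPullback (f' ∣_ (g ⁻¹ᵁ W)) ((f' ⁻¹ᵁ (g ⁻¹ᵁ W)).ι ≫ p) ((g ⁻¹ᵁ W).ι ≫ g) f :=
    (isPullback_morphismRestrict f' (g ⁻¹ᵁ W)).paste_vert sq.flip
  have sqD : IsPullback (f ∣_ W) (f ⁻¹ᵁ W).ι W.ι f := isPullback_morphismRestrict f W
  have hfac : (g ∣_ W) ≫ W.ι = (g ⁻¹ᵁ W).ι ≫ g := morphismRestrict_ι g W
  let l : (f' ⁻¹ᵁ (g ⁻¹ᵁ W)).toScheme ⟶ (f ⁻¹ᵁ W).toScheme :=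
    sqD.lift ((f' ∣_ (g ⁻¹ᵁ W)) ≫ (g ∣_ W)) ((f' ⁻¹ᵁ (g ⁻¹ᵁ W)).ι ≫ p) (by
      rw [Category.assoc, hfac]
      exact sqC.w)
  have hl1 : l ≫ (f ∣_ W) = (f' ∣_ (g ⁻¹ᵁ W)) ≫ (g ∣_ W) := sqD.lift_fst _ _ _
  have hl2 : l ≫ (f ⁻¹ᵁ W).ι = (f' ⁻¹ᵁ (g ⁻¹ᵁ W)).ι ≫ p := sqD.lift_snd _ _ _
  have sqE : IsPullback (f' ∣_ (g ⁻¹ᵁ W)) l (g ∣_ W) (f ∣_ W) := by
    refine IsPullback.of_bot ?_ hl1.symm sqD
    rw [hl2, hfac]
    exact sqC
  exact P.of_isPullback sqE.flip hW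

/-- **SGA3 VI_B 2.1**: the largest open over which the base change has `P` is the preimage
of the largest open over which `f` has `P`. -/
theorem largest_open_eq (sq : IsPullback p f' f g) [Flat g] (hg : IsOpenMap g)
    (W : Y.Opens) (hW : P (f ∣_ W)) (hmax : ∀ W₀ : Y.Opens, P (f ∣_ W₀) → W₀ ≤ W)
    (W₁ : Y'.Opens) (hW₁ : P (f' ∣_ W₁)) (hmax₁ : ∀ W₀ : Y'.Opens, P (f' ∣_ W₀) → W₀ ≤ W₁) :
    W₁ = g ⁻¹ᵁ W := by
  apply le_antisymm
  · let W₂ : Y.Opens := ⟨g '' (W₁ : Set Y'), hg _ W₁.2⟩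
    have h2 : P (f ∣_ W₂) := descent_image P sq hg W₁ hW₁ W₂ (fun _ hy => hy)
    have h3 : W₂ ≤ W := hmax W₂ h2
    intro y hy
    exact h3 ⟨y, hy, rfl⟩
  · exact hmax₁ _ (baseChange_restrict P sq W hW)

end Descent

end Groth.Agent.Lib.Helper10.FpqcOpen
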