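import Mathlib
import Groth.Prelude.Def_AlgGrp
import Groth.Agent.Lib.Helper10.FpqcOpen1
import Groth.Agent.Lib.Helper10.FlatPt2

/-!
# The largest open over which a homomorphism has an fpqc-local property (SGA3 VI_B 2.2)
-/

set_option autoImplicit false
set_option backward.isDefEq.respectTransparency.types false
set_option maxHeartbeats 4000000
set_option synthInstance.maxHeartbeats 400000
universe u
open CategoryTheory CategoryTheory.Limits AlgebraicGeometry MonoidalCategory
  CartesianMonoidalCategory MonObj GrpObj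

namespace Groth.Agent.Lib.Helper10.FpqcOpen

open Groth.Agent.Lib.Helper10.HomSp Groth.Agent.Lib.Helper10.FlatPt
  Groth.Agent.Lib.Helper10.TrivLoc

variable (P : MorphismProperty Scheme.{u}) [P.IsStableUnderBaseChange] [IsZariskiLocalAtTarget P]
  [P.DescendsAlong (@Flat ⊓ @Surjective ⊓ @QuasiCompact)]

variable {S : Scheme.{u}} {G H : Over S} [GrpObj G] [GrpObj H] (u : G ⟶ H) [IsMonHom u]

theorem isOpenMap_translAct [UniversallyOpen G.hom] : IsOpenMap (translAct u).left := by
  have h1 : actT (translAction u) (𝟙 G) ≫ snd G H = translAct u := by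
    rw [actT_snd_eq, id_whiskerRight, Category.id_comp]
    rfl
  rw [← h1, Over.comp_left, Scheme.Hom.comp_base, TopCat.coe_comp]
  haveI : IsIso (actT (translAction u) (𝟙 G)).left :=
    inferInstanceAs (IsIso ((Over.forget _).map (actT (translAction u) (𝟙 G))))
  haveI : UniversallyOpen (snd G H).left := by
    rw [Over.snd_left]
    infer_instance
  exact (snd G H).left.isOpenMap.comp (actT (translAction u) (𝟙 G)).left.homeomorph.isOpenMap

/-- the largest open `W` over which `u` has `P` is stable under translations by `u(G)`. -/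
theorem translate_mem [Flat G.hom] [UniversallyOpen G.hom]
    (W : H.left.Opens) (hW : P (u.left ∣_ W)) (hmax : ∀ W' : H.left.Opens, P (u.left ∣_ W') → W' ≤ W)
    (z : ↥(G ⊗ H).left) (hz : (snd G H).left z ∈ W) : (translAct u).left z ∈ W := by
  have sq1 : IsPullback (snd G G).left (G ◁ u).left u.left (snd G H).left :=
    ((isPullback_whiskerLeft_snd G u).flip).map (Over.forget S)
  have sq2 : IsPullback μ[G].left (G ◁ u).left u.left (translAct u).left :=
    (isPullback_mul_act (translAction u) u (fun g g' => hom_equivariant u g g')).map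
      (Over.forget S)
  have h1 : P ((G ◁ u).left ∣_ ((snd G H).left ⁻¹ᵁ W)) := baseChange_restrict P sq1 W hW
  haveI : Flat (translAct u).left := flat_act (translAction u)
  let W₂ : H.left.Opens :=
    ⟨(translAct u).left '' (((snd G H).left ⁻¹ᵁ W : (G ⊗ H).left.Opens) : Set ↥(G ⊗ H).left),
      isOpenMap_translAct u _ ((snd G H).left ⁻¹ᵁ W).2⟩
  have h2 : P (u.left ∣_ W₂) :=
    descent_image P sq2 (isOpenMap_translAct u) _ h1 W₂ (fun _ hy => hy)
  exact hmax W₂ h2 ⟨z, hz, rfl⟩

theorem tensorUnit_pt_eq (g : G.left) (p : ↥(𝟙_ (Over S)).left)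
    (hp : (𝟙_ (Over S)).hom p = G.hom g) : (toUnit G).left g = p := by
  have h1 : (𝟙_ (Over S)).hom ((toUnit G).left g) = G.hom g := by
    rw [← Scheme.Hom.comp_apply, Over.w]
  have hinj : Function.Injective (𝟙_ (Over S)).hom := by
    rw [Over.tensorUnit_hom]
    exact fun _ _ h => h
  exact hinj (h1.trans hp.symm)

/-- **SGA3 VI_B 2.2**. -/
theorem open_subgroup [Flat G.hom] [UniversallyOpen G.hom]
    (W : H.left.Opens) (hW : P (u.left ∣_ W)) (hmax : ∀ W' : H.left.Opens, P (u.left ∣_ W') → W' ≤ W) :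
    IsOpen (G.hom '' ((u.left ⁻¹ᵁ W : G.left.Opens) : Set G.left)) ∧
    (∀ g ∈ u.left ⁻¹ᵁ W, ∀ p : ↥(𝟙_ (Over S)).left, (𝟙_ (Over S)).hom p = G.hom g →
      η[G].left p ∈ u.left ⁻¹ᵁ W) ∧
    (∀ g ∈ u.left ⁻¹ᵁ W, ι[G].left g ∈ u.left ⁻¹ᵁ W) ∧
    (∀ z : ↥(G ⊗ G).left, (fst G G).left z ∈ u.left ⁻¹ᵁ W → (snd G G).left z ∈ u.left ⁻¹ᵁ W →
      μ[G].left z ∈ u.left ⁻¹ᵁ W) := by
  have key := translate_mem P u W hW hmax
  have h2 : ∀ g ∈ u.left ⁻¹ᵁ W, ∀ p : ↥(𝟙_ (Over S)).left, (𝟙_ (Over S)).hom p = G.hom g →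
      η[G].left p ∈ u.left ⁻¹ᵁ W := by
    intro g hg p hp
    let w : G ⟶ G ⊗ H := lift ι[G] u
    have hw1 : w ≫ snd G H = u := lift_snd _ _
    have hw2 : w ≫ translAct u = toUnit G ≫ η[H] := by
      rw [lift_translAct, ← Hom.one_def]
      have : ι[G] ≫ u = (𝟙 G ≫ u)⁻¹ := by
        rw [← GrpObj.inv_comp, Hom.inv_def, Category.id_comp]
      rw [this, Category.id_comp, inv_mul_cancel]
    have hz : (snd G H).left (w.left g) ∈ W := by
      have := congrArg (fun ψ => ψ.left g) hw1
      simp only [Over.comp_left, Scheme.Hom.comp_apply] at this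
      rw [this]
      exact hg
    have h3 := key (w.left g) hz
    have := congrArg (fun ψ => ψ.left g) hw2
    simp only [Over.comp_left, Scheme.Hom.comp_apply] at this
    rw [this, tensorUnit_pt_eq g p hp] at h3
    change u.left (η[G].left p) ∈ W
    have h4 := congrArg (fun ψ => ψ.left p) (IsMonHom.one_hom (f := u))
    simp only [Over.comp_left, Scheme.Hom.comp_apply] at h4
    rw [h4]
    exact h3
  refine ⟨?_, h2, ?_, ?_⟩
  · exact G.hom.isOpenMap _ (u.left ⁻¹ᵁ W).2
  · intro g hg
    let w : G ⟶ G ⊗ H := lift ι[G] (toUnit G ≫ η[H])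
    have hw1 : w ≫ snd G H = toUnit G ≫ η[H] := lift_snd _ _
    have hw2 : w ≫ translAct u = ι[G] ≫ u := by
      rw [lift_translAct, ← Hom.one_def, _root_.mul_one]
    have hz : (snd G H).left (w.left g) ∈ W := by
      have := congrArg (fun ψ => ψ.left g) hw1
      simp only [Over.comp_left, Scheme.Hom.comp_apply] at this
      rw [this]
      have h5 := h2 g hg ((toUnit G).left g) (by rw [← Scheme.Hom.comp_apply, Over.w])
      change u.left (η[G].left ((toUnit G).left g)) ∈ W at h5
      have h4 := congrArg (fun ψ => ψ.left ((toUnit G).left g)) (IsMonHom.one_hom (f := u))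
      simp only [Over.comp_left, Scheme.Hom.comp_apply] at h4
      rw [h4] at h5
      exact h5
    have h3 := key (w.left g) hz
    have := congrArg (fun ψ => ψ.left g) hw2
    simp only [Over.comp_left, Scheme.Hom.comp_apply] at this
    rw [this] at h3
    exact h3
  · intro z _ hz2
    have hw1 : (G ◁ u) ≫ snd G H = snd G G ≫ u := whiskerLeft_snd _ _
    have hw2 : (G ◁ u) ≫ translAct u = μ[G] ≫ u :=
      ((isPullback_mul_act (translAction u) u (fun g g' => hom_equivariant u g g')).w).symm
    have hz : (snd G H).left ((G ◁ u).left z) ∈ W := by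
      have := congrArg (fun ψ => ψ.left z) hw1
      simp only [Over.comp_left, Scheme.Hom.comp_apply] at this
      rw [this]
      exact hz2
    have h3 := key ((G ◁ u).left z) hz
    have := congrArg (fun ψ => ψ.left z) hw2
    simp only [Over.comp_left, Scheme.Hom.comp_apply] at this
    rw [this] at h3
    exact h3

end Groth.Agent.Lib.Helper10.FpqcOpen
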