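import Mathlib
import Groth.Prelude.Def_W4bk4git07Quot
import Groth.Prelude.Def_ChGrp

/-!
# Free actions: `(σ, p₂)` is a monomorphism iff the stabilizer group scheme is trivial
-/

set_option autoImplicit false
set_option backward.isDefEq.respectTransparency.types false
set_option maxHeartbeats 4000000
set_option synthInstance.maxHeartbeats 400000

universe u

open CategoryTheory CategoryTheory.Limits AlgebraicGeometry MonoidalCategory
  CartesianMonoidalCategory MonObj GrpObj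

namespace Groth.Agent.Lib.Helper10.FreeAct

variable {S : Scheme.{u}} {G X : Over S} [GrpObj G] (a : AlgGrp.Action G X)

theorem lift_psi {T : Over S} (g : T ⟶ G) (x : T ⟶ X) :
    lift g x ≫ GIT.psi a (𝟙 X) = lift (lift g x ≫ a.act) x := by
  unfold GIT.psi
  rw [MonoidalCategory.whiskerLeft_id, Category.id_comp, comp_lift, lift_snd]

/-- If the stabilizer group scheme `(G × X) ×_{X × X} X → X` is a monomorphism then so is
`(σ, p₂)`. -/
theorem mono_psi_of_mono_stab
    (h : Mono (pullback.snd (GIT.psi a (𝟙 X)).left (lift (𝟙 X) (𝟙 X)).left)) :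
    Mono (GIT.psi a (𝟙 X)) := by
  constructor
  intro T m₁ m₂ hm
  have hm₁ : lift (m₁ ≫ fst G X) (m₁ ≫ snd G X) = m₁ := by
    apply CartesianMonoidalCategory.hom_ext <;> simp
  have hm₂ : lift (m₂ ≫ fst G X) (m₂ ≫ snd G X) = m₂ := by
    apply CartesianMonoidalCategory.hom_ext <;> simp
  set g₁ := m₁ ≫ fst G X with hg₁
  set g₂ := m₂ ≫ fst G X with hg₂
  set x₁ := m₁ ≫ snd G X with hx₁
  set x₂ := m₂ ≫ snd G X with hx₂
  rw [← hm₁, ← hm₂, lift_psi, lift_psi] at hm
  have hx : x₁ = x₂ := by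
    have := congrArg (fun t => t ≫ snd X X) hm
    simpa using this
  have hg : lift g₁ x₁ ≫ a.act = lift g₂ x₂ ≫ a.act := by
    have := congrArg (fun t => t ≫ fst X X) hm
    simpa using this
  have hstab : lift (g₂⁻¹ * g₁) x₁ ≫ a.act = x₁ := by
    rw [AlgGrp.Action.lift_mul_act, hg, ← hx, ← AlgGrp.Action.lift_mul_act, inv_mul_cancel,
      AlgGrp.Action.lift_one_act]
  have c₁ : lift (g₂⁻¹ * g₁) x₁ ≫ GIT.psi a (𝟙 X) = x₁ ≫ lift (𝟙 X) (𝟙 X) := by
    rw [lift_psi, hstab, comp_lift, Category.comp_id]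
  have c₂ : lift (1 : T ⟶ G) x₁ ≫ GIT.psi a (𝟙 X) = x₁ ≫ lift (𝟙 X) (𝟙 X) := by
    rw [lift_psi, AlgGrp.Action.lift_one_act, comp_lift, Category.comp_id]
  have c₁L : (lift (g₂⁻¹ * g₁) x₁).left ≫ (GIT.psi a (𝟙 X)).left =
      x₁.left ≫ (lift (𝟙 X) (𝟙 X)).left := by
    rw [← Over.comp_left, ← Over.comp_left, c₁]
  have c₂L : (lift (1 : T ⟶ G) x₁).left ≫ (GIT.psi a (𝟙 X)).left =
      x₁.left ≫ (lift (𝟙 X) (𝟙 X)).left := by
    rw [← Over.comp_left, ← Over.comp_left, c₂]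
  have e : pullback.lift _ _ c₁L = pullback.lift _ _ c₂L := by
    rw [← cancel_mono (pullback.snd (GIT.psi a (𝟙 X)).left (lift (𝟙 X) (𝟙 X)).left),
      pullback.lift_snd, pullback.lift_snd]
  have e' : (lift (g₂⁻¹ * g₁) x₁).left = (lift (1 : T ⟶ G) x₁).left := by
    have := congrArg (fun t => t ≫ pullback.fst _ _) e
    rwa [pullback.lift_fst, pullback.lift_fst] at this
  have e'' : lift (g₂⁻¹ * g₁) x₁ = lift (1 : T ⟶ G) x₁ := Over.OverMorphism.ext e'
  have e3 : g₂⁻¹ * g₁ = 1 := by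
    have := congrArg (fun t => t ≫ fst G X) e''
    simpa using this
  have e4 : g₁ = g₂ := by
    have := inv_mul_eq_one.mp e3
    exact this.symm
  rw [← hm₁, ← hm₂, e4, hx]

end Groth.Agent.Lib.Helper10.FreeAct
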