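import Mathlib
import Groth.Agent.Lib.Helper10.GroupLikeIdem

/-!
# Free coactions of a group algebra: every graded piece generates the unit ideal
-/

set_option autoImplicit false
set_option maxHeartbeats 4000000
universe u

open MonoidAlgebra

namespace Groth.Agent.Lib.Helper10.FreeAct

open Groth.Agent.Lib.Helper10.GroupLikeIdem

variable {A : Type u} [CommRing A] {G : Type} [CommGroup G]
  (α : A →+* MonoidAlgebra A G)

section Basic

variable (h2 : ∀ z g, (α ((α z).coeff g)).coeff g = (α z).coeff g)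
  (h2' : ∀ z g h, g ≠ h → (α ((α z).coeff g)).coeff h = 0)

include h2 h2' in
/-- the components are homogeneous. -/
theorem coact_coeff (z : A) (g : G) : α ((α z).coeff g) = single g ((α z).coeff g) := by
  classical
  apply coeff_injective
  ext h
  rw [coeff_single, Finsupp.single_apply]
  by_cases hgh : g = h
  · subst hgh
    rw [if_pos rfl, h2]
  · rw [if_neg hgh, h2' z g h hgh]

include h2 h2' in
theorem coeff_mul_hom (a b : A) (g h : G) :
    (α ((α a).coeff g * (α b).coeff h)).coeff (g * h) = (α a).coeff g * (α b).coeff h := by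
  classical
  have e : α ((α a).coeff g * (α b).coeff h) = α ((α a).coeff g) * α ((α b).coeff h) :=
    map_mul α _ _
  rw [e, coact_coeff α h2 h2', coact_coeff α h2 h2', single_mul_single, coeff_single,
    Finsupp.single_eq_same]

end Basic

/-- a subring of `A[G]` containing the coaction and the constants, when every graded piece
generates the unit ideal. -/
theorem subring_eq_top
    (h2 : ∀ z g, (α ((α z).coeff g)).coeff g = (α z).coeff g)
    (h2' : ∀ z g h, g ≠ h → (α ((α z).coeff g)).coeff h = 0)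
    (hI : ∀ g : G, Ideal.span (Set.range fun a => (α a).coeff g) = ⊤)
    (R' : Subring (MonoidAlgebra A G)) (hα : ∀ a, α a ∈ R') (hc : ∀ b, single 1 b ∈ R') :
    R' = ⊤ := by
  classical
  rw [eq_top_iff]
  intro y _
  induction y using MonoidAlgebra.induction_linear with
  | zero => exact R'.zero_mem
  | add x y hx hy => exact R'.add_mem (hx trivial) (hy trivial)
  | single g c =>
    have hc' : c ∈ Ideal.span (Set.range fun a => (α a).coeff g) := by
      rw [hI g]
      trivial
    refine Submodule.span_induction (p := fun c _ => single g c ∈ R') ?_ ?_ ?_ ?_ hc'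
    · rintro _ ⟨a, rfl⟩
      have := hα ((α a).coeff g)
      rwa [coact_coeff α h2 h2'] at this
    · rw [single_zero]
      exact R'.zero_mem
    · intro c₁ c₂ _ _ h₁ h₂
      rw [single_add]
      exact R'.add_mem h₁ h₂
    · intro b c₁ _ h₁
      have : single g (b • c₁) = single 1 b * single g c₁ := by
        rw [single_mul_single, one_mul, smul_eq_mul]
      rw [this]
      exact R'.mul_mem (hc b) h₁

section Free

variable (h1 : ∀ z, aug A G (α z) = z)
  (h2 : ∀ z g, (α ((α z).coeff g)).coeff g = (α z).coeff g)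
  (h2' : ∀ z g h, g ≠ h → (α ((α z).coeff g)).coeff h = 0)
  (hfree : ∀ (C : Type u) [CommRing C] (x : A →+* C) (χ : G →* C),
    (∀ a, MonoidAlgebra.liftNCRingHom x χ (fun _ _ => Commute.all _ _) (α a) = x a) →
      ∀ g, χ g = 1)

include h1 h2 h2' hfree in
/-- **for a free coaction every graded piece generates the unit ideal.** -/
theorem span_range_coeff_eq_top (g : G) :
    Ideal.span (Set.range fun a => (α a).coeff g) = ⊤ := by
  classical
  by_contra hne
  obtain ⟨𝔭, h𝔭max, hle⟩ := Ideal.exists_le_maximal _ hne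
  haveI h𝔭 : 𝔭.IsPrime := h𝔭max.isPrime
  -- the degrees which survive at `𝔭`
  let N' : Set G := {h | ∃ a, (α a).coeff h ∉ 𝔭}
  have hN'one : (1 : G) ∈ N' := by
    refine ⟨1, ?_⟩
    have e1 : α 1 = 1 := map_one α
    rw [e1, one_def, coeff_single, Finsupp.single_eq_same]
    exact fun h => h𝔭.ne_top ((Ideal.eq_top_iff_one _).mpr h)
  have hN'mul : ∀ h₁ h₂, h₁ ∈ N' → h₂ ∈ N' → h₁ * h₂ ∈ N' := by
    rintro h₁ h₂ ⟨a₁, ha₁⟩ ⟨a₂, ha₂⟩
    refine ⟨(α a₁).coeff h₁ * (α a₂).coeff h₂, ?_⟩
    rw [coeff_mul_hom α h2 h2']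
    exact fun h => (h𝔭.mem_or_mem h).elim ha₁ ha₂
  have hnotN' : ∀ h, h ∉ N' → ∀ a, (α a).coeff h ∈ 𝔭 := by
    intro h hh a
    by_contra hcon
    exact hh ⟨a, hcon⟩
  let F : Subgroup G :=
    { carrier := {h | h ∈ N' ∧ h⁻¹ ∈ N'}
      mul_mem' := by
        rintro a b ⟨ha, ha'⟩ ⟨hb, hb'⟩
        refine ⟨hN'mul a b ha hb, ?_⟩
        rw [mul_inv]
        exact hN'mul _ _ ha' hb'
      one_mem' := ⟨hN'one, by rw [inv_one]; exact hN'one⟩
      inv_mem' := by
        rintro a ⟨ha, ha'⟩
        exact ⟨ha', by rw [inv_inv]; exact ha⟩ }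
  have hgF : g ∉ F := by
    rintro ⟨⟨a, ha⟩, -⟩
    exact ha (hle (Ideal.subset_span ⟨a, rfl⟩))
  -- the ideal of the limit point
  let 𝔮 : Ideal A :=
    { carrier := {a | ∀ h ∈ F, (α a).coeff h ∈ 𝔭}
      add_mem' := by
        intro a b ha hb h hh
        rw [map_add, coeff_add, Finsupp.add_apply]
        exact 𝔭.add_mem (ha h hh) (hb h hh)
      zero_mem' := by
        intro h _
        rw [map_zero, coeff_zero, Finsupp.zero_apply]
        exact 𝔭.zero_mem
      smul_mem' := by
        intro c a ha h hh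
        have e : α (c * a) = α c * α a := map_mul α _ _
        rw [smul_eq_mul, e, coeff_mul]
        refine Ideal.sum_mem _ (fun h₁ _ => Ideal.sum_mem _ (fun h₂ _ => ?_))
        beta_reduce
        split_ifs with h12
        · by_cases h₂F : h₂ ∈ F
          · exact 𝔭.mul_mem_left _ (ha h₂ h₂F)
          · by_cases h₂N : h₂ ∈ N'
            · have h₁N : h₁ ∉ N' := by
                intro h₁N
                apply h₂F
                refine ⟨h₂N, ?_⟩
                have : h₂⁻¹ = h⁻¹ * h₁ := by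
                  rw [← h12]
                  group
                rw [this]
                exact hN'mul _ _ hh.2 h₁N
              exact 𝔭.mul_mem_right _ (hnotN' h₁ h₁N c)
            · exact 𝔭.mul_mem_left _ (hnotN' h₂ h₂N a)
        · exact 𝔭.zero_mem }
  have h1𝔮 : (1 : A) ∉ 𝔮 := by
    intro h
    have := h 1 F.one_mem
    have e1 : α 1 = 1 := map_one α
    rw [e1, one_def, coeff_single, Finsupp.single_eq_same] at this
    exact h𝔭.ne_top ((Ideal.eq_top_iff_one _).mpr this)
  have hhom𝔮 : ∀ a h, h ∉ F → (α a).coeff h ∈ 𝔮 := by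
    intro a h hh h' hh'
    have hne' : h ≠ h' := fun heq => hh (heq ▸ hh')
    rw [h2' a h h' hne']
    exact 𝔭.zero_mem
  haveI : Nontrivial (A ⧸ 𝔮) := Ideal.Quotient.nontrivial_iff.mpr (fun h => h1𝔮 (h ▸ trivial))
  -- the point with a non-trivial stabiliser
  let C := MonoidAlgebra (A ⧸ 𝔮) (G ⧸ F)
  let x₀ : A →+* C := (algebraMap (A ⧸ 𝔮) C).comp (Ideal.Quotient.mk 𝔮)
  let χ : G →* C := (MonoidAlgebra.of (A ⧸ 𝔮) (G ⧸ F)).comp (QuotientGroup.mk' F)
  have hx₀ : ∀ c, x₀ c = single 1 (Ideal.Quotient.mk 𝔮 c) := by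
    intro c
    change algebraMap (A ⧸ 𝔮) C (Ideal.Quotient.mk 𝔮 c) = _
    rw [MonoidAlgebra.coe_algebraMap]
    rfl
  have hterm : ∀ (a : A) (h : G), MonoidAlgebra.liftNCRingHom x₀ χ (fun _ _ => Commute.all _ _)
      (single h ((α a).coeff h)) = single 1 (Ideal.Quotient.mk 𝔮 ((α a).coeff h)) := by
    intro a h
    rw [MonoidAlgebra.liftNCRingHom_single, hx₀]
    by_cases hh : h ∈ F
    · have : χ h = 1 := by
        change single ((h : G ⧸ F)) (1 : A ⧸ 𝔮) = 1
        rw [(QuotientGroup.eq_one_iff h).mpr hh]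
        rfl
      rw [this, mul_one]
    · have : Ideal.Quotient.mk 𝔮 ((α a).coeff h) = 0 :=
        Ideal.Quotient.eq_zero_iff_mem.2 (hhom𝔮 a h hh)
      rw [this, single_zero, zero_mul]
  have hfix : ∀ a, MonoidAlgebra.liftNCRingHom x₀ χ (fun _ _ => Commute.all _ _) (α a) = x₀ a := by
    intro a
    conv_lhs => rw [← sum_coeff_single (α a)]
    rw [map_finsuppSum, Finsupp.sum]
    rw [Finset.sum_congr rfl (fun h _ => hterm a h), hx₀]
    have hs : ∑ h ∈ (α a).coeff.support, single (1 : G ⧸ F)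
        (Ideal.Quotient.mk 𝔮 ((α a).coeff h)) =
        single 1 (Ideal.Quotient.mk 𝔮 (∑ h ∈ (α a).coeff.support, (α a).coeff h)) := by
      rw [map_sum]
      exact (map_sum (singleAddHom (1 : G ⧸ F)) _ _).symm
    rw [hs, ← aug_eq_sum, h1]
  have hχ := hfree C x₀ χ hfix g
  have : QuotientGroup.mk' F g = 1 := by
    apply single_one_injective (B := A ⧸ 𝔮)
    exact hχ
  exact hgF ((QuotientGroup.eq_one_iff g).mp this)

end Free

end Groth.Agent.Lib.Helper10.FreeAct
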