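import Mathlib
import Groth.Agent.Lib.Helper10.TrivActDiag
import Groth.Agent.Lib.Helper10.FreeActAlg

/-!
# A free action of a diagonalisable group on an affine scheme: the graph is a closed immersion
-/

set_option autoImplicit false
set_option backward.isDefEq.respectTransparency.types false
set_option maxHeartbeats 4000000
set_option synthInstance.maxHeartbeats 400000
universe u
open CategoryTheory CategoryTheory.Limits AlgebraicGeometry MonoidalCategory
  CartesianMonoidalCategory MonObj GrpObj

namespace Groth.Agent.Lib.Helper10.FreeAct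

open Groth.Agent.Lib.Helper21.GaPts Groth.Agent.Lib.Helper10.GroupLikeIdem
  Groth.Agent.Lib.Helper10.DiagHom Groth.Agent.Lib.Helper10.TrivAct

variable {T : Scheme.{u}} {M : Type} [AddCommGroup M] {W : Over T} [IsAffine W.left]
  (act : Red.DS T M ⊗ W ⟶ W)

/-- coassociativity, all coefficients. -/
theorem coact_coassoc_gen [DecidableEq (Multiplicative M)]
    (hassoc : ∀ (Y : Over T) (a b : Y ⟶ Red.DS T M) (t : Y ⟶ W),
      lift (a * b) t ≫ act = lift a (lift b t ≫ act) ≫ act) (z : Γ(W.left, ⊤))
    (g g' : Multiplicative M) :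
    (coact M W act ((coact M W act z).coeff g)).coeff g' =
      if g = g' then (coact M W act z).coeff g else 0 := by
  let G := Multiplicative M
  let A := Γ(W.left, ⊤)
  let C₂ : CommRingCat.{u} := CommRingCat.of (MonoidAlgebra A (G × G))
  let β₂ : Γ(W.left, ⊤) ⟶ C₂ := CommRingCat.ofHom (algebraMap A (MonoidAlgebra A (G × G)))
  let χ₁ : G →* C₂ := (MonoidAlgebra.of A (G × G)).comp (MonoidHom.inl G G)
  let χ₂ : G →* C₂ := (MonoidAlgebra.of A (G × G)).comp (MonoidHom.inr G G)
  have hχ : χ₁ * χ₂ = (MonoidAlgebra.of A (G × G)).comp (diagHom G) := by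
    refine MonoidHom.ext (fun g => ?_)
    change (MonoidAlgebra.single (g, 1) 1 * MonoidAlgebra.single (1, g) 1 :
      MonoidAlgebra A (G × G)) = MonoidAlgebra.single (g, g) 1
    rw [MonoidAlgebra.single_mul_single]
    simp
  let t₂ := specOverT W β₂
  have key := hassoc (specOver W β₂) (dsPt (S := T) (X := specOver W β₂) (chr χ₁))
    (dsPt (S := T) (X := specOver W β₂) (chr χ₂)) t₂
  rw [dsPt_chr_mul] at key
  have key2 := congrArg (fun f => (Scheme.ΓSpecIso C₂).hom (f.left.appTop z)) key
  beta_reduce at key2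
  rw [spec_lift_act_appTop, spec_lift_act_appTop] at key2
  have hr : (Scheme.ΓSpecIso C₂).hom.hom.comp
      (lift (dsPt (S := T) (X := specOver W β₂) (chr χ₂)) t₂ ≫ act).left.appTop.hom =
      (MonoidAlgebra.mapDomainRingHom A (MonoidHom.inr G G)).comp (coact M W act) := by
    refine RingHom.ext (fun b => ?_)
    rw [RingHom.comp_apply, RingHom.comp_apply]
    change (Scheme.ΓSpecIso C₂).hom ((lift _ t₂ ≫ act).left.appTop b) = _
    rw [spec_lift_act_appTop, specOverT_comp]
    change MonoidAlgebra.liftNCRingHom (algebraMap A (MonoidAlgebra A (G × G))) χ₂ _ _ = _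
    rw [liftNC_algebraMap_of]
  rw [hr, specOverT_comp, hχ] at key2
  change MonoidAlgebra.liftNCRingHom (algebraMap A (MonoidAlgebra A (G × G)))
    ((MonoidAlgebra.of A (G × G)).comp (diagHom G)) _ _ = _ at key2
  rw [liftNC_algebraMap_of] at key2
  have key3 := congrArg (fun y : MonoidAlgebra A (G × G) => y.coeff (g, g')) key2
  beta_reduce at key3
  rw [coeff_diag, coeff_liftNC_inr_inl] at key3
  exact key3.symm

/-- freeness, in terms of the coaction. -/
theorem free_coact
    (hfree : ∀ (Y : Over T) (δ : Y ⟶ Red.DS T M) (t : Y ⟶ W), lift δ t ≫ act = t → δ = 1)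
    (C : Type u) [CommRing C] (x : Γ(W.left, ⊤) →+* C) (χ : Multiplicative M →* C)
    (hx : ∀ a, MonoidAlgebra.liftNCRingHom x χ (fun _ _ => Commute.all _ _) (coact M W act a) =
      x a) (g : Multiplicative M) : χ g = 1 := by
  let Cc : CommRingCat.{u} := CommRingCat.of C
  let β : Γ(W.left, ⊤) ⟶ Cc := CommRingCat.ofHom x
  let δ : specOver W β ⟶ Red.DS T M := dsPt (S := T) (X := specOver W β) (chr (C := Cc) χ)
  have heq : lift δ (specOverT W β) ≫ act = specOverT W β := by
    apply Over.OverMorphism.ext
    apply ext_of_isAffine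
    ext z
    have h1 : (Scheme.ΓSpecIso Cc).hom ((lift δ (specOverT W β) ≫ act).left.appTop z) =
        (Scheme.ΓSpecIso Cc).hom ((specOverT W β).left.appTop z) := by
      rw [spec_lift_act_appTop, specOverT_comp, specOverT_appTop]
      exact hx z
    exact (ConcreteCategory.bijective_of_isIso (Scheme.ΓSpecIso Cc).hom).1 h1
  have hδ : δ = 1 := hfree _ δ _ heq
  have h2 : dsFn (Multiplicative.toAdd g) δ = 1 := by
    rw [hδ, dsFn_one]
  rw [dsFn_dsPt] at h2
  change (Scheme.ΓSpecIso Cc).inv (χ g) = 1 at h2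
  have h3 := congrArg (fun y => (Scheme.ΓSpecIso Cc).hom y) h2
  beta_reduce at h3
  rw [map_one] at h3
  rw [← h3]
  exact (congrArg (fun f => f.hom (χ g)) (Scheme.ΓSpecIso Cc).inv_hom_id).symm

theorem theta_surjective : Function.Surjective (theta M W) := by
  intro y
  refine ⟨(Scheme.ΓSpecIso (BG M W)).hom ((univPt M W).left.appTop y), ?_⟩
  have h1 : (rho M W ≫ univPt M W).left.appTop y = y := by
    rw [rho_univPt]
    simp
  rw [Over.comp_left, Scheme.Hom.comp_appTop, CommRingCat.comp_apply] at h1
  have h3 : (ofRingHom (theta M W)).appTop ((univPt M W).left.appTop y) =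
      theta M W ((Scheme.ΓSpecIso (BG M W)).hom ((univPt M W).left.appTop y)) :=
    ofRingHom_appTop _ _
  exact h3.symm.trans h1

/-- **the graph of a free action of a diagonalisable group on an affine scheme is a closed
immersion.** -/
theorem isClosedImmersion_graph [IsAffineHom W.hom]
    (hunit : lift (1 : W ⟶ Red.DS T M) (𝟙 W) ≫ act = 𝟙 W)
    (hassoc : ∀ (Y : Over T) (a b : Y ⟶ Red.DS T M) (t : Y ⟶ W),
      lift (a * b) t ≫ act = lift a (lift b t ≫ act) ≫ act)
    (hfree : ∀ (Y : Over T) (δ : Y ⟶ Red.DS T M) (t : Y ⟶ W), lift δ t ≫ act = t → δ = 1) :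
    IsClosedImmersion (lift act (snd (Red.DS T M) W)).left := by
  classical
  haveI : IsIso (rho M W) := ⟨⟨univPt M W, rho_univPt M W, univPt_rho M W⟩⟩
  haveI : IsIso (rho M W).left := inferInstanceAs (IsIso ((Over.forget T).map (rho M W)))
  haveI : IsAffine (specOver W (algB M W)).left := inferInstanceAs (IsAffine (Spec (BG M W)))
  haveI : IsAffine (Red.DS T M ⊗ W).left := IsAffine.of_isIso (rho M W).left
  haveI : IsAffine (W ⊗ W).left := by
    change IsAffine (pullback W.hom W.hom)
    infer_instance
  apply IsClosedImmersion.of_surjective_of_isAffine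
  have h2 : ∀ z g, (coact M W act ((coact M W act z).coeff g)).coeff g =
      (coact M W act z).coeff g := by
    intro z g
    rw [coact_coassoc_gen act hassoc, if_pos rfl]
  have h2' : ∀ z g h, g ≠ h → (coact M W act ((coact M W act z).coeff g)).coeff h = 0 := by
    intro z g h hgh
    rw [coact_coassoc_gen act hassoc, if_neg hgh]
  have hI := span_range_coeff_eq_top (coact M W act) (aug_coact act hunit) h2 h2'
    (fun C _ x χ hx g => free_coact act hfree C x χ hx g)
  let R' : Subring (MonoidAlgebra Γ(W.left, ⊤) (Multiplicative M)) :=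
    (lift act (snd (Red.DS T M) W)).left.appTop.hom.range.comap (theta M W)
  have hR' : R' = ⊤ := by
    refine subring_eq_top (coact M W act) h2 h2' hI R' (fun a => ?_) (fun b => ?_)
    · refine ⟨(fst W W).left.appTop a, ?_⟩
      change ((fst W W).left.appTop ≫ (lift act (snd (Red.DS T M) W)).left.appTop) a = _
      rw [← Scheme.Hom.comp_appTop, ← Over.comp_left, lift_fst, act_appTop]
    · refine ⟨(snd W W).left.appTop b, ?_⟩
      change ((snd W W).left.appTop ≫ (lift act (snd (Red.DS T M) W)).left.appTop) b = _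
      rw [← Scheme.Hom.comp_appTop, ← Over.comp_left, lift_snd, ← theta_algebraMap,
        MonoidAlgebra.coe_algebraMap]
      rfl
  intro y
  obtain ⟨y', rfl⟩ := theta_surjective (M := M) (W := W) y
  have hy' : y' ∈ R' := hR' ▸ Subring.mem_top y'
  exact hy'

end Groth.Agent.Lib.Helper10.FreeAct
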