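import Mathlib
import Groth.Agent.Lib.Helper10.FreeActDiag
import Groth.Agent.Lib.Helper10.TrivActGlobal
import Groth.Agent.Lib.Helper10.BCProps
import Groth.Agent.Lib.Helper12.ClosedImmersionDescent

/-!
# A free action of a group of multiplicative type on a scheme affine over the base: the graph is
a closed immersion (SGA 3 VIII 5 / IX)
-/

set_option autoImplicit false
set_option backward.isDefEq.respectTransparency.types false
set_option maxHeartbeats 4000000
set_option synthInstance.maxHeartbeats 400000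
universe u
open CategoryTheory CategoryTheory.Limits AlgebraicGeometry MonoidalCategory
  CartesianMonoidalCategory MonObj GrpObj

namespace Groth.Agent.Lib.Helper10.FreeAct

open Groth.Agent.Lib.Helper21.GaPts Groth.Agent.Lib.Helper10.DiagHom
  Groth.Agent.Lib.Helper10.HomFamBC Groth.Agent.Lib.Helper10.FpqcLocus
  Groth.Agent.Lib.Helper10.MultTypeHom Groth.Agent.Lib.Helper10.MultTypeLocus
  Groth.Agent.Lib.Helper10.TrivAct Groth.Agent.Lib.Helper10.BCProps

/-- `P` over the identity means `P`. -/
theorem of_pbc_id' {S : Scheme.{u}} (P : MorphismProperty Scheme.{u}) [P.RespectsIso]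
    {H G : Over S} (u : H ⟶ G) (h : Pbc u P (𝟙 S)) : P u.left := by
  have hR := MultTypeMono.isPullback_bc_map_left u (𝟙 S)
  have h1 : u.left = inv (pullback.fst H.hom (𝟙 S)) ≫ ((Over.pullback (𝟙 S)).map u).left ≫
      pullback.fst G.hom (𝟙 S) := by
    rw [hR.w, IsIso.inv_hom_id_assoc]
  rw [h1]
  exact (MorphismProperty.cancel_left_of_respectsIso P _ _).mpr
    ((MorphismProperty.cancel_right_of_respectsIso P _ _).mpr h)

section BC

variable {S T : Scheme.{u}} (g : T ⟶ S) {G X : Over S} [GrpObj G] (a : AlgGrp.Action G X)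

/-- the base change of the action through the monoidal structure of `Over.pullback`. -/
noncomputable def act' : Red.bc g G ⊗ Red.bc g X ⟶ Red.bc g X :=
  Functor.LaxMonoidal.μ (Over.pullback g) G X ≫ (Over.pullback g).map a.act

theorem tr_lift_μ {Y : Over T} (c : Y ⟶ Red.bc g G) (x : Y ⟶ Red.bc g X) :
    tr g (lift c x ≫ Functor.LaxMonoidal.μ (Over.pullback g) G X) =
      lift (tr g c) (tr g x) := by
  apply CartesianMonoidalCategory.hom_ext
  · rw [lift_fst, ← tr_comp_map, Category.assoc, Functor.Monoidal.μ_fst, lift_fst]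
  · rw [lift_snd, ← tr_comp_map, Category.assoc, Functor.Monoidal.μ_snd, lift_snd]

theorem act'_eq : act' g a = actT g a := by
  have h : ∀ f : Red.bc g G ⊗ Red.bc g X ⟶ Red.bc g X,
      f = lift (fst _ _) (snd _ _) ≫ f := by
    intro f
    rw [lift_fst_snd, Category.id_comp]
  rw [h (act' g a), h (actT g a)]
  apply tr_injective g
  rw [tr_lift_actT, act', ← Category.assoc, tr_comp_map, tr_lift_μ]

/-- the base change of the graph. -/
theorem map_graph :
    (Over.pullback g).map (lift a.act (snd G X)) =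
      (Functor.Monoidal.μIso (Over.pullback g) G X).inv ≫ lift (actT g a) (snd _ _) ≫
        (Functor.Monoidal.μIso (Over.pullback g) X X).hom := by
  rw [Iso.eq_inv_comp, ← act'_eq, act']
  change Functor.LaxMonoidal.μ (Over.pullback g) G X ≫ _ =
    _ ≫ Functor.LaxMonoidal.μ (Over.pullback g) X X
  rw [← Functor.Monoidal.lift_μ, ← Category.assoc, comp_lift, Functor.Monoidal.μ_snd]

variable {M : Type} [AddCommGroup M] (e : Red.bc g G ≅ Red.DS T M)

theorem graph_actD [IsMonHom e.inv] :
    lift (actD g a e) (snd (Red.DS T M) (Red.bc g X)) =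
      (e.inv ▷ Red.bc g X) ≫ lift (actT g a) (snd _ _) := by
  rw [comp_lift, whiskerRight_snd]
  rfl

theorem actD_free [IsMonHom e.inv] [IsMonHom e.hom]
    (hfree : ∀ (Y : Over S) (c : Y ⟶ G) (x : Y ⟶ X), lift c x ≫ a.act = x → c = 1)
    (Y : Over T) (δ : Y ⟶ Red.DS T M) (t : Y ⟶ Red.bc g X) (h : lift δ t ≫ actD g a e = t) :
    δ = 1 := by
  have h1 := congrArg (tr g) h
  rw [tr_lift_actD] at h1
  have h2 := hfree _ _ _ h1
  rw [← tr_one g] at h2
  have h3 : δ ≫ e.inv = 1 := tr_injective g h2
  have h4 : δ = (δ ≫ e.inv) ≫ e.hom := by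
    rw [Category.assoc, e.inv_hom_id, Category.comp_id]
  calc δ = (δ ≫ e.inv) ≫ e.hom := h4
    _ = 1 ≫ e.hom := by rw [h3]
    _ = 1 := MonObj.one_comp e.hom

/-- **the local statement.** -/
theorem pbc_graph_of_diag [IsMonHom e.inv] [IsMonHom e.hom] [IsAffine T] [IsAffineHom X.hom]
    (hfree : ∀ (Y : Over S) (c : Y ⟶ G) (x : Y ⟶ X), lift c x ≫ a.act = x → c = 1) :
    Pbc (lift a.act (snd G X)) @IsClosedImmersion g := by
  haveI : IsAffineHom (Red.bc g X).hom := by
    change IsAffineHom (pullback.snd X.hom g)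
    infer_instance
  haveI : IsAffine (Red.bc g X).left := by
    change IsAffine (pullback X.hom g)
    infer_instance
  have h1 : IsClosedImmersion (lift (actD g a e) (snd (Red.DS T M) (Red.bc g X))).left :=
    isClosedImmersion_graph (W := Red.bc g X) (actD g a e) (actD_one g a e _)
      (fun Y c d t => actD_mul g a e c d t) (actD_free g a e hfree)
  rw [graph_actD] at h1
  have h2 : IsClosedImmersion (lift (actT g a) (snd (Red.bc g G) (Red.bc g X))).left := by
    have := (conj_iff (@IsClosedImmersion) (lift (actT g a) (snd (Red.bc g G) (Red.bc g X)))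
      (whiskerRightIso e.symm (Red.bc g X)) (Iso.refl _)).mp
    apply this
    simpa using h1
  change IsClosedImmersion ((Over.pullback g).map (lift a.act (snd G X))).left
  rw [map_graph]
  exact (conj_iff (@IsClosedImmersion) (lift (actT g a) (snd (Red.bc g G) (Red.bc g X)))
    (Functor.Monoidal.μIso (Over.pullback g) G X).symm
    (Functor.Monoidal.μIso (Over.pullback g) X X)).mpr h2

end BC

/-- **the graph of a free action of a group of multiplicative type on a scheme affine over the
base is a closed immersion.** -/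
theorem isClosedImmersion_graph_of_free {S : Scheme.{u}} (G X : Over S) [GrpObj G]
    (hG : TwC.Locally S TwC.Topology.fpqc (fun S' f => ∃ (M : Type) (_ : AddCommGroup M),
      Nonempty (Grp.mk (Red.bc f G) ≅ Grp.mk (Red.DS S' M))))
    (hX : IsAffineHom X.hom) (a : AlgGrp.Action G X)
    (hfree : ∀ (Y : Over S) (c : Y ⟶ G) (x : Y ⟶ X), lift c x ≫ a.act = x → c = 1) :
    IsClosedImmersion (lift a.act (snd G X)).left := by
  haveI := hX
  haveI := Groth.Agent.Lib.Helper12.descendsAlong_isClosedImmersion.{u}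
  obtain ⟨S', cov, hfl, hsurj, hfpqc, hloc⟩ := hG
  haveI := hfl
  have hL := isLocalBC_pbc (lift a.act (snd G X)) @IsClosedImmersion
  refine of_pbc_id' @IsClosedImmersion _ (of_fpqc_cover hL cov hfpqc (fun t => ?_))
  obtain ⟨U, htU, M, _, ⟨φ⟩⟩ := hloc t
  refine ⟨U, htU, ?_⟩
  refine hL.loc (U.ι ≫ cov) (fun z => ?_)
  obtain ⟨(Z : U.toScheme.Opens), hZ, hzZ, -⟩ :=
    TopologicalSpace.Opens.isBasis_iff_nbhd.mp U.toScheme.isBasis_affineOpens
      (TopologicalSpace.Opens.mem_top z)
  refine ⟨Z.toScheme, Z.ι, inferInstance, ⟨⟨z, hzZ⟩, rfl⟩, ?_⟩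
  let φ' := trivIso G (U.ι ≫ cov) Z.ι (Z.ι ≫ U.ι ≫ cov) rfl M φ
  obtain ⟨e, he1, he2⟩ := exists_iso_isMonHom' φ'
  haveI := he1
  haveI := he2
  haveI : IsAffine Z.toScheme := hZ
  exact pbc_graph_of_diag (Z.ι ≫ U.ι ≫ cov) a e hfree

/-- the orbit map of a section is a base change of the graph. -/
theorem isClosedImmersion_orbitMap {S : Scheme.{u}} {G X : Over S} [GrpObj G]
    (a : AlgGrp.Action G X) (h : IsClosedImmersion (lift a.act (snd G X)).left)
    (σ : 𝟙_ (Over S) ⟶ X) : IsClosedImmersion (a.orbitMap σ).left := by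
  let iG : G ⟶ G ⊗ X := lift (𝟙 G) (toUnit G ≫ σ)
  let iX : X ⟶ X ⊗ X := lift (𝟙 X) (toUnit X ≫ σ)
  have hiG1 : iG ≫ fst G X = 𝟙 G := lift_fst _ _
  have hiG2 : iG ≫ snd G X = toUnit G ≫ σ := lift_snd _ _
  have hiX1 : iX ≫ fst X X = 𝟙 X := lift_fst _ _
  have hiX2 : iX ≫ snd X X = toUnit X ≫ σ := lift_snd _ _
  have horb : a.orbitMap σ = iG ≫ a.act := rfl
  have hunit : ∀ {Z Z' : Over S} (f : Z ⟶ Z'), f ≫ toUnit Z' ≫ σ = toUnit Z ≫ σ := by
    intro Z Z' f
    rw [← Category.assoc]
    congr 1
    exact toUnit_unique _ _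
  have hw : iG ≫ lift a.act (snd G X) = a.orbitMap σ ≫ iX := by
    apply CartesianMonoidalCategory.hom_ext
    · rw [Category.assoc, lift_fst, Category.assoc, hiX1, Category.comp_id, horb]
    · rw [Category.assoc, lift_snd, hiG2, Category.assoc, hiX2, hunit]
  have hcs : ∀ s : PullbackCone (lift a.act (snd G X)) iX,
      s.fst ≫ snd G X = toUnit s.pt ≫ σ ∧ s.fst ≫ a.act = s.snd := by
    intro s
    have hc := s.condition
    constructor
    · have := congrArg (fun f => f ≫ snd X X) hc
      simp only [Category.assoc, lift_snd] at this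
      rw [this, hiX2, hunit]
    · have := congrArg (fun f => f ≫ fst X X) hc
      simp only [Category.assoc, lift_fst] at this
      rw [this, hiX1, Category.comp_id]
  have hfac : ∀ s : PullbackCone (lift a.act (snd G X)) iX, (s.fst ≫ fst G X) ≫ iG = s.fst := by
    intro s
    apply CartesianMonoidalCategory.hom_ext
    · rw [Category.assoc, hiG1, Category.comp_id]
    · rw [Category.assoc, hiG2, (hcs s).1, hunit]
  have hsq : IsPullback iG (a.orbitMap σ) (lift a.act (snd G X)) iX := by
    refine IsPullback.mk ⟨hw⟩ ⟨PullbackCone.IsLimit.mk hw (fun s => s.fst ≫ fst G X)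
      (fun s => hfac s) (fun s => ?_) (fun s m h1 _ => ?_)⟩
    · rw [horb, ← Category.assoc, hfac, (hcs s).2]
    · rw [← h1, Category.assoc, hiG1, Category.comp_id]
  have hsq' := hsq.map (Over.forget S)
  exact MorphismProperty.of_isPullback (P := @IsClosedImmersion) hsq' h

end Groth.Agent.Lib.Helper10.FreeAct
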