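import Mathlib
import Groth.Agent.Lib.Helper10.GaTorsor1

/-!
# fpqc-locally trivial `𝔾_a`-pseudo-torsors are Zariski-locally trivial
-/

set_option autoImplicit false
set_option backward.isDefEq.respectTransparency.types false
set_option maxHeartbeats 4000000
set_option synthInstance.maxHeartbeats 400000
universe u
open CategoryTheory CategoryTheory.Limits AlgebraicGeometry MonoidalCategory
  CartesianMonoidalCategory MonObj GrpObj

namespace Groth.Agent.Lib.Helper10.GaTorsor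

variable {S : Scheme.{u}}

/-- from an fpqc covering family with sections to one faithfully flat affine cover of an affine
scheme with a section. -/
theorem exists_affine_cover (X : Over S)
    (hX : NonAbH1.IsLocallyTrivialFor Scheme.fpqcPrecoverage X)
    {U : Scheme.{u}} [IsAffine U] (j : U ⟶ S) :
    ∃ (T : Scheme.{u}) (_ : IsAffine T) (q : T ⟶ U) (x : T ⟶ X.left),
      Flat q ∧ Surjective q ∧ x ≫ X.hom = q ≫ j := by
  obtain ⟨R, hR, hsec⟩ := hX
  obtain ⟨E, rfl⟩ := R.exists_eq_preZeroHypercover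
  have h1 : E.presieve₀ ∈ Scheme.qcPrecoverage S := hR.1
  have h2 : E.presieve₀ ∈ Scheme.precoverage @Flat S := hR.2
  rw [Scheme.presieve₀_mem_qcPrecoverage_iff] at h1
  have h3 := (Scheme.presieve₀_mem_precoverage_iff (P := @Flat) E).mp h2
  have hs : ∀ i, ∃ s : E.X i ⟶ X.left, s ≫ X.hom = E.f i := fun i => hsec (E.f i) ⟨i⟩
  choose s hs using hs
  haveI := h1
  obtain ⟨n, f, V, hV, hcov⟩ : ∃ (n : ℕ) (f : Fin n → E.I₀)
      (V : ∀ i, (pullback j (E.f (f i))).Opens), (∀ i, IsAffineOpen (V i)) ∧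
      ⋃ i, (pullback.fst j (E.f (f i))) '' (V i) = ((⊤ : U.Opens) : Set U) :=
    QuasiCompactCover.exists_isAffineOpen_of_isCompact
      (E.pullback₁ j) (U := (⊤ : U.Opens)) isCompact_univ
  haveI : ∀ i : ULift.{u} (Fin n),
      IsAffine ((V i.down : (pullback j (E.f (f i.down))).Opens) : Scheme.{u}) :=
    fun i => hV i.down
  let Y : ULift.{u} (Fin n) → Scheme.{u} :=
    fun i => ((V i.down : (pullback j (E.f (f i.down))).Opens) : Scheme.{u})
  let φ : ∀ i, Y i ⟶ U := fun i => (V i.down).ι ≫ pullback.fst j (E.f (f i.down))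
  haveI : ∀ i, IsAffine (Y i) := fun i => hV i.down
  refine ⟨∐ Y, inferInstance, Sigma.desc φ,
    Sigma.desc (fun i => (V i.down).ι ≫ pullback.snd j (E.f (f i.down)) ≫ s (f i.down)),
    ?_, ?_, ?_⟩
  · haveI : ∀ i, Flat (φ i) := by
      intro i
      have h4 : Flat (E.f (f i.down)) := h3.2 (f i.down)
      have h5 : Flat (pullback.fst j (E.f (f i.down))) :=
        MorphismProperty.pullback_fst (P := @Flat) _ _ h4
      change Flat ((V i.down).ι ≫ pullback.fst j (E.f (f i.down)))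
      infer_instance
    infer_instance
  · refine ⟨fun u => ?_⟩
    have hu : u ∈ ((⊤ : U.Opens) : Set U) := trivial
    rw [← hcov] at hu
    obtain ⟨i, hi⟩ := Set.mem_iUnion.mp hu
    obtain ⟨y, hy, rfl⟩ := hi
    refine ⟨Sigma.ι Y ⟨i⟩ ⟨y, hy⟩, ?_⟩
    rw [← Scheme.Hom.comp_apply, Sigma.ι_desc]
    rfl
  · apply Sigma.hom_ext
    intro i
    rw [Sigma.ι_desc_assoc, Sigma.ι_desc_assoc]
    change ((V i.down).ι ≫ pullback.snd j (E.f (f i.down)) ≫ s (f i.down)) ≫ X.hom =
      ((V i.down).ι ≫ pullback.fst j (E.f (f i.down))) ≫ j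
    rw [Category.assoc, Category.assoc, hs, Category.assoc, pullback.condition]

variable {X : Over S} (a : AlgGrp.Action (Red.Ga S) X)

/-- an fpqc `𝔾_a`-torsor has a section over every affine scheme. -/
theorem hasSectionOver_of_isAffine (h : NonAbH1.IsTorsorFor Scheme.fpqcPrecoverage a)
    {U : Scheme.{u}} [IsAffine U] (j : U ⟶ S) : NonAbH1.HasSectionOver X j := by
  obtain ⟨T, hT, q, x, hfl, hsurj, hx⟩ := exists_affine_cover X h.2 j
  haveI := hT
  haveI := hfl
  haveI := hsurj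
  letI : Algebra Γ(U, ⊤) Γ(T, ⊤) := q.appTop.hom.toAlgebra
  have hq : Spec.map (CommRingCat.ofHom (algebraMap Γ(U, ⊤) Γ(T, ⊤))) = Spec.map q.appTop := rfl
  have hff : (algebraMap Γ(U, ⊤) Γ(T, ⊤)).FaithfullyFlat := by
    have h1 : Flat (Spec.map q.appTop) ∧ Surjective (Spec.map q.appTop) := by
      have e : Spec.map q.appTop = T.isoSpec.inv ≫ q ≫ U.isoSpec.hom := by
        rw [← Scheme.isoSpec_hom_naturality, Iso.inv_hom_id_assoc]
      rw [e]
      exact ⟨inferInstance, inferInstance⟩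
    exact (flat_and_surjective_SpecMap_iff q.appTop).mp h1
  haveI : Module.FaithfullyFlat Γ(U, ⊤) Γ(T, ⊤) :=
    (RingHom.faithfullyFlat_algebraMap_iff).mp hff
  let j' : Spec (CommRingCat.of Γ(U, ⊤)) ⟶ S := U.isoSpec.inv ≫ j
  let x' : SpS j' Γ(T, ⊤) ⟶ X := Over.homMk (T.isoSpec.inv ≫ x) (by
    change (T.isoSpec.inv ≫ x) ≫ X.hom = Spec.map _ ≫ U.isoSpec.inv ≫ j
    rw [Category.assoc, hx, hq, ← Category.assoc (Spec.map q.appTop),
      Scheme.isoSpec_inv_naturality, Category.assoc])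
  obtain ⟨σ, hσ⟩ := exists_section j' Γ(T, ⊤) a h.1 x'
  refine ⟨U.isoSpec.hom ≫ σ, ?_⟩
  rw [Category.assoc, hσ]
  change U.isoSpec.hom ≫ U.isoSpec.inv ≫ j = j
  rw [Iso.hom_inv_id_assoc]

/-- **Additive Hilbert 90**: fpqc torsors under `𝔾_a` are Zariski locally trivial. -/
theorem isTorsorFor_zariski (h : NonAbH1.IsTorsorFor Scheme.fpqcPrecoverage a) :
    NonAbH1.IsTorsorFor Scheme.zariskiPrecoverage a := by
  refine ⟨h.1, S.affineCover.presieve₀, S.affineCover.mem₀, ?_⟩
  rintro S' f ⟨i⟩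
  exact hasSectionOver_of_isAffine a h _

end Groth.Agent.Lib.Helper10.GaTorsor
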