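import Mathlib
import Groth.Prelude.Def_Neron
import Groth.Prelude.Def_Red
import Groth.Agent.Lib.Helper14.FlatClosure2
import Groth.Agent.Lib.Helper14.GenExt1

/-!
# Morphisms out of flat schemes over a Dedekind domain are determined on the generic fibre
-/

set_option autoImplicit false
set_option maxHeartbeats 1000000
set_option linter.unusedSectionVars false
set_option linter.style.haveILetI false
universe u
open CategoryTheory CategoryTheory.Limits AlgebraicGeometry MonoidalCategory
  CartesianMonoidalCategory MonObj GrpObj

namespace Groth.Agent.Lib.Helper10.GenFibExt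

variable {R : Type u} [CommRing R] [IsDedekindDomain R]

/-- morphisms from a flat `R`-scheme to a separated `R`-scheme agreeing on generic fibres agree. -/
theorem hom_ext_of_genericFibre {U V : Over (Spec (CommRingCat.of R))} [Flat U.hom]
    [IsSeparated V.hom] (a b : U ⟶ V)
    (h : (Over.pullback (Neron.genPt R)).map a = (Over.pullback (Neron.genPt R)).map b) :
    a = b := by
  haveI := Groth.Agent.Lib.Helper14.AS.isSchemeTheoreticallyDominant_genPt (R := R)
  haveI : QuasiCompact (Neron.genPt R) := inferInstance
  let j : ((Over.pullback (Neron.genPt R)).obj U).left ⟶ U.left :=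
    pullback.fst U.hom (Neron.genPt R)
  haveI : IsSchemeTheoreticallyDominant j :=
    IsSchemeTheoreticallyDominant.pullbackFst U.hom (Neron.genPt R)
  ext1
  apply Groth.Agent.Lib.Helper14.GenExt.ext_of_schDominant V.hom (by rw [Over.w, Over.w]) j
  have ha : ((Over.pullback (Neron.genPt R)).map a).left ≫ pullback.fst V.hom (Neron.genPt R) =
      j ≫ a.left := by
    simp only [j, Over.pullback_map_left]
    exact pullback.lift_fst _ _ _
  have hb : ((Over.pullback (Neron.genPt R)).map b).left ≫ pullback.fst V.hom (Neron.genPt R) =
      j ≫ b.left := by
    simp only [j, Over.pullback_map_left]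
    exact pullback.lift_fst _ _ _
  rw [← ha, ← hb, h]

end Groth.Agent.Lib.Helper10.GenFibExt
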