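import Mathlib
import Groth.Prelude.Def_W4bk4git07Quot
import Groth.Agent.Lib.Helper10.ProperQuot1

/-!
# Geometric quotients: orbits of geometric points are closed
-/

set_option autoImplicit false
set_option backward.isDefEq.respectTransparency.types false
set_option maxHeartbeats 4000000
set_option synthInstance.maxHeartbeats 400000
universe u
open CategoryTheory CategoryTheory.Limits AlgebraicGeometry MonoidalCategory
  CartesianMonoidalCategory MonObj GrpObj TopologicalSpace

namespace Groth.Agent.Lib.Helper10.GeomQuot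

open Groth.Agent.Lib.Helper10 Groth.Agent.Lib.Helper10.HomSp

variable {S : Scheme.{u}} {G X Y T : Over S} [GrpObj G] (a : AlgGrp.Action G X) (φ : X ⟶ Y)
  (hinv : GIT.IsInvariant a φ) (f : T ⟶ X)

/-- `(g, x) ↦ (g x, x)` into `X ×_Y X`. -/
noncomputable def PsiK : G ⊗ X ⟶ pullback φ φ := pullback.lift a.act (snd G X) hinv

include hinv in
theorem psi_w : ((G ◁ f) ≫ a.act) ≫ φ = snd G T ≫ f ≫ φ := by
  rw [Category.assoc, hinv, ← Category.assoc, whiskerLeft_snd, Category.assoc]

/-- `(g, t) ↦ (g f(t), t)` into `X ×_Y T`. -/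
noncomputable def psiP : G ⊗ T ⟶ pullback φ (f ≫ φ) :=
  pullback.lift ((G ◁ f) ≫ a.act) (snd G T) (psi_w a φ hinv f)

/-- `X ×_Y T ⟶ X ×_Y X`. -/
noncomputable def PtoK : pullback φ (f ≫ φ) ⟶ pullback φ φ :=
  pullback.lift (pullback.fst φ (f ≫ φ)) (pullback.snd φ (f ≫ φ) ≫ f) (by
    rw [pullback.condition, Category.assoc])

/-- `X ×_Y T ⟶ X × T`. -/
noncomputable def PtoXT : pullback φ (f ≫ φ) ⟶ X ⊗ T :=
  lift (pullback.fst φ (f ≫ φ)) (pullback.snd φ (f ≫ φ))

theorem psiP_PtoXT : psiP a φ hinv f ≫ PtoXT φ f = GIT.psi a f := by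
  unfold psiP PtoXT GIT.psi
  apply CartesianMonoidalCategory.hom_ext
  · rw [Category.assoc, lift_fst, lift_fst, pullback.lift_fst]
  · rw [Category.assoc, lift_snd, lift_snd, pullback.lift_snd]

theorem sq1 : IsPullback (psiP a φ hinv f) (G ◁ f) (PtoK φ f) (PsiK a φ hinv) := by
  refine isPullback_of_lift _ _ _ _ ?_
    (fun α β _ => lift (β ≫ fst G X) (α ≫ pullback.snd φ (f ≫ φ))) ?_ ?_ ?_
  · apply pullback.hom_ext
    · unfold psiP PtoK PsiK
      rw [Category.assoc, Category.assoc, pullback.lift_fst, pullback.lift_fst, pullback.lift_fst]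
    · unfold psiP PtoK PsiK
      rw [Category.assoc, Category.assoc, pullback.lift_snd, pullback.lift_snd,
        ← Category.assoc, pullback.lift_snd, whiskerLeft_snd]
  · intro W α β hαβ
    have h1 : α ≫ pullback.fst φ (f ≫ φ) = β ≫ a.act := by
      have := congrArg (fun t => t ≫ pullback.fst φ φ) hαβ
      simpa only [Category.assoc, PtoK, PsiK, pullback.lift_fst] using this
    have h2 : (α ≫ pullback.snd φ (f ≫ φ)) ≫ f = β ≫ snd G X := by
      have := congrArg (fun t => t ≫ pullback.snd φ φ) hαβ
      simpa only [Category.assoc, PtoK, PsiK, pullback.lift_snd] using this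
    have h3 : lift (β ≫ fst G X) (α ≫ pullback.snd φ (f ≫ φ)) ≫ (G ◁ f) = β := by
      apply CartesianMonoidalCategory.hom_ext
      · rw [Category.assoc, whiskerLeft_fst, lift_fst]
      · rw [Category.assoc, whiskerLeft_snd, ← Category.assoc, lift_snd, h2]
    apply pullback.hom_ext
    · unfold psiP
      rw [Category.assoc, pullback.lift_fst, ← Category.assoc, h3, h1]
    · unfold psiP
      rw [Category.assoc, pullback.lift_snd, lift_snd]
  · intro W α β hαβ
    have h2 : (α ≫ pullback.snd φ (f ≫ φ)) ≫ f = β ≫ snd G X := by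
      have := congrArg (fun t => t ≫ pullback.snd φ φ) hαβ
      simpa only [Category.assoc, PtoK, PsiK, pullback.lift_snd] using this
    apply CartesianMonoidalCategory.hom_ext
    · rw [Category.assoc, whiskerLeft_fst, lift_fst]
    · rw [Category.assoc, whiskerLeft_snd, ← Category.assoc, lift_snd, h2]
  · intro W m m' e1 e2
    apply CartesianMonoidalCategory.hom_ext
    · have := congrArg (fun t => t ≫ fst G X) e2
      simpa only [Category.assoc, whiskerLeft_fst] using this
    · have := congrArg (fun t => t ≫ pullback.snd φ (f ≫ φ)) e1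
      simpa only [Category.assoc, psiP, pullback.lift_snd] using this

theorem sq2 : IsPullback (PtoXT φ f) (pullback.snd φ (f ≫ φ)) (φ ▷ T) (lift (f ≫ φ) (𝟙 T)) := by
  refine isPullback_of_lift _ _ _ _ ?_
    (fun α β hαβ => pullback.lift (α ≫ fst X T) β (by
      have := congrArg (fun t => t ≫ fst Y T) hαβ
      simpa only [Category.assoc, whiskerRight_fst, lift_fst] using this)) ?_ ?_ ?_
  · unfold PtoXT
    apply CartesianMonoidalCategory.hom_ext
    · rw [Category.assoc, whiskerRight_fst, ← Category.assoc, lift_fst, Category.assoc, lift_fst,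
        pullback.condition]
    · rw [Category.assoc, whiskerRight_snd, lift_snd, Category.assoc, lift_snd, Category.comp_id]
  · intro W α β hαβ
    have h2 : α ≫ snd X T = β := by
      have := congrArg (fun t => t ≫ snd Y T) hαβ
      simpa only [Category.assoc, whiskerRight_snd, lift_snd, Category.comp_id] using this
    unfold PtoXT
    apply CartesianMonoidalCategory.hom_ext
    · simp only [Category.assoc, lift_fst, pullback.lift_fst]
    · simp only [Category.assoc, lift_snd, pullback.lift_snd, h2]
  · intro W α β hαβ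
    rw [pullback.lift_snd]
  · intro W m m' e1 e2
    apply pullback.hom_ext
    · have := congrArg (fun t => t ≫ fst X T) e1
      simpa only [Category.assoc, PtoXT, lift_fst] using this
    · exact e2

/-- surjectivity of `PsiY` in the `Over S` form. -/
theorem surjective_PsiK (horb : Function.Surjective (GIT.PsiY a φ hinv).base) :
    Surjective (PsiK a φ hinv).left := by
  have sq : IsPullback (pullback.fst φ φ).left (pullback.snd φ φ).left φ.left φ.left :=
    (IsPullback.of_hasPullback φ φ).map (Over.forget S)
  have hfac : (PsiK a φ hinv).left ≫ sq.isoPullback.hom = GIT.PsiY a φ hinv := by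
    apply pullback.hom_ext
    · rw [Category.assoc, sq.isoPullback_hom_fst]
      rw [← Over.comp_left, PsiK, pullback.lift_fst, GIT.PsiY, pullback.lift_fst]
    · rw [Category.assoc, sq.isoPullback_hom_snd]
      rw [← Over.comp_left, PsiK, pullback.lift_snd, GIT.PsiY, pullback.lift_snd]
  constructor
  intro v
  obtain ⟨p, hp⟩ := horb (sq.isoPullback.hom v)
  refine ⟨p, ?_⟩
  have h1 : sq.isoPullback.hom ((PsiK a φ hinv).left p) = sq.isoPullback.hom v := by
    rw [← Scheme.Hom.comp_apply, hfac]
    exact hp
  have hinj : Function.Injective sq.isoPullback.hom := by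
    intro u u' huu'
    have := congrArg sq.isoPullback.inv huu'
    rwa [← Scheme.Hom.comp_apply, ← Scheme.Hom.comp_apply, sq.isoPullback.hom_inv_id] at this
  exact hinj h1

/-- the orbit of a `T`-point is the preimage of the graph of its image in the quotient. -/
theorem range_psi (horb : Function.Surjective (GIT.PsiY a φ hinv).base) :
    Set.range (GIT.psi a f).left =
      (φ ▷ T).left ⁻¹' Set.range (lift (f ≫ φ) (𝟙 T)).left := by
  have s1 := (sq1 a φ hinv f).map (Over.forget S)
  have s2 := (sq2 φ f).map (Over.forget S)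
  haveI : Surjective (psiP a φ hinv f).left :=
    MorphismProperty.of_isPullback (P := @Surjective) s1.flip (surjective_PsiK a φ hinv horb)
  rw [← psiP_PtoXT a φ hinv f, Over.comp_left]
  apply Set.Subset.antisymm
  · rintro _ ⟨u, rfl⟩
    rw [Set.mem_preimage, Scheme.Hom.comp_apply]
    refine ⟨(pullback.snd φ (f ≫ φ)).left ((psiP a φ hinv f).left u), ?_⟩
    have := congrArg (fun t => t.base ((psiP a φ hinv f).left u)) s2.w
    simp only [Scheme.Hom.comp_base, TopCat.comp_app] at this
    exact this.symm
  · rintro w ⟨t, ht⟩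
    obtain ⟨v, hv, -⟩ := ProperQuot.exists_preimage_of_isPullback s2 w t ht.symm
    obtain ⟨u, hu⟩ := (inferInstance : Surjective (psiP a φ hinv f).left).surj v
    exact ⟨u, by rw [Scheme.Hom.comp_apply, hu]; exact hv⟩

/-- **Orbits of geometric points are closed** when a geometric quotient exists. -/
theorem isClosedAction (h : GIT.IsGeomQuot a φ) : GIT.IsClosedAction a := by
  intro Ω _ _ T e f
  rw [show Set.range (GIT.psi a f).left.base = Set.range (GIT.psi a f).left from rfl,
    range_psi a φ h.inv f h.orbit]
  haveI : Subsingleton ↥T.left := by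
    have : Subsingleton ↥(Spec (CommRingCat.of Ω)) :=
      inferInstanceAs (Subsingleton (PrimeSpectrum Ω))
    exact e.hom.homeomorph.injective.subsingleton
  haveI : IsClosedImmersion (lift (f ≫ φ) (𝟙 T)).left :=
    isClosedImmersion_of_comp_eq_id (snd Y T).left (lift (f ≫ φ) (𝟙 T)).left (by
      rw [← Over.comp_left, lift_snd]
      rfl)
  exact ((lift (f ≫ φ) (𝟙 T)).left.isClosedEmbedding.isClosed_range).preimage
    (φ ▷ T).left.continuous

end Groth.Agent.Lib.Helper10.GeomQuot
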