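import Mathlib
import Groth.Agent.Lib.Helper10.GeomQuot1

/-!
# Geometric quotients: separatedness of the quotient and closedness of the graph of the action
-/

set_option autoImplicit false
set_option backward.isDefEq.respectTransparency.types false
set_option maxHeartbeats 4000000
set_option synthInstance.maxHeartbeats 400000
universe u
open CategoryTheory CategoryTheory.Limits AlgebraicGeometry MonoidalCategory
  CartesianMonoidalCategory MonObj GrpObj TopologicalSpace

namespace Groth.Agent.Lib.Helper10.GeomQuot

open Groth.Agent.Lib.Helper10 Groth.Agent.Lib.Helper10.HomSp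

variable {S : Scheme.{u}} {G X Y : Over S} [GrpObj G] (a : AlgGrp.Action G X) (φ : X ⟶ Y)

theorem isPullback_graph :
    IsPullback (lift φ (𝟙 X)) φ (Y ◁ φ) (lift (𝟙 Y) (𝟙 Y)) := by
  refine isPullback_of_lift _ _ _ _ ?_ (fun α _ _ => α ≫ snd Y X) ?_ ?_ ?_
  · apply CartesianMonoidalCategory.hom_ext
    · rw [Category.assoc, whiskerLeft_fst, lift_fst, Category.assoc, lift_fst, Category.comp_id]
    · rw [Category.assoc, whiskerLeft_snd, ← Category.assoc, lift_snd, Category.id_comp,
        Category.assoc, lift_snd, Category.comp_id]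
  · intro W α β hαβ
    have h1 : α ≫ fst Y X = β := by
      have := congrArg (fun t => t ≫ fst Y Y) hαβ
      simpa only [Category.assoc, whiskerLeft_fst, lift_fst, Category.comp_id] using this
    have h2 : (α ≫ snd Y X) ≫ φ = β := by
      have := congrArg (fun t => t ≫ snd Y Y) hαβ
      simpa only [Category.assoc, whiskerLeft_snd, lift_snd, Category.comp_id] using this
    apply CartesianMonoidalCategory.hom_ext
    · rw [Category.assoc, lift_fst, h2, h1]
    · rw [Category.assoc, lift_snd, Category.comp_id]
  · intro W α β hαβ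
    have := congrArg (fun t => t ≫ snd Y Y) hαβ
    simpa only [Category.assoc, whiskerLeft_snd, lift_snd, Category.comp_id] using this
  · intro W m m' e1 _
    have := congrArg (fun t => t ≫ snd Y X) e1
    simpa only [Category.assoc, lift_snd, Category.comp_id] using this

theorem diag_left : (lift (𝟙 Y) (𝟙 Y)).left = pullback.diagonal Y.hom := by
  apply pullback.hom_ext
  · rw [pullback.diagonal_fst]
    exact congrArg (fun t => t.left) (lift_fst (𝟙 Y) (𝟙 Y))
  · rw [pullback.diagonal_snd]
    exact congrArg (fun t => t.left) (lift_snd (𝟙 Y) (𝟙 Y))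

theorem range_psi_id (hinv : GIT.IsInvariant a φ)
    (horb : Function.Surjective (GIT.PsiY a φ hinv).base) :
    Set.range (GIT.psi a (𝟙 X)).left =
      ((φ ▷ X) ≫ (Y ◁ φ)).left ⁻¹' Set.range (pullback.diagonal Y.hom) := by
  rw [range_psi a φ hinv (𝟙 X) horb, Category.id_comp, Over.comp_left]
  have sq := (isPullback_graph φ).map (Over.forget S)
  ext w
  simp only [Set.mem_preimage, Scheme.Hom.comp_apply]
  rw [← diag_left]
  constructor
  · rintro ⟨x, hx⟩
    refine ⟨φ.left x, ?_⟩
    rw [← hx]
    have := congrArg (fun t => t.base x) sq.w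
    simp only [Scheme.Hom.comp_base, TopCat.comp_app] at this
    exact this.symm
  · rintro ⟨y, hy⟩
    obtain ⟨x, hx, -⟩ := ProperQuot.exists_preimage_of_isPullback sq _ y hy.symm
    exact ⟨x, hx⟩

theorem isQuotientMap_prod (hsub : GIT.IsUnivSubmersive φ.left) :
    Topology.IsQuotientMap ((φ ▷ X) ≫ (Y ◁ φ)).left := by
  have h1 : Topology.IsQuotientMap (φ ▷ X).left :=
    hsub _ _ _ ((isPullback_whiskerRight_fst φ X).map (Over.forget S))
  have h2 : Topology.IsQuotientMap (Y ◁ φ).left :=
    hsub _ _ _ ((isPullback_whiskerLeft_snd Y φ).map (Over.forget S))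
  rw [Over.comp_left]
  exact h2.comp h1

/-- the quotient is separated iff the graph of the action is closed. -/
theorem isSeparated_iff (h : GIT.IsGeomQuot a φ) :
    IsSeparated Y.hom ↔ IsClosed (Set.range (GIT.psi a (𝟙 X)).left) := by
  rw [range_psi_id a φ h.inv h.orbit]
  constructor
  · intro hs
    exact ((pullback.diagonal Y.hom).isClosedEmbedding.isClosed_range).preimage
      ((φ ▷ X) ≫ (Y ◁ φ)).left.continuous
  · intro hcl
    have hq := isQuotientMap_prod φ h.subm
    have : IsClosed (Set.range (pullback.diagonal Y.hom)) := hq.isClosed_preimage.mp hcl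
    exact ⟨IsClosedImmersion.of_isPreimmersion _ this⟩

end Groth.Agent.Lib.Helper10.GeomQuot
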