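import Mathlib
import Groth.Prelude.Def_Curv2

set_option autoImplicit false
set_option linter.unusedSectionVars false
set_option linter.style.haveILetI false
set_option backward.isDefEq.respectTransparency.types false
set_option maxHeartbeats 4000000
set_option synthInstance.maxHeartbeats 400000

universe u

open CategoryTheory CategoryTheory.Limits AlgebraicGeometry Opposite

namespace Groth.Agent.Lib.Helper10.GeomRegDesc

/-- a finitely generated subextension of `κ/k'` containing the image of a finitely generated
extension `k''/k` -/
theorem exists_fg_subfield {k k' k'' κ : Type u} [Field k] [Field k'] [Field k''] [Field κ]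
    [Algebra k k'] [Algebra k k''] [Algebra k' κ] (φ : k'' →+* κ)
    (hcompat : ∀ c : k, φ (algebraMap k k'' c) = algebraMap k' κ (algebraMap k k' c))
    (hfg : (⊤ : IntermediateField k k'').FG) :
    ∃ Ω : IntermediateField k' κ, Ω.FG ∧ ∀ y, φ y ∈ Ω := by
  classical
  obtain ⟨S, hS⟩ := hfg
  refine ⟨IntermediateField.adjoin k' ((S.image φ : Finset κ) : Set κ),
    IntermediateField.fg_adjoin_finset _, ?_⟩
  letI : Algebra k κ := ((algebraMap k' κ).comp (algebraMap k k')).toAlgebra
  haveI : IsScalarTower k k' κ := IsScalarTower.of_algebraMap_eq (fun _ => rfl)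
  let ψ : k'' →ₐ[k] κ := { φ with commutes' := fun c => hcompat c }
  set Ω := IntermediateField.adjoin k' ((S.image φ : Finset κ) : Set κ) with hΩ
  have hle : IntermediateField.adjoin k (S : Set k'') ≤ (Ω.restrictScalars k).comap ψ := by
    rw [IntermediateField.adjoin_le_iff]
    intro s hs
    change φ s ∈ Ω
    apply IntermediateField.subset_adjoin
    simp only [Finset.coe_image, Set.mem_image]
    exact ⟨s, hs, rfl⟩
  rw [hS] at hle
  intro y
  exact hle (IntermediateField.mem_top (x := y))

end Groth.Agent.Lib.Helper10.GeomRegDesc
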