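import Mathlib
import Groth.Prelude.Def_Curv2
import Groth.Agent.Lib.Helper10.GeomRegDesc1

set_option autoImplicit false
set_option linter.unusedSectionVars false
set_option linter.style.haveILetI false
set_option backward.isDefEq.respectTransparency.types false
set_option maxHeartbeats 4000000
set_option synthInstance.maxHeartbeats 400000

universe u

open CategoryTheory CategoryTheory.Limits AlgebraicGeometry Opposite

namespace Groth.Agent.Lib.Helper10.GeomRegDesc

variable (k : Type u) [Field k] (X : Scheme.{u}) [X.Over (Spec (CommRingCat.of k))]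
  (k' k'' : Type u) [Field k'] [Field k''] [Algebra k k'] [Algebra k k'']

/-- the base change `X_{k'}` as a `k'`-scheme -/
@[reducible] noncomputable def bcOver : (Curv2.bc k X k').Over (Spec (CommRingCat.of k')) :=
  ⟨Curv2.bcSnd k X k'⟩

attribute [local instance] bcOver

theorem exists_flat_common_point (hfg : (⊤ : IntermediateField k k'').FG)
    (x' : ↥(Curv2.bc k X k')) (x'' : ↥(Curv2.bc k X k''))
    (hx : Curv2.bcFst k X k' x' = Curv2.bcFst k X k'' x'') :
    ∃ (Ω : Type u) (_ : Field Ω) (_ : Algebra k' Ω),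
      (⊤ : IntermediateField k' Ω).FG ∧
      ∃ (z : ↥(Curv2.bc k' (Curv2.bc k X k') Ω))
        (q : Curv2.bc k' (Curv2.bc k X k') Ω ⟶ Curv2.bc k X k''),
        Flat q ∧ Curv2.bcFst k' (Curv2.bc k X k') Ω z = x' ∧ q z = x'' := by
  let T := pullback (Curv2.bcFst k X k') (Curv2.bcFst k X k'')
  obtain ⟨(t : ↥T), ht1, ht2⟩ := Scheme.Pullback.exists_preimage_pullback x' x'' hx
  let κ := T.residueField t
  let ι : Spec κ ⟶ T := T.fromSpecResidueField t
  let a' : Spec κ ⟶ Spec (CommRingCat.of k') :=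
    ι ≫ pullback.fst (Curv2.bcFst k X k') (Curv2.bcFst k X k'') ≫ Curv2.bcSnd k X k'
  let a'' : Spec κ ⟶ Spec (CommRingCat.of k'') :=
    ι ≫ pullback.snd (Curv2.bcFst k X k') (Curv2.bcFst k X k'') ≫ Curv2.bcSnd k X k''
  let φ'c : CommRingCat.of k' ⟶ κ := Spec.preimage a'
  let φ''c : CommRingCat.of k'' ⟶ κ := Spec.preimage a''
  have hφ' : Spec.map φ'c = a' := Spec.map_preimage a'
  have hφ'' : Spec.map φ''c = a'' := Spec.map_preimage a''
  have hcomp : a' ≫ Spec.map (CommRingCat.ofHom (algebraMap k k')) =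
      a'' ≫ Spec.map (CommRingCat.ofHom (algebraMap k k'')) := by
    have c1 : Curv2.bcSnd k X k' ≫ Spec.map (CommRingCat.ofHom (algebraMap k k')) =
        Curv2.bcFst k X k' ≫ (X ↘ Spec (CommRingCat.of k)) := pullback.condition.symm
    have c2 : Curv2.bcSnd k X k'' ≫ Spec.map (CommRingCat.ofHom (algebraMap k k'')) =
        Curv2.bcFst k X k'' ≫ (X ↘ Spec (CommRingCat.of k)) := pullback.condition.symm
    have c3 : pullback.fst (Curv2.bcFst k X k') (Curv2.bcFst k X k'') ≫ Curv2.bcFst k X k' =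
        pullback.snd (Curv2.bcFst k X k') (Curv2.bcFst k X k'') ≫ Curv2.bcFst k X k'' :=
      pullback.condition
    simp only [a', a'', Category.assoc]
    rw [c1, c2, reassoc_of% c3]
  have hcompat : CommRingCat.ofHom (algebraMap k k') ≫ φ'c =
      CommRingCat.ofHom (algebraMap k k'') ≫ φ''c := by
    apply Spec.map_injective
    rw [Spec.map_comp, Spec.map_comp, hφ', hφ'', hcomp]
  letI : Algebra k' κ := φ'c.hom.toAlgebra
  obtain ⟨Ωf, hΩfg, hΩmem⟩ := exists_fg_subfield (k := k) (k' := k') (k'' := k'') (κ := κ)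
    φ''c.hom (fun c => (congrArg (fun ψ => ψ.hom c) hcompat).symm) hfg
  let φ : k'' →+* ↥Ωf := φ''c.hom.codRestrict Ωf hΩmem
  haveI : Algebra.EssFiniteType k' ↥Ωf := IntermediateField.essFiniteType_iff.mpr hΩfg
  refine ⟨↥Ωf, inferInstance, inferInstance, IntermediateField.fg_top k' ↥Ωf, ?_⟩
  let b : Spec κ ⟶ Spec (CommRingCat.of ↥Ωf) := Spec.map (CommRingCat.ofHom (algebraMap ↥Ωf κ))
  have hb' : b ≫ Spec.map (CommRingCat.ofHom (algebraMap k' ↥Ωf)) = a' := by
    rw [← hφ', ← Spec.map_comp]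
    rfl
  have hb'' : b ≫ Spec.map (CommRingCat.ofHom φ) = a'' := by
    rw [← hφ'', ← Spec.map_comp]
    rfl
  let ζ : Spec κ ⟶ Curv2.bc k' (Curv2.bc k X k') ↥Ωf :=
    pullback.lift (ι ≫ pullback.fst (Curv2.bcFst k X k') (Curv2.bcFst k X k'')) b
      (by rw [hb']; simp only [a', Category.assoc]; rfl)
  have hq : (Curv2.bcFst k' (Curv2.bc k X k') ↥Ωf ≫ Curv2.bcFst k X k') ≫
      (X ↘ Spec (CommRingCat.of k)) =
      (Curv2.bcSnd k' (Curv2.bc k X k') ↥Ωf ≫ Spec.map (CommRingCat.ofHom φ)) ≫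
        Spec.map (CommRingCat.ofHom (algebraMap k k'')) := by
    have c1 : Curv2.bcFst k X k' ≫ (X ↘ Spec (CommRingCat.of k)) =
        Curv2.bcSnd k X k' ≫ Spec.map (CommRingCat.ofHom (algebraMap k k')) := pullback.condition
    have c2 : Curv2.bcFst k' (Curv2.bc k X k') ↥Ωf ≫ Curv2.bcSnd k X k' =
        Curv2.bcSnd k' (Curv2.bc k X k') ↥Ωf ≫
          Spec.map (CommRingCat.ofHom (algebraMap k' ↥Ωf)) := pullback.condition
    rw [Category.assoc, c1, reassoc_of% c2, Category.assoc, ← Spec.map_comp, ← Spec.map_comp]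
    congr 2
    ext c
    exact (congrArg (fun ψ => ψ.hom c) hcompat)
  let q : Curv2.bc k' (Curv2.bc k X k') ↥Ωf ⟶ Curv2.bc k X k'' :=
    pullback.lift (Curv2.bcFst k' (Curv2.bc k X k') ↥Ωf ≫ Curv2.bcFst k X k')
      (Curv2.bcSnd k' (Curv2.bc k X k') ↥Ωf ≫ Spec.map (CommRingCat.ofHom φ)) hq
  have hζq : ζ ≫ q = ι ≫ pullback.snd (Curv2.bcFst k X k') (Curv2.bcFst k X k'') := by
    apply pullback.hom_ext
    · simp only [q, ζ, Category.assoc, pullback.lift_fst, pullback.lift_fst_assoc]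
      rw [pullback.condition]
    · simp only [q, ζ, Category.assoc, pullback.lift_snd, pullback.lift_snd_assoc]
      rw [hb'']
  let pt : ↥(Spec κ) := IsLocalRing.closedPoint κ
  refine ⟨ζ pt, q, ?_, ?_, ?_⟩
  · -- flatness
    have h1 : IsPullback (Curv2.bcFst k X k') (Curv2.bcSnd k X k') (X ↘ Spec (CommRingCat.of k))
        (Spec.map (CommRingCat.ofHom (algebraMap k k'))) := IsPullback.of_hasPullback _ _
    have h2 : IsPullback (Curv2.bcFst k' (Curv2.bc k X k') ↥Ωf) (Curv2.bcSnd k' (Curv2.bc k X k') ↥Ωf)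
        (Curv2.bcSnd k X k') (Spec.map (CommRingCat.ofHom (algebraMap k' ↥Ωf))) :=
      IsPullback.of_hasPullback _ _
    have h3 : IsPullback (Curv2.bcFst k X k'') (Curv2.bcSnd k X k'')
        (X ↘ Spec (CommRingCat.of k)) (Spec.map (CommRingCat.ofHom (algebraMap k k''))) :=
      IsPullback.of_hasPullback _ _
    have h12 := h2.paste_horiz h1
    have e1 : Curv2.bcFst k' (Curv2.bc k X k') ↥Ωf ≫ Curv2.bcFst k X k' =
        q ≫ Curv2.bcFst k X k'' := (pullback.lift_fst _ _ _).symm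
    have e2 : Spec.map (CommRingCat.ofHom (algebraMap k' ↥Ωf)) ≫
        Spec.map (CommRingCat.ofHom (algebraMap k k')) =
        Spec.map (CommRingCat.ofHom φ) ≫ Spec.map (CommRingCat.ofHom (algebraMap k k'')) := by
      rw [← Spec.map_comp, ← Spec.map_comp]
      congr 1
      ext c
      exact (congrArg (fun ψ => ψ.hom c) hcompat)
    rw [e1, e2] at h12
    have hleft : IsPullback q (Curv2.bcSnd k' (Curv2.bc k X k') ↥Ωf) (Curv2.bcSnd k X k'')
        (Spec.map (CommRingCat.ofHom φ)) :=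
      IsPullback.of_right h12 (pullback.lift_snd _ _ _) h3
    haveI : Flat (Spec.map (CommRingCat.ofHom φ)) := inferInstance
    exact MorphismProperty.of_isPullback hleft.flip inferInstance
  · change (ζ ≫ Curv2.bcFst k' (Curv2.bc k X k') ↥Ωf) pt = x'
    rw [show ζ ≫ Curv2.bcFst k' (Curv2.bc k X k') ↥Ωf =
      ι ≫ pullback.fst (Curv2.bcFst k X k') (Curv2.bcFst k X k'') from pullback.lift_fst _ _ _]
    change pullback.fst (Curv2.bcFst k X k') (Curv2.bcFst k X k'') (ι pt) = x'
    rw [show ι pt = t from Scheme.fromSpecResidueField_apply t pt]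
    exact ht1
  · change (ζ ≫ q) pt = x''
    rw [hζq]
    change pullback.snd (Curv2.bcFst k X k') (Curv2.bcFst k X k'') (ι pt) = x''
    rw [show ι pt = t from Scheme.fromSpecResidueField_apply t pt]
    exact ht2

end Groth.Agent.Lib.Helper10.GeomRegDesc
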