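import Mathlib
import Groth.Prelude.Def_Curv2
import Groth.Agent.Lib.Helper10.GeomRegDesc2
import Groth.Agent.Lib.Helper18.SerreReg2
import Groth.Agent.Lib.Helper3.Noetherian

set_option autoImplicit false
set_option linter.unusedSectionVars false
set_option linter.style.haveILetI false
set_option backward.isDefEq.respectTransparency.types false
set_option maxHeartbeats 4000000
set_option synthInstance.maxHeartbeats 400000

universe u

open CategoryTheory CategoryTheory.Limits AlgebraicGeometry Opposite

namespace Groth.Agent.Lib.Helper10.GeomRegDesc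

/-- regularity of stalks descends along flat morphisms (no Noetherian hypothesis on the target) -/
theorem isRegularLocalRing_stalk_of_flat' {P U : Scheme.{u}} (q : P ⟶ U) [Flat q] (w : ↥P)
    (h : IsRegularLocalRing (P.presheaf.stalk w)) :
    IsRegularLocalRing (U.presheaf.stalk (q w)) := by
  algebraize [(q.stalkMap w).hom]
  haveI hloc : IsLocalHom (algebraMap (U.presheaf.stalk (q w)) (P.presheaf.stalk w)) :=
    inferInstanceAs <| IsLocalHom (q.stalkMap w).hom
  haveI : Module.Flat (U.presheaf.stalk (q w)) (P.presheaf.stalk w) := Flat.stalkMap q w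
  haveI : Module.FaithfullyFlat (U.presheaf.stalk (q w)) (P.presheaf.stalk w) :=
    Module.FaithfullyFlat.of_flat_of_isLocalHom
  haveI : IsNoetherianRing (P.presheaf.stalk w) := inferInstance
  haveI : IsNoetherianRing (U.presheaf.stalk (q w)) :=
    Groth.Agent.Lib.Helper3.isNoetherianRing_of_faithfullyFlat _ (P.presheaf.stalk w)
  exact Groth.Agent.Lib.Helper18.SerreReg.isRegularLocalRing_of_flat_of_isLocalHom
    (U.presheaf.stalk (q w)) (P.presheaf.stalk w)

variable (k : Type u) [Field k] (X : Scheme.{u}) [X.Over (Spec (CommRingCat.of k))]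
  (k' : Type u) [Field k'] [Algebra k k']

attribute [local instance] bcOver

theorem isGeomRegularAt_of_baseChange (x' : ↥(Curv2.bc k X k'))
    (h : Curv2.IsGeomRegularAt k' (Curv2.bc k X k') x') :
    Curv2.IsGeomRegularAt k X (Curv2.bcFst k X k' x') := by
  intro k'' _ _ hfg x'' hx''
  obtain ⟨Ω, _, _, hΩ, z, q, hq, hz, hqz⟩ :=
    exists_flat_common_point k X k' k'' hfg x' x'' hx''.symm
  have hreg : IsRegularLocalRing ((Curv2.bc k' (Curv2.bc k X k') Ω).presheaf.stalk z) :=
    h Ω hΩ z hz
  have := isRegularLocalRing_stalk_of_flat' q z hreg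
  rwa [hqz] at this

end Groth.Agent.Lib.Helper10.GeomRegDesc
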