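import Mathlib
import Groth.Agent.Lib.Helper10.Amitsur1

/-!
# Multiplicative Hilbert 90, local form: a unit Amitsur 1-cocycle is Zariski-locally a coboundary
-/

set_option autoImplicit false
set_option backward.isDefEq.respectTransparency.types false
set_option maxHeartbeats 4000000
set_option synthInstance.maxHeartbeats 400000
universe u

namespace Groth.Agent.Lib.Helper10.Hilbert90

open TensorProduct Groth.Agent.Lib.Helper10.Amitsur

variable (R : Type u) (B : Type u) [CommRing R] [CommRing B] [Algebra R B]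

/-- `θ_u (b) = u * (b ⊗ 1) - 1 ⊗ b`. -/
noncomputable def theta (u : B ⊗[R] B) : B →ₗ[R] B ⊗[R] B :=
  (LinearMap.mulLeft R u) ∘ₗ (j1 R B).toLinearMap - (j2 R B).toLinearMap

theorem theta_apply (u : B ⊗[R] B) (b : B) : theta R B u b = u * (b ⊗ₜ 1) - 1 ⊗ₜ b := rfl

/-- the descended module. -/
noncomputable def Ldesc (u : B ⊗[R] B) : Submodule R B := LinearMap.ker (theta R B u)

theorem mem_Ldesc (u : B ⊗[R] B) (b : B) : b ∈ Ldesc R B u ↔ u * j1 R B b = j2 R B b := by
  rw [Ldesc, LinearMap.mem_ker, theta_apply, sub_eq_zero]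
  rfl

theorem rTensor_theta (u w : B ⊗[R] B) :
    (theta R B u).rTensor B w = j12 R B u * j13 R B w - j23 R B w := by
  induction w using TensorProduct.induction_on with
  | zero => simp
  | add a b ha hb => simp only [map_add, ha, hb, mul_add]; abel
  | tmul b c =>
    rw [LinearMap.rTensor_tmul, theta_apply, TensorProduct.sub_tmul]
    congr 1
    simp [Algebra.TensorProduct.tmul_mul_tmul]

variable {R B}

/-- the cocycle condition. -/
def IsCocycle (u : B ⊗[R] B) : Prop := j12 R B u * j23 R B u = j13 R B u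

theorem IsCocycle.inv {u v : B ⊗[R] B} (hu : IsCocycle u) (huv : u * v = 1) : IsCocycle v := by
  have h12 : j12 R B u * j12 R B v = 1 := by rw [← map_mul, huv, map_one]
  have h23 : j23 R B u * j23 R B v = 1 := by rw [← map_mul, huv, map_one]
  have h13 : j13 R B u * j13 R B v = 1 := by rw [← map_mul, huv, map_one]
  change j12 R B v * j23 R B v = j13 R B v
  have hU : IsUnit (j13 R B u) := IsUnit.of_mul_eq_one _ h13
  apply hU.mul_left_cancel
  rw [h13, ← hu]
  calc j12 R B u * j23 R B u * (j12 R B v * j23 R B v)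
      = (j12 R B u * j12 R B v) * (j23 R B u * j23 R B v) := by ring
    _ = 1 := by rw [h12, h23, one_mul]

/-- the descended module generates the unit ideal of `B`. -/
theorem span_Ldesc_eq_top [Module.FaithfullyFlat R B] {u v : B ⊗[R] B} (hu : IsCocycle u)
    (huv : u * v = 1) : Ideal.span (Ldesc R B u : Set B) = ⊤ := by
  -- `v` is killed by `θ_u ⊗ B`
  have hv : (theta R B u).rTensor B v = 0 := by
    rw [rTensor_theta]
    have h23 : j23 R B u * j23 R B v = 1 := by rw [← map_mul, huv, map_one]
    have h13 : j13 R B u * j13 R B v = 1 := by rw [← map_mul, huv, map_one]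
    have hc : j12 R B u * j23 R B u = j13 R B u := hu
    have h1 : j12 R B u * j13 R B v = j23 R B v := by
      have hU : IsUnit (j23 R B u) := IsUnit.of_mul_eq_one _ h23
      have hU' : IsUnit (j13 R B u) := IsUnit.of_mul_eq_one _ h13
      apply hU.mul_left_cancel
      rw [h23]
      calc j23 R B u * (j12 R B u * j13 R B v)
          = (j12 R B u * j23 R B u) * j13 R B v := by ring
        _ = 1 := by rw [hc, h13]
    rw [h1, sub_self]
  -- hence it comes from `L ⊗ B`
  have hex : Function.Exact ((Ldesc R B u).subtype.rTensor B) ((theta R B u).rTensor B) :=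
    Module.Flat.rTensor_exact B (LinearMap.exact_subtype_ker_map (theta R B u))
  obtain ⟨w, hw⟩ := (hex v).mp hv
  -- pass to the quotient by the ideal generated by `L`
  set I := Ideal.span (Ldesc R B u : Set B) with hI
  let π : B ⊗[R] B →ₐ[R] (B ⧸ I) ⊗[R] B :=
    Algebra.TensorProduct.map (Ideal.Quotient.mkₐ R I) (AlgHom.id R B)
  have hπ : ∀ w : (Ldesc R B u) ⊗[R] B, π ((Ldesc R B u).subtype.rTensor B w) = 0 := by
    intro w
    induction w using TensorProduct.induction_on with
    | zero => simp
    | add a b ha hb => rw [map_add, map_add, ha, hb, add_zero]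
    | tmul l c =>
      rw [LinearMap.rTensor_tmul]
      change (Ideal.Quotient.mkₐ R I) (l : B) ⊗ₜ[R] c = 0
      have : (Ideal.Quotient.mkₐ R I) (l : B) = 0 := by
        rw [Ideal.Quotient.mkₐ_eq_mk, Ideal.Quotient.eq_zero_iff_mem]
        exact Ideal.subset_span l.2
      rw [this, TensorProduct.zero_tmul]
  have h0 : π v = 0 := by rw [← hw]; exact hπ w
  have h1 : (1 : (B ⧸ I) ⊗[R] B) = 0 := by
    rw [← map_one π, ← huv, map_mul, h0, mul_zero]
  haveI : Subsingleton ((B ⧸ I) ⊗[R] B) := subsingleton_of_zero_eq_one h1.symm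
  haveI : Subsingleton (B ⧸ I) :=
    (Module.FaithfullyFlat.subsingleton_tensorProduct_iff_left (R := R) (M := B ⧸ I)
      (N := B)).mp inferInstance
  exact Ideal.Quotient.subsingleton_iff.mp inferInstance

theorem mul_mem_range [Module.FaithfullyFlat R B] {u v : B ⊗[R] B} (huv : u * v = 1)
    {l l' : B} (hl : l ∈ Ldesc R B u) (hl' : l' ∈ Ldesc R B v) :
    l * l' ∈ Set.range (algebraMap R B) := by
  rw [mem_Ldesc] at hl hl'
  have h1 : j1 R B (l * l') = j2 R B (l * l') := by
    rw [map_mul, map_mul, ← hl, ← hl']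
    calc j1 R B l * j1 R B l' = (u * v) * (j1 R B l * j1 R B l') := by rw [huv, one_mul]
      _ = u * j1 R B l * (v * j1 R B l') := by ring
  have h2 := (Algebra.IsEffective.of_faithfullyFlat R B) (l * l')
  apply h2.mp
  rw [Algebra.TensorProduct.includeLeftSubRight_apply, sub_eq_zero]
  exact h1

/-- **Hilbert 90, local form.** -/
theorem exists_local_coboundary [Module.FaithfullyFlat R B] {u v : B ⊗[R] B}
    (hu : IsCocycle u) (huv : u * v = 1) (p : Ideal R) [p.IsPrime] :
    ∃ (r : R) (h l' : B), r ∉ p ∧ u * j1 R B h = j2 R B h ∧ h * l' = algebraMap R B r := by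
  have hvu : v * u = 1 := by rw [mul_comm]; exact huv
  have hv : IsCocycle v := hu.inv huv
  have h1 := span_Ldesc_eq_top hu huv
  have h2 := span_Ldesc_eq_top hv hvu
  by_contra hcon
  push Not at hcon
  -- all products lie in `p B`
  have h3 : Ideal.span (Ldesc R B u : Set B) * Ideal.span (Ldesc R B v : Set B) ≤
      Ideal.map (algebraMap R B) p := by
    rw [Ideal.span_mul_span, Ideal.span_le]
    rintro _ ⟨l, hl, l', hl', rfl⟩
    obtain ⟨r, hr⟩ := mul_mem_range huv hl hl'
    have hrp : r ∈ p := by
      by_contra hrp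
      exact hcon r l l' hrp ((mem_Ldesc R B u l).mp hl) hr.symm
    change l * l' ∈ Ideal.map (algebraMap R B) p
    rw [← hr]
    exact Ideal.mem_map_of_mem _ hrp
  rw [h1, h2, Ideal.mul_top, top_le_iff] at h3
  have h4 := Ideal.comap_map_eq_self_of_faithfullyFlat (B := B) p
  rw [h3, Ideal.comap_top] at h4
  exact (Ideal.IsPrime.ne_top ‹_›) h4.symm

end Groth.Agent.Lib.Helper10.Hilbert90
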