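import Mathlib
import Groth.Prelude.Def_W4c6nonredquotmfGoodQuot
import Groth.Agent.Lib.Helper10.OrbitDim1

/-!
# Good quotients: basic topological properties
-/

set_option autoImplicit false
set_option backward.isDefEq.respectTransparency.types false
set_option maxHeartbeats 4000000
set_option synthInstance.maxHeartbeats 400000
universe u
open CategoryTheory CategoryTheory.Limits AlgebraicGeometry MonoidalCategory
  CartesianMonoidalCategory MonObj GrpObj TopologicalSpace

namespace Groth.Agent.Lib.Helper10.GoodQuot

open Groth.Agent.Lib.Helper10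

section Base

variable {S : Scheme.{u}} {G X Y : Over S} [GrpObj G] {a : AlgGrp.Action G X} {φ : X ⟶ Y}

theorem apply_act (hinv : GIT.IsInvariant a φ) (p : ↥(G ⊗ X).left) :
    φ.left (a.act.left p) = φ.left ((snd G X).left p) := by
  have := congrArg (fun t => t.base p) hinv.left
  simpa only [Scheme.Hom.comp_base, TopCat.comp_app] using this

theorem isInvariantSet_preimage (hinv : GIT.IsInvariant a φ) (T : Set ↥Y.left) :
    NRQuot.IsInvariantSet a (φ.left ⁻¹' T) := by
  intro p hp
  change φ.left (a.act.left p) ∈ T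
  rw [apply_act hinv]
  exact hp

theorem surjective (h : NRQuot.IsGoodQuot a φ) : Function.Surjective φ.left := by
  have := h.inter PEmpty.{u+1} (fun i => i.elim) (fun i => i.elim) (fun i => i.elim)
  rw [Set.iInter_of_empty, Set.iInter_of_empty, Set.image_univ] at this
  exact Set.range_eq_univ.mp this

theorem isQuotientMap (h : NRQuot.IsGoodQuot a φ) : Topology.IsQuotientMap φ.left := by
  rw [Topology.isQuotientMap_iff_isClosed]
  refine ⟨surjective h, fun T => ⟨fun hT => hT.preimage φ.left.continuous, fun hT => ?_⟩⟩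
  have := h.closed _ hT (isInvariantSet_preimage h.inv T)
  rwa [Set.image_preimage_eq _ (surjective h)] at this

/-- two invariant closed subsets have intersecting images iff they intersect. -/
theorem image_inter (h : NRQuot.IsGoodQuot a φ) (W₁ W₂ : Set ↥X.left) (h₁ : IsClosed W₁)
    (h₂ : IsClosed W₂) (i₁ : NRQuot.IsInvariantSet a W₁) (i₂ : NRQuot.IsInvariantSet a W₂) :
    φ.left '' (W₁ ∩ W₂) = φ.left '' W₁ ∩ φ.left '' W₂ := by
  have := h.inter (ULift.{u} Bool) (fun i => if i.down then W₁ else W₂)
    (fun i => by split_ifs <;> assumption)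
    (fun i => by split_ifs <;> assumption)
  have e : ∀ (f : ULift.{u} Bool → Set ↥X.left), (⋂ i, f i) = f ⟨true⟩ ∩ f ⟨false⟩ := by
    intro f
    ext y
    simp only [Set.mem_iInter, Set.mem_inter_iff]
    constructor
    · intro hy
      exact ⟨hy _, hy _⟩
    · rintro ⟨hy1, hy2⟩ ⟨b⟩
      cases b
      · exact hy2
      · exact hy1
  have e' : ∀ (f : ULift.{u} Bool → Set ↥Y.left), (⋂ i, f i) = f ⟨true⟩ ∩ f ⟨false⟩ := by
    intro f
    ext y
    simp only [Set.mem_iInter, Set.mem_inter_iff]
    constructor
    · intro hy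
      exact ⟨hy _, hy _⟩
    · rintro ⟨hy1, hy2⟩ ⟨b⟩
      cases b
      · exact hy2
      · exact hy1
  rw [e, e'] at this
  simpa using this

end Base

end Groth.Agent.Lib.Helper10.GoodQuot
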