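import Mathlib
import Groth.Agent.Lib.Helper10.GoodQuot1
import Groth.Agent.Lib.Helper10.ClosedOrb3

/-!
# Good quotients over an algebraically closed field: orbit closures and closed orbits
-/

set_option autoImplicit false
set_option backward.isDefEq.respectTransparency.types false
set_option maxHeartbeats 4000000
set_option synthInstance.maxHeartbeats 400000
universe u
open CategoryTheory CategoryTheory.Limits AlgebraicGeometry MonoidalCategory
  CartesianMonoidalCategory MonObj GrpObj TopologicalSpace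

namespace Groth.Agent.Lib.Helper10.GoodQuot

open Groth.Agent.Lib.Helper10 Groth.Agent.Lib.Helper10.ClosedOrb
  Groth.Agent.Lib.Helper10.OrbitDim

variable {k : Type u} [Field k] {G X Y : Over (Spec (CommRingCat.of k))} [GrpObj G]
  {a : AlgGrp.Action G X} {φ : X ⟶ Y}
variable (pt : ↥(𝟙_ (Over (Spec (CommRingCat.of k)))).left)

theorem orbitMap_comp (hinv : GIT.IsInvariant a φ)
    (x : 𝟙_ (Over (Spec (CommRingCat.of k))) ⟶ X) :
    a.orbitMap x ≫ φ = toUnit G ≫ x ≫ φ := by
  unfold AlgGrp.Action.orbitMap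
  rw [Category.assoc, hinv, ← Category.assoc, lift_snd, Category.assoc]

theorem toUnit_apply' {T : Over (Spec (CommRingCat.of k))} (t : ↥T.left) :
    (toUnit T).left t = pt := IdComp.pt_eq k pt _

theorem orbit_subset_fibre (hinv : GIT.IsInvariant a φ)
    (x : 𝟙_ (Over (Spec (CommRingCat.of k))) ⟶ X) :
    Set.range (a.orbitMap x).left ⊆ φ.left ⁻¹' {(x ≫ φ).left pt} := by
  rintro _ ⟨g, rfl⟩
  rw [Set.mem_preimage, Set.mem_singleton_iff, ← Scheme.Hom.comp_apply, ← Over.comp_left,
    orbitMap_comp hinv, Over.comp_left, Scheme.Hom.comp_apply, toUnit_apply' pt]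

theorem closure_orbit_subset_fibre (hinv : GIT.IsInvariant a φ)
    (x : 𝟙_ (Over (Spec (CommRingCat.of k))) ⟶ X) :
    closure (Set.range (a.orbitMap x).left) ⊆ φ.left ⁻¹' {(x ≫ φ).left pt} :=
  closure_minimal (orbit_subset_fibre pt hinv x)
    ((isClosed_singleton_kpt (x ≫ φ) pt).preimage φ.left.continuous)

theorem unit_orbit (x : 𝟙_ (Over (Spec (CommRingCat.of k))) ⟶ X) :
    x.left pt ∈ Set.range (a.orbitMap x).left := by
  refine ⟨η[G].left pt, ?_⟩
  have h : η[G] ≫ a.orbitMap x = x := by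
    rw [AlgGrp.Action.comp_orbitMap]
    have hu : toUnit (𝟙_ (Over (Spec (CommRingCat.of k)))) = 𝟙 _ := toUnit_unique _ _
    rw [hu, Category.id_comp]
    have h1 := AlgGrp.Action.lift_one_act a x
    rw [← h1]
    congr 2
  have := congrArg (fun t => t.left pt) h
  simpa only [Over.comp_left, Scheme.Hom.comp_apply] using this

/-- orbit closures meet iff the images in the good quotient agree. -/
theorem closure_inter_iff (h : NRQuot.IsGoodQuot a φ)
    (x₁ x₂ : 𝟙_ (Over (Spec (CommRingCat.of k))) ⟶ X) :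
    (closure (Set.range (a.orbitMap x₁).left) ∩
      closure (Set.range (a.orbitMap x₂).left)).Nonempty ↔ x₁ ≫ φ = x₂ ≫ φ := by
  let pt : ↥(𝟙_ (Over (Spec (CommRingCat.of k)))).left := IsLocalRing.closedPoint k
  constructor
  · rintro ⟨p, hp1, hp2⟩
    apply kpt_ext _ _ pt
    have h1 := closure_orbit_subset_fibre pt h.inv x₁ hp1
    have h2 := closure_orbit_subset_fibre pt h.inv x₂ hp2
    rw [Set.mem_preimage, Set.mem_singleton_iff] at h1 h2
    rw [← h1, ← h2]
  · intro hφ
    have hst₁ : NRQuot.IsInvariantSet a (closure (Set.range (a.orbitMap x₁).left)) :=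
      (stable_range_orbitMap a x₁).closure
    have hst₂ : NRQuot.IsInvariantSet a (closure (Set.range (a.orbitMap x₂).left)) :=
      (stable_range_orbitMap a x₂).closure
    have key := image_inter h _ _ isClosed_closure isClosed_closure hst₁ hst₂
    have hy : (x₁ ≫ φ).left pt ∈ φ.left '' (closure (Set.range (a.orbitMap x₁).left)) ∩
        φ.left '' (closure (Set.range (a.orbitMap x₂).left)) := by
      refine ⟨⟨x₁.left pt, subset_closure (unit_orbit pt x₁), rfl⟩, ?_⟩
      rw [hφ]
      exact ⟨x₂.left pt, subset_closure (unit_orbit pt x₂), rfl⟩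
    rw [← key] at hy
    obtain ⟨p, hp, -⟩ := hy
    exact ⟨p, hp⟩

/-- two rational points with closed orbits and the same image in a good quotient are
translates of each other. -/
theorem exists_act_eq_of_isClosed [IsAlgClosed k] [LocallyOfFiniteType G.hom]
    [LocallyOfFiniteType X.hom] (h : NRQuot.IsGoodQuot a φ)
    (x₁ x₂ : 𝟙_ (Over (Spec (CommRingCat.of k))) ⟶ X)
    (hcl₁ : IsClosed (Set.range (a.orbitMap x₁).left))
    (hcl₂ : IsClosed (Set.range (a.orbitMap x₂).left)) (hφ : x₁ ≫ φ = x₂ ≫ φ) :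
    ∃ g : 𝟙_ (Over (Spec (CommRingCat.of k))) ⟶ G, lift g x₁ ≫ a.act = x₂ := by
  let pt : ↥(𝟙_ (Over (Spec (CommRingCat.of k)))).left := IsLocalRing.closedPoint k
  have hne := (closure_inter_iff h x₁ x₂).mpr hφ
  rw [hcl₁.closure_eq, hcl₂.closure_eq] at hne
  have hsub : Set.range (a.orbitMap x₂).left ⊆ Set.range (a.orbitMap x₁).left :=
    range_orbitMap_subset_of_inter a x₂ (stable_range_orbitMap a x₁) hne
  haveI : LocallyOfFiniteType (a.orbitMap x₁).left := by
    haveI : LocallyOfFiniteType ((a.orbitMap x₁).left ≫ X.hom) := by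
      rw [Over.w (a.orbitMap x₁)]; infer_instance
    exact locallyOfFiniteType_of_comp (a.orbitMap x₁).left X.hom
  obtain ⟨g, hg⟩ := OrbConn.exists_lift_point_of_mem (a.orbitMap x₁) x₂ (fun q => by
    rw [IdComp.pt_eq k pt q]
    exact hsub (unit_orbit pt x₂))
  refine ⟨g, ?_⟩
  rw [← hg, AlgGrp.Action.comp_orbitMap]
  have hu : toUnit (𝟙_ (Over (Spec (CommRingCat.of k)))) = 𝟙 _ := toUnit_unique _ _
  rw [hu, Category.id_comp]

/-- every fibre of a good quotient over a rational point contains a closed orbit. -/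
theorem exists_closed_orbit_over [IsAlgClosed k] [LocallyOfFiniteType G.hom] [QuasiCompact G.hom]
    [LocallyOfFiniteType X.hom] (h : NRQuot.IsGoodQuot a φ)
    (y : 𝟙_ (Over (Spec (CommRingCat.of k))) ⟶ Y) :
    ∃ x : 𝟙_ (Over (Spec (CommRingCat.of k))) ⟶ X, x ≫ φ = y ∧
      IsClosed (Set.range (a.orbitMap x).left) := by
  let pt : ↥(𝟙_ (Over (Spec (CommRingCat.of k)))).left := IsLocalRing.closedPoint k
  set Z₀ : Set ↥X.left := φ.left ⁻¹' {y.left pt} with hZ₀
  have hZ₀cl : IsClosed Z₀ := (isClosed_singleton_kpt y pt).preimage φ.left.continuous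
  have hZ₀st : Stable a Z₀ := isInvariantSet_preimage h.inv _
  have hZ₀ne : Z₀.Nonempty := by
    obtain ⟨p, hp⟩ := surjective h (y.left pt)
    exact ⟨p, hp⟩
  haveI : IsLocallyNoetherian X.left := LocallyOfFiniteType.isLocallyNoetherian X.hom
  haveI : NoetherianSpace ↥Z₀ := by
    obtain ⟨_, ⟨V, hV, rfl⟩, hyV, -⟩ := Y.left.isBasis_affineOpens.exists_subset_of_mem_open
      (Set.mem_univ (y.left pt)) isOpen_univ
    haveI := h.affine
    have hU : IsAffineOpen (φ.left ⁻¹ᵁ V) := hV.preimage φ.left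
    haveI : IsNoetherianRing Γ(X.left, φ.left ⁻¹ᵁ V) :=
      IsLocallyNoetherian.component_noetherian ⟨_, hU⟩
    haveI : NoetherianSpace ↥(φ.left ⁻¹ᵁ V) := noetherianSpace_of_isAffineOpen _ hU
    rw [noetherianSpace_set_iff]
    intro t ht
    have htU : t ⊆ ((φ.left ⁻¹ᵁ V : X.left.Opens) : Set ↥X.left) := by
      intro z hz
      have : φ.left z = y.left pt := ht hz
      change φ.left z ∈ V
      rw [this]
      exact hyV
    have h1 : IsCompact ((Subtype.val : ↥(φ.left ⁻¹ᵁ V) → ↥X.left) ⁻¹' t) :=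
      NoetherianSpace.isCompact _
    have h2 := h1.image continuous_subtype_val
    rw [Set.image_preimage_eq_inter_range, Subtype.range_coe_subtype] at h2
    have h3 : t ∩ {z | z ∈ (φ.left ⁻¹ᵁ V : X.left.Opens)} = t := Set.inter_eq_left.mpr htU
    rwa [h3] at h2
  obtain ⟨x, hx, hxcl⟩ := exists_closed_orbit_subset a Z₀ hZ₀cl hZ₀st hZ₀ne
  refine ⟨x, kpt_ext _ _ pt (hx pt), hxcl⟩

end Groth.Agent.Lib.Helper10.GoodQuot
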