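import Mathlib

/-!
# Closed conditions on points of the Grassmannian functor: the commutative algebra
-/

set_option autoImplicit false
set_option linter.unusedSectionVars false
set_option linter.style.haveILetI false
set_option backward.isDefEq.respectTransparency.types false
set_option maxHeartbeats 4000000
set_option synthInstance.maxHeartbeats 400000
universe u
open TensorProduct Module

namespace Groth.Agent.Lib.Helper10.GrassCond

section Proj

variable {A : Type u} [CommRing A] {Q : Type u} [AddCommGroup Q] [Module A Q]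
  (B : Type u) [CommRing B] [Algebra A B]

/-- an element of a projective module dies after base change iff all its coordinates do. -/
theorem one_tmul_eq_zero_iff [Module.Projective A Q] (q : Q) :
    (1 : B) ⊗ₜ[A] q = 0 ↔ ∀ φ : Q →ₗ[A] A, algebraMap A B (φ q) = 0 := by
  constructor
  · intro h φ
    have h1 : (TensorProduct.rid A B) (LinearMap.lTensor B φ ((1 : B) ⊗ₜ[A] q)) = 0 := by
      rw [h, map_zero, map_zero]
    rw [LinearMap.lTensor_tmul, TensorProduct.rid_tmul] at h1
    rw [Algebra.algebraMap_eq_smul_one]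
    exact h1
  · intro h
    obtain ⟨s, hs⟩ := Module.projective_def'.mp (inferInstance : Module.Projective A Q)
    have hq : q = ∑ p ∈ (s q).support, (s q) p • p := by
      have := congrArg (fun f => f q) hs
      simp only [LinearMap.comp_apply, LinearMap.id_apply] at this
      rw [Finsupp.linearCombination_apply] at this
      exact this.symm
    rw [hq, TensorProduct.tmul_sum]
    refine Finset.sum_eq_zero (fun p _ => ?_)
    have h2 := h (Finsupp.lapply p ∘ₗ s)
    rw [LinearMap.comp_apply, Finsupp.lapply_apply] at h2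
    rw [← TensorProduct.smul_tmul, Algebra.smul_def, mul_one, h2, TensorProduct.zero_tmul]

/-- the ideal of coordinates of a set of elements. -/
def coordIdeal (S : Set Q) : Ideal A :=
  Ideal.span {a | ∃ q ∈ S, ∃ φ : Q →ₗ[A] A, a = φ q}

theorem coordIdeal_le_ker_iff [Module.Projective A Q] (S : Set Q) :
    coordIdeal S ≤ RingHom.ker (algebraMap A B) ↔ ∀ q ∈ S, (1 : B) ⊗ₜ[A] q = 0 := by
  rw [coordIdeal, Ideal.span_le]
  constructor
  · intro h q hq
    rw [one_tmul_eq_zero_iff]
    intro φ
    exact h ⟨q, hq, φ, rfl⟩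
  · rintro h _ ⟨q, hq, φ, rfl⟩
    exact (one_tmul_eq_zero_iff B q).mp (h q hq) φ

end Proj

section BC

variable {R : Type u} [CommRing R] {M : Type u} [AddCommGroup M] [Module R M]
  {A : Type u} [CommRing A] [Algebra R A] (B : Type u) [CommRing B] [Algebra R B]
  [Algebra A B] [IsScalarTower R A B] (N : Submodule A (A ⊗[R] M))

/-- the base change map on tensor products. -/
noncomputable def ιB : A ⊗[R] M →ₗ[A] B ⊗[R] M :=
  TensorProduct.AlgebraTensorModule.map (Algebra.linearMap A B) (LinearMap.id : M →ₗ[R] M)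

lemma ιB_tmul (a : A) (m : M) : ιB (R := R) (M := M) B (a ⊗ₜ m) = algebraMap A B a ⊗ₜ m := rfl

lemma cancelBaseChange_tmul' (b : B) (x : A ⊗[R] M) :
    TensorProduct.AlgebraTensorModule.cancelBaseChange R A B B M (b ⊗ₜ x) = b • ιB B x := by
  induction x using TensorProduct.induction_on with
  | zero => simp
  | tmul a m =>
    rw [TensorProduct.AlgebraTensorModule.cancelBaseChange_tmul, ιB_tmul, TensorProduct.smul_tmul',
      Algebra.smul_def, smul_eq_mul, mul_comm]
  | add x y hx hy => rw [TensorProduct.tmul_add, map_add, hx, hy, map_add, smul_add]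

lemma baseChangeMkQ_ιB (x : A ⊗[R] M) :
    Module.Grassmannian.baseChangeMkQ B N (ιB B x) = (1 : B) ⊗ₜ[A] N.mkQ x := by
  induction x using TensorProduct.induction_on with
  | zero => simp
  | tmul a m =>
    rw [ιB_tmul, Module.Grassmannian.baseChangeMkQ, LinearMap.comp_apply, LinearEquiv.coe_coe,
      TensorProduct.AlgebraTensorModule.cancelBaseChange_symm_tmul, LinearMap.baseChange_tmul]
    have h1 : (a ⊗ₜ[R] m : A ⊗[R] M) = a • ((1 : A) ⊗ₜ[R] m) := by
      rw [TensorProduct.smul_tmul', smul_eq_mul, mul_one]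
    rw [h1, map_smul, TensorProduct.tmul_smul, TensorProduct.smul_tmul', Algebra.smul_def,
      mul_one]
  | add x y hx hy => rw [map_add, map_add, hx, hy, map_add, TensorProduct.tmul_add]

lemma baseChange_ιB (θ : M →ₗ[R] M) (x : A ⊗[R] M) :
    θ.baseChange B (ιB B x) = ιB B (θ.baseChange A x) := by
  induction x using TensorProduct.induction_on with
  | zero => simp
  | tmul a m => rfl
  | add x y hx hy => rw [map_add, map_add, hx, hy, map_add, map_add]

theorem ker_baseChangeMkQ :
    LinearMap.ker (Module.Grassmannian.baseChangeMkQ B N) =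
      Submodule.span B (ιB B '' (N : Set (A ⊗[R] M))) := by
  apply le_antisymm
  · intro y hy
    rw [LinearMap.mem_ker, Module.Grassmannian.baseChangeMkQ, LinearMap.comp_apply] at hy
    have h1 : (TensorProduct.AlgebraTensorModule.cancelBaseChange R A B B M).symm y ∈
        LinearMap.ker (LinearMap.lTensor B N.mkQ) := by
      rw [LinearMap.mem_ker]
      have := hy
      rw [LinearEquiv.coe_coe] at this
      rw [← LinearMap.baseChange_eq_ltensor]
      exact this
    rw [lTensor_mkQ] at h1
    obtain ⟨z, hz⟩ := h1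
    have h2 : y = TensorProduct.AlgebraTensorModule.cancelBaseChange R A B B M
        (LinearMap.lTensor B N.subtype z) := by
      rw [hz, LinearEquiv.apply_symm_apply]
    rw [h2]
    have key : ∀ z : B ⊗[A] N, TensorProduct.AlgebraTensorModule.cancelBaseChange R A B B M
        (LinearMap.lTensor B N.subtype z) ∈ Submodule.span B (ιB B '' (N : Set (A ⊗[R] M))) := by
      intro z
      induction z using TensorProduct.induction_on with
      | zero =>
        rw [map_zero, map_zero]
        exact Submodule.zero_mem _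
      | tmul b n =>
        rw [LinearMap.lTensor_tmul, Submodule.subtype_apply, cancelBaseChange_tmul']
        exact Submodule.smul_mem _ _ (Submodule.subset_span ⟨n.1, n.2, rfl⟩)
      | add z w hz hw =>
        rw [map_add, map_add]
        exact Submodule.add_mem _ hz hw
    exact key z
  · rw [Submodule.span_le]
    rintro _ ⟨x, hx, rfl⟩
    rw [SetLike.mem_coe, LinearMap.mem_ker, baseChangeMkQ_ιB]
    have : N.mkQ x = 0 := (Submodule.Quotient.mk_eq_zero N).mpr hx
    rw [this, TensorProduct.tmul_zero]

end BC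


section Cond

variable {R : Type u} [CommRing R] {M : Type u} [AddCommGroup M] [Module R M]
  {A : Type u} [CommRing A] [Algebra R A] (B : Type u) [CommRing B] [Algebra R B]
  [Algebra A B] [IsScalarTower R A B] (N : Submodule A (A ⊗[R] M))
  {Λ : Type u} (θ : Λ → (M →ₗ[R] M))

/-- the obstruction elements for stability under the endomorphisms `θ`. -/
def stabSet : Set ((A ⊗[R] M) ⧸ N) := {q | ∃ l, ∃ x ∈ N, q = N.mkQ ((θ l).baseChange A x)}

theorem stable_iff [Module.Projective A ((A ⊗[R] M) ⧸ N)] :
    (∀ (l : Λ) (y : B ⊗[R] M), y ∈ LinearMap.ker (Module.Grassmannian.baseChangeMkQ B N) →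
      (θ l).baseChange B y ∈ LinearMap.ker (Module.Grassmannian.baseChangeMkQ B N)) ↔
      coordIdeal (stabSet N θ) ≤ RingHom.ker (algebraMap A B) := by
  rw [coordIdeal_le_ker_iff]
  constructor
  · rintro h _ ⟨l, x, hx, rfl⟩
    have h1 : ιB B x ∈ LinearMap.ker (Module.Grassmannian.baseChangeMkQ B N) := by
      rw [ker_baseChangeMkQ]
      exact Submodule.subset_span ⟨x, hx, rfl⟩
    have h2 := h l _ h1
    rw [LinearMap.mem_ker, baseChange_ιB, baseChangeMkQ_ιB] at h2
    exact h2
  · intro h l
    have h3 : LinearMap.ker (Module.Grassmannian.baseChangeMkQ B N) ≤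
        LinearMap.ker (Module.Grassmannian.baseChangeMkQ B N ∘ₗ (θ l).baseChange B) := by
      rw [ker_baseChangeMkQ, Submodule.span_le]
      rintro _ ⟨x, hx, rfl⟩
      rw [SetLike.mem_coe, LinearMap.mem_ker, LinearMap.comp_apply, baseChange_ιB,
        baseChangeMkQ_ιB]
      exact h _ ⟨l, x, hx, rfl⟩
    intro y hy
    have h4 := h3 hy
    rw [LinearMap.mem_ker, LinearMap.comp_apply] at h4
    exact LinearMap.mem_ker.mpr h4

/-- the obstruction elements for containing the elements of `K`. -/
def inSet (K : Set M) : Set ((A ⊗[R] M) ⧸ N) := {q | ∃ m ∈ K, q = N.mkQ ((1 : A) ⊗ₜ m)}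

theorem contains_iff [Module.Projective A ((A ⊗[R] M) ⧸ N)] (K : Set M) :
    (∀ m ∈ K, (1 : B) ⊗ₜ[R] m ∈ LinearMap.ker (Module.Grassmannian.baseChangeMkQ B N)) ↔
      coordIdeal (inSet N K) ≤ RingHom.ker (algebraMap A B) := by
  rw [coordIdeal_le_ker_iff]
  have key : ∀ m : M, Module.Grassmannian.baseChangeMkQ B N ((1 : B) ⊗ₜ[R] m) =
      (1 : B) ⊗ₜ[A] N.mkQ ((1 : A) ⊗ₜ m) := by
    intro m
    have h1 : (1 : B) ⊗ₜ[R] m = ιB B ((1 : A) ⊗ₜ[R] m) := by rw [ιB_tmul, map_one]
    rw [h1, baseChangeMkQ_ιB]
  constructor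
  · rintro h _ ⟨m, hm, rfl⟩
    rw [← key]
    exact h m hm
  · intro h m hm
    rw [LinearMap.mem_ker, key]
    exact h _ ⟨m, hm, rfl⟩

end Cond

section Functor

open CategoryTheory

variable (R : Type u) [CommRing R] (M : Type u) [AddCommGroup M] [Module R M] (k : ℕ)

theorem hCond_stable {Λ : Type u} (θ : Λ → (M →ₗ[R] M)) (A : CommAlgCat.{u} R)
    (N : (Module.Grassmannian.functor (R := R) (M := M) k).obj A) :
    ∃ J : Ideal A, ∀ (C : CommAlgCat.{u} R) (φ : A ⟶ C),
      (∀ (l : Λ) (y : C ⊗[R] M),
        y ∈ ((Module.Grassmannian.functor (R := R) (M := M) k).map φ N).toSubmodule →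
        (θ l).baseChange C y ∈
          ((Module.Grassmannian.functor (R := R) (M := M) k).map φ N).toSubmodule) ↔
      J ≤ RingHom.ker φ.hom.toRingHom := by
  refine ⟨coordIdeal (stabSet N.toSubmodule θ), fun C φ => ?_⟩
  letI : Algebra A C := φ.hom.toAlgebra
  letI : IsScalarTower R A C :=
    IsScalarTower.of_algebraMap_eq' <| IsScalarTower.algebraMap_eq R A C
  have h1 : ((Module.Grassmannian.functor (R := R) (M := M) k).map φ N).toSubmodule =
      LinearMap.ker (Module.Grassmannian.baseChangeMkQ C N.toSubmodule) :=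
    Module.Grassmannian.map_toSubmodule φ.hom N
  rw [h1]
  exact stable_iff C N.toSubmodule θ

theorem hCond_contains (K : Set M) (A : CommAlgCat.{u} R)
    (N : (Module.Grassmannian.functor (R := R) (M := M) k).obj A) :
    ∃ J : Ideal A, ∀ (C : CommAlgCat.{u} R) (φ : A ⟶ C),
      (∀ m ∈ K, (1 : C) ⊗ₜ[R] m ∈
        ((Module.Grassmannian.functor (R := R) (M := M) k).map φ N).toSubmodule) ↔
      J ≤ RingHom.ker φ.hom.toRingHom := by
  refine ⟨coordIdeal (inSet N.toSubmodule K), fun C φ => ?_⟩
  letI : Algebra A C := φ.hom.toAlgebra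
  letI : IsScalarTower R A C :=
    IsScalarTower.of_algebraMap_eq' <| IsScalarTower.algebraMap_eq R A C
  have h1 : ((Module.Grassmannian.functor (R := R) (M := M) k).map φ N).toSubmodule =
      LinearMap.ker (Module.Grassmannian.baseChangeMkQ C N.toSubmodule) :=
    Module.Grassmannian.map_toSubmodule φ.hom N
  rw [h1]
  exact contains_iff C N.toSubmodule K

end Functor

end Groth.Agent.Lib.Helper10.GrassCond
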