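import Mathlib
import Groth.Agent.Lib.Helper10.GrassCond

/-!
# Pulling back points of the Grassmannian along a surjection of modules
-/

set_option autoImplicit false
set_option linter.unusedSectionVars false
set_option linter.style.haveILetI false
set_option backward.isDefEq.respectTransparency.types false
set_option maxHeartbeats 4000000
set_option synthInstance.maxHeartbeats 400000
universe u
open TensorProduct Module

namespace Groth.Agent.Lib.Helper10.GrassComap

variable {R : Type u} [CommRing R] {M₁ M₂ : Type u} [AddCommGroup M₁] [Module R M₁]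
  [AddCommGroup M₂] [Module R M₂] (v : M₁ →ₗ[R] M₂) (hv : Function.Surjective v)

section Alg

variable (A : Type u) [CommRing A] [Algebra R A]

include hv in
lemma baseChange_surj : Function.Surjective (v.baseChange A) :=
  LinearMap.baseChange_surjective A hv

include hv in
/-- the quotient by the preimage is the quotient. -/
noncomputable def comapEquiv (N₂ : Submodule A (A ⊗[R] M₂)) :
    ((A ⊗[R] M₁) ⧸ N₂.comap (v.baseChange A)) ≃ₗ[A] ((A ⊗[R] M₂) ⧸ N₂) :=
  (Submodule.quotEquivOfEq _ _ (by rw [LinearMap.ker_comp, Submodule.ker_mkQ])).trans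
    ((N₂.mkQ ∘ₗ v.baseChange A).quotKerEquivOfSurjective
      ((Submodule.mkQ_surjective _).comp (baseChange_surj v hv A)))

lemma comapEquiv_mk (N₂ : Submodule A (A ⊗[R] M₂)) (x : A ⊗[R] M₁) :
    comapEquiv v hv A N₂ (Submodule.Quotient.mk x) = Submodule.Quotient.mk (v.baseChange A x) :=
  rfl

variable {A} in
/-- the preimage of a point of the Grassmannian. -/
noncomputable def comapG {k : ℕ} (N₂ : Module.Grassmannian A (A ⊗[R] M₂) k) :
    Module.Grassmannian A (A ⊗[R] M₁) k where
  toSubmodule := N₂.toSubmodule.comap (v.baseChange A)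
  finite_quotient := Module.Finite.equiv (comapEquiv v hv A N₂.toSubmodule).symm
  projective_quotient := Module.Projective.of_equiv (comapEquiv v hv A N₂.toSubmodule).symm
  rankAtStalk_eq p := by
    have h := congrArg (fun g => g p)
      (Module.rankAtStalk_eq_of_equiv (comapEquiv v hv A N₂.toSubmodule))
    exact h.trans (N₂.rankAtStalk_eq p)

variable {A} in
lemma comapG_toSubmodule {k : ℕ} (N₂ : Module.Grassmannian A (A ⊗[R] M₂) k) :
    (comapG v hv N₂).toSubmodule = N₂.toSubmodule.comap (v.baseChange A) := rfl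

variable {A} in
include hv in
lemma comapG_injective {k : ℕ} : Function.Injective (comapG (A := A) (k := k) v hv) := by
  intro N N' h
  apply Module.Grassmannian.ext
  have h1 := congrArg Module.Grassmannian.toSubmodule h
  rw [comapG_toSubmodule, comapG_toSubmodule] at h1
  exact Submodule.comap_injective_of_surjective (baseChange_surj v hv A) h1

include hv in
/-- the kernel of the base change is generated by the kernel. -/
lemma ker_baseChange_le (N₁ : Submodule A (A ⊗[R] M₁))
    (h : ∀ m ∈ LinearMap.ker v, (1 : A) ⊗ₜ[R] m ∈ N₁) :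
    LinearMap.ker (v.baseChange A) ≤ N₁ := by
  have key : ∀ z : A ⊗[R] LinearMap.ker v,
      LinearMap.lTensor A (LinearMap.ker v).subtype z ∈ N₁ := by
    intro z
    induction z using TensorProduct.induction_on with
    | zero => rw [map_zero]; exact Submodule.zero_mem _
    | tmul a m =>
      rw [LinearMap.lTensor_tmul, Submodule.subtype_apply]
      have h1 : (a ⊗ₜ[R] (m : M₁) : A ⊗[R] M₁) = a • ((1 : A) ⊗ₜ[R] (m : M₁)) := by
        rw [TensorProduct.smul_tmul', smul_eq_mul, mul_one]
      rw [h1]
      exact Submodule.smul_mem _ _ (h m.1 m.2)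
    | add z w hz hw =>
      rw [map_add]
      exact Submodule.add_mem _ hz hw
  intro x hx
  have hex := lTensor_exact A v.exact_subtype_ker_map hv
  have hx' : LinearMap.lTensor A v x = 0 := by
    have := LinearMap.mem_ker.mp hx
    rwa [LinearMap.baseChange_eq_ltensor] at this
  obtain ⟨z, rfl⟩ := (hex x).mp hx'
  exact key z

include hv in
/-- a point containing the kernel is a preimage. -/
theorem exists_comapG_eq {k : ℕ} (N₁ : Module.Grassmannian A (A ⊗[R] M₁) k)
    (h : ∀ m ∈ LinearMap.ker v, (1 : A) ⊗ₜ[R] m ∈ N₁.toSubmodule) :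
    ∃ N₂ : Module.Grassmannian A (A ⊗[R] M₂) k, comapG v hv N₂ = N₁ := by
  have hle := ker_baseChange_le v hv A N₁.toSubmodule h
  have hcm : (N₁.toSubmodule.map (v.baseChange A)).comap (v.baseChange A) = N₁.toSubmodule := by
    rw [Submodule.comap_map_eq, sup_eq_left.mpr hle]
  let E : ((A ⊗[R] M₂) ⧸ N₁.toSubmodule.map (v.baseChange A)) ≃ₗ[A]
      ((A ⊗[R] M₁) ⧸ N₁.toSubmodule) :=
    (comapEquiv v hv A (N₁.toSubmodule.map (v.baseChange A))).symm.trans
      (Submodule.quotEquivOfEq _ _ hcm)
  refine ⟨{ toSubmodule := N₁.toSubmodule.map (v.baseChange A)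
            finite_quotient := Module.Finite.equiv E.symm
            projective_quotient := Module.Projective.of_equiv E.symm
            rankAtStalk_eq := fun p => ?_ }, ?_⟩
  · have h1 := congrArg (fun g => g p) (Module.rankAtStalk_eq_of_equiv E)
    exact h1.trans (N₁.rankAtStalk_eq p)
  · apply Module.Grassmannian.ext
    exact hcm

variable {A} in
lemma one_tmul_mem_comapG {k : ℕ} (N₂ : Module.Grassmannian A (A ⊗[R] M₂) k) (m : M₁)
    (hm : m ∈ LinearMap.ker v) : (1 : A) ⊗ₜ[R] m ∈ (comapG v hv N₂).toSubmodule := by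
  rw [comapG_toSubmodule, Submodule.mem_comap, LinearMap.baseChange_tmul,
    LinearMap.mem_ker.mp hm, TensorProduct.tmul_zero]
  exact Submodule.zero_mem _

end Alg

section Nat

variable {A : Type u} [CommRing A] [Algebra R A] (C : Type u) [CommRing C] [Algebra R C]
  [Algebra A C] [IsScalarTower R A C] (N₂ : Submodule A (A ⊗[R] M₂))

lemma baseChangeMkQ_tmul {M : Type u} [AddCommGroup M] [Module R M] (N : Submodule A (A ⊗[R] M))
    (c : C) (m : M) :
    Module.Grassmannian.baseChangeMkQ C N (c ⊗ₜ[R] m) = c ⊗ₜ[A] N.mkQ ((1 : A) ⊗ₜ[R] m) := by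
  rw [Module.Grassmannian.baseChangeMkQ, LinearMap.comp_apply, LinearEquiv.coe_coe,
    TensorProduct.AlgebraTensorModule.cancelBaseChange_symm_tmul, LinearMap.baseChange_tmul]

lemma square (y : C ⊗[R] M₁) :
    (comapEquiv v hv A N₂).baseChange A C _ _
      (Module.Grassmannian.baseChangeMkQ C (N₂.comap (v.baseChange A)) y) =
      Module.Grassmannian.baseChangeMkQ C N₂ (v.baseChange C y) := by
  induction y using TensorProduct.induction_on with
  | zero => simp
  | tmul c m =>
    rw [baseChangeMkQ_tmul, LinearEquiv.baseChange_tmul, LinearMap.baseChange_tmul,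
      baseChangeMkQ_tmul, Submodule.mkQ_apply, comapEquiv_mk, LinearMap.baseChange_tmul]
    rfl
  | add y z hy hz => rw [map_add, map_add, hy, hz, map_add, map_add]

include hv in
theorem ker_baseChangeMkQ_comap :
    LinearMap.ker (Module.Grassmannian.baseChangeMkQ C (N₂.comap (v.baseChange A))) =
      (LinearMap.ker (Module.Grassmannian.baseChangeMkQ C N₂)).comap (v.baseChange C) := by
  ext y
  rw [Submodule.mem_comap, LinearMap.mem_ker, LinearMap.mem_ker, ← square v hv C N₂ y]
  exact ((comapEquiv v hv A N₂).baseChange A C _ _).map_eq_zero_iff.symm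

end Nat

section Functor

open CategoryTheory

theorem comapG_map (k : ℕ) (A C : CommAlgCat.{u} R) (φ : A ⟶ C)
    (N₂ : (Module.Grassmannian.functor (R := R) (M := M₂) k).obj A) :
    comapG v hv ((Module.Grassmannian.functor (R := R) (M := M₂) k).map φ N₂) =
      (Module.Grassmannian.functor (R := R) (M := M₁) k).map φ (comapG v hv N₂) := by
  letI : Algebra A C := φ.hom.toAlgebra
  letI : IsScalarTower R A C :=
    IsScalarTower.of_algebraMap_eq' <| IsScalarTower.algebraMap_eq R A C
  apply Module.Grassmannian.ext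
  have h1 : ((Module.Grassmannian.functor (R := R) (M := M₂) k).map φ N₂).toSubmodule =
      LinearMap.ker (Module.Grassmannian.baseChangeMkQ C N₂.toSubmodule) :=
    Module.Grassmannian.map_toSubmodule φ.hom N₂
  have h2 : ((Module.Grassmannian.functor (R := R) (M := M₁) k).map φ
      (comapG v hv N₂)).toSubmodule =
      LinearMap.ker (Module.Grassmannian.baseChangeMkQ C (comapG v hv N₂).toSubmodule) :=
    Module.Grassmannian.map_toSubmodule φ.hom (comapG v hv N₂)
  rw [comapG_toSubmodule, h1, h2, comapG_toSubmodule]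
  exact (ker_baseChangeMkQ_comap v hv C N₂.toSubmodule).symm

end Functor

end Groth.Agent.Lib.Helper10.GrassComap
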