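import Mathlib

/-!
# Module theory for the Hilbert scheme of points: spreading out bases from a field-valued point
-/

set_option autoImplicit false
set_option linter.unusedSectionVars false
set_option linter.style.haveILetI false
set_option backward.isDefEq.respectTransparency.types false
set_option maxHeartbeats 4000000
set_option synthInstance.maxHeartbeats 400000
universe u
open TensorProduct Function

namespace Groth.Agent.Lib.Helper10.HilbRing

variable {C : Type u} [CommRing C]

/-- a finite module whose base change to a field vanishes is killed by an element which is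
nonzero in the field. -/
theorem exists_mem_annihilator_of_subsingleton_tensor (N : Type u) [AddCommGroup N] [Module C N]
    [Module.Finite C N] (K : Type u) [Field K] [Algebra C K] [hsub : Subsingleton (K ⊗[C] N)] :
    ∃ g ∈ Module.annihilator C N, algebraMap C K g ≠ 0 := by
  by_contra hcon
  push_neg at hcon
  let q : Ideal C := RingHom.ker (algebraMap C K)
  haveI hq : q.IsPrime := RingHom.ker_isPrime _
  let p : PrimeSpectrum C := ⟨q, hq⟩
  have hp : p ∈ Module.support C N :=
    Module.mem_support_iff_of_finite.mpr (fun g hg => (RingHom.mem_ker).mpr (hcon g hg))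
  have hnt : Nontrivial (q.ResidueField ⊗[C] N) :=
    (Module.mem_support_iff_nontrivial_residueField_tensorProduct p).mp hp
  let l : q.ResidueField →ₐ[C] K := Ideal.ResidueField.liftₐ q (Algebra.ofId C K) (le_of_eq rfl)
    (by
      intro x hx
      change IsUnit (algebraMap C K x)
      exact IsUnit.mk0 _ (fun h => hx ((RingHom.mem_ker).mpr h)))
  letI : Algebra q.ResidueField K := l.toRingHom.toAlgebra
  haveI : IsScalarTower C q.ResidueField K := IsScalarTower.of_algebraMap_eq' (by
    ext c
    exact (l.commutes c).symm)
  let e := AlgebraTensorModule.cancelBaseChange C q.ResidueField K K N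
  haveI : Nontrivial (K ⊗[q.ResidueField] (q.ResidueField ⊗[C] N)) :=
    (Module.FaithfullyFlat.nontrivial_tensorProduct_iff_right q.ResidueField K).mpr hnt
  haveI : Subsingleton (K ⊗[q.ResidueField] (q.ResidueField ⊗[C] N)) :=
    e.toEquiv.subsingleton
  exact not_subsingleton (K ⊗[q.ResidueField] (q.ResidueField ⊗[C] N)) inferInstance

variable {M B : Type u} [AddCommGroup M] [Module C M] [AddCommGroup B] [Module C B]

theorem subsingleton_tensor_coker (φ : M →ₗ[C] B) (K : Type u) [CommRing K] [Algebra C K]
    (h : Surjective (φ.baseChange K)) : Subsingleton (K ⊗[C] (B ⧸ LinearMap.range φ)) := by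
  have h0 : (LinearMap.range φ).mkQ ∘ₗ φ = 0 := LinearMap.range_mkQ_comp φ
  have hs : Surjective ((LinearMap.range φ).mkQ.baseChange K) := by
    rw [LinearMap.baseChange_eq_ltensor]
    exact LinearMap.lTensor_surjective K (Submodule.mkQ_surjective _)
  have key : ∀ z : K ⊗[C] (B ⧸ LinearMap.range φ), z = 0 := by
    intro z
    obtain ⟨y, rfl⟩ := hs z
    obtain ⟨x, rfl⟩ := h y
    rw [← LinearMap.comp_apply, ← LinearMap.baseChange_comp, h0, LinearMap.baseChange_zero,
      LinearMap.zero_apply]
  exact ⟨fun a b => by rw [key a, key b]⟩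

/-- transfer of bijectivity from an almost inverse. -/
theorem bijective_baseChange_of_almost_inverse (φ : M →ₗ[C] B) (ψ : B →ₗ[C] M) (g : C)
    (h1 : φ ∘ₗ ψ = g • LinearMap.id) (h2 : ψ ∘ₗ φ = g • LinearMap.id) (C' : Type u) [CommRing C']
    [Algebra C C'] (hg : IsUnit (algebraMap C C' g)) : Bijective (φ.baseChange C') := by
  obtain ⟨u, hu⟩ := hg
  have e1 : ∀ z, φ.baseChange C' (ψ.baseChange C' z) = (u : C') • z := by
    intro z
    have := congrArg (LinearMap.baseChange C') h1
    rw [LinearMap.baseChange_comp, LinearMap.baseChange_smul, LinearMap.baseChange_id] at this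
    have h3 := LinearMap.congr_fun this z
    rw [LinearMap.comp_apply, LinearMap.smul_apply, LinearMap.id_apply] at h3
    rw [h3, hu, algebraMap_smul]
  have e2 : ∀ z, ψ.baseChange C' (φ.baseChange C' z) = (u : C') • z := by
    intro z
    have := congrArg (LinearMap.baseChange C') h2
    rw [LinearMap.baseChange_comp, LinearMap.baseChange_smul, LinearMap.baseChange_id] at this
    have h3 := LinearMap.congr_fun this z
    rw [LinearMap.comp_apply, LinearMap.smul_apply, LinearMap.id_apply] at h3
    rw [h3, hu, algebraMap_smul]
  rw [Function.bijective_iff_has_inverse]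
  refine ⟨fun z => ((u⁻¹ : C'ˣ) : C') • ψ.baseChange C' z, fun z => ?_, fun z => ?_⟩
  · change ((u⁻¹ : C'ˣ) : C') • ψ.baseChange C' (φ.baseChange C' z) = z
    rw [e2, smul_smul, Units.inv_mul, one_smul]
  · change φ.baseChange C' (((u⁻¹ : C'ˣ) : C') • ψ.baseChange C' z) = z
    rw [map_smul, e1, smul_smul, Units.inv_mul, one_smul]

/-- bijectivity is preserved by further base change. -/
theorem bijective_baseChange_of_tower (φ : M →ₗ[C] B) (C' K : Type u) [CommRing C'] [CommRing K]
    [Algebra C C'] [Algebra C' K] [Algebra C K] [IsScalarTower C C' K]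
    (h : Bijective (φ.baseChange C')) : Bijective (φ.baseChange K) := by
  let eM := AlgebraTensorModule.cancelBaseChange C C' K K M
  let eB := AlgebraTensorModule.cancelBaseChange C C' K K B
  let E : (C' ⊗[C] M) ≃ₗ[C'] (C' ⊗[C] B) := LinearEquiv.ofBijective _ h
  have key : φ.baseChange K ∘ₗ eM.toLinearMap =
      eB.toLinearMap ∘ₗ (E.toLinearMap.baseChange K) := by
    apply TensorProduct.AlgebraTensorModule.ext
    intro k y
    induction y using TensorProduct.induction_on with
    | zero => simp
    | tmul c' x =>
      simp only [LinearMap.coe_comp, LinearEquiv.coe_coe, Function.comp_apply, eM, eB,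
        AlgebraTensorModule.cancelBaseChange_tmul, LinearMap.baseChange_tmul]
      change _ = (AlgebraTensorModule.cancelBaseChange C C' K K B) (k ⊗ₜ[C'] (φ.baseChange C' (c' ⊗ₜ x)))
      rw [LinearMap.baseChange_tmul, AlgebraTensorModule.cancelBaseChange_tmul]
    | add a b ha hb =>
      rw [TensorProduct.tmul_add, map_add, map_add, ha, hb]
  have hb : Bijective (E.toLinearMap.baseChange K) :=
    (E.baseChange C' K _ _).bijective
  have h3 : (φ.baseChange K : K ⊗[C] M → K ⊗[C] B) =
      eB ∘ (E.toLinearMap.baseChange K) ∘ eM.symm := by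
    ext z
    have := LinearMap.congr_fun key (eM.symm z)
    simpa using this
  rw [h3]
  exact eB.bijective.comp (hb.comp eM.symm.bijective)

end Groth.Agent.Lib.Helper10.HilbRing
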