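import Mathlib
import Groth.Agent.Lib.Helper10.HilbRing4
import Groth.Agent.Lib.Helper10.GrassComap

/-!
# Charts of the Grassmannian: the commutative algebra
-/

set_option autoImplicit false
set_option linter.unusedSectionVars false
set_option linter.style.haveILetI false
set_option backward.isDefEq.respectTransparency.types false
set_option maxHeartbeats 4000000
set_option synthInstance.maxHeartbeats 400000
universe u
open TensorProduct Module Function

namespace Groth.Agent.Lib.Helper10.GrassChart

open Groth.Agent.Lib.Helper10.HilbRing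

section General

variable {A : Type u} [CommRing A]

/-- the base change of a finite module vanishes iff the annihilator generates the unit ideal. -/
theorem subsingleton_tensor_iff_annihilator (K : Type u) [AddCommGroup K] [Module A K]
    [Module.Finite A K] (C : Type u) [CommRing C] [Algebra A C] :
    Subsingleton (C ⊗[A] K) ↔ (Module.annihilator A K).map (algebraMap A C) = ⊤ := by
  constructor
  · intro hsub
    by_contra hne
    obtain ⟨m, hm, hle⟩ := Ideal.exists_le_maximal _ hne
    letI : Field (C ⧸ m) := Ideal.Quotient.field m
    let L := C ⧸ m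
    haveI : Subsingleton (L ⊗[C] (C ⊗[A] K)) := by
      refine ⟨fun x y => ?_⟩
      have h0 : ∀ z : L ⊗[C] (C ⊗[A] K), z = 0 := by
        intro z
        induction z using TensorProduct.induction_on with
        | zero => rfl
        | tmul l w => rw [Subsingleton.elim w 0, TensorProduct.tmul_zero]
        | add a b ha hb => rw [ha, hb, add_zero]
      rw [h0 x, h0 y]
    haveI : Subsingleton (L ⊗[A] K) :=
      (TensorProduct.AlgebraTensorModule.cancelBaseChange A C L L K).symm.toEquiv.subsingleton
    obtain ⟨g, hg, hgne⟩ := exists_mem_annihilator_of_subsingleton_tensor (C := A) K L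
    apply hgne
    have h1 : algebraMap A C g ∈ m := hle (Ideal.mem_map_of_mem _ hg)
    exact Ideal.Quotient.eq_zero_iff_mem.mpr h1
  · intro htop
    have hle : (Module.annihilator A K).map (algebraMap A C) ≤ Module.annihilator C (C ⊗[A] K) := by
      rw [Ideal.map_le_iff_le_comap]
      intro a ha
      rw [Ideal.mem_comap, Module.mem_annihilator]
      intro z
      induction z using TensorProduct.induction_on with
      | zero => rw [smul_zero]
      | tmul c κ =>
        rw [TensorProduct.smul_tmul', smul_eq_mul, ← Algebra.smul_def,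
          TensorProduct.smul_tmul, (Module.mem_annihilator.mp ha) κ,
          TensorProduct.tmul_zero]
      | add z w hz hw => rw [smul_add, hz, hw, add_zero]
    rw [htop, top_le_iff] at hle
    refine ⟨fun x y => ?_⟩
    have h1 : (1 : C) ∈ Module.annihilator C (C ⊗[A] K) := by rw [hle]; trivial
    have h2 := Module.mem_annihilator.mp h1
    rw [← one_smul C x, ← one_smul C y, h2 x, h2 y]

variable {P Q : Type u} [AddCommGroup P] [Module A P] [AddCommGroup Q] [Module A Q]

theorem surjective_baseChange_iff (u : P →ₗ[A] Q) (C : Type u) [CommRing C] [Algebra A C] :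
    Surjective (u.baseChange C) ↔ Subsingleton (C ⊗[A] (Q ⧸ LinearMap.range u)) := by
  constructor
  · exact subsingleton_tensor_coker u C
  · intro hsub
    have hex : Function.Exact (LinearMap.lTensor C u) (LinearMap.lTensor C (LinearMap.range u).mkQ) :=
      lTensor_exact C (LinearMap.exact_map_mkQ_range u) (Submodule.mkQ_surjective _)
    intro y
    have h1 : LinearMap.lTensor C (LinearMap.range u).mkQ y = 0 := Subsingleton.elim _ _
    obtain ⟨x, hx⟩ := (hex y).mp h1
    refine ⟨x, ?_⟩
    rw [LinearMap.baseChange_eq_ltensor]
    exact hx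

/-- a surjection between finite projective modules of the same rank is injective. -/
theorem injective_of_surjective_of_rank_eq [Module.Finite A P] [Module.Projective A P]
    [Module.Finite A Q] [Module.Projective A Q]
    (hr : ∀ p : PrimeSpectrum A, rankAtStalk (R := A) P p = rankAtStalk (R := A) Q p)
    (v : P →ₗ[A] Q) (hv : Surjective v) : Injective v := by
  obtain ⟨σ, hσ⟩ := Module.projective_lifting_property v LinearMap.id hv
  have hσ' : ∀ q, v (σ q) = q := fun q => LinearMap.congr_fun hσ q
  let K := LinearMap.ker v
  let pr : P →ₗ[A] K := LinearMap.codRestrict K (LinearMap.id - σ ∘ₗ v) (fun p => by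
    rw [LinearMap.mem_ker, LinearMap.sub_apply, LinearMap.id_apply, LinearMap.comp_apply, map_sub,
      hσ', sub_self])
  have hpr : ∀ x : K, pr x.1 = x := by
    intro x
    apply Subtype.ext
    change x.1 - σ (v x.1) = x.1
    rw [LinearMap.mem_ker.mp x.2, map_zero, sub_zero]
  haveI : Module.Finite A K := Module.Finite.of_surjective pr (fun x => ⟨x.1, hpr x⟩)
  haveI : Module.Projective A K := Module.Projective.of_split K.subtype pr (by
    ext x
    exact congrArg Subtype.val (hpr x))
  let e : P ≃ₗ[A] Q × K := LinearEquiv.ofLinearMap (v.prod pr) (LinearMap.coprod σ K.subtype)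
    (by
      apply LinearMap.ext
      rintro ⟨q, x⟩
      apply Prod.ext
      · change v (σ q + x.1) = q
        rw [map_add, hσ', LinearMap.mem_ker.mp x.2, add_zero]
      · change pr (σ q + x.1) = x
        rw [map_add, hpr]
        have : pr (σ q) = 0 := by
          apply Subtype.ext
          change σ q - σ (v (σ q)) = 0
          rw [hσ', sub_self]
        rw [this, zero_add])
    (by
      apply LinearMap.ext
      intro p
      change σ (v p) + (p - σ (v p)) = p
      abel)
  have hK : rankAtStalk (R := A) K = 0 := by
    ext p
    have h1 : rankAtStalk (R := A) P p = rankAtStalk (R := A) (Q × K) p :=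
      congrArg (fun f => f p) (Module.rankAtStalk_eq_of_equiv e)
    rw [Module.rankAtStalk_prod, Pi.add_apply, hr p] at h1
    rw [Pi.zero_apply]
    omega
  haveI : Subsingleton K := Module.rankAtStalk_eq_zero_iff_subsingleton.mp hK
  rw [injective_iff_map_eq_zero]
  intro p hp
  have : (⟨p, LinearMap.mem_ker.mpr hp⟩ : K) = 0 := Subsingleton.elim _ _
  exact congrArg Subtype.val this

end General

section Chart

open Groth.Agent.Lib.Helper10.GrassComap

variable {R : Type u} [CommRing R] {M : Type u} [AddCommGroup M] [Module R M] {k : ℕ}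
  (s : (Fin k → R) →ₗ[R] M)

section Def

variable (A : Type u) [CommRing A] [Algebra R A]

/-- the base change of `s` to `A`, as a map out of `A^k`. -/
noncomputable def sA : (Fin k → A) →ₗ[A] A ⊗[R] M :=
  s.baseChange A ∘ₗ (TensorProduct.piScalarRight R A A (Fin k)).symm.toLinearMap

lemma sA_single (j : Fin k) (a : A) :
    sA s A (Pi.single j a) = a ⊗ₜ[R] s (Pi.single j 1) := by
  rw [sA, LinearMap.comp_apply, LinearEquiv.coe_coe, TensorProduct.piScalarRight_symm_single,
    LinearMap.baseChange_tmul]

variable {A} in
/-- the chart condition: the images of the basis vectors under `s` form a basis of the quotient. -/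
def InChart (N : Submodule A (A ⊗[R] M)) : Prop := Bijective (N.mkQ ∘ₗ sA s A)

end Def

section Open

variable {A : Type u} [CommRing A] [Algebra R A] (N : Module.Grassmannian A (A ⊗[R] M) k)
  (C : Type u) [CommRing C] [Algebra R C] [Algebra A C] [IsScalarTower R A C]

/-- the coordinate map of the chart. -/
noncomputable abbrev uN : (Fin k → A) →ₗ[A] (A ⊗[R] M) ⧸ N.toSubmodule :=
  N.toSubmodule.mkQ ∘ₗ sA s A

lemma baseChangeMkQ_comp_sA :
    Module.Grassmannian.baseChangeMkQ C N.toSubmodule ∘ₗ sA s C =
      (uN s N).baseChange C ∘ₗ (TensorProduct.piScalarRight A C C (Fin k)).symm.toLinearMap := by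
  apply LinearMap.pi_ext
  intro j c
  rw [LinearMap.comp_apply, LinearMap.comp_apply, sA_single, baseChangeMkQ_tmul,
    LinearEquiv.coe_coe, TensorProduct.piScalarRight_symm_single, LinearMap.baseChange_tmul,
    LinearMap.comp_apply, sA_single]

lemma rank_pi (p : PrimeSpectrum A) : rankAtStalk (R := A) (Fin k → A) p = k := by
  haveI : Nontrivial A := p.nontrivial
  rw [Module.rankAtStalk_eq_finrank_of_free, Pi.natCast_def, Nat.cast_id, Module.finrank_fin_fun]

theorem bijective_baseChange_iff :
    Bijective ((uN s N).baseChange C) ↔
      (Module.annihilator A (((A ⊗[R] M) ⧸ N.toSubmodule) ⧸ LinearMap.range (uN s N))).map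
        (algebraMap A C) = ⊤ := by
  rw [← subsingleton_tensor_iff_annihilator, ← surjective_baseChange_iff]
  constructor
  · exact fun h => h.2
  · intro h
    refine ⟨injective_of_surjective_of_rank_eq (fun p => ?_) _ h, h⟩
    rw [Module.rankAtStalk_baseChange, Module.rankAtStalk_baseChange, rank_pi, N.rankAtStalk_eq]

theorem inChart_ker_baseChangeMkQ_iff :
    InChart s (LinearMap.ker (Module.Grassmannian.baseChangeMkQ C N.toSubmodule)) ↔
      (Module.annihilator A (((A ⊗[R] M) ⧸ N.toSubmodule) ⧸ LinearMap.range (uN s N))).map
        (algebraMap A C) = ⊤ := by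
  rw [← bijective_baseChange_iff]
  let β := Module.Grassmannian.baseChangeMkQ C N.toSubmodule
  have hβ : Surjective β := Module.Grassmannian.baseChangeMkQ_surjective N.toSubmodule
  let βbar := β.quotKerEquivOfSurjective hβ
  have h1 : (β ∘ₗ sA s C : (Fin k → C) → _) =
      βbar ∘ ((LinearMap.ker β).mkQ ∘ₗ sA s C) := by
    ext c
    rfl
  have h2 : ((uN s N).baseChange C : _ → _) =
      (β ∘ₗ sA s C) ∘ (TensorProduct.piScalarRight A C C (Fin k)) := by
    ext z
    rw [baseChangeMkQ_comp_sA]
    change _ = (uN s N).baseChange C ((TensorProduct.piScalarRight A C C (Fin k)).symm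
      (TensorProduct.piScalarRight A C C (Fin k) z))
    rw [LinearEquiv.symm_apply_apply]
  constructor
  · intro h
    rw [h2, h1]
    exact (βbar.bijective.comp h).comp (TensorProduct.piScalarRight A C C (Fin k)).bijective
  · intro h
    have h3 : Bijective (β ∘ₗ sA s C) := by
      have : (β ∘ₗ sA s C : _ → _) = ((uN s N).baseChange C) ∘
          (TensorProduct.piScalarRight A C C (Fin k)).symm := by
        rw [h2]
        ext c
        simp
      rw [this]
      exact h.comp (TensorProduct.piScalarRight A C C (Fin k)).symm.bijective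
    have h4 : ((LinearMap.ker β).mkQ ∘ₗ sA s C : _ → _) = βbar.symm ∘ (β ∘ₗ sA s C) := by
      rw [h1]
      ext c
      simp
    change Bijective ((LinearMap.ker β).mkQ ∘ₗ sA s C)
    rw [h4]
    exact βbar.symm.bijective.comp h3

end Open

section Functor

open CategoryTheory

theorem hI_chart (A : CommAlgCat.{u} R)
    (N : (Module.Grassmannian.functor (R := R) (M := M) k).obj A) :
    ∃ J : Ideal A, ∀ (C : CommAlgCat.{u} R) (φ : A ⟶ C),
      InChart s ((Module.Grassmannian.functor (R := R) (M := M) k).map φ N).toSubmodule ↔
        J.map φ.hom.toRingHom = ⊤ := by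
  refine ⟨Module.annihilator A (((A ⊗[R] M) ⧸ N.toSubmodule) ⧸ LinearMap.range (uN s N)),
    fun C φ => ?_⟩
  letI : Algebra A C := φ.hom.toAlgebra
  letI : IsScalarTower R A C :=
    IsScalarTower.of_algebraMap_eq' <| IsScalarTower.algebraMap_eq R A C
  have h1 : ((Module.Grassmannian.functor (R := R) (M := M) k).map φ N).toSubmodule =
      LinearMap.ker (Module.Grassmannian.baseChangeMkQ C N.toSubmodule) :=
    Module.Grassmannian.map_toSubmodule φ.hom N
  rw [h1]
  exact inChart_ker_baseChangeMkQ_iff s N C

end Functor

end Chart

end Groth.Agent.Lib.Helper10.GrassChart
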