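import Mathlib
import Groth.Agent.Lib.Helper10.GrassChartAlg
import Groth.Agent.Lib.Helper10.GrassCond

/-!
# Charts of the Grassmannian of `Rⁿ` in coordinates
-/

set_option autoImplicit false
set_option linter.unusedSectionVars false
set_option linter.style.haveILetI false
set_option backward.isDefEq.respectTransparency.types false
set_option maxHeartbeats 4000000
set_option synthInstance.maxHeartbeats 400000
universe u
open TensorProduct Module Function

namespace Groth.Agent.Lib.Helper10.GrassChart

variable {R : Type u} [CommRing R] {n k m : ℕ}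

section Ext

variable {A : Type u} [CommRing A] [Algebra R A] {Q : Type u} [AddCommGroup Q] [Module A Q]

/-- linear maps out of `A ⊗ Rⁿ` are determined on the standard basis. -/
theorem ext_single {f g : A ⊗[R] (Fin n → R) →ₗ[A] Q}
    (h : ∀ l : Fin n, f ((1 : A) ⊗ₜ[R] Pi.single l (1 : R)) = g ((1 : A) ⊗ₜ[R] Pi.single l (1 : R))) :
    f = g := by
  have key : ∀ (a : A) (w : Fin n → R), (a ⊗ₜ[R] w : A ⊗[R] (Fin n → R)) =
      ∑ l, (w l • a) • ((1 : A) ⊗ₜ[R] Pi.single l (1 : R)) := by
    intro a w
    have h2 : w = ∑ l, w l • (Pi.single l (1 : R) : Fin n → R) := by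
      ext i
      simp [Finset.sum_apply, Pi.single_apply]
    conv_lhs => rw [h2]
    rw [TensorProduct.tmul_sum]
    refine Finset.sum_congr rfl (fun l _ => ?_)
    rw [TensorProduct.tmul_smul, TensorProduct.smul_tmul', TensorProduct.smul_tmul', smul_eq_mul,
      mul_one]
  apply LinearMap.ext
  intro x
  induction x using TensorProduct.induction_on with
  | zero => rw [map_zero, map_zero]
  | tmul a w =>
    rw [key, map_sum, map_sum]
    refine Finset.sum_congr rfl (fun l _ => ?_)
    rw [map_smul, map_smul, h l]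
  | add x y hx hy => rw [map_add, map_add, hx, hy]

end Ext

section Coord

variable (R) (σ : Fin k ⊕ Fin m ≃ Fin n)

/-- the coordinate inclusion `Rᵏ → Rⁿ`. -/
noncomputable def sσ : (Fin k → R) →ₗ[R] (Fin n → R) :=
  Fintype.linearCombination R (fun j => (Pi.single (σ (Sum.inl j)) (1 : R) : Fin n → R))

lemma sσ_single (j : Fin k) :
    sσ R σ (Pi.single j (1 : R)) = Pi.single (σ (Sum.inl j)) (1 : R) := by
  rw [sσ, Fintype.linearCombination_apply_single, one_smul]

variable (A : Type u) [CommRing A] [Algebra R A]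

/-- the matrix of a point of the chart. -/
def W (v : Fin m → Fin k → A) : Fin n → (Fin k → A) :=
  fun l => Sum.elim (fun j => (Pi.single j (1 : A) : Fin k → A)) v (σ.symm l)

lemma W_inl (v : Fin m → Fin k → A) (j : Fin k) : W σ A v (σ (Sum.inl j)) = Pi.single j 1 := by
  rw [W, Equiv.symm_apply_apply]
  rfl

lemma W_inr (v : Fin m → Fin k → A) (j : Fin m) : W σ A v (σ (Sum.inr j)) = v j := by
  rw [W, Equiv.symm_apply_apply]
  rfl

/-- the quotient map of a point of the chart. -/
noncomputable def qv (v : Fin m → Fin k → A) : A ⊗[R] (Fin n → R) →ₗ[A] (Fin k → A) :=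
  (Fintype.linearCombination R (W σ A v)).liftBaseChange A

lemma qv_tmul_single (v : Fin m → Fin k → A) (a : A) (l : Fin n) :
    qv R σ A v (a ⊗ₜ[R] Pi.single l (1 : R)) = a • W σ A v l := by
  rw [qv, LinearMap.liftBaseChange_tmul, Fintype.linearCombination_apply_single, one_smul]

lemma qv_sA (v : Fin m → Fin k → A) (c : Fin k → A) : qv R σ A v (sA (sσ R σ) A c) = c := by
  have h : qv R σ A v ∘ₗ sA (sσ R σ) A = LinearMap.id := by
    apply LinearMap.pi_ext
    intro j a
    rw [LinearMap.comp_apply, sA_single, sσ_single, qv_tmul_single, W_inl, LinearMap.id_apply,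
      ← Pi.single_smul, smul_eq_mul, mul_one]
  exact LinearMap.congr_fun h c

lemma qv_surjective (v : Fin m → Fin k → A) : Surjective (qv R σ A v) :=
  fun c => ⟨_, qv_sA R σ A v c⟩

/-- the quotient by the kernel is free of rank `k`. -/
noncomputable def qvEquiv (v : Fin m → Fin k → A) :
    ((A ⊗[R] (Fin n → R)) ⧸ LinearMap.ker (qv R σ A v)) ≃ₗ[A] (Fin k → A) :=
  (qv R σ A v).quotKerEquivOfSurjective (qv_surjective R σ A v)

/-- the point of the Grassmannian given by a point of the chart. -/
noncomputable def chartPt (v : Fin m → Fin k → A) :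
    Module.Grassmannian A (A ⊗[R] (Fin n → R)) k where
  toSubmodule := LinearMap.ker (qv R σ A v)
  finite_quotient := Module.Finite.equiv (qvEquiv R σ A v).symm
  projective_quotient := Module.Projective.of_equiv' (qvEquiv R σ A v).symm
  rankAtStalk_eq p := by
    rw [Module.rankAtStalk_eq_of_equiv (qvEquiv R σ A v)]
    exact rank_pi p

lemma chartPt_toSubmodule (v : Fin m → Fin k → A) :
    (chartPt R σ A v).toSubmodule = LinearMap.ker (qv R σ A v) := rfl

theorem inChart_chartPt (v : Fin m → Fin k → A) :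
    InChart (sσ R σ) (chartPt R σ A v).toSubmodule := by
  have h : ((chartPt R σ A v).toSubmodule.mkQ ∘ₗ sA (sσ R σ) A : _ → _) = (qvEquiv R σ A v).symm := by
    ext c
    apply (qvEquiv R σ A v).injective
    rw [LinearEquiv.apply_symm_apply]
    change qv R σ A v (sA (sσ R σ) A c) = c
    exact qv_sA R σ A v c
  change Bijective ((chartPt R σ A v).toSubmodule.mkQ ∘ₗ sA (sσ R σ) A)
  rw [h]
  exact (qvEquiv R σ A v).symm.bijective

/-- the generators of the kernel. -/
noncomputable def gen (v : Fin m → Fin k → A) (j : Fin m) : A ⊗[R] (Fin n → R) :=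
  (1 : A) ⊗ₜ[R] Pi.single (σ (Sum.inr j)) (1 : R) - sA (sσ R σ) A (v j)

lemma gen_mem (v : Fin m → Fin k → A) (j : Fin m) : gen R σ A v j ∈ LinearMap.ker (qv R σ A v) := by
  rw [LinearMap.mem_ker, gen, map_sub, qv_tmul_single, W_inr, one_smul, qv_sA, sub_self]

/-- a point of the chart containing the generators is the kernel. -/
theorem eq_ker_qv (N : Submodule A (A ⊗[R] (Fin n → R))) (hN : InChart (sσ R σ) N)
    (v : Fin m → Fin k → A) (h : ∀ j, gen R σ A v j ∈ N) : N = LinearMap.ker (qv R σ A v) := by
  let uE := LinearEquiv.ofBijective (N.mkQ ∘ₗ sA (sσ R σ) A) hN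
  have h1 : N.mkQ = uE.toLinearMap ∘ₗ qv R σ A v := by
    apply ext_single
    intro l
    obtain ⟨x, rfl⟩ := σ.surjective l
    rw [LinearMap.comp_apply, qv_tmul_single, one_smul]
    cases x with
    | inl j =>
      rw [W_inl]
      change _ = N.mkQ (sA (sσ R σ) A (Pi.single j 1))
      rw [sA_single, sσ_single]
    | inr j =>
      rw [W_inr]
      change _ = N.mkQ (sA (sσ R σ) A (v j))
      have := (Submodule.Quotient.mk_eq_zero N).mpr (h j)
      rw [gen, Submodule.Quotient.mk_sub, sub_eq_zero] at this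
      exact this
  rw [← N.ker_mkQ, h1, LinearEquiv.ker_comp]

theorem chartPt_injective : Injective (chartPt R σ A) := by
  intro v v' h
  have h1 : LinearMap.ker (qv R σ A v) = LinearMap.ker (qv R σ A v') :=
    congrArg Module.Grassmannian.toSubmodule h
  funext j
  have h2 : gen R σ A v j ∈ LinearMap.ker (qv R σ A v') := by
    rw [← h1]
    exact gen_mem R σ A v j
  rw [LinearMap.mem_ker, gen, map_sub, qv_tmul_single, W_inr, one_smul, qv_sA, sub_eq_zero] at h2
  exact h2.symm

theorem exists_chartPt_eq (N : Module.Grassmannian A (A ⊗[R] (Fin n → R)) k)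
    (hN : InChart (sσ R σ) N.toSubmodule) : ∃ v, chartPt R σ A v = N := by
  let uE := LinearEquiv.ofBijective (N.toSubmodule.mkQ ∘ₗ sA (sσ R σ) A) hN
  let v : Fin m → Fin k → A := fun j =>
    uE.symm (N.toSubmodule.mkQ ((1 : A) ⊗ₜ[R] Pi.single (σ (Sum.inr j)) (1 : R)))
  refine ⟨v, ?_⟩
  apply Module.Grassmannian.ext
  refine (eq_ker_qv R σ A N.toSubmodule hN v (fun j => ?_)).symm
  rw [← Submodule.Quotient.mk_eq_zero, gen, Submodule.Quotient.mk_sub, sub_eq_zero]
  change _ = uE (v j)
  rw [LinearEquiv.apply_symm_apply]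
  rfl

end Coord

section Nat

open Groth.Agent.Lib.Helper10.GrassCond

variable (R) (σ : Fin k ⊕ Fin m ≃ Fin n) {A : Type u} [CommRing A] [Algebra R A]
  (C : Type u) [CommRing C] [Algebra R C] [Algebra A C] [IsScalarTower R A C]

lemma ιB_sA {M : Type u} [AddCommGroup M] [Module R M] (s : (Fin k → R) →ₗ[R] M)
    (c : Fin k → A) :
    ιB C (sA s A c) = sA s C (fun i => algebraMap A C (c i)) := by
  have h : (ιB (R := R) (M := M) C) ∘ₗ sA s A =
      ((sA s C).restrictScalars A) ∘ₗ (Algebra.linearMap A C).compLeft (Fin k) := by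
    apply LinearMap.pi_ext
    intro j a
    rw [LinearMap.comp_apply, LinearMap.comp_apply, sA_single, ιB_tmul,
      LinearMap.restrictScalars_apply]
    have : (Algebra.linearMap A C).compLeft (Fin k) (Pi.single j a) =
        Pi.single j (algebraMap A C a) := by
      ext i
      rw [LinearMap.compLeft_apply, Function.comp_apply, Pi.single_apply, Pi.single_apply]
      split_ifs
      · rfl
      · exact map_zero _
    rw [this, sA_single]
  exact LinearMap.congr_fun h c

theorem ker_baseChangeMkQ_chartPt (v : Fin m → Fin k → A) :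
    LinearMap.ker (Module.Grassmannian.baseChangeMkQ C (chartPt R σ A v).toSubmodule) =
      LinearMap.ker (qv R σ C (fun j i => algebraMap A C (v j i))) := by
  apply eq_ker_qv
  · rw [inChart_ker_baseChangeMkQ_iff (sσ R σ) (chartPt R σ A v) C]
    have h1 : LinearMap.range (uN (sσ R σ) (chartPt R σ A v)) = ⊤ :=
      LinearMap.range_eq_top.mpr (inChart_chartPt R σ A v).2
    haveI : Subsingleton ((((A ⊗[R] (Fin n → R)) ⧸ (chartPt R σ A v).toSubmodule)) ⧸
        LinearMap.range (uN (sσ R σ) (chartPt R σ A v))) :=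
      Submodule.Quotient.subsingleton_iff.mpr h1
    rw [Module.annihilator_eq_top_iff.mpr inferInstance, Ideal.map_top]
  · intro j
    rw [ker_baseChangeMkQ]
    apply Submodule.subset_span
    refine ⟨gen R σ A v j, gen_mem R σ A v j, ?_⟩
    rw [gen, gen, map_sub, ιB_tmul, map_one, ιB_sA]

end Nat

section Functor

open CategoryTheory

variable (R) (σ : Fin k ⊕ Fin m ≃ Fin n)

theorem map_chartPt (A C : CommAlgCat.{u} R) (φ : A ⟶ C) (v : Fin m → Fin k → A) :
    (Module.Grassmannian.functor (R := R) (M := Fin n → R) k).map φ (chartPt R σ A v) =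
      chartPt R σ C (fun j i => φ.hom (v j i)) := by
  letI : Algebra A C := φ.hom.toAlgebra
  letI : IsScalarTower R A C :=
    IsScalarTower.of_algebraMap_eq' <| IsScalarTower.algebraMap_eq R A C
  apply Module.Grassmannian.ext
  have h1 : ((Module.Grassmannian.functor (R := R) (M := Fin n → R) k).map φ
      (chartPt R σ A v)).toSubmodule =
      LinearMap.ker (Module.Grassmannian.baseChangeMkQ C (chartPt R σ A v).toSubmodule) :=
    Module.Grassmannian.map_toSubmodule φ.hom (chartPt R σ A v)
  rw [h1, chartPt_toSubmodule]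
  exact ker_baseChangeMkQ_chartPt R σ C v

end Functor

section Field

variable (R) {K : Type u} [Field K] [Algebra R K]
  (N : Module.Grassmannian K (K ⊗[R] (Fin n → R)) k)

/-- the coordinate inclusion for an index map. -/
noncomputable def sI (I : Fin k → Fin n) : (Fin k → R) →ₗ[R] (Fin n → R) :=
  Fintype.linearCombination R (fun j => (Pi.single (I j) (1 : R) : Fin n → R))

lemma sI_single (I : Fin k → Fin n) (j : Fin k) :
    sI R I (Pi.single j (1 : R)) = Pi.single (I j) (1 : R) := by
  rw [sI, Fintype.linearCombination_apply_single, one_smul]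

lemma sσ_eq_sI (σ : Fin k ⊕ Fin m ≃ Fin n) : sσ R σ = sI R (fun j => σ (Sum.inl j)) := rfl

/-- over a field every point of the Grassmannian lies in a coordinate chart. -/
theorem exists_inChart_of_field :
    ∃ I : Fin k → Fin n, Injective I ∧ InChart (sI R I) N.toSubmodule := by
  classical
  let Q := (K ⊗[R] (Fin n → R)) ⧸ N.toSubmodule
  let b : Fin n → Q := fun l => N.toSubmodule.mkQ ((1 : K) ⊗ₜ[R] Pi.single l (1 : R))
  have hspan : Submodule.span K (Set.range b) = ⊤ := by
    have h0 : (Submodule.span K (Set.range b)).mkQ ∘ₗ N.toSubmodule.mkQ = 0 := by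
      apply ext_single
      intro l
      rw [LinearMap.comp_apply, LinearMap.zero_apply, Submodule.mkQ_apply,
        Submodule.Quotient.mk_eq_zero]
      exact Submodule.subset_span ⟨l, rfl⟩
    rw [eq_top_iff]
    rintro q -
    obtain ⟨x, rfl⟩ := N.toSubmodule.mkQ_surjective q
    have := LinearMap.congr_fun h0 x
    rw [LinearMap.comp_apply, LinearMap.zero_apply, Submodule.mkQ_apply,
      Submodule.Quotient.mk_eq_zero] at this
    exact this
  have hfin : Module.finrank K Q = k := by
    have h1 := N.rankAtStalk_eq ⟨⊥, Ideal.isPrime_bot⟩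
    rw [Module.rankAtStalk_eq_finrank_of_free, Pi.natCast_def, Nat.cast_id] at h1
    exact h1
  obtain ⟨κ, a, ha, hsp, hli⟩ := exists_linearIndependent' K b
  haveI : Finite κ := Finite.of_injective a ha
  haveI : Fintype κ := Fintype.ofFinite κ
  let B : Module.Basis κ K Q := Module.Basis.mk hli (by rw [hsp, hspan])
  have hcard : Fintype.card κ = k := by
    rw [← Module.finrank_eq_card_basis B, hfin]
  let e : Fin k ≃ κ := (Fintype.equivFinOfCardEq hcard).symm
  let B' : Module.Basis (Fin k) K Q := B.reindex e.symm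
  have hB' : ∀ j, B' j = b (a (e j)) := by
    intro j
    rw [Module.Basis.reindex_apply, Equiv.symm_symm, Module.Basis.mk_apply]
    rfl
  refine ⟨a ∘ e, ha.comp e.injective, ?_⟩
  have h : N.toSubmodule.mkQ ∘ₗ sA (sI R (a ∘ e)) K = B'.equivFun.symm.toLinearMap := by
    apply LinearMap.pi_ext
    intro j c
    rw [LinearMap.comp_apply, sA_single, sI_single, LinearEquiv.coe_coe,
      Module.Basis.equivFun_symm_apply]
    rw [Finset.sum_eq_single j (fun i _ hij => by rw [Pi.single_eq_of_ne hij, zero_smul])
      (fun h => (h (Finset.mem_univ j)).elim), Pi.single_eq_same, hB']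
    have h2 : (c ⊗ₜ[R] (Pi.single ((a ∘ e) j) (1 : R) : Fin n → R) : K ⊗[R] (Fin n → R)) =
        c • ((1 : K) ⊗ₜ[R] (Pi.single ((a ∘ e) j) (1 : R) : Fin n → R)) := by
      rw [TensorProduct.smul_tmul', smul_eq_mul, mul_one]
    rw [h2, map_smul]
    rfl
  change Bijective (N.toSubmodule.mkQ ∘ₗ sA (sI R (a ∘ e)) K)
  rw [h]
  exact B'.equivFun.symm.bijective

end Field

section Sigma

/-- an equivalence `Fin k ⊕ Fin m ≃ Fin n` extending an injective map. -/
noncomputable def σOf (I : Fin k → Fin n) (hI : Injective I) (hm : k + m = n) :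
    Fin k ⊕ Fin m ≃ Fin n := by
  classical
  have hc : Fintype.card ((Set.range I)ᶜ : Set (Fin n)) = m := by
    rw [Fintype.card_compl_set, Set.card_range_of_injective hI, Fintype.card_fin, Fintype.card_fin]
    omega
  exact (Equiv.sumCongr (Equiv.ofInjective I hI) (Fintype.equivFinOfCardEq hc).symm).trans
    (Equiv.Set.sumCompl (Set.range I))

lemma σOf_inl (I : Fin k → Fin n) (hI : Injective I) (hm : k + m = n) (j : Fin k) :
    σOf I hI hm (Sum.inl j) = I j := by
  classical
  rw [σOf]
  simp [Equiv.ofInjective_apply]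

end Sigma

end Groth.Agent.Lib.Helper10.GrassChart
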