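import Mathlib
import Groth.Agent.Lib.Helper10.GrassChartCoord
import Groth.Agent.Lib.Helper10.AffSpaceRep

/-!
# The standard affine charts of a scheme representing the Grassmannian of `Rⁿ`
-/

set_option autoImplicit false
set_option linter.unusedSectionVars false
set_option linter.style.haveILetI false
set_option backward.isDefEq.respectTransparency.types false
set_option maxHeartbeats 4000000
set_option synthInstance.maxHeartbeats 400000
universe u
open CategoryTheory CategoryTheory.Limits AlgebraicGeometry Opposite TensorProduct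

namespace Groth.Agent.Lib.Helper10.GrassCharts

open Groth.Agent.Lib.Helper10.AffPtClosed Groth.Agent.Lib.Helper10.GrassChart
  Groth.Agent.Lib.Helper10.AffSpaceRep

variable (R : Type u) [CommRing R] (n k : ℕ) (hk : k ≤ n) (X : Over (Spec (CommRingCat.of R)))
  (e : ∀ A : CommAlgCat.{u} R,
    (SpA R A ⟶ X) ≃ (Module.Grassmannian.functor (R := R) (M := Fin n → R) k).obj A)
  (he : ∀ (A C : CommAlgCat.{u} R) (φ : A ⟶ C) (g : SpA R A ⟶ X) (g' : SpA R C ⟶ X),
    g'.left = Spec.map (CommRingCat.ofHom φ.hom.toRingHom) ≫ g.left →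
      e C g' = (Module.Grassmannian.functor (R := R) (M := Fin n → R) k).map φ (e A g))

/-- the index set of the charts. -/
abbrev Idx : Type := {I : Fin k → Fin n // Function.Injective I}

include he in
/-- the open chart attached to an index map. -/
theorem exists_chart_open (I : Fin k → Fin n) :
    ∃ U : X.left.Opens, ∀ (A : CommAlgCat.{u} R) (g : SpA R A ⟶ X),
      Set.range g.left ⊆ (U : Set X.left) ↔ InChart (sI R I) (e A g).toSubmodule :=
  exists_open X (Module.Grassmannian.functor (R := R) (M := Fin n → R) k) e he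
    (fun A N => InChart (sI R I) N.toSubmodule) (fun A N => hI_chart (sI R I) A N)

lemma range_subset_iff (U : X.left.Opens) (A : CommAlgCat.{u} R) (g : SpA R A ⟶ X) :
    Set.range g.left ⊆ (U : Set X.left) ↔
      ∃ h : (SpA R A).left ⟶ U.toScheme, h ≫ U.ι = g.left := by
  constructor
  · intro hsub
    exact ⟨IsOpenImmersion.lift U.ι g.left (by rw [Scheme.Opens.range_ι]; exact hsub),
      IsOpenImmersion.lift_fac _ _ _⟩
  · rintro ⟨h, hh⟩
    rw [← hh]
    rintro _ ⟨z, rfl⟩
    rw [Scheme.Hom.comp_apply]
    have : U.ι (h z) ∈ Set.range U.ι := ⟨_, rfl⟩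
    rw [Scheme.Opens.range_ι] at this
    exact this

/-- the index type of affine space. -/
abbrev ιA : Type u := ULift.{u} (Fin (k * (n - k)))

/-- the reindexing of the coordinates. -/
def εA : ιA n k ≃ Fin k × Fin (n - k) := Equiv.ulift.trans finProdFinEquiv.symm

include hk he in
/-- a chart is isomorphic to affine space. -/
theorem nonempty_iso_chart (I : Fin k → Fin n) (hI : Function.Injective I) (U : X.left.Opens)
    (hU : ∀ (A : CommAlgCat.{u} R) (g : SpA R A ⟶ X),
      Set.range g.left ⊆ (U : Set X.left) ↔ InChart (sI R I) (e A g).toSubmodule) :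
    Nonempty (Over.mk (U.ι ≫ X.hom) ≅ affOver R (ιA n k)) := by
  have hm : k + (n - k) = n := by omega
  let σ := σOf I hI hm
  have hs : sσ R σ = sI R I := by
    have h0 : (fun j => σ (Sum.inl j)) = I := funext (σOf_inl I hI hm)
    rw [sσ_eq_sI, h0]
  let τ : ∀ A : CommAlgCat.{u} R, (vecFunctor R (ιA n k)).obj A →
      (Module.Grassmannian.functor (R := R) (M := Fin n → R) k).obj A :=
    fun A v => chartPt R σ A (fun j i => v ((εA n k).symm (i, j)))
  have hτ : ∀ (A C : CommAlgCat.{u} R) (φ : A ⟶ C) (v : (vecFunctor R (ιA n k)).obj A),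
      τ C ((vecFunctor R (ιA n k)).map φ v) =
        (Module.Grassmannian.functor (R := R) (M := Fin n → R) k).map φ (τ A v) := by
    intro A C φ v
    exact (map_chartPt R σ A C φ _).symm
  have hτinj : ∀ A : CommAlgCat.{u} R, Function.Injective (τ A) := by
    intro A v v' h
    have h1 := chartPt_injective R σ A h
    funext i
    have h2 := congrFun (congrFun h1 ((εA n k) i).2) ((εA n k) i).1
    simp only [Prod.mk.eta, Equiv.symm_apply_apply] at h2
    exact h2
  haveI : Mono U.ι := inferInstance
  obtain ⟨eZ, heZ, -⟩ := exists_rep_sub X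
    (Module.Grassmannian.functor (R := R) (M := Fin n → R) k) (vecFunctor R (ιA n k)) e he
    τ hτ hτinj U.toScheme U.ι (fun A g => by
      rw [← range_subset_iff, hU A g, ← hs]
      constructor
      · intro hin
        obtain ⟨v', hv'⟩ := exists_chartPt_eq R σ A (e A g) hin
        refine ⟨fun i => v' ((εA n k) i).2 ((εA n k) i).1, ?_⟩
        change chartPt R σ A _ = _
        rw [← hv']
        congr 1
        funext j i
        simp only [Equiv.apply_symm_apply]
      · rintro ⟨v, hv⟩
        rw [← hv]
        exact inChart_chartPt R σ A _)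
  obtain ⟨c, -⟩ := exists_iso_of_transform (affOver R (ιA n k)) (subOver X U.toScheme U.ι)
    (vecFunctor R (ιA n k)) (vecFunctor R (ιA n k)) (affEquiv R (ιA n k))
    (affEquiv_nat R (ιA n k)) eZ heZ (fun A => Equiv.refl _) (fun A C φ N => rfl)
  exact ⟨c⟩

include he in
/-- the charts cover. -/
theorem exists_chart_mem (x : X.left) :
    ∃ I : Fin k → Fin n, Function.Injective I ∧ ∀ U : X.left.Opens,
      (∀ (A : CommAlgCat.{u} R) (g : SpA R A ⟶ X),
        Set.range g.left ⊆ (U : Set X.left) ↔ InChart (sI R I) (e A g).toSubmodule) → x ∈ U := by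
  obtain ⟨alg, g, hg⟩ := exists_pt X (CommRingCat.of (X.left.residueField x))
    (X.left.fromSpecResidueField x)
  letI := alg
  obtain ⟨I, hI, hin⟩ := exists_inChart_of_field R
    (e (CommAlgCat.of R (X.left.residueField x)) g)
  refine ⟨I, hI, fun U hU => ?_⟩
  have h1 := (hU _ g).mpr hin
  rw [hg, Scheme.range_fromSpecResidueField] at h1
  exact h1 rfl

include hk he in
/-- **the standard affine cover of the Grassmannian.** -/
theorem exists_cover :
    ∃ U : Idx n k → X.left.Opens, ⨆ i, U i = ⊤ ∧
      ∀ i, Nonempty (Over.mk ((U i).ι ≫ X.hom) ≅ affOver R (ιA n k)) := by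
  choose U hU using fun I : Idx n k => exists_chart_open R n k X e he I.1
  refine ⟨U, ?_, fun I => nonempty_iso_chart R n k hk X e he I.1 I.2 (U I) (hU I)⟩
  rw [eq_top_iff]
  rintro x -
  obtain ⟨I, hI, hx⟩ := exists_chart_mem R n k X e he x
  exact TopologicalSpace.Opens.mem_iSup.mpr ⟨⟨I, hI⟩, hx _ (hU ⟨I, hI⟩)⟩

include hk he in
theorem smooth : SmoothOfRelativeDimension (k * (n - k)) X.hom := by
  obtain ⟨U, hU, hiso⟩ := exists_cover R n k hk X e he
  apply IsZariskiLocalAtSource.of_iSup_eq_top (P := @SmoothOfRelativeDimension (k * (n - k))) U hU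
  intro I
  obtain ⟨c⟩ := hiso I
  have h1 : (U I).ι ≫ X.hom = c.hom.left ≫ (affOver R (ιA n k)).hom := (Over.w c.hom).symm
  rw [h1]
  haveI : IsIso c.hom.left := inferInstance
  rw [MorphismProperty.cancel_left_of_respectsIso (P := @SmoothOfRelativeDimension (k * (n - k)))]
  exact smoothOfRelativeDimension_affineSpace R (k * (n - k))

end Groth.Agent.Lib.Helper10.GrassCharts
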