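import Mathlib
import Groth.Agent.Lib.Helper10.AffPtClosed
import Groth.Agent.Lib.Helper10.GrassCond

/-!
# Closed subschemes of a Grassmannian cut out by stability / containment conditions
-/

set_option autoImplicit false
set_option linter.unusedSectionVars false
set_option linter.style.haveILetI false
set_option backward.isDefEq.respectTransparency.types false
set_option maxHeartbeats 4000000
set_option synthInstance.maxHeartbeats 400000
universe u
open CategoryTheory CategoryTheory.Limits AlgebraicGeometry Opposite TensorProduct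

namespace Groth.Agent.Lib.Helper10.GrassClosed

open Groth.Agent.Lib.Helper10.AffPtClosed Groth.Agent.Lib.Helper10.GrassCond

variable (R : Type u) [CommRing R] (M : Type u) [AddCommGroup M] [Module R M] (k : ℕ)
  (X : Over (Spec (CommRingCat.of R)))
  (eX : ∀ A : CommAlgCat.{u} R,
    (SpA R A ⟶ X) ≃ (Module.Grassmannian.functor (R := R) (M := M) k).obj A)
  (heX : ∀ (A C : CommAlgCat.{u} R) (φ : A ⟶ C) (g : SpA R A ⟶ X) (g' : SpA R C ⟶ X),
    g'.left = Spec.map (CommRingCat.ofHom φ.hom.toRingHom) ≫ g.left →
      eX C g' = (Module.Grassmannian.functor (R := R) (M := M) k).map φ (eX A g))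

include heX in
/-- the locus where the submodule is stable under a family of endomorphisms is closed. -/
theorem exists_closed_stable {Λ : Type u} (θ : Λ → (M →ₗ[R] M)) :
    ∃ (Z : Scheme.{u}) (ι : Z ⟶ X.left), IsClosedImmersion ι ∧
      ∀ (A : CommAlgCat.{u} R) (g : SpA R A ⟶ X),
        (∃ h : (SpA R A).left ⟶ Z, h ≫ ι = g.left) ↔
          ∀ (l : Λ) (x : A ⊗[R] M), x ∈ (eX A g).toSubmodule →
            (θ l).baseChange A x ∈ (eX A g).toSubmodule :=
  exists_closed X (Module.Grassmannian.functor (R := R) (M := M) k) eX heX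
    (fun A N => ∀ (l : Λ) (x : A ⊗[R] M), x ∈ N.toSubmodule →
      (θ l).baseChange A x ∈ N.toSubmodule)
    (fun A N => hCond_stable R M k θ A N)

include heX in
/-- the locus where the submodule contains a given set of elements is closed. -/
theorem exists_closed_contains (K : Set M) :
    ∃ (Z : Scheme.{u}) (ι : Z ⟶ X.left), IsClosedImmersion ι ∧
      ∀ (A : CommAlgCat.{u} R) (g : SpA R A ⟶ X),
        (∃ h : (SpA R A).left ⟶ Z, h ≫ ι = g.left) ↔
          ∀ m ∈ K, (1 : A) ⊗ₜ[R] m ∈ (eX A g).toSubmodule :=
  exists_closed X (Module.Grassmannian.functor (R := R) (M := M) k) eX heX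
    (fun A N => ∀ m ∈ K, (1 : A) ⊗ₜ[R] m ∈ N.toSubmodule)
    (fun A N => hCond_contains R M k K A N)

/-- left multiplication by `1 ⊗ b` as a base change. -/
lemma one_tmul_mul {B : Type u} [Ring B] [Algebra R B] (A : Type u) [CommRing A] [Algebra R A]
    (b : B) (x : A ⊗[R] B) :
    ((1 : A) ⊗ₜ[R] b) * x = (LinearMap.mulLeft R b).baseChange A x := by
  induction x using TensorProduct.induction_on with
  | zero => simp
  | tmul a b' =>
    rw [Algebra.TensorProduct.tmul_mul_tmul, one_mul, LinearMap.baseChange_tmul,
      LinearMap.mulLeft_apply]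
  | add x y hx hy => rw [mul_add, hx, hy, map_add]

end Groth.Agent.Lib.Helper10.GrassClosed
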