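import Mathlib

/-!
# Transport of "finite projective of constant rank" along ring isomorphisms
-/

set_option autoImplicit false
set_option linter.unusedSectionVars false
set_option linter.style.haveILetI false
set_option backward.isDefEq.respectTransparency.types false
set_option maxHeartbeats 4000000
set_option synthInstance.maxHeartbeats 400000
universe u
open TensorProduct

namespace Groth.Agent.Lib.Helper10.SemiTransport

section BC

variable {A S : Type u} [CommRing A] [CommRing S] [Algebra A S]
  {P : Type u} [AddCommGroup P] [Module A P] [Module S P] [IsScalarTower A S P]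

/-- a module over a ring isomorphic to the base is its own base change. -/
theorem isBaseChange_id (h : Function.Surjective (algebraMap A S)) :
    IsBaseChange S (LinearMap.id : P →ₗ[A] P) := by
  have hform : ∀ x : S ⊗[A] P, ∃ p : P, x = (1 : S) ⊗ₜ[A] p := by
    intro x
    induction x using TensorProduct.induction_on with
    | zero => exact ⟨0, (TensorProduct.tmul_zero _ _).symm⟩
    | tmul s p =>
      obtain ⟨a, rfl⟩ := h s
      refine ⟨a • p, ?_⟩
      rw [TensorProduct.tmul_smul, TensorProduct.smul_tmul', Algebra.smul_def, mul_one]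
    | add x y hx hy =>
      obtain ⟨p, rfl⟩ := hx
      obtain ⟨p', rfl⟩ := hy
      exact ⟨p + p', (TensorProduct.tmul_add _ _ _).symm⟩
  have hbij : Function.Bijective (LinearMap.liftBaseChange S (LinearMap.id : P →ₗ[A] P)) := by
    constructor
    · rw [injective_iff_map_eq_zero]
      intro x hx
      obtain ⟨p, rfl⟩ := hform x
      rw [LinearMap.liftBaseChange_tmul, one_smul, LinearMap.id_apply] at hx
      rw [hx, TensorProduct.tmul_zero]
    · intro p
      exact ⟨(1 : S) ⊗ₜ[A] p, by rw [LinearMap.liftBaseChange_tmul, one_smul, LinearMap.id_apply]⟩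
  exact IsBaseChange.of_equiv (LinearEquiv.ofBijective _ hbij) (fun x => by
    rw [LinearEquiv.ofBijective_apply, LinearMap.liftBaseChange_tmul, one_smul])

end BC

/-- the property of being finite projective of constant rank `d`. -/
def FPR (A : Type u) [CommRing A] (P : Type u) [AddCommGroup P] [Module A P] (d : ℕ) : Prop :=
  Module.Finite A P ∧ Module.Projective A P ∧
    ∀ q : PrimeSpectrum A, Module.rankAtStalk (R := A) P q = d

theorem FPR.of_linearEquiv {A : Type u} [CommRing A] {P P' : Type u} [AddCommGroup P] [Module A P]
    [AddCommGroup P'] [Module A P'] {d : ℕ} (e : P ≃ₗ[A] P') (h : FPR A P d) : FPR A P' d := by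
  obtain ⟨h1, h2, h3⟩ := h
  refine ⟨Module.Finite.equiv e, Module.Projective.of_equiv' e, fun q => ?_⟩
  rw [← Module.rankAtStalk_eq_of_equiv e]
  exact h3 q

/-- transport along a semilinear additive equivalence. -/
theorem FPR.of_semilinear {A A' : Type u} [CommRing A] [CommRing A'] (σ : A ≃+* A')
    {P P' : Type u} [AddCommGroup P] [Module A P] [AddCommGroup P'] [Module A' P']
    (e : P ≃+ P') (he : ∀ (a : A) (p : P), e (a • p) = σ a • e p) {d : ℕ}
    (h : FPR A P d) : FPR A' P' d := by
  letI : Algebra A A' := σ.toRingHom.toAlgebra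
  letI : Module A P' := Module.compHom P' σ.toRingHom
  haveI : IsScalarTower A A' P' := ⟨fun a a' p => by
    change (σ a * a') • p = σ a • (a' • p)
    rw [mul_smul]⟩
  let eL : P ≃ₗ[A] P' := { e with map_smul' := fun a p => he a p }
  obtain ⟨h1, h2, h3⟩ := FPR.of_linearEquiv eL h
  haveI := h1
  haveI := h2
  have hbc : IsBaseChange A' (LinearMap.id : P' →ₗ[A] P') := isBaseChange_id σ.surjective
  refine ⟨Module.Finite.of_restrictScalars_finite A A' P', ?_, fun q => ?_⟩
  · exact Module.Projective.of_equiv' hbc.equiv
  · rw [Module.rankAtStalk_isBaseChange hbc q]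
    exact h3 _

end Groth.Agent.Lib.Helper10.SemiTransport
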