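import Mathlib
import Groth.Agent.Lib.Helper10.GrassCond
import Groth.Agent.Lib.Helper10.SemiTransport

/-!
# Submodules of `A ⊗ M` as ideals of `A ⊗ (R ⊕ M)` (trivial square zero extension)
-/

set_option autoImplicit false
set_option linter.unusedSectionVars false
set_option linter.style.haveILetI false
set_option backward.isDefEq.respectTransparency.types false
set_option maxHeartbeats 4000000
set_option synthInstance.maxHeartbeats 400000
universe u
open TensorProduct Module

namespace Groth.Agent.Lib.Helper10.GrassTSZ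

open Groth.Agent.Lib.Helper10.SemiTransport

variable (R : Type u) [CommRing R] (M : Type u) [AddCommGroup M] [Module R M]
  [Module Rᵐᵒᵖ M] [IsCentralScalar R M]
  (A : Type u) [CommRing A] [Algebra R A]

/-- the trivial square zero extension. -/
abbrev TB : Type u := TrivSqZeroExt R M

/-- the augmentation `A ⊗ (R ⊕ M) → A`. -/
noncomputable def εA : A ⊗[R] TB R M →ₐ[A] A :=
  Algebra.TensorProduct.lift (AlgHom.id A A)
    ((Algebra.ofId R A).comp (TrivSqZeroExt.fstHom R R M)) (fun _ _ => Commute.all _ _)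

lemma εA_tmul (a : A) (b : TB R M) : εA R M A (a ⊗ₜ[R] b) = a * algebraMap R A b.fst := by
  rw [εA, Algebra.TensorProduct.lift_tmul]
  rfl

/-- the inclusion `A ⊗ M → A ⊗ (R ⊕ M)`. -/
noncomputable def ιM : A ⊗[R] M →ₗ[A] A ⊗[R] TB R M :=
  (TrivSqZeroExt.inrHom R M).baseChange A

/-- the projection `A ⊗ (R ⊕ M) → A ⊗ M`. -/
noncomputable def πM : A ⊗[R] TB R M →ₗ[A] A ⊗[R] M :=
  (TrivSqZeroExt.sndHom R M).baseChange A

lemma ιM_tmul (a : A) (m : M) : ιM R M A (a ⊗ₜ[R] m) = a ⊗ₜ[R] TrivSqZeroExt.inr m := rfl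

lemma πM_tmul (a : A) (b : TB R M) : πM R M A (a ⊗ₜ[R] b) = a ⊗ₜ[R] b.snd := rfl

lemma πM_ιM (y : A ⊗[R] M) : πM R M A (ιM R M A y) = y := by
  induction y using TensorProduct.induction_on with
  | zero => simp
  | tmul a m => rw [ιM_tmul, πM_tmul, TrivSqZeroExt.snd_inr]
  | add y z hy hz => rw [map_add, map_add, hy, hz]

lemma εA_ιM (y : A ⊗[R] M) : εA R M A (ιM R M A y) = 0 := by
  induction y using TensorProduct.induction_on with
  | zero => simp
  | tmul a m => rw [ιM_tmul, εA_tmul, TrivSqZeroExt.fst_inr, map_zero, mul_zero]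
  | add y z hy hz => rw [map_add, map_add, hy, hz, add_zero]

lemma ιM_injective : Function.Injective (ιM R M A) :=
  Function.LeftInverse.injective (πM_ιM R M A)

lemma decomp (x : A ⊗[R] TB R M) :
    x = (εA R M A x : A) ⊗ₜ[R] (1 : TrivSqZeroExt R M) + ιM R M A (πM R M A x) := by
  induction x using TensorProduct.induction_on with
  | zero => simp
  | tmul a b =>
    rw [εA_tmul, πM_tmul, ιM_tmul, mul_comm, ← Algebra.smul_def, TensorProduct.smul_tmul,
      ← TensorProduct.tmul_add]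
    congr 1
    ext
    · simp
    · simp
  | add x y hx hy =>
    rw [map_add, map_add, TensorProduct.add_tmul, map_add]
    nth_rewrite 1 [hx]
    nth_rewrite 1 [hy]
    abel

lemma mul_ιM (x : A ⊗[R] TB R M) (y : A ⊗[R] M) :
    x * ιM R M A y = ιM R M A (εA R M A x • y) := by
  induction y using TensorProduct.induction_on with
  | zero => simp
  | tmul a' m =>
    induction x using TensorProduct.induction_on with
    | zero => simp
    | tmul a b =>
      rw [ιM_tmul, Algebra.TensorProduct.tmul_mul_tmul, εA_tmul, TensorProduct.smul_tmul',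
        ιM_tmul, smul_eq_mul]
      have h1 : b * TrivSqZeroExt.inr m = b.fst • (TrivSqZeroExt.inr m : TB R M) := by
        ext
        · simp
        · simp
      rw [h1, TensorProduct.tmul_smul, TensorProduct.smul_tmul', Algebra.smul_def]
      congr 1
      ring
    | add x x' hx hx' => rw [add_mul, hx, hx', map_add, add_smul, map_add]
  | add y z hy hz => rw [map_add, mul_add, hy, hz, smul_add, map_add]

section Ideal

variable {M A} (N : Submodule A (A ⊗[R] M))

/-- the ideal of `A ⊗ (R ⊕ M)` given by a submodule of `A ⊗ M`. -/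
noncomputable def idealOfSub : Ideal (A ⊗[R] TB R M) where
  carrier := {x | ∃ n ∈ N, ιM R M A n = x}
  add_mem' := by
    rintro _ _ ⟨n, hn, rfl⟩ ⟨n', hn', rfl⟩
    exact ⟨n + n', N.add_mem hn hn', map_add _ _ _⟩
  zero_mem' := ⟨0, N.zero_mem, map_zero _⟩
  smul_mem' := by
    rintro x _ ⟨n, hn, rfl⟩
    exact ⟨εA R M A x • n, N.smul_mem _ hn, by rw [smul_eq_mul, mul_ιM]⟩

lemma mem_idealOfSub {x : A ⊗[R] TB R M} :
    x ∈ idealOfSub R N ↔ ∃ n ∈ N, ιM R M A n = x := Iff.rfl

lemma mem_idealOfSub_iff {x : A ⊗[R] TB R M} :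
    x ∈ idealOfSub R N ↔ εA R M A x = 0 ∧ πM R M A x ∈ N := by
  constructor
  · rintro ⟨n, hn, rfl⟩
    rw [εA_ιM, πM_ιM]
    exact ⟨rfl, hn⟩
  · rintro ⟨h1, h2⟩
    refine ⟨πM R M A x, h2, ?_⟩
    have h := decomp R M A x
    rw [h1, TensorProduct.zero_tmul, zero_add] at h
    exact h.symm

lemma ιM_mem_idealOfSub {n : A ⊗[R] M} : ιM R M A n ∈ idealOfSub R N ↔ n ∈ N := by
  rw [mem_idealOfSub_iff, εA_ιM, πM_ιM]
  exact ⟨fun h => h.2, fun h => ⟨rfl, h⟩⟩

lemma idealOfSub_injective : Function.Injective (idealOfSub (A := A) (M := M) R) := by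
  intro N N' h
  ext n
  rw [← ιM_mem_idealOfSub R N, ← ιM_mem_idealOfSub R N', h]

/-- the map `A ⊗ (R ⊕ M) → A × (A ⊗ M) ⧸ N`. -/
noncomputable def qN : A ⊗[R] TB R M →ₗ[A] A × ((A ⊗[R] M) ⧸ N) :=
  (εA R M A).toLinearMap.prod (N.mkQ ∘ₗ πM R M A)

lemma qN_apply (x : A ⊗[R] TB R M) :
    qN R N x = (εA R M A x, N.mkQ (πM R M A x)) := rfl

lemma qN_surjective : Function.Surjective (qN R N) := by
  rintro ⟨a, q⟩
  obtain ⟨y, rfl⟩ := N.mkQ_surjective q
  refine ⟨a ⊗ₜ[R] (1 : TrivSqZeroExt R M) + ιM R M A y, ?_⟩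
  rw [qN_apply, map_add, map_add, εA_ιM, πM_ιM, εA_tmul, πM_tmul, TrivSqZeroExt.fst_one,
    TrivSqZeroExt.snd_one, map_one, mul_one, add_zero, TensorProduct.tmul_zero, zero_add]

lemma ker_qN : LinearMap.ker (qN R N) = (idealOfSub R N).restrictScalars A := by
  ext x
  rw [LinearMap.mem_ker, qN_apply, Prod.mk_eq_zero, Submodule.restrictScalars_mem,
    mem_idealOfSub_iff, Submodule.mkQ_apply, Submodule.Quotient.mk_eq_zero]

/-- the quotient by the ideal of a submodule. -/
noncomputable def quotEquiv :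
    ((A ⊗[R] TB R M) ⧸ idealOfSub R N) ≃ₗ[A] A × ((A ⊗[R] M) ⧸ N) :=
  ((Submodule.Quotient.restrictScalarsEquiv A (idealOfSub R N)).symm.trans
    (Submodule.quotEquivOfEq _ _ (ker_qN R N).symm)).trans
    ((qN R N).quotKerEquivOfSurjective (qN_surjective R N))

theorem fpr_succ_iff (k : ℕ) :
    FPR A ((A ⊗[R] TB R M) ⧸ idealOfSub R N) (k + 1) ↔ FPR A ((A ⊗[R] M) ⧸ N) k := by
  constructor
  · intro h
    obtain ⟨h1, h2, h3⟩ := FPR.of_linearEquiv (quotEquiv R N) h
    haveI := h1
    haveI := h2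
    haveI : Module.Finite A ((A ⊗[R] M) ⧸ N) :=
      Module.Finite.of_surjective (LinearMap.snd A A ((A ⊗[R] M) ⧸ N)) LinearMap.snd_surjective
    haveI : Module.Projective A ((A ⊗[R] M) ⧸ N) :=
      Module.Projective.of_split (LinearMap.inr A A ((A ⊗[R] M) ⧸ N))
        (LinearMap.snd A A ((A ⊗[R] M) ⧸ N)) (LinearMap.snd_comp_inr _ _ _)
    refine ⟨inferInstance, inferInstance, fun q => ?_⟩
    haveI : Nontrivial A := q.nontrivial
    have h4 := h3 q
    rw [Module.rankAtStalk_prod, Pi.add_apply, Module.rankAtStalk_self, Pi.one_apply] at h4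
    omega
  · rintro ⟨h1, h2, h3⟩
    haveI := h1
    haveI := h2
    refine FPR.of_linearEquiv (quotEquiv R N).symm ⟨inferInstance, inferInstance, fun q => ?_⟩
    haveI : Nontrivial A := q.nontrivial
    rw [Module.rankAtStalk_prod, Pi.add_apply, Module.rankAtStalk_self, Pi.one_apply, h3 q]
    omega

/-- an ideal killed by the augmentation comes from a submodule. -/
theorem eq_idealOfSub (J : Ideal (A ⊗[R] TB R M)) (hJ : ∀ x ∈ J, εA R M A x = 0) :
    J = idealOfSub R ((J.restrictScalars A).comap (ιM R M A)) := by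
  ext x
  rw [mem_idealOfSub_iff, Submodule.mem_comap, Submodule.restrictScalars_mem]
  constructor
  · intro hx
    refine ⟨hJ x hx, ?_⟩
    have h := decomp R M A x
    rw [hJ x hx, TensorProduct.zero_tmul, zero_add] at h
    rw [← h]
    exact hx
  · rintro ⟨h1, h2⟩
    have h := decomp R M A x
    rw [h1, TensorProduct.zero_tmul, zero_add] at h
    rw [h]
    exact h2

lemma εA_of_mem_idealOfSub {x : A ⊗[R] TB R M} (hx : x ∈ idealOfSub R N) : εA R M A x = 0 :=
  ((mem_idealOfSub_iff R N).mp hx).1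

end Ideal

section BaseChange

open Groth.Agent.Lib.Helper10.GrassCond

variable {A} (C : Type u) [CommRing C] [Algebra R C] [Algebra A C] [IsScalarTower R A C]
  (φ : A →ₐ[R] C) (hφ : ∀ a, φ a = algebraMap A C a)

/-- the base change map on `A ⊗ (R ⊕ M)`. -/
noncomputable abbrev Φ : A ⊗[R] TB R M →ₐ[R] C ⊗[R] TB R M :=
  Algebra.TensorProduct.map φ (AlgHom.id R (TB R M))

include hφ in
lemma Φ_ιM (n : A ⊗[R] M) : Φ R M C φ (ιM R M A n) = ιM R M C (ιB C n) := by
  induction n using TensorProduct.induction_on with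
  | zero => simp
  | tmul a m =>
    rw [ιM_tmul, Algebra.TensorProduct.map_tmul, ιB_tmul, ιM_tmul, hφ]
    rfl
  | add n n' hn hn' => rw [map_add, map_add, hn, hn', map_add, map_add]

lemma εA_Φ (x : A ⊗[R] TB R M) : εA R M C (Φ R M C φ x) = φ (εA R M A x) := by
  induction x using TensorProduct.induction_on with
  | zero => simp
  | tmul a b =>
    rw [Algebra.TensorProduct.map_tmul, εA_tmul, εA_tmul, map_mul, AlgHom.commutes]
    rfl
  | add x y hx hy => rw [map_add, map_add, hx, hy, map_add, map_add]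

include hφ in
theorem idealOfSub_ker_baseChangeMkQ (N : Submodule A (A ⊗[R] M)) :
    idealOfSub R (LinearMap.ker (Module.Grassmannian.baseChangeMkQ C N)) =
      (idealOfSub R N).map (Φ R M C φ).toRingHom := by
  rw [ker_baseChangeMkQ]
  apply le_antisymm
  · rintro _ ⟨n', hn', rfl⟩
    induction hn' using Submodule.span_induction with
    | mem z hz =>
      obtain ⟨n, hn, rfl⟩ := hz
      rw [← Φ_ιM R M C φ hφ]
      exact Ideal.mem_map_of_mem _ ((ιM_mem_idealOfSub R N).mpr hn)
    | zero => rw [map_zero]; exact Submodule.zero_mem _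
    | add z w _ _ hz hw => rw [map_add]; exact Submodule.add_mem _ hz hw
    | smul c z _ hz =>
      have h1 : c • ιM R M C z = (c ⊗ₜ[R] (1 : TrivSqZeroExt R M)) * ιM R M C z := by
        rw [mul_ιM, εA_tmul, TrivSqZeroExt.fst_one, map_one, mul_one, map_smul]
      rw [map_smul, h1]
      exact Ideal.mul_mem_left _ _ hz
  · rw [Ideal.map_le_iff_le_comap]
    rintro _ ⟨n, hn, rfl⟩
    rw [Ideal.mem_comap]
    change Φ R M C φ (ιM R M A n) ∈ _
    rw [Φ_ιM R M C φ hφ, ιM_mem_idealOfSub]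
    exact Submodule.subset_span ⟨n, hn, rfl⟩

theorem aug_map_iff (J : Ideal (A ⊗[R] TB R M)) :
    (∀ y ∈ J.map (Φ R M C φ).toRingHom, εA R M C y = 0) ↔
      J.map (εA R M A).toRingHom ≤ RingHom.ker φ.toRingHom := by
  rw [Ideal.map_le_iff_le_comap]
  constructor
  · intro h x hx
    rw [Ideal.mem_comap, RingHom.mem_ker]
    change φ (εA R M A x) = 0
    rw [← εA_Φ]
    exact h _ (Ideal.mem_map_of_mem _ hx)
  · intro h
    have h1 : J.map (Φ R M C φ).toRingHom ≤ RingHom.ker (εA R M C).toRingHom := by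
      rw [Ideal.map_le_iff_le_comap]
      intro x hx
      rw [Ideal.mem_comap, RingHom.mem_ker]
      change εA R M C (Φ R M C φ x) = 0
      rw [εA_Φ]
      exact h hx
    intro y hy
    exact h1 hy

end BaseChange

end Groth.Agent.Lib.Helper10.GrassTSZ
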