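import Mathlib

/-!
# The universal ring for ideals with a prescribed basis of the quotient (ring level, part 1)

For an `R`-algebra `A` and `e : Fin d → A`, the ring `H` represents the functor of "multiplication
compatible coordinate maps" `q : A → Cᵈ`.
-/

set_option autoImplicit false
set_option linter.unusedSectionVars false
set_option linter.style.haveILetI false
set_option backward.isDefEq.respectTransparency.types false
set_option maxHeartbeats 4000000
set_option synthInstance.maxHeartbeats 400000
universe u
open MvPolynomial

namespace Groth.Agent.Lib.Helper10.HilbRing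

variable (R A : Type u) [CommRing R] [CommRing A] [Algebra R A] {d : ℕ} (e : Fin d → A)

/-- coordinate data: an `R`-linear map `q : A → Cᵈ` sending `e` to the standard basis and
compatible with multiplication. -/
structure QData (C : Type u) [CommRing C] [Algebra R C] where
  q : A →ₗ[R] (Fin d → C)
  basis : ∀ j, q (e j) = Pi.single j 1
  mul : ∀ a b k, q (a * b) k = ∑ i, q b i * q (a * e i) k

variable {R A e}

@[ext] lemma QData.ext {C : Type u} [CommRing C] [Algebra R C] {D₁ D₂ : QData R A e C}
    (h : ∀ a k, D₁.q a k = D₂.q a k) : D₁ = D₂ := by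
  cases D₁; cases D₂
  congr
  ext a k
  exact h a k

/-- push forward of coordinate data along an algebra map. -/
def QData.map {C C' : Type u} [CommRing C] [Algebra R C] [CommRing C'] [Algebra R C']
    (w : C →ₐ[R] C') (D : QData R A e C) : QData R A e C' where
  q :=
    { toFun := fun a k => w (D.q a k)
      map_add' := fun a b => by ext k; simp
      map_smul' := fun r a => by ext k; simp }
  basis := fun j => by
    ext k
    change w (D.q (e j) k) = _
    rw [D.basis j]
    by_cases h : k = j
    · subst h; simp
    · simp [Pi.single_apply, h]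
  mul := fun a b k => by
    change w (D.q (a * b) k) = ∑ i, w (D.q b i) * w (D.q (a * e i) k)
    rw [D.mul, map_sum]
    simp

variable (R A e)

/-- the relations. -/
inductive Rel : MvPolynomial (A × Fin d) R → Prop
  | add (a b : A) (k : Fin d) : Rel (X (a + b, k) - X (a, k) - X (b, k))
  | smul (r : R) (a : A) (k : Fin d) : Rel (X (r • a, k) - C r * X (a, k))
  | basis (j k : Fin d) : Rel (X (e j, k) - if k = j then 1 else 0)
  | mul (a b : A) (k : Fin d) : Rel (X (a * b, k) - ∑ i, X (b, i) * X (a * e i, k))

/-- the ideal of relations. -/
noncomputable def relIdeal : Ideal (MvPolynomial (A × Fin d) R) := Ideal.span {p | Rel R A e p}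

/-- the universal ring. -/
abbrev H : Type u := MvPolynomial (A × Fin d) R ⧸ relIdeal R A e

/-- the universal coordinates. -/
noncomputable def x (a : A) (k : Fin d) : H R A e := Ideal.Quotient.mk _ (X (a, k))

lemma x_add (a b : A) (k : Fin d) : x R A e (a + b) k = x R A e a k + x R A e b k := by
  have : Ideal.Quotient.mk (relIdeal R A e) (X (a + b, k) - X (a, k) - X (b, k)) = 0 :=
    Ideal.Quotient.eq_zero_iff_mem.mpr (Ideal.subset_span (Rel.add a b k))
  rw [map_sub, map_sub, sub_sub, sub_eq_zero] at this
  exact this

lemma x_smul (r : R) (a : A) (k : Fin d) : x R A e (r • a) k = r • x R A e a k := by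
  have : Ideal.Quotient.mk (relIdeal R A e) (X (r • a, k) - C r * X (a, k)) = 0 :=
    Ideal.Quotient.eq_zero_iff_mem.mpr (Ideal.subset_span (Rel.smul r a k))
  rw [map_sub, sub_eq_zero] at this
  change Ideal.Quotient.mk (relIdeal R A e) (X (r • a, k)) =
    Ideal.Quotient.mk (relIdeal R A e) (r • X (a, k))
  rw [this, MvPolynomial.smul_eq_C_mul]

lemma x_basis (j k : Fin d) : x R A e (e j) k = if k = j then 1 else 0 := by
  have : Ideal.Quotient.mk (relIdeal R A e) (X (e j, k) - if k = j then 1 else 0) = 0 :=
    Ideal.Quotient.eq_zero_iff_mem.mpr (Ideal.subset_span (Rel.basis j k))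
  rw [map_sub, sub_eq_zero] at this
  rw [x, this]
  split_ifs <;> simp

lemma x_mul (a b : A) (k : Fin d) :
    x R A e (a * b) k = ∑ i, x R A e b i * x R A e (a * e i) k := by
  have : Ideal.Quotient.mk (relIdeal R A e)
      (X (a * b, k) - ∑ i, X (b, i) * X (a * e i, k)) = 0 :=
    Ideal.Quotient.eq_zero_iff_mem.mpr (Ideal.subset_span (Rel.mul a b k))
  rw [map_sub, sub_eq_zero, map_sum] at this
  rw [x, this]
  simp only [map_mul]
  rfl

/-- the universal coordinate data. -/
noncomputable def univ : QData R A e (H R A e) where
  q :=
    { toFun := fun a k => x R A e a k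
      map_add' := fun a b => by ext k; exact x_add R A e a b k
      map_smul' := fun r a => by ext k; exact x_smul R A e r a k }
  basis := fun j => by
    ext k
    change x R A e (e j) k = _
    rw [x_basis, Pi.single_apply]
  mul := fun a b k => x_mul R A e a b k

variable {R A e}

/-- the classifying map of coordinate data. -/
noncomputable def classify {C : Type u} [CommRing C] [Algebra R C] (D : QData R A e C) :
    H R A e →ₐ[R] C :=
  Ideal.Quotient.liftₐ (relIdeal R A e) (aeval (fun p : A × Fin d => D.q p.1 p.2)) (by
    intro p hp
    induction hp using Submodule.span_induction with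
    | mem p hp =>
      cases hp with
      | add a b k => simp
      | smul r a k =>
        simp only [map_sub, aeval_X, map_mul, aeval_C, map_smul, Pi.smul_apply]
        rw [Algebra.smul_def, sub_self]
      | basis j k =>
        simp only [map_sub, aeval_X, D.basis j, Pi.single_apply]
        split_ifs <;> simp
      | mul a b k =>
        simp only [map_sub, aeval_X, map_sum, map_mul, D.mul a b k, sub_self]
    | zero => simp
    | add p q _ _ hp hq => simp [hp, hq]
    | smul r p _ hp => simp [hp])

lemma classify_x {C : Type u} [CommRing C] [Algebra R C] (D : QData R A e C) (a : A)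
    (k : Fin d) : classify D (x R A e a k) = D.q a k := by
  change Ideal.Quotient.liftₐ _ _ _ (Ideal.Quotient.mk _ (X (a, k))) = _
  rw [Ideal.Quotient.liftₐ_apply, Ideal.Quotient.lift_mk]
  simp

lemma map_univ_classify {C : Type u} [CommRing C] [Algebra R C] (D : QData R A e C) :
    (univ R A e).map (classify D) = D := by
  ext a k
  exact classify_x D a k

lemma algHom_ext_x {C : Type u} [CommRing C] [Algebra R C] {v w : H R A e →ₐ[R] C}
    (h : ∀ a k, v (x R A e a k) = w (x R A e a k)) : v = w := by
  apply Ideal.Quotient.algHom_ext
  apply MvPolynomial.algHom_ext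
  rintro ⟨a, k⟩
  exact h a k

lemma classify_map_univ {C : Type u} [CommRing C] [Algebra R C] (v : H R A e →ₐ[R] C) :
    classify ((univ R A e).map v) = v := by
  apply algHom_ext_x
  intro a k
  rw [classify_x]
  rfl

/-- **the universal property of `H`.** -/
noncomputable def homEquiv (C : Type u) [CommRing C] [Algebra R C] :
    (H R A e →ₐ[R] C) ≃ QData R A e C where
  toFun v := (univ R A e).map v
  invFun D := classify D
  left_inv v := classify_map_univ v
  right_inv D := map_univ_classify D

end Groth.Agent.Lib.Helper10.HilbRing
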