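import Mathlib
import Groth.Agent.Lib.Helper10.HilbRing1

/-!
# Ideals with a prescribed basis of the quotient and coordinate data (ring level, part 2)
-/

set_option autoImplicit false
set_option linter.unusedSectionVars false
set_option linter.style.haveILetI false
set_option backward.isDefEq.respectTransparency.types false
set_option maxHeartbeats 4000000
set_option synthInstance.maxHeartbeats 400000
universe u

namespace Groth.Agent.Lib.Helper10.HilbRing

variable {R A : Type u} [CommRing R] [CommRing A] [Algebra R A] {d : ℕ} {e : Fin d → A}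
variable {C D : Type u} [CommRing C] [CommRing D] [Algebra R C] [Algebra A D] [Algebra C D]
  [Algebra R D] [IsScalarTower R A D] [IsScalarTower R C D]

/-- the quotient `D ⧸ J` is free over `C` with basis the classes of `b`. -/
def IsBasisQuot (C : Type u) [CommRing C] [Algebra C D] (J : Ideal D) (b : Fin d → D) : Prop :=
  Function.Bijective
    ((Ideal.Quotient.mkₐ C J).toLinearMap ∘ₗ Fintype.linearCombination C b)

lemma isBasisQuot_apply (J : Ideal D) (b : Fin d → D) (c : Fin d → C) :
    ((Ideal.Quotient.mkₐ C J).toLinearMap ∘ₗ Fintype.linearCombination C b) c =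
      Ideal.Quotient.mk J (∑ i, c i • b i) := by
  simp [Fintype.linearCombination_apply]

variable (hD : IsBaseChange C (IsScalarTower.toAlgHom R A D).toLinearMap)

section Forward

variable (Q : QData R A e C)

/-- the `C`-linear extension of the coordinate map. -/
noncomputable def qC : D →ₗ[C] (Fin d → C) := hD.lift Q.q

lemma qC_algebraMap (a : A) : qC hD Q (algebraMap A D a) = Q.q a := hD.lift_eq Q.q a

/-- multiplication by `a` in coordinates. -/
def mat (a : A) : (Fin d → C) →ₗ[C] (Fin d → C) where
  toFun c := fun k => ∑ i, c i * Q.q (a * e i) k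
  map_add' c c' := by
    ext k
    simp [add_mul, Finset.sum_add_distrib]
  map_smul' s c := by
    ext k
    simp [Finset.mul_sum, mul_assoc]

lemma qC_algebraMap_mul (a : A) (x : D) :
    qC hD Q (algebraMap A D a * x) = mat Q a (qC hD Q x) := by
  induction x using hD.inductionOn with
  | zero => simp
  | tmul b =>
    change qC hD Q (algebraMap A D a * algebraMap A D b) = mat Q a (qC hD Q (algebraMap A D b))
    rw [← map_mul, qC_algebraMap, qC_algebraMap]
    ext k
    exact Q.mul a b k
  | smul s n ih =>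
    rw [mul_smul_comm, map_smul, ih, map_smul, map_smul]
  | add n₁ n₂ h₁ h₂ => rw [mul_add, map_add, h₁, h₂, map_add, map_add]

lemma qC_mul_eq_zero (y x : D) (hx : qC hD Q x = 0) : qC hD Q (y * x) = 0 := by
  induction y using hD.inductionOn with
  | zero => simp
  | tmul a =>
    change qC hD Q (algebraMap A D a * x) = 0
    rw [qC_algebraMap_mul, hx, map_zero]
  | smul s n ih => rw [smul_mul_assoc, map_smul, ih, smul_zero]
  | add n₁ n₂ h₁ h₂ => rw [add_mul, map_add, h₁, h₂, add_zero]

/-- the ideal attached to coordinate data. -/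
noncomputable def JQ : Ideal D where
  carrier := {x | qC hD Q x = 0}
  add_mem' := fun {x y} hx hy => by
    change qC hD Q (x + y) = 0
    rw [map_add, hx, hy, add_zero]
  zero_mem' := map_zero _
  smul_mem' := fun y x hx => qC_mul_eq_zero hD Q y x hx

lemma mem_JQ (x : D) : x ∈ JQ hD Q ↔ qC hD Q x = 0 := Iff.rfl

lemma qC_sum_basis (c : Fin d → C) : qC hD Q (∑ i, c i • algebraMap A D (e i)) = c := by
  rw [map_sum]
  simp only [map_smul, qC_algebraMap, Q.basis]
  ext k
  simp [Finset.sum_apply, Pi.single_apply]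

lemma sub_mem_JQ (x : D) : x - ∑ i, qC hD Q x i • algebraMap A D (e i) ∈ JQ hD Q := by
  rw [mem_JQ, map_sub, qC_sum_basis, sub_self]

theorem isBasisQuot_JQ : IsBasisQuot C (JQ hD Q) (fun i => algebraMap A D (e i)) := by
  constructor
  · intro c c' h
    rw [isBasisQuot_apply, isBasisQuot_apply, Ideal.Quotient.eq, mem_JQ, map_sub, qC_sum_basis,
      qC_sum_basis, sub_eq_zero] at h
    exact h
  · intro y
    obtain ⟨x, rfl⟩ := Ideal.Quotient.mk_surjective y
    refine ⟨qC hD Q x, ?_⟩
    rw [isBasisQuot_apply]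
    exact (Ideal.Quotient.eq.mpr (sub_mem_JQ hD Q x)).symm

end Forward

section Backward

variable {J : Ideal D} (hJ : IsBasisQuot C J (fun i => algebraMap A D (e i)))

/-- the coordinate isomorphism. -/
noncomputable def βJ : (Fin d → C) ≃ₗ[C] (D ⧸ J) := LinearEquiv.ofBijective _ hJ

lemma βJ_apply (c : Fin d → C) :
    βJ hJ c = Ideal.Quotient.mk J (∑ i, c i • algebraMap A D (e i)) :=
  isBasisQuot_apply J _ c

lemma βJ_single (j : Fin d) : βJ hJ (Pi.single j 1) = Ideal.Quotient.mk J (algebraMap A D (e j)) := by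
  rw [βJ_apply]
  congr 1
  rw [Finset.sum_eq_single j]
  · simp
  · intro i _ hij
    simp [Pi.single_apply, hij]
  · simp

/-- the coordinate map of an ideal, as a function. -/
noncomputable def qOf (a : A) : Fin d → C := (βJ hJ).symm (Ideal.Quotient.mk J (algebraMap A D a))

lemma βJ_qOf (a : A) : βJ hJ (qOf hJ a) = Ideal.Quotient.mk J (algebraMap A D a) :=
  (βJ hJ).apply_symm_apply _

lemma qOf_add (a b : A) : qOf hJ (a + b) = qOf hJ a + qOf hJ b := by
  apply (βJ hJ).injective
  rw [map_add, βJ_qOf, βJ_qOf, βJ_qOf, map_add, map_add]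

lemma qOf_smul (r : R) (a : A) : qOf hJ (r • a) = r • qOf hJ a := by
  apply (βJ hJ).injective
  have h1 : r • qOf hJ a = (algebraMap R C r) • qOf hJ a := by
    ext k
    simp [Algebra.smul_def]
  rw [h1, map_smul, βJ_qOf, βJ_qOf, Algebra.smul_def, map_mul, Algebra.smul_def]
  congr 1
  rw [← IsScalarTower.algebraMap_apply R A D, IsScalarTower.algebraMap_apply R C D]
  rfl

lemma qOf_basis (j : Fin d) : qOf hJ (e j) = Pi.single j 1 := by
  apply (βJ hJ).injective
  rw [βJ_qOf, βJ_single]

lemma qOf_mul (a b : A) : qOf hJ (a * b) = ∑ i, qOf hJ b i • qOf hJ (a * e i) := by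
  apply (βJ hJ).injective
  rw [βJ_qOf, map_sum]
  simp only [map_smul, βJ_qOf]
  have h1 : Ideal.Quotient.mk J (algebraMap A D (a * b)) =
      Ideal.Quotient.mk J (algebraMap A D a) * βJ hJ (qOf hJ b) := by
    rw [βJ_qOf, ← map_mul, ← map_mul]
  rw [h1, βJ_apply, map_sum, Finset.mul_sum]
  refine Finset.sum_congr rfl (fun i _ => ?_)
  rw [Algebra.smul_def, Algebra.smul_def, map_mul, map_mul, map_mul]
  rw [← mul_assoc, ← mul_assoc]
  congr 1
  exact mul_comm _ _

variable (R) in
/-- the coordinate data of an ideal. -/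
noncomputable def ofIdeal : QData R A e C where
  q :=
    { toFun := qOf hJ
      map_add' := qOf_add hJ
      map_smul' := qOf_smul hJ }
  basis := qOf_basis hJ
  mul := fun a b k => by
    change qOf hJ (a * b) k = _
    rw [qOf_mul]
    simp [Finset.sum_apply]

lemma ofIdeal_q (a : A) : (ofIdeal R hJ).q a = qOf hJ a := rfl

lemma qC_ofIdeal (x : D) : qC hD (ofIdeal R hJ) x = (βJ hJ).symm (Ideal.Quotient.mk J x) := by
  induction x using hD.inductionOn with
  | zero => simp
  | tmul a =>
    change qC hD (ofIdeal R hJ) (algebraMap A D a) = _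
    rw [qC_algebraMap]
    rfl
  | smul s n ih =>
    rw [map_smul, ih, ← map_smul]
    congr 1
  | add n₁ n₂ h₁ h₂ => rw [map_add, h₁, h₂, map_add, map_add]

theorem JQ_ofIdeal : JQ hD (ofIdeal R hJ) = J := by
  ext x
  rw [mem_JQ, qC_ofIdeal, LinearEquiv.map_eq_zero_iff, Ideal.Quotient.eq_zero_iff_mem]

end Backward

theorem ofIdeal_JQ (Q : QData R A e C) : ofIdeal R (isBasisQuot_JQ hD Q) = Q := by
  ext a k
  rw [ofIdeal_q]
  have h1 : qOf (isBasisQuot_JQ hD Q) a = Q.q a := by
    apply (βJ (isBasisQuot_JQ hD Q)).injective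
    rw [βJ_qOf, βJ_apply]
    have h2 := sub_mem_JQ hD Q (algebraMap A D a)
    rw [qC_algebraMap] at h2
    exact Ideal.Quotient.eq.mpr h2
  rw [h1]

end Groth.Agent.Lib.Helper10.HilbRing
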