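import Mathlib

/-!
# Representability is Zariski local on the base

A set-valued functor `G` on schemes, equipped with a structure map to a scheme `S`, which is a
Zariski sheaf and which is representable over the members of an open cover of `S`, is
representable.
-/

set_option autoImplicit false
set_option backward.isDefEq.respectTransparency.types false
set_option maxHeartbeats 4000000
set_option synthInstance.maxHeartbeats 400000
universe u
open CategoryTheory CategoryTheory.Limits AlgebraicGeometry Opposite TopologicalSpace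

namespace Groth.Agent.Lib.Helper10.ZarRep

/-- a set-valued functor on schemes with a structure map to `S`. -/
structure SFun (S : Scheme.{u}) where
  F : Scheme.{u}ᵒᵖ ⥤ Type u
  str : ∀ {T : Scheme.{u}}, F.obj (op T) → (T ⟶ S)
  str_map : ∀ {T T' : Scheme.{u}} (g : T' ⟶ T) (x : F.obj (op T)),
    str (F.map g.op x) = g ≫ str x

variable {S : Scheme.{u}} (G : SFun S)

namespace SFun

/-- pullback of elements. -/
def pull {T T' : Scheme.{u}} (g : T' ⟶ T) (x : G.F.obj (op T)) : G.F.obj (op T') :=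
  G.F.map g.op x

@[simp] lemma pull_id {T : Scheme.{u}} (x : G.F.obj (op T)) : G.pull (𝟙 T) x = x := by
  simp [pull]

lemma pull_comp {T T' T'' : Scheme.{u}} (g' : T'' ⟶ T') (g : T' ⟶ T) (x : G.F.obj (op T)) :
    G.pull (g' ≫ g) x = G.pull g' (G.pull g x) := by
  simp [pull]

lemma str_pull {T T' : Scheme.{u}} (g : T' ⟶ T) (x : G.F.obj (op T)) :
    G.str (G.pull g x) = g ≫ G.str x := G.str_map g x

/-- the element lands in the open `V`. -/
def Lands {T : Scheme.{u}} (x : G.F.obj (op T)) (V : S.Opens) : Prop :=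
  ∀ p : T, G.str x p ∈ V

variable {G}

lemma Lands.pull {T T' : Scheme.{u}} {x : G.F.obj (op T)} {V : S.Opens} (h : G.Lands x V)
    (g : T' ⟶ T) : G.Lands (G.pull g x) V := by
  intro p
  rw [str_pull, Scheme.Hom.comp_apply]
  exact h _

lemma Lands.mono {T : Scheme.{u}} {x : G.F.obj (op T)} {V V' : S.Opens} (h : G.Lands x V)
    (hle : V ≤ V') : G.Lands x V' := fun p => hle (h p)

lemma lands_of_fac {T B : Scheme.{u}} {x : G.F.obj (op T)} {V : S.Opens} (i : B ⟶ S)
    (hi : Set.range i ⊆ V) (b : T ⟶ B) (hb : b ≫ i = G.str x) : G.Lands x V := by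
  intro p
  rw [← hb, Scheme.Hom.comp_apply]
  exact hi ⟨_, rfl⟩

variable (G)

/-- the Zariski sheaf condition. -/
structure IsSheaf : Prop where
  sep : ∀ {T : Scheme.{u}} (𝒰 : Scheme.OpenCover.{u} T) (x y : G.F.obj (op T)),
    (∀ i, G.pull (𝒰.f i) x = G.pull (𝒰.f i) y) → x = y
  glue : ∀ {T : Scheme.{u}} (𝒰 : Scheme.OpenCover.{u} T) (x : ∀ i, G.F.obj (op (𝒰.X i))),
    (∀ (i j : 𝒰.I₀) (Z : Scheme.{u}) (a : Z ⟶ 𝒰.X i) (b : Z ⟶ 𝒰.X j),
      a ≫ 𝒰.f i = b ≫ 𝒰.f j → G.pull a (x i) = G.pull b (x j)) →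
    ∃ y, ∀ i, G.pull (𝒰.f i) y = x i

/-- `(M, ξ)` represents the subfunctor of `G` of elements landing in `V`. -/
def RepOn (V : S.Opens) (M : Scheme.{u}) (ξ : G.F.obj (op M)) : Prop :=
  G.Lands ξ V ∧
  ∀ (T : Scheme.{u}) (x : G.F.obj (op T)), G.Lands x V → ∃! v : T ⟶ M, G.pull v ξ = x

/-- `(M, ξ)` represents `G`. -/
def Rep (M : Scheme.{u}) (ξ : G.F.obj (op M)) : Prop :=
  ∀ (T : Scheme.{u}) (x : G.F.obj (op T)), ∃! v : T ⟶ M, G.pull v ξ = x

variable {G}

lemma IsSheaf.sep_of_forall (hS : G.IsSheaf) {T : Scheme.{u}} (x y : G.F.obj (op T))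
    (H : ∀ p : T, ∃ U : T.Opens, p ∈ U ∧ G.pull U.ι x = G.pull U.ι y) : x = y := by
  choose U hpU hU using H
  let 𝒰 : Scheme.OpenCover.{u} T := {
    I₀ := T, X i := (U i), f i := (U i).ι,
    mem₀ := by
      rw [Scheme.presieve₀_mem_precoverage_iff]
      refine ⟨fun x ↦ ⟨x, by simpa using hpU x⟩, inferInstance⟩ }
  exact hS.sep 𝒰 x y hU

lemma rep_iff_repOn_top {M : Scheme.{u}} {ξ : G.F.obj (op M)} : G.Rep M ξ ↔ G.RepOn ⊤ M ξ :=
  ⟨fun h => ⟨fun _ => trivial, fun T x _ => h T x⟩, fun h T x => h.2 T x (fun _ => trivial)⟩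

/-- restriction of a representing object to a smaller open. -/
theorem RepOn.restrict {V V' : S.Opens} {M : Scheme.{u}} {ξ : G.F.obj (op M)}
    (h : G.RepOn V M ξ) (hle : V' ≤ V) :
    G.RepOn V' ((G.str ξ) ⁻¹ᵁ V').toScheme (G.pull ((G.str ξ) ⁻¹ᵁ V').ι ξ) := by
  refine ⟨?_, fun T x hx => ?_⟩
  · intro p
    rw [str_pull, Scheme.Hom.comp_apply]
    exact p.2
  · obtain ⟨v, hv, hvu⟩ := h.2 T x (hx.mono hle)
    have hrange : Set.range v ⊆ Set.range ((G.str ξ) ⁻¹ᵁ V').ι := by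
      rw [Scheme.Opens.range_ι]
      rintro _ ⟨p, rfl⟩
      change G.str ξ (v p) ∈ V'
      rw [← Scheme.Hom.comp_apply, ← str_pull, hv]
      exact hx p
    refine ⟨IsOpenImmersion.lift ((G.str ξ) ⁻¹ᵁ V').ι v hrange, ?_, fun v' hv' => ?_⟩
    · change G.pull _ (G.pull _ ξ) = x
      rw [← pull_comp, IsOpenImmersion.lift_fac, hv]
    · rw [← cancel_mono ((G.str ξ) ⁻¹ᵁ V').ι, IsOpenImmersion.lift_fac]
      apply hvu
      rw [pull_comp]
      exact hv'

/-- it suffices to test the universal property on affine schemes. -/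
theorem RepOn.of_affine (hS : G.IsSheaf) {V : S.Opens} {M : Scheme.{u}} {ξ : G.F.obj (op M)}
    (hξ : G.Lands ξ V)
    (h : ∀ (T : Scheme.{u}) [IsAffine T] (x : G.F.obj (op T)), G.Lands x V →
      ∃! v : T ⟶ M, G.pull v ξ = x) : G.RepOn V M ξ := by
  refine ⟨hξ, fun T x hx => ?_⟩
  let 𝒰 : Scheme.OpenCover.{u} T := T.affineCover
  have hex : ∀ i, ∃ v : 𝒰.X i ⟶ M, G.pull v ξ = G.pull (𝒰.f i) x :=
    fun i => (h (𝒰.X i) (G.pull (𝒰.f i) x) (hx.pull _)).exists
  choose v hv using hex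
  have compat : ∀ i j, pullback.fst (𝒰.f i) (𝒰.f j) ≫ v i = pullback.snd _ _ ≫ v j := by
    intro i j
    let 𝒲 : Scheme.OpenCover.{u} (pullback (𝒰.f i) (𝒰.f j)) :=
      (pullback (𝒰.f i) (𝒰.f j)).affineCover
    refine 𝒲.hom_ext _ _ (fun k => ?_)
    refine (h (𝒲.X k) (G.pull (𝒲.f k ≫ pullback.fst _ _ ≫ 𝒰.f i) x) (hx.pull _)).unique ?_ ?_
    · rw [pull_comp, pull_comp, hv, ← pull_comp, ← pull_comp, Category.assoc]
    · rw [pull_comp, pull_comp, hv, ← pull_comp, ← pull_comp, Category.assoc,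
        pullback.condition]
  refine ⟨𝒰.glueMorphisms v compat, ?_, fun w hw => ?_⟩
  · refine hS.sep 𝒰 _ _ (fun i => ?_)
    rw [← pull_comp, Scheme.Cover.ι_glueMorphisms, hv]
  · refine 𝒰.hom_ext _ _ (fun i => ?_)
    rw [Scheme.Cover.ι_glueMorphisms]
    refine (h (𝒰.X i) (G.pull (𝒰.f i) x) (hx.pull _)).unique ?_ (hv i)
    rw [pull_comp, hw]

/-- comparison of representing objects over nested opens: a pullback square. -/
theorem isPullback_of_repOn {V : S.Opens} {M : Scheme.{u}} {ξ : G.F.obj (op M)}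
    (h : G.RepOn V M ξ) {M' : Scheme.{u}} {ξ' : G.F.obj (op M')}
    (hu' : ∀ (T : Scheme.{u}) (v v' : T ⟶ M'), G.Lands (G.pull v ξ') V →
      G.pull v ξ' = G.pull v' ξ' → v = v')
    (j : M ⟶ M') (hj : G.pull j ξ' = ξ)
    {B B' : Scheme.{u}} (i : B ⟶ S) (i' : B' ⟶ S) [Mono i] [Mono i'] (hi : Set.range i ⊆ V)
    (k : B ⟶ B') (hk : k ≫ i' = i)
    (m : M ⟶ B) (hm : m ≫ i = G.str ξ) (m' : M' ⟶ B') (hm' : m' ≫ i' = G.str ξ') :
    IsPullback j m m' k := by
  have hw : j ≫ m' = m ≫ k := by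
    rw [← cancel_mono i', Category.assoc, Category.assoc, hm', hk, hm, ← str_pull, hj]
  have hl : ∀ s : PullbackCone m' k, G.Lands (G.pull s.fst ξ') V := fun s =>
    lands_of_fac i hi s.snd (by
      rw [str_pull, ← hm', ← Category.assoc, s.condition, Category.assoc, hk])
  refine ⟨⟨hw⟩, ⟨PullbackCone.IsLimit.mk _ (fun s => (h.2 _ _ (hl s)).exists.choose)
    (fun s => ?_) (fun s => ?_) (fun s l h1 h2 => ?_)⟩⟩
  · have hc := (h.2 _ _ (hl s)).exists.choose_spec
    refine hu' _ _ _ ?_ ?_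
    · rw [pull_comp, hj, hc]
      exact hl s
    · rw [pull_comp, hj, hc]
  · have hc := (h.2 _ _ (hl s)).exists.choose_spec
    rw [← cancel_mono i, Category.assoc, hm, ← str_pull, hc, str_pull, ← hm', ← Category.assoc,
      s.condition, Category.assoc, hk]
  · refine (h.2 _ _ (hl s)).unique ?_ (h.2 _ _ (hl s)).exists.choose_spec
    rw [← hj, ← pull_comp, h1]

end SFun

open SFun

section Glue

/-- the opens over which `G` is representable. -/
def Good (V : S.Opens) : Prop := ∃ (M : Scheme.{u}) (ξ : G.F.obj (op M)), G.RepOn V M ξ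

variable {G} in
theorem Good.of_le {V V' : S.Opens} (hV : Good G V) (hle : V' ≤ V) : Good G V' := by
  obtain ⟨M, ξ, h⟩ := hV
  exact ⟨_, _, h.restrict hle⟩

abbrev GoodOpens : Type u := {V : S.Opens // Good G V}

noncomputable def gM (V : GoodOpens G) : Scheme.{u} := V.2.choose

noncomputable def gξ (V : GoodOpens G) : G.F.obj (op (gM G V)) := V.2.choose_spec.choose

theorem gRep (V : GoodOpens G) : G.RepOn V.1 (gM G V) (gξ G V) := V.2.choose_spec.choose_spec

noncomputable def gm (V : GoodOpens G) : gM G V ⟶ V.1.toScheme :=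
  IsOpenImmersion.lift V.1.ι (G.str (gξ G V)) (by
    rw [Scheme.Opens.range_ι]
    rintro _ ⟨p, rfl⟩
    exact (gRep G V).1 p)

@[reassoc]
lemma gm_ι (V : GoodOpens G) : gm G V ≫ V.1.ι = G.str (gξ G V) := IsOpenImmersion.lift_fac _ _ _

lemma exists_gmap (V V' : GoodOpens G) (hle : V.1 ≤ V'.1) :
    ∃! j : gM G V ⟶ gM G V', G.pull j (gξ G V') = gξ G V :=
  (gRep G V').2 _ (gξ G V) ((gRep G V).1.mono hle)

noncomputable def gmap (V V' : GoodOpens G) (hle : V.1 ≤ V'.1) : gM G V ⟶ gM G V' :=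
  (exists_gmap G V V' hle).exists.choose

lemma pull_gmap (V V' : GoodOpens G) (hle : V.1 ≤ V'.1) :
    G.pull (gmap G V V' hle) (gξ G V') = gξ G V :=
  (exists_gmap G V V' hle).exists.choose_spec

lemma gmap_unique (V V' : GoodOpens G) (hle : V.1 ≤ V'.1) (j : gM G V ⟶ gM G V')
    (hj : G.pull j (gξ G V') = gξ G V) : j = gmap G V V' hle :=
  (exists_gmap G V V' hle).unique hj (pull_gmap G V V' hle)

lemma isPullback_gmap (V V' : GoodOpens G) (hle : V.1 ≤ V'.1) (τ : V.1.toScheme ⟶ V'.1.toScheme)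
    (hτ : τ ≫ V'.1.ι = V.1.ι) : IsPullback (gmap G V V' hle) (gm G V) (gm G V') τ :=
  isPullback_of_repOn (gRep G V)
    (fun T v v' hl hvv' => ((gRep G V').2 T _ (hl.mono hle)).unique rfl hvv'.symm)
    (gmap G V V' hle) (pull_gmap G V V' hle) V.1.ι V'.1.ι
    (by rw [Scheme.Opens.range_ι]) τ hτ (gm G V) (gm_ι G V) (gm G V') (gm_ι G V')

variable (hcov : ∀ s : S, ∃ V : S.Opens, s ∈ V ∧ Good G V)

/-- the open cover by good opens. -/
@[reducible] noncomputable def goodCover : Scheme.OpenCover.{u} S where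
  I₀ := GoodOpens G
  X V := V.1.toScheme
  f V := V.1.ι
  mem₀ := by
    rw [Scheme.presieve₀_mem_precoverage_iff]
    refine ⟨fun x ↦ ?_, inferInstance⟩
    obtain ⟨V, hxV, hg⟩ := hcov x
    exact ⟨⟨V, hg⟩, ⟨x, hxV⟩, rfl⟩

instance : Preorder (goodCover G hcov).I₀ := inferInstanceAs (Preorder (GoodOpens G))

include hcov in
theorem exists_good_le (O : S.Opens) (x : S) (hx : x ∈ O) :
    ∃ V : GoodOpens G, x ∈ V.1 ∧ V.1 ≤ O := by
  obtain ⟨V₁, hxV₁, hg⟩ := hcov x
  exact ⟨⟨V₁ ⊓ O, hg.of_le inf_le_left⟩, ⟨hxV₁, hx⟩, inf_le_right⟩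

include hcov in
theorem isBasis_good : TopologicalSpace.Opens.IsBasis
    (Set.range fun i : (goodCover G hcov).I₀ => ((goodCover G hcov).f i).opensRange) := by
  rw [TopologicalSpace.Opens.isBasis_iff_nbhd]
  intro O x hxO
  obtain ⟨V, hxV, hle⟩ := exists_good_le G hcov O x hxO
  refine ⟨V.1, ⟨V, ?_⟩, hxV, hle⟩
  exact Scheme.Opens.opensRange_ι _

noncomputable instance : (goodCover G hcov).LocallyDirected :=
  Scheme.Cover.LocallyDirected.ofIsBasisOpensRange (by
    intro i j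
    change i.1 ≤ j.1 ↔ (i.1.ι).opensRange ≤ (j.1.ι).opensRange
    rw [Scheme.Opens.opensRange_ι, Scheme.Opens.opensRange_ι]) (isBasis_good G hcov)

/-- the relative gluing datum of the local representing objects. -/
noncomputable def gd : Scheme.Cover.RelativeGluingData (goodCover G hcov) where
  functor :=
    { obj := fun V => gM G V
      map := fun {V V'} hij => gmap G V V' (leOfHom hij)
      map_id := fun V => (gmap_unique G V V _ _ (by simp)).symm
      map_comp := fun {V₁ V₂ V₃} h₁₂ h₂₃ => (gmap_unique G V₁ V₃ _ _ (by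
        rw [pull_comp, pull_gmap, pull_gmap])).symm }
  natTrans :=
    { app := fun V => gm G V
      naturality := fun V V' hij => (isPullback_gmap G V V' (leOfHom hij)
        ((goodCover G hcov).trans hij) ((goodCover G hcov).trans_map hij)).w }
  equifibered := fun V V' hij => isPullback_gmap G V V' (leOfHom hij)
    ((goodCover G hcov).trans hij) ((goodCover G hcov).trans_map hij)

instance : ((gd G hcov).functor ⋙ Scheme.forget).IsLocallyDirected :=
  Scheme.Cover.RelativeGluingData.instIsLocallyDirectedI₀CompFunctorForgetOfIsThin (gd G hcov)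

end Glue

end Groth.Agent.Lib.Helper10.ZarRep
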