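import Mathlib
import Groth.Agent.Lib.Helper10.ZarRep

/-!
# Representability is Zariski local on the base: the gluing theorem
-/

set_option autoImplicit false
set_option backward.isDefEq.respectTransparency.types false
set_option maxHeartbeats 4000000
set_option synthInstance.maxHeartbeats 400000
universe u
open CategoryTheory CategoryTheory.Limits AlgebraicGeometry Opposite TopologicalSpace

namespace Groth.Agent.Lib.Helper10.ZarRep

open SFun

variable {S : Scheme.{u}} (G : SFun S)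

section Main

variable (hS : G.IsSheaf) (hcov : ∀ s : S, ∃ V : S.Opens, s ∈ V ∧ Good G V)

/-- the charts of the glued scheme. -/
noncomputable abbrev chart (V : GoodOpens G) : gM G V ⟶ (gd G hcov).glued :=
  colimit.ι (gd G hcov).functor V

instance (V : GoodOpens G) : IsOpenImmersion (chart G hcov V) :=
  (gd G hcov).cover.map_prop V

lemma chart_toBase (V : GoodOpens G) :
    chart G hcov V ≫ (gd G hcov).toBase = G.str (gξ G V) := by
  have := (gd G hcov).ι_toBase V
  exact this.trans (gm_ι G V)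

lemma gmap_chart (V V' : GoodOpens G) (hle : V.1 ≤ V'.1) :
    gmap G V V' hle ≫ chart G hcov V' = chart G hcov V :=
  colimit.w (gd G hcov).functor (homOfLE (show V ≤ V' from hle))

include hS in
lemma compat (V V' : GoodOpens G) {Z : Scheme.{u}} (a : Z ⟶ gM G V) (b : Z ⟶ gM G V')
    (hab : a ≫ chart G hcov V = b ≫ chart G hcov V') :
    G.pull a (gξ G V) = G.pull b (gξ G V') := by
  apply hS.sep_of_forall
  intro p
  have hstr : a ≫ G.str (gξ G V) = b ≫ G.str (gξ G V') := by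
    rw [← chart_toBase G hcov, ← chart_toBase G hcov, ← Category.assoc, hab, Category.assoc]
  have hs : (a ≫ G.str (gξ G V)) p ∈ V.1 ⊓ V'.1 := by
    refine ⟨?_, ?_⟩
    · rw [Scheme.Hom.comp_apply]
      exact (gRep G V).1 _
    · rw [hstr, Scheme.Hom.comp_apply]
      exact (gRep G V').1 _
  obtain ⟨W, hpW, hWle⟩ := exists_good_le G hcov (V.1 ⊓ V'.1) _ hs
  refine ⟨(a ≫ G.str (gξ G V)) ⁻¹ᵁ W.1, hpW, ?_⟩
  have hl1 : G.Lands (G.pull (((a ≫ G.str (gξ G V)) ⁻¹ᵁ W.1).ι ≫ a) (gξ G V)) W.1 := by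
    intro q
    rw [str_pull, Category.assoc, Scheme.Hom.comp_apply]
    exact q.2
  have hl2 : G.Lands (G.pull (((a ≫ G.str (gξ G V)) ⁻¹ᵁ W.1).ι ≫ b) (gξ G V')) W.1 := by
    intro q
    rw [str_pull, Category.assoc, ← hstr, Scheme.Hom.comp_apply]
    exact q.2
  obtain ⟨a', ha', -⟩ := (gRep G W).2 _ _ hl1
  obtain ⟨b', hb', -⟩ := (gRep G W).2 _ _ hl2
  have hWV : W.1 ≤ V.1 := hWle.trans inf_le_left
  have hWV' : W.1 ≤ V'.1 := hWle.trans inf_le_right
  have e1 : a' ≫ gmap G W V hWV = ((a ≫ G.str (gξ G V)) ⁻¹ᵁ W.1).ι ≫ a := by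
    refine ((gRep G V).2 _ _ (hl1.mono hWV)).unique ?_ rfl
    rw [pull_comp, pull_gmap, ha']
  have e2 : b' ≫ gmap G W V' hWV' = ((a ≫ G.str (gξ G V)) ⁻¹ᵁ W.1).ι ≫ b := by
    refine ((gRep G V').2 _ _ (hl2.mono hWV')).unique ?_ rfl
    rw [pull_comp, pull_gmap, hb']
  have e3 : a' = b' := by
    rw [← cancel_mono (chart G hcov W)]
    calc a' ≫ chart G hcov W = a' ≫ gmap G W V hWV ≫ chart G hcov V := by rw [gmap_chart]
      _ = (((a ≫ G.str (gξ G V)) ⁻¹ᵁ W.1).ι ≫ a) ≫ chart G hcov V := by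
          rw [← Category.assoc, e1]
      _ = (((a ≫ G.str (gξ G V)) ⁻¹ᵁ W.1).ι ≫ b) ≫ chart G hcov V' := by
          rw [Category.assoc, hab, Category.assoc]
      _ = b' ≫ gmap G W V' hWV' ≫ chart G hcov V' := by rw [← e2, Category.assoc]
      _ = b' ≫ chart G hcov W := by rw [gmap_chart]
  rw [← pull_comp, ← pull_comp, ← ha', ← hb', e3]

include hcov in
/-- compatibility of the local classifying maps on overlaps. -/
lemma glue_compat {T : Scheme.{u}} (x : G.F.obj (op T)) (V V' : GoodOpens G) {A A' : Scheme.{u}}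
    (f : A ⟶ T) (f' : A' ⟶ T) (vA : A ⟶ gM G V) (vA' : A' ⟶ gM G V')
    (hvA : G.pull vA (gξ G V) = G.pull f x) (hvA' : G.pull vA' (gξ G V') = G.pull f' x) :
    pullback.fst f f' ≫ (vA ≫ chart G hcov V) = pullback.snd f f' ≫ (vA' ≫ chart G hcov V') := by
  apply Scheme.hom_ext_of_forall
  intro p
  have hc : pullback.fst f f' ≫ f = pullback.snd f f' ≫ f' := pullback.condition
  have hlA : G.Lands (G.pull f x) V.1 := hvA ▸ (gRep G V).1.pull vA
  have hlA' : G.Lands (G.pull f' x) V'.1 := hvA' ▸ (gRep G V').1.pull vA'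
  have hs : (pullback.fst f f' ≫ f ≫ G.str x) p ∈ V.1 ⊓ V'.1 := by
    refine ⟨?_, ?_⟩
    · have := hlA (pullback.fst f f' p)
      rw [str_pull] at this
      rw [Scheme.Hom.comp_apply]
      exact this
    · have := hlA' (pullback.snd f f' p)
      rw [str_pull] at this
      rw [← Category.assoc, hc, Category.assoc, Scheme.Hom.comp_apply]
      exact this
  obtain ⟨W, hpW, hWle⟩ := exists_good_le G hcov (V.1 ⊓ V'.1) _ hs
  have hWV : W.1 ≤ V.1 := hWle.trans inf_le_left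
  have hWV' : W.1 ≤ V'.1 := hWle.trans inf_le_right
  refine ⟨(pullback.fst f f' ≫ f ≫ G.str x) ⁻¹ᵁ W.1, hpW, ?_⟩
  generalize hU : (pullback.fst f f' ≫ f ≫ G.str x) ⁻¹ᵁ W.1 = U
  have hlU : G.Lands (G.pull (U.ι ≫ pullback.fst f f' ≫ f) x) W.1 := by
    intro q
    subst hU
    rw [str_pull, Category.assoc, Category.assoc, Scheme.Hom.comp_apply]
    exact q.2
  obtain ⟨a, ha, -⟩ := (gRep G W).2 _ _ hlU
  have e1 : U.ι ≫ pullback.fst f f' ≫ vA = a ≫ gmap G W V hWV := by
    refine ((gRep G V).2 _ _ (hlU.mono hWV)).unique ?_ ?_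
    · rw [pull_comp, pull_comp, hvA, ← pull_comp, ← pull_comp]
      simp only [Category.assoc]
    · rw [pull_comp, pull_gmap, ha]
  have e2 : U.ι ≫ pullback.snd f f' ≫ vA' = a ≫ gmap G W V' hWV' := by
    refine ((gRep G V').2 _ _ (hlU.mono hWV')).unique ?_ ?_
    · rw [pull_comp, pull_comp, hvA', ← pull_comp, ← pull_comp]
      simp only [Category.assoc]
      rw [← hc]
    · rw [pull_comp, pull_gmap, ha]
  calc U.ι ≫ pullback.fst f f' ≫ vA ≫ chart G hcov V
      = (U.ι ≫ pullback.fst f f' ≫ vA) ≫ chart G hcov V := by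
        simp only [Category.assoc]
    _ = a ≫ chart G hcov W := by rw [e1, Category.assoc, gmap_chart]
    _ = (U.ι ≫ pullback.snd f f' ≫ vA') ≫ chart G hcov V' := by
        rw [e2, Category.assoc, gmap_chart]
    _ = U.ι ≫ pullback.snd f f' ≫ vA' ≫ chart G hcov V' := by
        simp only [Category.assoc]

include hS in
lemma exists_ξ : ∃ ξ : G.F.obj (op (gd G hcov).glued),
    ∀ V : GoodOpens G, G.pull (chart G hcov V) ξ = gξ G V :=
  hS.glue (gd G hcov).cover (fun V => gξ G V)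
    (fun V V' Z a b hab => compat G hS hcov V V' a b hab)

include hS hcov in
/-- **Zariski gluing of representability.** -/
theorem exists_rep : ∃ (M : Scheme.{u}) (ξ : G.F.obj (op M)), G.Rep M ξ := by
  obtain ⟨ξ, hξ⟩ := exists_ξ G hS hcov
  have hstr : G.str ξ = (gd G hcov).toBase := by
    refine (gd G hcov).cover.hom_ext _ _ (fun V => ?_)
    change chart G hcov V ≫ _ = chart G hcov V ≫ _
    rw [← str_pull, hξ, chart_toBase]
  refine ⟨_, ξ, ?_⟩
  intro T x
  let TV : GoodOpens G → T.Opens := fun V => (G.str x) ⁻¹ᵁ V.1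
  have hTV : IsOpenCover TV := by
    rw [IsOpenCover, eq_top_iff]
    intro p _
    obtain ⟨V, hpV, hg⟩ := hcov (G.str x p)
    exact Opens.mem_iSup.mpr ⟨⟨V, hg⟩, hpV⟩
  let 𝒯 : Scheme.OpenCover.{u} T := T.openCoverOfIsOpenCover TV hTV
  have hl : ∀ V, G.Lands (G.pull (TV V).ι x) V.1 := fun V q => by
    rw [str_pull, Scheme.Hom.comp_apply]
    exact q.2
  have hex : ∀ V, ∃ v : (TV V).toScheme ⟶ gM G V, G.pull v (gξ G V) = G.pull (TV V).ι x :=
    fun V => ((gRep G V).2 _ _ (hl V)).exists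
  choose v hv using hex
  have compat' : ∀ V V' : GoodOpens G,
      pullback.fst (𝒯.f V) (𝒯.f V') ≫ (v V ≫ chart G hcov V) =
        pullback.snd (𝒯.f V) (𝒯.f V') ≫ (v V' ≫ chart G hcov V') :=
    fun V V' => glue_compat G hcov x V V' (𝒯.f V) (𝒯.f V') (v V) (v V') (hv V) (hv V')
  refine ⟨𝒯.glueMorphisms (fun V => v V ≫ chart G hcov V) compat', ?_, fun w' hw' => ?_⟩
  · refine hS.sep 𝒯 _ _ (fun V => ?_)
    rw [← pull_comp, Scheme.Cover.ι_glueMorphisms, pull_comp, hξ]
    exact hv V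
  · refine 𝒯.hom_ext _ _ (fun V => ?_)
    rw [Scheme.Cover.ι_glueMorphisms]
    have hpb : IsPullback (gm G V) (chart G hcov V) V.1.ι (gd G hcov).toBase :=
      (gd G hcov).isPullback_natTrans_ι_toBase V
    have hcond : ((G.str x) ∣_ V.1) ≫ V.1.ι = ((TV V).ι ≫ w') ≫ (gd G hcov).toBase := by
      calc ((G.str x) ∣_ V.1) ≫ V.1.ι = (TV V).ι ≫ G.str x := morphismRestrict_ι _ _
        _ = (TV V).ι ≫ (w' ≫ G.str ξ) := by rw [← str_pull G w' ξ, hw']
        _ = ((TV V).ι ≫ w') ≫ (gd G hcov).toBase := by rw [hstr, Category.assoc]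
    have hb : hpb.lift ((G.str x) ∣_ V.1) ((TV V).ι ≫ w') hcond = v V := by
      refine ((gRep G V).2 _ _ (hl V)).unique ?_ (hv V)
      rw [← hξ V, ← pull_comp, hpb.lift_snd, pull_comp, hw']
    change (TV V).ι ≫ w' = _
    rw [← hb]
    exact (hpb.lift_snd _ _ _).symm

end Main

/-- transfer of local properties of the structure map. -/
theorem Rep.property_of_local {G : SFun S} (P : MorphismProperty Scheme.{u})
    [IsZariskiLocalAtTarget P] {M : Scheme.{u}} {ξ : G.F.obj (op M)} (hR : G.Rep M ξ)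
    (h : ∀ s : S, ∃ (V : S.Opens) (M' : Scheme.{u}) (ξ' : G.F.obj (op M'))
      (m : M' ⟶ V.toScheme), s ∈ V ∧ G.RepOn V M' ξ' ∧ m ≫ V.ι = G.str ξ' ∧ P m) :
    P (G.str ξ) := by
  choose V M' ξ' m hsV hRep hm hP using h
  have hV : IsOpenCover V := by
    rw [IsOpenCover, eq_top_iff]
    intro p _
    exact Opens.mem_iSup.mpr ⟨p, hsV p⟩
  rw [IsZariskiLocalAtTarget.iff_of_openCover (P := P) (S.openCoverOfIsOpenCover V hV)]
  intro s
  obtain ⟨j, hj, -⟩ := hR _ (ξ' s)
  have hp : IsPullback j (m s) (G.str ξ) (V s).ι :=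
    isPullback_of_repOn (hRep s) (fun T v v' _ hvv' => (hR T _).unique rfl hvv'.symm) j hj
      (V s).ι (𝟙 S) (by rw [Scheme.Opens.range_ι]) (V s).ι (Category.comp_id _) (m s) (hm s)
      (G.str ξ) (Category.comp_id _)
  change P (pullback.snd (G.str ξ) (V s).ι)
  rw [← hp.isoPullback_inv_snd]
  exact (MorphismProperty.cancel_left_of_respectsIso P _ _).mpr (hP s)

end Groth.Agent.Lib.Helper10.ZarRep
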