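import Mathlib
import Groth.Agent.Lib.Helper10.ZarRep2

/-!
# The functor of morphisms `T ↦ Hom_S(X ×_S T, Y)` as a Zariski sheaf over `S`
-/

set_option autoImplicit false
set_option backward.isDefEq.respectTransparency.types false
set_option maxHeartbeats 4000000
set_option synthInstance.maxHeartbeats 400000
universe u
open CategoryTheory CategoryTheory.Limits AlgebraicGeometry Opposite MonoidalCategory
  CartesianMonoidalCategory

namespace Groth.Agent.Lib.Helper10.HomFun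

open Groth.Agent.Lib.Helper10.ZarRep

variable {S : Scheme.{u}} (X Y : Over S)

/-- families of morphisms `X ×_S T ⟶ Y` over `S`, with `T` varying over all `S`-schemes. -/
abbrev El (T : Scheme.{u}) : Type u := Σ t : T ⟶ S, (X ⊗ Over.mk t ⟶ Y)

variable {X Y}

section Maps
variable (X)

/-- the base change map `X ×_S T' ⟶ X ×_S T`. -/
noncomputable def pbMap {T T' : Scheme.{u}} (g : T' ⟶ T) (t : T ⟶ S) :
    pullback X.hom (g ≫ t) ⟶ pullback X.hom t :=
  pullback.map _ _ _ _ (𝟙 _) g (𝟙 _) (by simp) (by simp)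

@[reassoc (attr := simp)]
lemma pbMap_fst {T T' : Scheme.{u}} (g : T' ⟶ T) (t : T ⟶ S) :
    pbMap X g t ≫ pullback.fst _ _ = pullback.fst _ _ :=
  (pullback.lift_fst _ _ _).trans (Category.comp_id _)

@[reassoc (attr := simp)]
lemma pbMap_snd {T T' : Scheme.{u}} (g : T' ⟶ T) (t : T ⟶ S) :
    pbMap X g t ≫ pullback.snd _ _ = pullback.snd _ _ ≫ g :=
  pullback.lift_snd _ _ _

lemma whiskerLeft_homMk_left {T T' : Scheme.{u}} (g : T' ⟶ T) (t : T ⟶ S) :
    (X ◁ (Over.homMk g rfl : Over.mk (g ≫ t) ⟶ Over.mk t)).left = pbMap X g t := rfl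

/-- transport along an equality of structure maps. -/
noncomputable def castMap {T : Scheme.{u}} {t t' : T ⟶ S} (h : t = t') :
    pullback X.hom t ⟶ pullback X.hom t' :=
  pullback.map _ _ _ _ (𝟙 _) (𝟙 _) (𝟙 _) (by simp) (by simp [h])

@[reassoc (attr := simp)]
lemma castMap_fst {T : Scheme.{u}} {t t' : T ⟶ S} (h : t = t') :
    castMap X h ≫ pullback.fst _ _ = pullback.fst _ _ :=
  (pullback.lift_fst _ _ _).trans (Category.comp_id _)

@[reassoc (attr := simp)]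
lemma castMap_snd {T : Scheme.{u}} {t t' : T ⟶ S} (h : t = t') :
    castMap X h ≫ pullback.snd _ _ = pullback.snd _ _ :=
  (pullback.lift_snd _ _ _).trans (Category.comp_id _)

@[simp] lemma castMap_rfl {T : Scheme.{u}} (t : T ⟶ S) : castMap X (rfl : t = t) = 𝟙 _ := by
  apply pullback.hom_ext <;> simp

end Maps

lemma El.ext' {T : Scheme.{u}} {t t' : T ⟶ S} (h : t = t') (φ : X ⊗ Over.mk t ⟶ Y)
    (φ' : X ⊗ Over.mk t' ⟶ Y) (hφ : φ.left = castMap X h ≫ φ'.left) :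
    (⟨t, φ⟩ : El X Y T) = ⟨t', φ'⟩ := by
  subst h
  congr 1
  ext
  rw [hφ, castMap_rfl]
  exact Category.id_comp _

lemma El.ext_iff' {T : Scheme.{u}} {t t' : T ⟶ S} (φ : X ⊗ Over.mk t ⟶ Y)
    (φ' : X ⊗ Over.mk t' ⟶ Y) (h : (⟨t, φ⟩ : El X Y T) = ⟨t', φ'⟩) :
    ∃ h : t = t', φ.left = castMap X h ≫ φ'.left := by
  cases h
  refine ⟨rfl, ?_⟩
  rw [castMap_rfl]
  exact (Category.id_comp _).symm

/-- pullback of families. -/
noncomputable def elMap {T T' : Scheme.{u}} (g : T' ⟶ T) (x : El X Y T) : El X Y T' :=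
  ⟨g ≫ x.1, (X ◁ (Over.homMk g rfl : Over.mk (g ≫ x.1) ⟶ Over.mk x.1)) ≫ x.2⟩

lemma elMap_fst {T T' : Scheme.{u}} (g : T' ⟶ T) (x : El X Y T) : (elMap g x).1 = g ≫ x.1 := rfl

lemma elMap_snd_left {T T' : Scheme.{u}} (g : T' ⟶ T) (x : El X Y T) :
    (elMap g x).2.left = pbMap X g x.1 ≫ x.2.left := rfl

lemma El.ext'' {T : Scheme.{u}} (x y : El X Y T) (h : x.1 = y.1)
    (hφ : x.2.left = castMap X h ≫ y.2.left) : x = y := by
  obtain ⟨t, φ⟩ := x
  obtain ⟨t', φ'⟩ := y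
  exact El.ext' h φ φ' hφ

lemma elMap_id {T : Scheme.{u}} (x : El X Y T) : elMap (𝟙 T) x = x := by
  refine El.ext'' _ _ (Category.id_comp x.1) ?_
  rw [elMap_snd_left]
  congr 1

lemma elMap_comp {T T' T'' : Scheme.{u}} (g' : T'' ⟶ T') (g : T' ⟶ T) (x : El X Y T) :
    elMap (g' ≫ g) x = elMap g' (elMap g x) := by
  refine El.ext'' _ _ (Category.assoc g' g x.1) ?_
  have key : pbMap X (g' ≫ g) x.1 =
      castMap X (Category.assoc g' g x.1) ≫ pbMap X g' (g ≫ x.1) ≫ pbMap X g x.1 := by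
    apply pullback.hom_ext
    · rw [pbMap_fst, Category.assoc (castMap X _), Category.assoc (pbMap X g' _), pbMap_fst,
        pbMap_fst, castMap_fst]
    · rw [pbMap_snd, Category.assoc (castMap X _), Category.assoc (pbMap X g' _), pbMap_snd,
        pbMap_snd_assoc, castMap_snd_assoc]
  change pbMap X (g' ≫ g) x.1 ≫ x.2.left =
    castMap X (Category.assoc g' g x.1) ≫ (pbMap X g' (g ≫ x.1) ≫ (pbMap X g x.1 ≫ x.2.left))
  rw [key]
  simp only [Category.assoc]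

variable (X Y)

/-- the functor of families of morphisms. -/
noncomputable def homFun : SFun S where
  F :=
    { obj := fun T => El X Y T.unop
      map := fun g => ↾(fun x => elMap g.unop x)
      map_id := fun T => ConcreteCategory.hom_ext _ _ (fun x => elMap_id x)
      map_comp := fun g g' => ConcreteCategory.hom_ext _ _
        (fun x => elMap_comp g'.unop g.unop x) }
  str := fun x => x.1
  str_map := fun _ _ => rfl

variable {X Y}

lemma pull_eq {T T' : Scheme.{u}} (g : T' ⟶ T) (x : El X Y T) :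
    (homFun X Y).pull g x = elMap g x := rfl

/-- evaluation of a family at a point of `X`. -/
noncomputable def evalAt {Z : Scheme.{u}} (e : El X Y Z) (c : Z ⟶ X.left)
    (hc : c ≫ X.hom = e.1) : Z ⟶ Y.left :=
  pullback.lift c (𝟙 Z) (by rw [hc]; exact (Category.id_comp _).symm) ≫ e.2.left

lemma evalAt_congr {Z : Scheme.{u}} {e e' : El X Y Z} (h : e = e') (c : Z ⟶ X.left)
    (hc : c ≫ X.hom = e.1) : evalAt e c hc = evalAt e' c (h ▸ hc) := by
  subst h
  rfl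

lemma evalAt_elMap {Z T : Scheme.{u}} (a : Z ⟶ T) (x : El X Y T) (c : Z ⟶ X.left)
    (hc : c ≫ X.hom = a ≫ x.1) :
    evalAt (elMap a x) c hc = pullback.lift c a hc ≫ x.2.left := by
  have key : pullback.lift c (𝟙 Z) (by rw [hc]; exact (Category.id_comp _).symm) ≫
      pbMap X a x.1 = pullback.lift c a hc := by
    apply pullback.hom_ext
    · rw [Category.assoc, pbMap_fst, pullback.lift_fst, pullback.lift_fst]
    · rw [Category.assoc, pbMap_snd, pullback.lift_snd_assoc, pullback.lift_snd, Category.id_comp]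
  rw [← key, Category.assoc]
  rfl

section Sheaf

variable {T : Scheme.{u}} (𝒰 : Scheme.OpenCover.{u} T)

variable (X)

/-- the comparison of the two descriptions of `X ×_S Uᵢ`. -/
noncomputable def kap (t : T ⟶ S) (i : 𝒰.I₀) {ti : 𝒰.X i ⟶ S} (hti : 𝒰.f i ≫ t = ti) :
    pullback (pullback.snd X.hom t) (𝒰.f i) ⟶ pullback X.hom ti :=
  pullback.lift (pullback.fst _ _ ≫ pullback.fst _ _) (pullback.snd _ _) (by
    rw [Category.assoc, pullback.condition, ← hti, pullback.condition_assoc])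

@[reassoc (attr := simp)]
lemma kap_fst (t : T ⟶ S) (i : 𝒰.I₀) {ti : 𝒰.X i ⟶ S} (hti : 𝒰.f i ≫ t = ti) :
    kap X 𝒰 t i hti ≫ pullback.fst _ _ = pullback.fst _ _ ≫ pullback.fst _ _ :=
  pullback.lift_fst _ _ _

@[reassoc (attr := simp)]
lemma kap_snd (t : T ⟶ S) (i : 𝒰.I₀) {ti : 𝒰.X i ⟶ S} (hti : 𝒰.f i ≫ t = ti) :
    kap X 𝒰 t i hti ≫ pullback.snd _ _ = pullback.snd _ _ :=
  pullback.lift_snd _ _ _

lemma kap_pbMap (t : T ⟶ S) (i : 𝒰.I₀) :
    kap X 𝒰 t i rfl ≫ pbMap X (𝒰.f i) t = pullback.fst (pullback.snd X.hom t) (𝒰.f i) := by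
  apply pullback.hom_ext
  · rw [Category.assoc, pbMap_fst, kap_fst]
  · rw [Category.assoc, pbMap_snd, kap_snd_assoc, pullback.condition]

/-- the inverse comparison. -/
noncomputable def nu (t : T ⟶ S) (i : 𝒰.I₀) :
    pullback X.hom (𝒰.f i ≫ t) ⟶ pullback (pullback.snd X.hom t) (𝒰.f i) :=
  pullback.lift (pbMap X (𝒰.f i) t) (pullback.snd _ _) (pbMap_snd X _ _)

@[reassoc (attr := simp)]
lemma nu_fst (t : T ⟶ S) (i : 𝒰.I₀) : nu X 𝒰 t i ≫ pullback.fst _ _ = pbMap X (𝒰.f i) t :=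
  pullback.lift_fst _ _ _

@[reassoc (attr := simp)]
lemma nu_snd (t : T ⟶ S) (i : 𝒰.I₀) : nu X 𝒰 t i ≫ pullback.snd _ _ = pullback.snd _ _ :=
  pullback.lift_snd _ _ _

lemma nu_kap (t : T ⟶ S) (i : 𝒰.I₀) {ti : 𝒰.X i ⟶ S} (hti : 𝒰.f i ≫ t = ti) :
    nu X 𝒰 t i ≫ kap X 𝒰 t i hti = castMap X hti := by
  apply pullback.hom_ext
  · rw [Category.assoc, kap_fst, nu_fst_assoc, pbMap_fst, castMap_fst]
  · rw [Category.assoc, kap_snd, nu_snd, castMap_snd]

variable {X}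

theorem homFun_sep (x y : El X Y T) (h : ∀ i, elMap (𝒰.f i) x = elMap (𝒰.f i) y) : x = y := by
  obtain ⟨t, φ⟩ := x
  obtain ⟨t', φ'⟩ := y
  have ht : t = t' := 𝒰.hom_ext _ _ (fun i => congrArg Sigma.fst (h i))
  subst ht
  refine El.ext' rfl _ _ ?_
  rw [castMap_rfl, Category.id_comp]
  refine Scheme.Cover.hom_ext (𝒰.pullback₁ (pullback.snd X.hom t)) _ _ (fun i => ?_)
  change pullback.fst (pullback.snd X.hom t) (𝒰.f i) ≫ _ = pullback.fst _ _ ≫ _
  obtain ⟨h1, h2⟩ := El.ext_iff' _ _ (h i)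
  rw [castMap_rfl, Category.id_comp] at h2
  have h3 : pbMap X (𝒰.f i) t ≫ φ.left = pbMap X (𝒰.f i) t ≫ φ'.left := h2
  rw [← kap_pbMap X 𝒰 t i, Category.assoc, Category.assoc, h3]

/-- compatibility of the local families on the overlaps. -/
lemma compat_aux (t : T ⟶ S) (x : ∀ i, El X Y (𝒰.X i))
    (hx : ∀ (i j : 𝒰.I₀) (Z : Scheme.{u}) (a : Z ⟶ 𝒰.X i) (b : Z ⟶ 𝒰.X j),
      a ≫ 𝒰.f i = b ≫ 𝒰.f j → elMap a (x i) = elMap b (x j))
    (ht : ∀ i, 𝒰.f i ≫ t = (x i).1) (i j : 𝒰.I₀) {Z : Scheme.{u}}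
    (p : Z ⟶ pullback (pullback.snd X.hom t) (𝒰.f i))
    (q : Z ⟶ pullback (pullback.snd X.hom t) (𝒰.f j))
    (hpq : p ≫ pullback.fst _ _ = q ≫ pullback.fst _ _) :
    p ≫ kap X 𝒰 t i (ht i) ≫ (x i).2.left = q ≫ kap X 𝒰 t j (ht j) ≫ (x j).2.left := by
  have hab : (p ≫ pullback.snd (pullback.snd X.hom t) (𝒰.f i)) ≫ 𝒰.f i =
      (q ≫ pullback.snd (pullback.snd X.hom t) (𝒰.f j)) ≫ 𝒰.f j := by
    calc (p ≫ pullback.snd (pullback.snd X.hom t) (𝒰.f i)) ≫ 𝒰.f i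
        = (p ≫ pullback.fst (pullback.snd X.hom t) (𝒰.f i)) ≫ pullback.snd X.hom t := by
          rw [Category.assoc, Category.assoc, pullback.condition]
      _ = (q ≫ pullback.fst (pullback.snd X.hom t) (𝒰.f j)) ≫ pullback.snd X.hom t := by
          rw [hpq]
      _ = (q ≫ pullback.snd (pullback.snd X.hom t) (𝒰.f j)) ≫ 𝒰.f j := by
          rw [Category.assoc, Category.assoc, pullback.condition]
  have hE := hx i j Z _ _ hab
  have hc1 : (p ≫ pullback.fst (pullback.snd X.hom t) (𝒰.f i) ≫ pullback.fst X.hom t) ≫ X.hom =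
      (p ≫ pullback.snd (pullback.snd X.hom t) (𝒰.f i)) ≫ (x i).1 := by
    rw [← ht i]
    simp only [Category.assoc]
    rw [pullback.condition, pullback.condition_assoc]
  have hc2 : (p ≫ pullback.fst (pullback.snd X.hom t) (𝒰.f i) ≫ pullback.fst X.hom t) ≫ X.hom =
      (q ≫ pullback.snd (pullback.snd X.hom t) (𝒰.f j)) ≫ (x j).1 := by
    calc (p ≫ pullback.fst (pullback.snd X.hom t) (𝒰.f i) ≫ pullback.fst X.hom t) ≫ X.hom
        = ((p ≫ pullback.fst (pullback.snd X.hom t) (𝒰.f i)) ≫ pullback.fst X.hom t) ≫ X.hom := by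
          simp only [Category.assoc]
      _ = ((q ≫ pullback.fst (pullback.snd X.hom t) (𝒰.f j)) ≫ pullback.fst X.hom t) ≫ X.hom := by
          rw [hpq]
      _ = (q ≫ pullback.snd (pullback.snd X.hom t) (𝒰.f j)) ≫ (x j).1 := by
          rw [← ht j]
          simp only [Category.assoc]
          rw [pullback.condition, pullback.condition_assoc]
  have h1 := evalAt_congr hE _ hc1
  rw [evalAt_elMap, evalAt_elMap _ _ _ hc2] at h1
  have e1 : p ≫ kap X 𝒰 t i (ht i) =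
      pullback.lift (p ≫ pullback.fst (pullback.snd X.hom t) (𝒰.f i) ≫ pullback.fst X.hom t)
        (p ≫ pullback.snd (pullback.snd X.hom t) (𝒰.f i)) hc1 := by
    apply pullback.hom_ext
    · rw [Category.assoc, kap_fst, pullback.lift_fst]
    · rw [Category.assoc, kap_snd, pullback.lift_snd]
  have e2 : q ≫ kap X 𝒰 t j (ht j) =
      pullback.lift (p ≫ pullback.fst (pullback.snd X.hom t) (𝒰.f i) ≫ pullback.fst X.hom t)
        (q ≫ pullback.snd (pullback.snd X.hom t) (𝒰.f j)) hc2 := by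
    apply pullback.hom_ext
    · rw [Category.assoc, kap_fst, pullback.lift_fst, ← Category.assoc, ← hpq, Category.assoc]
    · rw [Category.assoc, kap_snd, pullback.lift_snd]
  calc p ≫ kap X 𝒰 t i (ht i) ≫ (x i).2.left
      = (p ≫ kap X 𝒰 t i (ht i)) ≫ (x i).2.left := (Category.assoc _ _ _).symm
    _ = pullback.lift (p ≫ pullback.fst (pullback.snd X.hom t) (𝒰.f i) ≫ pullback.fst X.hom t)
        (p ≫ pullback.snd (pullback.snd X.hom t) (𝒰.f i)) hc1 ≫ (x i).2.left := by rw [e1]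
    _ = pullback.lift (p ≫ pullback.fst (pullback.snd X.hom t) (𝒰.f i) ≫ pullback.fst X.hom t)
        (q ≫ pullback.snd (pullback.snd X.hom t) (𝒰.f j)) hc2 ≫ (x j).2.left := h1
    _ = (q ≫ kap X 𝒰 t j (ht j)) ≫ (x j).2.left := by rw [e2]
    _ = q ≫ kap X 𝒰 t j (ht j) ≫ (x j).2.left := Category.assoc _ _ _

theorem homFun_glue (x : ∀ i, El X Y (𝒰.X i))
    (hx : ∀ (i j : 𝒰.I₀) (Z : Scheme.{u}) (a : Z ⟶ 𝒰.X i) (b : Z ⟶ 𝒰.X j),
      a ≫ 𝒰.f i = b ≫ 𝒰.f j → elMap a (x i) = elMap b (x j)) :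
    ∃ y : El X Y T, ∀ i, elMap (𝒰.f i) y = x i := by
  have compat₁ : ∀ i j, pullback.fst (𝒰.f i) (𝒰.f j) ≫ (x i).1 = pullback.snd _ _ ≫ (x j).1 :=
    fun i j => congrArg Sigma.fst (hx i j _ _ _ pullback.condition)
  let t : T ⟶ S := 𝒰.glueMorphisms (fun i => (x i).1) compat₁
  have ht : ∀ i, 𝒰.f i ≫ t = (x i).1 := fun i => 𝒰.ι_glueMorphisms _ _ i
  let 𝒲 : Scheme.OpenCover.{u} (pullback X.hom t) := 𝒰.pullback₁ (pullback.snd X.hom t)
  let ψ : ∀ i : 𝒰.I₀, pullback (pullback.snd X.hom t) (𝒰.f i) ⟶ Y.left :=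
    fun i => kap X 𝒰 t i (ht i) ≫ (x i).2.left
  have compat₂ : ∀ i j : 𝒰.I₀, pullback.fst (𝒲.f i) (𝒲.f j) ≫ ψ i = pullback.snd _ _ ≫ ψ j :=
    fun i j => compat_aux 𝒰 t x hx ht i j _ _ pullback.condition
  let φl : pullback X.hom t ⟶ Y.left := 𝒲.glueMorphisms ψ compat₂
  have hφl : ∀ i : 𝒰.I₀, pullback.fst (pullback.snd X.hom t) (𝒰.f i) ≫ φl = ψ i :=
    fun i => 𝒲.ι_glueMorphisms ψ compat₂ i
  have hw : φl ≫ Y.hom = (X ⊗ Over.mk t).hom := by
    refine 𝒲.hom_ext _ _ (fun i => ?_)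
    change pullback.fst (pullback.snd X.hom t) (𝒰.f i) ≫ φl ≫ Y.hom =
      pullback.fst (pullback.snd X.hom t) (𝒰.f i) ≫ pullback.fst X.hom t ≫ X.hom
    rw [← Category.assoc, hφl]
    change (kap X 𝒰 t i (ht i) ≫ (x i).2.left) ≫ Y.hom = _
    rw [Category.assoc, Over.w (x i).2]
    change kap X 𝒰 t i (ht i) ≫ pullback.fst X.hom (x i).1 ≫ X.hom = _
    rw [kap_fst_assoc]
  refine ⟨⟨t, Over.homMk φl hw⟩, fun i => ?_⟩
  refine El.ext'' _ _ (ht i) ?_
  rw [elMap_snd_left]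
  change pbMap X (𝒰.f i) t ≫ φl = castMap X (ht i) ≫ (x i).2.left
  rw [← nu_kap X 𝒰 t i (ht i), ← nu_fst X 𝒰 t i, Category.assoc, Category.assoc]
  congr 1
  exact hφl i

end Sheaf

variable (X Y) in
/-- the functor of families of morphisms is a Zariski sheaf. -/
theorem homFun_isSheaf : (homFun X Y).IsSheaf where
  sep := fun 𝒰 x y h => homFun_sep 𝒰 x y h
  glue := fun 𝒰 x hx => homFun_glue 𝒰 x hx

end Groth.Agent.Lib.Helper10.HomFun
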