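import Mathlib
import Groth.Agent.Lib.Helper10.WeilAlg

/-!
# The Weil-restriction algebra, in terms of pushout squares of commutative rings
-/

set_option autoImplicit false
set_option backward.isDefEq.respectTransparency.types false
set_option maxHeartbeats 4000000
set_option synthInstance.maxHeartbeats 400000
universe u
open CategoryTheory CategoryTheory.Limits TensorProduct

namespace Groth.Agent.Lib.Helper10.WeilAlg

/-- the universal property of the Weil restriction algebra `C` (with structure map `γ`),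
with universal family `l₀ : B ⟶ D` over the pushout `D` of `A` and `C`. -/
def UP {R A B : CommRingCat.{u}} (α : R ⟶ A) (β : R ⟶ B) {C D : CommRingCat.{u}} (γ : R ⟶ C)
    (ψ₀ : A ⟶ D) (χ₀ : C ⟶ D) (l₀ : B ⟶ D) : Prop :=
  ∀ (R' C' : CommRingCat.{u}) (φ : R ⟶ R') (ψ : A ⟶ C') (χ : R' ⟶ C'), IsPushout α φ ψ χ →
    ∀ l : B ⟶ C', β ≫ l = α ≫ ψ →
      ∃! v : C ⟶ R', γ ≫ v = φ ∧ ∀ m : D ⟶ C', ψ₀ ≫ m = ψ → χ₀ ≫ m = v ≫ χ → l₀ ≫ m = l

theorem exists_weilRing_aux {R A B : CommRingCat.{u}} (α : R ⟶ A) (β : R ⟶ B)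
    (hfin : letI := α.hom.toAlgebra; Module.Finite R A)
    (hproj : letI := α.hom.toAlgebra; Module.Projective R A) :
    ∃ (C : CommRingCat.{u}) (γ : R ⟶ C), (β.hom.FiniteType → γ.hom.FiniteType) ∧
      (β.hom.FinitePresentation → γ.hom.FinitePresentation) ∧
      ∀ (D : CommRingCat.{u}) (ψ₀ : A ⟶ D) (χ₀ : C ⟶ D), IsPushout α γ ψ₀ χ₀ →
        ∃ l₀ : B ⟶ D, β ≫ l₀ = α ≫ ψ₀ ∧ UP α β γ ψ₀ χ₀ l₀ := by
  letI := α.hom.toAlgebra
  letI := β.hom.toAlgebra
  haveI : Module.Finite R A := hfin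
  haveI : Module.Projective R A := hproj
  obtain ⟨C, _, _, ev, hUP, hft, hfp⟩ := exists_weilAlg (R := R) (A := A) (B := B)
  refine ⟨CommRingCat.of C, CommRingCat.ofHom (algebraMap R C), ?_, ?_, ?_⟩
  · intro h
    exact RingHom.finiteType_algebraMap.mpr (hft h)
  · intro h
    exact RingHom.finitePresentation_algebraMap.mpr (hfp h)
  intro D ψ₀ χ₀ hpo₀
  have hT := CommRingCat.isPushout_tensorProduct R C A
  let d : D ≅ CommRingCat.of (C ⊗[R] A) := hpo₀.flip.isoIsPushout _ _ hT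
  have hd1 : χ₀ ≫ d.hom = CommRingCat.ofHom (S := C ⊗[R] A)
      Algebra.TensorProduct.includeLeftRingHom := hpo₀.flip.inl_isoIsPushout_hom _ _ hT
  have hd2 : ψ₀ ≫ d.hom = CommRingCat.ofHom (S := C ⊗[R] A)
      (Algebra.TensorProduct.includeRight).toRingHom := hpo₀.flip.inr_isoIsPushout_hom _ _ hT
  have hd1' : CommRingCat.ofHom (S := C ⊗[R] A) Algebra.TensorProduct.includeLeftRingHom ≫ d.inv
      = χ₀ := by rw [← hd1, Category.assoc, Iso.hom_inv_id, Category.comp_id]
  have hd2' : CommRingCat.ofHom (S := C ⊗[R] A) (Algebra.TensorProduct.includeRight).toRingHom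
      ≫ d.inv = ψ₀ := by rw [← hd2, Category.assoc, Iso.hom_inv_id, Category.comp_id]
  refine ⟨CommRingCat.ofHom ev.toRingHom ≫ d.inv, ?_, ?_⟩
  · have h0 : β ≫ CommRingCat.ofHom ev.toRingHom = α ≫ CommRingCat.ofHom (S := C ⊗[R] A)
        (Algebra.TensorProduct.includeRight).toRingHom := by
      ext r
      change ev (algebraMap R B r) = (1 : C) ⊗ₜ[R] (algebraMap R A r)
      rw [ev.commutes, Algebra.TensorProduct.algebraMap_apply, Algebra.algebraMap_eq_smul_one,
        Algebra.algebraMap_eq_smul_one, TensorProduct.smul_tmul]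
    rw [← Category.assoc, h0, Category.assoc, hd2']
  intro R' C' φ ψ χ sq l hl
  letI := φ.hom.toAlgebra
  have hT' := CommRingCat.isPushout_tensorProduct R R' A
  let dT : C' ≅ CommRingCat.of (R' ⊗[R] A) := sq.flip.isoIsPushout _ _ hT'
  have hdT1 : χ ≫ dT.hom = CommRingCat.ofHom (S := R' ⊗[R] A)
      Algebra.TensorProduct.includeLeftRingHom := sq.flip.inl_isoIsPushout_hom _ _ hT'
  have hdT2 : ψ ≫ dT.hom = CommRingCat.ofHom (S := R' ⊗[R] A)
      (Algebra.TensorProduct.includeRight).toRingHom := sq.flip.inr_isoIsPushout_hom _ _ hT'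
  have hdT1' : CommRingCat.ofHom (S := R' ⊗[R] A) Algebra.TensorProduct.includeLeftRingHom ≫
      dT.inv = χ := by rw [← hdT1, Category.assoc, Iso.hom_inv_id, Category.comp_id]
  have hdT2' : CommRingCat.ofHom (S := R' ⊗[R] A) (Algebra.TensorProduct.includeRight).toRingHom
      ≫ dT.inv = ψ := by rw [← hdT2, Category.assoc, Iso.hom_inv_id, Category.comp_id]
  let φalg : B →ₐ[R] R' ⊗[R] A :=
    { (l ≫ dT.hom).hom with
      commutes' := fun r => by
        change (l ≫ dT.hom).hom (β.hom r) = _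
        have h1 : (l ≫ dT.hom).hom (β.hom r) = ((β ≫ l) ≫ dT.hom).hom r := rfl
        rw [h1, hl, Category.assoc, hdT2]
        change (1 : R') ⊗ₜ[R] (algebraMap R A r) = _
        rw [Algebra.TensorProduct.algebraMap_apply, Algebra.algebraMap_eq_smul_one,
          Algebra.algebraMap_eq_smul_one, TensorProduct.smul_tmul] }
  have hφalg : CommRingCat.ofHom φalg.toRingHom = l ≫ dT.hom := rfl
  -- the comparison of maps out of the tensor product
  have hmap : ∀ w : C →ₐ[R] R',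
      d.hom ≫ CommRingCat.ofHom (Algebra.TensorProduct.map w (AlgHom.id R A)).toRingHom ≫ dT.inv
        = hpo₀.desc ψ (CommRingCat.ofHom w.toRingHom ≫ χ) (by
          rw [sq.w, ← Category.assoc]
          congr 1
          ext r
          exact (w.commutes r).symm) := by
    intro w
    have hL : CommRingCat.ofHom (S := C ⊗[R] A) Algebra.TensorProduct.includeLeftRingHom ≫
        CommRingCat.ofHom (Algebra.TensorProduct.map w (AlgHom.id R A)).toRingHom =
        CommRingCat.ofHom w.toRingHom ≫ CommRingCat.ofHom (S := R' ⊗[R] A)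
          Algebra.TensorProduct.includeLeftRingHom := by
      ext c
      change Algebra.TensorProduct.map w (AlgHom.id R A) (c ⊗ₜ[R] (1 : A)) = (w c) ⊗ₜ[R] (1 : A)
      simp
    have hR : CommRingCat.ofHom (S := C ⊗[R] A) (Algebra.TensorProduct.includeRight).toRingHom ≫
        CommRingCat.ofHom (Algebra.TensorProduct.map w (AlgHom.id R A)).toRingHom =
        CommRingCat.ofHom (S := R' ⊗[R] A) (Algebra.TensorProduct.includeRight).toRingHom := by
      ext a
      change Algebra.TensorProduct.map w (AlgHom.id R A) ((1 : C) ⊗ₜ[R] a) = (1 : R') ⊗ₜ[R] a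
      simp
    apply hpo₀.hom_ext
    · rw [hpo₀.inl_desc, ← Category.assoc, hd2, ← Category.assoc, hR, hdT2']
    · rw [hpo₀.inr_desc, ← Category.assoc, hd1, ← Category.assoc, hL, Category.assoc, hdT1']
  obtain ⟨w, hw, hwu⟩ := hUP R' φalg
  have hdesc : ∀ (v : CommRingCat.of C ⟶ R') (hv : CommRingCat.ofHom (algebraMap R C) ≫ v = φ)
      (m : D ⟶ C'), ψ₀ ≫ m = ψ → χ₀ ≫ m = v ≫ χ →
      m = hpo₀.desc ψ (v ≫ χ) (by rw [sq.w, ← hv, Category.assoc]) := by
    intro v hv m hm1 hm2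
    apply hpo₀.hom_ext
    · rw [hpo₀.inl_desc, hm1]
    · rw [hpo₀.inr_desc, hm2]
  refine ⟨CommRingCat.ofHom w.toRingHom, ⟨?_, ?_⟩, ?_⟩
  · ext r
    exact w.commutes r
  · intro m hm1 hm2
    have hm : m = d.hom ≫
        CommRingCat.ofHom (Algebra.TensorProduct.map w (AlgHom.id R A)).toRingHom ≫ dT.inv := by
      rw [hmap w]
      exact hdesc _ (by ext r; exact w.commutes r) m hm1 hm2
    rw [hm, Category.assoc, Iso.inv_hom_id_assoc, ← Category.assoc]
    have : CommRingCat.ofHom ev.toRingHom ≫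
        CommRingCat.ofHom (Algebra.TensorProduct.map w (AlgHom.id R A)).toRingHom =
        CommRingCat.ofHom φalg.toRingHom := by
      rw [← hw]
      rfl
    rw [this, hφalg, Category.assoc, Iso.hom_inv_id, Category.comp_id]
  · rintro v' ⟨hv1, hv2⟩
    let w' : C →ₐ[R] R' :=
      { v'.hom with
        commutes' := fun r => by
          have := congrArg (fun F => F.hom r) hv1
          exact this }
    have hw'v : CommRingCat.ofHom w'.toRingHom = v' := rfl
    have hm1 : ψ₀ ≫ (d.hom ≫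
        CommRingCat.ofHom (Algebra.TensorProduct.map w' (AlgHom.id R A)).toRingHom ≫ dT.inv)
        = ψ := by
      rw [hmap w', hpo₀.inl_desc]
    have hm2 : χ₀ ≫ (d.hom ≫
        CommRingCat.ofHom (Algebra.TensorProduct.map w' (AlgHom.id R A)).toRingHom ≫ dT.inv)
        = v' ≫ χ := by
      rw [hmap w', hpo₀.inr_desc, hw'v]
    have h3 := hv2 _ hm1 hm2
    rw [Category.assoc, Iso.inv_hom_id_assoc, ← Category.assoc] at h3
    have h4 : CommRingCat.ofHom ev.toRingHom ≫
        CommRingCat.ofHom (Algebra.TensorProduct.map w' (AlgHom.id R A)).toRingHom =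
        l ≫ dT.hom := by
      rw [← h3, Category.assoc, Iso.inv_hom_id, Category.comp_id]
    have h5 : (Algebra.TensorProduct.map w' (AlgHom.id R A)).comp ev = φalg := by
      ext b
      exact congrArg (fun F => F.hom b) h4
    have h6 := hwu w' h5
    rw [← hw'v, h6]

/-- **The Weil restriction algebra** (pushout form, with a flexible choice of `C`). -/
theorem exists_weilRing {R A B : CommRingCat.{u}} (α : R ⟶ A) (β : R ⟶ B)
    (hfin : letI := α.hom.toAlgebra; Module.Finite R A)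
    (hproj : letI := α.hom.toAlgebra; Module.Projective R A) :
    ∃ (C : CommRingCat.{u}) (γ : R ⟶ C), (β.hom.FiniteType → γ.hom.FiniteType) ∧
      (β.hom.FinitePresentation → γ.hom.FinitePresentation) ∧
      ∀ (C₁ : CommRingCat.{u}) (γ₁ : R ⟶ C₁) (e : C ≅ C₁), γ ≫ e.hom = γ₁ →
      ∀ (D : CommRingCat.{u}) (ψ₀ : A ⟶ D) (χ₀ : C₁ ⟶ D), IsPushout α γ₁ ψ₀ χ₀ →
        ∃ l₀ : B ⟶ D, β ≫ l₀ = α ≫ ψ₀ ∧ UP α β γ₁ ψ₀ χ₀ l₀ := by
  obtain ⟨C, γ, hft, hfp, haux⟩ := exists_weilRing_aux α β hfin hproj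
  refine ⟨C, γ, hft, hfp, ?_⟩
  intro C₁ γ₁ e he D ψ₀ χ₀ hpo
  have hpo' : IsPushout α γ ψ₀ (e.hom ≫ χ₀) :=
    hpo.of_iso (Iso.refl _) (Iso.refl _) e.symm (Iso.refl _) (by simp)
      (by simp [← he]) (by simp) (by simp)
  obtain ⟨l₀, hl₀, hup⟩ := haux D ψ₀ (e.hom ≫ χ₀) hpo'
  refine ⟨l₀, hl₀, ?_⟩
  intro R' C' φ ψ χ sq l hl
  obtain ⟨v, ⟨hv1, hv2⟩, hvu⟩ := hup R' C' φ ψ χ sq l hl
  refine ⟨e.inv ≫ v, ⟨?_, ?_⟩, ?_⟩
  · rw [← he, Category.assoc, Iso.hom_inv_id_assoc, hv1]
  · intro m hm1 hm2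
    refine hv2 m hm1 ?_
    rw [Category.assoc, hm2]
    simp only [Category.assoc, Iso.hom_inv_id_assoc]
  · rintro v' ⟨hv1', hv2'⟩
    have : e.hom ≫ v' = v := by
      refine hvu _ ⟨?_, ?_⟩
      · rw [← Category.assoc, he, hv1']
      · intro m hm1 hm2
        refine hv2' m hm1 ?_
        rw [Category.assoc, Category.assoc] at hm2
        exact (cancel_epi e.hom).mp hm2
    rw [← this, Iso.inv_hom_id_assoc]

end Groth.Agent.Lib.Helper10.WeilAlg
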