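import Mathlib
import Groth.Agent.Lib.Helper10.HomFun
import Groth.Agent.Lib.Helper10.WeilAlg2

/-!
# Local representability of the functor of morphisms from a finite locally free scheme to an
affine scheme
-/

set_option autoImplicit false
set_option backward.isDefEq.respectTransparency.types false
set_option maxHeartbeats 4000000
set_option synthInstance.maxHeartbeats 400000
universe u
open CategoryTheory CategoryTheory.Limits AlgebraicGeometry Opposite MonoidalCategory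
  CartesianMonoidalCategory

namespace Groth.Agent.Lib.Helper10.HomLocal

open Groth.Agent.Lib.Helper10.ZarRep Groth.Agent.Lib.Helper10.HomFun Groth.Agent.Lib.Helper10.WeilAlg
open Groth.Agent.Lib.Helper10.ZarRep.SFun

section OfRing

/-- morphisms to an affine scheme from ring maps. -/
noncomputable def ofRing {W Z : Scheme.{u}} [IsAffine Z] (l : Γ(Z, ⊤) ⟶ Γ(W, ⊤)) : W ⟶ Z :=
  W.toSpecΓ ≫ Spec.map l ≫ Z.isoSpec.inv

lemma isoSpec_inv_appTop (Z : Scheme.{u}) [IsAffine Z] :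
    Z.isoSpec.inv.appTop = (Scheme.ΓSpecIso Γ(Z, ⊤)).inv := by
  have h : Z.isoSpec.inv.appTop ≫ (Scheme.ΓSpecIso Γ(Z, ⊤)).hom = 𝟙 _ := by
    rw [← Scheme.toSpecΓ_appTop, ← Scheme.Hom.comp_appTop, Scheme.toSpecΓ_isoSpec_inv,
      Scheme.Hom.id_appTop]
  rw [← Category.comp_id (Z.isoSpec.inv.appTop), ← Iso.hom_inv_id (Scheme.ΓSpecIso Γ(Z, ⊤)),
    ← Category.assoc, h, Category.id_comp]

lemma ofRing_appTop {W Z : Scheme.{u}} [IsAffine Z] (l : Γ(Z, ⊤) ⟶ Γ(W, ⊤)) :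
    (ofRing l).appTop = l := by
  rw [ofRing, Scheme.Hom.comp_appTop, Scheme.Hom.comp_appTop, isoSpec_inv_appTop,
    Scheme.toSpecΓ_appTop, Category.assoc, Scheme.ΓSpecIso_naturality, Iso.inv_hom_id_assoc]

end OfRing

variable {S : Scheme.{u}} {X Y : Over S}

section Tilde
variable (X)

/-- the map of fibre products induced by a morphism over `S`. -/
noncomputable def tilde {T M : Scheme.{u}} (t : T ⟶ S) (m : M ⟶ S) (u : T ⟶ M) (h : u ≫ m = t) :
    pullback X.hom t ⟶ pullback X.hom m :=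
  pullback.map _ _ _ _ (𝟙 _) u (𝟙 _) (by simp) (by simp [h])

@[reassoc (attr := simp)]
lemma tilde_fst {T M : Scheme.{u}} (t : T ⟶ S) (m : M ⟶ S) (u : T ⟶ M) (h : u ≫ m = t) :
    tilde X t m u h ≫ pullback.fst _ _ = pullback.fst _ _ :=
  (pullback.lift_fst _ _ _).trans (Category.comp_id _)

@[reassoc (attr := simp)]
lemma tilde_snd {T M : Scheme.{u}} (t : T ⟶ S) (m : M ⟶ S) (u : T ⟶ M) (h : u ≫ m = t) :
    tilde X t m u h ≫ pullback.snd _ _ = pullback.snd _ _ ≫ u :=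
  pullback.lift_snd _ _ _

lemma pbMap_eq {T M : Scheme.{u}} (t : T ⟶ S) (m : M ⟶ S) (u : T ⟶ M) (h : u ≫ m = t) :
    pbMap X u m = castMap X h ≫ tilde X t m u h := by
  apply pullback.hom_ext
  · rw [pbMap_fst, Category.assoc, tilde_fst, castMap_fst]
  · rw [pbMap_snd, Category.assoc, tilde_snd, castMap_snd_assoc]

lemma castMap_symm_pbMap {T M : Scheme.{u}} (t : T ⟶ S) (m : M ⟶ S) (u : T ⟶ M) (h : u ≫ m = t) :
    castMap X h.symm ≫ pbMap X u m = tilde X t m u h := by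
  apply pullback.hom_ext
  · rw [Category.assoc, pbMap_fst, tilde_fst, castMap_fst]
  · rw [Category.assoc, pbMap_snd, tilde_snd, castMap_snd_assoc]

end Tilde

lemma elMap_eq_iff' {Tl M : Scheme.{u}} (th : Tl ⟶ S) (ξ : El X Y M) (v : Tl ⟶ M)
    (φ : X ⊗ Over.mk th ⟶ Y) :
    elMap v ξ = (⟨th, φ⟩ : El X Y Tl) ↔
      ∃ h : v ≫ ξ.1 = th, (X ◁ (Over.homMk v h : Over.mk th ⟶ Over.mk ξ.1)) ≫ ξ.2 = φ := by
  constructor
  · intro h
    have h1 : v ≫ ξ.1 = th := congrArg Sigma.fst h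
    subst h1
    refine ⟨rfl, ?_⟩
    exact eq_of_heq (Sigma.mk.inj h).2
  · rintro ⟨h1, h2⟩
    subst h1
    rw [← h2]
    rfl

lemma elMap_eq_iff {T : Over S} {M : Scheme.{u}} (ξ : El X Y M) (v : T.left ⟶ M)
    (φ : X ⊗ T ⟶ Y) :
    elMap v ξ = (⟨T.hom, φ⟩ : El X Y T.left) ↔
      ∃ h : v ≫ ξ.1 = T.hom, (X ◁ (Over.homMk v h : T ⟶ Over.mk ξ.1)) ≫ ξ.2 = φ :=
  elMap_eq_iff' T.hom ξ v φ

section Local

variable {B₀ Xb Yb : Scheme.{u}} (i : B₀ ⟶ S)
  {iX : Xb ⟶ X.left} {pX : Xb ⟶ B₀} (hX : IsPullback iX pX X.hom i)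
  {iY : Yb ⟶ Y.left} {pY : Yb ⟶ B₀} (hY : IsPullback iY pY Y.hom i)

/-- the projection `X ×_S T ⟶ X_b` for `T` over `B₀`. -/
noncomputable def aT {T : Scheme.{u}} (t : T ⟶ S) (tB : T ⟶ B₀) (h : tB ≫ i = t) :
    pullback X.hom t ⟶ Xb :=
  hX.lift (pullback.fst _ _) (pullback.snd _ _ ≫ tB) (by
    rw [Category.assoc, h, pullback.condition])

@[reassoc (attr := simp)]
lemma aT_iX {T : Scheme.{u}} (t : T ⟶ S) (tB : T ⟶ B₀) (h : tB ≫ i = t) :
    aT i hX t tB h ≫ iX = pullback.fst _ _ := hX.lift_fst _ _ _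

@[reassoc (attr := simp)]
lemma aT_pX {T : Scheme.{u}} (t : T ⟶ S) (tB : T ⟶ B₀) (h : tB ≫ i = t) :
    aT i hX t tB h ≫ pX = pullback.snd _ _ ≫ tB := hX.lift_snd _ _ _

lemma isPullback_aT {T : Scheme.{u}} (t : T ⟶ S) (tB : T ⟶ B₀) (h : tB ≫ i = t) :
    IsPullback (aT i hX t tB h) (pullback.snd X.hom t) pX tB := by
  refine IsPullback.of_right ?_ (aT_pX i hX t tB h) hX
  rw [aT_iX, h]
  exact IsPullback.of_hasPullback _ _

lemma tilde_aT {T M : Scheme.{u}} (t : T ⟶ S) (tB : T ⟶ B₀) (h : tB ≫ i = t) (m : M ⟶ S)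
    (mB : M ⟶ B₀) (hm : mB ≫ i = m) (u : T ⟶ M) (hu : u ≫ m = t) (huB : u ≫ mB = tB) :
    tilde X t m u hu ≫ aT i hX m mB hm = aT i hX t tB h := by
  apply hX.hom_ext
  · rw [Category.assoc, aT_iX, aT_iX, tilde_fst]
  · rw [Category.assoc, aT_pX, aT_pX, tilde_snd_assoc, huB]

/-- the component in `Y_b` of a family over `B₀`. -/
noncomputable def phiB {T : Scheme.{u}} (x : El X Y T) (tB : T ⟶ B₀) (h : tB ≫ i = x.1) :
    pullback X.hom x.1 ⟶ Yb :=
  hY.lift x.2.left (pullback.snd _ _ ≫ tB) (by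
    rw [Category.assoc, h, ← pullback.condition]
    exact Over.w x.2)

@[reassoc (attr := simp)]
lemma phiB_iY {T : Scheme.{u}} (x : El X Y T) (tB : T ⟶ B₀) (h : tB ≫ i = x.1) :
    phiB i hY x tB h ≫ iY = x.2.left := hY.lift_fst _ _ _

@[reassoc (attr := simp)]
lemma phiB_pY {T : Scheme.{u}} (x : El X Y T) (tB : T ⟶ B₀) (h : tB ≫ i = x.1) :
    phiB i hY x tB h ≫ pY = pullback.snd _ _ ≫ tB := hY.lift_snd _ _ _

variable [IsOpenImmersion i] [IsAffine B₀] [IsAffine Xb] [IsAffine Yb]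

include hX hY in
/-- **Local representability.** -/
theorem exists_repOn
    (hfin : letI := pX.appTop.hom.toAlgebra; Module.Finite Γ(B₀, ⊤) Γ(Xb, ⊤))
    (hproj : letI := pX.appTop.hom.toAlgebra; Module.Projective Γ(B₀, ⊤) Γ(Xb, ⊤)) :
    ∃ (M : Scheme.{u}) (ξ : (homFun X Y).F.obj (op M)) (mB : M ⟶ B₀), IsAffine M ∧
      mB ≫ i = (homFun X Y).str ξ ∧ (homFun X Y).RepOn i.opensRange M ξ ∧
      (pY.appTop.hom.FiniteType → LocallyOfFiniteType mB) ∧
      (pY.appTop.hom.FinitePresentation → LocallyOfFinitePresentation mB) := by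
  obtain ⟨C, γ, hft, hfp, hC⟩ := exists_weilRing pX.appTop pY.appTop hfin hproj
  obtain ⟨mB, hmB⟩ : ∃ mB : Spec C ⟶ B₀, mB = Spec.map γ ≫ B₀.isoSpec.inv := ⟨_, rfl⟩
  obtain ⟨e, he'⟩ : ∃ e : C ≅ Γ(Spec C, ⊤), e.hom = (Scheme.ΓSpecIso C).inv :=
    ⟨(Scheme.ΓSpecIso C).symm, rfl⟩
  have he : γ ≫ e.hom = mB.appTop := by
    rw [he', hmB, Scheme.Hom.comp_appTop, isoSpec_inv_appTop, Iso.eq_inv_comp, ← Category.assoc,
      ← Scheme.ΓSpecIso_naturality, Category.assoc, Iso.hom_inv_id, Category.comp_id]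
  have sq₀ := isPushout_appTop_of_isPullback (isPullback_aT i hX (mB ≫ i) mB rfl)
  obtain ⟨l₀, hl₀, hUP⟩ := hC _ _ e he _ _ _ sq₀
  obtain ⟨φ₀b, hφ₀b⟩ : ∃ φ₀b : pullback X.hom (mB ≫ i) ⟶ Yb, φ₀b.appTop = l₀ :=
    ⟨ofRing l₀, ofRing_appTop l₀⟩
  have hφ₀p : φ₀b ≫ pY = pullback.snd _ _ ≫ mB := by
    apply ext_of_isAffine
    rw [Scheme.Hom.comp_appTop, hφ₀b, hl₀, ← Scheme.Hom.comp_appTop, aT_pX]
  have hw : (φ₀b ≫ iY) ≫ Y.hom = (X ⊗ Over.mk (mB ≫ i)).hom := by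
    calc (φ₀b ≫ iY) ≫ Y.hom = φ₀b ≫ (iY ≫ Y.hom) := Category.assoc _ _ _
      _ = φ₀b ≫ (pY ≫ i) := by rw [hY.w]
      _ = (φ₀b ≫ pY) ≫ i := (Category.assoc _ _ _).symm
      _ = (pullback.snd X.hom (mB ≫ i) ≫ mB) ≫ i := by rw [hφ₀p]
      _ = pullback.snd X.hom (mB ≫ i) ≫ (mB ≫ i) := Category.assoc _ _ _
      _ = pullback.fst X.hom (mB ≫ i) ≫ X.hom := pullback.condition.symm
  obtain ⟨ξ, hξ1, hξ2⟩ : ∃ ξ : El X Y (Spec C), ∃ h : ξ.1 = mB ≫ i,
      ξ.2.left = castMap X h ≫ (φ₀b ≫ iY) :=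
    ⟨⟨mB ≫ i, Over.homMk (φ₀b ≫ iY) hw⟩, rfl, by
      rw [castMap_rfl, Category.id_comp]
      rfl⟩
  obtain ⟨ξ1, ξ2⟩ := ξ
  change ξ1 = mB ≫ i at hξ1
  subst hξ1
  rw [castMap_rfl, Category.id_comp] at hξ2
  change ξ2.left = φ₀b ≫ iY at hξ2
  have hrange : Set.range i ⊆ i.opensRange := by
    rw [Scheme.Hom.coe_opensRange]
  refine ⟨Spec C, ⟨mB ≫ i, ξ2⟩, mB, inferInstance, rfl, ?_, ?_, ?_⟩
  · refine RepOn.of_affine (homFun_isSheaf X Y) (lands_of_fac i hrange mB rfl) ?_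
    intro T _ x hx
    have hr : Set.range x.1 ⊆ Set.range i := by
      rintro _ ⟨p, rfl⟩
      have := hx p
      rwa [← SetLike.mem_coe, Scheme.Hom.coe_opensRange] at this
    obtain ⟨tB, htB⟩ : ∃ tB : T ⟶ B₀, tB ≫ i = x.1 :=
      ⟨IsOpenImmersion.lift i x.1 hr, IsOpenImmersion.lift_fac _ _ _⟩
    have sqT := isPushout_appTop_of_isPullback (isPullback_aT i hX x.1 tB htB)
    have hl : pY.appTop ≫ (phiB i hY x tB htB).appTop = pX.appTop ≫ (aT i hX x.1 tB htB).appTop := by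
      rw [← Scheme.Hom.comp_appTop, ← Scheme.Hom.comp_appTop, phiB_pY, aT_pX]
    obtain ⟨v, ⟨hv1, hv2⟩, hvu⟩ := hUP _ _ _ _ _ sqT _ hl
    have hm1 : ∀ (u : T ⟶ Spec C) (hu : u ≫ mB = tB),
        (aT i hX (mB ≫ i) mB rfl).appTop ≫
          (tilde X x.1 (mB ≫ i) u (by rw [← Category.assoc, hu, htB])).appTop =
          (aT i hX x.1 tB htB).appTop := by
      intro u hu
      rw [← Scheme.Hom.comp_appTop, tilde_aT i hX x.1 tB htB (mB ≫ i) mB rfl u _ hu]
    have hm2 : ∀ (u : T ⟶ Spec C) (hu : u ≫ mB = tB),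
        (pullback.snd X.hom (mB ≫ i)).appTop ≫
          (tilde X x.1 (mB ≫ i) u (by rw [← Category.assoc, hu, htB])).appTop =
          u.appTop ≫ (pullback.snd X.hom x.1).appTop := by
      intro u hu
      rw [← Scheme.Hom.comp_appTop, ← Scheme.Hom.comp_appTop, tilde_snd]
    -- characterisation of `elMap u (⟨mB ≫ i, ξ2⟩ : El X Y (Spec C)) = x`
    have hchar : ∀ (u : T ⟶ Spec C) (hu : u ≫ mB = tB), elMap u (⟨mB ≫ i, ξ2⟩ : El X Y (Spec C)) = x ↔
        l₀ ≫ (tilde X x.1 (mB ≫ i) u (by rw [← Category.assoc, hu, htB])).appTop =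
          (phiB i hY x tB htB).appTop := by
      intro u hu
      have hux : u ≫ (mB ≫ i) = x.1 := by rw [← Category.assoc, hu, htB]
      have h1 : l₀ ≫ (tilde X x.1 (mB ≫ i) u hux).appTop = (phiB i hY x tB htB).appTop ↔
          tilde X x.1 (mB ≫ i) u hux ≫ φ₀b ≫ iY = x.2.left := by
        constructor
        · intro h
          have : tilde X x.1 (mB ≫ i) u hux ≫ φ₀b = phiB i hY x tB htB := by
            apply ext_of_isAffine
            rw [Scheme.Hom.comp_appTop, hφ₀b, h]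
          rw [← Category.assoc, this, phiB_iY]
        · intro h
          have : tilde X x.1 (mB ≫ i) u hux ≫ φ₀b = phiB i hY x tB htB := by
            apply hY.hom_ext
            · rw [Category.assoc, h, phiB_iY]
            · rw [Category.assoc, hφ₀p, tilde_snd_assoc, hu, phiB_pY]
          rw [← this, Scheme.Hom.comp_appTop, hφ₀b]
      rw [h1]
      constructor
      · intro h
        obtain ⟨x1, x2⟩ := x
        obtain ⟨h3, h4⟩ := El.ext_iff' _ _ h
        have h5 : pbMap X u (mB ≫ i) ≫ (φ₀b ≫ iY) = castMap X h3 ≫ x2.left := by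
          rw [← hξ2]
          exact h4
        rw [← castMap_symm_pbMap X x1 (mB ≫ i) u hux, Category.assoc, h5, ← Category.assoc]
        have : castMap X hux.symm ≫ castMap X h3 = 𝟙 _ := by
          apply pullback.hom_ext
          · rw [Category.assoc, castMap_fst, castMap_fst, Category.id_comp]
          · rw [Category.assoc, castMap_snd, castMap_snd, Category.id_comp]
        rw [this, Category.id_comp]
      · intro h
        refine El.ext'' _ _ hux ?_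
        change pbMap X u (mB ≫ i) ≫ ξ2.left = castMap X hux ≫ x.2.left
        rw [hξ2, pbMap_eq X x.1 (mB ≫ i) u hux, Category.assoc, h]
    have huB : ∀ u : T ⟶ Spec C, elMap u (⟨mB ≫ i, ξ2⟩ : El X Y (Spec C)) = x → u ≫ mB = tB := by
      intro u hu
      rw [← cancel_mono i, Category.assoc, htB]
      exact congrArg Sigma.fst hu
    have hvB : ofRing (Z := Spec C) v ≫ mB = tB := by
      apply ext_of_isAffine
      rw [Scheme.Hom.comp_appTop, ofRing_appTop]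
      exact hv1
    refine ⟨ofRing v, ?_, fun u' hu' => ?_⟩
    · change elMap (ofRing v) (⟨mB ≫ i, ξ2⟩ : El X Y (Spec C)) = x
      rw [hchar _ hvB]
      refine hv2 _ (hm1 _ hvB) ?_
      rw [hm2 _ hvB, ofRing_appTop]
    · have hu'B := huB u' hu'
      have hu'' : u'.appTop = v := by
        refine hvu _ ⟨?_, ?_⟩
        · rw [← Scheme.Hom.comp_appTop, hu'B]
        · intro m hm1' hm2'
          have hmeq : m = (tilde X x.1 (mB ≫ i) u' (by rw [← Category.assoc, hu'B, htB])).appTop := by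
            apply sq₀.hom_ext
            · rw [hm1', hm1 _ hu'B]
            · rw [hm2', hm2 _ hu'B]
          rw [hmeq]
          exact (hchar _ hu'B).mp hu'
      apply ext_of_isAffine
      rw [hu'', ofRing_appTop]
  · intro h
    haveI : LocallyOfFiniteType (Spec.map γ) := HasRingHomProperty.Spec_iff.mpr (hft h)
    rw [hmB]
    infer_instance
  · intro h
    haveI : LocallyOfFinitePresentation (Spec.map γ) := HasRingHomProperty.Spec_iff.mpr (hfp h)
    rw [hmB]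
    infer_instance

end Local

end Groth.Agent.Lib.Helper10.HomLocal
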