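import Mathlib
import Groth.Agent.Lib.Helper10.HomLocal
import Groth.Agent.Lib.Helper10.WeilClosed4

/-!
# The scheme of morphisms from a finite locally free scheme to an affine scheme
-/

set_option autoImplicit false
set_option backward.isDefEq.respectTransparency.types false
set_option maxHeartbeats 4000000
set_option synthInstance.maxHeartbeats 400000
universe u
open CategoryTheory CategoryTheory.Limits AlgebraicGeometry Opposite MonoidalCategory
  CartesianMonoidalCategory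

namespace Groth.Agent.Lib.Helper10.HomScheme

open Groth.Agent.Lib.Helper10.ZarRep Groth.Agent.Lib.Helper10.HomFun
  Groth.Agent.Lib.Helper10.HomLocal Groth.Agent.Lib.Helper10.WeilClosed
  Groth.Agent.Lib.Helper10.ZarRep.SFun

variable {S : Scheme.{u}} (X Y : Over S)

/-- the local representing objects. -/
theorem exists_local (hfin : IsFinite X.hom) (hproj : AffLocProj X.hom) [IsAffineHom Y.hom]
    (s : S) :
    ∃ (V : S.Opens) (M' : Scheme.{u}) (ξ' : (homFun X Y).F.obj (op M')) (m : M' ⟶ V.toScheme),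
      s ∈ V ∧ (homFun X Y).RepOn V M' ξ' ∧ m ≫ V.ι = (homFun X Y).str ξ' ∧ IsAffineHom m ∧
      (LocallyOfFiniteType Y.hom → LocallyOfFiniteType m) ∧
      (LocallyOfFinitePresentation Y.hom → LocallyOfFinitePresentation m) := by
  obtain ⟨U₀, hU₀, hs, Xb, iX, pX, hXb, hXpb, hXproj⟩ := hproj s
  haveI : IsAffine U₀.toScheme := hU₀
  haveI := hXb
  have hYaff : IsAffineOpen (Y.hom ⁻¹ᵁ U₀) := hU₀.preimage Y.hom
  haveI : IsAffine (Y.hom ⁻¹ᵁ U₀).toScheme := hYaff
  have hYpb : IsPullback (Y.hom ⁻¹ᵁ U₀).ι (Y.hom ∣_ U₀) Y.hom U₀.ι :=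
    (isPullback_morphismRestrict Y.hom U₀).flip
  haveI : IsFinite pX := MorphismProperty.of_isPullback (P := @IsFinite) hXpb hfin
  have hfinb : letI := pX.appTop.hom.toAlgebra; Module.Finite Γ(U₀.toScheme, ⊤) Γ(Xb, ⊤) :=
    IsFinite.finite_app pX ⊤ (isAffineOpen_top _)
  obtain ⟨M, ξ, mB, hMaff, hmB, hRep, hft, hfp⟩ := exists_repOn (X := X) (Y := Y) U₀.ι hXpb hYpb
    hfinb hXproj
  rw [Scheme.Opens.opensRange_ι] at hRep
  haveI := hMaff
  refine ⟨U₀, M, ξ, mB, hs, hRep, hmB, inferInstance, ?_, ?_⟩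
  · intro h
    haveI : LocallyOfFiniteType (Y.hom ∣_ U₀) :=
      MorphismProperty.of_isPullback (P := @LocallyOfFiniteType) hYpb h
    exact hft ((HasRingHomProperty.iff_of_isAffine (P := @LocallyOfFiniteType)).mp inferInstance)
  · intro h
    haveI : LocallyOfFinitePresentation (Y.hom ∣_ U₀) :=
      MorphismProperty.of_isPullback (P := @LocallyOfFinitePresentation) hYpb h
    exact hfp ((HasRingHomProperty.iff_of_isAffine
      (P := @LocallyOfFinitePresentation)).mp inferInstance)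

/-- **The scheme of morphisms** from a finite scheme with locally projective coordinate ring to
an affine scheme. -/
theorem exists_homScheme (hfin : IsFinite X.hom) (hproj : AffLocProj X.hom) [IsAffineHom Y.hom] :
    ∃ (M : Over S) (ev : X ⊗ M ⟶ Y), IsAffineHom M.hom ∧
      (LocallyOfFiniteType Y.hom → LocallyOfFiniteType M.hom) ∧
      (LocallyOfFinitePresentation Y.hom → LocallyOfFinitePresentation M.hom) ∧
      ∀ (T : Over S) (φ : X ⊗ T ⟶ Y), ∃! v : T ⟶ M, (X ◁ v) ≫ ev = φ := by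
  have hloc := exists_local X Y hfin hproj
  have hcov : ∀ s : S, ∃ V : S.Opens, s ∈ V ∧ Good (homFun X Y) V := fun s => by
    obtain ⟨V, M', ξ', m, hs, hR, -⟩ := hloc s
    exact ⟨V, hs, M', ξ', hR⟩
  obtain ⟨M, ξ, hR⟩ := exists_rep (homFun X Y) (homFun_isSheaf X Y) hcov
  obtain ⟨ξ1, ξ2⟩ : El X Y M := ξ
  refine ⟨Over.mk ξ1, ξ2, ?_, ?_, ?_, ?_⟩
  · exact Rep.property_of_local @IsAffineHom hR (fun s => by
      obtain ⟨V, M', ξ', m, hs, hR', hm, ha, -⟩ := hloc s
      exact ⟨V, M', ξ', m, hs, hR', hm, ha⟩)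
  · intro h
    exact Rep.property_of_local @LocallyOfFiniteType hR (fun s => by
      obtain ⟨V, M', ξ', m, hs, hR', hm, -, ha, -⟩ := hloc s
      exact ⟨V, M', ξ', m, hs, hR', hm, ha h⟩)
  · intro h
    exact Rep.property_of_local @LocallyOfFinitePresentation hR (fun s => by
      obtain ⟨V, M', ξ', m, hs, hR', hm, -, -, ha⟩ := hloc s
      exact ⟨V, M', ξ', m, hs, hR', hm, ha h⟩)
  · intro T φ
    obtain ⟨v, hv, hvu⟩ := hR T.left (⟨T.hom, φ⟩ : El X Y T.left)
    obtain ⟨h1, h2⟩ := (elMap_eq_iff (⟨ξ1, ξ2⟩ : El X Y M) v φ).mp hv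
    refine ⟨Over.homMk v h1, h2, fun v' hv' => ?_⟩
    have hv'' : elMap v'.left (⟨ξ1, ξ2⟩ : El X Y M) = (⟨T.hom, φ⟩ : El X Y T.left) :=
      (elMap_eq_iff (⟨ξ1, ξ2⟩ : El X Y M) v'.left φ).mpr ⟨Over.w v', hv'⟩
    ext
    exact hvu v'.left hv''

end Groth.Agent.Lib.Helper10.HomScheme
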