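import Mathlib
import Groth.Prelude.Def_Flatn
import Groth.Prelude.Def_Mor2
import Groth.Agent.Lib.Helper10.HomScheme

/-!
# Representability of `Flatn.morS g f` for `g` finite locally free and `f` affine
-/

set_option autoImplicit false
set_option linter.unusedSectionVars false
set_option linter.style.haveILetI false
set_option backward.isDefEq.respectTransparency.types false
set_option maxHeartbeats 4000000
set_option synthInstance.maxHeartbeats 400000
universe u
open CategoryTheory CategoryTheory.Limits AlgebraicGeometry Opposite MonoidalCategory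
  CartesianMonoidalCategory

namespace Groth.Agent.Lib.Helper10.MorSRep

open Groth.Agent.Lib.Helper10.WeilClosed Groth.Agent.Lib.Helper10.HomScheme
  Groth.Agent.Lib.Helper10.ZarRep Groth.Agent.Lib.Helper10.ZarRep.SFun

variable {Z X S : Scheme.{u}}

/-- a finite, flat, locally finitely presented morphism is `AffLocProj`. -/
theorem affLocProj_of_isFinLocFree (g : Z ⟶ S) (hg : Mor2.IsFinLocFree g) : AffLocProj g := by
  obtain ⟨hfin, hflat, hlfp⟩ := hg
  intro s
  obtain ⟨(U₀ : S.Opens), hU₀, hs, -⟩ :=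
    exists_isAffineOpen_mem_and_subset (x := s) (U := ⊤) trivial
  haveI : IsAffine U₀.toScheme := hU₀
  have hZaff : IsAffineOpen (g ⁻¹ᵁ U₀) := hU₀.preimage g
  haveI : IsAffine (g ⁻¹ᵁ U₀).toScheme := hZaff
  refine ⟨U₀, hU₀, hs, (g ⁻¹ᵁ U₀).toScheme, (g ⁻¹ᵁ U₀).ι, g ∣_ U₀, inferInstance,
    (isPullback_morphismRestrict g U₀).flip, ?_⟩
  have h1 : (g ∣_ U₀).appTop.hom.Finite :=
    (HasAffineProperty.iff_of_isAffine (P := @IsFinite)).mp inferInstance |>.2
  have h2 : (g ∣_ U₀).appTop.hom.Flat :=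
    (HasRingHomProperty.iff_of_isAffine (P := @Flat)).mp inferInstance
  have h3 : (g ∣_ U₀).appTop.hom.FinitePresentation :=
    (HasRingHomProperty.iff_of_isAffine (P := @LocallyOfFinitePresentation)).mp inferInstance
  algebraize [(g ∣_ U₀).appTop.hom]
  haveI : Module.FinitePresentation Γ(U₀.toScheme, ⊤) Γ((g ⁻¹ᵁ U₀).toScheme, ⊤) :=
    Module.FinitePresentation.of_finite_of_finitePresentation _ _
  exact Module.Flat.projective_of_finitePresentation

section Bridge

variable (g : Z ⟶ S) (f : X ⟶ S)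

/-- comparison of the two forms of `T ×_S Z`. -/
noncomputable def sig (T : Over S) :
    (Over.map g).obj ((Over.pullback g).obj T) ≅ Over.mk g ⊗ T :=
  Over.isoMk (pullbackSymmetry T.hom g) (by
    change (pullbackSymmetry T.hom g).hom ≫ pullback.fst g T.hom ≫ g = pullback.snd T.hom g ≫ g
    rw [pullbackSymmetry_hom_comp_fst_assoc])

lemma sig_hom_left (T : Over S) : (sig g T).hom.left = (pullbackSymmetry T.hom g).hom := rfl

lemma sig_naturality {T' T : Over S} (v : T' ⟶ T) :
    (Over.map g).map ((Over.pullback g).map v) ≫ (sig g T).hom =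
      (sig g T').hom ≫ (Over.mk g ◁ v) := by
  apply Over.OverMorphism.ext
  change ((Over.pullback g).map v).left ≫ (pullbackSymmetry T.hom g).hom =
    (pullbackSymmetry T'.hom g).hom ≫ (Over.mk g ◁ v).left
  have h1 : (Over.mk g ◁ v).left ≫ pullback.fst g T.hom = pullback.fst g T'.hom :=
    Over.whiskerLeft_left_fst v
  have h2 : (Over.mk g ◁ v).left ≫ pullback.snd g T.hom = pullback.snd g T'.hom ≫ v.left :=
    Over.whiskerLeft_left_snd v
  apply pullback.hom_ext
  · rw [Category.assoc, Category.assoc, pullbackSymmetry_hom_comp_fst,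
      h1, pullbackSymmetry_hom_comp_fst]
    exact pullback.lift_snd _ _ _
  · rw [Category.assoc, Category.assoc, pullbackSymmetry_hom_comp_snd,
      h2, pullbackSymmetry_hom_comp_snd_assoc]
    exact pullback.lift_fst _ _ _

/-- representability of `morS` from the universal property. -/
theorem representableBy_of_univ (M : Over S) (ev : Over.mk g ⊗ M ⟶ Over.mk f)
    (huniv : ∀ (T : Over S) (φ : Over.mk g ⊗ T ⟶ Over.mk f),
      ∃! v : T ⟶ M, (Over.mk g ◁ v) ≫ ev = φ) :
    Nonempty ((Flatn.morS g f).RepresentableBy M) := by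
  refine ⟨?_⟩
  have hbij : ∀ T : Over S, Function.Bijective
      (fun v : T ⟶ M => ((sig g T).hom ≫ (Over.mk g ◁ v) ≫ ev : (Flatn.morS g f).obj (op T))) := by
    intro T
    constructor
    · intro v v' h
      have h' : (Over.mk g ◁ v) ≫ ev = (Over.mk g ◁ v') ≫ ev :=
        (cancel_epi (sig g T).hom).mp h
      exact (huniv T _).unique rfl h'.symm
    · intro b
      obtain ⟨v, hv, -⟩ := huniv T ((sig g T).inv ≫ b)
      refine ⟨v, ?_⟩
      change (sig g T).hom ≫ (Over.mk g ◁ v) ≫ ev = b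
      rw [hv, Iso.hom_inv_id_assoc]
  exact
    { homEquiv := fun {T} => Equiv.ofBijective _ (hbij T)
      homEquiv_comp := fun {T' T} h v => by
        change (sig g T').hom ≫ (Over.mk g ◁ (h ≫ v)) ≫ ev =
          (Over.map g).map ((Over.pullback g).map h) ≫ (sig g T).hom ≫ (Over.mk g ◁ v) ≫ ev
        rw [← Category.assoc ((Over.map g).map _), sig_naturality, Category.assoc,
          MonoidalCategory.whiskerLeft_comp, Category.assoc] }

/-- the universal property from `Rep`. -/
theorem univ_of_rep {M : Scheme.{u}} {ξ : HomFun.El (Over.mk g) (Over.mk f) M}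
    (hR : (HomFun.homFun (Over.mk g) (Over.mk f)).Rep M ξ) (T : Over S)
    (φ : Over.mk g ⊗ T ⟶ Over.mk f) :
    ∃! v : T ⟶ Over.mk ξ.1, (Over.mk g ◁ v) ≫ ξ.2 = φ := by
  obtain ⟨ξ1, ξ2⟩ := ξ
  obtain ⟨v, hv, hvu⟩ := hR T.left (⟨T.hom, φ⟩ : HomFun.El (Over.mk g) (Over.mk f) T.left)
  obtain ⟨h1, h2⟩ := (HomLocal.elMap_eq_iff
    (⟨ξ1, ξ2⟩ : HomFun.El (Over.mk g) (Over.mk f) M) v φ).mp hv
  refine ⟨Over.homMk v h1, h2, fun v' hv' => ?_⟩
  have hv'' : HomFun.elMap v'.left (⟨ξ1, ξ2⟩ : HomFun.El (Over.mk g) (Over.mk f) M) =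
      (⟨T.hom, φ⟩ : HomFun.El (Over.mk g) (Over.mk f) T.left) :=
    (HomLocal.elMap_eq_iff (⟨ξ1, ξ2⟩ : HomFun.El (Over.mk g) (Over.mk f) M) v'.left φ).mpr
      ⟨Over.w v', hv'⟩
  ext
  exact hvu v'.left hv''

/-- **Representability of `morS`** from the scheme of morphisms. -/
theorem exists_representableBy (hg : Mor2.IsFinLocFree g) [IsAffineHom f] :
    ∃ W : Over S, IsAffineHom W.hom ∧ Nonempty ((Flatn.morS g f).RepresentableBy W) := by
  haveI : IsAffineHom (Over.mk f).hom := ‹_›
  obtain ⟨M, ev, hM, -, -, huniv⟩ := exists_homScheme (Over.mk g) (Over.mk f) hg.1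
    (affLocProj_of_isFinLocFree g hg)
  exact ⟨M, hM, representableBy_of_univ g f M ev huniv⟩

/-- affine case: finite free coordinate ring. -/
theorem isFinLocFree_of_free [IsAffine Z] [IsAffine S]
    (hfree : letI := (g.appTop).hom.toAlgebra
      Module.Finite Γ(S, ⊤) Γ(Z, ⊤) ∧ Module.Free Γ(S, ⊤) Γ(Z, ⊤)) : Mor2.IsFinLocFree g := by
  letI := (g.appTop).hom.toAlgebra
  obtain ⟨h1, h2⟩ := hfree
  haveI := h1
  haveI := h2
  haveI : Module.FinitePresentation Γ(S, ⊤) Γ(Z, ⊤) := Module.finitePresentation_of_projective _ _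
  refine ⟨?_, ?_, ?_⟩
  · exact (HasAffineProperty.iff_of_isAffine (P := @IsFinite)).mpr ⟨inferInstance, h1⟩
  · exact (HasRingHomProperty.iff_of_isAffine (P := @Flat)).mpr
      (show Module.Flat Γ(S, ⊤) Γ(Z, ⊤) from inferInstance)
  · exact (HasRingHomProperty.iff_of_isAffine (P := @LocallyOfFinitePresentation)).mpr
      (show Algebra.FinitePresentation Γ(S, ⊤) Γ(Z, ⊤) from inferInstance)

theorem exists_representableBy_affine [IsAffine Z] [IsAffine X] [IsAffine S]
    (hfree : letI := (g.appTop).hom.toAlgebra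
      Module.Finite Γ(S, ⊤) Γ(Z, ⊤) ∧ Module.Free Γ(S, ⊤) Γ(Z, ⊤)) :
    ∃ W : Over S, IsAffine W.left ∧ Nonempty ((Flatn.morS g f).RepresentableBy W) := by
  obtain ⟨W, hW, hR⟩ := exists_representableBy g f (isFinLocFree_of_free g hfree)
  haveI := hW
  exact ⟨W, isAffine_of_isAffineHom W.hom, hR⟩

end Bridge

end Groth.Agent.Lib.Helper10.MorSRep
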