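import Mathlib
import Groth.Prelude.Def_Mor2
import Groth.Agent.Lib.Helper10.MorSRep
import Groth.Agent.Lib.Helper10.HilbRing2

/-!
# Closed subschemes of affine schemes finite locally free over an affine base: module dictionary
-/

set_option autoImplicit false
set_option linter.unusedSectionVars false
set_option linter.style.haveILetI false
set_option backward.isDefEq.respectTransparency.types false
set_option maxHeartbeats 4000000
set_option synthInstance.maxHeartbeats 400000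
universe u
open CategoryTheory CategoryTheory.Limits AlgebraicGeometry Opposite

namespace Groth.Agent.Lib.Helper10.HilbAff

open Groth.Agent.Lib.Helper10.HilbRing

/-- the rank of a finite flat morphism of affine schemes in terms of global sections. -/
theorem finrank_eq_rankAtStalk {Z T : Scheme.{u}} [IsAffine Z] [IsAffine T] (g : Z ⟶ T)
    [Flat g] [IsFinite g] (y : T) :
    letI := g.appTop.hom.toAlgebra
    g.finrank y = Module.rankAtStalk (R := Γ(T, ⊤)) Γ(Z, ⊤) (T.isoSpec.hom y) := by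
  letI := g.appTop.hom.toAlgebra
  have hsq : IsPullback Z.isoSpec.hom g (Spec.map g.appTop) T.isoSpec.hom :=
    IsPullback.of_horiz_isIso ⟨Scheme.isoSpec_hom_naturality g⟩
  have h1 : g.appTop.hom.Finite :=
    (HasAffineProperty.iff_of_isAffine (P := @IsFinite)).mp inferInstance |>.2
  have h2 : g.appTop.hom.Flat :=
    (HasRingHomProperty.iff_of_isAffine (P := @Flat)).mp inferInstance
  haveI : Flat (Spec.map g.appTop) := (Flat.SpecMap_iff).mpr h2
  haveI : IsFinite (Spec.map g.appTop) := (IsFinite.SpecMap_iff _).mpr h1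
  rw [Scheme.Hom.finrank_of_isPullback _ _ _ _ hsq y]
  haveI : Module.Finite Γ(T, ⊤) Γ(Z, ⊤) := h1
  haveI : Module.Flat Γ(T, ⊤) Γ(Z, ⊤) := h2
  exact Scheme.Hom.finrank_SpecMap_algebraMap Γ(T, ⊤) Γ(Z, ⊤) _

variable {P T : Scheme.{u}} [IsAffine P] [IsAffine T] (π : P ⟶ T) (I : P.IdealSheafData)

/-- the ideal of global sections. -/
abbrev topIdeal : Ideal Γ(P, ⊤) := I.ideal ⟨⊤, isAffineOpen_top P⟩

instance : IsAffine I.subscheme := isAffine_of_isAffineHom I.subschemeι

/-- global sections of the closed subscheme. -/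
noncomputable def quotEquivΓ : (Γ(P, ⊤) ⧸ topIdeal I) ≃+* Γ(I.subscheme, ⊤) :=
  (Ideal.quotEquivOfEq (I.ker_subschemeι_app ⟨⊤, isAffineOpen_top P⟩).symm).trans
    (RingHom.quotientKerEquivOfSurjective (f := (I.subschemeι.app ⊤).hom)
      (I.subschemeι_app_surjective ⟨⊤, isAffineOpen_top P⟩))

lemma quotEquivΓ_mk (x : Γ(P, ⊤)) :
    quotEquivΓ I (Ideal.Quotient.mk _ x) = (I.subschemeι.app ⊤).hom x := rfl

/-- the linear version. -/
noncomputable def quotLinEquivΓ :
    letI := π.appTop.hom.toAlgebra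
    letI := (I.subschemeι ≫ π).appTop.hom.toAlgebra
    (Γ(P, ⊤) ⧸ topIdeal I) ≃ₗ[Γ(T, ⊤)] Γ(I.subscheme, ⊤) :=
  letI := π.appTop.hom.toAlgebra
  letI := (I.subschemeι ≫ π).appTop.hom.toAlgebra
  { quotEquivΓ I with
    map_smul' := fun c y => by
      obtain ⟨x, rfl⟩ := Ideal.Quotient.mk_surjective y
      change quotEquivΓ I (c • Ideal.Quotient.mk _ x) = c • quotEquivΓ I (Ideal.Quotient.mk _ x)
      rw [Algebra.smul_def, Algebra.smul_def, map_mul]
      congr 1 }

theorem finite_projective_of_isFinLocFreeOfDeg {d : ℕ}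
    (h : Mor2.IsFinLocFreeOfDeg d (I.subschemeι ≫ π)) :
    letI := π.appTop.hom.toAlgebra
    Module.Finite Γ(T, ⊤) (Γ(P, ⊤) ⧸ topIdeal I) ∧
      Module.Projective Γ(T, ⊤) (Γ(P, ⊤) ⧸ topIdeal I) ∧
      ∀ q : PrimeSpectrum Γ(T, ⊤), Module.rankAtStalk (Γ(P, ⊤) ⧸ topIdeal I) q = d := by
  letI := π.appTop.hom.toAlgebra
  obtain ⟨⟨hfin, hflat, hlfp⟩, hrank⟩ := h
  haveI := hfin
  haveI := hflat
  haveI := hlfp
  have h1 : (I.subschemeι ≫ π).appTop.hom.Finite :=
    (HasAffineProperty.iff_of_isAffine (P := @IsFinite)).mp inferInstance |>.2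
  have h2 : (I.subschemeι ≫ π).appTop.hom.Flat :=
    (HasRingHomProperty.iff_of_isAffine (P := @Flat)).mp inferInstance
  have h3 : (I.subschemeι ≫ π).appTop.hom.FinitePresentation :=
    (HasRingHomProperty.iff_of_isAffine (P := @LocallyOfFinitePresentation)).mp inferInstance
  letI := (I.subschemeι ≫ π).appTop.hom.toAlgebra
  haveI : Module.Finite Γ(T, ⊤) Γ(I.subscheme, ⊤) := h1
  haveI : Module.Flat Γ(T, ⊤) Γ(I.subscheme, ⊤) := h2
  haveI : Algebra.FinitePresentation Γ(T, ⊤) Γ(I.subscheme, ⊤) := h3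
  haveI : Module.FinitePresentation Γ(T, ⊤) Γ(I.subscheme, ⊤) :=
    Module.FinitePresentation.of_finite_of_finitePresentation _ _
  haveI : Module.Projective Γ(T, ⊤) Γ(I.subscheme, ⊤) :=
    Module.Flat.projective_of_finitePresentation
  let e := quotLinEquivΓ π I
  refine ⟨Module.Finite.equiv e.symm, Module.Projective.of_equiv e.symm, fun q => ?_⟩
  rw [Module.rankAtStalk_eq_of_equiv e]
  have hq : T.isoSpec.hom (T.isoSpec.inv q) = q := by
    simp [← Scheme.Hom.comp_apply]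
  rw [← hq, ← finrank_eq_rankAtStalk (I.subschemeι ≫ π) (T.isoSpec.inv q)]
  exact hrank _

theorem isFinLocFreeOfDeg_of_isBasisQuot {d : ℕ} (b : Fin d → Γ(P, ⊤))
    (hb : letI := π.appTop.hom.toAlgebra; IsBasisQuot Γ(T, ⊤) (topIdeal I) b) :
    Mor2.IsFinLocFreeOfDeg d (I.subschemeι ≫ π) := by
  letI := π.appTop.hom.toAlgebra
  letI := (I.subschemeι ≫ π).appTop.hom.toAlgebra
  let e := quotLinEquivΓ π I
  let β : Module.Basis (Fin d) Γ(T, ⊤) (Γ(P, ⊤) ⧸ topIdeal I) :=
    Module.Basis.ofEquivFun (LinearEquiv.ofBijective _ hb).symm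
  let β' : Module.Basis (Fin d) Γ(T, ⊤) Γ(I.subscheme, ⊤) := β.map e
  haveI : Module.Finite Γ(T, ⊤) Γ(I.subscheme, ⊤) := Module.Finite.of_basis β'
  haveI : Module.Free Γ(T, ⊤) Γ(I.subscheme, ⊤) := Module.Free.of_basis β'
  have hflf := Groth.Agent.Lib.Helper10.MorSRep.isFinLocFree_of_free (I.subschemeι ≫ π)
    ⟨inferInstance, inferInstance⟩
  refine ⟨hflf, fun y => ?_⟩
  haveI := hflf.1
  haveI := hflf.2.1
  rw [finrank_eq_rankAtStalk (I.subschemeι ≫ π) y]
  haveI : Nonempty (⊤ : T.Opens) := ⟨⟨y, trivial⟩⟩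
  haveI : Nontrivial Γ(T, ⊤) := Scheme.component_nontrivial T ⊤
  rw [Module.rankAtStalk_eq_finrank_of_free, Pi.natCast_def, Nat.cast_id,
    Module.finrank_eq_card_basis β', Fintype.card_fin]

end Groth.Agent.Lib.Helper10.HilbAff
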