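import Mathlib
import Groth.Prelude.Def_HilbD
import Groth.Agent.Lib.Helper10.HilbLib
import Groth.Agent.Lib.Helper10.ZarRep2

/-!
# The Hilbert functor of points as a set-valued functor on schemes with a structure map to `S`
-/

set_option autoImplicit false
set_option linter.unusedSectionVars false
set_option linter.style.haveILetI false
set_option backward.isDefEq.respectTransparency.types false
set_option maxHeartbeats 4000000
set_option synthInstance.maxHeartbeats 400000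
universe u
open CategoryTheory CategoryTheory.Limits AlgebraicGeometry Opposite

namespace Groth.Agent.Lib.Helper10.HilbFun

open PicF HilbD Groth.Agent.Lib.Helper10.HilbLib Groth.Agent.Lib.Helper10.ZarRep

variable {X S : Scheme.{u}} (f : X ⟶ S) (d : ℕ)

/-- families of closed subschemes finite locally free of degree `d`. -/
abbrev El (T : Scheme.{u}) : Type u := Σ t : T ⟶ S, Obj f d (Over.mk t)

variable {f d}

/-- the morphism of `S`-schemes given by `a`. -/
abbrev oMk {T T' : Scheme.{u}} (a : T' ⟶ T) {t : T ⟶ S} {t' : T' ⟶ S} (h : a ≫ t = t') :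
    Over.mk t' ⟶ Over.mk t := Over.homMk a h

lemma oMk_id {T : Scheme.{u}} (t : T ⟶ S) :
    (oMk (𝟙 T) (Category.id_comp t) : Over.mk t ⟶ Over.mk t) = 𝟙 _ := rfl

lemma oMk_comp {T T' T'' : Scheme.{u}} (a' : T'' ⟶ T') (a : T' ⟶ T) {t : T ⟶ S} {t' : T' ⟶ S}
    {t'' : T'' ⟶ S} (h : a ≫ t = t') (h' : a' ≫ t' = t'') :
    oMk a' h' ≫ oMk a h = oMk (a' ≫ a) (by rw [Category.assoc, h, h']) := rfl

lemma El.mk_eq_mk_iff {T : Scheme.{u}} {t : T ⟶ S} {Z Z' : Obj f d (Over.mk t)} :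
    (⟨t, Z⟩ : El f d T) = ⟨t, Z'⟩ ↔ Z.1 = Z'.1 := by
  rw [Sigma.mk.inj_iff]
  constructor
  · rintro ⟨-, h⟩
    rw [heq_iff_eq] at h
    rw [h]
  · intro h
    exact ⟨rfl, heq_of_eq (Subtype.ext h)⟩

/-- pullback of families. -/
noncomputable def elMap {T T' : Scheme.{u}} (a : T' ⟶ T) (x : El f d T) : El f d T' :=
  ⟨a ≫ x.1, pullObj f (oMk a rfl) x.2⟩

lemma elMap_fst {T T' : Scheme.{u}} (a : T' ⟶ T) (x : El f d T) : (elMap a x).1 = a ≫ x.1 := rfl

lemma elMap_eq {T T' : Scheme.{u}} (a : T' ⟶ T) (x : El f d T) {t' : T' ⟶ S}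
    (h : a ≫ x.1 = t') : elMap a x = ⟨t', pullObj f (oMk a h) x.2⟩ := by
  subst h
  rfl

lemma elMap_eq_iff {T T' : Scheme.{u}} (a : T' ⟶ T) (x : El f d T) (y : El f d T') :
    elMap a x = y ↔ ∃ h : a ≫ x.1 = y.1, pull f (oMk a h) x.2.1 = y.2.1 := by
  constructor
  · intro e
    subst e
    exact ⟨rfl, rfl⟩
  · rintro ⟨h, e⟩
    obtain ⟨t', Z'⟩ := y
    rw [elMap_eq a x h]
    exact El.mk_eq_mk_iff.mpr e

lemma elMap_id {T : Scheme.{u}} (x : El f d T) : elMap (𝟙 T) x = x := by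
  rw [elMap_eq_iff]
  refine ⟨Category.id_comp _, ?_⟩
  rw [oMk_id, pull_id]

lemma elMap_comp {T T' T'' : Scheme.{u}} (a' : T'' ⟶ T') (a : T' ⟶ T) (x : El f d T) :
    elMap (a' ≫ a) x = elMap a' (elMap a x) := by
  symm
  rw [elMap_eq_iff]
  refine ⟨(Category.assoc _ _ _).symm, ?_⟩
  change pull f _ (pull f _ x.2.1) = pull f _ x.2.1
  rw [← pull_comp]
  rfl

variable (f d)

/-- the Hilbert functor of points. -/
noncomputable def hilbFun : SFun S where
  F :=
    { obj := fun T => El f d T.unop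
      map := fun g => ↾(fun x => elMap g.unop x)
      map_id := fun T => ConcreteCategory.hom_ext _ _ (fun x => elMap_id x)
      map_comp := fun g g' => ConcreteCategory.hom_ext _ _
        (fun x => elMap_comp g'.unop g.unop x) }
  str := fun x => x.1
  str_map := fun _ _ => rfl

variable {f d}

lemma pull_eq {T T' : Scheme.{u}} (a : T' ⟶ T) (x : El f d T) :
    (hilbFun f d).pull a x = elMap a x := rfl

/-- **from representability of the functor to the frozen notion.** -/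
theorem representable_of_rep {M : Scheme.{u}} {ξ : El f d M} (hR : (hilbFun f d).Rep M ξ) :
    HilbD.Representable f d := by
  obtain ⟨ξ1, ξ2⟩ := ξ
  refine ⟨Over.mk ξ1, ξ2, fun T Z' => ?_⟩
  obtain ⟨v, hv, hvu⟩ := hR T.left (⟨T.hom, Z'⟩ : El f d T.left)
  obtain ⟨h1, h2⟩ := (elMap_eq_iff v (⟨ξ1, ξ2⟩ : El f d M) ⟨T.hom, Z'⟩).mp hv
  refine ⟨Over.homMk v h1, h2, fun v' hv' => ?_⟩
  have hv'' : elMap v'.left (⟨ξ1, ξ2⟩ : El f d M) = (⟨T.hom, Z'⟩ : El f d T.left) :=
    (elMap_eq_iff v'.left (⟨ξ1, ξ2⟩ : El f d M) ⟨T.hom, Z'⟩).mpr ⟨Over.w v', hv'⟩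
  ext
  exact hvu v'.left hv''

end Groth.Agent.Lib.Helper10.HilbFun
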