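import Mathlib
import Groth.Agent.Lib.Helper10.HilbRing2

/-!
# Base change of coordinate data and of ideals with a prescribed basis of the quotient
-/

set_option autoImplicit false
set_option linter.unusedSectionVars false
set_option linter.style.haveILetI false
set_option backward.isDefEq.respectTransparency.types false
set_option maxHeartbeats 4000000
set_option synthInstance.maxHeartbeats 400000
universe u

namespace Groth.Agent.Lib.Helper10.HilbRing

variable {R A : Type u} [CommRing R] [CommRing A] [Algebra R A] {d : ℕ} {e : Fin d → A}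
variable {C D : Type u} [CommRing C] [CommRing D] [Algebra R C] [Algebra A D] [Algebra C D]
  [Algebra R D] [IsScalarTower R A D] [IsScalarTower R C D]
variable (hD : IsBaseChange C (IsScalarTower.toAlgHom R A D).toLinearMap)

theorem JQ_injective {Q₁ Q₂ : QData R A e C} (h : JQ hD Q₁ = JQ hD Q₂) : Q₁ = Q₂ := by
  have key : ∀ (J₁ J₂ : Ideal D) (h₁ : IsBasisQuot C J₁ (fun i => algebraMap A D (e i)))
      (h₂ : IsBasisQuot C J₂ (fun i => algebraMap A D (e i))), J₁ = J₂ →
      ofIdeal R h₁ = ofIdeal R h₂ := by
    intro J₁ J₂ h₁ h₂ h12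
    subst h12
    rfl
  rw [← ofIdeal_JQ hD Q₁, ← ofIdeal_JQ hD Q₂]
  exact key _ _ _ _ h

/-- **the universal property in ideal form.** -/
theorem existsUnique_algHom {J : Ideal D}
    (hJ : IsBasisQuot C J (fun i => algebraMap A D (e i))) :
    ∃! v : H R A e →ₐ[R] C, JQ hD ((univ R A e).map v) = J := by
  refine ⟨classify (ofIdeal R hJ), ?_, fun v hv => ?_⟩
  · change JQ hD ((univ R A e).map (classify (ofIdeal R hJ))) = J
    rw [map_univ_classify, JQ_ofIdeal]
  · have h1 : (univ R A e).map v = ofIdeal R hJ := by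
      apply JQ_injective hD
      rw [hv, JQ_ofIdeal]
    rw [← h1, classify_map_univ]

section BaseChange

variable {C' D' : Type u} [CommRing C'] [CommRing D'] [Algebra R C'] [Algebra A D']
  [Algebra C' D'] [Algebra R D'] [IsScalarTower R A D'] [IsScalarTower R C' D']
variable (hD' : IsBaseChange C' (IsScalarTower.toAlgHom R A D').toLinearMap)
variable (w : C →ₐ[R] C') (m : D →+* D') (hmA : ∀ a, m (algebraMap A D a) = algebraMap A D' a)
  (hmC : ∀ c, m (algebraMap C D c) = algebraMap C' D' (w c))

include hmC in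
lemma m_smul (c : C) (x : D) : m (c • x) = w c • m x := by
  rw [Algebra.smul_def, map_mul, hmC, Algebra.smul_def]

include hmA hmC in
lemma qC_map (Q : QData R A e C) (x : D) :
    qC hD' (Q.map w) (m x) = fun k => w (qC hD Q x k) := by
  induction x using hD.inductionOn with
  | zero =>
    ext k
    simp
  | tmul a =>
    change qC hD' (Q.map w) (m (algebraMap A D a)) = fun k => w (qC hD Q (algebraMap A D a) k)
    rw [hmA, qC_algebraMap, qC_algebraMap]
    rfl
  | smul s n ih =>
    rw [m_smul w m hmC, map_smul, ih, map_smul]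
    ext k
    simp
  | add n₁ n₂ h₁ h₂ =>
    rw [map_add, map_add, h₁, h₂, map_add]
    ext k
    simp

include hmA hmC in
lemma sub_mem_map_JQ (Q : QData R A e C) (y : D') :
    y - ∑ i, qC hD' (Q.map w) y i • algebraMap A D' (e i) ∈ (JQ hD Q).map m := by
  induction y using hD'.inductionOn with
  | zero => simp
  | tmul a =>
    change algebraMap A D' a - ∑ i, qC hD' (Q.map w) (algebraMap A D' a) i • algebraMap A D' (e i) ∈ _
    have h1 := Ideal.mem_map_of_mem m (sub_mem_JQ hD Q (algebraMap A D a))
    rw [map_sub, map_sum, hmA] at h1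
    have h2 : ∀ i, m (qC hD Q (algebraMap A D a) i • algebraMap A D (e i)) =
        qC hD' (Q.map w) (algebraMap A D' a) i • algebraMap A D' (e i) := by
      intro i
      rw [m_smul w m hmC, hmA, qC_algebraMap, qC_algebraMap]
      rfl
    rw [Finset.sum_congr rfl (fun i _ => h2 i)] at h1
    exact h1
  | smul s n ih =>
    have h1 : s • n - ∑ i, qC hD' (Q.map w) (s • n) i • algebraMap A D' (e i) =
        s • (n - ∑ i, qC hD' (Q.map w) n i • algebraMap A D' (e i)) := by
      rw [smul_sub, Finset.smul_sum, map_smul]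
      congr 1
      refine Finset.sum_congr rfl (fun i _ => ?_)
      rw [Pi.smul_apply, smul_eq_mul, mul_smul]
    rw [h1, Algebra.smul_def]
    exact Ideal.mul_mem_left _ _ ih
  | add n₁ n₂ h₁ h₂ =>
    have h3 : n₁ + n₂ - ∑ i, qC hD' (Q.map w) (n₁ + n₂) i • algebraMap A D' (e i) =
        (n₁ - ∑ i, qC hD' (Q.map w) n₁ i • algebraMap A D' (e i)) +
          (n₂ - ∑ i, qC hD' (Q.map w) n₂ i • algebraMap A D' (e i)) := by
      rw [map_add]
      simp only [Pi.add_apply, add_smul, Finset.sum_add_distrib]
      abel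
    rw [h3]
    exact Ideal.add_mem _ h₁ h₂

include hmA hmC in
/-- **base change of the ideal attached to coordinate data.** -/
theorem JQ_map (Q : QData R A e C) : (JQ hD Q).map m = JQ hD' (Q.map w) := by
  apply le_antisymm
  · rw [Ideal.map_le_iff_le_comap]
    intro x hx
    rw [Ideal.mem_comap, mem_JQ, qC_map hD hD' w m hmA hmC]
    rw [mem_JQ] at hx
    ext k
    rw [hx]
    simp
  · intro y hy
    have h1 := sub_mem_map_JQ hD hD' w m hmA hmC Q y
    rw [mem_JQ] at hy
    rw [hy] at h1
    simpa using h1

include hD hD' hmA hmC in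
theorem isBasisQuot_map {J : Ideal D} (hJ : IsBasisQuot C J (fun i => algebraMap A D (e i))) :
    IsBasisQuot C' (J.map m) (fun i => algebraMap A D' (e i)) := by
  have h1 := JQ_map hD hD' w m hmA hmC (ofIdeal R hJ)
  rw [JQ_ofIdeal] at h1
  rw [h1]
  exact isBasisQuot_JQ hD' _

end BaseChange

end Groth.Agent.Lib.Helper10.HilbRing
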