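import Mathlib
import Groth.Agent.Lib.Helper10.HilbAff0
import Groth.Agent.Lib.Helper10.HilbFun1
import Groth.Agent.Lib.Helper10.HilbRing3
import Groth.Agent.Lib.Helper1.IdealSheafComap

/-!
# The affine dictionary for the Hilbert functor of points: rings attached to an affine test scheme
-/

set_option autoImplicit false
set_option linter.unusedSectionVars false
set_option linter.style.haveILetI false
set_option backward.isDefEq.respectTransparency.types false
set_option maxHeartbeats 4000000
set_option synthInstance.maxHeartbeats 400000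
universe u
open CategoryTheory CategoryTheory.Limits AlgebraicGeometry Opposite

namespace Groth.Agent.Lib.Helper10.HilbAff

open PicF HilbD Groth.Agent.Lib.Helper10.HilbLib Groth.Agent.Lib.Helper10.HilbFun
  Groth.Agent.Lib.Helper10.HilbRing

lemma appLE_top_top {X Y : Scheme.{u}} (φ : X ⟶ Y) :
    Scheme.Hom.appLE φ ⊤ ⊤ le_top = φ.appTop := by
  simp only [Scheme.Hom.appLE, Scheme.Hom.appTop]
  erw [CategoryTheory.Functor.map_id]
  exact Category.comp_id _

variable {X S : Scheme.{u}} (f : X ⟶ S)

/-- the ring of `S`, tagged. -/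
def RS (_ : X ⟶ S) : Type u := Γ(S, ⊤)
/-- the ring of `X`, tagged. -/
def AX (_ : X ⟶ S) : Type u := Γ(X, ⊤)
/-- the ring of `T`, tagged. -/
def CT (_ : X ⟶ S) {T : Scheme.{u}} (_ : T ⟶ S) : Type u := Γ(T, ⊤)
/-- the ring of `X_T`, tagged. -/
def DT (f : X ⟶ S) {T : Scheme.{u}} (t : T ⟶ S) : Type u := Γ(XT f (Over.mk t), ⊤)

noncomputable instance : CommRing (RS f) := inferInstanceAs (CommRing Γ(S, ⊤))
noncomputable instance : CommRing (AX f) := inferInstanceAs (CommRing Γ(X, ⊤))
noncomputable instance {T : Scheme.{u}} (t : T ⟶ S) : CommRing (CT f t) :=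
  inferInstanceAs (CommRing Γ(T, ⊤))
noncomputable instance {T : Scheme.{u}} (t : T ⟶ S) : CommRing (DT f t) :=
  inferInstanceAs (CommRing Γ(XT f (Over.mk t), ⊤))

noncomputable instance : Algebra (RS f) (AX f) := (f.appTop.hom : RS f →+* AX f).toAlgebra

variable {T : Scheme.{u}} (t : T ⟶ S)

noncomputable instance : Algebra (RS f) (CT f t) := (t.appTop.hom : RS f →+* CT f t).toAlgebra

noncomputable instance : Algebra (AX f) (DT f t) :=
  ((pullback.fst f (Over.mk t).hom).appTop.hom : AX f →+* DT f t).toAlgebra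

noncomputable instance : Algebra (CT f t) (DT f t) :=
  ((XTproj f (Over.mk t)).appTop.hom : CT f t →+* DT f t).toAlgebra

noncomputable instance : Algebra (RS f) (DT f t) :=
  (((pullback.fst f (Over.mk t).hom).appTop.hom : AX f →+* DT f t).comp
    (f.appTop.hom : RS f →+* AX f)).toAlgebra

instance : IsScalarTower (RS f) (AX f) (DT f t) := IsScalarTower.of_algebraMap_eq' rfl

instance : IsScalarTower (RS f) (CT f t) (DT f t) := IsScalarTower.of_algebraMap_eq' (by
  have h := congrArg (fun φ => φ.appTop) (pullback.condition (f := f) (g := (Over.mk t).hom))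
  simp only [Scheme.Hom.comp_appTop] at h
  exact congrArg CommRingCat.Hom.hom h)

lemma algebraMap_RA : (algebraMap (RS f) (AX f) : Γ(S, ⊤) →+* Γ(X, ⊤)) = f.appTop.hom := rfl
lemma algebraMap_RC : (algebraMap (RS f) (CT f t) : Γ(S, ⊤) →+* Γ(T, ⊤)) = t.appTop.hom := rfl
lemma algebraMap_AD : (algebraMap (AX f) (DT f t) : Γ(X, ⊤) →+* Γ(XT f (Over.mk t), ⊤)) =
    (pullback.fst f (Over.mk t).hom).appTop.hom := rfl
lemma algebraMap_CD : (algebraMap (CT f t) (DT f t) : Γ(T, ⊤) →+* Γ(XT f (Over.mk t), ⊤)) =
    (XTproj f (Over.mk t)).appTop.hom := rfl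

section Affine

variable [IsAffine X] [IsAffine S] [IsAffine T]

instance instAffLeft : IsAffine (Over.mk t).left := inferInstanceAs (IsAffine T)

instance : IsAffine (XT f (Over.mk t)) :=
  inferInstanceAs (IsAffine (pullback f (Over.mk t).hom))

/-- the base change property of the rings. -/
theorem hD : IsBaseChange (CT f t) (IsScalarTower.toAlgHom (RS f) (AX f) (DT f t)).toLinearMap := by
  have h : IsPushout f.appTop (Over.mk t).hom.appTop (pullback.fst f (Over.mk t).hom).appTop
      (pullback.snd f (Over.mk t).hom).appTop :=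
    isPushout_appTop_of_isPullback (IsPullback.of_hasPullback f (Over.mk t).hom)
  have h' : IsPushout (CommRingCat.ofHom (algebraMap (RS f) (AX f)))
      (CommRingCat.ofHom (algebraMap (RS f) (CT f t)))
      (CommRingCat.ofHom (algebraMap (AX f) (DT f t)))
      (CommRingCat.ofHom (algebraMap (CT f t) (DT f t))) := h
  have h2 : Algebra.IsPushout (RS f) (AX f) (CT f t) (DT f t) :=
    CommRingCat.isPushout_iff_isPushout.mp h'
  exact h2.symm.out

/-- the ideal of global sections, tagged. -/
noncomputable def idealOf (I : (XT f (Over.mk t)).IdealSheafData) : Ideal (DT f t) :=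
  I.ideal ⟨⊤, isAffineOpen_top _⟩

lemma idealOf_injective {I I' : (XT f (Over.mk t)).IdealSheafData}
    (h : idealOf f t I = idealOf f t I') : I = I' :=
  Scheme.IdealSheafData.ext_of_isAffine h

/-- the ideal sheaf of an ideal, tagged. -/
noncomputable def sheafOf (J : Ideal (DT f t)) : (XT f (Over.mk t)).IdealSheafData :=
  Scheme.IdealSheafData.ofIdealTop J

lemma idealOf_sheafOf (J : Ideal (DT f t)) : idealOf f t (sheafOf f t J) = J :=
  Scheme.IdealSheafData.equivOfIsAffine.apply_symm_apply J

/-- the images of `E` form a basis of the coordinate ring of the closed subscheme. -/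
def HasBasis {d : ℕ} (E : Fin d → AX f) (I : (XT f (Over.mk t)).IdealSheafData) : Prop :=
  IsBasisQuot (CT f t) (idealOf f t I) (fun i => algebraMap (AX f) (DT f t) (E i))

theorem isFinLocFreeOfDeg_of_hasBasis {d : ℕ} (E : Fin d → AX f)
    (I : (XT f (Over.mk t)).IdealSheafData) (h : HasBasis f t E I) :
    Mor2.IsFinLocFreeOfDeg d (I.subschemeι ≫ XTproj f (Over.mk t)) :=
  isFinLocFreeOfDeg_of_isBasisQuot (XTproj f (Over.mk t)) I _ h

theorem finite_projective_of_obj {d : ℕ} (Z : Obj f d (Over.mk t)) :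
    Module.Finite (CT f t) (DT f t ⧸ idealOf f t Z.1) ∧
      Module.Projective (CT f t) (DT f t ⧸ idealOf f t Z.1) ∧
      ∀ q : PrimeSpectrum (CT f t), Module.rankAtStalk (DT f t ⧸ idealOf f t Z.1) q = d :=
  finite_projective_of_isFinLocFreeOfDeg (XTproj f (Over.mk t)) Z.1 Z.2

end Affine

section BaseChange

variable {T' : Scheme.{u}} (a : T' ⟶ T) {t} {t' : T' ⟶ S} (h : a ≫ t = t')

/-- the map on rings of the test schemes. -/
noncomputable def wA : CT f t →ₐ[RS f] CT f t' :=
  { (a.appTop.hom : CT f t →+* CT f t') with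
    commutes' := fun r => by
      change (t.appTop ≫ a.appTop).hom r = t'.appTop.hom r
      rw [← Scheme.Hom.comp_appTop, h] }

/-- the map on rings of the base changes. -/
noncomputable def mA : DT f t →+* DT f t' := (XTmap f (oMk a h)).appTop.hom

lemma wA_apply (c : CT f t) : wA f a h c = a.appTop.hom c := rfl

lemma mA_algebraMap_A (x : AX f) :
    mA f a h (algebraMap (AX f) (DT f t) x) = algebraMap (AX f) (DT f t') x := by
  change ((pullback.fst f (Over.mk t).hom).appTop ≫ (XTmap f (oMk a h)).appTop).hom x =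
    (pullback.fst f (Over.mk t').hom).appTop.hom x
  rw [← Scheme.Hom.comp_appTop, XTmap_fst]

lemma mA_algebraMap_C (c : CT f t) :
    mA f a h (algebraMap (CT f t) (DT f t) c) = algebraMap (CT f t') (DT f t') (wA f a h c) := by
  change ((XTproj f (Over.mk t)).appTop ≫ (XTmap f (oMk a h)).appTop).hom c =
    (a.appTop ≫ (XTproj f (Over.mk t')).appTop).hom c
  rw [← Scheme.Hom.comp_appTop, ← Scheme.Hom.comp_appTop]
  congr 3
  exact XTmap_snd f (oMk a h)

variable [IsAffine X] [IsAffine S] [IsAffine T] [IsAffine T']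

theorem isPushout_CD :
    IsPushout (CommRingCat.ofHom (algebraMap (CT f t) (DT f t)))
      (CommRingCat.ofHom (wA f a h).toRingHom) (CommRingCat.ofHom (mA f a h))
      (CommRingCat.ofHom (algebraMap (CT f t') (DT f t'))) :=
  isPushout_appTop_of_isPullback (isPullback_XTmap f (oMk a h))

theorem idealOf_pull (I : (XT f (Over.mk t)).IdealSheafData) :
    idealOf f t' (pull f (oMk a h) I) = (idealOf f t I).map (mA f a h) := by
  rw [pull_eq_comap]
  have h1 := Groth.Agent.Lib.Helper1.ideal_comap I (XTmap f (oMk a h))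
    ⟨⊤, isAffineOpen_top _⟩ ⟨⊤, isAffineOpen_top _⟩ le_top
  have e : Scheme.Hom.appLE (XTmap f (oMk a h)) ⊤ ⊤ le_top = (XTmap f (oMk a h)).appTop := by
    simp only [Scheme.Hom.appLE, Scheme.Hom.appTop]
    erw [CategoryTheory.Functor.map_id]
    exact Category.comp_id _
  rw [e] at h1
  exact h1

theorem hasBasis_pull {d : ℕ} (E : Fin d → AX f) (I : (XT f (Over.mk t)).IdealSheafData)
    (hI : HasBasis f t E I) : HasBasis f t' E (pull f (oMk a h) I) := by
  change IsBasisQuot (CT f t') (idealOf f t' (pull f (oMk a h) I)) _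
  rw [idealOf_pull]
  exact isBasisQuot_map (hD f t) (hD f t') (wA f a h) (mA f a h) (mA_algebraMap_A f a h)
    (mA_algebraMap_C f a h) hI

end BaseChange

end Groth.Agent.Lib.Helper10.HilbAff
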