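import Mathlib
import Groth.Agent.Lib.Helper10.HilbAff1
import Groth.Agent.Lib.Helper10.SemiTransport

/-!
# Dictionary for the Hilbert functor on affine test schemes, part 1
-/

set_option autoImplicit false
set_option linter.unusedSectionVars false
set_option linter.style.haveILetI false
set_option backward.isDefEq.respectTransparency.types false
set_option maxHeartbeats 4000000
set_option synthInstance.maxHeartbeats 400000
universe u
open CategoryTheory CategoryTheory.Limits AlgebraicGeometry Opposite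

namespace Groth.Agent.Lib.Helper10.HilbAff

open Groth.Agent.Lib.Helper10.HilbRing Groth.Agent.Lib.Helper10.SemiTransport

section

variable {P T : Scheme.{u}} [IsAffine P] [IsAffine T] (π : P ⟶ T) (I : P.IdealSheafData)

theorem fpr_of_isFinLocFreeOfDeg {d : ℕ}
    (h : Mor2.IsFinLocFreeOfDeg d (I.subschemeι ≫ π)) :
    letI := π.appTop.hom.toAlgebra
    FPR Γ(T, ⊤) (Γ(P, ⊤) ⧸ topIdeal I) d :=
  finite_projective_of_isFinLocFreeOfDeg π I h

theorem isFinLocFreeOfDeg_of_fpr {d : ℕ}
    (h : letI := π.appTop.hom.toAlgebra; FPR Γ(T, ⊤) (Γ(P, ⊤) ⧸ topIdeal I) d) :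
    Mor2.IsFinLocFreeOfDeg d (I.subschemeι ≫ π) := by
  letI := π.appTop.hom.toAlgebra
  letI := (I.subschemeι ≫ π).appTop.hom.toAlgebra
  let e := quotLinEquivΓ π I
  obtain ⟨h1, h2, h3⟩ := FPR.of_linearEquiv e h
  haveI := h1
  haveI := h2
  haveI : Module.FinitePresentation Γ(T, ⊤) Γ(I.subscheme, ⊤) :=
    Module.finitePresentation_of_projective _ _
  have hflf : Mor2.IsFinLocFree (I.subschemeι ≫ π) := by
    refine ⟨?_, ?_, ?_⟩
    · exact (HasAffineProperty.iff_of_isAffine (P := @IsFinite)).mpr ⟨inferInstance, h1⟩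
    · exact (HasRingHomProperty.iff_of_isAffine (P := @Flat)).mpr
        (show Module.Flat Γ(T, ⊤) Γ(I.subscheme, ⊤) from inferInstance)
    · exact (HasRingHomProperty.iff_of_isAffine (P := @LocallyOfFinitePresentation)).mpr
        (show Algebra.FinitePresentation Γ(T, ⊤) Γ(I.subscheme, ⊤) from inferInstance)
  refine ⟨hflf, fun y => ?_⟩
  haveI := hflf.1
  haveI := hflf.2.1
  rw [finrank_eq_rankAtStalk (I.subschemeι ≫ π) y]
  exact h3 _

end

end Groth.Agent.Lib.Helper10.HilbAff
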