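import Mathlib
import Groth.Agent.Lib.Helper10.HilbDict1

/-!
# Dictionary for the Hilbert functor on affine test schemes, part 2: the coordinate ring of
`Spec B ×_{Spec R} Spec A`
-/

set_option autoImplicit false
set_option linter.unusedSectionVars false
set_option linter.style.haveILetI false
set_option backward.isDefEq.respectTransparency.types false
set_option maxHeartbeats 4000000
set_option synthInstance.maxHeartbeats 400000
universe u
open CategoryTheory CategoryTheory.Limits AlgebraicGeometry Opposite TensorProduct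

namespace Groth.Agent.Lib.Helper10.HilbDict

open PicF HilbD Groth.Agent.Lib.Helper10.HilbAff

variable (R : Type u) [CommRing R] (B : Type u) [CommRing B] [Algebra R B]

/-- the structure morphism `Spec B ⟶ Spec R`. -/
noncomputable abbrev f₀ : Spec (CommRingCat.of B) ⟶ Spec (CommRingCat.of R) :=
  Spec.map (CommRingCat.ofHom (algebraMap R B))

variable (A : Type u) [CommRing A] [Algebra R A]

/-- the coordinate ring of the fibre product. -/
abbrev DD : Type u := DT (f₀ R B) (f₀ R A)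

/-- `A → Γ(Spec A)`. -/
noncomputable def γ : A ≃+* Γ(Spec (CommRingCat.of A), ⊤) :=
  (Scheme.ΓSpecIso (CommRingCat.of A)).symm.commRingCatIsoToRingEquiv

lemma γ_apply (a : A) : γ A a = (Scheme.ΓSpecIso (CommRingCat.of A)).inv.hom a := rfl

/-- the categorical isomorphism `B ⊗ A ≅ Γ(Spec B ×_{Spec R} Spec A)`. -/
noncomputable def ψ0 : CommRingCat.of (B ⊗[R] A) ≅ Γ(pullback (f₀ R B) (f₀ R A), ⊤) :=
  (Scheme.ΓSpecIso (CommRingCat.of (B ⊗[R] A))).symm ≪≫
    Scheme.Γ.mapIso (pullbackSpecIso R B A).op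

lemma ψ0_hom : (ψ0 R B A).hom = (Scheme.ΓSpecIso (CommRingCat.of (B ⊗[R] A))).inv ≫
    (pullbackSpecIso R B A).hom.appTop := rfl

lemma incl_left_ψ0 :
    CommRingCat.ofHom (Algebra.TensorProduct.includeLeftRingHom : B →+* B ⊗[R] A) ≫ (ψ0 R B A).hom =
      (Scheme.ΓSpecIso (CommRingCat.of B)).inv ≫ (pullback.fst (f₀ R B) (f₀ R A)).appTop := by
  rw [ψ0_hom, ← pullbackSpecIso_hom_fst R B A, Scheme.Hom.comp_appTop,
    ← Category.assoc, ← Category.assoc, Scheme.ΓSpecIso_inv_naturality]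

lemma incl_right_ψ0 :
    CommRingCat.ofHom ((Algebra.TensorProduct.includeRight : A →ₐ[R] B ⊗[R] A) : A →+* B ⊗[R] A) ≫
      (ψ0 R B A).hom =
      (Scheme.ΓSpecIso (CommRingCat.of A)).inv ≫ (pullback.snd (f₀ R B) (f₀ R A)).appTop := by
  rw [ψ0_hom, ← pullbackSpecIso_hom_snd R B A, Scheme.Hom.comp_appTop,
    ← Category.assoc, ← Category.assoc, Scheme.ΓSpecIso_inv_naturality]

/-- the ring isomorphism `A ⊗ B ≃ Γ(Spec B ×_{Spec R} Spec A)`. -/
noncomputable def ψ : A ⊗[R] B ≃+* DD R B A :=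
  (Algebra.TensorProduct.comm R A B).toRingEquiv.trans (ψ0 R B A).commRingCatIsoToRingEquiv

lemma ψ_tmul_one (a : A) :
    ψ R B A (a ⊗ₜ[R] (1 : B)) =
      algebraMap (CT (f₀ R B) (f₀ R A)) (DD R B A) (γ A a) := by
  have h := congrArg (fun φ => φ.hom a) (incl_right_ψ0 R B A)
  exact h

lemma ψ_one_tmul (b : B) :
    ψ R B A ((1 : A) ⊗ₜ[R] b) =
      algebraMap (AX (f₀ R B)) (DD R B A) (γ B b) := by
  have h := congrArg (fun φ => φ.hom b) (incl_left_ψ0 R B A)
  exact h

lemma ψ_tmul (a : A) (b : B) :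
    ψ R B A (a ⊗ₜ[R] b) =
      algebraMap (CT (f₀ R B) (f₀ R A)) (DD R B A) (γ A a) *
        algebraMap (AX (f₀ R B)) (DD R B A) (γ B b) := by
  have h : (a ⊗ₜ[R] b : A ⊗[R] B) = (a ⊗ₜ[R] (1 : B)) * ((1 : A) ⊗ₜ[R] b) := by
    rw [Algebra.TensorProduct.tmul_mul_tmul, mul_one, one_mul]
  rw [h, map_mul, ψ_tmul_one, ψ_one_tmul]

end Groth.Agent.Lib.Helper10.HilbDict
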