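import Mathlib
import Groth.Agent.Lib.Helper10.HilbDict2
import Groth.Agent.Lib.Helper10.HilbFun1
import Groth.Agent.Lib.Helper10.AffPtYoneda2

/-!
# Dictionary for the Hilbert functor on affine test schemes, part 3: naturality and the
classifying ideal of an affine point of the Hilbert scheme
-/

set_option autoImplicit false
set_option linter.unusedSectionVars false
set_option linter.style.haveILetI false
set_option backward.isDefEq.respectTransparency.types false
set_option maxHeartbeats 4000000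
set_option synthInstance.maxHeartbeats 400000
universe u
open CategoryTheory CategoryTheory.Limits AlgebraicGeometry Opposite TensorProduct

namespace Groth.Agent.Lib.Helper10.HilbDict

open PicF HilbD Groth.Agent.Lib.Helper10.HilbAff Groth.Agent.Lib.Helper10.HilbLib
  Groth.Agent.Lib.Helper10.HilbFun Groth.Agent.Lib.Helper10.SemiTransport
  Groth.Agent.Lib.Helper10.AffPtClosed

variable (R : Type u) [CommRing R] (B : Type u) [CommRing B] [Algebra R B]

section Nat

variable {A C : Type u} [CommRing A] [Algebra R A] [CommRing C] [Algebra R C] (φ : A →ₐ[R] C)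

/-- the morphism of spectra. -/
noncomputable abbrev aφ : Spec (CommRingCat.of C) ⟶ Spec (CommRingCat.of A) :=
  Spec.map (CommRingCat.ofHom φ.toRingHom)

lemma aφ_comp : aφ R φ ≫ f₀ R A = f₀ R C := by
  rw [← Spec.map_comp]
  congr 1
  apply CommRingCat.hom_ext
  exact φ.comp_algebraMap

lemma wA_γ (a : A) : wA (f₀ R B) (aφ R φ) (aφ_comp R φ) (γ A a) = γ C (φ a) := by
  rw [wA_apply, γ_apply, γ_apply]
  have h := congrArg (fun m => m.hom a)
    (Scheme.ΓSpecIso_inv_naturality (CommRingCat.ofHom φ.toRingHom))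
  exact h.symm

theorem mA_ψ (x : A ⊗[R] B) :
    mA (f₀ R B) (aφ R φ) (aφ_comp R φ) (ψ R B A x) =
      ψ R B C (Algebra.TensorProduct.map φ (AlgHom.id R B) x) := by
  induction x using TensorProduct.induction_on with
  | zero => simp
  | tmul a b =>
    rw [ψ_tmul, map_mul, mA_algebraMap_C, mA_algebraMap_A, Algebra.TensorProduct.map_tmul,
      ψ_tmul, wA_γ]
    rfl
  | add x y hx hy => rw [map_add, map_add, hx, hy, map_add, map_add]

theorem comap_ψ_map_mA (J : Ideal (DD R B A)) :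
    (J.map (mA (f₀ R B) (aφ R φ) (aφ_comp R φ))).comap (ψ R B C : C ⊗[R] B →+* DD R B C) =
      (J.comap (ψ R B A : A ⊗[R] B →+* DD R B A)).map
        (Algebra.TensorProduct.map φ (AlgHom.id R B)).toRingHom := by
  have hJ : J = (J.comap (ψ R B A : A ⊗[R] B →+* DD R B A)).map
      (ψ R B A : A ⊗[R] B →+* DD R B A) :=
    (Ideal.map_comap_of_surjective _ (ψ R B A).surjective J).symm
  have hcomp : (mA (f₀ R B) (aφ R φ) (aφ_comp R φ)).comp (ψ R B A : A ⊗[R] B →+* DD R B A) =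
      (ψ R B C : C ⊗[R] B →+* DD R B C).comp
        (Algebra.TensorProduct.map φ (AlgHom.id R B)).toRingHom := by
    exact RingHom.ext (fun x => mA_ψ R B φ x)
  conv_lhs => rw [hJ, Ideal.map_map, hcomp, ← Ideal.map_map]
  exact Ideal.comap_map_of_bijective _ (ψ R B C).bijective
    

end Nat

section FPR

variable (A : Type u) [CommRing A] [Algebra R A] (d : ℕ)

/-- `γ` with tagged target. -/
noncomputable def γC : A ≃+* CT (f₀ R B) (f₀ R A) := γ A

lemma ψ_tmul_one' (a : A) :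
    ψ R B A (a ⊗ₜ[R] (1 : B)) =
      algebraMap (CT (f₀ R B) (f₀ R A)) (DD R B A) (γC R B A a) := ψ_tmul_one R B A a

/-- the quotient of `A ⊗ B` by an ideal versus the quotient of the coordinate ring. -/
theorem fpr_iff (J₀ : Ideal (A ⊗[R] B)) :
    FPR A ((A ⊗[R] B) ⧸ J₀) d ↔
      FPR (CT (f₀ R B) (f₀ R A))
        (DD R B A ⧸ J₀.map (ψ R B A : A ⊗[R] B →+* DD R B A)) d := by
  let e : ((A ⊗[R] B) ⧸ J₀) ≃+* (DD R B A ⧸ J₀.map (ψ R B A : A ⊗[R] B →+* DD R B A)) :=
    Ideal.quotientEquiv J₀ _ (ψ R B A) rfl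
  have he : ∀ (a : A) (p : (A ⊗[R] B) ⧸ J₀), e (a • p) = γC R B A a • e p := by
    intro a p
    obtain ⟨x, rfl⟩ := Ideal.Quotient.mk_surjective p
    have h1 : a • (Ideal.Quotient.mk J₀ x) = Ideal.Quotient.mk J₀ ((a ⊗ₜ[R] (1 : B)) * x) := by
      rw [← Ideal.Quotient.mk_eq_mk, ← Submodule.Quotient.mk_smul]
      congr 1
      rw [Algebra.smul_def]
      rfl
    rw [h1]
    change Ideal.Quotient.mk _ (ψ R B A ((a ⊗ₜ[R] (1 : B)) * x)) =
      γC R B A a • Ideal.Quotient.mk _ (ψ R B A x)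
    rw [map_mul, ψ_tmul_one', ← Algebra.smul_def]
    rfl
  constructor
  · intro h
    exact FPR.of_semilinear (γC R B A) e.toAddEquiv he h
  · intro h
    refine FPR.of_semilinear (γC R B A).symm e.symm.toAddEquiv (fun c p => ?_) h
    apply e.injective
    change e (e.symm (c • p)) = e ((γC R B A).symm c • e.symm p)
    rw [he, RingEquiv.apply_symm_apply, RingEquiv.apply_symm_apply, RingEquiv.apply_symm_apply]

end FPR

section Theta

variable {R B} {d : ℕ} (H : Over (Spec (CommRingCat.of R))) (Z : Obj (f₀ R B) d H)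

/-- the classifying ideal of an affine point of the Hilbert scheme. -/
noncomputable def Θ (A : CommAlgCat.{u} R) (g : SpA R A ⟶ H) : Ideal (A ⊗[R] B) :=
  (idealOf (f₀ R B) (f₀ R A) (pull (f₀ R B) g Z.1)).comap (ψ R B A : A ⊗[R] B →+* DD R B A)

lemma map_ψ_Θ (A : CommAlgCat.{u} R) (g : SpA R A ⟶ H) :
    (Θ H Z A g).map (ψ R B A : A ⊗[R] B →+* DD R B A) =
      idealOf (f₀ R B) (f₀ R A) (pull (f₀ R B) g Z.1) :=
  Ideal.map_comap_of_surjective _ (ψ R B A).surjective _

theorem Θ_fpr (A : CommAlgCat.{u} R) (g : SpA R A ⟶ H) :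
    FPR A ((A ⊗[R] B) ⧸ Θ H Z A g) d := by
  rw [fpr_iff, map_ψ_Θ]
  exact finite_projective_of_obj (f₀ R B) (f₀ R A) ⟨pull (f₀ R B) g Z.1, pull_mem (f₀ R B) g Z⟩

theorem Θ_nat (A C : CommAlgCat.{u} R) (φ : A ⟶ C) (g : SpA R A ⟶ H) :
    Θ H Z C (restrPt H φ g) =
      (Θ H Z A g).map (Algebra.TensorProduct.map φ.hom (AlgHom.id R B)).toRingHom := by
  have h1 : restrPt H φ g = oMk (aφ R φ.hom) (aφ_comp R φ.hom) ≫ g := pt_ext H rfl
  rw [Θ, h1, pull_comp, idealOf_pull, comap_ψ_map_mA]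
  rfl

variable (hU : IsUniversal (f₀ R B) d H Z)

include hU in
theorem Θ_injective (A : CommAlgCat.{u} R) : Function.Injective (Θ H Z A) := by
  intro g g' h
  have h1 := Ideal.comap_injective_of_surjective _ (ψ R B A).surjective h
  have h2 := idealOf_injective (f₀ R B) (f₀ R A) h1
  exact (hU (SpA R A) ⟨pull (f₀ R B) g' Z.1, pull_mem (f₀ R B) g' Z⟩).unique h2 rfl

include hU in
theorem Θ_surjective (A : CommAlgCat.{u} R) (J₀ : Ideal (A ⊗[R] B))
    (hJ : FPR A ((A ⊗[R] B) ⧸ J₀) d) : ∃ g : SpA R A ⟶ H, Θ H Z A g = J₀ := by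
  let I := sheafOf (f₀ R B) (f₀ R A) (J₀.map (ψ R B A : A ⊗[R] B →+* DD R B A))
  have hI : idealOf (f₀ R B) (f₀ R A) I = J₀.map (ψ R B A : A ⊗[R] B →+* DD R B A) :=
    idealOf_sheafOf _ _ _
  have hfpr := (fpr_iff R B A d J₀).mp hJ
  rw [← hI] at hfpr
  have hobj : Mor2.IsFinLocFreeOfDeg d (I.subschemeι ≫ XTproj (f₀ R B) (Over.mk (f₀ R A))) :=
    isFinLocFreeOfDeg_of_fpr (XTproj (f₀ R B) (Over.mk (f₀ R A))) I hfpr
  obtain ⟨g, hg, -⟩ := hU (SpA R A) ⟨I, hobj⟩
  refine ⟨g, ?_⟩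
  change (idealOf (f₀ R B) (f₀ R A) (pull (f₀ R B) g Z.1)).comap _ = J₀
  rw [hg, hI]
  exact Ideal.comap_map_of_bijective _ (ψ R B A).bijective

end Theta

end Groth.Agent.Lib.Helper10.HilbDict
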