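import Mathlib
import Groth.Agent.Lib.Helper10.HilbAff1

/-!
# The charts of the Hilbert scheme of points of an affine morphism of affine schemes
-/

set_option autoImplicit false
set_option linter.unusedSectionVars false
set_option linter.style.haveILetI false
set_option backward.isDefEq.respectTransparency.types false
set_option maxHeartbeats 4000000
set_option synthInstance.maxHeartbeats 400000
universe u
open CategoryTheory CategoryTheory.Limits AlgebraicGeometry Opposite

namespace Groth.Agent.Lib.Helper10.HilbAff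

open PicF HilbD Groth.Agent.Lib.Helper10.HilbLib Groth.Agent.Lib.Helper10.HilbFun
  Groth.Agent.Lib.Helper10.HilbRing

section SpecHom

variable (H : Type u) [CommRing H] {T T' : Scheme.{u}}

/-- the ring homomorphism of a morphism to `Spec H`. -/
noncomputable def sharp (v : T ⟶ Spec (CommRingCat.of H)) : H →+* Γ(T, ⊤) :=
  v.appTop.hom.comp (Scheme.ΓSpecIso (CommRingCat.of H)).inv.hom

/-- the morphism to `Spec H` of a ring homomorphism. -/
noncomputable def ofRing (φ : H →+* Γ(T, ⊤)) : T ⟶ Spec (CommRingCat.of H) :=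
  T.toSpecΓ ≫ Spec.map (CommRingCat.ofHom φ)

lemma sharp_ofRing (φ : H →+* Γ(T, ⊤)) : sharp H (ofRing H φ) = φ := by
  have h1 : (ofRing H φ).appTop = (Scheme.ΓSpecIso (CommRingCat.of H)).hom ≫ CommRingCat.ofHom φ := by
    rw [ofRing, Scheme.Hom.comp_appTop, Scheme.toSpecΓ_appTop, Scheme.ΓSpecIso_naturality]
  have h2 : (Scheme.ΓSpecIso (CommRingCat.of H)).inv ≫ (ofRing H φ).appTop = CommRingCat.ofHom φ := by
    rw [h1, Iso.inv_hom_id_assoc]
  exact congrArg CommRingCat.Hom.hom h2

lemma sharp_injective {v v' : T ⟶ Spec (CommRingCat.of H)} (h : sharp H v = sharp H v') :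
    v = v' := by
  apply ext_of_isAffine
  have h1 : (Scheme.ΓSpecIso (CommRingCat.of H)).inv ≫ v.appTop =
      (Scheme.ΓSpecIso (CommRingCat.of H)).inv ≫ v'.appTop := CommRingCat.hom_ext h
  exact (cancel_epi _).mp h1

lemma sharp_comp (a : T' ⟶ T) (v : T ⟶ Spec (CommRingCat.of H)) :
    sharp H (a ≫ v) = a.appTop.hom.comp (sharp H v) := by
  rw [sharp, Scheme.Hom.comp_appTop]
  rfl

end SpecHom

variable {X S : Scheme.{u}} (f : X ⟶ S) [IsAffine X] [IsAffine S] {d : ℕ} (E : Fin d → AX f)

section Q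

variable {T : Scheme.{u}} [IsAffine T] (t : T ⟶ S)

/-- the ideal sheaf of coordinate data. -/
noncomputable def idealQ (Q : QData (RS f) (AX f) E (CT f t)) : (XT f (Over.mk t)).IdealSheafData :=
  sheafOf f t (JQ (hD f t) Q)

lemma idealOf_idealQ (Q : QData (RS f) (AX f) E (CT f t)) :
    idealOf f t (idealQ f E t Q) = JQ (hD f t) Q := idealOf_sheafOf f t _

lemma hasBasis_idealQ (Q : QData (RS f) (AX f) E (CT f t)) : HasBasis f t E (idealQ f E t Q) := by
  unfold HasBasis
  rw [idealOf_idealQ]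
  exact isBasisQuot_JQ _ _

/-- the element of the Hilbert functor of coordinate data. -/
noncomputable def objQ (Q : QData (RS f) (AX f) E (CT f t)) : Obj f d (Over.mk t) :=
  ⟨idealQ f E t Q, isFinLocFreeOfDeg_of_hasBasis f t E _ (hasBasis_idealQ f E t Q)⟩

lemma idealQ_injective {Q Q' : QData (RS f) (AX f) E (CT f t)}
    (h : idealQ f E t Q = idealQ f E t Q') : Q = Q' :=
  JQ_injective (hD f t) (by rw [← idealOf_idealQ, ← idealOf_idealQ, h])

lemma eq_idealQ_of_hasBasis (I : (XT f (Over.mk t)).IdealSheafData) (hI : HasBasis f t E I) :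
    I = idealQ f E t (ofIdeal (RS f) hI) :=
  idealOf_injective f t (by rw [idealOf_idealQ, JQ_ofIdeal])

lemma pull_idealQ {T' : Scheme.{u}} [IsAffine T'] (a : T' ⟶ T) {t' : T' ⟶ S} (h : a ≫ t = t')
    (Q : QData (RS f) (AX f) E (CT f t)) :
    pull f (oMk a h) (idealQ f E t Q) = idealQ f E t' (Q.map (wA f a h)) :=
  idealOf_injective f t' (by
    rw [idealOf_pull, idealOf_idealQ, idealOf_idealQ,
      JQ_map (hD f t) (hD f t') (wA f a h) (mA f a h) (mA_algebraMap_A f a h)
        (mA_algebraMap_C f a h)])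

end Q

lemma QData.map_map {R A : Type u} [CommRing R] [CommRing A] [Algebra R A] {d : ℕ} {e : Fin d → A}
    {C C' C'' : Type u} [CommRing C] [CommRing C'] [CommRing C''] [Algebra R C] [Algebra R C']
    [Algebra R C''] (Q : QData R A e C) (w : C →ₐ[R] C') (w' : C' →ₐ[R] C'') :
    (Q.map w).map w' = Q.map (w'.comp w) := by
  ext a k
  rfl

/-- the universal ring of the chart. -/
abbrev HE : Type u := HilbRing.H (RS f) (AX f) E

/-- the chart. -/
noncomputable abbrev ME : Scheme.{u} := Spec (CommRingCat.of (HE f E))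

instance : IsAffine (ME f E) := inferInstanceAs (IsAffine (Spec (CommRingCat.of (HE f E))))

/-- the structure morphism of the chart. -/
noncomputable def tE : ME f E ⟶ S :=
  (Spec.map (CommRingCat.ofHom (algebraMap (RS f) (HE f E))) : ME f E ⟶ Spec Γ(S, ⊤)) ≫
    S.isoSpec.inv

lemma isoSpec_inv_appTop : S.isoSpec.inv.appTop = (Scheme.ΓSpecIso Γ(S, ⊤)).inv := by
  have h1 : S.isoSpec.hom.appTop = (Scheme.ΓSpecIso Γ(S, ⊤)).hom := Scheme.toSpecΓ_appTop S
  have h2 : S.isoSpec.hom.appTop ≫ S.isoSpec.inv.appTop = 𝟙 _ := by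
    rw [← Scheme.Hom.comp_appTop, Iso.inv_hom_id]
    rfl
  rw [h1] at h2
  exact (Iso.eq_inv_comp _).mpr h2 |>.trans (Category.comp_id _)

lemma tE_appTop_apply (r : RS f) :
    (tE f E).appTop.hom r = sharp (HE f E) (𝟙 (ME f E)) (algebraMap (RS f) (HE f E) r) := by
  have h1 : (tE f E).appTop = CommRingCat.ofHom (algebraMap (RS f) (HE f E)) ≫
      (Scheme.ΓSpecIso (CommRingCat.of (HE f E))).inv := by
    rw [tE, Scheme.Hom.comp_appTop, isoSpec_inv_appTop]
    exact (Scheme.ΓSpecIso_inv_naturality _).symm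
  rw [h1]
  rfl

/-- the criterion for a morphism to the chart to be over `S`. -/
lemma comp_tE_eq_iff {T : Scheme.{u}} (v : T ⟶ ME f E) (t : T ⟶ S) :
    v ≫ tE f E = t ↔ ∀ r : RS f, sharp (HE f E) v (algebraMap (RS f) (HE f E) r) =
      t.appTop.hom r := by
  have key : ∀ r : RS f, (v ≫ tE f E).appTop.hom r =
      sharp (HE f E) v (algebraMap (RS f) (HE f E) r) := by
    intro r
    rw [Scheme.Hom.comp_appTop]
    change v.appTop.hom ((tE f E).appTop.hom r) = _
    rw [tE_appTop_apply]
    have := sharp_comp (HE f E) v (𝟙 (ME f E))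
    rw [Category.comp_id] at this
    rw [this]
    rfl
  constructor
  · intro h r
    rw [← key, h]
  · intro h
    apply ext_of_isAffine
    apply CommRingCat.hom_ext
    apply RingHom.ext
    intro r
    rw [key]
    exact h r

section Univ

variable {T : Scheme.{u}} [IsAffine T] {t : T ⟶ S}

/-- the algebra map of a morphism to the chart over `S`. -/
noncomputable def sharpA (v : T ⟶ ME f E) (hv : v ≫ tE f E = t) : HE f E →ₐ[RS f] CT f t :=
  { (sharp (HE f E) v : HE f E →+* CT f t) with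
    commutes' := fun r => (comp_tE_eq_iff f E v t).mp hv r }

lemma sharpA_apply (v : T ⟶ ME f E) (hv : v ≫ tE f E = t) (x : HE f E) :
    sharpA f E v hv x = sharp (HE f E) v x := rfl

lemma sharpA_comp {T' : Scheme.{u}} [IsAffine T'] {t' : T' ⟶ S} (a : T' ⟶ T) (h : a ≫ t = t')
    (v : T ⟶ ME f E) (hv : v ≫ tE f E = t) :
    sharpA f E (a ≫ v) (by rw [Category.assoc, hv, h]) = (wA f a h).comp (sharpA f E v hv) := by
  apply AlgHom.ext
  intro x
  change sharp (HE f E) (a ≫ v) x = a.appTop.hom (sharp (HE f E) v x)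
  rw [sharp_comp]
  rfl

end Univ

/-- the universal coordinate data on the chart. -/
noncomputable def QE : QData (RS f) (AX f) E (CT f (tE f E)) :=
  (univ (RS f) (AX f) E).map (sharpA f E (𝟙 (ME f E)) (Category.id_comp _))

/-- the universal element on the chart. -/
noncomputable def ξE : El f d (ME f E) := ⟨tE f E, objQ f E (tE f E) (QE f E)⟩

section Univ2

variable {T : Scheme.{u}} [IsAffine T] {t : T ⟶ S}

lemma pull_ξE (v : T ⟶ ME f E) (hv : v ≫ tE f E = t) :
    pull f (oMk v hv) (ξE f E).2.1 = idealQ f E t ((univ (RS f) (AX f) E).map (sharpA f E v hv)) := by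
  change pull f (oMk v hv) (idealQ f E (tE f E) (QE f E)) = _
  rw [pull_idealQ, QE, QData.map_map]
  congr 2

/-- **existence of the classifying map on affine test schemes.** -/
theorem exists_of_hasBasis (Z : Obj f d (Over.mk t)) (hZ : HasBasis f t E Z.1) :
    ∃ v : T ⟶ ME f E, elMap v (ξE f E) = ⟨t, Z⟩ := by
  let Q := ofIdeal (RS f) hZ
  let φ : HE f E →ₐ[RS f] CT f t := classify Q
  let v : T ⟶ ME f E := ofRing (HE f E) (φ.toRingHom : HE f E →+* Γ(T, ⊤))
  have hsh : sharp (HE f E) v = (φ.toRingHom : HE f E →+* Γ(T, ⊤)) := sharp_ofRing _ _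
  have hv : v ≫ tE f E = t := by
    rw [comp_tE_eq_iff]
    intro r
    rw [hsh]
    exact φ.commutes r
  have hφ : sharpA f E v hv = φ := by
    apply AlgHom.ext
    intro x
    rw [sharpA_apply, hsh]
    rfl
  refine ⟨v, (elMap_eq_iff _ _ _).mpr ⟨hv, ?_⟩⟩
  have h6 := pull_ξE f E v hv
  have h7 : (univ (RS f) (AX f) E).map φ = Q := map_univ_classify Q
  rw [hφ, h7] at h6
  exact h6.trans (eq_idealQ_of_hasBasis f E t Z.1 hZ).symm

/-- **uniqueness of the classifying map on affine test schemes.** -/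
theorem eq_of_elMap_eq_of_isAffine (v v' : T ⟶ ME f E)
    (h : elMap v (ξE f E) = elMap v' (ξE f E)) : v = v' := by
  obtain ⟨h1, h2⟩ := (elMap_eq_iff v (ξE f E) (elMap v' (ξE f E))).mp h
  have h1' : v ≫ tE f E = v' ≫ tE f E := h1
  have h2' : idealQ f E (v' ≫ tE f E) ((univ (RS f) (AX f) E).map (sharpA f E v h1')) =
      idealQ f E (v' ≫ tE f E) ((univ (RS f) (AX f) E).map (sharpA f E v' rfl)) :=
    (pull_ξE f E v h1').symm.trans (h2.trans (pull_ξE f E v' rfl))
  have h4 := idealQ_injective f E _ h2'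
  have h5 : sharpA f E v h1' = sharpA f E v' rfl := (homEquiv _).injective h4
  apply sharp_injective (HE f E)
  apply RingHom.ext
  intro x
  exact congrArg (fun ψ : HE f E →ₐ[RS f] CT f (v' ≫ tE f E) => ψ x) h5

/-- **pullbacks of the universal element have the basis property.** -/
theorem hasBasis_elMap (v : T ⟶ ME f E) : HasBasis f (v ≫ tE f E) E (elMap v (ξE f E)).2.1 := by
  have h3 : (elMap v (ξE f E)).2.1 =
      pull f (oMk v (rfl : v ≫ tE f E = v ≫ tE f E)) (ξE f E).2.1 := rfl
  rw [h3, pull_ξE f E v rfl]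
  exact hasBasis_idealQ f E _ _

end Univ2

/-- uniqueness of the classifying map in general. -/
theorem eq_of_elMap_eq {T : Scheme.{u}} (v v' : T ⟶ ME f E)
    (h : elMap v (ξE f E) = elMap v' (ξE f E)) : v = v' := by
  refine T.affineCover.hom_ext _ _ (fun i => ?_)
  apply eq_of_elMap_eq_of_isAffine f E
  rw [elMap_comp, elMap_comp, h]

end Groth.Agent.Lib.Helper10.HilbAff
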