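import Mathlib
import Groth.Agent.Lib.Helper10.HilbFun1
import Groth.Agent.Lib.Helper10.HilbGlueIdeal
import Groth.Agent.Lib27.Sch.IdealGlue

/-!
# The Hilbert functor of points is a Zariski sheaf
-/

set_option autoImplicit false
set_option linter.unusedSectionVars false
set_option linter.style.haveILetI false
set_option backward.isDefEq.respectTransparency.types false
set_option maxHeartbeats 4000000
set_option synthInstance.maxHeartbeats 400000
universe u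
open CategoryTheory CategoryTheory.Limits AlgebraicGeometry Opposite

namespace Groth.Agent.Lib.Helper10.HilbFun

open PicF HilbD Groth.Agent.Lib.Helper10.HilbLib Groth.Agent.Lib.Helper10.ZarRep
  Groth.Agent.Lib.Helper10.HilbGlueIdeal

/-- finite locally free of degree `d` is local on the target. -/
theorem isFinLocFreeOfDeg_of_openCover {Z T : Scheme.{u}} (g : Z ⟶ T)
    (𝒰 : Scheme.OpenCover.{u} T) {d : ℕ}
    (h : ∀ i, Mor2.IsFinLocFreeOfDeg d (pullback.snd g (𝒰.f i))) : Mor2.IsFinLocFreeOfDeg d g := by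
  have h1 : IsFinite g :=
    (IsZariskiLocalAtTarget.iff_of_openCover (P := @IsFinite) 𝒰).mpr (fun i => (h i).1.1)
  have h2 : Flat g :=
    (IsZariskiLocalAtTarget.iff_of_openCover (P := @Flat) 𝒰).mpr (fun i => (h i).1.2.1)
  have h3 : LocallyOfFinitePresentation g :=
    (IsZariskiLocalAtTarget.iff_of_openCover (P := @LocallyOfFinitePresentation) 𝒰).mpr
      (fun i => (h i).1.2.2)
  refine ⟨⟨h1, h2, h3⟩, fun y => ?_⟩
  obtain ⟨i, u, rfl⟩ := 𝒰.exists_eq y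
  rw [← Scheme.Hom.finrank_pullback_snd g (𝒰.f i) u]
  exact (h i).2 u

variable {X S : Scheme.{u}} {f : X ⟶ S} {d : ℕ}

theorem isOpenImmersion_XTmap {T T' : Over S} (g : T' ⟶ T) (hg : IsOpenImmersion g.left) :
    IsOpenImmersion (XTmap f g) :=
  MorphismProperty.of_isPullback (P := @IsOpenImmersion) (isPullback_XTmap f g).flip hg

theorem exists_mem_range_XTmap {T : Scheme.{u}} (t : T ⟶ S) (𝒰 : Scheme.OpenCover.{u} T)
    (ti : ∀ i, 𝒰.X i ⟶ S) (hti : ∀ i, 𝒰.f i ≫ t = ti i) (y : XT f (Over.mk t)) :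
    ∃ i, y ∈ Set.range (XTmap f (oMk (𝒰.f i) (hti i))) := by
  obtain ⟨i, u, hu⟩ := 𝒰.exists_eq (XTproj f (Over.mk t) y)
  obtain ⟨p, hp1, -⟩ := Scheme.exists_preimage_of_isPullback
    (isPullback_XTmap f (oMk (𝒰.f i) (hti i))) y u hu.symm
  exact ⟨i, p, hp1⟩

theorem hilbFun_sep {T : Scheme.{u}} (𝒰 : Scheme.OpenCover.{u} T) (x y : El f d T)
    (h : ∀ i, elMap (𝒰.f i) x = elMap (𝒰.f i) y) : x = y := by
  have h1 : x.1 = y.1 := 𝒰.hom_ext _ _ (fun i => congrArg Sigma.fst (h i))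
  obtain ⟨t, Z⟩ := x
  obtain ⟨t', Z'⟩ := y
  dsimp only at h1
  subst h1
  rw [El.mk_eq_mk_iff]
  haveI : ∀ i, IsOpenImmersion (XTmap f (oMk (𝒰.f i) (rfl : 𝒰.f i ≫ t = 𝒰.f i ≫ t))) :=
    fun i => isOpenImmersion_XTmap _ (show IsOpenImmersion (𝒰.f i) from inferInstance)
  refine Groth.Agent.Lib27.IdealGlue.eq_of_forall_comap_eq
    (fun i => XTmap f (oMk (𝒰.f i) (rfl : 𝒰.f i ≫ t = 𝒰.f i ≫ t)))
    (exists_mem_range_XTmap t 𝒰 _ (fun i => rfl)) _ _ (fun i => ?_)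
  rw [← pull_eq_comap, ← pull_eq_comap]
  obtain ⟨_, h2⟩ := (elMap_eq_iff (𝒰.f i) (⟨t, Z⟩ : El f d T) (elMap (𝒰.f i) ⟨t, Z'⟩)).mp (h i)
  exact h2

theorem hilbFun_glue {T : Scheme.{u}} (𝒰 : Scheme.OpenCover.{u} T) (x : ∀ i, El f d (𝒰.X i))
    (hx : ∀ (i j : 𝒰.I₀) (Z : Scheme.{u}) (a : Z ⟶ 𝒰.X i) (b : Z ⟶ 𝒰.X j),
      a ≫ 𝒰.f i = b ≫ 𝒰.f j → elMap a (x i) = elMap b (x j)) :
    ∃ y : El f d T, ∀ i, elMap (𝒰.f i) y = x i := by
  have hcompat1 : ∀ i j, pullback.fst (𝒰.f i) (𝒰.f j) ≫ (x i).1 =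
      pullback.snd (𝒰.f i) (𝒰.f j) ≫ (x j).1 :=
    fun i j => congrArg Sigma.fst (hx i j _ _ _ pullback.condition)
  let t : T ⟶ S := 𝒰.glueMorphisms (fun i => (x i).1) hcompat1
  have ht : ∀ i, 𝒰.f i ≫ t = (x i).1 := fun i => 𝒰.ι_glueMorphisms _ _ i
  let ji : ∀ i, XT f (Over.mk (x i).1) ⟶ XT f (Over.mk t) := fun i => XTmap f (oMk (𝒰.f i) (ht i))
  haveI : ∀ i, IsOpenImmersion (ji i) :=
    fun i => isOpenImmersion_XTmap _ (show IsOpenImmersion (𝒰.f i) from inferInstance)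
  have hcompat2 : ∀ (i k : 𝒰.I₀) (Z : Scheme.{u}) (a : Z ⟶ XT f (Over.mk (x i).1))
      (b : Z ⟶ XT f (Over.mk (x k).1)), a ≫ ji i = b ≫ ji k →
      (x i).2.1.comap a = (x k).2.1.comap b := by
    intro i k Z a b hab
    let a₀ : Z ⟶ 𝒰.X i := a ≫ XTproj f (Over.mk (x i).1)
    let b₀ : Z ⟶ 𝒰.X k := b ≫ XTproj f (Over.mk (x k).1)
    have hab₀ : a₀ ≫ 𝒰.f i = b₀ ≫ 𝒰.f k := by
      have e1 : ji i ≫ XTproj f (Over.mk t) = XTproj f (Over.mk (x i).1) ≫ 𝒰.f i :=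
        XTmap_snd f (oMk (𝒰.f i) (ht i))
      have e2 : ji k ≫ XTproj f (Over.mk t) = XTproj f (Over.mk (x k).1) ≫ 𝒰.f k :=
        XTmap_snd f (oMk (𝒰.f k) (ht k))
      change (a ≫ XTproj f (Over.mk (x i).1)) ≫ 𝒰.f i = (b ≫ XTproj f (Over.mk (x k).1)) ≫ 𝒰.f k
      rw [Category.assoc, Category.assoc, ← e1, ← e2, ← Category.assoc, hab, Category.assoc]
    obtain ⟨h1, h2⟩ := (elMap_eq_iff a₀ (x i) (elMap b₀ (x k))).mp (hx i k Z a₀ b₀ hab₀)
    have hσ : (a ≫ pullback.fst f (Over.mk (x i).1).hom) ≫ f = 𝟙 Z ≫ (b₀ ≫ (x k).1) := by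
      rw [Category.id_comp, Category.assoc, pullback.condition, ← Category.assoc]
      exact h1
    let σ : Z ⟶ XT f (Over.mk (b₀ ≫ (x k).1)) :=
      pullback.lift (a ≫ pullback.fst f (Over.mk (x i).1).hom) (𝟙 Z) hσ
    have hA : σ ≫ XTmap f (oMk a₀ h1) = a := by
      apply pullback.hom_ext
      · rw [Category.assoc, XTmap_fst]
        exact pullback.lift_fst _ _ _
      · rw [Category.assoc, XTmap_snd, ← Category.assoc]
        have : σ ≫ pullback.snd f (Over.mk (b₀ ≫ (x k).1)).hom = 𝟙 Z := pullback.lift_snd _ _ _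
        rw [this, Category.id_comp]
        rfl
    have hfst : a ≫ pullback.fst f (Over.mk (x i).1).hom =
        b ≫ pullback.fst f (Over.mk (x k).1).hom := by
      have e1 : ji i ≫ pullback.fst f (Over.mk t).hom = pullback.fst f (Over.mk (x i).1).hom :=
        XTmap_fst f (oMk (𝒰.f i) (ht i))
      have e2 : ji k ≫ pullback.fst f (Over.mk t).hom = pullback.fst f (Over.mk (x k).1).hom :=
        XTmap_fst f (oMk (𝒰.f k) (ht k))
      rw [← e1, ← e2, ← Category.assoc, hab, Category.assoc]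
    have hB : σ ≫ XTmap f (oMk b₀ (rfl : b₀ ≫ (x k).1 = b₀ ≫ (x k).1)) = b := by
      apply pullback.hom_ext
      · rw [Category.assoc, XTmap_fst]
        exact (pullback.lift_fst _ _ _).trans hfst
      · rw [Category.assoc, XTmap_snd, ← Category.assoc]
        have : σ ≫ pullback.snd f (Over.mk (b₀ ≫ (x k).1)).hom = 𝟙 Z := pullback.lift_snd _ _ _
        rw [this, Category.id_comp]
        rfl
    calc (x i).2.1.comap a = (x i).2.1.comap (σ ≫ XTmap f (oMk a₀ h1)) := by rw [hA]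
      _ = (pull f (oMk a₀ h1) (x i).2.1).comap σ := by
        rw [Scheme.IdealSheafData.comap_comp]
        exact congrArg (fun J => J.comap σ) (pull_eq_comap f _ _).symm
      _ = (pull f (oMk b₀ rfl) (x k).2.1).comap σ := by rw [h2]; rfl
      _ = (x k).2.1.comap (σ ≫ XTmap f (oMk b₀ rfl)) := by
        rw [Scheme.IdealSheafData.comap_comp]
        exact congrArg (fun J => J.comap σ) (pull_eq_comap f _ _)
      _ = (x k).2.1.comap b := by rw [hB]
  obtain ⟨I₀, hI₀⟩ := exists_glue_ideal _ ji (fun i => (x i).2.1) hcompat2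
    (exists_mem_range_XTmap t 𝒰 _ ht)
  have hfin : Mor2.IsFinLocFreeOfDeg d (I₀.subschemeι ≫ XTproj f (Over.mk t)) := by
    apply isFinLocFreeOfDeg_of_openCover _ 𝒰
    intro i
    have e : (pullback.snd I₀.subschemeι (ji i)).ker = (x i).2.1 := by
      rw [← hI₀ i]
      exact pull_eq_comap f (oMk (𝒰.f i) (ht i)) I₀
    have h3 := (x i).2.2
    rw [← e] at h3
    have h4 := isFinLocFreeOfDeg_of_ker (pullback.snd I₀.subschemeι (ji i)) _ h3
    have h2 : IsPullback (pullback.fst I₀.subschemeι (ji i))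
        (pullback.snd I₀.subschemeι (ji i) ≫ XTproj f (Over.mk (x i).1))
        (I₀.subschemeι ≫ XTproj f (Over.mk t)) (𝒰.f i) :=
      (IsPullback.of_hasPullback I₀.subschemeι (ji i)).paste_vert
        (isPullback_XTmap f (oMk (𝒰.f i) (ht i)))
    rw [← h2.isoPullback_inv_snd]
    exact isFinLocFreeOfDeg_iso_comp _ h4
  refine ⟨⟨t, ⟨I₀, hfin⟩⟩, fun i => ?_⟩
  rw [elMap_eq_iff]
  refine ⟨ht i, ?_⟩
  change pull f (oMk (𝒰.f i) (ht i)) I₀ = (x i).2.1
  rw [pull_eq_comap]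
  exact hI₀ i

theorem hilbFun_isSheaf (f : X ⟶ S) (d : ℕ) : (hilbFun f d).IsSheaf where
  sep 𝒰 x y h := hilbFun_sep 𝒰 x y h
  glue 𝒰 x hx := hilbFun_glue 𝒰 x hx

end Groth.Agent.Lib.Helper10.HilbFun
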