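import Mathlib
import Groth.Agent.Lib.Helper10.HilbRing4

/-!
# Module theory for the Hilbert scheme of points, part 2: almost inverses and fibre bases
-/

set_option autoImplicit false
set_option linter.unusedSectionVars false
set_option linter.style.haveILetI false
set_option backward.isDefEq.respectTransparency.types false
set_option maxHeartbeats 4000000
set_option synthInstance.maxHeartbeats 400000
universe u
open TensorProduct Function

namespace Groth.Agent.Lib.Helper10.HilbRing

variable {C : Type u} [CommRing C] {B : Type u} [AddCommGroup B] [Module C B]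

/-- **spreading out**: a map from a finite free module to a finite projective module which is
bijective at a field-valued point has an almost inverse. -/
theorem exists_almost_inverse [Module.Finite C B] [Module.Projective C B] {d : ℕ}
    (φ : (Fin d → C) →ₗ[C] B) (K : Type u) [Field K] [Algebra C K]
    (hφ : Bijective (φ.baseChange K)) :
    ∃ (g : C) (ψ : B →ₗ[C] (Fin d → C)), algebraMap C K g ≠ 0 ∧
      φ ∘ₗ ψ = g • LinearMap.id ∧ ψ ∘ₗ φ = g • LinearMap.id := by
  haveI := subsingleton_tensor_coker φ K hφ.2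
  obtain ⟨g₁, hg₁, hg₁K⟩ :=
    exists_mem_annihilator_of_subsingleton_tensor (C := C) (B ⧸ LinearMap.range φ) K
  have hg₁' : ∀ y : B, (g₁ • LinearMap.id : B →ₗ[C] B) y ∈ LinearMap.range φ := by
    intro y
    have h1 := Module.mem_annihilator.mp hg₁ ((LinearMap.range φ).mkQ y)
    rw [← map_smul, Submodule.mkQ_apply, Submodule.Quotient.mk_eq_zero] at h1
    exact h1
  obtain ⟨ψ₁, hψ₁⟩ := Module.projective_lifting_property φ.rangeRestrict
    ((g₁ • LinearMap.id : B →ₗ[C] B).codRestrict (LinearMap.range φ) hg₁')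
    (LinearMap.surjective_rangeRestrict φ)
  have hψ₁' : φ ∘ₗ ψ₁ = g₁ • LinearMap.id := by
    ext y
    have := congrArg Subtype.val (LinearMap.congr_fun hψ₁ y)
    simpa using this
  let Θ : (Fin d → C) →ₗ[C] (Fin d → C) := ψ₁ ∘ₗ φ
  have hΘ : φ ∘ₗ Θ = g₁ • φ := by
    change φ ∘ₗ (ψ₁ ∘ₗ φ) = g₁ • φ
    rw [← LinearMap.comp_assoc, hψ₁', LinearMap.smul_comp, LinearMap.id_comp]
  -- the base change of `Θ` is multiplication by `g₁`
  have hΘK : Θ.baseChange K = (algebraMap C K g₁) • LinearMap.id := by
    refine LinearMap.ext (fun z => ?_)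
    apply hφ.1
    have h1 := congrArg (LinearMap.baseChange K) hΘ
    rw [LinearMap.baseChange_comp, LinearMap.baseChange_smul] at h1
    have h2 := LinearMap.congr_fun h1 z
    rw [LinearMap.comp_apply, LinearMap.smul_apply] at h2
    rw [h2, LinearMap.smul_apply, LinearMap.id_apply, map_smul, algebraMap_smul]
  have hdet : algebraMap C K (LinearMap.det Θ) ≠ 0 := by
    rw [← LinearMap.det_baseChange, hΘK, LinearMap.det_smul, LinearMap.det_id, mul_one]
    exact pow_ne_zero _ hg₁K
  -- the adjugate
  let Mx := LinearMap.toMatrix' Θ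
  let Θ' : (Fin d → C) →ₗ[C] (Fin d → C) := Matrix.toLin' Mx.adjugate
  have hdetM : Mx.det = LinearMap.det Θ := LinearMap.det_toMatrix' Θ
  have hΘ'Θ : Θ' ∘ₗ Θ = (LinearMap.det Θ) • LinearMap.id := by
    have h1 : Θ = Matrix.toLin' Mx := (Matrix.toLin'_toMatrix' Θ).symm
    change Matrix.toLin' Mx.adjugate ∘ₗ Θ = _
    rw [h1, ← Matrix.toLin'_mul, Matrix.adjugate_mul, ← h1, hdetM, map_smul, Matrix.toLin'_one]
  have hΘΘ' : Θ ∘ₗ Θ' = (LinearMap.det Θ) • LinearMap.id := by
    have h1 : Θ = Matrix.toLin' Mx := (Matrix.toLin'_toMatrix' Θ).symm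
    change Θ ∘ₗ Matrix.toLin' Mx.adjugate = _
    rw [h1, ← Matrix.toLin'_mul, Matrix.mul_adjugate, ← h1, hdetM, map_smul, Matrix.toLin'_one]
  have h3 : g₁ • (φ ∘ₗ Θ') = (LinearMap.det Θ) • φ := by
    have : (φ ∘ₗ Θ) ∘ₗ Θ' = (g₁ • φ) ∘ₗ Θ' := by rw [hΘ]
    rw [LinearMap.comp_assoc, hΘΘ', LinearMap.comp_smul, LinearMap.comp_id, LinearMap.smul_comp]
      at this
    exact this.symm
  refine ⟨g₁ * LinearMap.det Θ, g₁ • (Θ' ∘ₗ ψ₁), ?_, ?_, ?_⟩
  · rw [map_mul]
    exact mul_ne_zero hg₁K hdet
  · rw [LinearMap.comp_smul, ← LinearMap.comp_assoc, ← LinearMap.smul_comp, h3,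
      LinearMap.smul_comp, hψ₁', smul_smul, mul_comm]
  · rw [LinearMap.smul_comp, LinearMap.comp_assoc]
    change g₁ • (Θ' ∘ₗ Θ) = _
    rw [hΘ'Θ, smul_smul]

/-- base change of the linear combination map. -/
theorem baseChange_linearCombination (C' : Type u) [CommRing C'] [Algebra C C'] {d : ℕ}
    (b : Fin d → B) :
    (Fintype.linearCombination C b).baseChange C' =
      Fintype.linearCombination C' (fun i => (1 : C') ⊗ₜ[C] b i) ∘ₗ
        (TensorProduct.piScalarRight C C' C' (Fin d)).toLinearMap := by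
  apply TensorProduct.AlgebraTensorModule.ext
  intro x f
  rw [LinearMap.baseChange_tmul, LinearMap.comp_apply, LinearEquiv.coe_coe,
    TensorProduct.piScalarRight_apply, TensorProduct.piScalarRightHom_tmul,
    Fintype.linearCombination_apply, Fintype.linearCombination_apply, TensorProduct.tmul_sum]
  refine Finset.sum_congr rfl (fun i _ => ?_)
  rw [TensorProduct.smul_tmul', TensorProduct.tmul_smul, smul_eq_mul, mul_one,
    ← TensorProduct.smul_tmul', TensorProduct.smul_tmul']

/-- **existence of a fibre basis among a spanning family.** -/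
theorem exists_basis_fibre [Module.Finite C B] [Module.Projective C B] {d : ℕ}
    (q : PrimeSpectrum C) (hrank : Module.rankAtStalk B q = d) {A : Type u} (s : A → B)
    (hs : Submodule.span C (Set.range s) = ⊤) :
    ∃ E : Fin d → A, Bijective
      ((Fintype.linearCombination C (s ∘ E)).baseChange q.asIdeal.ResidueField) := by
  let κ := q.asIdeal.ResidueField
  let V := κ ⊗[C] B
  have hfr : Module.finrank κ V = d := by
    rw [← hrank, Module.rankAtStalk_eq]
  let v : A → V := fun a => (1 : κ) ⊗ₜ[C] s a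
  have hv : Submodule.span κ (Set.range v) = ⊤ := by
    have h1 := Submodule.baseChange_span (R := C) κ (Set.range s)
    rw [hs, Submodule.baseChange_top] at h1
    rw [h1, ← Set.range_comp]
    rfl
  obtain ⟨ι, a, -, hsp, hli⟩ := exists_linearIndependent' κ v
  rw [hv] at hsp
  let bb : Module.Basis ι κ V := Module.Basis.mk hli (by rw [hsp])
  haveI : Finite ι := Module.Finite.finite_basis bb
  letI : Fintype ι := Fintype.ofFinite ι
  have hcard : Fintype.card ι = d := by
    rw [← hfr, Module.finrank_eq_card_basis bb]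
  let σ : Fin d ≃ ι := (Fintype.equivFinOfCardEq hcard).symm
  let bb' : Module.Basis (Fin d) κ V := bb.reindex σ.symm
  refine ⟨a ∘ σ, ?_⟩
  rw [baseChange_linearCombination]
  have h2 : (fun i => (1 : κ) ⊗ₜ[C] (s ∘ (a ∘ σ)) i) = ⇑bb' := by
    ext i
    simp [bb', bb, v]
  rw [h2]
  have h3 : Bijective (Fintype.linearCombination κ ⇑bb') := by
    have : (Fintype.linearCombination κ ⇑bb' : (Fin d → κ) → V) = bb'.equivFun.symm := by
      ext c
      rw [Fintype.linearCombination_apply, Module.Basis.equivFun_symm_apply]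
    rw [this]
    exact bb'.equivFun.symm.bijective
  exact h3.comp (TensorProduct.piScalarRight C κ κ (Fin d)).bijective

end Groth.Agent.Lib.Helper10.HilbRing
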