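import Mathlib
import Groth.Agent.Lib.Helper10.HilbRing3
import Groth.Agent.Lib.Helper10.HilbRing5

/-!
# The bridge: bases of quotients after base change versus base change of the coordinate map
-/

set_option autoImplicit false
set_option linter.unusedSectionVars false
set_option linter.style.haveILetI false
set_option backward.isDefEq.respectTransparency.types false
set_option maxHeartbeats 4000000
set_option synthInstance.maxHeartbeats 400000
universe u
open TensorProduct Function

namespace Groth.Agent.Lib.Helper10.HilbRing

variable {C D : Type u} [CommRing C] [CommRing D] [Algebra C D] (J : Ideal D) {d : ℕ}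
  (b : Fin d → D)

variable (C) in
/-- the coordinate map `Cᵈ → D ⧸ J`. -/
def phi : (Fin d → C) →ₗ[C] D ⧸ J :=
  (Ideal.Quotient.mkₐ C J).toLinearMap ∘ₗ Fintype.linearCombination C b

lemma isBasisQuot_iff_phi : IsBasisQuot C J b ↔ Bijective (phi C J b) := Iff.rfl

lemma phi_apply (c : Fin d → C) : phi C J b c = Ideal.Quotient.mk J (∑ i, c i • b i) :=
  isBasisQuot_apply J b c

variable (C' D' : Type u) [CommRing C'] [CommRing D'] [Algebra C C'] [Algebra C' D']
  [Algebra C D'] [IsScalarTower C C' D'] [Algebra D D'] [IsScalarTower C D D']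
  [Algebra.IsPushout C C' D D']

/-- the comparison of the base change of the quotient with the quotient of the base change. -/
noncomputable def quotEquiv : C' ⊗[C] (D ⧸ J) ≃ₐ[C'] D' ⧸ J.map (algebraMap D D') :=
  (Algebra.TensorProduct.tensorQuotientEquiv (R := C) C' D C' J).trans
    (Ideal.quotientEquivAlg _ _ (Algebra.IsPushout.equiv C C' D D') (by
      change J.map (algebraMap D D') =
        Ideal.map ((Algebra.IsPushout.equiv C C' D D' : C' ⊗[C] D ≃ₐ[C'] D') : C' ⊗[C] D →+* D')
          (Ideal.map (Algebra.TensorProduct.includeRight : D →ₐ[C] C' ⊗[C] D).toRingHom J)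
      rw [Ideal.map_map]
      congr 1
      ext x
      simp [Algebra.IsPushout.equiv_tmul]))

lemma quotEquiv_tmul (c' : C') (x : D) :
    quotEquiv (C := C) J C' D' (c' ⊗ₜ[C] Ideal.Quotient.mk J x) =
      Ideal.Quotient.mk _ (algebraMap C' D' c' * algebraMap D D' x) := by
  have h1 : quotEquiv (C := C) J C' D' (c' ⊗ₜ[C] Ideal.Quotient.mk J x) =
      Ideal.Quotient.mk _ ((Algebra.IsPushout.equiv C C' D D') (c' ⊗ₜ[C] x)) := rfl
  rw [h1, Algebra.IsPushout.equiv_tmul]

/-- **the bridge.** -/
theorem quotEquiv_comp_phi :
    (quotEquiv (C := C) J C' D').toLinearMap ∘ₗ (phi C J b).baseChange C' =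
      phi C' (J.map (algebraMap D D')) (fun i => algebraMap D D' (b i)) ∘ₗ
        (TensorProduct.piScalarRight C C' C' (Fin d)).toLinearMap := by
  apply TensorProduct.AlgebraTensorModule.ext
  intro x f
  change quotEquiv (C := C) J C' D' (x ⊗ₜ[C] phi C J b f) =
    phi C' _ _ (TensorProduct.piScalarRight C C' C' (Fin d) (x ⊗ₜ[C] f))
  rw [TensorProduct.piScalarRight_apply, TensorProduct.piScalarRightHom_tmul, phi_apply,
    phi_apply, quotEquiv_tmul]
  congr 1
  rw [map_sum, Finset.mul_sum]
  refine Finset.sum_congr rfl (fun i _ => ?_)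
  rw [Algebra.smul_def (f i • x), Algebra.smul_def (f i) (b i), map_mul,
    ← IsScalarTower.algebraMap_apply C D D', Algebra.smul_def (f i) x, map_mul,
    ← IsScalarTower.algebraMap_apply C C' D']
  ring

theorem isBasisQuot_map_iff :
    IsBasisQuot C' (J.map (algebraMap D D')) (fun i => algebraMap D D' (b i)) ↔
      Bijective ((phi C J b).baseChange C') := by
  rw [isBasisQuot_iff_phi]
  have h := quotEquiv_comp_phi (C := C) J b C' D'
  constructor
  · intro hb
    have h1 : Bijective ((quotEquiv (C := C) J C' D').toLinearMap ∘ₗ (phi C J b).baseChange C') := by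
      rw [h]
      exact hb.comp (TensorProduct.piScalarRight C C' C' (Fin d)).bijective
    have h2 : ((phi C J b).baseChange C' : _ → _) =
        (quotEquiv (C := C) J C' D').symm ∘ ((quotEquiv (C := C) J C' D').toLinearMap ∘ₗ (phi C J b).baseChange C') := by
      ext z
      simp
    rw [h2]
    exact (quotEquiv (C := C) J C' D').symm.bijective.comp h1
  · intro hb
    have h1 : Bijective (phi C' (J.map (algebraMap D D')) (fun i => algebraMap D D' (b i)) ∘ₗ
        (TensorProduct.piScalarRight C C' C' (Fin d)).toLinearMap) := by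
      rw [← h]
      exact (quotEquiv (C := C) J C' D').bijective.comp hb
    have h2 : (phi C' (J.map (algebraMap D D')) (fun i => algebraMap D D' (b i)) : _ → _) =
        (phi C' (J.map (algebraMap D D')) (fun i => algebraMap D D' (b i)) ∘ₗ
          (TensorProduct.piScalarRight C C' C' (Fin d)).toLinearMap) ∘
            (TensorProduct.piScalarRight C C' C' (Fin d)).symm := by
      ext z
      simp
    rw [h2]
    exact h1.comp (TensorProduct.piScalarRight C C' C' (Fin d)).symm.bijective

end Groth.Agent.Lib.Helper10.HilbRing
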