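import Mathlib
import Groth.Agent.Lib.Helper10.HilbRing6

/-!
# Spreading out bases of quotients: statements with explicit ring homomorphisms
-/

set_option autoImplicit false
set_option linter.unusedSectionVars false
set_option linter.style.haveILetI false
set_option backward.isDefEq.respectTransparency.types false
set_option maxHeartbeats 4000000
set_option synthInstance.maxHeartbeats 400000
universe u
open TensorProduct Function CategoryTheory

namespace Groth.Agent.Lib.Helper10.HilbRing

variable {C D : Type u} [CommRing C] [CommRing D] [Algebra C D] (J : Ideal D) {d : ℕ}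
  (b : Fin d → D)

/-- the basis property holds after every base change inverting `g`. -/
def SpreadsOn (g : C) : Prop :=
  ∀ (C'' D'' : Type u) [CommRing C''] [CommRing D''] [Algebra C'' D''] (w'' : C →+* C'')
    (m'' : D →+* D''),
    IsPushout (CommRingCat.ofHom (algebraMap C D)) (CommRingCat.ofHom w'')
      (CommRingCat.ofHom m'') (CommRingCat.ofHom (algebraMap C'' D'')) →
    IsUnit (w'' g) → IsBasisQuot C'' (J.map m'') (fun i => m'' (b i))

section Sq

variable {C' D' : Type u} [CommRing C'] [CommRing D'] [Algebra C' D'] (w : C →+* C')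
  (m : D →+* D')
  (hsq : IsPushout (CommRingCat.ofHom (algebraMap C D)) (CommRingCat.ofHom w)
    (CommRingCat.ofHom m) (CommRingCat.ofHom (algebraMap C' D')))

include hsq in
/-- the bridge with explicit homomorphisms. -/
theorem isBasisQuot_map_iff_hom :
    IsBasisQuot C' (J.map m) (fun i => m (b i)) ↔
      (letI := w.toAlgebra; Bijective ((phi C J b).baseChange C')) := by
  letI : Algebra C C' := w.toAlgebra
  letI : Algebra D D' := m.toAlgebra
  letI : Algebra C D' := ((algebraMap C' D').comp w).toAlgebra
  haveI : IsScalarTower C C' D' := IsScalarTower.of_algebraMap_eq' rfl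
  haveI : IsScalarTower C D D' := IsScalarTower.of_algebraMap_eq' (by
    have := congrArg CommRingCat.Hom.hom hsq.w
    exact this.symm)
  haveI : Algebra.IsPushout C C' D D' := (CommRingCat.isPushout_iff_isPushout.mp hsq).symm
  exact isBasisQuot_map_iff J b C' D'

include hsq in
theorem isBasisQuot_of_map (hb : IsBasisQuot C J b) :
    IsBasisQuot C' (J.map m) (fun i => m (b i)) := by
  rw [isBasisQuot_map_iff_hom J b w m hsq]
  letI : Algebra C C' := w.toAlgebra
  let E : (Fin d → C) ≃ₗ[C] (D ⧸ J) := LinearEquiv.ofBijective _ hb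
  exact (E.baseChange C C' _ _).bijective

theorem spreadsOn_of_almost_inverse (ψ : (D ⧸ J) →ₗ[C] (Fin d → C)) (g : C)
    (h1 : phi C J b ∘ₗ ψ = g • LinearMap.id) (h2 : ψ ∘ₗ phi C J b = g • LinearMap.id) :
    SpreadsOn J b g := by
  intro C'' D'' _ _ _ w'' m'' hsq'' hu
  rw [isBasisQuot_map_iff_hom J b w'' m'' hsq'']
  letI : Algebra C C'' := w''.toAlgebra
  exact bijective_baseChange_of_almost_inverse _ ψ g h1 h2 C'' hu

include hsq in
/-- **spreading out from a base change.** -/
theorem exists_spreadsOn [Module.Finite C (D ⧸ J)] [Module.Projective C (D ⧸ J)]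
    (hb' : IsBasisQuot C' (J.map m) (fun i => m (b i))) (q' : PrimeSpectrum C') :
    ∃ g : C, w g ∉ q'.asIdeal ∧ SpreadsOn J b g := by
  rw [isBasisQuot_map_iff_hom J b w m hsq] at hb'
  letI : Algebra C C' := w.toAlgebra
  let K := q'.asIdeal.ResidueField
  letI : Algebra C K := ((algebraMap C' K).comp w).toAlgebra
  haveI : IsScalarTower C C' K := IsScalarTower.of_algebraMap_eq' rfl
  have hK := bijective_baseChange_of_tower (phi C J b) C' K hb'
  obtain ⟨g, ψ, hg, h1, h2⟩ := exists_almost_inverse (phi C J b) K hK
  refine ⟨g, fun hmem => hg ?_, spreadsOn_of_almost_inverse J b ψ g h1 h2⟩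
  change algebraMap C' K (w g) = 0
  exact (Ideal.algebraMap_residueField_eq_zero).mpr hmem

end Sq

/-- **existence of a basis near a point.** -/
theorem exists_basis_spreadsOn [Module.Finite C (D ⧸ J)] [Module.Projective C (D ⧸ J)]
    (q : PrimeSpectrum C) (hrank : Module.rankAtStalk (D ⧸ J) q = d) {A : Type u} (s : A → D)
    (hs : Submodule.span C (Set.range (fun a => Ideal.Quotient.mk J (s a))) = ⊤) :
    ∃ E : Fin d → A, ∃ g : C, g ∉ q.asIdeal ∧ SpreadsOn J (fun i => s (E i)) g := by
  obtain ⟨E, hE⟩ := exists_basis_fibre q hrank (fun a => Ideal.Quotient.mk J (s a)) hs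
  have hphi : phi C J (fun i => s (E i)) =
      Fintype.linearCombination C ((fun a => Ideal.Quotient.mk J (s a)) ∘ E) := by
    refine LinearMap.ext (fun c => ?_)
    rw [phi_apply, Fintype.linearCombination_apply, map_sum]
    refine Finset.sum_congr rfl (fun i _ => ?_)
    rfl
  rw [← hphi] at hE
  obtain ⟨g, ψ, hg, h1, h2⟩ := exists_almost_inverse (phi C J (fun i => s (E i)))
    q.asIdeal.ResidueField hE
  refine ⟨E, g, fun hmem => hg ?_, spreadsOn_of_almost_inverse J _ ψ g h1 h2⟩
  exact (Ideal.algebraMap_residueField_eq_zero).mpr hmem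

end Groth.Agent.Lib.Helper10.HilbRing
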