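import Mathlib
import Groth.Agent.Lib.Helper10.ZarRep2

/-!
# Representability from a cover by open representable subfunctors, for `SFun`
-/

set_option autoImplicit false
set_option linter.unusedSectionVars false
set_option linter.style.haveILetI false
set_option backward.isDefEq.respectTransparency.types false
set_option maxHeartbeats 4000000
set_option synthInstance.maxHeartbeats 400000
universe u
open CategoryTheory CategoryTheory.Limits AlgebraicGeometry Opposite TopologicalSpace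

namespace Groth.Agent.Lib.Helper10.ZarRep

open SFun

variable {S : Scheme.{u}} (G : SFun S)

/-- the sheaf condition in Mathlib's form. -/
theorem isSheaf_zariski_of_isSheaf (hS : G.IsSheaf) :
    Presheaf.IsSheaf Scheme.zariskiTopology G.F := by
  rw [isSheaf_iff_isSheaf_of_type,
    Precoverage.isSheaf_toGrothendieck_iff_of_isStableUnderBaseChange_of_small.{u}]
  intro T (𝒰 : Scheme.OpenCover.{u} T)
  change Presieve.IsSheafFor G.F (Presieve.ofArrows 𝒰.X 𝒰.f)
  rw [Presieve.isSheafFor_arrows_iff]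
  intro x hx
  obtain ⟨y, hy⟩ := hS.glue 𝒰 x (fun i j Z a b hab => hx i j Z a b hab)
  exact ⟨y, hy, fun y' hy' => hS.sep 𝒰 _ _ (fun i => (hy' i).trans (hy i).symm)⟩

section OpenCover

variable {ι : Type u} (M : ι → Scheme.{u}) (ξ : ∀ i, G.F.obj (op (M i)))

/-- the classifying maps. -/
noncomputable def cl (i : ι) : yoneda.obj (M i) ⟶ G.F := yonedaEquiv.symm (ξ i)

lemma cl_app (i : ι) (T : Scheme.{u}) (v : T ⟶ M i) :
    (cl G M ξ i).app (op T) v = G.pull v (ξ i) := rfl

variable (hmono : ∀ (i : ι) (T : Scheme.{u}) (v v' : T ⟶ M i),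
    G.pull v (ξ i) = G.pull v' (ξ i) → v = v')
  (W : ∀ (_ : ι) (T : Scheme.{u}) (_ : G.F.obj (op T)), T.Opens)
  (hW : ∀ (i : ι) (T : Scheme.{u}) (x : G.F.obj (op T)) (T' : Scheme.{u}) (a : T' ⟶ T),
    (∃ v : T' ⟶ M i, G.pull v (ξ i) = G.pull a x) ↔ Set.range a ⊆ W i T x)

include hmono hW in
theorem cl_isOpenImmersion (i : ι) : IsOpenImmersion.presheaf (cl G M ξ i) := by
  apply MorphismProperty.relative.of_exists
  intro T g
  obtain ⟨x, rfl⟩ := yonedaEquiv.symm.surjective g
  obtain ⟨v, hv⟩ := (hW i T x _ (W i T x).ι).mpr (by rw [Scheme.Opens.range_ι])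
  refine ⟨(W i T x).toScheme, yoneda.map v, (W i T x).ι, ?_, inferInstance⟩
  apply IsPullback.of_forall_isPullback_app
  intro T'
  refine (Types.isPullback_iff _ _ _ _).mpr ⟨?_, ?_, ?_⟩
  · ext (a : T'.unop ⟶ (W i T x).toScheme)
    change G.pull (a ≫ v) (ξ i) = G.pull (a ≫ (W i T x).ι) x
    rw [pull_comp, pull_comp, hv]
  · rintro (a : T'.unop ⟶ (W i T x).toScheme) (a' : T'.unop ⟶ (W i T x).toScheme) ⟨-, h2⟩
    exact (cancel_mono (W i T x).ι).mp h2
  · rintro (w : T'.unop ⟶ M i) (b : T'.unop ⟶ T) h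
    change G.pull w (ξ i) = G.pull b x at h
    have hr : Set.range b ⊆ W i T x := (hW i T x _ b).mp ⟨w, h⟩
    have hr' : Set.range b ⊆ Set.range (W i T x).ι := by rwa [Scheme.Opens.range_ι]
    refine ⟨IsOpenImmersion.lift (W i T x).ι b hr', ?_, IsOpenImmersion.lift_fac _ _ _⟩
    change IsOpenImmersion.lift (W i T x).ι b hr' ≫ v = w
    apply hmono
    rw [pull_comp, hv, ← pull_comp, IsOpenImmersion.lift_fac, h]

variable (hcov : ∀ (T : Scheme.{u}) (x : G.F.obj (op T)) (p : T), ∃ i, p ∈ W i T x)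

include hW hcov in
theorem isLocallySurjective_desc :
    Presheaf.IsLocallySurjective Scheme.zariskiTopology (Sigma.desc (cl G M ξ)) := by
  constructor
  intro T x
  choose i hi using hcov T x
  rw [Scheme.mem_grothendieckTopology_iff]
  let 𝒰 : Scheme.OpenCover.{u} T := {
    I₀ := T, X p := (W (i p) T x), f p := (W (i p) T x).ι,
    mem₀ := by
      rw [Scheme.presieve₀_mem_precoverage_iff]
      refine ⟨fun p ↦ ⟨p, by simpa using hi p⟩, inferInstance⟩ }
  refine ⟨𝒰, ?_⟩
  rintro _ _ ⟨p⟩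
  obtain ⟨v, hv⟩ := (hW (i p) T x _ (W (i p) T x).ι).mpr (by rw [Scheme.Opens.range_ι])
  refine ⟨(Sigma.ι (fun i => yoneda.obj (M i)) (i p)).app _ v, ?_⟩
  have h1 := congrArg (fun φ => φ.app (op (W (i p) T x).toScheme) v)
    (Sigma.ι_desc (cl G M ξ) (i p))
  exact h1.trans hv

include hmono hW hcov in
/-- **Representability from an open cover by representable subfunctors.** -/
theorem exists_rep_of_open_cover (hS : G.IsSheaf) :
    ∃ (M₀ : Scheme.{u}) (ξ₀ : G.F.obj (op M₀)), G.Rep M₀ ξ₀ := by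
  let F : Sheaf Scheme.zariskiTopology (Type u) := ⟨G.F, isSheaf_zariski_of_isSheaf G hS⟩
  haveI : Presheaf.IsLocallySurjective Scheme.zariskiTopology (Sigma.desc (cl G M ξ)) :=
    isLocallySurjective_desc G M ξ W hW hcov
  have hrep : G.F.IsRepresentable :=
    Scheme.LocalRepresentability.isRepresentable (F := F) (f := cl G M ξ)
      (cl_isOpenImmersion G M ξ hmono W hW)
  obtain ⟨M₀, ⟨r⟩⟩ := hrep
  have key : ∀ (T : Scheme.{u}) (v : T ⟶ M₀), G.pull v (r.homEquiv (𝟙 M₀)) = r.homEquiv v := by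
    intro T v
    have := r.homEquiv_comp v (𝟙 M₀)
    rw [Category.comp_id] at this
    exact this.symm
  refine ⟨M₀, r.homEquiv (𝟙 M₀), fun T x => ⟨r.homEquiv.symm x, ?_, fun v hv => ?_⟩⟩
  · change G.pull _ _ = x
    rw [key, Equiv.apply_symm_apply]
  · change G.pull _ _ = x at hv
    rw [key] at hv
    rw [← hv, Equiv.symm_apply_apply]

end OpenCover

end Groth.Agent.Lib.Helper10.ZarRep
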