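import Mathlib
import Groth.Agent.Lib.Helper10.MorSRep2

/-!
# Representability from charts: the open loci are defined as the loci where the element
locally comes from the chart
-/

set_option autoImplicit false
set_option linter.unusedSectionVars false
set_option linter.style.haveILetI false
set_option backward.isDefEq.respectTransparency.types false
set_option maxHeartbeats 4000000
set_option synthInstance.maxHeartbeats 400000
universe u
open CategoryTheory CategoryTheory.Limits AlgebraicGeometry Opposite TopologicalSpace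

namespace Groth.Agent.Lib.Helper10.ZarRep

open SFun

variable {S : Scheme.{u}} (G : SFun S)

section One

variable (M : Scheme.{u}) (ξ : G.F.obj (op M))

/-- `x` comes from the chart `(M, ξ)` near `p`. -/
def LocFrom {T : Scheme.{u}} (x : G.F.obj (op T)) (p : T) : Prop :=
  ∃ (O : Scheme.{u}) (j : O ⟶ T), IsOpenImmersion j ∧ p ∈ Set.range j ∧
    ∃ v : O ⟶ M, G.pull v ξ = G.pull j x

lemma isOpen_locFrom {T : Scheme.{u}} (x : G.F.obj (op T)) :
    IsOpen {p : T | LocFrom G M ξ x p} := by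
  rw [isOpen_iff_forall_mem_open]
  rintro p ⟨O, j, hj, hp, v, hv⟩
  haveI := hj
  exact ⟨Set.range j, fun q hq => ⟨O, j, hj, hq, v, hv⟩, j.isOpenEmbedding.isOpen_range, hp⟩

/-- the locus where `x` locally comes from the chart. -/
def Wloc {T : Scheme.{u}} (x : G.F.obj (op T)) : T.Opens :=
  ⟨{p : T | LocFrom G M ξ x p}, isOpen_locFrom G M ξ x⟩

lemma locFrom_pull {T T' : Scheme.{u}} (a : T' ⟶ T) (x : G.F.obj (op T)) (p' : T')
    (h : LocFrom G M ξ x (a p')) : LocFrom G M ξ (G.pull a x) p' := by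
  obtain ⟨O, j, hj, hp, v, hv⟩ := h
  haveI := hj
  obtain ⟨o, ho⟩ := hp
  obtain ⟨z, hz1, -⟩ := Scheme.Pullback.exists_preimage_pullback p' o ho.symm
  refine ⟨pullback a j, pullback.fst a j, inferInstance, ⟨z, hz1⟩, pullback.snd a j ≫ v, ?_⟩
  rw [pull_comp, hv, ← pull_comp, ← pullback.condition, pull_comp]

variable (hmono : ∀ (T : Scheme.{u}) (v v' : T ⟶ M), G.pull v ξ = G.pull v' ξ → v = v')

include hmono in
/-- gluing of local classifying maps. -/
theorem exists_of_locFrom (hS : G.IsSheaf) {T : Scheme.{u}} (y : G.F.obj (op T))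
    (hloc : ∀ p : T, LocFrom G M ξ y p) : ∃ v : T ⟶ M, G.pull v ξ = y := by
  choose O j hj hp v hv using hloc
  haveI := hj
  let 𝒰 : Scheme.OpenCover.{u} T := {
    I₀ := T, X p := O p, f p := j p,
    mem₀ := by
      rw [Scheme.presieve₀_mem_precoverage_iff]
      exact ⟨fun p ↦ ⟨p, hp p⟩, fun p => hj p⟩ }
  have compat : ∀ p q : T, pullback.fst (𝒰.f p) (𝒰.f q) ≫ v p = pullback.snd _ _ ≫ v q := by
    intro p q
    apply hmono
    rw [pull_comp, pull_comp, hv, hv, ← pull_comp, ← pull_comp]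
    congr 1
    exact pullback.condition
  refine ⟨𝒰.glueMorphisms v compat, hS.sep 𝒰 _ _ (fun p => ?_)⟩
  rw [← pull_comp, Scheme.Cover.ι_glueMorphisms]
  exact hv p

end One

section Charts

variable {ι : Type u} (M : ι → Scheme.{u}) (ξ : ∀ i, G.F.obj (op (M i)))
  (hmono : ∀ (i : ι) (T : Scheme.{u}) (v v' : T ⟶ M i),
    G.pull v (ξ i) = G.pull v' (ξ i) → v = v')
  (hKL : ∀ (i : ι) (T : Scheme.{u}) (x : G.F.obj (op T)) (T' : Scheme.{u}) (a : T' ⟶ T)
    (v : T' ⟶ M i), G.pull v (ξ i) = G.pull a x → ∀ p' : T', LocFrom G (M i) (ξ i) x (a p'))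
  (hcov : ∀ (T : Scheme.{u}) (x : G.F.obj (op T)) (p : T), ∃ i, LocFrom G (M i) (ξ i) x p)

include hmono hKL hcov in
/-- **Representability from charts.** -/
theorem exists_rep_of_charts (hS : G.IsSheaf) :
    ∃ (M₀ : Scheme.{u}) (ξ₀ : G.F.obj (op M₀)), G.Rep M₀ ξ₀ := by
  refine exists_rep_of_open_cover G M ξ hmono (fun i T x => Wloc G (M i) (ξ i) x) ?_ hcov hS
  intro i T x T' a
  constructor
  · rintro ⟨v, hv⟩ _ ⟨p', rfl⟩
    exact hKL i T x T' a v hv p'
  · intro hr
    exact exists_of_locFrom G (M i) (ξ i) (hmono i) hS (G.pull a x)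
      (fun p' => locFrom_pull G (M i) (ξ i) a x p' (hr ⟨p', rfl⟩))

end Charts

end Groth.Agent.Lib.Helper10.ZarRep
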