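import Mathlib
import Groth.Agent.Lib.Helper10.HilbChart
import Groth.Agent.Lib.Helper10.HilbRing7
import Groth.Agent.Lib.Helper10.HilbFun2
import Groth.Agent.Lib.Helper10.ZarRep3

/-!
# Representability of the Hilbert functor of points of an affine scheme over an affine base
-/

set_option autoImplicit false
set_option linter.unusedSectionVars false
set_option linter.style.haveILetI false
set_option backward.isDefEq.respectTransparency.types false
set_option maxHeartbeats 4000000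
set_option synthInstance.maxHeartbeats 400000
universe u
open CategoryTheory CategoryTheory.Limits AlgebraicGeometry Opposite

namespace Groth.Agent.Lib.Helper10.HilbAff

open PicF HilbD Groth.Agent.Lib.Helper10.HilbLib Groth.Agent.Lib.Helper10.HilbFun
  Groth.Agent.Lib.Helper10.HilbRing Groth.Agent.Lib.Helper10.ZarRep

lemma isUnit_of_basicOpen_eq_top {Y : Scheme.{u}} (r : Γ(Y, ⊤)) (h : Y.basicOpen r = ⊤) :
    IsUnit r := by
  apply Y.toRingedSpace.isUnit_of_isUnit_germ ⊤ r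
  intro x hx
  have hx' : x ∈ Y.basicOpen r := by rw [h]; trivial
  exact (Y.toRingedSpace.mem_basicOpen r x hx).mp hx'

lemma mem_basicOpen_iff_notMem {Y : Scheme.{u}} [IsAffine Y] (r : Γ(Y, ⊤)) (y : Y) :
    y ∈ Y.basicOpen r ↔ r ∉ (show PrimeSpectrum Γ(Y, ⊤) from Y.isoSpec.hom y).asIdeal := by
  rw [← Scheme.map_PrimeSpectrum_basicOpen_of_affine]
  rfl

section Generic

variable {S : Scheme.{u}} (G : SFun S) (M : Scheme.{u}) (ξ : G.F.obj (op M))

lemma locFrom_of_pull {T T₁ : Scheme.{u}} (j₁ : T₁ ⟶ T) [IsOpenImmersion j₁]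
    (x : G.F.obj (op T)) (p₁ : T₁) (h : LocFrom G M ξ (G.pull j₁ x) p₁) :
    LocFrom G M ξ x (j₁ p₁) := by
  obtain ⟨O, j, hj, ⟨o, ho⟩, v, hv⟩ := h
  haveI := hj
  refine ⟨O, j ≫ j₁, inferInstance, ⟨o, ?_⟩, v, ?_⟩
  · rw [Scheme.Hom.comp_apply, ho]
  · rw [SFun.pull_comp]
    exact hv

end Generic

variable {X S : Scheme.{u}} (f : X ⟶ S) [IsAffine X] [IsAffine S] {d : ℕ} (E : Fin d → AX f)

/-- the basis property of an element of the Hilbert functor. -/
def HasBasisEl {T : Scheme.{u}} [IsAffine T] (y : El f d T) : Prop := HasBasis f y.1 E y.2.1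

lemma hasBasisEl_elMap {T : Scheme.{u}} [IsAffine T] (v : T ⟶ ME f E) :
    HasBasisEl f E (elMap v (ξE f E)) := hasBasis_elMap f E v

/-- **the chart contains the locus where the basis spreads.** -/
theorem locFrom_of_spreadsOn {T₁ : Scheme.{u}} [IsAffine T₁] {t₁ : T₁ ⟶ S}
    (Z₁ : Obj f d (Over.mk t₁)) (g : CT f t₁)
    (hg : SpreadsOn (idealOf f t₁ Z₁.1) (fun i => algebraMap (AX f) (DT f t₁) (E i)) g)
    (p : T₁) (hp : p ∈ T₁.basicOpen (show Γ(T₁, ⊤) from g)) :
    LocFrom (hilbFun f d) (ME f E) (ξE f E) (⟨t₁, Z₁⟩ : El f d T₁) p := by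
  let O : T₁.Opens := T₁.basicOpen (show Γ(T₁, ⊤) from g)
  haveI : IsAffine O.toScheme := (isAffineOpen_top T₁).basicOpen g
  let j : O.toScheme ⟶ T₁ := O.ι
  have hu : IsUnit ((wA f j (rfl : j ≫ t₁ = j ≫ t₁)).toRingHom g) := by
    change IsUnit (j.appTop.hom g)
    apply isUnit_of_basicOpen_eq_top
    have h1 := Scheme.preimage_basicOpen_top j (show Γ(T₁, ⊤) from g)
    rw [← h1]
    exact Scheme.Opens.ι_preimage_self O
  have hB := hg (CT f (j ≫ t₁)) (DT f (j ≫ t₁)) (wA f j rfl).toRingHom (mA f j rfl)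
    (isPushout_CD f j rfl) hu
  have hB' : HasBasis f (j ≫ t₁) E (pull f (oMk j rfl) Z₁.1) := by
    unfold HasBasis
    rw [idealOf_pull]
    simpa only [mA_algebraMap_A] using hB
  obtain ⟨v, hv⟩ := exists_of_hasBasis f E (pullObj f (oMk j rfl) Z₁) hB'
  refine ⟨O.toScheme, j, inferInstance, ?_, v, hv⟩
  rw [Scheme.Opens.range_ι]
  exact hp


lemma span_range_mk_algebraMap {T₁ : Scheme.{u}} [IsAffine T₁] (t₁ : T₁ ⟶ S)
    (J : Ideal (DT f t₁)) :
    Submodule.span (CT f t₁) (Set.range (fun a : AX f =>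
      Ideal.Quotient.mk J (algebraMap (AX f) (DT f t₁) a))) = ⊤ := by
  rw [eq_top_iff]
  rintro y -
  obtain ⟨x, rfl⟩ := Ideal.Quotient.mk_surjective y
  refine (hD f t₁).inductionOn x
    (fun x => Ideal.Quotient.mk J x ∈ Submodule.span (CT f t₁) (Set.range (fun a : AX f =>
      Ideal.Quotient.mk J (algebraMap (AX f) (DT f t₁) a)))) ?_ ?_ ?_ ?_
  · rw [map_zero]
    exact Submodule.zero_mem _
  · intro a
    exact Submodule.subset_span ⟨a, rfl⟩
  · intro c x hx
    have : Ideal.Quotient.mk J (c • x) = c • Ideal.Quotient.mk J x := by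
      rw [Algebra.smul_def, map_mul, Algebra.smul_def]
      rfl
    rw [this]
    exact Submodule.smul_mem _ _ hx
  · intro x y hx hy
    rw [map_add]
    exact Submodule.add_mem _ hx hy

/-- **the charts cover.** -/
theorem hcov_aff (T : Scheme.{u}) (x : El f d T) (p : T) :
    ∃ E : Fin d → AX f, LocFrom (hilbFun f d) (ME f E) (ξE f E) x p := by
  obtain ⟨y₁, hy₁⟩ := T.affineCover.covers p
  let T₁ := T.affineCover.X (T.affineCover.idx p)
  let j₁ : T₁ ⟶ T := T.affineCover.f (T.affineCover.idx p)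
  let x₁ : El f d T₁ := elMap j₁ x
  obtain ⟨hfin, hproj, hrank⟩ := finite_projective_of_obj f x₁.1 x₁.2
  haveI := hfin
  haveI := hproj
  let q : PrimeSpectrum (CT f x₁.1) := (show PrimeSpectrum Γ(T₁, ⊤) from T₁.isoSpec.hom y₁)
  obtain ⟨E, g, hgq, hsp⟩ := exists_basis_spreadsOn (idealOf f x₁.1 x₁.2.1) q (hrank q)
    (fun a : AX f => algebraMap (AX f) (DT f x₁.1) a) (span_range_mk_algebraMap f x₁.1 _)
  refine ⟨E, ?_⟩
  have hmem : y₁ ∈ T₁.basicOpen (show Γ(T₁, ⊤) from g) :=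
    (mem_basicOpen_iff_notMem (show Γ(T₁, ⊤) from g) y₁).mpr hgq
  have h1 : LocFrom (hilbFun f d) (ME f E) (ξE f E) (⟨x₁.1, x₁.2⟩ : El f d T₁) y₁ :=
    locFrom_of_spreadsOn f E x₁.2 g hsp y₁ hmem
  have h2 := locFrom_of_pull (hilbFun f d) (ME f E) (ξE f E) j₁ x y₁ h1
  rw [← hy₁]
  exact h2


/-- **the locus where an element comes from a chart is stable under localisation on the source.** -/
theorem hKL_aff (T : Scheme.{u}) (x : El f d T) (T' : Scheme.{u}) (a : T' ⟶ T)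
    (v : T' ⟶ ME f E) (hv : elMap v (ξE f E) = elMap a x) (p' : T') :
    LocFrom (hilbFun f d) (ME f E) (ξE f E) x (a p') := by
  obtain ⟨y₁, hy₁⟩ := T.affineCover.covers (a p')
  let T₁ := T.affineCover.X (T.affineCover.idx (a p'))
  let j₁ : T₁ ⟶ T := T.affineCover.f (T.affineCover.idx (a p'))
  obtain ⟨z, hz1, hz2⟩ := Scheme.Pullback.exists_preimage_pullback (f := a) (g := j₁) p' y₁ hy₁.symm
  let P := pullback a j₁
  obtain ⟨z', hz'⟩ := P.affineCover.covers z
  let T'₁ := P.affineCover.X (P.affineCover.idx z)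
  let j' : T'₁ ⟶ P := P.affineCover.f (P.affineCover.idx z)
  let a₁ : T'₁ ⟶ T₁ := j' ≫ pullback.snd a j₁
  let j'' : T'₁ ⟶ T' := j' ≫ pullback.fst a j₁
  have hsq : j'' ≫ a = a₁ ≫ j₁ := by
    simp only [j'', a₁, Category.assoc, pullback.condition]
  let x₁ : El f d T₁ := elMap j₁ x
  have hel : elMap (j'' ≫ v) (ξE f E) = elMap a₁ x₁ := by
    rw [elMap_comp, hv, ← elMap_comp, hsq, elMap_comp]
  have hb1 : HasBasisEl f E (elMap a₁ x₁) := by
    rw [← hel]
    exact hasBasisEl_elMap f E _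
  have hb2 : IsBasisQuot (CT f (a₁ ≫ x₁.1)) ((idealOf f x₁.1 x₁.2.1).map (mA f a₁ rfl))
      (fun i => mA f a₁ rfl (algebraMap (AX f) (DT f x₁.1) (E i))) := by
    have h3 : HasBasis f (a₁ ≫ x₁.1) E (pull f (oMk a₁ rfl) x₁.2.1) := hb1
    unfold HasBasis at h3
    rw [idealOf_pull] at h3
    simpa only [mA_algebraMap_A] using h3
  obtain ⟨hfin, hproj, -⟩ := finite_projective_of_obj f x₁.1 x₁.2
  haveI := hfin
  haveI := hproj
  let q' : PrimeSpectrum (CT f (a₁ ≫ x₁.1)) :=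
    (show PrimeSpectrum Γ(T'₁, ⊤) from T'₁.isoSpec.hom z')
  obtain ⟨g, hgq, hsp⟩ := exists_spreadsOn (idealOf f x₁.1 x₁.2.1)
    (fun i => algebraMap (AX f) (DT f x₁.1) (E i)) (wA f a₁ rfl).toRingHom (mA f a₁ rfl)
    (isPushout_CD f a₁ rfl) hb2 q'
  have hmem' : z' ∈ T'₁.basicOpen (a₁.appTop.hom (show Γ(T₁, ⊤) from g)) :=
    (mem_basicOpen_iff_notMem _ z').mpr hgq
  have hmem : a₁ z' ∈ T₁.basicOpen (show Γ(T₁, ⊤) from g) := by
    have h1 := Scheme.preimage_basicOpen_top a₁ (show Γ(T₁, ⊤) from g)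
    have h2 : z' ∈ a₁ ⁻¹ᵁ T₁.basicOpen (show Γ(T₁, ⊤) from g) := by
      rw [h1]
      exact hmem'
    exact h2
  have h1 : LocFrom (hilbFun f d) (ME f E) (ξE f E) (⟨x₁.1, x₁.2⟩ : El f d T₁) (a₁ z') :=
    locFrom_of_spreadsOn f E x₁.2 g hsp (a₁ z') hmem
  have h2 := locFrom_of_pull (hilbFun f d) (ME f E) (ξE f E) j₁ x (a₁ z') h1
  have h3 : j₁ (a₁ z') = a p' := by
    rw [← Scheme.Hom.comp_apply, ← hsq, Scheme.Hom.comp_apply]
    congr 1
    rw [Scheme.Hom.comp_apply, hz', hz1]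
  rw [← h3]
  exact h2

/-- **Representability of the Hilbert functor of points of an affine scheme over an affine base.** -/
theorem representable_of_isAffine (d : ℕ) : HilbD.Representable f d := by
  obtain ⟨M₀, ξ₀, hR⟩ := exists_rep_of_charts (hilbFun f d) (fun E : Fin d → AX f => ME f E)
    (fun E => ξE f E) (fun E T v v' h => eq_of_elMap_eq f E v v' h)
    (fun E T x T' a v hv p' => hKL_aff f E T x T' a v hv p')
    (fun T x p => hcov_aff f T x p) (hilbFun_isSheaf f d)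
  exact representable_of_rep hR

end Groth.Agent.Lib.Helper10.HilbAff
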