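import Mathlib
import Groth.Agent.Lib.Helper10.HilbDict3
import Groth.Agent.Lib.Helper10.GrassTSZ
import Groth.Agent.Lib.Helper10.AffPtFunctor
import Groth.Agent.Lib.Helper10.HilbOpen

/-!
# Representability of the Grassmannian functor of quotients of a module over a ring

via the Hilbert scheme of points of the trivial square zero extension `Spec (R ⊕ M)`.
-/

set_option autoImplicit false
set_option linter.unusedSectionVars false
set_option linter.style.haveILetI false
set_option backward.isDefEq.respectTransparency.types false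
set_option maxHeartbeats 4000000
set_option synthInstance.maxHeartbeats 400000
universe u
open CategoryTheory CategoryTheory.Limits AlgebraicGeometry Opposite TensorProduct

namespace Groth.Agent.Lib.Helper10.GrassRep

open PicF HilbD Groth.Agent.Lib.Helper10.HilbDict Groth.Agent.Lib.Helper10.GrassTSZ
  Groth.Agent.Lib.Helper10.AffPtClosed Groth.Agent.Lib.Helper10.SemiTransport

variable (R : Type u) [CommRing R] (M : Type u) [AddCommGroup M] [Module R M]
  [Module Rᵐᵒᵖ M] [IsCentralScalar R M] (k : ℕ)
  (H : Over (Spec (CommRingCat.of R))) (Z : Obj (f₀ R (TB R M)) (k + 1) H)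

/-- the closed condition: the classifying ideal is killed by the augmentation. -/
def Cond (A : CommAlgCat.{u} R) (g : (ptsFunctor H).obj A) : Prop :=
  ∀ x ∈ Θ H Z A g, εA R M A x = 0

theorem hCond (A : CommAlgCat.{u} R) (g : (ptsFunctor H).obj A) :
    ∃ J : Ideal A, ∀ (C : CommAlgCat.{u} R) (φ : A ⟶ C),
      Cond R M k H Z C ((ptsFunctor H).map φ g) ↔ J ≤ RingHom.ker φ.hom.toRingHom := by
  refine ⟨(Θ H Z A g).map (εA R M A).toRingHom, fun C φ => ?_⟩
  rw [Cond, ptsFunctor_map, Θ_nat]
  letI : Algebra A C := φ.hom.toAlgebra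
  letI : IsScalarTower R A C :=
    IsScalarTower.of_algebraMap_eq' <| IsScalarTower.algebraMap_eq R A C
  exact aug_map_iff R M C φ.hom (Θ H Z A g)

variable (hU : IsUniversal (f₀ R (TB R M)) (k + 1) H Z)

include hU in
theorem exists_τ (A : CommAlgCat.{u} R)
    (N : (Module.Grassmannian.functor (R := R) (M := M) k).obj A) :
    ∃ g : SpA R A ⟶ H, Θ H Z A g = idealOfSub R N.toSubmodule :=
  Θ_surjective H Z hU A _ ((fpr_succ_iff R N.toSubmodule k).mpr
    ⟨N.finite_quotient, N.projective_quotient, N.rankAtStalk_eq⟩)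

/-- the point of the Hilbert scheme given by a point of the Grassmannian. -/
noncomputable def τ (A : CommAlgCat.{u} R)
    (N : (Module.Grassmannian.functor (R := R) (M := M) k).obj A) : (ptsFunctor H).obj A :=
  (exists_τ R M k H Z hU A N).choose

lemma Θ_τ (A : CommAlgCat.{u} R)
    (N : (Module.Grassmannian.functor (R := R) (M := M) k).obj A) :
    Θ H Z A (τ R M k H Z hU A N) = idealOfSub R N.toSubmodule :=
  (exists_τ R M k H Z hU A N).choose_spec

theorem τ_nat (A C : CommAlgCat.{u} R) (φ : A ⟶ C)
    (N : (Module.Grassmannian.functor (R := R) (M := M) k).obj A) :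
    τ R M k H Z hU C ((Module.Grassmannian.functor (R := R) (M := M) k).map φ N) =
      (ptsFunctor H).map φ (τ R M k H Z hU A N) := by
  apply Θ_injective H Z hU C
  rw [ptsFunctor_map, Θ_τ, Θ_nat, Θ_τ]
  letI : Algebra A C := φ.hom.toAlgebra
  letI : IsScalarTower R A C :=
    IsScalarTower.of_algebraMap_eq' <| IsScalarTower.algebraMap_eq R A C
  have h1 : ((Module.Grassmannian.functor (R := R) (M := M) k).map φ N).toSubmodule =
      LinearMap.ker (Module.Grassmannian.baseChangeMkQ C N.toSubmodule) :=
    Module.Grassmannian.map_toSubmodule φ.hom N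
  rw [h1]
  exact idealOfSub_ker_baseChangeMkQ R M C φ.hom (fun _ => rfl) N.toSubmodule

theorem τ_injective (A : CommAlgCat.{u} R) : Function.Injective (τ R M k H Z hU A) := by
  intro N N' h
  have h1 : idealOfSub R N.toSubmodule = idealOfSub R N'.toSubmodule := by
    rw [← Θ_τ R M k H Z hU, ← Θ_τ R M k H Z hU, h]
  exact Module.Grassmannian.ext (idealOfSub_injective R h1)

theorem mem_range_τ_iff (A : CommAlgCat.{u} R) (g : (ptsFunctor H).obj A) :
    g ∈ Set.range (τ R M k H Z hU A) ↔ Cond R M k H Z A g := by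
  constructor
  · rintro ⟨N, rfl⟩ x hx
    rw [Θ_τ] at hx
    exact εA_of_mem_idealOfSub R N.toSubmodule hx
  · intro hc
    have h1 := eq_idealOfSub R (Θ H Z A g) hc
    have h2 : FPR A ((A ⊗[R] TB R M) ⧸ Θ H Z A g) (k + 1) := Θ_fpr H Z A g
    rw [h1] at h2
    obtain ⟨h3, h4, h5⟩ := (fpr_succ_iff R _ k).mp h2
    let N : (Module.Grassmannian.functor (R := R) (M := M) k).obj A :=
      { toSubmodule := ((Θ H Z A g).restrictScalars A).comap (ιM R M A)
        finite_quotient := h3
        projective_quotient := h4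
        rankAtStalk_eq := h5 }
    refine ⟨N, ?_⟩
    apply Θ_injective H Z hU A
    rw [Θ_τ]
    exact h1.symm

include hU in
/-- **Representability of the Grassmannian functor of a module.** -/
theorem exists_rep_of_universal :
    ∃ (X : Over (Spec (CommRingCat.of R)))
      (e : ∀ A : CommAlgCat.{u} R, (SpA R A ⟶ X) ≃
        (Module.Grassmannian.functor (R := R) (M := M) k).obj A),
      ∀ (A C : CommAlgCat.{u} R) (φ : A ⟶ C) (g : SpA R A ⟶ X) (g' : SpA R C ⟶ X),
        g'.left = Spec.map (CommRingCat.ofHom φ.hom.toRingHom) ≫ g.left →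
          e C g' = (Module.Grassmannian.functor (R := R) (M := M) k).map φ (e A g) := by
  obtain ⟨Z', ι, hι, hZ'⟩ := exists_closed H (ptsFunctor H) (ptsEquiv H) (ptsEquiv_nat H)
    (Cond R M k H Z) (hCond R M k H Z)
  haveI : Mono ι := inferInstance
  obtain ⟨eZ, heZ, -⟩ := exists_rep_sub H (ptsFunctor H)
    (Module.Grassmannian.functor (R := R) (M := M) k) (ptsEquiv H) (ptsEquiv_nat H)
    (τ R M k H Z hU) (τ_nat R M k H Z hU) (τ_injective R M k H Z hU) Z' ι
    (fun A g => by
      rw [hZ' A g]
      exact (mem_range_τ_iff R M k H Z hU A (ptsEquiv H A g)).symm)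
  exact ⟨subOver H Z' ι, eZ, heZ⟩

/-- **Representability of the Grassmannian functor of a module.** -/
theorem exists_rep :
    ∃ (X : Over (Spec (CommRingCat.of R)))
      (e : ∀ A : CommAlgCat.{u} R, (SpA R A ⟶ X) ≃
        (Module.Grassmannian.functor (R := R) (M := M) k).obj A),
      ∀ (A C : CommAlgCat.{u} R) (φ : A ⟶ C) (g : SpA R A ⟶ X) (g' : SpA R C ⟶ X),
        g'.left = Spec.map (CommRingCat.ofHom φ.hom.toRingHom) ≫ g.left →
          e C g' = (Module.Grassmannian.functor (R := R) (M := M) k).map φ (e A g) := by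
  obtain ⟨H, Z, hU⟩ := Groth.Agent.Lib.Helper10.HilbAff.representable_of_isAffine
    (f₀ R (TB R M)) (k + 1)
  exact exists_rep_of_universal R M k H Z hU

end Groth.Agent.Lib.Helper10.GrassRep
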