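import Mathlib.LinearAlgebra.TensorProduct.Basis
import Mathlib.RingTheory.TensorProduct.Free
import Mathlib.RingTheory.TensorProduct.Basic
import Mathlib.LinearAlgebra.Basis.Basic
import Mathlib.Algebra.Ring.Subring.Basic

set_option autoImplicit false
universe u v

namespace Groth.Agent.Lib.Helper10.GrpdInvBasis

open TensorProduct

/-- `B` with the `A`-algebra structure through `τ`. -/
def Bt {A : Type u} {B : Type v} [CommRing A] [CommRing B] (_τ : A →+* B) : Type v := B

section
variable {A : Type u} {B : Type v} [CommRing A] [CommRing B] (τ : A →+* B)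

instance : CommRing (Bt τ) := inferInstanceAs (CommRing B)
instance : Algebra A (Bt τ) := τ.toAlgebra

/-- The identity `B → Bt τ`. -/
def toBt : B →+* Bt τ := RingHom.id B

lemma Bt_algebraMap (a : A) : algebraMap A (Bt τ) a = toBt τ (τ a) := rfl

end

section
variable {A : Type u} {B : Type v} [CommRing A] [CommRing B] (σ τ : A →+* B)
  {I : Type*} (x : I → A)

/-- coefficients are invariant -/
theorem coef_mem [Algebra A B] (halg : algebraMap A B = σ)
    (b : Module.Basis I A B) (hb : ∀ i, b i = τ (x i))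
    (γ : B →+* (Bt τ ⊗[A] B))
    (hγτ : ∀ a, γ (τ a) = (1 : Bt τ) ⊗ₜ[A] (τ a))
    (hγσ : ∀ a, γ (σ a) = (toBt τ (σ a)) ⊗ₜ[A] (1 : B))
    (a : A) (i : I) : σ (b.repr (τ a) i) = τ (b.repr (τ a) i) := by
  classical
  set l := b.repr (τ a) with hl
  have h1 : τ a = ∑ j ∈ l.support, σ (l j) * τ (x j) := by
    have := b.linearCombination_repr (τ a)
    rw [Finsupp.linearCombination_apply, Finsupp.sum] at this
    rw [← this]
    refine Finset.sum_congr rfl fun j _ => ?_
    rw [Algebra.smul_def, halg, hb]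
  -- apply γ
  have h2 : γ (τ a) = ∑ j ∈ l.support, ((toBt τ (σ (l j))) ⊗ₜ[A] (τ (x j))) := by
    conv_lhs => rw [h1]
    rw [map_sum]
    refine Finset.sum_congr rfl fun j _ => ?_
    rw [map_mul, hγσ, hγτ, Algebra.TensorProduct.tmul_mul_tmul, mul_one, one_mul]
  have h3 : (1 : Bt τ) ⊗ₜ[A] (τ a) = ∑ j ∈ l.support, ((toBt τ (τ (l j))) ⊗ₜ[A] (τ (x j))) := by
    conv_lhs => rw [h1]
    rw [TensorProduct.tmul_sum]
    refine Finset.sum_congr rfl fun j _ => ?_
    have : σ (l j) * τ (x j) = (l j) • τ (x j) := by rw [Algebra.smul_def, halg]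
    rw [this, TensorProduct.tmul_smul, TensorProduct.smul_tmul']
    congr 1
    rw [Algebra.smul_def, mul_one, Bt_algebraMap]
  have h4 : ∑ j ∈ l.support,
      (toBt τ (σ (l j)) - toBt τ (τ (l j))) • (b.baseChange (Bt τ) j) = 0 := by
    have : ∀ j, (toBt τ (σ (l j)) - toBt τ (τ (l j))) • (b.baseChange (Bt τ) j) =
        ((toBt τ (σ (l j))) ⊗ₜ[A] (τ (x j))) - ((toBt τ (τ (l j))) ⊗ₜ[A] (τ (x j))) := by
      intro j
      rw [Module.Basis.baseChange_apply, TensorProduct.smul_tmul', smul_eq_mul, mul_one, hb,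
        TensorProduct.sub_tmul]
    simp only [this, Finset.sum_sub_distrib]
    rw [← h2, ← h3, hγτ, sub_self]
  by_cases hi : i ∈ l.support
  · have := linearIndependent_iff'.1 (b.baseChange (Bt τ)).linearIndependent _ _ h4 i hi
    exact sub_eq_zero.1 this
  · rw [Finsupp.notMem_support_iff.1 hi, map_zero, map_zero]

/-- The `x i` form a basis of `A` over the equalizer subring `C`, and `A ⊗_C A → B` is
bijective, provided the coefficients of `τ a` in the basis `τ (x i)` are invariant. -/
theorem basis_and_bijective [Algebra A B] (halg : algebraMap A B = σ) (ε : B →+* A)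
    (hεσ : ∀ a, ε (σ a) = a) (hετ : ∀ a, ε (τ a) = a)
    (b : Module.Basis I A B) (hb : ∀ i, b i = τ (x i))
    (hcoef : ∀ a i, σ (b.repr (τ a) i) = τ (b.repr (τ a) i)) :
    (∃ b' : Module.Basis I (RingHom.eqLocus σ τ) A, ∀ i, b' i = x i) ∧
    (∀ φ : (A ⊗[RingHom.eqLocus σ τ] A) →+ B,
      (∀ a a' : A, φ (a ⊗ₜ[RingHom.eqLocus σ τ] a') = τ a * σ a') → Function.Bijective φ) := by
  classical
  have hC : ∀ c : RingHom.eqLocus σ τ, σ c = τ c := fun c => c.2
  have hexp : ∀ m : B, m = ∑ j ∈ (b.repr m).support, σ (b.repr m j) * τ (x j) := by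
    intro m
    have := b.linearCombination_repr m
    rw [Finsupp.linearCombination_apply, Finsupp.sum] at this
    conv_lhs => rw [← this]
    refine Finset.sum_congr rfl fun j _ => ?_
    rw [Algebra.smul_def, halg, hb]
  have hexpA : ∀ a : A, a = ∑ j ∈ (b.repr (τ a)).support, (b.repr (τ a) j) * x j := by
    intro a
    have := congrArg ε (hexp (τ a))
    rw [hετ, map_sum] at this
    conv_lhs => rw [this]
    refine Finset.sum_congr rfl fun j _ => ?_
    rw [map_mul, hεσ, hετ]
  have hli : LinearIndependent (RingHom.eqLocus σ τ) x := by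
    rw [linearIndependent_iff']
    intro s g hg i hi
    have h1 : ∑ j ∈ s, (g j : A) • b j = 0 := by
      have := congrArg τ hg
      rw [map_sum, map_zero] at this
      rw [← this]
      refine Finset.sum_congr rfl fun j _ => ?_
      rw [Algebra.smul_def, halg, hb, hC, Subring.smul_def, smul_eq_mul, map_mul]
    have := linearIndependent_iff'.1 b.linearIndependent s (fun j => (g j : A)) h1 i hi
    exact Subtype.ext this
  have hsp : ⊤ ≤ Submodule.span (RingHom.eqLocus σ τ) (Set.range x) := by
    intro a _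
    rw [hexpA a]
    refine Submodule.sum_mem _ fun j _ => ?_
    have : (b.repr (τ a) j) * x j =
        (⟨b.repr (τ a) j, hcoef a j⟩ : RingHom.eqLocus σ τ) • x j := rfl
    rw [this]
    exact Submodule.smul_mem _ _ (Submodule.subset_span ⟨j, rfl⟩)
  refine ⟨⟨Module.Basis.mk hli hsp, fun i => Module.Basis.mk_apply hli hsp i⟩, ?_⟩
  intro φ hφ
  -- the additive map `l ↦ ∑ x i ⊗ l i`
  let ψ : (I →₀ A) →+ (A ⊗[RingHom.eqLocus σ τ] A) :=
    Finsupp.liftAddHom (fun i => (TensorProduct.mk (RingHom.eqLocus σ τ) A A (x i)).toAddMonoidHom)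
  have hψ : ∀ i a, ψ (Finsupp.single i a) = x i ⊗ₜ a := by
    intro i a
    simp [ψ]
  have hφψ : ∀ l, φ (ψ l) = Finsupp.linearCombination A b l := by
    intro l
    have : φ.comp ψ = (Finsupp.linearCombination A b).toAddMonoidHom := by
      apply Finsupp.addHom_ext
      intro i a
      simp only [AddMonoidHom.comp_apply, hψ, hφ, LinearMap.toAddMonoidHom_coe,
        Finsupp.linearCombination_single, Algebra.smul_def, halg, hb, mul_comm]
    exact DFunLike.congr_fun this l
  have hψsurj : Function.Surjective ψ := by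
    intro z
    induction z using TensorProduct.induction_on with
    | zero => exact ⟨0, map_zero _⟩
    | tmul a a' =>
      refine ⟨∑ j ∈ (b.repr (τ a)).support, Finsupp.single j ((b.repr (τ a) j) * a'), ?_⟩
      rw [map_sum]
      conv_rhs => rw [hexpA a, TensorProduct.sum_tmul]
      refine Finset.sum_congr rfl fun j _ => ?_
      rw [hψ]
      have : (b.repr (τ a) j) * x j =
          (⟨b.repr (τ a) j, hcoef a j⟩ : RingHom.eqLocus σ τ) • x j := rfl
      rw [this, TensorProduct.smul_tmul]
      rfl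
    | add z z' hz hz' =>
      obtain ⟨l, rfl⟩ := hz
      obtain ⟨l', rfl⟩ := hz'
      exact ⟨l + l', map_add _ _ _⟩
  constructor
  · rw [injective_iff_map_eq_zero]
    intro z hz
    obtain ⟨l, rfl⟩ := hψsurj z
    rw [hφψ] at hz
    rw [linearIndependent_iff.1 b.linearIndependent l hz, map_zero]
  · intro m
    refine ⟨ψ (b.repr m), ?_⟩
    rw [hφψ, b.linearCombination_repr]

end

end Groth.Agent.Lib.Helper10.GrpdInvBasis
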