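import Mathlib.AlgebraicGeometry.Sites.MorphismProperty
import Mathlib.AlgebraicGeometry.Restrict
import Mathlib.CategoryTheory.MorphismProperty.Local
import Groth.Agent.Lib.Helper10.GrpdPts

/-!
# Maximal opens over which a morphism to the objects of a groupoid scheme has a local property

If `P` is local on the target for the precoverage of `Q`-morphisms, `s` and `t` have `Q`, and the
base changes of `f : X ⟶ U` along `v ≫ s` and `v ≫ t` are isomorphic over `T` for all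
`v : T ⟶ R`, then the largest open `W ⊆ U` with `P (f ∣_ W)` is `R`-invariant.
-/

set_option autoImplicit false
universe u

namespace Groth.Agent.Lib.Helper10.GrpdMaxOpen

open CategoryTheory CategoryTheory.Limits AlgebraicGeometry Grpd MorphismProperty
open Groth.Agent.Lib.Helper10.GrpdPts

section general

variable {K : Precoverage Scheme.{u}} {P : MorphismProperty Scheme.{u}} [P.IsLocalAtTarget K]

lemma of_isPullback_singleton {X Y Y' X' : Scheme.{u}} {f : X ⟶ Y} {g : Y' ⟶ Y}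
    (hg : Presieve.singleton g ∈ K Y) {fst : X' ⟶ X} {snd : X' ⟶ Y'}
    (h : IsPullback fst snd f g) (hf : P f) : P snd := by
  have : HasPullback f g := h.hasPullback
  rw [← P.cancel_left_of_respectsIso h.isoPullback.inv, h.isoPullback_inv_snd]
  exact IsLocalAtTarget.pullbackSnd hg (Presieve.singleton.mk) hf

lemma of_singleton_isPullback {X Y Y' X' : Scheme.{u}} {f : X ⟶ Y} {g : Y' ⟶ Y}
    (hg : Presieve.singleton g ∈ K Y) {fst : X' ⟶ X} {snd : X' ⟶ Y'}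
    (h : IsPullback fst snd f g) (hsnd : P snd) : P f := by
  refine IsLocalAtTarget.of_forall_pullbackSnd hg ?_
  intro V g' _ hg'
  cases hg'
  rw [← h.isoPullback_inv_snd, P.cancel_left_of_respectsIso]
  exact hsnd

/-- The base change of `f ∣_ V` along `g : Y' ⟶ V` is the base change of `f` along `g ≫ V.ι`. -/
lemma restrict_square {X Y Y' : Scheme.{u}} (f : X ⟶ Y) (V : Y.Opens) (g : Y' ⟶ V)
    (g' : Y' ⟶ Y) (hg : g ≫ V.ι = g') :
    ∃ l : pullback f g' ⟶ f ⁻¹ᵁ V, IsPullback l (pullback.snd f g') (f ∣_ V) g := by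
  subst hg
  exact ⟨_, IsPullback.of_right' (IsPullback.of_hasPullback f (g ≫ V.ι))
    (isPullback_morphismRestrict f V).flip⟩

end general

variable {S : Scheme.{u}} (G : GroupoidScheme S)

theorem le_of_maximal (Q : MorphismProperty Scheme.{u}) [Q.IsStableUnderComposition]
    [Q.IsStableUnderBaseChange]
    (hQoi : ∀ {X Y : Scheme.{u}} (f : X ⟶ Y) [IsOpenImmersion f], Q f)
    (hQopen : ∀ {X Y : Scheme.{u}} (f : X ⟶ Y), Q f → IsOpenMap f)
    (P : MorphismProperty Scheme.{u}) [P.IsLocalAtTarget (Scheme.precoverage Q)]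
    (hs : Q G.s) (ht : Q G.t) {X : Scheme.{u}} (f : X ⟶ G.U)
    (H : ∀ {T : Scheme.{u}} (v : T ⟶ G.R), ∃ φ : pullback f (v ≫ G.s) ≅ pullback f (v ≫ G.t),
      φ.hom ≫ pullback.snd _ _ = pullback.snd _ _)
    (W : G.U.Opens) (hW : P (f ∣_ W)) (hmax : ∀ W' : G.U.Opens, P (f ∣_ W') → W' ≤ W) :
    G.s ⁻¹ᵁ W ≤ G.t ⁻¹ᵁ W := by
  set V' : G.R.Opens := G.s ⁻¹ᵁ W with hV'
  -- step (i)
  have hsW : Presieve.singleton (G.s ∣_ W) ∈ Scheme.precoverage Q W := by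
    rw [Scheme.singleton_mem_precoverage_iff]
    refine ⟨?_, Q.of_isPullback (isPullback_morphismRestrict G.s W).flip hs⟩
    intro w
    have hw : G.s (G.e w.1) = w.1 := by
      rw [← Scheme.Hom.comp_apply, G.e_s]; rfl
    refine ⟨⟨G.e w.1, ?_⟩, ?_⟩
    · change G.s (G.e w.1) ∈ W
      rw [hw]; exact w.2
    · apply Subtype.ext
      rw [morphismRestrict_base_coe]
      exact hw
  obtain ⟨l₁, hl₁⟩ := restrict_square f W (G.s ∣_ W) (V'.ι ≫ G.s) (morphismRestrict_ι G.s W)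
  have h1 : P (pullback.snd f (V'.ι ≫ G.s)) := of_isPullback_singleton hsW hl₁ hW
  -- step (ii)
  obtain ⟨φ, hφ⟩ := H V'.ι
  have h2 : P (pullback.snd f (V'.ι ≫ G.t)) := by
    rw [← P.cancel_left_of_respectsIso φ.hom, hφ]
    exact h1
  -- step (iii)
  let V : G.U.Opens := ⟨G.t '' (V' : Set G.R), hQopen G.t ht _ V'.2⟩
  have hrange : Set.range (V'.ι ≫ G.t) ⊆ Set.range V.ι := by
    rintro _ ⟨x, rfl⟩
    rw [Scheme.Opens.range_ι]
    exact ⟨x.1, x.2, rfl⟩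
  let τV : (V' : Scheme.{u}) ⟶ V := IsOpenImmersion.lift V.ι (V'.ι ≫ G.t) hrange
  have hτV : τV ≫ V.ι = V'.ι ≫ G.t := IsOpenImmersion.lift_fac _ _ _
  have hQτ : Q τV := by
    have sq : IsPullback (𝟙 (V' : Scheme.{u})) τV (V'.ι ≫ G.t) V.ι :=
      IsPullback.of_horiz_isIso_mono ⟨by rw [Category.id_comp, hτV]⟩
    exact Q.of_isPullback sq (Q.comp_mem _ _ (hQoi _) ht)
  have hτV' : Presieve.singleton τV ∈ Scheme.precoverage Q V := by
    rw [Scheme.singleton_mem_precoverage_iff]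
    refine ⟨?_, hQτ⟩
    rintro ⟨v, r, hr, rfl⟩
    refine ⟨⟨r, hr⟩, ?_⟩
    apply Subtype.ext
    have := congrArg (fun k => k.base ⟨r, hr⟩) hτV
    exact this
  obtain ⟨l₂, hl₂⟩ := restrict_square f V τV (V'.ι ≫ G.t) hτV
  have h3 : P (f ∣_ V) := of_singleton_isPullback hτV' hl₂ h2
  have hVW : V ≤ W := hmax V h3
  intro r hr
  exact hVW ⟨r, hr, rfl⟩

theorem eq_of_le (W : G.U.Opens) (h : G.s ⁻¹ᵁ W ≤ G.t ⁻¹ᵁ W) : G.s ⁻¹ᵁ W = G.t ⁻¹ᵁ W := by
  refine le_antisymm h ?_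
  intro r hr
  have h1 : G.s (G.i r) = G.t r := by rw [← Scheme.Hom.comp_apply, G.i_s]
  have h2 : G.t (G.i r) = G.s r := by rw [← Scheme.Hom.comp_apply, G.i_t]
  have : G.i r ∈ G.s ⁻¹ᵁ W := by
    change G.s (G.i r) ∈ W
    rw [h1]; exact hr
  have := h this
  change G.t (G.i r) ∈ W at this
  rw [h2] at this
  exact this

/-- Right translation: the base changes of `s` along `v ≫ s` and `v ≫ t` are isomorphic. -/
theorem exists_transIso {T : Scheme.{u}} (v : T ⟶ G.R) :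
    ∃ φ : pullback G.s (v ≫ G.s) ≅ pullback G.s (v ≫ G.t),
      φ.hom ≫ pullback.snd _ _ = pullback.snd _ _ := by
  set α := pullback.fst G.s (v ≫ G.s) with hα
  set ρa := pullback.snd G.s (v ≫ G.s) ≫ v with hρa
  have ca : α ≫ G.s = ρa ≫ G.s := by
    rw [hα, hρa, Category.assoc, pullback.condition]
  have ca' : α ≫ G.s = (ρa ≫ G.i) ≫ G.t := by rw [Category.assoc, G.i_t, ca]
  let fwd : pullback G.s (v ≫ G.s) ⟶ pullback G.s (v ≫ G.t) :=
    pullback.lift (pc G α (ρa ≫ G.i) ca') (pullback.snd G.s (v ≫ G.s))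
      (by rw [pc_s, Category.assoc, G.i_s, hρa, Category.assoc])
  set α' := pullback.fst G.s (v ≫ G.t) with hα'
  set ρb := pullback.snd G.s (v ≫ G.t) ≫ v with hρb
  have cb : α' ≫ G.s = ρb ≫ G.t := by
    rw [hα', hρb, Category.assoc, pullback.condition]
  let bwd : pullback G.s (v ≫ G.t) ⟶ pullback G.s (v ≫ G.s) :=
    pullback.lift (pc G α' ρb cb) (pullback.snd G.s (v ≫ G.t))
      (by rw [pc_s, hρb, Category.assoc])
  have hf1 : fwd ≫ α' = pc G α (ρa ≫ G.i) ca' := pullback.lift_fst _ _ _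
  have hf2 : fwd ≫ pullback.snd G.s (v ≫ G.t) = pullback.snd G.s (v ≫ G.s) :=
    pullback.lift_snd _ _ _
  have hb1 : bwd ≫ α = pc G α' ρb cb := pullback.lift_fst _ _ _
  have hb2 : bwd ≫ pullback.snd G.s (v ≫ G.s) = pullback.snd G.s (v ≫ G.t) :=
    pullback.lift_snd _ _ _
  refine ⟨⟨fwd, bwd, ?_, ?_⟩, hf2⟩
  · apply pullback.hom_ext
    · rw [Category.assoc, hb1, Category.id_comp, precomp_pc]
      have e2 : fwd ≫ ρb = ρa := by rw [hρb, ← Category.assoc, hf2]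
      rw [pc_congr _ hf1 e2]
      exact pc_i_pc α ρa ca
    · rw [Category.assoc, hb2, hf2, Category.id_comp]
  · apply pullback.hom_ext
    · rw [Category.assoc, hf1, Category.id_comp, precomp_pc]
      have e2 : bwd ≫ ρa ≫ G.i = ρb ≫ G.i := by
        rw [hρa, ← Category.assoc, ← Category.assoc, hb2]
      rw [pc_congr _ hb1 e2]
      exact pc_pc_i α' ρb cb
    · rw [Category.assoc, hf2, hb2, Category.id_comp]

/-- Conjugate of `γ` (with `s γ = t γ = s ρ`) by `ρ`: `ρ ∘ γ ∘ ρ⁻¹`. -/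
noncomputable def conj {T : Scheme.{u}} (ρ γ : T ⟶ G.R) (hs : γ ≫ G.s = ρ ≫ G.s)
    (ht : γ ≫ G.t = ρ ≫ G.s) : T ⟶ G.R :=
  pc G (pc G ρ γ ht.symm) (ρ ≫ G.i) (by rw [pc_s, hs, Category.assoc, G.i_t])

/-- Inverse conjugate of `γ` (with `s γ = t γ = t ρ`) by `ρ`: `ρ⁻¹ ∘ γ ∘ ρ`. -/
noncomputable def conj' {T : Scheme.{u}} (ρ γ : T ⟶ G.R) (hs : γ ≫ G.s = ρ ≫ G.t)
    (ht : γ ≫ G.t = ρ ≫ G.t) : T ⟶ G.R :=
  pc G (pc G (ρ ≫ G.i) γ (by rw [Category.assoc, G.i_s, ht])) ρ (by rw [pc_s, hs])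

variable {G}

lemma conj_s {T : Scheme.{u}} (ρ γ : T ⟶ G.R) (hs : γ ≫ G.s = ρ ≫ G.s)
    (ht : γ ≫ G.t = ρ ≫ G.s) : conj G ρ γ hs ht ≫ G.s = ρ ≫ G.t := by
  unfold conj; rw [pc_s, Category.assoc, G.i_s]

lemma conj_t {T : Scheme.{u}} (ρ γ : T ⟶ G.R) (hs : γ ≫ G.s = ρ ≫ G.s)
    (ht : γ ≫ G.t = ρ ≫ G.s) : conj G ρ γ hs ht ≫ G.t = ρ ≫ G.t := by
  unfold conj; rw [pc_t, pc_t]

lemma conj'_s {T : Scheme.{u}} (ρ γ : T ⟶ G.R) (hs : γ ≫ G.s = ρ ≫ G.t)
    (ht : γ ≫ G.t = ρ ≫ G.t) : conj' G ρ γ hs ht ≫ G.s = ρ ≫ G.s := by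
  unfold conj'; rw [pc_s]

lemma conj'_t {T : Scheme.{u}} (ρ γ : T ⟶ G.R) (hs : γ ≫ G.s = ρ ≫ G.t)
    (ht : γ ≫ G.t = ρ ≫ G.t) : conj' G ρ γ hs ht ≫ G.t = ρ ≫ G.s := by
  unfold conj'; rw [pc_t, pc_t, Category.assoc, G.i_t]

lemma conj_congr {T : Scheme.{u}} {ρ ρ' γ γ' : T ⟶ G.R} (hs : γ ≫ G.s = ρ ≫ G.s)
    (ht : γ ≫ G.t = ρ ≫ G.s) (hρ : ρ = ρ') (hγ : γ = γ') :
    conj G ρ γ hs ht = conj G ρ' γ' (by subst hρ hγ; exact hs) (by subst hρ hγ; exact ht) := by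
  subst hρ hγ; rfl

lemma conj'_congr {T : Scheme.{u}} {ρ ρ' γ γ' : T ⟶ G.R} (hs : γ ≫ G.s = ρ ≫ G.t)
    (ht : γ ≫ G.t = ρ ≫ G.t) (hρ : ρ = ρ') (hγ : γ = γ') :
    conj' G ρ γ hs ht = conj' G ρ' γ' (by subst hρ hγ; exact hs) (by subst hρ hγ; exact ht) := by
  subst hρ hγ; rfl

lemma precomp_conj {T T' : Scheme.{u}} (f : T' ⟶ T) (ρ γ : T ⟶ G.R) (hs : γ ≫ G.s = ρ ≫ G.s)
    (ht : γ ≫ G.t = ρ ≫ G.s) :
    f ≫ conj G ρ γ hs ht = conj G (f ≫ ρ) (f ≫ γ)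
      (by rw [Category.assoc, Category.assoc, hs]) (by rw [Category.assoc, Category.assoc, ht]) := by
  unfold conj
  rw [precomp_pc]
  exact pc_congr _ (precomp_pc _ _ _ _) (Category.assoc _ _ _).symm

lemma precomp_conj' {T T' : Scheme.{u}} (f : T' ⟶ T) (ρ γ : T ⟶ G.R) (hs : γ ≫ G.s = ρ ≫ G.t)
    (ht : γ ≫ G.t = ρ ≫ G.t) :
    f ≫ conj' G ρ γ hs ht = conj' G (f ≫ ρ) (f ≫ γ)
      (by rw [Category.assoc, Category.assoc, hs]) (by rw [Category.assoc, Category.assoc, ht]) := by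
  unfold conj'
  rw [precomp_pc]
  refine pc_congr _ ?_ rfl
  rw [precomp_pc]
  exact pc_congr _ (Category.assoc _ _ _).symm rfl

lemma conj'_conj {T : Scheme.{u}} (ρ γ : T ⟶ G.R) (hs : γ ≫ G.s = ρ ≫ G.s)
    (ht : γ ≫ G.t = ρ ≫ G.s) :
    conj' G ρ (conj G ρ γ hs ht) (conj_s ρ γ hs ht) (conj_t ρ γ hs ht) = γ := by
  unfold conj' conj
  have e1 : pc G (ρ ≫ G.i) (pc G (pc G ρ γ ht.symm) (ρ ≫ G.i)
      (by rw [pc_s, hs, Category.assoc, G.i_t]))
      (by rw [pc_t, pc_t, Category.assoc, G.i_s]) = pc G γ (ρ ≫ G.i)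
        (by rw [hs, Category.assoc, G.i_t]) := by
    rw [← pc_assoc (ρ ≫ G.i) (pc G ρ γ ht.symm) (ρ ≫ G.i)
      (by rw [pc_t, Category.assoc, G.i_s]) (by rw [pc_s, hs, Category.assoc, G.i_t])]
    exact pc_congr _ (i_pc_pc ρ γ ht.symm) rfl
  rw [pc_congr _ e1 rfl]
  exact pc_i_pc γ ρ hs

lemma conj_conj' {T : Scheme.{u}} (ρ γ : T ⟶ G.R) (hs : γ ≫ G.s = ρ ≫ G.t)
    (ht : γ ≫ G.t = ρ ≫ G.t) :
    conj G ρ (conj' G ρ γ hs ht) (conj'_s ρ γ hs ht) (conj'_t ρ γ hs ht) = γ := by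
  unfold conj conj'
  have e1 : pc G ρ (pc G (pc G (ρ ≫ G.i) γ (by rw [Category.assoc, G.i_s, ht])) ρ
      (by rw [pc_s, hs]))
      (by rw [pc_t, pc_t, Category.assoc, G.i_t]) = pc G γ ρ hs := by
    rw [← pc_assoc ρ (pc G (ρ ≫ G.i) γ (by rw [Category.assoc, G.i_s, ht])) ρ
      (by rw [pc_t, Category.assoc, G.i_t]) (by rw [pc_s, hs])]
    exact pc_congr _ (pc_i_pc' ρ γ ht.symm) rfl
  rw [pc_congr _ e1 rfl]
  exact pc_pc_i γ ρ hs

variable (G) in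
/-- Conjugation: the base changes of the stabilizer along `v ≫ s` and `v ≫ t` are isomorphic. -/
theorem exists_conjIso {T : Scheme.{u}} (v : T ⟶ G.R) :
    ∃ φ : pullback G.stabilizerToU (v ≫ G.s) ≅ pullback G.stabilizerToU (v ≫ G.t),
      φ.hom ≫ pullback.snd _ _ = pullback.snd _ _ := by
  set γa := pullback.fst G.stabilizerToU (v ≫ G.s) ≫ stabFst G with hγa
  set ρa := pullback.snd G.stabilizerToU (v ≫ G.s) ≫ v with hρa
  have cas : γa ≫ G.s = ρa ≫ G.s := by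
    rw [hγa, hρa, Category.assoc, stabFst_s, pullback.condition, Category.assoc]
  have cat : γa ≫ G.t = ρa ≫ G.s := by
    rw [hγa, hρa, Category.assoc, stabFst_t, pullback.condition, Category.assoc]
  let fwd : pullback G.stabilizerToU (v ≫ G.s) ⟶ pullback G.stabilizerToU (v ≫ G.t) :=
    pullback.lift (stabLift (conj G ρa γa cas cat) (ρa ≫ G.t) (conj_s _ _ _ _) (conj_t _ _ _ _))
      (pullback.snd G.stabilizerToU (v ≫ G.s))
      (by rw [stabLift_toU, hρa, Category.assoc])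
  set γb := pullback.fst G.stabilizerToU (v ≫ G.t) ≫ stabFst G with hγb
  set ρb := pullback.snd G.stabilizerToU (v ≫ G.t) ≫ v with hρb
  have cbs : γb ≫ G.s = ρb ≫ G.t := by
    rw [hγb, hρb, Category.assoc, stabFst_s, pullback.condition, Category.assoc]
  have cbt : γb ≫ G.t = ρb ≫ G.t := by
    rw [hγb, hρb, Category.assoc, stabFst_t, pullback.condition, Category.assoc]
  let bwd : pullback G.stabilizerToU (v ≫ G.t) ⟶ pullback G.stabilizerToU (v ≫ G.s) :=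
    pullback.lift (stabLift (conj' G ρb γb cbs cbt) (ρb ≫ G.s) (conj'_s _ _ _ _) (conj'_t _ _ _ _))
      (pullback.snd G.stabilizerToU (v ≫ G.t))
      (by rw [stabLift_toU, hρb, Category.assoc])
  have hf1 : fwd ≫ γb = conj G ρa γa cas cat := by
    rw [hγb, ← Category.assoc, pullback.lift_fst, stabLift_fst]
  have hf2 : fwd ≫ pullback.snd G.stabilizerToU (v ≫ G.t) =
      pullback.snd G.stabilizerToU (v ≫ G.s) := pullback.lift_snd _ _ _
  have hb1 : bwd ≫ γa = conj' G ρb γb cbs cbt := by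
    rw [hγa, ← Category.assoc, pullback.lift_fst, stabLift_fst]
  have hb2 : bwd ≫ pullback.snd G.stabilizerToU (v ≫ G.s) =
      pullback.snd G.stabilizerToU (v ≫ G.t) := pullback.lift_snd _ _ _
  have hfρ : fwd ≫ ρb = ρa := by rw [hρb, ← Category.assoc, hf2]
  have hbρ : bwd ≫ ρa = ρb := by rw [hρa, ← Category.assoc, hb2]
  refine ⟨⟨fwd, bwd, ?_, ?_⟩, hf2⟩
  · apply pullback.hom_ext
    · apply stab_hom_ext
      rw [Category.id_comp, Category.assoc, Category.assoc]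
      change fwd ≫ bwd ≫ γa = γa
      rw [hb1, precomp_conj', conj'_congr _ _ hfρ hf1]
      exact conj'_conj ρa γa cas cat
    · rw [Category.assoc, hb2, hf2, Category.id_comp]
  · apply pullback.hom_ext
    · apply stab_hom_ext
      rw [Category.id_comp, Category.assoc, Category.assoc]
      change bwd ≫ fwd ≫ γb = γb
      rw [hf1, precomp_conj, conj_congr _ _ hbρ hb1]
      exact conj_conj' ρb γb cbs cbt
    · rw [Category.assoc, hf2, hb2, Category.id_comp]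

end Groth.Agent.Lib.Helper10.GrpdMaxOpen
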