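import Mathlib.AlgebraicGeometry.Sites.Etale
import Mathlib.AlgebraicGeometry.Sites.Fpqc
import Mathlib.AlgebraicGeometry.Morphisms.Smooth
import Mathlib.AlgebraicGeometry.Morphisms.UniversallyOpen
import Groth.Agent.Lib.Helper10.GrpdMaxOpen

set_option autoImplicit false
universe u

namespace Groth.Agent.Lib.Helper10.GrpdMaxOpen

open CategoryTheory CategoryTheory.Limits AlgebraicGeometry Grpd MorphismProperty
open Groth.Agent.Lib.Helper10.GrpdPts

variable {S : Scheme.{u}} (G : GroupoidScheme S)

set_option backward.isDefEq.respectTransparency.types false in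
theorem eq_of_maximal (K : Precoverage Scheme.{u})
    (hK : K = Scheme.zariskiPrecoverage ∨ K = Scheme.etalePrecoverage ∨
      K = Scheme.precoverage @Smooth ∨ K = Scheme.fppfPrecoverage)
    (P : MorphismProperty Scheme.{u}) [P.IsLocalAtTarget K]
    (hs : Presieve.singleton G.s ∈ K G.U) (ht : Presieve.singleton G.t ∈ K G.U)
    {X : Scheme.{u}} (f : X ⟶ G.U)
    (H : ∀ {T : Scheme.{u}} (v : T ⟶ G.R), ∃ φ : pullback f (v ≫ G.s) ≅ pullback f (v ≫ G.t),
      φ.hom ≫ pullback.snd _ _ = pullback.snd _ _)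
    (W : G.U.Opens) (hW : P (f ∣_ W)) (hmax : ∀ W' : G.U.Opens, P (f ∣_ W') → W' ≤ W) :
    G.s ⁻¹ᵁ W = G.t ⁻¹ᵁ W := by
  apply eq_of_le
  rcases hK with rfl | rfl | rfl | rfl
  · have hs' := (Scheme.singleton_mem_precoverage_iff (P := @IsOpenImmersion) G.s).1 hs
    have ht' := (Scheme.singleton_mem_precoverage_iff (P := @IsOpenImmersion) G.t).1 ht
    exact le_of_maximal G @IsOpenImmersion (fun f _ => inferInstance)
      (fun f hf => (Scheme.Hom.isOpenEmbedding f).isOpenMap) P hs'.2 ht'.2 f H W hW hmax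
  · have hs' := (Scheme.singleton_mem_precoverage_iff (P := @Etale) G.s).1 hs
    have ht' := (Scheme.singleton_mem_precoverage_iff (P := @Etale) G.t).1 ht
    have : P.IsLocalAtTarget (Scheme.precoverage @Etale) := ‹_›
    exact le_of_maximal G @Etale (fun f _ => inferInstance)
      (fun f hf => Scheme.Hom.isOpenMap f) P hs'.2 ht'.2 f H W hW hmax
  · have hs' := (Scheme.singleton_mem_precoverage_iff (P := @Smooth) G.s).1 hs
    have ht' := (Scheme.singleton_mem_precoverage_iff (P := @Smooth) G.t).1 ht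
    exact le_of_maximal G @Smooth (fun f _ => inferInstance)
      (fun f hf => Scheme.Hom.isOpenMap f) P hs'.2 ht'.2 f H W hW hmax
  · have hs' := (Scheme.singleton_mem_precoverage_iff
      (P := @Flat ⊓ @LocallyOfFinitePresentation) G.s).1 hs
    have ht' := (Scheme.singleton_mem_precoverage_iff
      (P := @Flat ⊓ @LocallyOfFinitePresentation) G.t).1 ht
    have : P.IsLocalAtTarget (Scheme.precoverage (@Flat ⊓ @LocallyOfFinitePresentation)) := ‹_›
    exact le_of_maximal G (@Flat ⊓ @LocallyOfFinitePresentation)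
      (fun f _ => ⟨inferInstance, inferInstance⟩)
      (fun f hf => by
        have : Flat f := hf.1
        have : LocallyOfFinitePresentation f := hf.2
        exact Scheme.Hom.isOpenMap f) P hs'.2 ht'.2 f H W hW hmax

end Groth.Agent.Lib.Helper10.GrpdMaxOpen
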