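import Mathlib
import Groth.Prelude.Def_Coh
import Groth.Agent.Lib.Helper29.Twist6

/-!
# `dim_k H^0(X, O_X) = 1` means `O(X) = k`
-/

set_option autoImplicit false
set_option backward.isDefEq.respectTransparency.types false
set_option maxHeartbeats 4000000
set_option synthInstance.maxHeartbeats 400000
universe u
open CategoryTheory CategoryTheory.Limits AlgebraicGeometry

namespace Groth.Agent.Lib.Helper10.HH0Const

open Groth.Agent.Lib.Helper29.QCoh

theorem bijective_of_finrank_hh0 (k : Type u) [Field k] (X : Scheme.{u})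
    [X.Over (Spec (CommRingCat.of k))] [Nonempty X]
    (h0 : Module.finrank k (Coh.HH X (Coh.structureModule X) 0) = 1) :
    Function.Bijective ((Scheme.ΓSpecIso (CommRingCat.of k)).inv ≫
      (X ↘ Spec (CommRingCat.of k)).appTop).hom := by
  haveI : Nontrivial ↑Γ(X, ⊤) := by
    by_contra hn
    rw [not_nontrivial_iff_subsingleton] at hn
    obtain ⟨x₀⟩ : Nonempty X := inferInstance
    have hx : x₀ ∈ X.basicOpen (1 : Γ(X, ⊤)) := by
      rw [X.basicOpen_of_isUnit isUnit_one]; trivial
    rw [Subsingleton.elim (1 : Γ(X, ⊤)) 0, Scheme.basicOpen_zero] at hx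
    exact hx
  constructor
  · exact RingHom.injective _
  · let e := hh0 (Coh.structureModule X)
    let one' : (Γ(Coh.structureModule X, ⊤) : Type u) := (1 : Γ(X, ⊤))
    let v : Coh.HH X (Coh.structureModule X) 0 := e.symm one'
    have hv : v ≠ 0 := by
      intro h
      have : e v = 0 := by rw [h, map_zero]
      rw [AddEquiv.apply_symm_apply] at this
      exact one_ne_zero (α := Γ(X, ⊤)) this
    have key := (finrank_eq_one_iff_of_nonzero' v hv).mp h0
    intro s
    let s' : (Γ(Coh.structureModule X, ⊤) : Type u) := s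
    obtain ⟨c, hc⟩ := key (e.symm s')
    refine ⟨c, ?_⟩
    have h1 : e (c • v) = s' := by rw [hc, AddEquiv.apply_symm_apply]
    have h2 : c • v = (Coh.toGlobal (X ↘ Spec (CommRingCat.of k)) c) • v := rfl
    rw [h2, hh0_smul, AddEquiv.apply_symm_apply] at h1
    have h3 : (show Γ(X, ⊤) from Coh.toGlobal (X ↘ Spec (CommRingCat.of k)) c) • one' =
        (show Γ(X, ⊤) from Coh.toGlobal (X ↘ Spec (CommRingCat.of k)) c) * (1 : Γ(X, ⊤)) := rfl
    rw [h3, mul_one] at h1
    exact h1

end Groth.Agent.Lib.Helper10.HH0Const
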