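import Groth.Agent.Lib.Helper10.Hartogs
import Groth.Agent.Lib.Helper16.FinDimLe2

/-!
# Converse of Hartogs' theorem (helper10)

`F` quasi-coherent of finite type on a locally Noetherian scheme, `U` open.  If for every affine open
`W` the restriction `Γ(W, F) → Γ(W ∩ U, F)` is bijective, then `depth F_x ≥ 2` for all `x ∉ U`.
-/

set_option autoImplicit false
set_option linter.unusedSectionVars false
open CategoryTheory CategoryTheory.Limits AlgebraicGeometry Opposite
universe u

namespace Groth.Agent.Lib.Helper10.HartogsConv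

open Groth.Agent.Lib.Helper29.QCoh TopologicalSpace Groth.Agent.Lib.Helper10.Hartogs
open Groth.Agent.Lib.Helper16.Depth Groth.Agent.Lib.Helper16.LC Groth.Agent.Lib.Helper18.QGor
open Pointwise RingTheory.Sequence

variable {X : Scheme.{u}}

/-- The ideal of functions on `W` whose non-vanishing locus lies in `T`. -/
def nonvanIdeal (W T : X.Opens) : Ideal Γ(X, W) where
  carrier := {a | X.basicOpen a ≤ T}
  add_mem' := by
    intro a b ha hb
    exact (X.basicOpen_add_le a b).trans (sup_le ha hb)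
  zero_mem' := by
    show X.basicOpen (0 : Γ(X, W)) ≤ T
    rw [X.basicOpen_zero]; exact bot_le
  smul_mem' := by
    intro c a ha
    show X.basicOpen (c • a) ≤ T
    rw [smul_eq_mul, X.basicOpen_mul]
    exact inf_le_right.trans ha

theorem mem_nonvanIdeal {W T : X.Opens} (a : Γ(X, W)) :
    a ∈ nonvanIdeal W T ↔ X.basicOpen a ≤ T := Iff.rfl

variable (F : X.Modules)

/-- `c` acts injectively on sections over opens inside `D(c)`. -/
theorem eq_zero_of_rsmul_eq_zero_of_le_basicOpen {W V : X.Opens} (hV : V ≤ W) (c : Γ(X, W))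
    (hVc : V ≤ X.basicOpen c) (t : Γ(F, V)) (h : rsmul F hV c t = 0) : t = 0 := by
  have hs : IsUnit (X.presheaf.map (homOfLE (X.basicOpen_le c)).op c) :=
    RingedSpace.isUnit_res_basicOpen _ c
  have hs' : IsUnit (X.presheaf.map (homOfLE hV).op c) := by
    rw [← map_map_apply X (X.basicOpen_le c) hVc c]
    exact hs.map _
  exact (hs'.smul_eq_zero).mp h

theorem eq_of_rsmul_eq_of_le_basicOpen {W V : X.Opens} (hV : V ≤ W) (c : Γ(X, W))
    (hVc : V ≤ X.basicOpen c) (t t' : Γ(F, V)) (h : rsmul F hV c t = rsmul F hV c t') : t = t' := by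
  rw [← sub_eq_zero]
  apply eq_zero_of_rsmul_eq_zero_of_le_basicOpen F hV c hVc
  rw [rsmul_sub, h, sub_self]

theorem rsmul_comm {W V : X.Opens} (hV : V ≤ W) (a b : Γ(X, W)) (t : Γ(F, V)) :
    rsmul F hV a (rsmul F hV b t) = rsmul F hV b (rsmul F hV a t) := by
  rw [← rsmul_mul, ← rsmul_mul, mul_comm]

/-- existence of `u⁻¹ n` on `D(a)` -/
theorem exists_div {W : X.Opens} (a : Γ(X, W)) (n : Γ(F, W)) :
    ∃ s : Γ(F, X.basicOpen a), rsmul F (X.basicOpen_le a) a s = res F (X.basicOpen_le a) n := by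
  have hs : IsUnit (X.presheaf.map (homOfLE (X.basicOpen_le a)).op a) :=
    RingedSpace.isUnit_res_basicOpen _ a
  refine ⟨(hs.unit⁻¹ : (Γ(X, X.basicOpen a))ˣ) • res F (X.basicOpen_le a) n, ?_⟩
  unfold rsmul
  rw [Units.smul_def, smul_smul, IsUnit.mul_val_inv, one_smul]

variable {U : X.Opens}

/-- The section `m / x` over `W ∩ U` when `J m ⊆ x Γ(W, F)` and `x` is regular. -/
theorem exists_sec_of_colon {W : X.Opens} (hW : IsAffineOpen W) {x : Γ(X, W)}
    (hx : IsSMulRegular Γ(F, W) x) (m : Γ(F, W))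
    (hJ : ∀ a ∈ nonvanIdeal W (W ⊓ U), ∃ n : Γ(F, W), a • m = x • n) :
    ∃ σ : Γ(F, W ⊓ U), rsmul F (inf_le_left : W ⊓ U ≤ W) x σ =
      res F (inf_le_left : W ⊓ U ≤ W) m := by
  classical
  let J := nonvanIdeal W (W ⊓ U)
  choose n hn using fun a : J => hJ a.1 a.2
  have hcompat : ∀ a b : J, a.1 • n b = b.1 • n a := by
    intro a b
    apply hx
    change x • (a.1 • n b) = x • (b.1 • n a)
    rw [smul_comm x, ← hn b, smul_comm x, ← hn a, smul_comm]
  choose sf hsf using fun a : J => exists_div F a.1 (n a)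
  have hVU : ∀ a : J, X.basicOpen a.1 ≤ W ⊓ U := fun a => a.2
  have hcover : W ⊓ U ≤ iSup fun a : J => X.basicOpen a.1 := by
    intro y hy
    obtain ⟨c, hcT, hyc⟩ := hW.exists_basicOpen_le (V := W ⊓ U) ⟨y, hy⟩ hy.1
    exact Opens.mem_iSup.mpr ⟨⟨c, hcT⟩, hyc⟩
  have hglue : ∀ a b : J,
      res F (inf_le_left : X.basicOpen a.1 ⊓ X.basicOpen b.1 ≤ X.basicOpen a.1) (sf a) =
      res F (inf_le_right : X.basicOpen a.1 ⊓ X.basicOpen b.1 ≤ X.basicOpen b.1) (sf b) := by
    intro a b
    have hle : X.basicOpen a.1 ⊓ X.basicOpen b.1 ≤ W := inf_le_left.trans (X.basicOpen_le a.1)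
    apply eq_of_rsmul_eq_of_le_basicOpen F hle (a.1 * b.1) (by rw [X.basicOpen_mul])
    have e1 : rsmul F hle (a.1 * b.1) (res F inf_le_left (sf a)) = res F hle (b.1 • n a) := by
      rw [mul_comm, rsmul_mul, ← rsmul_res F (X.basicOpen_le a.1) inf_le_left, hsf a, res_res,
        rsmul_eq_smul_res]
    have e2 : rsmul F hle (a.1 * b.1) (res F inf_le_right (sf b)) = res F hle (a.1 • n b) := by
      rw [rsmul_mul, ← rsmul_res F (X.basicOpen_le b.1) inf_le_right, hsf b, res_res,
        rsmul_eq_smul_res]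
    rw [e1, e2, hcompat a b]
  obtain ⟨σ, hσ⟩ := exists_gluing F (fun a : J => X.basicOpen a.1) (W ⊓ U) hVU hcover sf hglue
  refine ⟨σ, ?_⟩
  rw [← sub_eq_zero]
  refine eq_zero_of_res_cover_eq_zero F (fun a : J => X.basicOpen a.1) hVU hcover _ ?_
  intro a
  rw [map_sub, sub_eq_zero, rsmul_res, hσ a, res_res]
  apply eq_of_rsmul_eq_of_le_basicOpen F (X.basicOpen_le a.1) a.1 le_rfl
  rw [rsmul_comm, hsf a, rsmul_eq_smul_res, rsmul_eq_smul_res, hn a]

variable [IsLocallyNoetherian X]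

/-- Injectivity of restriction implies no associated prime contains the ideal of `W ∖ U`. -/
theorem not_le_of_mem_associatedPrimes [F.IsQuasicoherent] {W : X.Opens} (hW : IsAffineOpen W)
    (hinj : Function.Injective (res F (inf_le_left : W ⊓ U ≤ W)))
    (p : Ideal Γ(X, W)) (hp : p ∈ associatedPrimes Γ(X, W) Γ(F, W)) :
    ¬ nonvanIdeal W (W ⊓ U) ≤ p := by
  have : IsNoetherianRing Γ(X, W) := IsLocallyNoetherian.component_noetherian ⟨W, hW⟩
  intro hJp
  obtain ⟨hpp, m, rfl⟩ := (isAssociatedPrime_iff).mp hp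
  have hm : m = 0 := by
    apply hinj
    rw [map_zero]
    refine eq_zero_of_res_basicOpen_eq_zero F hW inf_le_left _ fun c hc => ?_
    have hcm : c • m = 0 := by
      have := hJp ((mem_nonvanIdeal c).mpr hc)
      rwa [Submodule.mem_colon_singleton, Submodule.mem_bot] at this
    rw [res_res]
    apply eq_zero_of_rsmul_eq_zero_of_le_basicOpen F (X.basicOpen_le c) c le_rfl
    rw [rsmul_eq_smul_res, hcm, map_zero]
  apply hpp.ne_top
  rw [hm, Ideal.eq_top_iff_one, Submodule.mem_colon_singleton, smul_zero]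
  exact Submodule.zero_mem _

/-- Bijectivity of restriction on an affine open gives ideal depth at least two. -/
theorem two_le_idealDepth_of_bijective [F.IsQuasicoherent] [F.IsFiniteType]
    {W : X.Opens} (hW : IsAffineOpen W)
    (h : Function.Bijective (res F (inf_le_left : W ⊓ U ≤ W))) :
    (2 : ℕ∞) ≤ LocCoh.idealDepth (nonvanIdeal W (W ⊓ U)) Γ(F, W) := by
  have : IsNoetherianRing Γ(X, W) := IsLocallyNoetherian.component_noetherian ⟨W, hW⟩
  have : Module.Finite Γ(X, W) Γ(F, W) := module_finite_of_isFiniteType F hW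
  obtain ⟨x, hxJ, hx⟩ := exists_mem_isSMulRegular_of_forall_not_le (nonvanIdeal W (W ⊓ U)) Γ(F, W)
    (not_le_of_mem_associatedPrimes F hW h.1)
  have hass : ∀ Q ∈ associatedPrimes Γ(X, W) (QuotSMulTop x Γ(F, W)),
      ¬ nonvanIdeal W (W ⊓ U) ≤ Q := by
    intro Q hQ hJQ
    obtain ⟨hQp, mbar, rfl⟩ := (isAssociatedPrime_iff).mp hQ
    obtain ⟨m, rfl⟩ := Submodule.Quotient.mk_surjective _ mbar
    have hJm : ∀ a ∈ nonvanIdeal W (W ⊓ U), ∃ n : Γ(F, W), a • m = x • n := by
      intro a ha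
      have := hJQ ha
      rw [Submodule.mem_colon_singleton, Submodule.mem_bot, ← Submodule.Quotient.mk_smul,
        Submodule.Quotient.mk_eq_zero] at this
      obtain ⟨n, -, hn⟩ := (Submodule.mem_smul_pointwise_iff_exists _ _ _).mp this
      exact ⟨n, hn.symm⟩
    obtain ⟨σ, hσ⟩ := exists_sec_of_colon F hW hx m hJm
    obtain ⟨m', rfl⟩ := h.2 σ
    have hmm : x • m' = m := h.1 (by rw [← rsmul_eq_smul_res, hσ])
    apply hQp.ne_top
    rw [Ideal.eq_top_iff_one, Submodule.mem_colon_singleton, one_smul, Submodule.mem_bot,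
      Submodule.Quotient.mk_eq_zero, ← hmm]
    exact Submodule.smul_mem_pointwise_smul _ _ _ Submodule.mem_top
  obtain ⟨y, hyJ, hy⟩ := exists_mem_isSMulRegular_of_forall_not_le (nonvanIdeal W (W ⊓ U))
    (QuotSMulTop x Γ(F, W)) hass
  have := (le_idealDepth_iff (nonvanIdeal W (W ⊓ U)) Γ(F, W) 2).mpr
    (Or.inr (HasRegSeq.cons hxJ hx (HasRegSeq.cons hyJ hy HasRegSeq.zero)))
  simpa using this

/-- **Converse of Hartogs**: bijective restrictions on affine opens force depth at least two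
off `U`. -/
theorem two_le_depth_of_bijective [F.IsQuasicoherent] [F.IsFiniteType]
    (h : ∀ W : X.Opens, IsAffineOpen W → Function.Bijective (res F (inf_le_left : W ⊓ U ≤ W)))
    (x : X) (hx : x ∉ U) :
    (2 : ℕ∞) ≤ LocCoh.depth (X.presheaf.stalk x) (F.presheaf.stalk x) := by
  obtain ⟨_, ⟨W, hW, rfl⟩, hxW, -⟩ := X.isBasis_affineOpens.exists_subset_of_mem_open
    (Set.mem_univ x) isOpen_univ
  have : IsNoetherianRing Γ(X, W) := IsLocallyNoetherian.component_noetherian ⟨W, hW⟩
  have : Module.Finite Γ(X, W) Γ(F, W) := module_finite_of_isFiniteType F hW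
  rw [depth_stalk_eq_depth_localized F hW x hxW]
  have h2 := two_le_idealDepth_of_bijective F hW (h W hW)
  refine h2.trans (idealDepth_le_depth_localizedModule_of_le _ _ _ ?_)
  intro a ha
  by_contra hne
  have hxa : x ∈ X.basicOpen a := (mem_basicOpen_iff_notMem_primeIdealOf hW x hxW a).mpr hne
  exact hx (((mem_nonvanIdeal a).mp ha) hxa).2

end Groth.Agent.Lib.Helper10.HartogsConv
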