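import Groth.Agent.Lib.Helper10.HartogsConv
import Groth.Prelude.Def_CInt

/-!
# Depth one and schematic density (helper10)

`U` is schematically dense in a locally Noetherian scheme `X` iff `depth O_{X,x} ≥ 1` for `x ∉ U`.
-/

set_option autoImplicit false
set_option linter.unusedSectionVars false
open CategoryTheory CategoryTheory.Limits AlgebraicGeometry Opposite
universe u

namespace Groth.Agent.Lib.Helper10.HartogsOne

open Groth.Agent.Lib.Helper29.QCoh TopologicalSpace Groth.Agent.Lib.Helper10.Hartogs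
open Groth.Agent.Lib.Helper10.HartogsConv
open Groth.Agent.Lib.Helper16.Depth Groth.Agent.Lib.Helper16.LC Groth.Agent.Lib.Helper18.QGor
open Pointwise RingTheory.Sequence

variable {X : Scheme.{u}} [IsLocallyNoetherian X] (F : X.Modules) [F.IsQuasicoherent] (U : X.Opens)

/-- Local (affine) form of "`F` is coherent with depth at least one off `U`". -/
def LocDepthOne (F : X.Modules) (U : X.Opens) : Prop :=
  ∀ {W : X.Opens} (hW : IsAffineOpen W), Module.Finite Γ(X, W) Γ(F, W) ∧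
    ∀ (x : X) (hxW : x ∈ W), x ∉ U →
      (1 : ℕ∞) ≤ LocCoh.depth (Localization.AtPrime (hW.primeIdealOf ⟨x, hxW⟩).asIdeal)
        (LocalizedModule (hW.primeIdealOf ⟨x, hxW⟩).asIdeal.primeCompl Γ(F, W))

theorem one_le_idealDepth_of_forall_pow_mem
    (hloc : LocDepthOne F U)
    {W : X.Opens} (hW : IsAffineOpen W) (K : Ideal Γ(X, W))
    (hK : ∀ c : Γ(X, W), X.basicOpen c ≤ W ⊓ U → ∃ n : ℕ, c ^ n ∈ K) :
    ((1 : ℕ) : ℕ∞) ≤ LocCoh.idealDepth K Γ(F, W) := by
  have : IsNoetherianRing Γ(X, W) := IsLocallyNoetherian.component_noetherian ⟨W, hW⟩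
  have : Module.Finite Γ(X, W) Γ(F, W) := (hloc hW).1
  apply Groth.Agent.Lib.Helper18.QGor.le_idealDepth_of_forall_le_depth K 1 Γ(F, W)
  intro p _ hKp
  obtain ⟨x, hxW, hxp⟩ := exists_point_primeIdealOf_eq hW p
  have hxU : x ∉ U := by
    intro hxU
    obtain ⟨c, hcT, hxc⟩ := hW.exists_basicOpen_le (V := W ⊓ U) ⟨x, ⟨hxW, hxU⟩⟩ hxW
    obtain ⟨n, hn⟩ := hK c hcT
    have h1 : c ∉ (hW.primeIdealOf ⟨x, hxW⟩).asIdeal :=
      (mem_basicOpen_iff_notMem_primeIdealOf hW x hxW c).mp hxc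
    rw [hxp] at h1
    exact h1 (Ideal.IsPrime.mem_of_pow_mem ‹_› n (hKp hn))
  have h2 := (hloc hW).2 x hxW hxU
  subst hxp
  exact_mod_cast h2

theorem res_injective_of_isAffineOpen
    (hloc : LocDepthOne F U)
    {W : X.Opens} (hW : IsAffineOpen W) (m : Γ(F, W))
    (hm : res F (inf_le_left : W ⊓ U ≤ W) m = 0) : m = 0 := by
  have : IsNoetherianRing Γ(X, W) := IsLocallyNoetherian.component_noetherian ⟨W, hW⟩
  have : Module.Finite Γ(X, W) Γ(F, W) := (hloc hW).1
  have h1 := one_le_idealDepth_of_forall_pow_mem F U hloc hW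
    ((⊥ : Submodule Γ(X, W) Γ(F, W)).colon {m}) (fun c hc => by
      have h0 : res F (X.basicOpen_le c) m = 0 := by
        rw [← res_res F (inf_le_left : W ⊓ U ≤ W) hc, hm, map_zero]
      obtain ⟨n, hn⟩ := exists_pow_smul_eq_zero F hW c m h0
      exact ⟨n, by rw [Submodule.mem_colon_singleton, Submodule.mem_bot]; exact hn⟩)
  have h1' : 1 ≤ LocCoh.idealDepth ((⊥ : Submodule Γ(X, W) Γ(F, W)).colon {m}) Γ(F, W) := by
    exact_mod_cast h1
  refine Groth.Agent.Lib.Helper18.QGor.eq_zero_of_forall_pow_smul_eq_zero _ _ h1' m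
    (fun j hj => ⟨1, ?_⟩)
  rw [Submodule.mem_colon_singleton, Submodule.mem_bot] at hj
  rw [pow_one]
  exact hj

theorem res_injective (hloc : LocDepthOne F U) (V : X.Opens) :
    Function.Injective (res F (inf_le_left : V ⊓ U ≤ V)) := by
  rw [injective_iff_map_eq_zero]
  intro m hm
  refine eq_zero_of_res_cover_eq_zero F
    (fun W : {W : X.Opens // IsAffineOpen W ∧ W ≤ V} => W.1) (fun W => W.2.2) ?_ m ?_
  · intro x hx
    obtain ⟨W, hW, hxW, hWV⟩ := exists_isAffineOpen_mem_and_subset (x := x) (U := V) hx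
    exact Opens.mem_iSup.mpr ⟨⟨W, hW, hWV⟩, hxW⟩
  · rintro ⟨W, hW, hWV⟩
    apply res_injective_of_isAffineOpen F U hloc hW
    rw [res_res, ← res_res F (inf_le_left : V ⊓ U ≤ V) (inf_le_inf_right U hWV), hm, map_zero]

/-- the linear equivalence `Γ(X, W) ≃ Γ(unitM X, W)` -/
noncomputable def unitEquiv (W : X.Opens) : Γ(X, W) ≃ₗ[Γ(X, W)] Γ(unitM X, W) :=
  { toFun := toUnit
    invFun := fromUnit
    map_add' := fun _ _ => rfl
    map_smul' := fun _ _ => rfl
    left_inv := fun _ => rfl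
    right_inv := fun _ => rfl }

theorem depth_stalk_eq_depth_localized_unit {W : X.Opens} (hW : IsAffineOpen W) (x : X)
    (hxW : x ∈ W) :
    LocCoh.depth (X.presheaf.stalk x) (X.presheaf.stalk x) =
      LocCoh.depth (Localization.AtPrime (hW.primeIdealOf ⟨x, hxW⟩).asIdeal)
        (LocalizedModule (hW.primeIdealOf ⟨x, hxW⟩).asIdeal.primeCompl Γ(unitM X, W)) := by
  have : IsNoetherianRing Γ(X, W) := IsLocallyNoetherian.component_noetherian ⟨W, hW⟩
  have hfin : Module.Finite Γ(X, W) Γ(unitM X, W) := Module.Finite.equiv (unitEquiv W)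
  let _ : Algebra Γ(X, W) (X.presheaf.stalk x) :=
    TopCat.Presheaf.algebra_section_stalk X.presheaf ⟨x, hxW⟩
  have hloc : IsLocalization.AtPrime (X.presheaf.stalk x) (hW.primeIdealOf ⟨x, hxW⟩).asIdeal :=
    hW.isLocalization_stalk ⟨x, hxW⟩
  have h1 : IsLocalizedModule (hW.primeIdealOf ⟨x, hxW⟩).asIdeal.primeCompl
      (Algebra.linearMap Γ(X, W) (X.presheaf.stalk x)) :=
    (isLocalizedModule_iff_isLocalization' _ _).mpr hloc
  have h2 : IsLocalizedModule (hW.primeIdealOf ⟨x, hxW⟩).asIdeal.primeCompl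
      ((Algebra.linearMap Γ(X, W) (X.presheaf.stalk x)) ∘ₗ (unitEquiv W).symm.toLinearMap) :=
    IsLocalizedModule.of_linearEquiv_right _ _ (unitEquiv W).symm
  exact Groth.Agent.Lib.Helper16.Depth.depth_eq_of_isLocalizedModule
    (hW.primeIdealOf ⟨x, hxW⟩).asIdeal Γ(unitM X, W) (X.presheaf.stalk x) (X.presheaf.stalk x)
    ((Algebra.linearMap Γ(X, W) (X.presheaf.stalk x)) ∘ₗ (unitEquiv W).symm.toLinearMap)

theorem locDepthOne_unit
    (hU : ∀ x : X, x ∉ U → (1 : ℕ∞) ≤ LocCoh.depth (X.presheaf.stalk x) (X.presheaf.stalk x)) :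
    LocDepthOne (unitM X) U := by
  intro W hW
  have : IsNoetherianRing Γ(X, W) := IsLocallyNoetherian.component_noetherian ⟨W, hW⟩
  have hfin : Module.Finite Γ(X, W) Γ(unitM X, W) := Module.Finite.equiv (unitEquiv W)
  refine ⟨hfin, fun x hxW hxU => ?_⟩
  rw [← depth_stalk_eq_depth_localized_unit hW x hxW]
  exact hU x hxU

/-- depth `≥ 1` off `U` implies `U` schematically dense. -/
theorem isSchematicallyDense_of_depth
    (hU : ∀ x : X, x ∉ U → (1 : ℕ∞) ≤ LocCoh.depth (X.presheaf.stalk x) (X.presheaf.stalk x)) :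
    CInt.IsSchematicallyDense U := by
  intro V
  have := res_injective (unitM X) U (locDepthOne_unit U hU) V
  exact this

/-- `U` schematically dense implies depth `≥ 1` off `U`. -/
theorem one_le_depth_of_isSchematicallyDense (h : CInt.IsSchematicallyDense U) (x : X)
    (hx : x ∉ U) : (1 : ℕ∞) ≤ LocCoh.depth (X.presheaf.stalk x) (X.presheaf.stalk x) := by
  obtain ⟨_, ⟨W, hW, rfl⟩, hxW, -⟩ := X.isBasis_affineOpens.exists_subset_of_mem_open
    (Set.mem_univ x) isOpen_univ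
  have : IsNoetherianRing Γ(X, W) := IsLocallyNoetherian.component_noetherian ⟨W, hW⟩
  have hfin : Module.Finite Γ(X, W) Γ(unitM X, W) := Module.Finite.equiv (unitEquiv W)
  have hinj : Function.Injective (res (unitM X) (inf_le_left : W ⊓ U ≤ W)) := h W
  obtain ⟨r, hrJ, hr⟩ := exists_mem_isSMulRegular_of_forall_not_le (nonvanIdeal W (W ⊓ U))
    Γ(unitM X, W) (not_le_of_mem_associatedPrimes (unitM X) hW hinj)
  have h1 : ((1 : ℕ) : ℕ∞) ≤ LocCoh.idealDepth (nonvanIdeal W (W ⊓ U)) Γ(unitM X, W) :=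
    (le_idealDepth_iff (nonvanIdeal W (W ⊓ U)) Γ(unitM X, W) 1).mpr
      (Or.inr (HasRegSeq.cons hrJ hr HasRegSeq.zero))
  rw [depth_stalk_eq_depth_localized_unit hW x hxW]
  have h1' : (1 : ℕ∞) ≤ LocCoh.idealDepth (nonvanIdeal W (W ⊓ U)) Γ(unitM X, W) := by
    exact_mod_cast h1
  refine h1'.trans (idealDepth_le_depth_localizedModule_of_le _ _ _ ?_)
  intro a ha
  by_contra hne
  have hxa : x ∈ X.basicOpen a := (mem_basicOpen_iff_notMem_primeIdealOf hW x hxW a).mpr hne
  exact hx (((mem_nonvanIdeal a).mp ha) hxa).2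

end Groth.Agent.Lib.Helper10.HartogsOne
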