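import Mathlib
import Groth.Prelude.Def_SGA1

set_option autoImplicit false
set_option linter.unusedSectionVars false
set_option linter.style.haveILetI false
set_option backward.isDefEq.respectTransparency.types false
set_option maxHeartbeats 4000000
set_option synthInstance.maxHeartbeats 400000

universe u

open CategoryTheory CategoryTheory.Limits AlgebraicGeometry Opposite

namespace Groth.Agent.Lib.Helper10.HensFin

/-- A surjective morphism `g : S' ⟶ S` admitting a finite jointly surjective family of morphisms
`p i : T i ⟶ S'` with every `p i ≫ g` universally closed is universally submersive. -/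
theorem univSubmersive_of_family {S' S : Scheme.{u}} (g : S' ⟶ S) [Surjective g]
    {ι : Type*} [Finite ι] (T : ι → Scheme.{u}) (p : ∀ i, T i ⟶ S')
    (hsurj : ∀ x : S', ∃ i, x ∈ Set.range (p i))
    (hcl : ∀ i, UniversallyClosed (p i ≫ g)) : SGA1.UnivSubmersive g := by
  intro X' Y' i₁ i₂ g' hpb
  have hsurj' : Surjective g' :=
    MorphismProperty.of_isPullback (P := @Surjective) hpb.flip inferInstance
  have hclosed : IsClosedMap g' := by
    intro Z hZ
    have hpaste : ∀ i, IsPullback (pullback.snd (p i) i₁ ≫ g') (pullback.fst (p i) i₁) i₂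
        (p i ≫ g) := fun i =>
      (IsPullback.of_hasPullback (p i) i₁).flip.paste_horiz hpb
    have hucl : ∀ i, UniversallyClosed (pullback.snd (p i) i₁ ≫ g') := fun i =>
      MorphismProperty.of_isPullback (P := @UniversallyClosed) (hpaste i).flip (hcl i)
    have himg : g' '' Z = ⋃ i, (pullback.snd (p i) i₁ ≫ g') ''
        ((pullback.snd (p i) i₁) ⁻¹' Z) := by
      ext y
      simp only [Set.mem_image, Set.mem_iUnion, Set.mem_preimage]
      constructor
      · rintro ⟨x, hxZ, rfl⟩
        obtain ⟨i, t, ht⟩ := hsurj (i₁ x)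
        obtain ⟨z, hz1, hz2⟩ := Scheme.Pullback.exists_preimage_pullback (f := p i) (g := i₁) t x ht
        exact ⟨i, z, by rw [hz2]; exact hxZ, by rw [Scheme.Hom.comp_apply, hz2]⟩
      · rintro ⟨i, z, hz, rfl⟩
        exact ⟨pullback.snd (p i) i₁ z, hz, by rw [Scheme.Hom.comp_apply]⟩
    rw [himg]
    refine isClosed_iUnion_of_finite fun i => ?_
    haveI := hucl i
    exact (pullback.snd (p i) i₁ ≫ g').isClosedMap _
      (hZ.preimage (pullback.snd (p i) i₁).continuous)
  exact hclosed.isQuotientMap g'.continuous hsurj'.surj

end Groth.Agent.Lib.Helper10.HensFin
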