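import Mathlib
import Groth.Agent.Lib.Helper4.HenselPairQF

set_option autoImplicit false
set_option linter.unusedSectionVars false
set_option linter.style.haveILetI false
set_option backward.isDefEq.respectTransparency.types false
set_option maxHeartbeats 4000000
set_option synthInstance.maxHeartbeats 400000

universe u

open CategoryTheory CategoryTheory.Limits AlgebraicGeometry Opposite

namespace Groth.Agent.Lib.Helper10.HensFin

/-- A prime of a finite type algebra lying in a finite fibre is quasi-finite. -/
theorem quasiFiniteAt_of_finite_fiber (A B : Type u) [CommRing A] [CommRing B] [Algebra A B]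
    [Algebra.FiniteType A B] (q : PrimeSpectrum B)
    (hfin : (PrimeSpectrum.comap (algebraMap A B) ⁻¹' {q.comap (algebraMap A B)}).Finite) :
    Algebra.QuasiFiniteAt A q.asIdeal := by
  apply Algebra.QuasiFiniteAt.of_isOpen_singleton_fiber q
  set P := q.comap (algebraMap A B) with hP
  haveI : Finite (PrimeSpectrum.comap (algebraMap A B) ⁻¹' {P}) := hfin.to_subtype
  haveI : IsJacobsonRing (P.asIdeal.Fiber B) :=
    isJacobsonRing_of_finiteType (A := P.asIdeal.ResidueField)
  haveI : JacobsonSpace (PrimeSpectrum.comap (algebraMap A B) ⁻¹' {P}) :=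
    JacobsonSpace.of_isOpenEmbedding (PrimeSpectrum.preimageHomeomorphFiber A B P).isOpenEmbedding
  exact isOpen_discrete _

/-- Over a henselian local ring `A`, a finite type algebra `B` with finite closed fibre has an
idempotent `e` such that `B ⧸ (1 - e)` is finite over `A` and `e` vanishes at no point of the
closed fibre. -/
theorem exists_idempotent (A B : Type u) [CommRing A] [HenselianLocalRing A] [CommRing B]
    [Algebra A B] [Algebra.FiniteType A B]
    (hfin : (PrimeSpectrum.comap (algebraMap A B) ⁻¹' {IsLocalRing.closedPoint A}).Finite) :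
    ∃ e : B, IsIdempotentElem e ∧ Module.Finite A (B ⧸ Ideal.span {1 - e}) ∧
      ∀ q : PrimeSpectrum B, q.comap (algebraMap A B) = IsLocalRing.closedPoint A →
        e ∉ q.asIdeal := by
  obtain ⟨e, he, ⟨S', hS', hex⟩, hq⟩ :=
    Groth.Agent.Lib.Helper4.HenselPair.exists_idempotent_finiteType_split A B
  refine ⟨e, he, ?_, ?_⟩
  · haveI : Module.Finite A S' := ⟨(Submodule.fg_top _).mpr hS'⟩
    let f : S' →ₗ[A] (B ⧸ Ideal.span {1 - e}) :=
      (Ideal.Quotient.mkₐ A (Ideal.span {1 - e})).toLinearMap.comp S'.val.toLinearMap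
    apply Module.Finite.of_surjective f
    intro y
    obtain ⟨x, rfl⟩ := Ideal.Quotient.mk_surjective y
    refine ⟨⟨e * x, hex x⟩, ?_⟩
    change Ideal.Quotient.mk _ (e * x) = Ideal.Quotient.mk _ x
    rw [Ideal.Quotient.eq, Ideal.mem_span_singleton]
    exact ⟨-x, by ring⟩
  · intro q hqc
    haveI := q.isPrime
    apply hq q.asIdeal
    · rw [Ideal.map_le_iff_le_comap]
      have := congrArg PrimeSpectrum.asIdeal hqc
      exact this.ge
    · apply quasiFiniteAt_of_finite_fiber
      rw [hqc]
      exact hfin

/-- For an idempotent `e`, a prime below a prime not containing `e` contains `1 - e`. -/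
theorem one_sub_mem_of_le {B : Type u} [CommRing B] {e : B} (he : IsIdempotentElem e)
    {q q' : Ideal B} [q'.IsPrime] (hle : q' ≤ q) (heq : e ∉ q) : 1 - e ∈ q' := by
  have h0 : e * (1 - e) = 0 := by rw [mul_sub, mul_one, he.eq, sub_self]
  have h1 : e * (1 - e) ∈ q' := by rw [h0]; exact q'.zero_mem
  rcases Ideal.IsPrime.mem_or_mem ‹_› h1 with h | h
  · exact absurd (hle h) heq
  · exact h

end Groth.Agent.Lib.Helper10.HensFin
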