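import Mathlib
import Groth.Agent.Lib.Helper10.HensFin1
import Groth.Agent.Lib.Helper10.HensFin2

set_option autoImplicit false
set_option linter.unusedSectionVars false
set_option linter.style.haveILetI false
set_option backward.isDefEq.respectTransparency.types false
set_option maxHeartbeats 4000000
set_option synthInstance.maxHeartbeats 400000

universe u

open CategoryTheory CategoryTheory.Limits AlgebraicGeometry Opposite

namespace Groth.Agent.Lib.Helper10.HensFin

/-- Around a point `s'` of the (finite) closed fibre of a morphism locally of finite type to the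
spectrum of a henselian local ring, there is a piece `T ⟶ S'`, finite over the base, whose image
contains all generizations of `s'`. -/
theorem exists_piece (A : Type u) [CommRing A] [HenselianLocalRing A]
    {S' : Scheme.{u}} (g : S' ⟶ Spec (CommRingCat.of A)) [LocallyOfFiniteType g]
    (hfin : (g ⁻¹' {IsLocalRing.closedPoint A}).Finite)
    (s' : S') (hs' : g s' = IsLocalRing.closedPoint A) :
    ∃ (T : Scheme.{u}) (p : T ⟶ S'), UniversallyClosed (p ≫ g) ∧
      ∀ t : S', t ⤳ s' → t ∈ Set.range p := by
  obtain ⟨_, ⟨U, hU : IsAffineOpen U, rfl⟩, hsU, -⟩ :=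
    S'.isBasis_affineOpens.exists_subset_of_mem_open (Set.mem_univ s') isOpen_univ
  set B : CommRingCat.{u} := Γ(S', U) with hB
  let j : Spec B ⟶ S' := hU.fromSpec
  let φ : CommRingCat.of A ⟶ B := Spec.preimage (j ≫ g)
  have hφ : Spec.map φ = j ≫ g := Spec.map_preimage _
  haveI : LocallyOfFiniteType (Spec.map φ) := by rw [hφ]; infer_instance
  have hft : φ.hom.FiniteType :=
    (HasRingHomProperty.Spec_iff (P := @LocallyOfFiniteType)).mp inferInstance
  letI : Algebra A B := φ.hom.toAlgebra
  haveI : Algebra.FiniteType A B := hft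
  have hcomap : ∀ q : Spec B, PrimeSpectrum.comap (algebraMap A B) q = g (j q) := by
    intro q
    rw [← Scheme.Hom.comp_apply, ← hφ]
    rfl
  have hfinB : (PrimeSpectrum.comap (algebraMap A B) ⁻¹' {IsLocalRing.closedPoint A}).Finite := by
    apply Set.Finite.of_finite_image (f := j) _ (j.isOpenEmbedding.injective.injOn)
    apply hfin.subset
    rintro _ ⟨q, hq, rfl⟩
    simp only [Set.mem_preimage] at hq ⊢
    rw [← hcomap]; exact hq
  obtain ⟨e, he, hfinC, hnot⟩ := exists_idempotent A B hfinB
  let C : CommRingCat.{u} := CommRingCat.of (B ⧸ Ideal.span {1 - e})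
  let π : B ⟶ C := CommRingCat.ofHom (Ideal.Quotient.mk (Ideal.span {1 - e}))
  refine ⟨Spec C, Spec.map π ≫ j, ?_, ?_⟩
  · have h1 : (Spec.map π ≫ j) ≫ g = Spec.map (φ ≫ π) := by
      rw [Category.assoc, ← hφ, Spec.map_comp]
    have h2 : (φ ≫ π).hom.Finite := by
      have : (algebraMap A (B ⧸ Ideal.span {1 - e})).Finite := RingHom.finite_algebraMap.mpr hfinC
      exact this
    haveI : IsFinite ((Spec.map π ≫ j) ≫ g) := by
      rw [h1, IsFinite.SpecMap_iff]; exact h2
    infer_instance
  · intro t ht
    have htU : t ∈ U := ht.mem_open U.isOpen hsU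
    set qt := hU.primeIdealOf ⟨t, htU⟩ with hqt
    set qs := hU.primeIdealOf ⟨s', hsU⟩ with hqs
    have hjt : j qt = t := hU.fromSpec_primeIdealOf ⟨t, htU⟩
    have hjs : j qs = s' := hU.fromSpec_primeIdealOf ⟨s', hsU⟩
    have hsp : (show Spec B from qt) ⤳ (show Spec B from qs) := by
      rw [← j.isOpenEmbedding.isInducing.specializes_iff, hjt, hjs]; exact ht
    have hle : qt.asIdeal ≤ qs.asIdeal := (PrimeSpectrum.le_iff_specializes qt qs).mpr hsp
    have hqs_cp : PrimeSpectrum.comap (algebraMap A B) qs = IsLocalRing.closedPoint A := by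
      rw [hcomap, hjs, hs']
    have hes : e ∉ qs.asIdeal := hnot qs hqs_cp
    haveI := qt.isPrime
    have h1e : 1 - e ∈ qt.asIdeal := one_sub_mem_of_le he hle hes
    have hrange : qt ∈ Set.range (PrimeSpectrum.comap (Ideal.Quotient.mk (Ideal.span {1 - e}))) := by
      rw [_root_.range_comap_of_surjective _ _ Ideal.Quotient.mk_surjective,
        Ideal.mk_ker, PrimeSpectrum.mem_zeroLocus]
      intro x hx
      obtain ⟨c, rfl⟩ := Ideal.mem_span_singleton'.mp hx
      exact Ideal.mul_mem_left _ _ h1e
    obtain ⟨c, hc⟩ := hrange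
    refine ⟨c, ?_⟩
    rw [Scheme.Hom.comp_apply, ← hjt]
    congr 1

end Groth.Agent.Lib.Helper10.HensFin
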