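import Mathlib
import Groth.Agent.Lib.Helper10.HensTors1

/-!
# Rational points over a quotient field are determined by their underlying point
-/

set_option autoImplicit false
set_option linter.style.haveILetI false
set_option linter.unusedSectionVars false
universe u
open CategoryTheory CategoryTheory.Limits MonoidalCategory CartesianMonoidalCategory MonObj GrpObj
  AlgebraicGeometry

namespace Groth.Agent.Lib.Helper10.HensTors

/-- ring-level statement. -/
theorem ringHom_eq_of_comp_surjective {R' κ k : Type*} [CommRing R'] [Field κ] [Field k]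
    (θ : R' →+* κ) (ρ : R' →+* k) (hρ : Function.Surjective ρ) (ψ₁ ψ₂ : κ →+* k)
    (h₁ : ψ₁.comp θ = ρ) (h₂ : ψ₂.comp θ = ρ) : ψ₁ = ψ₂ := by
  have hθ : Function.Surjective θ := by
    intro w
    obtain ⟨r, hr⟩ := hρ (ψ₁ w)
    refine ⟨r, ψ₁.injective ?_⟩
    rw [← hr, ← h₁]
    rfl
  ext w
  obtain ⟨r, rfl⟩ := hθ w
  change (ψ₁.comp θ) r = (ψ₂.comp θ) r
  rw [h₁, h₂]

/-- two `k`-points of `Z` over `Spec R'` (with `R' → k` surjective) having the same underlying point
coincide. -/
theorem spec_hom_ext_of_point {k R' : Type u} [Field k] [CommRing R'] (ρ : R' →+* k)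
    (hρ : Function.Surjective ρ) {Z : Scheme.{u}} (g : Z ⟶ Spec (CommRingCat.of R'))
    (a b : Spec (CommRingCat.of k) ⟶ Z)
    (ha : a ≫ g = Spec.map (CommRingCat.ofHom ρ)) (hb : b ≫ g = Spec.map (CommRingCat.ofHom ρ))
    (hpt : a (IsLocalRing.closedPoint k) = b (IsLocalRing.closedPoint k)) : a = b := by
  obtain ⟨⟨za, ψa⟩, rfl⟩ := (Scheme.SpecToEquivOfField k Z).symm.surjective a
  obtain ⟨⟨zb, ψb⟩, rfl⟩ := (Scheme.SpecToEquivOfField k Z).symm.surjective b
  simp only [Scheme.SpecToEquivOfField_symm_apply] at ha hb hpt ⊢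
  have hz : za = zb := by
    have h1 : (Spec.map ψa ≫ Z.fromSpecResidueField za) (IsLocalRing.closedPoint k) = za := by
      rw [Scheme.Hom.comp_apply]; exact Scheme.fromSpecResidueField_apply _ _
    have h2 : (Spec.map ψb ≫ Z.fromSpecResidueField zb) (IsLocalRing.closedPoint k) = zb := by
      rw [Scheme.Hom.comp_apply]; exact Scheme.fromSpecResidueField_apply _ _
    rw [← h1, ← h2]; exact hpt
  subst hz
  let θ : CommRingCat.of R' ⟶ Z.residueField za := Spec.preimage (Z.fromSpecResidueField za ≫ g)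
  have hθ : Spec.map θ = Z.fromSpecResidueField za ≫ g := Spec.map_preimage _
  have e1 : θ ≫ ψa = CommRingCat.ofHom ρ := by
    apply Spec.map_injective
    rw [Spec.map_comp, hθ, ← Category.assoc]; exact ha
  have e2 : θ ≫ ψb = CommRingCat.ofHom ρ := by
    apply Spec.map_injective
    rw [Spec.map_comp, hθ, ← Category.assoc]; exact hb
  have : ψa = ψb := by
    ext1
    apply ringHom_eq_of_comp_surjective θ.hom ρ hρ ψa.hom ψb.hom
    · exact congrArg CommRingCat.Hom.hom e1
    · exact congrArg CommRingCat.Hom.hom e2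
  rw [this]

set_option backward.isDefEq.respectTransparency.types false in
/-- a torsion section of order invertible on a henselian local base which meets the unit section
at the closed point is the unit section. -/
theorem eq_one_of_torsion (R : Type u) [CommRing R] [HenselianLocalRing R]
    (G : Over (Spec (CommRingCat.of R))) [GrpObj G] [IsCommMonObj G]
    [Smooth G.hom] [IsSeparated G.hom] [QuasiCompact G.hom]
    (n : ℕ) (hn : IsUnit (n : R)) (x : Over.mk (𝟙 (Spec (CommRingCat.of R))) ⟶ G)
    (hx : x ^ n = 1)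
    (hred : x.left (IsLocalRing.closedPoint R) = (η[G]).left (IsLocalRing.closedPoint R)) :
    x = 1 := by
  let S := Spec (CommRingCat.of R)
  let res : Spec (CommRingCat.of (IsLocalRing.ResidueField R)) ⟶ S :=
    Spec.map (CommRingCat.ofHom (IsLocalRing.residue R))
  let j : Over.mk res ⟶ Over.mk (𝟙 S) := Over.homMk res (Category.comp_id _)
  let τ : Over.mk res ⟶ G := j ≫ (1 : Over.mk (𝟙 S) ⟶ G)
  have hτ : τ ^ n = 1 := by
    change (j ≫ (1 : Over.mk (𝟙 S) ⟶ G)) ^ n = 1
    rw [← MonObj.comp_pow, one_pow, MonObj.comp_one]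
  obtain ⟨σ, -, hu⟩ := torsion_lift R G n hn τ hτ
  have h1 : (1 : Over.mk (𝟙 S) ⟶ G) = σ := hu 1 ⟨one_pow n, rfl⟩
  have hxσ : x = σ := by
    apply hu x ⟨hx, ?_⟩
    ext1
    change res ≫ x.left = res ≫ (1 : Over.mk (𝟙 S) ⟶ G).left
    have hxw : x.left ≫ G.hom = 𝟙 S := Over.w x
    have h1w : (1 : Over.mk (𝟙 S) ⟶ G).left ≫ G.hom = 𝟙 S := Over.w _
    have hres : res (IsLocalRing.closedPoint (IsLocalRing.ResidueField R)) =
        IsLocalRing.closedPoint R := by
      change PrimeSpectrum.comap (IsLocalRing.residue R) _ = _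
      exact IsLocalRing.comap_closedPoint _
    apply spec_hom_ext_of_point (IsLocalRing.residue R) IsLocalRing.residue_surjective G.hom
    · rw [Category.assoc, hxw, Category.comp_id]
    · rw [Category.assoc, h1w, Category.comp_id]
    · rw [Scheme.Hom.comp_apply, Scheme.Hom.comp_apply, hres, hred, one_left]
      rw [Scheme.Hom.comp_apply]
      rfl
  rw [hxσ, ← h1]

end Groth.Agent.Lib.Helper10.HensTors
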