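import Mathlib
import Groth.Prelude.Def_Mor2

/-!
# The fibres of a finite locally free morphism of degree `d` have at most `d` points
-/

set_option autoImplicit false
set_option linter.unusedSectionVars false
set_option linter.style.haveILetI false
set_option backward.isDefEq.respectTransparency.types false
set_option maxHeartbeats 4000000
set_option synthInstance.maxHeartbeats 400000
universe u
open CategoryTheory CategoryTheory.Limits AlgebraicGeometry Opposite Function

namespace Groth.Agent.Lib.Helper10.HilbFibre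

/-- a finite dimensional algebra over a field has at most as many primes as its dimension. -/
theorem card_primeSpectrum_le_finrank (K B : Type u) [Field K] [CommRing B] [Algebra K B]
    [Module.Finite K B] :
    Finite (PrimeSpectrum B) ∧ Nat.card (PrimeSpectrum B) ≤ Module.finrank K B := by
  haveI : IsArtinianRing B := IsArtinianRing.of_finite K B
  haveI : Finite (PrimeSpectrum B) := inferInstance
  refine ⟨inferInstance, ?_⟩
  cases nonempty_fintype (PrimeSpectrum B)
  let I : PrimeSpectrum B → Ideal B := fun p => p.asIdeal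
  have hmax : ∀ p, (I p).IsMaximal := fun p => IsArtinianRing.isMaximal_of_isPrime p.asIdeal
  have hI : Pairwise (IsCoprime on I) := by
    intro p q hpq
    change IsCoprime (I p) (I q)
    rw [Ideal.isCoprime_iff_sup_eq]
    apply Ideal.IsMaximal.coprime_of_ne (hmax p) (hmax q)
    intro h
    exact hpq (PrimeSpectrum.ext h)
  let Φ : B →ₗ[K] ∀ p, B ⧸ I p := (LinearMap.pi fun p => (I p).mkQ).restrictScalars K
  have hΦ : Surjective Φ := Ideal.pi_mkQ_surjective hI
  have h1 := LinearMap.finrank_le_finrank_of_surjective hΦ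
  rw [Module.finrank_pi_fintype] at h1
  have h2 : ∀ p, 1 ≤ Module.finrank K (B ⧸ I p) := by
    intro p
    haveI : Nontrivial (B ⧸ I p) := Ideal.Quotient.nontrivial_iff.mpr (hmax p).ne_top
    exact Module.finrank_pos
  calc Nat.card (PrimeSpectrum B) = Fintype.card (PrimeSpectrum B) := Nat.card_eq_fintype_card
    _ = ∑ _p : PrimeSpectrum B, 1 := by simp
    _ ≤ ∑ p : PrimeSpectrum B, Module.finrank K (B ⧸ I p) := Finset.sum_le_sum (fun p _ => h2 p)
    _ ≤ Module.finrank K B := h1

/-- a finite flat scheme over a field has at most as many points as its rank. -/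
theorem card_le_finrank_of_field {P : Scheme.{u}} (K : Type u) [Field K]
    (g : P ⟶ Spec (CommRingCat.of K)) [IsFinite g] [Flat g] (y : Spec (CommRingCat.of K)) :
    Finite P ∧ Nat.card P ≤ g.finrank y := by
  haveI : IsAffine P := isAffine_of_isAffineHom g
  let ψ : CommRingCat.of K ⟶ Γ(P, ⊤) := (Scheme.ΓSpecIso (CommRingCat.of K)).inv ≫ g.appTop
  have hg : g = P.isoSpec.hom ≫ Spec.map ψ := by
    have h1 := Scheme.isoSpec_hom_naturality g
    rw [Scheme.isoSpec_Spec_hom] at h1
    rw [Spec.map_comp, ← Category.assoc, h1, Category.assoc, ← Spec.map_comp, Iso.inv_hom_id,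
      Spec.map_id, Category.comp_id]
  have hS : Spec.map ψ = P.isoSpec.inv ≫ g := by rw [hg, Iso.inv_hom_id_assoc]
  haveI hfinS : IsFinite (Spec.map ψ) := by rw [hS]; infer_instance
  haveI hflatS : Flat (Spec.map ψ) := by rw [hS]; infer_instance
  letI : Algebra K Γ(P, ⊤) := ψ.hom.toAlgebra
  haveI : Module.Finite K Γ(P, ⊤) := (IsFinite.SpecMap_iff _).mp hfinS
  have h1 : g.finrank y = Module.finrank K Γ(P, ⊤) := by
    rw [hg, Scheme.Hom.finrank_comp_left_of_isIso]
    have h2 := Scheme.Hom.finrank_SpecMap_algebraMap K Γ(P, ⊤) y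
    rw [Module.rankAtStalk_eq_finrank_of_free] at h2
    exact h2
  let e : P ≃ PrimeSpectrum Γ(P, ⊤) := (Scheme.homeoOfIso P.isoSpec).toEquiv
  obtain ⟨hfin, hcard⟩ := card_primeSpectrum_le_finrank K Γ(P, ⊤)
  refine ⟨Finite.of_equiv _ e.symm, ?_⟩
  rw [Nat.card_congr e, h1]
  exact hcard

/-- **the fibres of a finite locally free morphism of degree `d` have at most `d` points.** -/
theorem exists_fin_fibre {Zs T : Scheme.{u}} (φ : Zs ⟶ T) {d : ℕ}
    (hφ : Mor2.IsFinLocFreeOfDeg d φ) (q : T) :
    ∃ (n : ℕ) (_ : n ≤ d) (e : Fin n → Zs), (∀ k, φ (e k) = q) ∧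
      ∀ z, φ z = q → ∃ k, e k = z := by
  obtain ⟨⟨h1, h2, h3⟩, h4⟩ := hφ
  haveI := h1
  haveI := h2
  let g : Spec (CommRingCat.of (T.residueField q)) ⟶ T := T.fromSpecResidueField q
  have hgy : ∀ y, g y = q := fun y => T.fromSpecResidueField_apply q y
  let y : Spec (CommRingCat.of (T.residueField q)) :=
    (show PrimeSpectrum (T.residueField q) from IsLocalRing.closedPoint _)
  obtain ⟨hfin, hcard⟩ := card_le_finrank_of_field (T.residueField q) (pullback.snd φ g) y
  rw [Scheme.Hom.finrank_pullback_snd, hgy, h4] at hcard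
  haveI := hfin
  let e' : Fin (Nat.card ↥(pullback φ g)) ≃ ↥(pullback φ g) := (Finite.equivFin _).symm
  refine ⟨Nat.card ↥(pullback φ g), hcard, fun k => pullback.fst φ g (e' k), ?_, ?_⟩
  · intro k
    rw [← Scheme.Hom.comp_apply, pullback.condition, Scheme.Hom.comp_apply]
    exact hgy _
  · intro z hz
    obtain ⟨w, hw1, -⟩ := Scheme.Pullback.exists_preimage_pullback (f := φ) (g := g) z y
      (hz.trans (hgy y).symm)
    refine ⟨e'.symm w, ?_⟩
    change pullback.fst φ g (e' (e'.symm w)) = z
    rw [Equiv.apply_symm_apply, hw1]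

end Groth.Agent.Lib.Helper10.HilbFibre
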