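import Mathlib
import Groth.Agent.Lib.Helper10.HilbLib2

/-!
# Pushing closed subschemes finite over the base along an open immersion `X' ⟶ X` over `S' ⟶ S`
-/

set_option autoImplicit false
set_option linter.unusedSectionVars false
set_option linter.style.haveILetI false
set_option backward.isDefEq.respectTransparency.types false
set_option maxHeartbeats 4000000
set_option synthInstance.maxHeartbeats 400000
universe u
open CategoryTheory CategoryTheory.Limits AlgebraicGeometry Opposite

namespace Groth.Agent.Lib.Helper10.HilbPush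

open PicF HilbD Groth.Agent.Lib.Helper10.HilbLib Groth.Agent.Lib.Helper25.ClosedDescent

variable {X S X' S' : Scheme.{u}} (f : X ⟶ S) (f' : X' ⟶ S') (i : X' ⟶ X) (j : S' ⟶ S)
  (comm : f' ≫ j = i ≫ f)

/-- the `S`-scheme of an `S'`-scheme. -/
abbrev jO (T' : Over S') : Over S := Over.mk (T'.hom ≫ j)

/-- functoriality. -/
def jMap {T' T'' : Over S'} (γ : T'' ⟶ T') : jO j T'' ⟶ jO j T' :=
  Over.homMk γ.left (by
    change γ.left ≫ T'.hom ≫ j = T''.hom ≫ j
    rw [← Category.assoc, Over.w γ])

lemma jMap_left {T' T'' : Over S'} (γ : T'' ⟶ T') : (jMap j γ).left = γ.left := rfl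

/-- the map `X'_{T'} ⟶ X_{T'}`. -/
noncomputable def κT (T' : Over S') : XT f' T' ⟶ XT f (jO j T') :=
  pullback.map f' T'.hom f (T'.hom ≫ j) i (𝟙 _) j comm (by simp)

theorem κT_fst (T' : Over S') :
    κT f f' i j comm T' ≫ pullback.fst f (jO j T').hom = pullback.fst f' T'.hom ≫ i :=
  pullback.lift_fst _ _ _

theorem κT_snd (T' : Over S') : κT f f' i j comm T' ≫ XTproj f (jO j T') = XTproj f' T' :=
  (pullback.lift_snd _ _ _).trans (Category.comp_id _)

theorem isPullback_κT [Mono j] (T' : Over S') :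
    IsPullback (κT f f' i j comm T') (pullback.fst f' T'.hom) (pullback.fst f (jO j T').hom) i := by
  refine IsPullback.of_right ?_ (κT_fst f f' i j comm T')
    (IsPullback.of_hasPullback f (jO j T').hom).flip
  rw [κT_snd]
  have h1 : IsPullback (pullback.fst f' T'.hom) (pullback.snd f' T'.hom) (f' ≫ j) (T'.hom ≫ j) :=
    IsPullback.of_isLimit (pullbackIsPullbackOfCompMono f' T'.hom j)
  rw [comm] at h1
  exact h1.flip

instance [IsOpenImmersion i] [Mono j] (T' : Over S') : IsOpenImmersion (κT f f' i j comm T') :=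
  MorphismProperty.of_isPullback (P := @IsOpenImmersion) (isPullback_κT f f' i j comm T').flip
    inferInstance

theorem range_κT [Mono j] (T' : Over S') :
    Set.range (κT f f' i j comm T') = pullback.fst f (jO j T').hom ⁻¹' (Set.range i) := by
  ext y
  constructor
  · rintro ⟨y', rfl⟩
    refine ⟨pullback.fst f' T'.hom y', ?_⟩
    rw [← Scheme.Hom.comp_apply, ← κT_fst, Scheme.Hom.comp_apply]
  · rintro ⟨u, hu⟩
    obtain ⟨p, hp1, -⟩ := Scheme.exists_preimage_of_isPullback (isPullback_κT f f' i j comm T')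
      y u hu.symm
    exact ⟨p, hp1⟩

theorem XTmap_κT {T' T'' : Over S'} (γ : T'' ⟶ T') :
    XTmap f' γ ≫ κT f f' i j comm T' = κT f f' i j comm T'' ≫ XTmap f (jMap j γ) := by
  apply pullback.hom_ext
  · rw [Category.assoc, κT_fst, ← Category.assoc, XTmap_fst, Category.assoc, XTmap_fst, κT_fst]
  · rw [Category.assoc, Category.assoc]
    change _ ≫ κT f f' i j comm T' ≫ XTproj f (jO j T') = _ ≫ XTmap f (jMap j γ) ≫ XTproj f _
    rw [κT_snd]
    change XTmap f' γ ≫ pullback.snd f' T'.hom =
      _ ≫ XTmap f (jMap j γ) ≫ pullback.snd f (jO j T').hom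
    rw [XTmap_snd, XTmap_snd, ← Category.assoc]
    change _ = (κT f f' i j comm T'' ≫ XTproj f (jO j T'')) ≫ _
    rw [κT_snd]
    rfl

theorem isPullback_XTmap_κT {T' T'' : Over S'} (γ : T'' ⟶ T') :
    IsPullback (κT f f' i j comm T'') (XTmap f' γ) (XTmap f (jMap j γ))
      (κT f f' i j comm T') := by
  refine IsPullback.of_right ?_ (XTmap_κT f f' i j comm γ).symm
    (isPullback_XTmap f (jMap j γ)).flip
  rw [κT_snd, κT_snd]
  exact (isPullback_XTmap f' γ).flip

/-- the closed subscheme of `X_{T'}` of a closed subscheme of `X'_{T'}`. -/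
noncomputable def opush (T' : Over S') (I : (XT f' T').IdealSheafData) :
    (XT f (jO j T')).IdealSheafData :=
  (I.subschemeι ≫ κT f f' i j comm T').ker

theorem opush_eq (T' : Over S') (I : (XT f' T').IdealSheafData) :
    opush f f' i j comm T' I = (I.subschemeι ≫ κT f f' i j comm T').ker := rfl

/-- `opush` of the kernel of a closed immersion. -/
theorem opush_ker (T' : Over S') {A : Scheme.{u}} (a : A ⟶ XT f' T') [IsClosedImmersion a] :
    opush f f' i j comm T' a.ker = (a ≫ κT f f' i j comm T').ker := by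
  obtain ⟨e, he⟩ := exists_iso_subscheme_ker a
  rw [opush_eq]
  have : a ≫ κT f f' i j comm T' = e.hom ≫ (a.ker.subschemeι ≫ κT f f' i j comm T') := by
    rw [← Category.assoc]
    exact congrArg (fun m => m ≫ κT f f' i j comm T') he.symm
  rw [this, Scheme.Hom.ker_comp_of_isIso e.hom]

section Closed

variable [IsSeparated f] [IsOpenImmersion i] [Mono j]

/-- closed subschemes finite over the base stay closed. -/
theorem isClosedImmersion_comp_κT (T' : Over S') {A : Scheme.{u}} (a : A ⟶ XT f' T')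
    [IsClosedImmersion a] [IsFinite (a ≫ XTproj f' T')] :
    IsClosedImmersion (a ≫ κT f f' i j comm T') := by
  rw [IsClosedImmersion.iff_isProper_and_mono]
  refine ⟨?_, inferInstance⟩
  haveI : IsProper ((a ≫ κT f f' i j comm T') ≫ XTproj f (jO j T')) := by
    rw [Category.assoc, κT_snd]
    infer_instance
  exact IsProper.of_comp (a ≫ κT f f' i j comm T') (XTproj f (jO j T'))

theorem isClosedImmersion_of_obj {d : ℕ} (T' : Over S') (Z : Obj f' d T') :
    IsClosedImmersion (Z.1.subschemeι ≫ κT f f' i j comm T') := by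
  haveI : IsFinite (Z.1.subschemeι ≫ XTproj f' T') := Z.2.1.1
  exact isClosedImmersion_comp_κT f f' i j comm T' Z.1.subschemeι

theorem comap_opush (T' : Over S') (I : (XT f' T').IdealSheafData)
    [IsClosedImmersion (I.subschemeι ≫ κT f f' i j comm T')] :
    (opush f f' i j comm T' I).comap (κT f f' i j comm T') = I := by
  have hpb : IsPullback I.subschemeι (𝟙 I.subscheme) (κT f f' i j comm T')
      (I.subschemeι ≫ κT f f' i j comm T') := by
    refine ⟨⟨by simp⟩, ⟨PullbackCone.IsLimit.mk _ (fun s => s.snd) (fun s => ?_) (fun s => ?_)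
      (fun s m _ h2 => ?_)⟩⟩
    · rw [← cancel_mono (κT f f' i j comm T'), Category.assoc]
      exact s.condition.symm
    · exact Category.comp_id _
    · rw [← h2]
      exact (Category.comp_id _).symm
  have := ker_fst_of_isPullback hpb
  rw [Scheme.IdealSheafData.ker_subschemeι] at this
  rw [opush_eq]
  exact this.symm

theorem opush_injective {d : ℕ} (T' : Over S') (Z Z' : Obj f' d T')
    (h : opush f f' i j comm T' Z.1 = opush f f' i j comm T' Z'.1) : Z.1 = Z'.1 := by
  haveI := isClosedImmersion_of_obj f f' i j comm T' Z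
  haveI := isClosedImmersion_of_obj f f' i j comm T' Z'
  rw [← comap_opush f f' i j comm T' Z.1, ← comap_opush f f' i j comm T' Z'.1, h]

/-- `pull` commutes with `opush`. -/
theorem pull_opush {d : ℕ} {T' T'' : Over S'} (γ : T'' ⟶ T') (Z : Obj f' d T') :
    pull f (jMap j γ) (opush f f' i j comm T' Z.1) =
      opush f f' i j comm T'' (pull f' γ Z.1) := by
  haveI := isClosedImmersion_of_obj f f' i j comm T' Z
  let a' := pullback.snd Z.1.subschemeι (XTmap f' γ)
  have h1 : IsPullback a' (pullback.fst Z.1.subschemeι (XTmap f' γ)) (XTmap f' γ)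
      Z.1.subschemeι := (IsPullback.of_hasPullback Z.1.subschemeι (XTmap f' γ)).flip
  have h2 : IsPullback (a' ≫ κT f f' i j comm T'') (pullback.fst Z.1.subschemeι (XTmap f' γ))
      (XTmap f (jMap j γ)) (Z.1.subschemeι ≫ κT f f' i j comm T') :=
    h1.paste_horiz (isPullback_XTmap_κT f f' i j comm γ)
  rw [opush_eq, pull_ker_of_isPullback f (jMap j γ) (Z.1.subschemeι ≫ κT f f' i j comm T') h2]
  have h3 : pull f' γ Z.1 = a'.ker := rfl
  rw [h3, opush_ker]

theorem opush_mem {d : ℕ} (T' : Over S') (Z : Obj f' d T') :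
    Mor2.IsFinLocFreeOfDeg d ((opush f f' i j comm T' Z.1).subschemeι ≫ XTproj f (jO j T')) := by
  haveI := isClosedImmersion_of_obj f f' i j comm T' Z
  rw [opush_eq]
  refine isFinLocFreeOfDeg_ker (Z.1.subschemeι ≫ κT f f' i j comm T') _ ?_
  rw [Category.assoc, κT_snd]
  exact Z.2

/-- the push as an element of `Hilb^d`. -/
noncomputable def opushObj {d : ℕ} (T' : Over S') (Z : Obj f' d T') : Obj f d (jO j T') :=
  ⟨opush f f' i j comm T' Z.1, opush_mem f f' i j comm T' Z⟩

/-- the push lies in the open part. -/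
theorem range_opush_subset {d : ℕ} (T' : Over S') (Z : Obj f' d T') :
    Set.range (opush f f' i j comm T' Z.1).subschemeι ⊆ Set.range (κT f f' i j comm T') := by
  haveI := isClosedImmersion_of_obj f f' i j comm T' Z
  obtain ⟨e, he⟩ := exists_iso_subscheme_ker (Z.1.subschemeι ≫ κT f f' i j comm T')
  rintro _ ⟨z, rfl⟩
  have h1 : (opush f f' i j comm T' Z.1).subschemeι =
      e.inv ≫ Z.1.subschemeι ≫ κT f f' i j comm T' := (Iso.eq_inv_comp e).mpr he
  rw [h1]
  exact ⟨Z.1.subschemeι (e.inv z), rfl⟩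

/-- closed subschemes lying in the open part are pushes. -/
theorem exists_opush_eq {d : ℕ} (T' : Over S') (Z : Obj f d (jO j T'))
    (hZ : Set.range Z.1.subschemeι ⊆ Set.range (κT f f' i j comm T')) :
    ∃ Z' : Obj f' d T', opush f f' i j comm T' Z'.1 = Z.1 := by
  let ζ' := IsOpenImmersion.lift (κT f f' i j comm T') Z.1.subschemeι hZ
  have hζ' : ζ' ≫ κT f f' i j comm T' = Z.1.subschemeι := IsOpenImmersion.lift_fac _ _ _
  haveI : IsClosedImmersion (ζ' ≫ κT f f' i j comm T') := by
    rw [hζ']
    infer_instance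
  haveI : IsClosedImmersion ζ' := IsClosedImmersion.of_comp ζ' (κT f f' i j comm T')
  have hfin : Mor2.IsFinLocFreeOfDeg d (ζ' ≫ XTproj f' T') := by
    have h1 : ζ' ≫ XTproj f' T' = Z.1.subschemeι ≫ XTproj f (jO j T') := by
      rw [← hζ', Category.assoc, κT_snd]
    rw [h1]
    exact Z.2
  refine ⟨⟨ζ'.ker, isFinLocFreeOfDeg_ker ζ' _ hfin⟩, ?_⟩
  change opush f f' i j comm T' ζ'.ker = Z.1
  rw [opush_ker]
  have h2 : (ζ' ≫ κT f f' i j comm T').ker = Z.1.subschemeι.ker := by rw [hζ']
  rw [h2, Scheme.IdealSheafData.ker_subschemeι]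

end Closed

end Groth.Agent.Lib.Helper10.HilbPush
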