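import Mathlib
import Groth.Agent.Lib.Helper10.HilbOpen
import Groth.Agent.Lib.Helper10.HilbPush
import Groth.Agent.Lib.Helper10.HilbFibre
import Groth.Agent.Lib.Helper10.FinAffine

/-!
# Representability of the Hilbert functor of points: the general (separated, AF) case
-/

set_option autoImplicit false
set_option linter.unusedSectionVars false
set_option linter.style.haveILetI false
set_option backward.isDefEq.respectTransparency.types false
set_option maxHeartbeats 4000000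
set_option synthInstance.maxHeartbeats 400000
universe u
open CategoryTheory CategoryTheory.Limits AlgebraicGeometry Opposite

namespace Groth.Agent.Lib.Helper10.HilbGlue

open PicF HilbD Groth.Agent.Lib.Helper10.HilbLib Groth.Agent.Lib.Helper10.HilbFun
  Groth.Agent.Lib.Helper10.HilbPush Groth.Agent.Lib.Helper10.ZarRep

variable {X S : Scheme.{u}} (f : X ⟶ S) (d : ℕ)

/-- the index type of the charts. -/
structure Idx where
  V : S.Opens
  U : X.Opens
  hV : IsAffineOpen V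
  hU : IsAffineOpen U
  hle : U ≤ f ⁻¹ᵁ V

variable {f}

namespace Idx

variable (c : Idx f)

instance : IsAffine c.V.toScheme := c.hV
instance : IsAffine c.U.toScheme := c.hU

/-- the restricted morphism. -/
noncomputable def fi : c.U.toScheme ⟶ c.V.toScheme := f.resLE c.V c.U c.hle

lemma fi_comm : c.fi ≫ c.V.ι = c.U.ι ≫ f := Scheme.Hom.resLE_comp_ι _ _

end Idx

theorem rep_i (c : Idx f) : HilbD.Representable c.fi d :=
  Groth.Agent.Lib.Helper10.HilbAff.representable_of_isAffine c.fi d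

/-- the local Hilbert schemes. -/
noncomputable def Hi (c : Idx f) : Over c.V.toScheme := (rep_i d c).choose

/-- the local universal families. -/
noncomputable def Zi (c : Idx f) : Obj c.fi d (Hi d c) := (rep_i d c).choose_spec.choose

theorem univ_i (c : Idx f) : IsUniversal c.fi d (Hi d c) (Zi d c) :=
  (rep_i d c).choose_spec.choose_spec

variable [IsSeparated f]

/-- the push to `X`. -/
noncomputable abbrev psh (c : Idx f) (T' : Over c.V.toScheme) (Z' : Obj c.fi d T') :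
    Obj f d (jO c.V.ι T') :=
  opushObj f c.fi c.U.ι c.V.ι c.fi_comm T' Z'

/-- the universal family of the chart, on `X`. -/
noncomputable def ξi (c : Idx f) : El f d (Hi d c).left :=
  ⟨(Hi d c).hom ≫ c.V.ι, psh d c (Hi d c) (Zi d c)⟩

variable {d}

/-- the element comes from the chart. -/
def FromChart (c : Idx f) {T : Scheme.{u}} (y : El f d T) : Prop :=
  ∃ (t' : T ⟶ c.V.toScheme) (Z' : Obj c.fi d (Over.mk t')),
    y = (⟨t' ≫ c.V.ι, psh d c (Over.mk t') Z'⟩ : El f d T)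

theorem fromChart_elMap (c : Idx f) {T : Scheme.{u}} (v : T ⟶ (Hi d c).left) :
    FromChart c (elMap v (ξi d c)) := by
  let t' : T ⟶ c.V.toScheme := v ≫ (Hi d c).hom
  let γ : Over.mk t' ⟶ Hi d c := Over.homMk v rfl
  refine ⟨t', pullObj c.fi γ (Zi d c), ?_⟩
  rw [elMap_eq_iff]
  refine ⟨(Category.assoc _ _ _).symm, ?_⟩
  exact pull_opush f c.fi c.U.ι c.V.ι c.fi_comm γ (Zi d c)

theorem exists_of_fromChart (c : Idx f) {T : Scheme.{u}} (y : El f d T) (h : FromChart c y) :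
    ∃ v : T ⟶ (Hi d c).left, elMap v (ξi d c) = y := by
  obtain ⟨t', Z', rfl⟩ := h
  obtain ⟨g, hg, -⟩ := univ_i d c (Over.mk t') Z'
  refine ⟨g.left, ?_⟩
  rw [elMap_eq_iff]
  refine ⟨?_, ?_⟩
  · change g.left ≫ (Hi d c).hom ≫ c.V.ι = t' ≫ c.V.ι
    rw [← Category.assoc, Over.w g]
    rfl
  · have h1 := pull_opush f c.fi c.U.ι c.V.ι c.fi_comm g (Zi d c)
    rw [hg] at h1
    exact h1

/-- the structure map of the family. -/
noncomputable abbrev famπ {T : Scheme.{u}} (x : El f d T) : x.2.1.subscheme ⟶ T :=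
  x.2.1.subschemeι ≫ XTproj f (Over.mk x.1)

/-- the map of the family to `X`. -/
noncomputable abbrev famX {T : Scheme.{u}} (x : El f d T) : x.2.1.subscheme ⟶ X :=
  x.2.1.subschemeι ≫ pullback.fst f (Over.mk x.1).hom

/-- the family lies over `U`. -/
def InU (c : Idx f) {T : Scheme.{u}} (y : El f d T) : Prop := ∀ z : y.2.1.subscheme, famX y z ∈ c.U

theorem fromChart_iff (c : Idx f) {T : Scheme.{u}} (y : El f d T) :
    FromChart c y ↔ (∀ q : T, y.1 q ∈ c.V) ∧ InU c y := by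
  constructor
  · rintro ⟨t', Z', rfl⟩
    constructor
    · intro q
      change (t' ≫ c.V.ι) q ∈ c.V
      rw [Scheme.Hom.comp_apply]
      exact (t' q).2
    · intro z
      have h1 := range_opush_subset f c.fi c.U.ι c.V.ι c.fi_comm (Over.mk t') Z' ⟨z, rfl⟩
      rw [range_κT] at h1
      obtain ⟨u, hu⟩ := h1
      change (_ ≫ pullback.fst f _) z ∈ c.U
      rw [Scheme.Hom.comp_apply]
      have hu' : c.U.ι u ∈ c.U := u.2
      rw [hu] at hu'
      exact hu'
  · rintro ⟨h1, h2⟩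
    obtain ⟨t, Z⟩ := y
    have hr : Set.range t ⊆ Set.range c.V.ι := by
      rw [Scheme.Opens.range_ι]
      rintro _ ⟨q, rfl⟩
      exact h1 q
    obtain ⟨t', rfl⟩ : ∃ t' : T ⟶ c.V.toScheme, t' ≫ c.V.ι = t :=
      ⟨IsOpenImmersion.lift c.V.ι t hr, IsOpenImmersion.lift_fac _ _ _⟩
    have hZ : Set.range Z.1.subschemeι ⊆
        Set.range (κT f c.fi c.U.ι c.V.ι c.fi_comm (Over.mk t')) := by
      rw [range_κT, Scheme.Opens.range_ι]
      rintro _ ⟨z, rfl⟩
      have := h2 z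
      change (_ ≫ pullback.fst f _) z ∈ c.U at this
      rw [Scheme.Hom.comp_apply] at this
      exact this
    obtain ⟨Z', hZ'⟩ := exists_opush_eq f c.fi c.U.ι c.V.ι c.fi_comm (Over.mk t') Z hZ
    exact ⟨t', Z', El.mk_eq_mk_iff.mpr hZ'.symm⟩

/-- the locus over which the family does not lie over `U`. -/
def bad (c : Idx f) {T : Scheme.{u}} (x : El f d T) : Set T :=
  famπ x '' (famX x ⁻¹' (c.U : Set X)ᶜ)

lemma isClosed_bad (c : Idx f) {T : Scheme.{u}} (x : El f d T) : IsClosed (bad c x) := by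
  haveI : IsFinite (famπ x) := x.2.2.1.1
  exact (famπ x).isClosedMap _ (IsClosed.preimage (famX x).continuous c.U.2.isClosed_compl)

theorem inU_elMap_iff (c : Idx f) {T T' : Scheme.{u}} (a : T' ⟶ T) (x : El f d T) :
    InU c (elMap a x) ↔ Disjoint (Set.range a) (bad c x) := by
  let ζ := x.2.1.subschemeι
  let m := XTmap f (oMk a (rfl : a ≫ x.1 = a ≫ x.1))
  let ζa := pullback.snd ζ m
  obtain ⟨e, he⟩ := exists_iso_subscheme_ker ζa
  have hm1 : m ≫ pullback.fst f (Over.mk x.1).hom = pullback.fst f (Over.mk (a ≫ x.1)).hom :=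
    XTmap_fst f _
  have hm2 : m ≫ XTproj f (Over.mk x.1) = XTproj f (Over.mk (a ≫ x.1)) ≫ a := XTmap_snd f _
  have hsub : (elMap a x).2.1.subschemeι = ζa.ker.subschemeι := rfl
  rw [Set.disjoint_left]
  constructor
  · rintro hin _ ⟨q', rfl⟩ ⟨z, hz, hpz⟩
    have hpz' : XTproj f (Over.mk x.1) (ζ z) = a q' := by
      rw [← Scheme.Hom.comp_apply]
      exact hpz
    obtain ⟨y', hy'1, -⟩ := Scheme.exists_preimage_of_isPullback
      (isPullback_XTmap f (oMk a (rfl : a ≫ x.1 = a ≫ x.1))) (ζ z) q' hpz'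
    obtain ⟨w, hw1, hw2⟩ := Scheme.Pullback.exists_preimage_pullback (f := ζ) (g := m) z y'
      hy'1.symm
    apply hz
    have h5 : ζa.ker.subschemeι (e.hom w) = ζa w := by
      rw [← Scheme.Hom.comp_apply, he]
    have h1 : pullback.fst f (Over.mk (a ≫ x.1)).hom (ζa.ker.subschemeι (e.hom w)) ∈ c.U :=
      hin (e.hom w)
    rw [h5] at h1
    change pullback.fst f _ (pullback.snd ζ m w) ∈ c.U at h1
    rw [hw2, ← hm1, Scheme.Hom.comp_apply, hy'1] at h1
    change (ζ ≫ pullback.fst f _) z ∈ c.U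
    rw [Scheme.Hom.comp_apply]
    exact h1
  · intro hdis z''
    by_contra hc
    have he' : e.inv ≫ ζa = ζa.ker.subschemeι := (Iso.inv_comp_eq e).mpr he.symm
    let w := e.inv z''
    let z := pullback.fst ζ m w
    have hcond : ζ z = m (ζa w) := by
      change (pullback.fst ζ m ≫ ζ) w = (pullback.snd ζ m ≫ m) w
      rw [pullback.condition]
    have hy' : ζa w = (elMap a x).2.1.subschemeι z'' := by
      rw [hsub, ← he']
      rfl
    refine hdis ⟨XTproj f (Over.mk (a ≫ x.1)) (ζa w), rfl⟩ ⟨z, ?_, ?_⟩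
    · intro hzU
      apply hc
      change (ζ ≫ pullback.fst f _) z ∈ c.U at hzU
      rw [Scheme.Hom.comp_apply, hcond, ← Scheme.Hom.comp_apply, hm1, hy'] at hzU
      change ((elMap a x).2.1.subschemeι ≫ pullback.fst f _) z'' ∈ c.U
      rw [Scheme.Hom.comp_apply]
      exact hzU
    · change (ζ ≫ XTproj f _) z = _
      rw [Scheme.Hom.comp_apply, hcond, ← Scheme.Hom.comp_apply, hm2, Scheme.Hom.comp_apply]

/-- the open locus of the chart. -/
def WW (c : Idx f) {T : Scheme.{u}} (x : El f d T) : T.Opens :=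
  x.1 ⁻¹ᵁ c.V ⊓ ⟨(bad c x)ᶜ, (isClosed_bad c x).isOpen_compl⟩

lemma mem_WW (c : Idx f) {T : Scheme.{u}} (x : El f d T) (q : T) :
    q ∈ WW c x ↔ x.1 q ∈ c.V ∧ q ∉ bad c x := Iff.rfl

theorem hW_i (c : Idx f) (T : Scheme.{u}) (x : El f d T) (T' : Scheme.{u}) (a : T' ⟶ T) :
    (∃ v : T' ⟶ (Hi d c).left, (hilbFun f d).pull v (ξi d c) = (hilbFun f d).pull a x) ↔
      Set.range a ⊆ WW c x := by
  constructor
  · rintro ⟨v, hv⟩
    change elMap v (ξi d c) = elMap a x at hv
    have h1 : FromChart c (elMap a x) := hv ▸ fromChart_elMap c v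
    obtain ⟨h2, h3⟩ := (fromChart_iff c _).mp h1
    have h4 := (inU_elMap_iff c a x).mp h3
    rintro _ ⟨q', rfl⟩
    exact (mem_WW c x _).mpr ⟨h2 q', Set.disjoint_left.mp h4 ⟨q', rfl⟩⟩
  · intro h
    have h4 : Disjoint (Set.range a) (bad c x) :=
      Set.disjoint_left.mpr (fun q hq => ((mem_WW c x q).mp (h hq)).2)
    have h3 := (inU_elMap_iff c a x).mpr h4
    have h2 : ∀ q' : T', (elMap a x).1 q' ∈ c.V := fun q' => ((mem_WW c x _).mp (h ⟨q', rfl⟩)).1
    exact exists_of_fromChart c _ ((fromChart_iff c _).mpr ⟨h2, h3⟩)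


theorem hmono_aux (c : Idx f) {T : Scheme.{u}} (v v' : T ⟶ (Hi d c).left) (t : T ⟶ S)
    (h1 : v ≫ (ξi d c).1 = t) (h1' : v' ≫ (ξi d c).1 = t)
    (h : pull f (oMk v h1) (ξi d c).2.1 = pull f (oMk v' h1') (ξi d c).2.1) : v = v' := by
  have h0 : v ≫ (Hi d c).hom = v' ≫ (Hi d c).hom := by
    rw [← cancel_mono c.V.ι, Category.assoc, Category.assoc]
    exact h1.trans h1'.symm
  have ht : t = (v' ≫ (Hi d c).hom) ≫ c.V.ι := by
    rw [← h1', Category.assoc]
    rfl
  subst ht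
  let γ : Over.mk (v' ≫ (Hi d c).hom) ⟶ Hi d c := Over.homMk v h0
  let γ' : Over.mk (v' ≫ (Hi d c).hom) ⟶ Hi d c := Over.homMk v' rfl
  have e1 := pull_opush f c.fi c.U.ι c.V.ι c.fi_comm γ (Zi d c)
  have e2 := pull_opush f c.fi c.U.ι c.V.ι c.fi_comm γ' (Zi d c)
  have e3 : opush f c.fi c.U.ι c.V.ι c.fi_comm _ (pullObj c.fi γ (Zi d c)).1 =
      opush f c.fi c.U.ι c.V.ι c.fi_comm _ (pullObj c.fi γ' (Zi d c)).1 :=
    e1.symm.trans (h.trans e2)
  have e4 := opush_injective f c.fi c.U.ι c.V.ι c.fi_comm _ _ _ e3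
  have e5 : γ = γ' := (univ_i d c _ (pullObj c.fi γ' (Zi d c))).unique e4 rfl
  exact congrArg (fun g => g.left) e5

theorem hmono_i (c : Idx f) (T : Scheme.{u}) (v v' : T ⟶ (Hi d c).left)
    (h : (hilbFun f d).pull v (ξi d c) = (hilbFun f d).pull v' (ξi d c)) : v = v' := by
  change elMap v (ξi d c) = elMap v' (ξi d c) at h
  obtain ⟨h1, h2⟩ := (elMap_eq_iff v (ξi d c) (elMap v' (ξi d c))).mp h
  exact hmono_aux c v v' (v' ≫ (ξi d c).1) h1 rfl h2

theorem hcov_i (hAF : ∀ (s : S) (x : Fin d → X), (∀ k, f (x k) = s) →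
      ∃ U : X.Opens, IsAffineOpen U ∧ ∀ k, x k ∈ U)
    (T : Scheme.{u}) (x : El f d T) (q : T) : ∃ c : Idx f, q ∈ WW c x := by
  obtain ⟨(V : S.Opens), hV, hsV, -⟩ :=
    exists_isAffineOpen_mem_and_subset (x := x.1 q) (U := ⊤) trivial
  obtain ⟨n, hn, e, he, hsurj⟩ := Groth.Agent.Lib.Helper10.HilbFibre.exists_fin_fibre (famπ x)
    x.2.2 q
  let pts : Fin n → X := fun k => famX x (e k)
  have hcond : famX x ≫ f = famπ x ≫ x.1 := by
    change (_ ≫ pullback.fst f (Over.mk x.1).hom) ≫ f = (_ ≫ pullback.snd f (Over.mk x.1).hom) ≫ x.1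
    rw [Category.assoc, Category.assoc, pullback.condition]
    rfl
  have hfz : ∀ k, f (pts k) = x.1 q := by
    intro k
    change f (famX x (e k)) = _
    rw [← Scheme.Hom.comp_apply, hcond, Scheme.Hom.comp_apply, he]
  have hU' : ∃ U' : X.Opens, IsAffineOpen U' ∧ ∀ k, pts k ∈ U' := by
    rcases Nat.eq_zero_or_pos n with hn0 | hn0
    · subst hn0
      exact ⟨⊥, isAffineOpen_bot X, fun k => k.elim0⟩
    · let x' : Fin d → X := fun k => pts ⟨min k.val (n - 1), by omega⟩
      obtain ⟨U', hU', hx'⟩ := hAF (x.1 q) x' (fun k => hfz _)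
      refine ⟨U', hU', fun k => ?_⟩
      have hk : k.val < d := lt_of_lt_of_le k.2 hn
      have h1 := hx' ⟨k.val, hk⟩
      have h2 : x' ⟨k.val, hk⟩ = pts k := by
        change pts ⟨min k.val (n - 1), _⟩ = pts k
        congr 1
        apply Fin.ext
        change min k.val (n - 1) = k.val
        have := k.2
        omega
      rw [h2] at h1
      exact h1
  obtain ⟨U', hU', hxU'⟩ := hU'
  obtain ⟨U, hU, hUO, -, hxU⟩ := FinAffine.exists_affineOpen_of_finite hU' (f ⁻¹ᵁ V) pts hxU'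
    (fun k => by
      change f (pts k) ∈ V
      rw [hfz]
      exact hsV)
  refine ⟨⟨V, U, hV, hU, hUO⟩, (mem_WW _ x q).mpr ⟨hsV, ?_⟩⟩
  rintro ⟨z₀, hz₀, hpz₀⟩
  apply hz₀
  obtain ⟨k, rfl⟩ := hsurj z₀ hpz₀
  exact hxU k

/-- **Representability of the Hilbert functor of points.** -/
theorem representable_of_AF (d : ℕ) (hAF : ∀ (s : S) (x : Fin d → X), (∀ k, f (x k) = s) →
      ∃ U : X.Opens, IsAffineOpen U ∧ ∀ k, x k ∈ U) : HilbD.Representable f d := by
  obtain ⟨M₀, ξ₀, hR⟩ := exists_rep_of_open_cover (hilbFun f d) (fun c : Idx f => (Hi d c).left)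
    (fun c => ξi d c) (fun c T v v' h => hmono_i c T v v' h) (fun c T x => WW c x)
    (fun c T x T' a => hW_i c T x T' a) (fun T x q => hcov_i hAF T x q) (hilbFun_isSheaf f d)
  exact representable_of_rep hR

end Groth.Agent.Lib.Helper10.HilbGlue
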