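import Mathlib
import Groth.Agent.Lib.Helper10.WeilClosed8
import Groth.Agent.Lib.Helper10.PreLocus
import Groth.Agent.Lib.Helper14.LfpOfComp

/-!
# Transporter-type loci over a general base: closedness and finite presentation
-/

set_option autoImplicit false
set_option backward.isDefEq.respectTransparency.types false
set_option maxHeartbeats 4000000
set_option synthInstance.maxHeartbeats 400000
universe u
open CategoryTheory CategoryTheory.Limits AlgebraicGeometry MonoidalCategory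
  CartesianMonoidalCategory

namespace Groth.Agent.Lib.Helper10.PreLocus

open Groth.Agent.Lib.Helper10.ClosedSubF Groth.Agent.Lib.Helper10.WeilClosed

variable {S₀ : Scheme.{u}} {X Y B C : Over S₀}

theorem exists_over_of_repBy_lfp (Φ : SubF X.left) [LocallyOfFinitePresentation X.hom]
    {T₀ : Scheme.{u}} (t : T₀ ⟶ X.left) [IsClosedImmersion t] (h : Φ.RepBy t) (hfp : Φ.RepLFP) :
    ∃ (Z : Over S₀) (j : Z ⟶ X), IsClosedImmersion j.left ∧ LocallyOfFinitePresentation Z.hom ∧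
      ∀ (T : Over S₀) (x : T ⟶ X), (∃ z : T ⟶ Z, z ≫ j = x) ↔ Φ.P x.left := by
  haveI : LocallyOfFinitePresentation t := hfp t ‹_› h
  let Z : Over S₀ := Over.mk (t ≫ X.hom)
  let j : Z ⟶ X := Over.homMk t rfl
  refine ⟨Z, j, ‹_›, inferInstanceAs (LocallyOfFinitePresentation (t ≫ X.hom)), fun T x => ?_⟩
  rw [h x.left]
  constructor
  · rintro ⟨z, rfl⟩
    exact ⟨z.left, rfl⟩
  · rintro ⟨g', hg'⟩
    refine ⟨Over.homMk g' ?_, ?_⟩
    · change g' ≫ t ≫ X.hom = T.hom
      rw [← Category.assoc, hg', Over.w]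
    · apply Over.OverMorphism.ext
      exact hg'

/-- a closed subscheme of `B` which is lfp over the base, `B` being locally of finite type, is
lfp in `B`. -/
theorem lfp_left_of_lfp (i : C ⟶ B) [LocallyOfFiniteType B.hom]
    [LocallyOfFinitePresentation C.hom] : LocallyOfFinitePresentation i.left :=
  Groth.Agent.Lib.Helper14.AS.locallyOfFinitePresentation_of_comp i.left B.hom
    (by rw [Over.w]; infer_instance) inferInstance

theorem exists_closed_pre_lfp_of_affLocProj [LocallyOfFinitePresentation X.hom]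
    (hY : AffLocProj Y.hom) (m : Y ⊗ X ⟶ B) (i : C ⟶ B)
    [IsClosedImmersion i.left] [LocallyOfFinitePresentation i.left] :
    ∃ (Z : Over S₀) (j : Z ⟶ X), IsClosedImmersion j.left ∧ LocallyOfFinitePresentation Z.hom ∧
      ∀ (T : Over S₀) (x : T ⟶ X), (∃ z : T ⟶ Z, z ≫ j = x) ↔
        ∀ (T' : Over S₀) (h : T' ⟶ T) (y : T' ⟶ Y),
          ∃ c : T' ⟶ C, lift y (h ≫ x) ≫ m = c ≫ i := by
  obtain ⟨T₀, t, ht, hrep⟩ := exists_repBy_of_affLocProj hY
    (IsPullback.of_hasPullback Y.hom X.hom) (pullback.snd i.left m.left)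
  have hfp := repLFP_of_affLocProj hY
    (IsPullback.of_hasPullback Y.hom X.hom) (pullback.snd i.left m.left)
  obtain ⟨Z, j, hj, hZ, h⟩ := exists_over_of_repBy_lfp (preSub m i) t hrep hfp
  exact ⟨Z, j, hj, hZ, fun T x => (h T x).trans (preSub_iff m i x)⟩

theorem exists_closed_pre_lfp_of_fpqc [LocallyOfFinitePresentation X.hom] {S' : Scheme.{u}}
    (c : S' ⟶ S₀) [Flat c]
    (hfpqc : ∀ V : S₀.Opens, IsAffineOpen V → ∃ W : S'.Opens, IsCompact (W : Set S') ∧
      c.base '' (W : Set S') = (V : Set S₀))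
    (hp' : AffLocProj (pullback.snd Y.hom c)) (m : Y ⊗ X ⟶ B) (i : C ⟶ B)
    [IsClosedImmersion i.left] [LocallyOfFinitePresentation i.left] :
    ∃ (Z : Over S₀) (j : Z ⟶ X), IsClosedImmersion j.left ∧ LocallyOfFinitePresentation Z.hom ∧
      ∀ (T : Over S₀) (x : T ⟶ X), (∃ z : T ⟶ Z, z ≫ j = x) ↔
        ∀ (T' : Over S₀) (h : T' ⟶ T) (y : T' ⟶ Y),
          ∃ c : T' ⟶ C, lift y (h ≫ x) ≫ m = c ≫ i := by
  obtain ⟨T₀, t, ht, hrep⟩ := exists_repBy_of_affLocProj_of_fpqc
    (IsPullback.of_hasPullback Y.hom X.hom) (pullback.snd i.left m.left) hfpqc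
    (IsPullback.of_hasPullback Y.hom c) hp'
  have hfp := repLFP_of_affLocProj_of_fpqc
    (IsPullback.of_hasPullback Y.hom X.hom) (pullback.snd i.left m.left) hfpqc
    (IsPullback.of_hasPullback Y.hom c) hp'
  obtain ⟨Z, j, hj, hZ, h⟩ := exists_over_of_repBy_lfp (preSub m i) t hrep hfp
  exact ⟨Z, j, hj, hZ, fun T x => (h T x).trans (preSub_iff m i x)⟩

/-- closedness without finite presentation, fpqc-local version. -/
theorem exists_closed_pre_of_fpqc {S' : Scheme.{u}}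
    (c : S' ⟶ S₀) [Flat c]
    (hfpqc : ∀ V : S₀.Opens, IsAffineOpen V → ∃ W : S'.Opens, IsCompact (W : Set S') ∧
      c.base '' (W : Set S') = (V : Set S₀))
    (hp' : AffLocProj (pullback.snd Y.hom c)) (m : Y ⊗ X ⟶ B) (i : C ⟶ B)
    [IsClosedImmersion i.left] :
    ∃ (Z : Over S₀) (j : Z ⟶ X), IsClosedImmersion j.left ∧
      ∀ (T : Over S₀) (x : T ⟶ X), (∃ z : T ⟶ Z, z ≫ j = x) ↔
        ∀ (T' : Over S₀) (h : T' ⟶ T) (y : T' ⟶ Y),
          ∃ c : T' ⟶ C, lift y (h ≫ x) ≫ m = c ≫ i := by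
  obtain ⟨T₀, t, ht, hrep⟩ := exists_repBy_of_affLocProj_of_fpqc
    (IsPullback.of_hasPullback Y.hom X.hom) (pullback.snd i.left m.left) hfpqc
    (IsPullback.of_hasPullback Y.hom c) hp'
  obtain ⟨Z, j, hj, h⟩ := exists_over_of_repBy (preSub m i) t hrep
  exact ⟨Z, j, hj, fun T x => (h T x).trans (preSub_iff m i x)⟩

end Groth.Agent.Lib.Helper10.PreLocus
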