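import Mathlib
import Groth.Agent.Lib.Helper10.HomScheme
import Groth.Agent.Lib.Helper10.PreLocus2

/-!
# The scheme of group homomorphisms from a finite locally free group scheme to an affine group
scheme
-/

set_option autoImplicit false
set_option backward.isDefEq.respectTransparency.types false
set_option maxHeartbeats 4000000
set_option synthInstance.maxHeartbeats 400000
universe u
open CategoryTheory CategoryTheory.Limits AlgebraicGeometry Opposite MonoidalCategory
  CartesianMonoidalCategory MonObj GrpObj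

namespace Groth.Agent.Lib.Helper10.HomGrp

open Groth.Agent.Lib.Helper10.WeilClosed Groth.Agent.Lib.Helper10.PreLocus
  Groth.Agent.Lib.Helper10.ClosedSubF

section Locus

variable {S₀ : Scheme.{u}} {X Y B C : Over S₀}

/-- closed locus `{x | ∀ y, m(y, x) ∈ C}` with conditional finite presentation of the closed
immersion. -/
theorem exists_closed_pre_of_affLocProj' (hY : AffLocProj Y.hom) (m : Y ⊗ X ⟶ B) (i : C ⟶ B)
    [IsClosedImmersion i.left] :
    ∃ (Z : Over S₀) (j : Z ⟶ X), IsClosedImmersion j.left ∧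
      (LocallyOfFinitePresentation i.left → LocallyOfFinitePresentation j.left) ∧
      ∀ (T : Over S₀) (x : T ⟶ X), (∃ z : T ⟶ Z, z ≫ j = x) ↔
        ∀ (T' : Over S₀) (h : T' ⟶ T) (y : T' ⟶ Y),
          ∃ c : T' ⟶ C, lift y (h ≫ x) ≫ m = c ≫ i := by
  obtain ⟨T₀, t, ht, hrep⟩ := exists_repBy_of_affLocProj hY
    (IsPullback.of_hasPullback Y.hom X.hom) (pullback.snd i.left m.left)
  let Z : Over S₀ := Over.mk (t ≫ X.hom)
  let j : Z ⟶ X := Over.homMk t rfl
  refine ⟨Z, j, ht, ?_, fun T x => ?_⟩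
  · intro hi
    haveI := hi
    exact repLFP_of_affLocProj hY (IsPullback.of_hasPullback Y.hom X.hom)
      (pullback.snd i.left m.left) t ht hrep
  · rw [← preSub_iff m i x]
    have hrep' : (preSub m i).RepBy t := hrep
    rw [hrep' x.left]
    constructor
    · rintro ⟨z, rfl⟩
      exact ⟨z.left, rfl⟩
    · rintro ⟨g', hg'⟩
      refine ⟨Over.homMk g' ?_, ?_⟩
      · change g' ≫ t ≫ X.hom = T.hom
        rw [← Category.assoc, hg', Over.w]
      · apply Over.OverMorphism.ext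
        exact hg'

end Locus

variable {S : Scheme.{u}} (G G' : Over S) [GrpObj G] [GrpObj G']

theorem mono_of_isClosedImmersion_left {A B : Over S} (j : A ⟶ B) [IsClosedImmersion j.left] :
    Mono j := by
  refine ⟨fun {Z} g h hgh => ?_⟩
  apply Over.OverMorphism.ext
  have := congrArg (fun m => m.left) hgh
  simp only [Over.comp_left] at this
  exact (cancel_mono j.left).1 this

/-- **The scheme of group homomorphisms** from a finite group scheme with locally projective
coordinate ring to an affine group scheme. -/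
theorem exists_homGrp (hfin : IsFinite G.hom) (hproj : AffLocProj G.hom) [IsAffineHom G'.hom] :
    ∃ (M : Over S) (ev : G ⊗ M ⟶ G'), IsAffineHom M.hom ∧
      (LocallyOfFiniteType G'.hom → LocallyOfFiniteType M.hom) ∧
      (LocallyOfFinitePresentation G'.hom → LocallyOfFinitePresentation M.hom) ∧
      (∀ (X : Over S) (a b : X ⟶ G) (m : X ⟶ M),
        lift (a * b) m ≫ ev = (lift a m ≫ ev) * (lift b m ≫ ev)) ∧
      ∀ (T : Over S) (φ : G ⊗ T ⟶ G'),
        (∀ (X : Over S) (a b : X ⟶ G) (t : X ⟶ T),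
          lift (a * b) t ≫ φ = (lift a t ≫ φ) * (lift b t ≫ φ)) →
        ∃! v : T ⟶ M, (G ◁ v) ≫ ev = φ := by
  obtain ⟨M₀, ev₀, hM₀a, hM₀ft, hM₀fp, huniv⟩ :=
    Groth.Agent.Lib.Helper10.HomScheme.exists_homScheme G G' hfin hproj
  haveI : IsSeparated G'.hom := inferInstance
  haveI := isClosedImmersion_diag_left G'
  -- the two maps `(b, (a, m)) ↦ ev₀(ab, m)` and `(b, (a, m)) ↦ ev₀(a, m) ev₀(b, m)`
  let pb : G ⊗ (G ⊗ M₀) ⟶ G := fst G (G ⊗ M₀)
  let pa : G ⊗ (G ⊗ M₀) ⟶ G := snd G (G ⊗ M₀) ≫ fst G M₀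
  let pm : G ⊗ (G ⊗ M₀) ⟶ M₀ := snd G (G ⊗ M₀) ≫ snd G M₀
  let c₁ : G ⊗ (G ⊗ M₀) ⟶ G' := lift (pa * pb) pm ≫ ev₀
  let c₂ : G ⊗ (G ⊗ M₀) ⟶ G' := (lift pa pm ≫ ev₀) * (lift pb pm ≫ ev₀)
  have hc₁ : ∀ {W : Over S} (b a : W ⟶ G) (m' : W ⟶ M₀),
      lift b (lift a m') ≫ c₁ = lift (a * b) m' ≫ ev₀ := by
    intro W b a m'
    simp only [c₁, pa, pb, pm, ← Category.assoc, comp_lift, MonObj.comp_mul, lift_fst, lift_snd]
  have hc₂ : ∀ {W : Over S} (b a : W ⟶ G) (m' : W ⟶ M₀),
      lift b (lift a m') ≫ c₂ = (lift a m' ≫ ev₀) * (lift b m' ≫ ev₀) := by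
    intro W b a m'
    simp only [c₂, pa, pb, pm, ← Category.assoc, comp_lift, MonObj.comp_mul, lift_fst, lift_snd]
  obtain ⟨Z', j', hj', hj'fp, hZ'⟩ := exists_closed_pre_of_affLocProj' (X := G ⊗ M₀) hproj
    (lift c₁ c₂) (lift (𝟙 G') (𝟙 G'))
  haveI := hj'
  obtain ⟨K, j, hj, hjfp, hK⟩ := exists_closed_pre_of_affLocProj' (X := M₀) hproj
    (𝟙 (G ⊗ M₀)) j'
  haveI := hj
  haveI : Mono j := mono_of_isClosedImmersion_left j
  have hdiag : ∀ {W : Over S} (w : W ⟶ G ⊗ (G ⊗ M₀)),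
      (∃ c : W ⟶ G', w ≫ lift c₁ c₂ = c ≫ lift (𝟙 G') (𝟙 G')) ↔ w ≫ c₁ = w ≫ c₂ := by
    intro W w
    constructor
    · rintro ⟨c, hc⟩
      have h1 := congrArg (fun m => m ≫ fst G' G') hc
      have h2 := congrArg (fun m => m ≫ snd G' G') hc
      simp only [Category.assoc, lift_fst, lift_snd, Category.comp_id] at h1 h2
      rw [h1, h2]
    · intro h12
      refine ⟨w ≫ c₁, ?_⟩
      apply CartesianMonoidalCategory.hom_ext
      · simp
      · simp [h12]
  -- the key equivalence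
  have hkey : ∀ {T : Over S} (x : T ⟶ M₀), (∃ z : T ⟶ K, z ≫ j = x) ↔
      ∀ (X : Over S) (a b : X ⟶ G) (t : X ⟶ T),
        lift (a * b) t ≫ (G ◁ x) ≫ ev₀ = (lift a t ≫ (G ◁ x) ≫ ev₀) * (lift b t ≫ (G ◁ x) ≫ ev₀) := by
    intro T x
    rw [hK T x]
    constructor
    · intro h X a b t
      obtain ⟨c, hc⟩ := h X t a
      rw [Category.comp_id] at hc
      have h2 := (hZ' X (lift a (t ≫ x))).1 ⟨c, hc.symm⟩ X (𝟙 X) b
      rw [hdiag, Category.id_comp, hc₁, hc₂] at h2
      simp only [← Category.assoc, lift_whiskerLeft]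
      exact h2
    · intro h T' g y
      have : ∃ c : T' ⟶ Z', c ≫ j' = lift y (g ≫ x) := by
        rw [hZ' T' (lift y (g ≫ x))]
        intro T'' g' y'
        rw [hdiag, comp_lift, hc₁, hc₂]
        have := h T'' (g' ≫ y) y' (g' ≫ g)
        simp only [← Category.assoc, lift_whiskerLeft] at this
        simpa only [Category.assoc] using this
      obtain ⟨c, hc⟩ := this
      exact ⟨c, by rw [Category.comp_id, hc]⟩
  have hKhom : K.hom = j.left ≫ M₀.hom := (Over.w j).symm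
  refine ⟨K, (G ◁ j) ≫ ev₀, ?_, ?_, ?_, ?_, ?_⟩
  · rw [hKhom]
    infer_instance
  · intro h
    haveI := hM₀ft h
    rw [hKhom]
    infer_instance
  · intro h
    haveI := hM₀fp h
    haveI := h
    haveI : LocallyOfFiniteType G'.hom := inferInstance
    haveI : LocallyOfFiniteType (G' ⊗ G').hom := by
      have : (G' ⊗ G').hom = pullback.fst G'.hom G'.hom ≫ G'.hom := rfl
      rw [this]
      infer_instance
    haveI : LocallyOfFinitePresentation (lift (𝟙 G') (𝟙 G')).left :=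
      lfp_left_of_lfp (lift (𝟙 G') (𝟙 G'))
    haveI := hj'fp inferInstance
    haveI := hjfp inferInstance
    rw [hKhom]
    infer_instance
  · intro X a b m
    have := (hkey j).1 ⟨𝟙 K, Category.id_comp j⟩ X a b m
    simpa only [Category.assoc] using this
  · intro T φ hφ
    obtain ⟨v₀, hv₀, hv₀u⟩ := huniv T φ
    have hv₀' : (G ◁ v₀) ≫ ev₀ = φ := hv₀
    obtain ⟨z, hz⟩ := (hkey v₀).2 (by
      intro X a b t
      rw [hv₀']
      exact hφ X a b t)
    refine ⟨z, ?_, ?_⟩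
    · change (G ◁ z) ≫ (G ◁ j) ≫ ev₀ = φ
      rw [← Category.assoc, ← MonoidalCategory.whiskerLeft_comp, hz, hv₀']
    · intro v hv
      have hv' : (G ◁ v) ≫ (G ◁ j) ≫ ev₀ = φ := hv
      rw [← Category.assoc, ← MonoidalCategory.whiskerLeft_comp] at hv'
      have := hv₀u (v ≫ j) hv'
      rw [← hz] at this
      exact (cancel_mono j).1 this

end Groth.Agent.Lib.Helper10.HomGrp
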