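import Mathlib
import Groth.Agent.Lib.Helper10.OrbConn1

/-!
# Connectedness of a group acting transitively on an irreducible scheme with connected stabilizer
-/

set_option autoImplicit false
set_option backward.isDefEq.respectTransparency.types false
set_option maxHeartbeats 4000000
set_option synthInstance.maxHeartbeats 400000
universe u
open CategoryTheory CategoryTheory.Limits AlgebraicGeometry MonoidalCategory
  CartesianMonoidalCategory MonObj GrpObj

namespace Groth.Agent.Lib.Helper10.OrbConn

open Groth.Agent.Lib.Helper10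

variable {k : Type u} [Field k] [IsAlgClosed k]
variable (G : Over (Spec (CommRingCat.of k))) [GrpObj G]
variable (pt : ↥(𝟙_ (Over (Spec (CommRingCat.of k)))).left)

/-- every irreducible component of a group scheme locally of finite type over an algebraically
closed field is a translate of the unit component by a rational point. -/
theorem exists_translate [LocallyOfFiniteType G.hom] (C : Set ↥G.left)
    (hC : C ∈ irreducibleComponents ↥G.left) :
    ∃ g : 𝟙_ (Over (Spec (CommRingCat.of k))) ⟶ G, g.left pt ∈ C ∧
      C = (IdComp.ltr g).left '' IdComp.Z0 k G pt := by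
  obtain ⟨g, hg⟩ := exists_point_mem_of_isClosed G C
    (isClosed_of_mem_irreducibleComponents C hC) hC.1.nonempty
  refine ⟨g, hg pt, ?_⟩
  haveI : IsIso (IdComp.ltr g).left := (Over.forget _).map_isIso (IdComp.ltr g)
  let e := (IdComp.ltr g).left.homeomorph
  have he : ∀ z, e z = (IdComp.ltr g).left z := fun _ => rfl
  have hunit : (IdComp.ltr g).left (η[G].left pt) = g.left pt := by
    rw [← Scheme.Hom.comp_apply, ← Over.comp_left, IdComp.unit_ltr]
  have hCeq : C = irreducibleComponent (g.left pt) :=
    (IdComp.uniqueComp k G (g.left pt)).eq_irreducibleComponent hC (hg pt)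
  apply Set.Subset.antisymm
  · intro c hc
    have h1 : IsIrreducible (e.symm '' C) := hC.1.image _ e.symm.continuous.continuousOn
    have h2 : η[G].left pt ∈ e.symm '' C := by
      refine ⟨g.left pt, hg pt, ?_⟩
      rw [← hunit, ← he, e.symm_apply_apply]
    have h3 := (IdComp.uniqueComp k G (η[G].left pt)).subset_irreducibleComponent h1 h2
    refine ⟨e.symm c, h3 ⟨c, hc, rfl⟩, ?_⟩
    rw [← he, e.apply_symm_apply]
  · have h1 : IsIrreducible ((IdComp.ltr g).left '' IdComp.Z0 k G pt) :=
      (IdComp.Z0_mem k G pt).1.image _ (IdComp.ltr g).left.continuous.continuousOn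
    have h2 : g.left pt ∈ (IdComp.ltr g).left '' IdComp.Z0 k G pt :=
      ⟨_, IdComp.unit_mem_Z0 k G pt, hunit⟩
    rw [hCeq]
    exact (IdComp.uniqueComp k G (g.left pt)).subset_irreducibleComponent h1 h2

variable {G}

omit [IsAlgClosed k] in
theorem dense_image_atr {X : Over (Spec (CommRingCat.of k))} (a : AlgGrp.Action G X)
    (g : 𝟙_ (Over (Spec (CommRingCat.of k))) ⟶ G) {S : Set ↥X.left} (hS : Dense S) :
    Dense ((atr a g).left '' S) := by
  haveI : IsIso (atr a g).left := (Over.forget _).map_isIso (atr a g)
  exact ((atr a g).left.homeomorph.surjective.denseRange).dense_image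
    (atr a g).left.continuous hS

/-- a group of finite type acting transitively on an irreducible scheme such that the rational
points of the stabilizer of a rational point lie in the neutral component is connected. -/
theorem connectedSpace_of_orbit [LocallyOfFiniteType G.hom] [QuasiCompact G.hom]
    (X : Over (Spec (CommRingCat.of k))) [LocallyOfFiniteType X.hom] [IrreducibleSpace ↥X.left]
    (a : AlgGrp.Action G X) (x₀ : 𝟙_ (Over (Spec (CommRingCat.of k))) ⟶ X)
    (hsurj : Function.Surjective (a.orbitMap x₀).left)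
    (hstab : ∀ g : 𝟙_ (Over (Spec (CommRingCat.of k))) ⟶ G, g ≫ a.orbitMap x₀ = x₀ →
      g.left pt ∈ IdComp.Z0 k G pt) : ConnectedSpace ↥G.left := by
  classical
  let orb := a.orbitMap x₀
  let Z := IdComp.Z0 k G pt
  have hpt : ∀ q : ↥(𝟙_ (Over (Spec (CommRingCat.of k)))).left, q = pt := fun q =>
    IdComp.pt_eq k pt q
  haveI : CompactSpace ↥G.left := QuasiCompact.compactSpace_of_compactSpace G.hom
  haveI : IsLocallyNoetherian G.left := LocallyOfFiniteType.isLocallyNoetherian G.hom
  haveI : IsNoetherian G.left := {}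
  haveI : IsLocallyNoetherian X.left := LocallyOfFiniteType.isLocallyNoetherian X.hom
  haveI : CompactSpace ↥X.left := by
    constructor
    rw [← Set.range_eq_univ.mpr hsurj]
    exact isCompact_range orb.left.continuous
  haveI : IsNoetherian X.left := {}
  haveI : LocallyOfFiniteType orb.left := by
    haveI : LocallyOfFiniteType (orb.left ≫ X.hom) := by rw [Over.w orb]; infer_instance
    exact locallyOfFiniteType_of_comp orb.left X.hom
  -- constructibility of the orbit images
  have hO : ∀ C ∈ irreducibleComponents ↥G.left, Topology.IsConstructible (orb.left '' C) := by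
    intro C hC
    exact Scheme.Hom.isConstructible_image orb.left
      (Groth.Agent.Lib.Helper12.isConstructible_of_isClosed
        (isClosed_of_mem_irreducibleComponents C hC))
  -- translation formula
  have htr : ∀ (g : 𝟙_ (Over (Spec (CommRingCat.of k))) ⟶ G) (S : Set ↥G.left),
      orb.left '' ((IdComp.ltr g).left '' S) = (atr a g).left '' (orb.left '' S) := by
    intro g S
    have h := ltr_orbitMap a g x₀
    have h' : ∀ z, orb.left ((IdComp.ltr g).left z) = (atr a g).left (orb.left z) := by
      intro z
      have := congrArg (fun t => t.left z) h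
      simpa only [Over.comp_left, Scheme.Hom.comp_apply] using this
    ext y
    constructor
    · rintro ⟨_, ⟨z, hz, rfl⟩, rfl⟩
      exact ⟨_, ⟨z, hz, rfl⟩, (h' z).symm⟩
    · rintro ⟨_, ⟨z, hz, rfl⟩, rfl⟩
      exact ⟨_, ⟨z, hz, rfl⟩, h' z⟩
  -- some orbit image is dense
  have hfin : (irreducibleComponents ↥G.left).Finite :=
    finite_irreducibleComponents_of_isNoetherian
  have hexists : ∃ C ∈ irreducibleComponents ↥G.left, Dense (orb.left '' C) := by
    have hirr : IsIrreducible (Set.univ : Set ↥X.left) := IrreducibleSpace.isIrreducible_univ _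
    have := isIrreducible_iff_sUnion_isClosed.mp hirr
      (hfin.toFinset.image fun C => closure (orb.left '' C))
      (by
        intro z hz
        rw [Finset.mem_image] at hz
        obtain ⟨C, -, rfl⟩ := hz
        exact isClosed_closure)
      (by
        intro y _
        obtain ⟨z, rfl⟩ := hsurj y
        have hz : z ∈ ⋃₀ irreducibleComponents ↥G.left := by
          rw [sUnion_irreducibleComponents]; trivial
        obtain ⟨C, hC, hzC⟩ := hz
        refine ⟨closure (orb.left '' C), ?_, subset_closure ⟨z, hzC, rfl⟩⟩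
        rw [Finset.coe_image]
        exact ⟨C, by simpa using hC, rfl⟩)
    obtain ⟨_, hz, hsub⟩ := this
    rw [Finset.mem_image] at hz
    obtain ⟨C, hC, rfl⟩ := hz
    refine ⟨C, by simpa using hC, ?_⟩
    rw [dense_iff_closure_eq]
    exact Set.eq_univ_of_univ_subset hsub
  -- the image of the unit component is dense
  have hdenseZ : Dense (orb.left '' Z) := by
    obtain ⟨C, hC, hd⟩ := hexists
    obtain ⟨g, -, hCg⟩ := exists_translate G pt C hC
    rw [hCg, htr] at hd
    have h2 := dense_image_atr a g⁻¹ hd
    have h3 : (atr a g⁻¹).left '' ((atr a g).left '' (orb.left '' Z)) = orb.left '' Z := by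
      have hcomp : atr a g ≫ atr a g⁻¹ = 𝟙 X := by
        rw [atr_atr, inv_mul_cancel, atr_one]
      have h' : ∀ z, (atr a g⁻¹).left ((atr a g).left z) = z := by
        intro z
        have := congrArg (fun t => t.left z) hcomp
        simp only [Over.comp_left, Scheme.Hom.comp_apply, Over.id_left] at this
        exact this
      rw [← Set.image_comp]
      convert Set.image_id _
      funext z
      exact h' z
    rwa [h3] at h2
  -- every component is the unit component
  have hall : ∀ C ∈ irreducibleComponents ↥G.left, C = Z := by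
    intro C hC
    obtain ⟨g, hgC, hCg⟩ := exists_translate G pt C hC
    have hdenseC : Dense (orb.left '' C) := by
      rw [hCg, htr]
      exact dense_image_atr a g hdenseZ
    have hirr : IsIrreducible (Set.univ : Set ↥X.left) := IrreducibleSpace.isIrreducible_univ _
    obtain ⟨U₁, hU₁, hne₁, hsub₁⟩ := Groth.Agent.Lib.Helper12.exists_open_subset_of_dense
      (hO Z (IdComp.Z0_mem k G pt)) hirr (by
        rw [Set.inter_univ, hdenseZ.closure_eq])
    obtain ⟨U₂, hU₂, hne₂, hsub₂⟩ := Groth.Agent.Lib.Helper12.exists_open_subset_of_dense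
      (hO C hC) hirr (by
        rw [Set.inter_univ, hdenseC.closure_eq])
    rw [Set.inter_univ] at hne₁ hne₂ hsub₁ hsub₂
    have hne : (U₁ ∩ U₂).Nonempty := nonempty_preirreducible_inter hU₁ hU₂ hne₁ hne₂
    obtain ⟨y, hy⟩ := exists_point_mem_of_isOpen X (U₁ ∩ U₂) (hU₁.inter hU₂) hne
    -- lift `y` to rational points of `Z` and of `C`
    have hlift : ∀ (D : Set ↥G.left), IsClosed D → IsIrreducible D → y.left pt ∈ orb.left '' D →
        ∃ h : 𝟙_ (Over (Spec (CommRingCat.of k))) ⟶ G, h.left pt ∈ D ∧ h ≫ orb = y := by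
      intro D hDcl hDirr hyD
      obtain ⟨W, j, hjcl, hjr, -⟩ := IdComp.exists_closedSubscheme D hDcl hDirr
      haveI := hjcl
      haveI : LocallyOfFiniteType (j ≫ orb).left := by
        rw [Over.comp_left]; infer_instance
      obtain ⟨w, hw⟩ := exists_lift_point_of_mem (j ≫ orb) y (by
        intro q
        rw [hpt q]
        obtain ⟨z, hz, hzy⟩ := hyD
        rw [← hjr] at hz
        obtain ⟨w, rfl⟩ := hz
        exact ⟨w, hzy⟩)
      refine ⟨w ≫ j, ?_, by rw [Category.assoc, hw]⟩
      rw [← hjr]
      exact ⟨w.left pt, rfl⟩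
    obtain ⟨h, hhZ, hh⟩ := hlift Z (IdComp.isClosed_Z0 k G pt) (IdComp.Z0_mem k G pt).1
      (hsub₁ (hy pt).1)
    obtain ⟨h', hh'C, hh'⟩ := hlift C (isClosed_of_mem_irreducibleComponents C hC) hC.1
      (hsub₂ (hy pt).2)
    -- `h⁻¹ h'` stabilizes `x₀`
    have hone : toUnit (𝟙_ (Over (Spec (CommRingCat.of k)))) = 𝟙 _ := toUnit_unique _ _
    have horb : ∀ g : 𝟙_ (Over (Spec (CommRingCat.of k))) ⟶ G, g ≫ orb = lift g x₀ ≫ a.act := by
      intro g
      change g ≫ a.orbitMap x₀ = _
      rw [AlgGrp.Action.comp_orbitMap, hone, Category.id_comp]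
    have hs : (h⁻¹ * h') ≫ orb = x₀ := by
      rw [horb, AlgGrp.Action.lift_mul_act, ← horb h', hh', ← hh, horb h,
        ← AlgGrp.Action.lift_mul_act, inv_mul_cancel, AlgGrp.Action.lift_one_act]
    have hsZ := hstab _ hs
    have hmul : h * (h⁻¹ * h') = h' := by rw [← _root_.mul_assoc, mul_inv_cancel, _root_.one_mul]
    have hh'Z : h'.left pt ∈ Z := by
      rw [← hmul]
      exact IdComp.mul_mem_Z0 k G pt h (h⁻¹ * h') pt hhZ hsZ
    exact IdComp.uniqueComp k G (h'.left pt) C hC Z (IdComp.Z0_mem k G pt) hh'C hh'Z
  -- conclusion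
  have huniv : Z = Set.univ := by
    apply Set.eq_univ_of_univ_subset
    intro z _
    have hz : z ∈ ⋃₀ irreducibleComponents ↥G.left := by
      rw [sUnion_irreducibleComponents]; trivial
    obtain ⟨C, hC, hzC⟩ := hz
    rw [← hall C hC]
    exact hzC
  haveI : Nonempty ↥G.left := ⟨η[G].left pt⟩
  have hpre : _root_.IsPreconnected (Set.univ : Set ↥G.left) := by
    rw [← huniv]
    exact (IdComp.Z0_mem k G pt).1.isPreirreducible.isPreconnected
  exact @ConnectedSpace.mk _ _ ⟨hpre⟩ ‹_›

end Groth.Agent.Lib.Helper10.OrbConn
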