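import Mathlib
import Groth.Agent.Lib.Helper10.OrbitDim2

/-!
# The boundary of a locally closed subset of a scheme of finite type over a field has smaller
dimension
-/

set_option autoImplicit false
set_option backward.isDefEq.respectTransparency.types false
set_option maxHeartbeats 4000000
set_option synthInstance.maxHeartbeats 400000
universe u
open CategoryTheory CategoryTheory.Limits AlgebraicGeometry TopologicalSpace

namespace Groth.Agent.Lib.Helper10.OrbitDim

theorem lt_of_add_one_le {a b : WithBot ℕ∞} (h : a + 1 ≤ b) (hb : b < ⊤) (h0 : 0 ≤ b) :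
    a < b := by
  induction a using WithBot.recBotCoe with
  | bot => exact lt_of_lt_of_le (WithBot.bot_lt_coe (0 : ℕ∞)) h0
  | coe m =>
    induction m using ENat.recTopCoe with
    | top =>
      exfalso
      have h1 : ((⊤ : ℕ∞) : WithBot ℕ∞) + 1 = ⊤ := rfl
      rw [h1] at h
      exact absurd hb (not_lt.mpr h)
    | coe n =>
      refine lt_of_lt_of_le ?_ h
      have h1 : (((n : ℕ∞)) : WithBot ℕ∞) + 1 = (((n + 1 : ℕ) : ℕ∞) : WithBot ℕ∞) := by
        push_cast
        rfl
      rw [h1]
      exact WithBot.coe_lt_coe.mpr (by exact_mod_cast Nat.lt_succ_self n)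

variable {k : Type u} [Field k] {X : Scheme.{u}} (f : X ⟶ Spec (CommRingCat.of k))
  [LocallyOfFiniteType f] [QuasiCompact f]

include f in
theorem dim_boundary_lt (O U : Set ↥X) (hU : IsOpen U) (hO : closure O ∩ U = O)
    (hne : O.Nonempty) :
    topologicalKrullDim ↥(closure O \ O) < topologicalKrullDim ↥O := by
  let C : TopologicalSpace.Closeds X := ⟨closure O, isClosed_closure⟩
  let I := Scheme.IdealSheafData.vanishingIdeal C
  have hr : Set.range I.subschemeι = closure O := by
    rw [Scheme.IdealSheafData.range_subschemeι, Scheme.IdealSheafData.coe_support_vanishingIdeal]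
    rfl
  have hemb : Topology.IsEmbedding I.subschemeι := I.subschemeι.isEmbedding
  let g : I.subscheme ⟶ Spec (CommRingCat.of k) := I.subschemeι ≫ f
  haveI : LocallyOfFiniteType g := inferInstance
  haveI : QuasiCompact g := inferInstance
  haveI : IsLocallyNoetherian I.subscheme := isLocallyNoetherian_of_lft g
  haveI : JacobsonSpace ↥I.subscheme := jacobsonSpace_of_lft g
  haveI : IsLocallyNoetherian (Spec (CommRingCat.of k)) := inferInstance
  haveI : JacobsonSpace ↥(Spec (CommRingCat.of k)) := inferInstance
  have h3Z := Groth.Agent.Lib.Helper18.JacDim.equicodim_of_locallyOfFiniteType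
    (field_h2 k) (field_h3 k) g
  let V : Set ↥I.subscheme := I.subschemeι ⁻¹' U
  have hVopen : IsOpen V := hU.preimage I.subschemeι.continuous
  have hVimg : I.subschemeι '' V = O := by
    rw [Set.image_preimage_eq_inter_range, hr, Set.inter_comm, hO]
  have hVdense : Dense V := by
    rw [dense_iff_closure_eq, hemb.isInducing.closure_eq_preimage_closure_image, hVimg,
      ← hr]
    rw [Set.preimage_range]
  have hVc_cl : IsClosed Vᶜ := hVopen.isClosed_compl
  have hVc_int : interior Vᶜ = ∅ := by
    rw [interior_eq_empty_iff_dense_compl, compl_compl]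
    exact hVdense
  have hVcimg : I.subschemeι '' Vᶜ = closure O \ O := by
    rw [Set.image_compl_eq_range_diff_image hemb.injective, hr, hVimg]
  have h1 : topologicalKrullDim ↥O = topologicalKrullDim ↥I.subscheme := by
    rw [← hVimg, Groth.Agent.Lib.Helper18.JacDim.topologicalKrullDim_image_eq hemb V]
    exact Groth.Agent.Lib.Helper18.JacDim.topologicalKrullDim_dense_open h3Z V hVopen hVdense
  have h2 : topologicalKrullDim ↥(closure O \ O) = topologicalKrullDim ↥(Vᶜ : Set ↥I.subscheme) := by
    rw [← hVcimg, Groth.Agent.Lib.Helper18.JacDim.topologicalKrullDim_image_eq hemb Vᶜ]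
  have h3 := Groth.Agent.Lib.Helper18.ZeroDim.topologicalKrullDim_add_one_le_of_nowhereDense
    (Vᶜ : Set ↥I.subscheme) hVc_cl hVc_int
  have h4 : topologicalKrullDim ↥I.subscheme < ⊤ := dim_lt_top g
  have h5 : 0 ≤ topologicalKrullDim ↥O := by
    haveI : Nonempty ↥O := hne.to_subtype
    exact Groth.Agent.Lib.Helper18.TopDim.zero_le_topologicalKrullDim
  rw [h2, h1]
  exact lt_of_add_one_le h3 h4 (h1 ▸ h5)

end Groth.Agent.Lib.Helper10.OrbitDim
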