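import Mathlib
import Groth.Agent.Lib.Helper10.OrbitDim3
import Groth.Agent.Lib.Helper10.OrbConn2
import Groth.Agent.Lib.Helper18.TopDim
import Groth.Agent.Lib.Helper18.JacDim7

/-!
# Dimension lemmas for orbits: finite closed covers, closures of locally closed sets,
openness of the neutral component
-/

set_option autoImplicit false
set_option backward.isDefEq.respectTransparency.types false
set_option maxHeartbeats 4000000
set_option synthInstance.maxHeartbeats 400000
universe u
open CategoryTheory CategoryTheory.Limits AlgebraicGeometry MonoidalCategory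
  CartesianMonoidalCategory MonObj GrpObj TopologicalSpace

namespace Groth.Agent.Lib.Helper10.OrbitDim

open Groth.Agent.Lib.Helper10

section Top

variable {X : Type u} [TopologicalSpace X]

theorem dim_congr {A B : Set X} (h : A = B) :
    topologicalKrullDim ↥A = topologicalKrullDim ↥B := by
  subst h
  rfl

/-- a set which is a finite union of closed sets all of the same dimension has that dimension. -/
theorem dim_eq_of_finite_closed_cover {J : Type*} [Finite J] [Nonempty J] (A : Set X)
    (Y : J → Set X) (hY : ∀ i, IsClosed (Y i)) (hcov : A = ⋃ i, Y i) (d : WithBot ℕ∞)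
    (hd : ∀ i, topologicalKrullDim ↥(Y i) = d) : topologicalKrullDim ↥A = d := by
  have hsub : ∀ i, Y i ⊆ A := fun i => hcov ▸ Set.subset_iUnion Y i
  have hcov' : ⋃ i, ((Subtype.val : ↥A → X) ⁻¹' (Y i)) = Set.univ := by
    ext ⟨a, ha⟩
    simp only [Set.mem_iUnion, Set.mem_preimage, Set.mem_univ, iff_true]
    rw [hcov] at ha
    exact Set.mem_iUnion.mp ha
  rw [Groth.Agent.Lib.Helper18.TopDim.topologicalKrullDim_eq_iSup_of_finite_closed_cover
    (X := ↥A) (fun i => (Subtype.val : ↥A → X) ⁻¹' (Y i))
    (fun i => (hY i).preimage continuous_subtype_val) hcov']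
  have key : ∀ i, topologicalKrullDim ↥((Subtype.val : ↥A → X) ⁻¹' (Y i)) = d := by
    intro i
    rw [← hd i, ← Groth.Agent.Lib.Helper18.JacDim.topologicalKrullDim_image_eq
      (Topology.IsEmbedding.subtypeVal) ((Subtype.val : ↥A → X) ⁻¹' (Y i))]
    apply dim_congr
    rw [Subtype.image_preimage_coe]
    exact Set.inter_eq_right.mpr (hsub i)
  simp_rw [key]
  exact ciSup_const

theorem exists_nat_eq {a : WithBot ℕ∞} (h0 : 0 ≤ a) (ht : a < ⊤) : ∃ n : ℕ, a = n := by
  induction a using WithBot.recBotCoe with
  | bot => exact absurd h0 (by simp)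
  | coe m =>
    induction m using ENat.recTopCoe with
    | top => exact absurd ht (lt_irrefl _)
    | coe n => exact ⟨n, rfl⟩

end Top

section Closure

variable {k : Type u} [Field k] {X : Scheme.{u}} (f : X ⟶ Spec (CommRingCat.of k))
  [LocallyOfFiniteType f] [QuasiCompact f]

include f in
/-- a locally closed subset of a scheme of finite type over a field has the dimension of its
closure. -/
theorem dim_eq_dim_closure (O U : Set ↥X) (hU : IsOpen U) (hO : closure O ∩ U = O) :
    topologicalKrullDim ↥O = topologicalKrullDim ↥(closure O) := by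
  let C : TopologicalSpace.Closeds X := ⟨closure O, isClosed_closure⟩
  let I := Scheme.IdealSheafData.vanishingIdeal C
  have hr : Set.range I.subschemeι = closure O := by
    rw [Scheme.IdealSheafData.range_subschemeι, Scheme.IdealSheafData.coe_support_vanishingIdeal]
    rfl
  have hemb : Topology.IsEmbedding I.subschemeι := I.subschemeι.isEmbedding
  let g : I.subscheme ⟶ Spec (CommRingCat.of k) := I.subschemeι ≫ f
  haveI : LocallyOfFiniteType g := inferInstance
  haveI : QuasiCompact g := inferInstance
  haveI : IsLocallyNoetherian I.subscheme := isLocallyNoetherian_of_lft g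
  haveI : JacobsonSpace ↥I.subscheme := jacobsonSpace_of_lft g
  haveI : IsLocallyNoetherian (Spec (CommRingCat.of k)) := inferInstance
  haveI : JacobsonSpace ↥(Spec (CommRingCat.of k)) := inferInstance
  have h3Z := Groth.Agent.Lib.Helper18.JacDim.equicodim_of_locallyOfFiniteType
    (field_h2 k) (field_h3 k) g
  let V : Set ↥I.subscheme := I.subschemeι ⁻¹' U
  have hVopen : IsOpen V := hU.preimage I.subschemeι.continuous
  have hVimg : I.subschemeι '' V = O := by
    rw [Set.image_preimage_eq_inter_range, hr, Set.inter_comm, hO]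
  have hVdense : Dense V := by
    rw [dense_iff_closure_eq, hemb.isInducing.closure_eq_preimage_closure_image, hVimg,
      ← hr]
    rw [Set.preimage_range]
  rw [← hVimg, Groth.Agent.Lib.Helper18.JacDim.topologicalKrullDim_image_eq hemb V,
    Groth.Agent.Lib.Helper18.JacDim.topologicalKrullDim_dense_open h3Z V hVopen hVdense,
    hVimg, ← hr, Groth.Agent.Lib.Helper18.JacDim.topologicalKrullDim_range_eq hemb]

end Closure

section Grp

variable (k : Type u) [Field k] (G : Over (Spec (CommRingCat.of k))) [GrpObj G]
variable (pt : ↥(𝟙_ (Over (Spec (CommRingCat.of k)))).left)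

/-- the neutral component of a group scheme of finite type over a field is open. -/
theorem isOpen_Z0 [LocallyOfFiniteType G.hom] [QuasiCompact G.hom] :
    IsOpen (IdComp.Z0 k G pt) := by
  haveI : IsLocallyNoetherian G.left := isLocallyNoetherian_of_lft G.hom
  haveI : CompactSpace ↥G.left := QuasiCompact.compactSpace_of_compactSpace G.hom
  haveI : IsNoetherian G.left := {}
  have hfin : (irreducibleComponents ↥G.left).Finite :=
    finite_irreducibleComponents_of_isNoetherian
  have hcompl : (IdComp.Z0 k G pt)ᶜ =
      ⋃₀ ((irreducibleComponents ↥G.left) \ {IdComp.Z0 k G pt}) := by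
    ext y
    constructor
    · intro hy
      refine ⟨irreducibleComponent y, ⟨irreducibleComponent_mem_irreducibleComponents y, ?_⟩,
        mem_irreducibleComponent⟩
      intro h
      rw [Set.mem_singleton_iff] at h
      exact hy (h ▸ mem_irreducibleComponent)
    · rintro ⟨C, ⟨hC, hCne⟩, hyC⟩ hyZ
      apply hCne
      rw [Set.mem_singleton_iff]
      exact (IdComp.uniqueComp k G y) _ hC _ (IdComp.Z0_mem k G pt) hyC hyZ
  have hcl : IsClosed (IdComp.Z0 k G pt)ᶜ := by
    rw [hcompl]
    rw [Set.sUnion_eq_biUnion]
    exact Set.Finite.isClosed_biUnion (hfin.subset Set.diff_subset)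
      (fun C hC => isClosed_of_mem_irreducibleComponents C hC.1)
  exact isClosed_compl_iff.mp hcl

end Grp

section Translate

variable {k : Type u} [Field k] (G : Over (Spec (CommRingCat.of k))) [GrpObj G]
variable (pt : ↥(𝟙_ (Over (Spec (CommRingCat.of k)))).left)

/-- the irreducible component through a rational point `g` is the `g`-translate of the neutral
component. -/
theorem eq_ltr_image_Z0 (C : Set ↥G.left) (hC : C ∈ irreducibleComponents ↥G.left)
    (g : 𝟙_ (Over (Spec (CommRingCat.of k))) ⟶ G) (hg : g.left pt ∈ C) :
    C = (IdComp.ltr g).left '' IdComp.Z0 k G pt := by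
  haveI : IsIso (IdComp.ltr g).left := (Over.forget _).map_isIso (IdComp.ltr g)
  let e := (IdComp.ltr g).left.homeomorph
  have he : ∀ z, e z = (IdComp.ltr g).left z := fun _ => rfl
  have hunit : (IdComp.ltr g).left (η[G].left pt) = g.left pt := by
    rw [← Scheme.Hom.comp_apply, ← Over.comp_left, IdComp.unit_ltr]
  have hCeq : C = irreducibleComponent (g.left pt) :=
    (IdComp.uniqueComp k G (g.left pt)).eq_irreducibleComponent hC hg
  apply Set.Subset.antisymm
  · intro c hc
    have h1 : IsIrreducible (e.symm '' C) := hC.1.image _ e.symm.continuous.continuousOn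
    have h2 : η[G].left pt ∈ e.symm '' C := by
      refine ⟨g.left pt, hg, ?_⟩
      rw [← hunit, ← he, e.symm_apply_apply]
    have h3 := (IdComp.uniqueComp k G (η[G].left pt)).subset_irreducibleComponent h1 h2
    refine ⟨e.symm c, h3 ⟨c, hc, rfl⟩, ?_⟩
    rw [← he, e.apply_symm_apply]
  · have h1 : IsIrreducible ((IdComp.ltr g).left '' IdComp.Z0 k G pt) :=
      (IdComp.Z0_mem k G pt).1.image _ (IdComp.ltr g).left.continuous.continuousOn
    have h2 : g.left pt ∈ (IdComp.ltr g).left '' IdComp.Z0 k G pt :=
      ⟨_, IdComp.unit_mem_Z0 k G pt, hunit⟩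
    rw [hCeq]
    exact (IdComp.uniqueComp k G (g.left pt)).subset_irreducibleComponent h1 h2

/-- translating a subset by a rational point does not change its dimension. -/
theorem dim_ltr_image (g : 𝟙_ (Over (Spec (CommRingCat.of k))) ⟶ G) (A : Set ↥G.left) :
    topologicalKrullDim ↥((IdComp.ltr g).left '' A) = topologicalKrullDim ↥A := by
  haveI : IsIso (IdComp.ltr g).left := (Over.forget _).map_isIso (IdComp.ltr g)
  exact Groth.Agent.Lib.Helper18.JacDim.topologicalKrullDim_image_eq
    (IdComp.ltr g).left.homeomorph.isEmbedding A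

theorem dim_atr_image {X : Over (Spec (CommRingCat.of k))} (a : AlgGrp.Action G X)
    (g : 𝟙_ (Over (Spec (CommRingCat.of k))) ⟶ G) (A : Set ↥X.left) :
    topologicalKrullDim ↥((OrbConn.atr a g).left '' A) = topologicalKrullDim ↥A := by
  haveI : IsIso (OrbConn.atr a g).left := (Over.forget _).map_isIso (OrbConn.atr a g)
  exact Groth.Agent.Lib.Helper18.JacDim.topologicalKrullDim_image_eq
    (OrbConn.atr a g).left.homeomorph.isEmbedding A

theorem closure_atr_image {X : Over (Spec (CommRingCat.of k))} (a : AlgGrp.Action G X)
    (g : 𝟙_ (Over (Spec (CommRingCat.of k))) ⟶ G) (A : Set ↥X.left) :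
    closure ((OrbConn.atr a g).left '' A) = (OrbConn.atr a g).left '' closure A := by
  haveI : IsIso (OrbConn.atr a g).left := (Over.forget _).map_isIso (OrbConn.atr a g)
  exact ((OrbConn.atr a g).left.homeomorph.image_closure A).symm

end Translate

end Groth.Agent.Lib.Helper10.OrbitDim
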