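import Mathlib
import Groth.Agent.Lib.Helper10.OrbitDim1
import Groth.Agent.Lib.Helper10.OrbitDim4

/-!
# Dimension of a group, an orbit and a stabilizer via the neutral component
-/

set_option autoImplicit false
set_option backward.isDefEq.respectTransparency.types false
set_option maxHeartbeats 4000000
set_option synthInstance.maxHeartbeats 400000
universe u
open CategoryTheory CategoryTheory.Limits AlgebraicGeometry MonoidalCategory
  CartesianMonoidalCategory MonObj GrpObj TopologicalSpace

namespace Groth.Agent.Lib.Helper10.OrbitDim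

open Groth.Agent.Lib.Helper10

section Translate

variable {k : Type u} [Field k] {G X : Over (Spec (CommRingCat.of k))} [GrpObj G]
  (a : AlgGrp.Action G X) (x : 𝟙_ (Over (Spec (CommRingCat.of k))) ⟶ X)

theorem orbitMap_ltr_apply (g : 𝟙_ (Over (Spec (CommRingCat.of k))) ⟶ G) (z : ↥G.left) :
    (a.orbitMap x).left ((IdComp.ltr g).left z) =
      (OrbConn.atr a g).left ((a.orbitMap x).left z) := by
  have := congrArg (fun t => t.left z) (OrbConn.ltr_orbitMap a g x)
  simpa only [Over.comp_left, Scheme.Hom.comp_apply] using this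

theorem image_ltr_image (g : 𝟙_ (Over (Spec (CommRingCat.of k))) ⟶ G) (S : Set ↥G.left) :
    (a.orbitMap x).left '' ((IdComp.ltr g).left '' S) =
      (OrbConn.atr a g).left '' ((a.orbitMap x).left '' S) := by
  ext y
  constructor
  · rintro ⟨_, ⟨z, hz, rfl⟩, rfl⟩
    exact ⟨_, ⟨z, hz, rfl⟩, (orbitMap_ltr_apply a x g z).symm⟩
  · rintro ⟨_, ⟨z, hz, rfl⟩, rfl⟩
    exact ⟨_, ⟨z, hz, rfl⟩, orbitMap_ltr_apply a x g z⟩

theorem atr_point (g : 𝟙_ (Over (Spec (CommRingCat.of k))) ⟶ G)
    (pt : ↥(𝟙_ (Over (Spec (CommRingCat.of k)))).left) :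
    (OrbConn.atr a g).left (x.left pt) = (a.orbitMap x).left (g.left pt) := by
  have h : x ≫ OrbConn.atr a g = g ≫ a.orbitMap x := by
    rw [OrbConn.comp_atr, AlgGrp.Action.comp_orbitMap]
    have hu : toUnit (𝟙_ (Over (Spec (CommRingCat.of k)))) = 𝟙 _ := toUnit_unique _ _
    rw [hu, Category.id_comp, Category.id_comp]
  have := congrArg (fun t => t.left pt) h
  simpa only [Over.comp_left, Scheme.Hom.comp_apply] using this

theorem atr_inv_atr_apply (g : 𝟙_ (Over (Spec (CommRingCat.of k))) ⟶ G) (y : ↥X.left) :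
    (OrbConn.atr a g⁻¹).left ((OrbConn.atr a g).left y) = y := by
  have h : OrbConn.atr a g ≫ OrbConn.atr a g⁻¹ = 𝟙 X := by
    rw [OrbConn.atr_atr, inv_mul_cancel, OrbConn.atr_one]
  have := congrArg (fun t => t.left y) h
  simp only [Over.comp_left, Scheme.Hom.comp_apply, Over.id_left] at this
  exact this

theorem ltr_ltr_inv_apply (g : 𝟙_ (Over (Spec (CommRingCat.of k))) ⟶ G) (z : ↥G.left) :
    (IdComp.ltr g).left ((IdComp.ltr g⁻¹).left z) = z := by
  have h : IdComp.ltr g⁻¹ ≫ IdComp.ltr g = 𝟙 G := by
    rw [IdComp.ltr_ltr]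
    first
      | rw [mul_inv_cancel, IdComp.ltr_one]
      | rw [inv_mul_cancel, IdComp.ltr_one]
  have := congrArg (fun t => t.left z) h
  simp only [Over.comp_left, Scheme.Hom.comp_apply, Over.id_left] at this
  exact this

/-- the fibre of the orbit map over a translated point is the translate of the fibre. -/
theorem preimage_atr (g : 𝟙_ (Over (Spec (CommRingCat.of k))) ⟶ G) (y : ↥X.left) :
    (a.orbitMap x).left ⁻¹' {(OrbConn.atr a g).left y} =
      (IdComp.ltr g).left '' ((a.orbitMap x).left ⁻¹' {y}) := by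
  ext w
  constructor
  · intro hw
    rw [Set.mem_preimage, Set.mem_singleton_iff] at hw
    refine ⟨(IdComp.ltr g⁻¹).left w, ?_, ltr_ltr_inv_apply g w⟩
    rw [Set.mem_preimage, Set.mem_singleton_iff, orbitMap_ltr_apply, hw, atr_inv_atr_apply]
  · rintro ⟨z, hz, rfl⟩
    rw [Set.mem_preimage, Set.mem_singleton_iff] at hz
    rw [Set.mem_preimage, Set.mem_singleton_iff, orbitMap_ltr_apply, hz]

end Translate

section Main

variable {k : Type u} [Field k] [IsAlgClosed k] {G X : Over (Spec (CommRingCat.of k))} [GrpObj G]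
  [LocallyOfFiniteType G.hom] [QuasiCompact G.hom]
  (a : AlgGrp.Action G X) (x : 𝟙_ (Over (Spec (CommRingCat.of k))) ⟶ X)
variable (pt : ↥(𝟙_ (Over (Spec (CommRingCat.of k)))).left)

omit [IsAlgClosed k] in
theorem finite_comps (G : Over (Spec (CommRingCat.of k))) [LocallyOfFiniteType G.hom]
    [QuasiCompact G.hom] : (irreducibleComponents ↥G.left).Finite := by
  haveI : IsLocallyNoetherian G.left := isLocallyNoetherian_of_lft G.hom
  haveI : CompactSpace ↥G.left := QuasiCompact.compactSpace_of_compactSpace G.hom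
  haveI : IsNoetherian G.left := {}
  exact finite_irreducibleComponents_of_isNoetherian

omit [IsAlgClosed k] [GrpObj G] [LocallyOfFiniteType G.hom] [QuasiCompact G.hom] in
theorem iUnion_comps (G : Over (Spec (CommRingCat.of k))) :
    ⋃ C : ↥(irreducibleComponents ↥G.left), (C.1 : Set ↥G.left) = Set.univ := by
  ext y
  simp only [Set.mem_iUnion, Set.mem_univ, iff_true]
  exact ⟨⟨irreducibleComponent y, irreducibleComponent_mem_irreducibleComponents y⟩,
    mem_irreducibleComponent⟩

/-- the dimension of `G` is the dimension of its neutral component. -/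
theorem dim_eq_dim_Z0 :
    topologicalKrullDim ↥G.left = topologicalKrullDim ↥(IdComp.Z0 k G pt) := by
  haveI : Finite ↥(irreducibleComponents ↥G.left) := (finite_comps G).to_subtype
  haveI : Nonempty ↥(irreducibleComponents ↥G.left) := ⟨⟨_, IdComp.Z0_mem k G pt⟩⟩
  rw [Groth.Agent.Lib.Helper18.TopDim.topologicalKrullDim_eq_iSup_of_finite_closed_cover
    (fun C : ↥(irreducibleComponents ↥G.left) => (C.1 : Set ↥G.left))
    (fun C => isClosed_of_mem_irreducibleComponents C.1 C.2) (iUnion_comps G)]
  have key : ∀ C : ↥(irreducibleComponents ↥G.left),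
      topologicalKrullDim ↥(C.1 : Set ↥G.left) = topologicalKrullDim ↥(IdComp.Z0 k G pt) := by
    intro C
    obtain ⟨g, -, hg⟩ := OrbConn.exists_translate G pt C.1 C.2
    rw [dim_congr hg, dim_ltr_image]
  simp_rw [key]
  exact ciSup_const

/-- the dimension of the closure of the orbit is the dimension of the closure of the orbit under
the neutral component. -/
theorem dim_closure_orbit_eq :
    topologicalKrullDim ↥(closure (Set.range (a.orbitMap x).left)) =
      topologicalKrullDim ↥(closure ((a.orbitMap x).left '' IdComp.Z0 k G pt)) := by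
  haveI : Finite ↥(irreducibleComponents ↥G.left) := (finite_comps G).to_subtype
  haveI : Nonempty ↥(irreducibleComponents ↥G.left) := ⟨⟨_, IdComp.Z0_mem k G pt⟩⟩
  refine dim_eq_of_finite_closed_cover _
    (fun C : ↥(irreducibleComponents ↥G.left) => closure ((a.orbitMap x).left '' C.1))
    (fun C => isClosed_closure) ?_ _ ?_
  · rw [← closure_iUnion_of_finite, ← Set.image_iUnion, iUnion_comps G, Set.image_univ]
  · intro C
    obtain ⟨g, -, hg⟩ := OrbConn.exists_translate G pt C.1 C.2
    rw [dim_congr (congrArg closure (congrArg (fun S => (a.orbitMap x).left '' S) hg))]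
    rw [dim_congr (congrArg closure (image_ltr_image a x g _)), dim_congr (closure_atr_image G a g _),
      dim_atr_image]

/-- the dimension of the stabilizer is the dimension of its intersection with the neutral
component. -/
theorem dim_stab_eq [LocallyOfFiniteType X.hom] :
    topologicalKrullDim ↥((a.orbitMap x).left ⁻¹' {x.left pt}) =
      topologicalKrullDim ↥(IdComp.Z0 k G pt ∩ (a.orbitMap x).left ⁻¹' {x.left pt}) := by
  set Gx : Set ↥G.left := (a.orbitMap x).left ⁻¹' {x.left pt} with hGx
  have hxcl : IsClosed ({x.left pt} : Set ↥X.left) := by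
    haveI : Subsingleton ↥(𝟙_ (Over (Spec (CommRingCat.of k)))).left :=
      ⟨fun p q => (IdComp.pt_eq k q p).trans (IdComp.pt_eq k q q).symm⟩
    haveI : IsClosedImmersion x.left :=
      isClosedImmersion_of_comp_eq_id X.hom x.left (Over.w x)
    have h1 : IsClosed (Set.range x.left) := x.left.isClosedEmbedding.isClosed_range
    have h2 : Set.range x.left = {x.left pt} := by
      ext y
      constructor
      · rintro ⟨q, rfl⟩
        rw [IdComp.pt_eq k pt q]
        rfl
      · rintro rfl
        exact ⟨pt, rfl⟩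
    rwa [h2] at h1
  have hGxcl : IsClosed Gx := hxcl.preimage (a.orbitMap x).left.continuous
  have hunit : η[G].left pt ∈ Gx := by
    rw [hGx, Set.mem_preimage, Set.mem_singleton_iff]
    have h : η[G] ≫ a.orbitMap x = x := by
      rw [AlgGrp.Action.comp_orbitMap]
      have hu : toUnit (𝟙_ (Over (Spec (CommRingCat.of k)))) = 𝟙 _ := toUnit_unique _ _
      rw [hu, Category.id_comp]
      have h1 := AlgGrp.Action.lift_one_act a x
      rw [← h1]
      congr 2
    have := congrArg (fun t => t.left pt) h
    simpa only [Over.comp_left, Scheme.Hom.comp_apply] using this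
  let J := {C : ↥(irreducibleComponents ↥G.left) // (C.1 ∩ Gx).Nonempty}
  haveI : Finite ↥(irreducibleComponents ↥G.left) := (finite_comps G).to_subtype
  haveI : Finite J := Subtype.finite
  haveI : Nonempty J :=
    ⟨⟨⟨_, IdComp.Z0_mem k G pt⟩, ⟨_, IdComp.unit_mem_Z0 k G pt, hunit⟩⟩⟩
  refine dim_eq_of_finite_closed_cover Gx (fun C : J => C.1.1 ∩ Gx)
    (fun C => (isClosed_of_mem_irreducibleComponents C.1.1 C.1.2).inter hGxcl) ?_ _ ?_
  · ext y
    simp only [Set.mem_iUnion, Set.mem_inter_iff]
    constructor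
    · intro hy
      exact ⟨⟨⟨irreducibleComponent y, irreducibleComponent_mem_irreducibleComponents y⟩,
        ⟨y, mem_irreducibleComponent, hy⟩⟩, mem_irreducibleComponent, hy⟩
    · rintro ⟨_, -, hy⟩
      exact hy
  · rintro ⟨⟨C, hC⟩, hne⟩
    change topologicalKrullDim ↥(C ∩ Gx) = _
    obtain ⟨h, hh⟩ := OrbConn.exists_point_mem_of_isClosed G (C ∩ Gx)
      ((isClosed_of_mem_irreducibleComponents C hC).inter hGxcl) hne
    have hC' := eq_ltr_image_Z0 G pt C hC h (hh pt).1
    have hGx' : Gx = (IdComp.ltr h).left '' Gx := by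
      have h1 := preimage_atr a x h (x.left pt)
      rw [atr_point a x h pt] at h1
      have h2 : (a.orbitMap x).left (h.left pt) = x.left pt := (hh pt).2
      rw [h2] at h1
      exact h1
    haveI : IsIso (IdComp.ltr h).left := (Over.forget _).map_isIso (IdComp.ltr h)
    have hinj : Function.Injective (IdComp.ltr h).left :=
      (IdComp.ltr h).left.homeomorph.injective
    have : C ∩ Gx = (IdComp.ltr h).left '' (IdComp.Z0 k G pt ∩ Gx) := by
      rw [Set.image_inter hinj, ← hC', ← hGx']
    rw [dim_congr this, dim_ltr_image]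

/-- the scheme-theoretic fibre of the orbit map has the dimension of the set-theoretic one. -/
theorem dim_pullback_eq :
    topologicalKrullDim ↥(Limits.pullback (a.orbitMap x).left x.left) =
      topologicalKrullDim ↥((a.orbitMap x).left ⁻¹' {x.left pt}) := by
  haveI : Subsingleton ↥(𝟙_ (Over (Spec (CommRingCat.of k)))).left :=
    ⟨fun p q => (IdComp.pt_eq k q p).trans (IdComp.pt_eq k q q).symm⟩
  haveI : IsClosedImmersion x.left :=
    isClosedImmersion_of_comp_eq_id X.hom x.left (Over.w x)
  have h2 : Set.range x.left = {x.left pt} := by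
    ext y
    constructor
    · rintro ⟨q, rfl⟩
      rw [IdComp.pt_eq k pt q]
      rfl
    · rintro rfl
      exact ⟨pt, rfl⟩
  have hr : Set.range (pullback.fst (a.orbitMap x).left x.left) =
      (a.orbitMap x).left ⁻¹' {x.left pt} := by
    rw [Scheme.Pullback.range_fst, h2]
  rw [← hr]
  exact (Groth.Agent.Lib.Helper18.JacDim.topologicalKrullDim_range_eq
    (pullback.fst (a.orbitMap x).left x.left).isEmbedding).symm

end Main

end Groth.Agent.Lib.Helper10.OrbitDim
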