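import Mathlib
import Groth.Agent.Lib.Helper10.OrbitDim5
import Groth.Agent.Lib.Helper12.FibDimGen
import Groth.Agent.Lib.Helper18.JacDim3

/-!
# dim G⁰ = dim (closure of the G⁰-orbit) + dim (G⁰ ∩ stabilizer)
-/

set_option autoImplicit false
set_option backward.isDefEq.respectTransparency.types false
set_option maxHeartbeats 4000000
set_option synthInstance.maxHeartbeats 400000
universe u
open CategoryTheory CategoryTheory.Limits AlgebraicGeometry MonoidalCategory
  CartesianMonoidalCategory MonObj GrpObj TopologicalSpace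

namespace Groth.Agent.Lib.Helper10.OrbitDim

open Groth.Agent.Lib.Helper10

variable {k : Type u} [Field k] [IsAlgClosed k] {G X : Over (Spec (CommRingCat.of k))} [GrpObj G]
  [LocallyOfFiniteType G.hom] [QuasiCompact G.hom] [LocallyOfFiniteType X.hom]
  (a : AlgGrp.Action G X) (x : 𝟙_ (Over (Spec (CommRingCat.of k))) ⟶ X)
variable (pt : ↥(𝟙_ (Over (Spec (CommRingCat.of k)))).left)

theorem dim_Z0_eq_add :
    topologicalKrullDim ↥(IdComp.Z0 k G pt) =
      topologicalKrullDim ↥(closure ((a.orbitMap x).left '' IdComp.Z0 k G pt)) +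
        topologicalKrullDim ↥(IdComp.Z0 k G pt ∩ (a.orbitMap x).left ⁻¹' {x.left pt}) := by
  set α := a.orbitMap x with hα
  set Z := IdComp.Z0 k G pt with hZdef
  haveI : IsLocallyNoetherian G.left := isLocallyNoetherian_of_lft G.hom
  haveI : CompactSpace ↥G.left := QuasiCompact.compactSpace_of_compactSpace G.hom
  haveI : IsNoetherian G.left := {}
  let ZO : G.left.Opens := ⟨Z, isOpen_Z0 k G pt⟩
  let j : ZO.toScheme ⟶ G.left := ZO.ι
  have hjr : Set.range j = Z := Scheme.Opens.range_ι ZO
  have hjemb : Topology.IsEmbedding j := j.isEmbedding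
  let φ : ZO.toScheme ⟶ X.left := j ≫ α.left
  haveI : NoetherianSpace ↥ZO.toScheme := by
    have : NoetherianSpace ↥G.left := inferInstance
    exact (hjemb.isInducing).noetherianSpace
  haveI : QuasiCompact φ := inferInstance
  have hφapp : ∀ z, φ z = α.left (j z) := fun z => rfl
  have hφr : Set.range φ = α.left '' Z := by
    rw [← hjr]
    ext y
    constructor
    · rintro ⟨z, rfl⟩
      exact ⟨j z, ⟨z, rfl⟩, rfl⟩
    · rintro ⟨_, ⟨z, rfl⟩, rfl⟩
      exact ⟨z, rfl⟩
  let Y : Scheme.{u} := φ.image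
  let i : Y ⟶ X.left := φ.imageι
  let f' : ZO.toScheme ⟶ Y := φ.toImage
  have hfi : f' ≫ i = φ := φ.toImage_imageι
  have hfiapp : ∀ z, i (f' z) = α.left (j z) := by
    intro z
    rw [← Scheme.Hom.comp_apply, hfi]
    rfl
  have hiemb : Topology.IsEmbedding i := i.isEmbedding
  have hir : Set.range i = closure (α.left '' Z) := by
    rw [← hφr]
    change Set.range φ.ker.subschemeι = _
    rw [Scheme.IdealSheafData.range_subschemeι, Scheme.Hom.support_ker]
  let p : ZO.toScheme ⟶ Spec (CommRingCat.of k) := j ≫ G.hom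
  let q : Y ⟶ Spec (CommRingCat.of k) := i ≫ X.hom
  haveI : LocallyOfFiniteType p := inferInstance
  haveI : QuasiCompact p := inferInstance
  haveI : LocallyOfFiniteType q := inferInstance
  have hf : f' ≫ q = p := by
    change f' ≫ i ≫ X.hom = j ≫ G.hom
    rw [← Category.assoc, hfi]
    change j ≫ α.left ≫ X.hom = _
    rw [Over.w α]
  haveI : LocallyOfFiniteType f' := by
    haveI : LocallyOfFiniteType (f' ≫ q) := by rw [hf]; infer_instance
    exact locallyOfFiniteType_of_comp f' q
  haveI : QuasiCompact f' := inferInstance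
  have hZirr : IsIrreducible Z := (IdComp.Z0_mem k G pt).1
  haveI : IrreducibleSpace ↥ZO.toScheme :=
    IdComp.irreducibleSpace_of_isInducing j hjemb.isInducing (hjr ▸ hZirr)
  haveI : IrreducibleSpace ↥Y := by
    refine IdComp.irreducibleSpace_of_isInducing i hiemb.isInducing ?_
    rw [hir]
    exact (hZirr.image _ α.left.continuous.continuousOn).closure
  haveI : IsDominant f' := inferInstance
  haveI : IsLocallyNoetherian (Spec (CommRingCat.of k)) := inferInstance
  haveI : JacobsonSpace ↥(Spec (CommRingCat.of k)) := inferInstance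
  have hdim := Groth.Agent.Lib.Helper18.JacDim.topologicalKrullDim_eq_add_generic_fiber
    (field_h2 k) (field_h3 k) p q f' hf
  have hZ : topologicalKrullDim ↥ZO.toScheme = topologicalKrullDim ↥Z := by
    rw [← hjr]
    exact (Groth.Agent.Lib.Helper18.JacDim.topologicalKrullDim_range_eq hjemb).symm
  have hY : topologicalKrullDim ↥Y = topologicalKrullDim ↥(closure (α.left '' Z)) := by
    rw [← hir]
    exact (Groth.Agent.Lib.Helper18.JacDim.topologicalKrullDim_range_eq hiemb).symm
  -- the generic fibre has finite nonnegative dimension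
  have hη : f' (genericPoint ↥ZO.toScheme) = genericPoint ↥Y := by
    have h1 := (genericPoint_spec ↥ZO.toScheme).image f'.continuous
    rw [Set.image_univ, f'.denseRange.closure_range] at h1
    exact h1.eq (genericPoint_spec ↥Y)
  haveI : Nonempty ↥(f'.fiber (genericPoint ↥Y)) :=
    ⟨(f'.fiberHomeo (genericPoint ↥Y)).symm ⟨genericPoint ↥ZO.toScheme, hη⟩⟩
  have h0 : 0 ≤ topologicalKrullDim ↥(f'.fiber (genericPoint ↥Y)) :=
    Groth.Agent.Lib.Helper18.TopDim.zero_le_topologicalKrullDim
  have hlt : topologicalKrullDim ↥(f'.fiber (genericPoint ↥Y)) < ⊤ :=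
    lt_of_le_of_lt (f'.fiberι (genericPoint ↥Y)).isEmbedding.isInducing.topologicalKrullDim_le
      (dim_lt_top p)
  obtain ⟨n, hn⟩ := exists_nat_eq h0 hlt
  obtain ⟨V, hVne, hV⟩ := Groth.Agent.Lib.Helper12.H12FibDimGen.main f' n hn
  -- a rational point of `Z` mapping into `V`
  obtain ⟨z₀, hz₀⟩ := f'.denseRange.exists_mem_open V.isOpen hVne
  let W : Set ↥ZO.toScheme := f' ⁻¹' (V : Set ↥Y)
  have hWopen : IsOpen W := V.isOpen.preimage f'.continuous
  have hjW : IsOpen (j '' W) := j.isOpenEmbedding.isOpenMap W hWopen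
  obtain ⟨g, hg⟩ := OrbConn.exists_point_mem_of_isOpen G (j '' W) hjW ⟨j z₀, z₀, hz₀, rfl⟩
  obtain ⟨w, hwW, hwg⟩ := hg pt
  have hgZ : g.left pt ∈ Z := by
    rw [← hwg, ← hjr]
    exact ⟨w, rfl⟩
  have hfib := hV (f' w) hwW
  -- the fibre over `f' w`
  have hset : j '' (f' ⁻¹' {f' w}) = Z ∩ α.left ⁻¹' {α.left (g.left pt)} := by
    ext u
    constructor
    · rintro ⟨z, hz, rfl⟩
      rw [Set.mem_preimage, Set.mem_singleton_iff] at hz
      refine ⟨hjr ▸ ⟨z, rfl⟩, ?_⟩
      rw [Set.mem_preimage, Set.mem_singleton_iff, ← hfiapp, hz, hfiapp, hwg]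
    · rintro ⟨huZ, hu⟩
      rw [← hjr] at huZ
      obtain ⟨z, rfl⟩ := huZ
      rw [Set.mem_preimage, Set.mem_singleton_iff, ← hwg, ← hfiapp, ← hfiapp] at hu
      exact ⟨z, hiemb.injective hu, rfl⟩
  have hZtr : Z = (IdComp.ltr g).left '' Z :=
    eq_ltr_image_Z0 G pt Z (IdComp.Z0_mem k G pt) g hgZ
  haveI : IsIso (IdComp.ltr g).left := (Over.forget _).map_isIso (IdComp.ltr g)
  have hinj : Function.Injective (IdComp.ltr g).left :=
    (IdComp.ltr g).left.homeomorph.injective
  have hset2 : Z ∩ α.left ⁻¹' {α.left (g.left pt)} =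
      (IdComp.ltr g).left '' (Z ∩ α.left ⁻¹' {x.left pt}) := by
    rw [Set.image_inter hinj, ← hZtr, ← preimage_atr a x g (x.left pt), atr_point a x g pt]
  have hn' : topologicalKrullDim ↥(Z ∩ α.left ⁻¹' {x.left pt}) = n := by
    rw [← hfib, ← dim_ltr_image G g, ← dim_congr hset2, ← dim_congr hset,
      Groth.Agent.Lib.Helper18.JacDim.topologicalKrullDim_image_eq hjemb,
      ← dim_congr (f'.range_fiberι (f' w)),
      Groth.Agent.Lib.Helper18.JacDim.topologicalKrullDim_range_eq
        (f'.fiberι (f' w)).isEmbedding]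
  rw [← hZ, hdim, hY, hn, hn']

end Groth.Agent.Lib.Helper10.OrbitDim
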