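import Mathlib
import Groth.Agent.Lib.Helper10.HopfOrb8
import Groth.Agent.Lib.Helper12.IntegralDim
import Groth.Agent.Lib.Helper18.JacDim7

/-!
# Finite equivariant maps: closedness of orbits
-/

set_option autoImplicit false
set_option backward.isDefEq.respectTransparency.types false
set_option maxHeartbeats 4000000
set_option synthInstance.maxHeartbeats 400000
universe u
open CategoryTheory CategoryTheory.Limits AlgebraicGeometry MonoidalCategory
  CartesianMonoidalCategory MonObj GrpObj TopologicalSpace

namespace Groth.Agent.Lib.Helper10.HopfOrb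

open CoactBr Groth.Agent.Lib.Helper7.Comod Groth.Agent.Lib.Helper10.ClosedOrb
  Groth.Agent.Lib.Helper10.OrbitDim

section Dim

theorem dim_zeroLocus (R : Type u) [CommRing R] (I : Ideal R) :
    topologicalKrullDim ↥(PrimeSpectrum.zeroLocus (I : Set R)) = ringKrullDim (R ⧸ I) := by
  have he := PrimeSpectrum.isClosedEmbedding_comap_of_surjective (R ⧸ I) (Ideal.Quotient.mk I)
    Ideal.Quotient.mk_surjective
  have hr : Set.range (PrimeSpectrum.comap (Ideal.Quotient.mk I)) =
      PrimeSpectrum.zeroLocus (I : Set R) := by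
    rw [range_comap_of_surjective _ _ Ideal.Quotient.mk_surjective, Ideal.mk_ker]
  rw [← hr, Groth.Agent.Lib.Helper18.JacDim.topologicalKrullDim_range_eq he.isEmbedding,
    PrimeSpectrum.topologicalKrullDim_eq_ringKrullDim]

theorem dim_image_comap_of_isIntegral {S R : Type u} [CommRing S] [CommRing R] [Algebra S R]
    [Algebra.IsIntegral S R] (Z : Set (PrimeSpectrum R)) (hZ : IsClosed Z) :
    topologicalKrullDim ↥(PrimeSpectrum.comap (algebraMap S R) '' Z) =
      topologicalKrullDim ↥Z := by
  obtain ⟨I, rfl⟩ := (PrimeSpectrum.isClosed_iff_zeroLocus_ideal Z).mp hZ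
  have himg : PrimeSpectrum.comap (algebraMap S R) '' PrimeSpectrum.zeroLocus (I : Set R) =
      PrimeSpectrum.zeroLocus ((I.comap (algebraMap S R) : Ideal S) : Set S) := by
    rw [← PrimeSpectrum.closure_image_comap_zeroLocus]
    exact ((PrimeSpectrum.isClosedMap_comap_of_isIntegral _
      Algebra.IsIntegral.isIntegral) _ (PrimeSpectrum.isClosed_zeroLocus _)).closure_eq.symm
  rw [himg, dim_zeroLocus, dim_zeroLocus]
  exact Groth.Agent.Lib.Helper12.ringKrullDim_eq_of_isIntegral_of_injective
    (S ⧸ I.comap (algebraMap S R)) (R ⧸ I) Ideal.algebraMap_quotient_injective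

end Dim

end Groth.Agent.Lib.Helper10.HopfOrb
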