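import Mathlib
import Groth.Agent.Lib.Helper10.HopfFin1

/-!
# Finite equivariant maps: closedness of orbits (main theorem)
-/

set_option autoImplicit false
set_option backward.isDefEq.respectTransparency.types false
set_option maxHeartbeats 4000000
set_option synthInstance.maxHeartbeats 400000
universe u
open CategoryTheory CategoryTheory.Limits AlgebraicGeometry MonoidalCategory
  CartesianMonoidalCategory MonObj GrpObj TopologicalSpace

namespace Groth.Agent.Lib.Helper10.HopfOrb

open CoactBr Groth.Agent.Lib.Helper7.Comod Groth.Agent.Lib.Helper10.ClosedOrb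
  Groth.Agent.Lib.Helper10.OrbitDim

section Equiv

variable {k : Type u} [Field k]
variable {A S R : Type u} [CommRing A] [HopfAlgebra k A]
  [CommRing S] [Algebra k S] [HopfRep.Comod k A S] [GLin.IsCoactAlg k A S]
  [CommRing R] [Algebra k R] [HopfRep.Comod k A R] [GLin.IsCoactAlg k A R]
  (j : S →ₐ[k] R)
  (hequiv : ∀ s : S, HopfRep.Comod.coact (k := k) (A := A) (j s) =
    Algebra.TensorProduct.map j (AlgHom.id k A) (HopfRep.Comod.coact (k := k) (A := A) s))

include hequiv in
theorem orbitHom_comp (x : R →ₐ[k] k) :
    GLin.orbitHom k A (x.comp j) = (GLin.orbitHom k A x).comp j := by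
  apply AlgHom.ext
  intro s
  unfold GLin.orbitHom
  simp only [AlgHom.comp_apply, GLin.coactAlgHom_apply, hequiv]
  congr 1
  generalize HopfRep.Comod.coact (k := k) (A := A) s = t
  induction t using TensorProduct.induction_on with
  | zero => simp
  | tmul s a => simp
  | add y z hy hz => simp only [map_add, hy, hz]

include hequiv in
theorem actPt_comp (g : A →ₐ[k] k) (z : R →ₐ[k] k) :
    GLin.actPt k g (z.comp j) = (GLin.actPt k g z).comp j := by
  unfold GLin.actPt
  rw [orbitHom_comp j hequiv, AlgHom.comp_assoc]

include hequiv in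
theorem image_Orb (x : R →ₐ[k] k) : (pt j).left '' Orb A x = Orb A (x.comp j) := by
  rw [Orb_eq, Orb_eq, orbitHom_comp j hequiv, pt_comp, Over.comp_left, ← Set.range_comp]
  rfl

theorem P_comp' (z : R →ₐ[k] k) : (pt j).left (P z) = P (z.comp j) := (P_comp j z).symm

end Equiv

end Groth.Agent.Lib.Helper10.HopfOrb
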