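import Mathlib
import Groth.Agent.Lib.Helper10.HopfFin2

/-!
# Finite equivariant maps: closedness of orbits (main theorem)
-/

set_option autoImplicit false
set_option backward.isDefEq.respectTransparency.types false
set_option maxHeartbeats 4000000
set_option synthInstance.maxHeartbeats 400000
universe u
open CategoryTheory CategoryTheory.Limits AlgebraicGeometry MonoidalCategory
  CartesianMonoidalCategory MonObj GrpObj TopologicalSpace

namespace Groth.Agent.Lib.Helper10.HopfOrb

open CoactBr Groth.Agent.Lib.Helper7.Comod Groth.Agent.Lib.Helper10.ClosedOrb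
  Groth.Agent.Lib.Helper10.OrbitDim

variable {k : Type u} [Field k] [IsAlgClosed k]
variable {A S R : Type u} [CommRing A] [HopfAlgebra k A] [Algebra.FiniteType k A]
  [CommRing S] [Algebra k S] [Algebra.FiniteType k S] [HopfRep.Comod k A S]
  [GLin.IsCoactAlg k A S]
  [CommRing R] [Algebra k R] [Algebra.FiniteType k R] [HopfRep.Comod k A R]
  [GLin.IsCoactAlg k A R]
  [Algebra S R] [IsScalarTower k S R] [Algebra.IsIntegral S R]

theorem isClosedMap_pt_left :
    IsClosedMap (pt (IsScalarTower.toAlgHom k S R)).left :=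
  PrimeSpectrum.isClosedMap_comap_of_isIntegral (algebraMap S R) Algebra.IsIntegral.isIntegral

theorem dim_image_pt_left (Z : Set ↥(sp k R).left) (hZ : IsClosed Z) :
    topologicalKrullDim ↥((pt (IsScalarTower.toAlgHom k S R)).left '' Z) =
      topologicalKrullDim ↥Z :=
  dim_image_comap_of_isIntegral (S := S) (R := R) Z hZ

variable (hequiv : ∀ s : S, HopfRep.Comod.coact (k := k) (A := A) (algebraMap S R s) =
    Algebra.TensorProduct.map (IsScalarTower.toAlgHom k S R) (AlgHom.id k A)
      (HopfRep.Comod.coact (k := k) (A := A) s))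

include hequiv in
theorem isClosed_Orb_comp_of_isClosed (x : R →ₐ[k] k) (h : IsClosed (Orb A x)) :
    IsClosed (Orb A (x.comp (IsScalarTower.toAlgHom k S R))) := by
  rw [← image_Orb (IsScalarTower.toAlgHom k S R) hequiv]
  exact isClosedMap_pt_left _ h

include hequiv in
theorem isClosed_Orb_of_isClosed_comp (x : R →ₐ[k] k)
    (h : IsClosed (Orb A (x.comp (IsScalarTower.toAlgHom k S R)))) : IsClosed (Orb A x) := by
  set j := IsScalarTower.toAlgHom k S R with hj
  set y := x.comp j with hy
  have hequiv' : ∀ s : S, HopfRep.Comod.coact (k := k) (A := A) (j s) =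
      Algebra.TensorProduct.map j (AlgHom.id k A) (HopfRep.Comod.coact (k := k) (A := A) s) :=
    hequiv
  obtain ⟨U, hU, hUx⟩ := exists_isOpen_closure_inter_Orb (A := A) x
  set W := closure (Orb A x) with hW
  set B := W \ Orb A x with hB
  have hBe : B = W ∩ Uᶜ := by
    ext p
    constructor
    · rintro ⟨hp1, hp2⟩
      refine ⟨hp1, fun hpU => hp2 ?_⟩
      rw [← hUx]
      exact ⟨hp1, hpU⟩
    · rintro ⟨hp1, hp2⟩
      refine ⟨hp1, fun hpO => hp2 ?_⟩
      rw [← hUx] at hpO
      exact hpO.2
  have hBcl : IsClosed B := by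
    rw [hBe]
    exact isClosed_closure.inter hU.isClosed_compl
  have hBst : Stable (action k A R) B := (stable_Orb (A := A) x).closure.diff (stable_Orb x)
  -- the image of `W` is the orbit of `y`
  have hφW : (pt j).left '' W = Orb A y := by
    apply Set.Subset.antisymm
    · have h1 : (pt j).left '' W ⊆ closure ((pt j).left '' Orb A x) :=
        image_closure_subset_closure_image (pt j).left.continuous
      rw [image_Orb j hequiv', h.closure_eq] at h1
      exact h1
    · rw [← image_Orb j hequiv']
      exact Set.image_mono subset_closure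
  by_cases hBne : B.Nonempty
  swap
  · have hWO : W = Orb A x := by
      apply Set.Subset.antisymm _ subset_closure
      intro p hp
      by_contra hpO
      exact hBne ⟨p, hp, hpO⟩
    rw [← hWO]
    exact isClosed_closure
  exfalso
  obtain ⟨p, hp1, hp2⟩ := nonempty_inter_closedPoints hBne hBcl.isLocallyClosed
  obtain ⟨z, rfl⟩ := exists_P_of_mem_closedPoints R p hp2
  have hzy : P (z.comp j) ∈ Orb A y := by
    rw [← P_comp' j z, ← hφW]
    exact ⟨P z, hp1.1, rfl⟩
  obtain ⟨g, hg⟩ := exists_actPt_eq_of_mem_Orb y (z.comp j) hzy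
  set z' := GLin.actPt k (g.comp (HopfAlgebra.antipodeAlgHom k A)) z with hz'
  have hz'y : z'.comp j = y := by
    rw [hz', ← actPt_comp j hequiv', hg, actPt_inv_actPt]
  have hOz : Orb A z ⊆ B := Orb_subset_of_inter hBst z ⟨P z, hp1, P_mem_Orb_self z⟩
  have hOz' : Orb A z' = Orb A z := Orb_actPt z _
  have hcl : closure (Orb A z') ⊆ B := by
    rw [hOz']
    exact closure_minimal hOz hBcl
  have himg : (pt j).left '' Orb A z' = Orb A y := by
    rw [image_Orb j hequiv', hz'y]
  have d1 : topologicalKrullDim ↥(Orb A y) ≤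
      topologicalKrullDim ↥((pt j).left '' closure (Orb A z')) := by
    apply dim_mono
    rw [← himg]
    exact Set.image_mono subset_closure
  have d2 := dim_image_pt_left (S := S) (closure (Orb A z')) isClosed_closure
  have d3 : topologicalKrullDim ↥(closure (Orb A z')) ≤ topologicalKrullDim ↥B := dim_mono hcl
  have d4 : topologicalKrullDim ↥B < topologicalKrullDim ↥(Orb A x) :=
    dim_boundary_lt (sp k R).hom (Orb A x) U hU hUx (Orb_nonempty x)
  have d5 : topologicalKrullDim ↥(Orb A x) = topologicalKrullDim ↥W :=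
    dim_eq_dim_closure (sp k R).hom (Orb A x) U hU hUx
  have d6 := dim_image_pt_left (S := S) W isClosed_closure
  rw [hφW] at d6
  have : topologicalKrullDim ↥(Orb A y) < topologicalKrullDim ↥(Orb A y) := by
    calc topologicalKrullDim ↥(Orb A y) ≤ _ := d1
      _ = _ := d2
      _ ≤ _ := d3
      _ < _ := d4
      _ = _ := d5
      _ = _ := d6.symm
  exact lt_irrefl _ this

end Groth.Agent.Lib.Helper10.HopfOrb
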