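import Mathlib
import Groth.Agent.Lib.Helper25.GFAway

/-!
# Flatness by generic flatness and a transitive family of automorphisms (ring form)
-/

set_option autoImplicit false
universe u

namespace Groth.Agent.Lib.Helper10.HopfFlat

/-- transport of flatness of a localization along a compatible pair of automorphisms. -/
theorem flat_awayMap_of_equiv {B A : Type u} [CommRing B] [CommRing A] (φ : B →+* A)
    (σB : B ≃+* B) (σA : A ≃+* A) (hcomm : ∀ b, φ (σB b) = σA (φ b)) (b : B)
    (h : (Localization.awayMap φ b).Flat) : (Localization.awayMap φ (σB b)).Flat := by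
  have HB : (Submonoid.powers b).map σB.toMonoidHom = Submonoid.powers (σB b) := by
    rw [Submonoid.map_powers]; rfl
  have HA : (Submonoid.powers (φ b)).map σA.toMonoidHom = Submonoid.powers (φ (σB b)) := by
    rw [Submonoid.map_powers, hcomm]; rfl
  let eB : Localization.Away b ≃+* Localization.Away (σB b) :=
    IsLocalization.ringEquivOfRingEquiv (Localization.Away b) (Localization.Away (σB b)) σB HB
  let eA : Localization.Away (φ b) ≃+* Localization.Away (φ (σB b)) :=
    IsLocalization.ringEquivOfRingEquiv (Localization.Away (φ b))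
      (Localization.Away (φ (σB b))) σA HA
  have key : Localization.awayMap φ (σB b) =
      (eA.toRingHom.comp (Localization.awayMap φ b)).comp eB.symm.toRingHom := by
    apply IsLocalization.ringHom_ext (Submonoid.powers (σB b))
    ext r
    simp only [RingHom.comp_apply, RingEquiv.toRingHom_eq_coe, RingEquiv.coe_toRingHom]
    have h1 : eB.symm (algebraMap B (Localization.Away (σB b)) r) =
        algebraMap B (Localization.Away b) (σB.symm r) := by
      rw [RingEquiv.symm_apply_eq]
      change _ = IsLocalization.ringEquivOfRingEquiv _ _ σB HB _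
      rw [IsLocalization.ringEquivOfRingEquiv_eq, RingEquiv.apply_symm_apply]
    rw [h1]
    have h2 : Localization.awayMap φ b (algebraMap B (Localization.Away b) (σB.symm r)) =
        algebraMap A (Localization.Away (φ b)) (φ (σB.symm r)) := by
      unfold Localization.awayMap IsLocalization.Away.map
      rw [IsLocalization.map_eq]
    rw [h2]
    have h3 : eA (algebraMap A (Localization.Away (φ b)) (φ (σB.symm r))) =
        algebraMap A (Localization.Away (φ (σB b))) (σA (φ (σB.symm r))) :=
      IsLocalization.ringEquivOfRingEquiv_eq _ _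
    rw [h3, ← hcomm, RingEquiv.apply_symm_apply]
    unfold Localization.awayMap IsLocalization.Away.map
    rw [IsLocalization.map_eq]
  rw [key]
  exact RingHom.Flat.respectsIso.2 _ eB.symm
    (RingHom.Flat.respectsIso.1 _ eA h)

/-- a finite type ring map from a reduced ring which is homogeneous under a family of compatible
automorphisms is flat. -/
theorem flat_of_translates {B A : Type u} [CommRing B] [CommRing A] [IsReduced B] [Nontrivial B]
    (φ : B →+* A) (hφ : φ.FiniteType) (S : Set ((B ≃+* B) × (A ≃+* A)))
    (hcomm : ∀ p ∈ S, ∀ b, φ (p.1 b) = p.2 (φ b))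
    (hcover : ∀ b : B, b ≠ 0 → Ideal.span {c | ∃ p ∈ S, c = p.1 b} = ⊤) : φ.Flat := by
  obtain ⟨g, -, hg, hfl⟩ :=
    Groth.Agent.Lib.Helper25.GFAway.exists_flat_finitePresentation φ hφ 1 one_ne_zero
  refine RingHom.Flat.propertyIsLocal.ofLocalizationSpan φ _ (hcover g hg) ?_
  rintro ⟨c, p, hp, rfl⟩
  exact flat_awayMap_of_equiv φ p.1 p.2 (hcomm p hp) g (hfl g dvd_rfl).1

end Groth.Agent.Lib.Helper10.HopfFlat
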