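import Mathlib
import Groth.Agent.Lib.Helper10.HopfFlat1
import Groth.Agent.Lib.Helper10.HopfOrb12

/-!
# The coordinate ring of a closed orbit: `A` is faithfully flat over the image of the orbit map
-/

set_option autoImplicit false
set_option backward.isDefEq.respectTransparency.types false
set_option maxHeartbeats 4000000
set_option synthInstance.maxHeartbeats 400000
universe u
open TensorProduct

namespace Groth.Agent.Lib.Helper10.HopfFlat

open HopfRep Groth.Agent.Lib.Helper7.Comod Groth.Agent.Lib.Helper10.HopfOrb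

section Basic

variable {k : Type u} [Field k] {A : Type u} [CommRing A] [HopfAlgebra k A]

/-- the regular comodule is a comodule algebra (as in helper7's `HopfRegular`). -/
theorem isCoactAlg_regular : GLin.IsCoactAlg k A A :=
  ⟨Bialgebra.comul_one, fun f g => Bialgebra.comul_mul f g⟩

attribute [local instance] isCoactAlg_regular

variable {R : Type u} [CommRing R] [Algebra k R] [Comod k A R] [GLin.IsCoactAlg k A R]

/-- the orbit map intertwines the actions of rational points. -/
theorem actAlg_orbitHom (x : R →ₐ[k] k) (g : A →ₐ[k] k) (f : R) :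
    actAlg (R := A) g (GLin.orbitHom k A x f) = GLin.orbitHom k A x (actAlg g f) := by
  rw [actAlg_apply, actAlg_apply, act_eq_contr, act_eq_contr]
  have hc := isComodHom_apply (isComodHom_orbitHom (A := A) x) f
  have hc' : Comod.coact (k := k) (A := A) (GLin.orbitHom k A x f) =
      (GLin.orbitHom k A x).toLinearMap.rTensor A (Comod.coact (k := k) (A := A) f) := hc
  rw [hc', contr_rTensor]
  rfl

theorem orbitHom_counit (a : A) : GLin.orbitHom k A (Bialgebra.counitAlgHom k A) a = a := by
  rw [orbitHom_apply]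
  have h := Coalgebra.rTensor_counit_comul (R := k) a
  have h2 : contrL A (Bialgebra.counitAlgHom k A).toLinearMap (Coalgebra.comul (R := k) a) =
      TensorProduct.lid k A ((Coalgebra.counit (R := k) (A := A)).rTensor A
        (Coalgebra.comul (R := k) a)) := rfl
  change contrL A (Bialgebra.counitAlgHom k A).toLinearMap (Coalgebra.comul (R := k) a) = a
  rw [h2, h]
  simp

/-- the regular action on rational points: moving the counit by `g` gives `g`. -/
theorem actPt_counit (g : A →ₐ[k] k) :
    GLin.actPt k g (Bialgebra.counitAlgHom k A) = g := by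
  apply AlgHom.ext
  intro a
  rw [actPt_apply, orbitHom_counit]

/-- the regular action on rational points is transitive. -/
theorem exists_actPt_regular (g₀ h : A →ₐ[k] k) : ∃ g : A →ₐ[k] k, GLin.actPt k g g₀ = h := by
  refine ⟨(WithConv.toConv (g₀.comp (HopfAlgebra.antipodeAlgHom k A)) *
    WithConv.toConv h).ofConv, ?_⟩
  set G := (WithConv.toConv (g₀.comp (HopfAlgebra.antipodeAlgHom k A)) *
    WithConv.toConv h).ofConv with hG
  have h2 := actPt_actPt (A := A) g₀ G (Bialgebra.counitAlgHom k A)
  rw [actPt_counit] at h2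
  rw [h2, hG, WithConv.toConv_ofConv, ← mul_assoc,
    Groth.Agent.Lib.Helper7.HopfConv.self_mul_antipode, one_mul, WithConv.ofConv_toConv]
  exact actPt_counit h

end Basic

section Equiv

variable {k : Type u} [Field k] [IsAlgClosed k] {A : Type u} [CommRing A] [HopfAlgebra k A]
variable {R : Type u} [CommRing R] [Algebra k R] [Comod k A R] [GLin.IsCoactAlg k A R]
  [Algebra.FiniteType k R] [_root_.IsReduced R]

theorem eq_of_forall_algHom_eq (r r' : R) (h : ∀ x : R →ₐ[k] k, x r = x r') : r = r' := by
  have hnil : IsNilpotent (r - r') := by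
    apply isNilpotent_of_forall_algHom_eq_zero (k := k)
    intro x
    rw [map_sub, h x, sub_self]
  exact sub_eq_zero.mp hnil.eq_zero

theorem actAlg_inv_actAlg (g : A →ₐ[k] k) (r : R) :
    actAlg (g.comp (HopfAlgebra.antipodeAlgHom k A)) (actAlg g r) = r := by
  apply eq_of_forall_algHom_eq (k := k)
  intro x
  rw [apply_actAlg, apply_actAlg, actPt_actPt_inv]

theorem actAlg_actAlg_inv (g : A →ₐ[k] k) (r : R) :
    actAlg g (actAlg (g.comp (HopfAlgebra.antipodeAlgHom k A)) r) = r := by
  apply eq_of_forall_algHom_eq (k := k)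
  intro x
  rw [apply_actAlg, apply_actAlg, actPt_inv_actPt]

/-- the action of a rational point as an algebra automorphism. -/
noncomputable def actEquiv (g : A →ₐ[k] k) : R ≃ₐ[k] R :=
  AlgEquiv.ofAlgHom (actAlg g) (actAlg (g.comp (HopfAlgebra.antipodeAlgHom k A)))
    (AlgHom.ext (actAlg_actAlg_inv g)) (AlgHom.ext (actAlg_inv_actAlg g))

theorem actEquiv_apply (g : A →ₐ[k] k) (r : R) : actEquiv g r = actAlg g r := rfl

end Equiv

section Orbit

variable {k : Type u} [Field k] [IsAlgClosed k] {A : Type u} [CommRing A] [HopfAlgebra k A]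
  [Algebra.FiniteType k A] [IsDomain A]
variable {R : Type u} [CommRing R] [Algebra k R] [Comod k A R] [GLin.IsCoactAlg k A R]
  [Algebra.FiniteType k R]

attribute [local instance] isCoactAlg_regular

variable (x : R →ₐ[k] k)

/-- the coordinate ring of the orbit of `x`, as a subalgebra of `A`. -/
abbrev orbAlg : Subalgebra k A := (GLin.orbitHom k A x).range

omit [IsAlgClosed k] [Algebra.FiniteType k A] [IsDomain A] [Algebra.FiniteType k R] in
theorem actAlg_mem_orbAlg (g : A →ₐ[k] k) {a : A} (ha : a ∈ orbAlg (A := A) x) :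
    actAlg (R := A) g a ∈ orbAlg (A := A) x := by
  obtain ⟨f, rfl⟩ := ha
  exact ⟨actAlg g f, (actAlg_orbitHom x g f).symm⟩

/-- the action of a rational point on the coordinate ring of the orbit. -/
noncomputable def restr (g : A →ₐ[k] k) : orbAlg (A := A) x →ₐ[k] orbAlg (A := A) x :=
  ((actAlg (R := A) g).comp (orbAlg (A := A) x).val).codRestrict (orbAlg (A := A) x)
    (fun b => actAlg_mem_orbAlg x g b.2)

omit [IsAlgClosed k] [Algebra.FiniteType k A] [IsDomain A] [Algebra.FiniteType k R] in
theorem restr_coe (g : A →ₐ[k] k) (b : orbAlg (A := A) x) :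
    ((restr x g b : orbAlg (A := A) x) : A) = actAlg (R := A) g (b : A) := rfl

noncomputable def orbEquiv (g : A →ₐ[k] k) : orbAlg (A := A) x ≃ₐ[k] orbAlg (A := A) x :=
  AlgEquiv.ofAlgHom (restr x g) (restr x (g.comp (HopfAlgebra.antipodeAlgHom k A)))
    (by
      apply AlgHom.ext
      intro b
      apply Subtype.ext
      rw [AlgHom.comp_apply, restr_coe, restr_coe]
      exact actAlg_actAlg_inv (R := A) g (b : A))
    (by
      apply AlgHom.ext
      intro b
      apply Subtype.ext
      rw [AlgHom.comp_apply, restr_coe, restr_coe]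
      exact actAlg_inv_actAlg (R := A) g (b : A))

theorem orbEquiv_coe (g : A →ₐ[k] k) (b : orbAlg (A := A) x) :
    ((orbEquiv x g b : orbAlg (A := A) x) : A) = actAlg (R := A) g (b : A) := rfl

instance finiteType_orbAlg : Algebra.FiniteType k (orbAlg (A := A) x) :=
  Algebra.FiniteType.of_surjective (GLin.orbitHom k A x).rangeRestrict
    (GLin.orbitHom k A x).rangeRestrict_surjective

/-- for a closed orbit, the maximal ideals of the orbit algebra are the kernels of the rational
points of the group. -/
theorem exists_point_of_isMaximal (hcl : GLin.IsClosedOrbit k A x)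
    (m : Ideal (orbAlg (A := A) x)) (hm : m.IsMaximal) :
    ∃ g₀ : A →ₐ[k] k, m = RingHom.ker (g₀.comp (orbAlg (A := A) x).val) := by
  obtain ⟨y, hy⟩ := exists_algHom_of_ne_top (k := k) m hm.ne_top
  have hmy : m = RingHom.ker y := hm.eq_of_le (RingHom.ker_ne_top _) hy
  let z : R →ₐ[k] k := y.comp (GLin.orbitHom k A x).rangeRestrict
  have hz : GLin.InOrbitClosure k A x z := by
    intro f hf
    rw [RingHom.mem_ker] at hf ⊢
    have h0 : (GLin.orbitHom k A x).rangeRestrict f = 0 := Subtype.ext hf
    change y ((GLin.orbitHom k A x).rangeRestrict f) = 0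
    rw [h0, map_zero]
  obtain ⟨g₀, hg₀⟩ := exists_actPt_eq_of_isClosedOrbit hcl hz
  refine ⟨g₀, ?_⟩
  rw [hmy]
  congr 1
  apply AlgHom.ext
  intro b
  obtain ⟨f, rfl⟩ := (GLin.orbitHom k A x).rangeRestrict_surjective b
  have h1 : z f = GLin.actPt k g₀ x f := by rw [hg₀]
  exact h1

/-- the family of compatible automorphisms given by the rational points. -/
noncomputable def autos : Set ((orbAlg (A := A) x ≃+* orbAlg (A := A) x) × (A ≃+* A)) :=
  Set.range fun g : A →ₐ[k] k =>
    ((orbEquiv x g).toRingEquiv, (actEquiv (R := A) g).toRingEquiv)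

theorem span_translates_eq_top (hcl : GLin.IsClosedOrbit k A x) (b : orbAlg (A := A) x)
    (hb : b ≠ 0) : Ideal.span {c | ∃ p ∈ autos x, c = p.1 b} = ⊤ := by
  by_contra hne
  obtain ⟨m, hm, hle⟩ := Ideal.exists_le_maximal _ hne
  obtain ⟨g₀, hg₀⟩ := exists_point_of_isMaximal x hcl m hm
  have hvan : ∀ h : A →ₐ[k] k, h (b : A) = 0 := by
    intro h
    obtain ⟨g, hg⟩ := exists_actPt_regular g₀ h
    have h1 : orbEquiv x g b ∈ m := by
      apply hle
      apply Ideal.subset_span
      exact ⟨_, ⟨g, rfl⟩, rfl⟩
    rw [hg₀, RingHom.mem_ker] at h1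
    have h2 : g₀ (actAlg (R := A) g (b : A)) = 0 := h1
    rw [apply_actAlg, hg] at h2
    exact h2
  have hnil : IsNilpotent (b : A) := isNilpotent_of_forall_algHom_eq_zero (k := k) _ hvan
  exact hb (Subtype.ext hnil.eq_zero)

theorem flat_orbAlg (hcl : GLin.IsClosedOrbit k A x) :
    (algebraMap (orbAlg (A := A) x) A).Flat := by
  haveI : Algebra.FiniteType (orbAlg (A := A) x) A :=
    Algebra.FiniteType.of_restrictScalars_finiteType k (orbAlg (A := A) x) A
  refine flat_of_translates (algebraMap (orbAlg (A := A) x) A)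
    (RingHom.finiteType_algebraMap.mpr inferInstance) (autos x) ?_
    (span_translates_eq_top x hcl)
  rintro p ⟨g, rfl⟩ b
  rfl

theorem faithfullyFlat_orbAlg (hcl : GLin.IsClosedOrbit k A x) :
    Module.FaithfullyFlat (orbAlg (A := A) x) A := by
  haveI : Module.Flat (orbAlg (A := A) x) A := RingHom.flat_algebraMap_iff.mp (flat_orbAlg x hcl)
  refine ⟨?_⟩
  intro m hm htop
  obtain ⟨g₀, hg₀⟩ := exists_point_of_isMaximal x hcl m hm
  have hall : ∀ a ∈ m • (⊤ : Submodule (orbAlg (A := A) x) A), g₀ a = 0 := by
    intro a ha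
    refine Submodule.smul_induction_on (p := fun a => g₀ a = 0) ha ?_ ?_
    · intro b hb a _
      rw [hg₀, RingHom.mem_ker] at hb
      have hb' : g₀ (b : A) = 0 := hb
      rw [Algebra.smul_def, map_mul]
      change g₀ (b : A) * g₀ a = 0
      rw [hb', zero_mul]
    · intro a a' ha ha'
      rw [map_add, ha, ha', add_zero]
  have h1 := hall 1 (by rw [htop]; trivial)
  rw [map_one] at h1
  exact one_ne_zero h1

end Orbit

end Groth.Agent.Lib.Helper10.HopfFlat
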