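import Mathlib
import Groth.Agent.Lib.Helper10.HopfFlat2

/-!
# Descent of characters trivial on the stabilizer to the closed orbit
-/

set_option autoImplicit false
set_option backward.isDefEq.respectTransparency.types false
set_option maxHeartbeats 4000000
set_option synthInstance.maxHeartbeats 400000
universe u
open TensorProduct

namespace Groth.Agent.Lib.Helper10.HopfFlat

open HopfRep Groth.Agent.Lib.Helper7.Comod Groth.Agent.Lib.Helper10.HopfOrb

section Gamma

variable {k : Type u} [Field k] {A : Type u} [CommRing A] [HopfAlgebra k A] (B : Subalgebra k A)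

/-- the left inclusion `A → A ⊗[B] A`. -/
noncomputable def incL : A →ₐ[k] A ⊗[B] A := Algebra.TensorProduct.includeLeft

/-- the right inclusion `A → A ⊗[B] A`. -/
noncomputable def incR : A →ₐ[k] A ⊗[B] A :=
  (Algebra.TensorProduct.includeRight : A →ₐ[B] A ⊗[B] A).restrictScalars k

theorem incL_apply (a : A) : incL B a = a ⊗ₜ[B] (1 : A) := rfl

theorem incR_apply (a : A) : incR B a = (1 : A) ⊗ₜ[B] a := rfl

theorem incL_eq_incR_of_mem {b : A} (hb : b ∈ B) : incL B b = incR B b := by
  rw [incL_apply, incR_apply]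
  have h1 : b = (⟨b, hb⟩ : B) • (1 : A) := by
    rw [Algebra.smul_def, mul_one]; rfl
  conv_lhs => rw [h1]
  rw [TensorProduct.smul_tmul, ← h1]

/-- the map `(g, g') ↦ g' g⁻¹` on coordinate rings, into `A ⊗[B] A`. -/
noncomputable def gamma : A →ₐ[k] A ⊗[B] A :=
  (Algebra.TensorProduct.productMap (incR B)
    ((incL B).comp (HopfAlgebra.antipodeAlgHom k A))).comp (Bialgebra.comulAlgHom k A)

theorem gamma_apply (a : A) :
    gamma B a = Algebra.TensorProduct.productMap (incR B)
      ((incL B).comp (HopfAlgebra.antipodeAlgHom k A)) (Coalgebra.comul (R := k) a) := rfl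

theorem gamma_of_isGroupLikeElem {ψ : A} (hψ : IsGroupLikeElem k ψ) :
    gamma B ψ = incR B ψ * incL B (HopfAlgebra.antipode k ψ) := by
  rw [gamma_apply, hψ.comul_eq_tmul_self, Algebra.TensorProduct.productMap_apply_tmul]
  rfl

end Gamma

section Key

variable {k : Type u} [Field k] {A : Type u} [CommRing A] [HopfAlgebra k A]
variable {R : Type u} [CommRing R] [Algebra k R] [Comod k A R] [GLin.IsCoactAlg k A R]

variable (x : R →ₐ[k] k)

/-- `Δ ∘ φ₀ = (φ₀ ⊗ id) ∘ ρ` as elements. -/
theorem comul_orbitHom (f : R) :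
    Coalgebra.comul (R := k) (GLin.orbitHom k A x f) =
      Algebra.TensorProduct.map (GLin.orbitHom k A x) (AlgHom.id k A)
        (GLin.coactAlgHom k A R f) := by
  have hc := isComodHom_apply (isComodHom_orbitHom (A := A) x) f
  have hc' : Coalgebra.comul (R := k) (GLin.orbitHom k A x f) =
      (GLin.orbitHom k A x).toLinearMap.rTensor A (Comod.coact (k := k) (A := A) f) := hc
  rw [hc', GLin.coactAlgHom_apply]
  generalize Comod.coact (k := k) (A := A) f = y
  induction y using TensorProduct.induction_on with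
  | zero => simp
  | tmul r a => simp
  | add y z hy hz => simp only [map_add, hy, hz]

/-- `Σ a₁ S(a₂) = ε(a)` in product-map form. -/
theorem productMap_id_antipode (a : A) :
    Algebra.TensorProduct.productMap (AlgHom.id k A) (HopfAlgebra.antipodeAlgHom k A)
      (Coalgebra.comul (R := k) a) = algebraMap k A (Coalgebra.counit (R := k) a) := by
  have h := HopfAlgebra.mul_antipode_lTensor_comul_apply (R := k) a
  rw [← h]
  generalize Coalgebra.comul (R := k) a = y
  induction y using TensorProduct.induction_on with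
  | zero => simp
  | tmul r a => simp [HopfAlgebra.antipodeAlgHom_apply]
  | add y z hy hz => simp only [map_add, hy, hz]

theorem gamma_orbitHom (f : R) :
    gamma (orbAlg (A := A) x) (GLin.orbitHom k A x f) =
      algebraMap k (A ⊗[orbAlg (A := A) x] A) (x f) := by
  set B := orbAlg (A := A) x with hB
  let Q₁ : R ⊗[k] A →ₐ[k] A ⊗[B] A :=
    (Algebra.TensorProduct.productMap (incR B)
      ((incL B).comp (HopfAlgebra.antipodeAlgHom k A))).comp
        (Algebra.TensorProduct.map (GLin.orbitHom k A x) (AlgHom.id k A))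
  let Q₂ : R ⊗[k] A →ₐ[k] A ⊗[B] A :=
    (incL B).comp ((Algebra.TensorProduct.productMap (AlgHom.id k A)
      (HopfAlgebra.antipodeAlgHom k A)).comp
        (Algebra.TensorProduct.map (GLin.orbitHom k A x) (AlgHom.id k A)))
  have hQ : Q₁ = Q₂ := by
    apply Algebra.TensorProduct.ext'
    intro r a
    simp only [Q₁, Q₂, AlgHom.comp_apply, Algebra.TensorProduct.map_tmul,
      Algebra.TensorProduct.productMap_apply_tmul, AlgHom.id_apply, map_mul]
    rw [incL_eq_incR_of_mem B (⟨r, rfl⟩ : GLin.orbitHom k A x r ∈ B)]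
  rw [gamma_apply, comul_orbitHom]
  change Q₁ (GLin.coactAlgHom k A R f) = _
  rw [hQ]
  change incL B (Algebra.TensorProduct.productMap (AlgHom.id k A) (HopfAlgebra.antipodeAlgHom k A)
    (Algebra.TensorProduct.map (GLin.orbitHom k A x) (AlgHom.id k A)
      (GLin.coactAlgHom k A R f))) = _
  rw [← comul_orbitHom, productMap_id_antipode, counit_orbitHom, AlgHom.commutes]

end Key

section Descent

variable {k : Type u} [Field k] [IsAlgClosed k] {A : Type u} [CommRing A] [HopfAlgebra k A]
  [Algebra.FiniteType k A] [IsDomain A]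
variable {R : Type u} [CommRing R] [Algebra k R] [Comod k A R] [GLin.IsCoactAlg k A R]
  [Algebra.FiniteType k R]

variable (x : R →ₐ[k] k)

omit [IsAlgClosed k] [Algebra.FiniteType k A] [IsDomain A] [Algebra.FiniteType k R] in
theorem stabIdeal_le_ker_gamma :
    GLin.stabIdeal k A x ≤ RingHom.ker (gamma (orbAlg (A := A) x)) := by
  unfold GLin.stabIdeal
  rw [Ideal.map_le_iff_le_comap]
  intro f hf
  rw [Ideal.mem_comap, RingHom.mem_ker]
  have h0 : x f = 0 := hf
  have := gamma_orbitHom (A := A) x f
  rw [h0, map_zero] at this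
  exact this

/-- a character which is trivial on the stabilizer of a point with closed orbit is a function on the
orbit. -/
theorem mem_orbAlg_of_sub_one_mem_stabIdeal (hcl : GLin.IsClosedOrbit k A x) {ψ : A}
    (hψ : IsGroupLikeElem k ψ) (h : ψ - 1 ∈ GLin.stabIdeal k A x) : ψ ∈ orbAlg (A := A) x := by
  set B := orbAlg (A := A) x with hB
  have h1 : gamma B ψ = 1 := by
    have h0 := stabIdeal_le_ker_gamma (A := A) x h
    rw [RingHom.mem_ker, map_sub, map_one, sub_eq_zero] at h0
    exact h0
  rw [gamma_of_isGroupLikeElem B hψ] at h1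
  have h2 : incL B ψ = incR B ψ := by
    calc incL B ψ = incL B ψ * (incR B ψ * incL B (HopfAlgebra.antipode k ψ)) := by
          rw [h1, mul_one]
      _ = incR B ψ * incL B (ψ * HopfAlgebra.antipode k ψ) := by rw [map_mul]; ring
      _ = incR B ψ := by rw [hψ.mul_antipode_cancel, map_one, mul_one]
  haveI := faithfullyFlat_orbAlg x hcl
  have heff := Algebra.IsEffective.of_faithfullyFlat B A
  have h3 : Algebra.TensorProduct.includeLeftSubRight B A ψ = 0 := by
    rw [Algebra.TensorProduct.includeLeftSubRight_apply, sub_eq_zero]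
    exact h2
  obtain ⟨b, hb⟩ := (heff ψ).mp h3
  rw [← hb]
  exact b.2

end Descent

end Groth.Agent.Lib.Helper10.HopfFlat
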