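import Mathlib
import Groth.Agent.Lib.Helper10.HopfFlat3

/-!
# Semi-invariants and characters trivial on stabilizers of closed orbits
-/

set_option autoImplicit false
set_option backward.isDefEq.respectTransparency.types false
set_option maxHeartbeats 4000000
set_option synthInstance.maxHeartbeats 400000
universe u
open TensorProduct

namespace Groth.Agent.Lib.Helper10.HopfFlat

open HopfRep Groth.Agent.Lib.Helper7.Comod Groth.Agent.Lib.Helper10.HopfOrb

section Eigen

variable {k : Type u} [Field k] {A : Type u} [CommRing A] [HopfAlgebra k A]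
variable {R : Type u} [CommRing R] [Algebra k R] [Comod k A R] [GLin.IsCoactAlg k A R]

variable (x : R →ₐ[k] k)

/-- a semi-invariant of weight `χ` not vanishing at `x` forces `χ` to be trivial on the
stabilizer of `x`. -/
theorem sub_one_mem_stabIdeal_of_eigen {χ : A} {h : R}
    (hh : Comod.coact (k := k) (A := A) h = h ⊗ₜ[k] χ) (hx : x h ≠ 0) :
    χ - 1 ∈ GLin.stabIdeal k A x := by
  have h1 : GLin.orbitHom k A x h = x h • χ := by
    rw [orbitHom_apply, hh, contrL_tmul]
    rfl
  have h2 : h - algebraMap k R (x h) ∈ RingHom.ker x := by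
    rw [RingHom.mem_ker, map_sub, AlgHom.commutes]
    exact sub_self _
  have h3 : GLin.orbitHom k A x (h - algebraMap k R (x h)) ∈ GLin.stabIdeal k A x :=
    Ideal.mem_map_of_mem _ h2
  rw [map_sub, h1, AlgHom.commutes] at h3
  have h4 : χ - 1 = algebraMap k A (x h)⁻¹ * (x h • χ - algebraMap k A (x h)) := by
    rw [mul_sub, Algebra.smul_def, ← mul_assoc, ← map_mul, inv_mul_cancel₀ hx,
      map_one, one_mul]
  rw [h4]
  exact Ideal.mul_mem_left _ _ h3

/-- lifting a character in the orbit algebra to a semi-invariant function. -/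
theorem exists_eigen_of_mem_orbAlg (hR : IsSemisimpleComod k A R) {ψ : A}
    (hψ : IsGroupLikeElem k ψ) (hmem : ψ ∈ orbAlg (A := A) x) :
    ∃ h : R, Comod.coact (k := k) (A := A) h = h ⊗ₜ[k] ψ ∧ GLin.orbitHom k A x h = ψ := by
  obtain ⟨h₀, hh₀⟩ := hmem
  let φ : R →ₗ[k] A := (GLin.orbitHom k A x).toLinearMap
  have hφ : Hoch.IsComodHom A φ := isComodHom_orbitHom (A := A) x
  obtain ⟨W', hW', hcompl⟩ := hR (LinearMap.ker φ) (isSubcomod_ker hφ)
  have htop : h₀ ∈ LinearMap.ker φ ⊔ W' := by rw [hcompl.sup_eq_top]; trivial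
  obtain ⟨i, hi, w, hw, hiw⟩ := Submodule.mem_sup.mp htop
  have hφw : φ w = ψ := by
    have : φ h₀ = ψ := hh₀
    rw [← hiw, map_add, LinearMap.mem_ker.mp hi, zero_add] at this
    exact this
  refine ⟨w, ?_, hφw⟩
  obtain ⟨t, ht⟩ := hW' w hw
  let j : W' →ₗ[k] A := φ ∘ₗ W'.subtype
  have hj : Function.Injective j := by
    rw [← LinearMap.ker_eq_bot, LinearMap.ker_eq_bot']
    intro v hv
    have h1 : (v : R) ∈ LinearMap.ker φ ⊓ W' := ⟨hv, v.2⟩
    rw [hcompl.inf_eq_bot, Submodule.mem_bot] at h1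
    exact Subtype.ext h1
  have hjinj : Function.Injective (j.rTensor A) :=
    Module.Flat.rTensor_preserves_injective_linearMap j hj
  have e1 : j.rTensor A t = ψ ⊗ₜ[k] ψ := by
    have : j.rTensor A t = φ.rTensor A (W'.subtype.rTensor A t) := by
      rw [← LinearMap.comp_apply, ← LinearMap.rTensor_comp]
    rw [this, ht, ← isComodHom_apply hφ w, hφw]
    exact hψ.comul_eq_tmul_self
  have e2 : j.rTensor A ((⟨w, hw⟩ : W') ⊗ₜ[k] ψ) = ψ ⊗ₜ[k] ψ := by
    rw [LinearMap.rTensor_tmul]
    change φ w ⊗ₜ[k] ψ = _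
    rw [hφw]
  have e3 : t = (⟨w, hw⟩ : W') ⊗ₜ[k] ψ := hjinj (e1.trans e2.symm)
  rw [← ht, e3, LinearMap.rTensor_tmul]
  rfl

end Eigen

section Main

variable {k : Type u} [Field k] [IsAlgClosed k] {A : Type u} [CommRing A] [HopfAlgebra k A]
  [Algebra.FiniteType k A] [IsDomain A]
variable {R : Type u} [CommRing R] [Algebra k R] [Comod k A R] [GLin.IsCoactAlg k A R]
  [Algebra.FiniteType k R]

/-- for a point with closed orbit, a character trivial on the stabilizer is the weight of a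
semi-invariant function not vanishing at the point. -/
theorem exists_eigen_of_closed (hR : IsSemisimpleComod k A R) (x : R →ₐ[k] k)
    (hcl : GLin.IsClosedOrbit k A x) {ψ : A} (hψ : IsGroupLikeElem k ψ)
    (h : ψ - 1 ∈ GLin.stabIdeal k A x) :
    ∃ h : R, Comod.coact (k := k) (A := A) h = h ⊗ₜ[k] ψ ∧ x h ≠ 0 := by
  obtain ⟨w, hw, hφw⟩ := exists_eigen_of_mem_orbAlg x hR hψ
    (mem_orbAlg_of_sub_one_mem_stabIdeal x hcl hψ h)
  refine ⟨w, hw, ?_⟩
  rw [← counit_orbitHom (A := A) x w, hφw, hψ.counit_eq_one]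
  exact one_ne_zero

/-- the set of points with closed orbit on whose stabilizer a character is trivial is cut out by
invariants. -/
theorem character_locus (hR : IsSemisimpleComod k A R) (χ : A) (hχ : IsGroupLikeElem k χ) :
    ∃ E : Set R, E ⊆ (GLin.invariants k A R : Set R) ∧
      ∀ x : R →ₐ[k] k, GLin.IsClosedOrbit k A x →
        (χ - 1 ∈ GLin.stabIdeal k A x ↔ ∃ f ∈ E, x f ≠ 0) := by
  refine ⟨{f | ∃ h h' : R, Comod.coact (k := k) (A := A) h = h ⊗ₜ[k] χ ∧
    Comod.coact (k := k) (A := A) h' = h' ⊗ₜ[k] HopfAlgebra.antipode k χ ∧ f = h * h'}, ?_, ?_⟩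
  · rintro f ⟨h, h', hh, hh', rfl⟩
    change h * h' ∈ GLin.invariants k A R
    rw [GLin.mem_invariants_iff, GLin.IsCoactAlg.coact_mul, hh, hh',
      Algebra.TensorProduct.tmul_mul_tmul, hχ.mul_antipode_cancel]
  · intro x hcl
    constructor
    · intro hmem
      obtain ⟨h, hh, hxh⟩ := exists_eigen_of_closed hR x hcl hχ hmem
      have hmem' : HopfAlgebra.antipode k χ - 1 ∈ GLin.stabIdeal k A x := by
        have e : HopfAlgebra.antipode k χ - 1 = -(HopfAlgebra.antipode k χ) * (χ - 1) := by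
          rw [mul_sub, neg_mul, hχ.antipode_mul_cancel]
          ring
        rw [e]
        exact Ideal.mul_mem_left _ _ hmem
      obtain ⟨h', hh', hxh'⟩ := exists_eigen_of_closed hR x hcl hχ.antipode hmem'
      refine ⟨h * h', ⟨h, h', hh, hh', rfl⟩, ?_⟩
      rw [map_mul]
      exact mul_ne_zero hxh hxh'
    · rintro ⟨f, ⟨h, h', hh, -, rfl⟩, hx⟩
      rw [map_mul] at hx
      exact sub_one_mem_stabIdeal_of_eigen x hh (left_ne_zero_of_mul hx)

end Main

end Groth.Agent.Lib.Helper10.HopfFlat
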