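import Mathlib
import Groth.Agent.Lib.Helper10.HopfOrb10

/-!
# Stable points in the prime-spectrum form (`GLin.IsStablePt`) versus the points form
-/

set_option autoImplicit false
set_option backward.isDefEq.respectTransparency.types false
set_option maxHeartbeats 4000000
set_option synthInstance.maxHeartbeats 400000
universe u
open CategoryTheory CategoryTheory.Limits AlgebraicGeometry MonoidalCategory
  CartesianMonoidalCategory MonObj GrpObj TopologicalSpace

namespace Groth.Agent.Lib.Helper10.HopfOrb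

open CoactBr Groth.Agent.Lib.Helper7.Comod Groth.Agent.Lib.Helper10.ClosedOrb
  Groth.Agent.Lib.Helper10.OrbitDim

section Alg

variable (k : Type u) [Field k] (B : Type u) [CommRing B] [Algebra k B]

theorem finite_algHom_of_moduleFinite [Module.Finite k B] : Finite (B →ₐ[k] k) := by
  have hli := linearIndependent_toLinearMap k B k
  exact hli.finite_of_isNoetherian

variable [IsAlgClosed k] [Algebra.FiniteType k B]

theorem eq_of_ker_le (x y : B →ₐ[k] k) (h : RingHom.ker x ≤ RingHom.ker y) : x = y := by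
  apply AlgHom.ext
  intro f
  have h1 : f - algebraMap k B (x f) ∈ RingHom.ker x := by
    rw [RingHom.mem_ker, map_sub, AlgHom.commutes]
    exact sub_self _
  have h2 := h h1
  rw [RingHom.mem_ker, map_sub, AlgHom.commutes] at h2
  have h3 : y f = algebraMap k k (x f) := sub_eq_zero.mp h2
  rw [h3]
  rfl

theorem moduleFinite_of_finite_algHom [Finite (B →ₐ[k] k)] : Module.Finite k B := by
  rw [Module.finite_iff_krullDimLE_zero, Ring.krullDimLE_zero_iff]
  intro p hp
  haveI : IsJacobsonRing B := isJacobsonRing_of_finiteType (A := k)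
  have hjac : Ideal.jacobson p = p := IsJacobsonRing.out inferInstance hp.isRadical
  -- the finite set of all maximal ideals
  let M : Set (Ideal B) := Set.range fun x : B →ₐ[k] k => RingHom.ker x
  have hMfin : M.Finite := Set.finite_range _
  have hmax : ∀ J : Ideal B, J.IsMaximal → J ∈ M := by
    intro J hJ
    obtain ⟨x, hx⟩ := exists_algHom_of_ne_top (k := k) J hJ.ne_top
    exact ⟨x, (hJ.eq_of_le (RingHom.ker_ne_top _) hx).symm⟩
  let S : Set (Ideal B) := {J | p ≤ J ∧ J.IsMaximal}
  have hSfin : S.Finite := hMfin.subset fun J hJ => hmax J hJ.2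
  have hinf : hSfin.toFinset.inf id ≤ p := by
    have : hSfin.toFinset.inf id = sInf S := by
      rw [Finset.inf_id_eq_sInf, Set.Finite.coe_toFinset]
    rw [this]
    exact le_of_eq hjac
  obtain ⟨J, hJS, hJp⟩ := (Ideal.IsPrime.inf_le' hp).mp hinf
  have hJ : J ∈ S := (Set.Finite.mem_toFinset hSfin).mp hJS
  have : p = J := le_antisymm hJ.1 hJp
  rw [this]
  exact hJ.2

theorem finite_algHom_iff : Finite (B →ₐ[k] k) ↔ Module.Finite k B :=
  ⟨fun _ => moduleFinite_of_finite_algHom k B, fun _ => finite_algHom_of_moduleFinite k B⟩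

end Alg

variable {k : Type u} [Field k] [IsAlgClosed k]
variable {A R : Type u} [CommRing A] [HopfAlgebra k A] [CommRing R] [Algebra k R]
  [HopfRep.Comod k A R] [GLin.IsCoactAlg k A R] [Algebra.FiniteType k A]
  [Algebra.FiniteType k R]

theorem mem_StabAlg_iff_stabIdeal (x : R →ₐ[k] k) (g : A →ₐ[k] k) :
    g ∈ StabAlg A x ↔ GLin.stabIdeal k A x ≤ RingHom.ker g := by
  rw [mem_StabAlg_iff]
  unfold GLin.stabIdeal
  rw [Ideal.map_le_iff_le_comap]
  constructor
  · intro h f hf
    rw [Ideal.mem_comap, RingHom.mem_ker]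
    have h1 : GLin.actPt k g x f = x f := by rw [h]
    rw [actPt_apply] at h1
    rw [RingHom.mem_ker] at hf
    exact h1.trans hf
  · intro h
    symm
    apply eq_of_ker_le k R
    intro f hf
    have := h hf
    rw [Ideal.mem_comap, RingHom.mem_ker] at this
    rw [RingHom.mem_ker, actPt_apply]
    exact this

theorem hasFiniteStab_iff (x : R →ₐ[k] k) :
    GLin.HasFiniteStab k A x ↔ (StabAlg A x).Finite := by
  unfold GLin.HasFiniteStab
  haveI : Algebra.FiniteType k (A ⧸ GLin.stabIdeal k A x) :=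
    Algebra.FiniteType.of_surjective (Ideal.Quotient.mkₐ k (GLin.stabIdeal k A x))
      (Ideal.Quotient.mkₐ_surjective k _)
  rw [← finite_algHom_iff k (A ⧸ GLin.stabIdeal k A x)]
  let e : ((A ⧸ GLin.stabIdeal k A x) →ₐ[k] k) → (A →ₐ[k] k) :=
    fun ψ => ψ.comp (Ideal.Quotient.mkₐ k (GLin.stabIdeal k A x))
  have hinj : Function.Injective e := by
    intro ψ ψ' h
    apply AlgHom.ext
    intro b
    obtain ⟨a, rfl⟩ := Ideal.Quotient.mk_surjective b
    exact congrArg (fun t : A →ₐ[k] k => t a) h
  have hrange : Set.range e = StabAlg A x := by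
    ext g
    rw [mem_StabAlg_iff_stabIdeal]
    constructor
    · rintro ⟨ψ, rfl⟩ a ha
      rw [RingHom.mem_ker]
      change ψ (Ideal.Quotient.mk _ a) = 0
      rw [Ideal.Quotient.eq_zero_iff_mem.mpr ha, map_zero]
    · intro h
      refine ⟨Ideal.Quotient.liftₐ (GLin.stabIdeal k A x) g (fun a ha => h ha), ?_⟩
      apply AlgHom.ext
      intro a
      rfl
  rw [← hrange]
  constructor
  · intro _
    exact Set.finite_range e
  · intro h
    haveI : Finite (Set.range e) := h
    exact Finite.of_injective (fun ψ => (⟨e ψ, ⟨ψ, rfl⟩⟩ : Set.range e))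
      (fun ψ ψ' hh => hinj (congrArg Subtype.val hh))

omit [Algebra.FiniteType k R] in
theorem isClosedOrbit_iff_isClosed_Orb (x : R →ₐ[k] k) :
    GLin.IsClosedOrbit k A x ↔ IsClosed (Orb A x) := by
  rw [Orb_eq]
  exact Iff.rfl

theorem isClosedOrbit_iff (x : R →ₐ[k] k) :
    GLin.IsClosedOrbit k A x ↔ ClosedForm A x := by
  rw [isClosedOrbit_iff_isClosed_Orb]
  exact ⟨closedForm_of_isClosed x, isClosed_of_closedForm x⟩

theorem isStablePt_iff (x : R →ₐ[k] k) :
    GLin.IsStablePt k A x ↔ (ClosedForm A x ∧ (StabAlg A x).Finite) := by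
  unfold GLin.IsStablePt
  rw [isClosedOrbit_iff, hasFiniteStab_iff]

theorem stable_locus' [_root_.IsReduced A] (hR : HopfRep.IsSemisimpleComod k A R) :
    ∃ S : Set R, S ⊆ (GLin.invariants k A R : Set R) ∧
      ∀ x : R →ₐ[k] k, GLin.IsStablePt k A x ↔ ∃ f ∈ S, x f ≠ 0 := by
  obtain ⟨S, hS, h⟩ := stable_locus (k := k) (A := A) (R := R) hR
  refine ⟨S, ?_, fun x => (isStablePt_iff x).trans (h x)⟩
  intro f hf
  exact hS hf

end Groth.Agent.Lib.Helper10.HopfOrb
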