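import Mathlib
import Groth.Agent.Lib.Helper10.ClosedSubF

/-!
# Zariski gluing of subfunctors locally representable by monomorphisms
(the monomorphism version of `ClosedSubF.exists_repBy_of_good`)
-/

set_option autoImplicit false
set_option backward.isDefEq.respectTransparency.types false
set_option maxHeartbeats 4000000
set_option synthInstance.maxHeartbeats 400000
universe u
open CategoryTheory CategoryTheory.Limits AlgebraicGeometry

namespace Groth.Agent.Lib.Helper10.MonoSubF

open Groth.Agent.Lib.Helper10.ClosedSubF Groth.Agent.Lib.Helper10.ClosedSubF.SubF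

variable {X : Scheme.{u}}

/-- `Φ` restricted to the open `V` is representable by a closed subscheme of `V`. -/
def Good (Φ : SubF X) (V : X.Opens) : Prop :=
  ∃ (W : Scheme.{u}) (i : W ⟶ V.toScheme), Mono i ∧ (Φ.restrict V.ι).RepBy i

theorem Good.of_le {Φ : SubF X} {V V' : X.Opens} (hV : Good Φ V) (hle : V' ≤ V) : Good Φ V' := by
  obtain ⟨W, i, hi, hrep⟩ := hV
  refine ⟨pullback i (X.homOfLE hle), pullback.snd i (X.homOfLE hle), inferInstance, ?_⟩
  intro T t
  have e : (Φ.restrict V'.ι).P t ↔ (Φ.restrict V.ι).P (t ≫ X.homOfLE hle) := by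
    change Φ.P (t ≫ V'.ι) ↔ Φ.P ((t ≫ X.homOfLE hle) ≫ V.ι)
    rw [Category.assoc, Scheme.homOfLE_ι]
  rw [e, hrep]
  constructor
  · rintro ⟨w, hw⟩
    exact ⟨pullback.lift w t hw, pullback.lift_snd _ _ _⟩
  · rintro ⟨w', rfl⟩
    exact ⟨w' ≫ pullback.fst _ _, by rw [Category.assoc, Category.assoc, pullback.condition]⟩

section Glue

open SubF

variable (Φ : SubF X)

/-- the good affine opens. -/
abbrev GoodOpens : Type u := {V : X.Opens // IsAffineOpen V ∧ Good Φ V}

/-- the chosen representing closed subscheme on a good open. -/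
noncomputable def gW (V : GoodOpens Φ) : Scheme.{u} := V.2.2.choose

noncomputable def gi (V : GoodOpens Φ) : gW Φ V ⟶ V.1.toScheme := V.2.2.choose_spec.choose

instance (V : GoodOpens Φ) : Mono (gi Φ V) := V.2.2.choose_spec.choose_spec.1

theorem gi_repBy (V : GoodOpens Φ) : (Φ.restrict V.1.ι).RepBy (gi Φ V) :=
  V.2.2.choose_spec.choose_spec.2

theorem exists_gmap (V V' : GoodOpens Φ) (τ : V.1.toScheme ⟶ V'.1.toScheme)
    (hτ : τ ≫ V'.1.ι = V.1.ι) : ∃ m : gW Φ V ⟶ gW Φ V', m ≫ gi Φ V' = gi Φ V ≫ τ := by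
  have hP : (Φ.restrict V'.1.ι).P (gi Φ V ≫ τ) := by
    change Φ.P ((gi Φ V ≫ τ) ≫ V'.1.ι)
    rw [Category.assoc, hτ]
    exact (gi_repBy Φ V).self
  exact (gi_repBy Φ V' _).1 hP

theorem isPullback_gmap (V V' : GoodOpens Φ) (τ : V.1.toScheme ⟶ V'.1.toScheme)
    (hτ : τ ≫ V'.1.ι = V.1.ι) (m : gW Φ V ⟶ gW Φ V') (hm : m ≫ gi Φ V' = gi Φ V ≫ τ) :
    IsPullback m (gi Φ V) (gi Φ V') τ := by
  refine ⟨⟨hm⟩, ⟨PullbackCone.IsLimit.mk _ (fun s => ?_) (fun s => ?_) (fun s => ?_)
    (fun s l h1 h2 => ?_)⟩⟩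
  · have hP : (Φ.restrict V.1.ι).P s.snd := by
      change Φ.P (s.snd ≫ V.1.ι)
      rw [← hτ, ← Category.assoc, ← s.condition, Category.assoc]
      exact Φ.pre _ _ (gi_repBy Φ V').self
    exact ((gi_repBy Φ V _).1 hP).choose
  · have hP : (Φ.restrict V.1.ι).P s.snd := by
      change Φ.P (s.snd ≫ V.1.ι)
      rw [← hτ, ← Category.assoc, ← s.condition, Category.assoc]
      exact Φ.pre _ _ (gi_repBy Φ V').self
    have h2 := ((gi_repBy Φ V _).1 hP).choose_spec
    rw [← cancel_mono (gi Φ V'), Category.assoc, hm, reassoc_of% h2, s.condition]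
  · have hP : (Φ.restrict V.1.ι).P s.snd := by
      change Φ.P (s.snd ≫ V.1.ι)
      rw [← hτ, ← Category.assoc, ← s.condition, Category.assoc]
      exact Φ.pre _ _ (gi_repBy Φ V').self
    exact ((gi_repBy Φ V _).1 hP).choose_spec
  · rw [← cancel_mono (gi Φ V), h2]
    have hP : (Φ.restrict V.1.ι).P s.snd := by
      change Φ.P (s.snd ≫ V.1.ι)
      rw [← hτ, ← Category.assoc, ← s.condition, Category.assoc]
      exact Φ.pre _ _ (gi_repBy Φ V').self
    exact ((gi_repBy Φ V _).1 hP).choose_spec.symm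

variable (hcov : ∀ x : X, ∃ V : X.Opens, IsAffineOpen V ∧ x ∈ V ∧ Good Φ V)

/-- the open cover by good affine opens. -/
@[reducible] noncomputable def goodCover : Scheme.OpenCover.{u} X where
  I₀ := GoodOpens Φ
  X V := V.1.toScheme
  f V := V.1.ι
  mem₀ := by
    rw [Scheme.presieve₀_mem_precoverage_iff]
    refine ⟨fun x ↦ ?_, inferInstance⟩
    obtain ⟨V, hV, hxV, hg⟩ := hcov x
    exact ⟨⟨V, hV, hg⟩, ⟨x, hxV⟩, rfl⟩

instance : Preorder (goodCover Φ hcov).I₀ := inferInstanceAs (Preorder (GoodOpens Φ))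

include hcov in
theorem isBasis_good : TopologicalSpace.Opens.IsBasis
    (Set.range fun i : (goodCover Φ hcov).I₀ => ((goodCover Φ hcov).f i).opensRange) := by
  rw [TopologicalSpace.Opens.isBasis_iff_nbhd]
  intro O x hxO
  obtain ⟨V₁, hV₁, hxV₁, hg⟩ := hcov x
  obtain ⟨V₂, hV₂, hxV₂, hle⟩ :=
    TopologicalSpace.Opens.isBasis_iff_nbhd.mp X.isBasis_affineOpens
      (show x ∈ V₁ ⊓ O from ⟨hxV₁, hxO⟩)
  refine ⟨V₂, ⟨⟨V₂, hV₂, hg.of_le (hle.trans inf_le_left)⟩, ?_⟩, hxV₂, hle.trans inf_le_right⟩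
  exact Scheme.Opens.opensRange_ι _

noncomputable instance : (goodCover Φ hcov).LocallyDirected :=
  Scheme.Cover.LocallyDirected.ofIsBasisOpensRange (by
    intro i j
    change i.1 ≤ j.1 ↔ (i.1.ι).opensRange ≤ (j.1.ι).opensRange
    rw [Scheme.Opens.opensRange_ι, Scheme.Opens.opensRange_ι]) (isBasis_good Φ hcov)

/-- the relative gluing datum of the local representing closed subschemes. -/
noncomputable def gd : Scheme.Cover.RelativeGluingData (goodCover Φ hcov) where
  functor :=
    { obj := fun V => gW Φ V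
      map := fun {V V'} hij => (exists_gmap Φ V V' ((goodCover Φ hcov).trans hij)
        ((goodCover Φ hcov).trans_map hij)).choose
      map_id := fun V => by
        rw [← cancel_mono (gi Φ V), (exists_gmap Φ V V ((goodCover Φ hcov).trans (𝟙 V))
          ((goodCover Φ hcov).trans_map (𝟙 V))).choose_spec, Scheme.Cover.trans_id]
        exact (Category.comp_id _).trans (Category.id_comp _).symm
      map_comp := fun {V₁ V₂ V₃} h₁₂ h₂₃ => by
        rw [← cancel_mono (gi Φ V₃), (exists_gmap Φ V₁ V₃ ((goodCover Φ hcov).trans (h₁₂ ≫ h₂₃))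
          ((goodCover Φ hcov).trans_map (h₁₂ ≫ h₂₃))).choose_spec, Category.assoc,
          (exists_gmap Φ V₂ V₃ ((goodCover Φ hcov).trans h₂₃)
            ((goodCover Φ hcov).trans_map h₂₃)).choose_spec,
          reassoc_of% (exists_gmap Φ V₁ V₂ ((goodCover Φ hcov).trans h₁₂)
            ((goodCover Φ hcov).trans_map h₁₂)).choose_spec, Scheme.Cover.trans_comp] }
  natTrans :=
    { app := fun V => gi Φ V
      naturality := fun V V' hij => (exists_gmap Φ V V' ((goodCover Φ hcov).trans hij)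
        ((goodCover Φ hcov).trans_map hij)).choose_spec }
  equifibered := fun V V' hij => isPullback_gmap Φ V V' ((goodCover Φ hcov).trans hij)
    ((goodCover Φ hcov).trans_map hij) _ (exists_gmap Φ V V' ((goodCover Φ hcov).trans hij)
        ((goodCover Φ hcov).trans_map hij)).choose_spec

instance : ((gd Φ hcov).functor ⋙ Scheme.forget).IsLocallyDirected :=
  Scheme.Cover.RelativeGluingData.instIsLocallyDirectedI₀CompFunctorForgetOfIsThin (gd Φ hcov)

include hcov in
/-- **Zariski gluing**: a Zariski-local subfunctor which is locally representable by closed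
subschemes is representable by a closed subscheme. -/
theorem exists_repBy_of_good (hZ : Φ.IsZarLocal) :
    ∃ (W : Scheme.{u}) (i : W ⟶ X), Mono i ∧ Φ.RepBy i := by
  have hpb : ∀ V : GoodOpens Φ, IsPullback (gi Φ V) (colimit.ι (gd Φ hcov).functor V) V.1.ι
      (gd Φ hcov).toBase :=
    fun V => (gd Φ hcov).isPullback_natTrans_ι_toBase V
  have hci : Mono (gd Φ hcov).toBase := by
    change MorphismProperty.monomorphisms Scheme.{u} (gd Φ hcov).toBase
    rw [IsZariskiLocalAtTarget.iff_of_openCover (P := MorphismProperty.monomorphisms Scheme.{u})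
      (goodCover Φ hcov)]
    intro V
    change Mono (pullback.snd (gd Φ hcov).toBase V.1.ι)
    rw [← (hpb V).flip.isoPullback_inv_snd]
    infer_instance
  have hιb : ∀ V : GoodOpens Φ, colimit.ι (gd Φ hcov).functor V ≫ (gd Φ hcov).toBase =
      gi Φ V ≫ V.1.ι := fun V => (gd Φ hcov).ι_toBase V
  refine ⟨(gd Φ hcov).glued, (gd Φ hcov).toBase, hci, ?_⟩
  intro T t
  constructor
  · intro ht
    have hl : ∀ k : GoodOpens Φ, ∃ l : pullback t k.1.ι ⟶ gW Φ k,
        l ≫ gi Φ k = pullback.snd t k.1.ι := by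
      intro k
      apply (gi_repBy Φ k _).1
      change Φ.P (pullback.snd t k.1.ι ≫ k.1.ι)
      rw [← pullback.condition]
      exact Φ.pre _ _ ht
    choose l hl using hl
    have hw : ∀ k : GoodOpens Φ, (l k ≫ colimit.ι (gd Φ hcov).functor k) ≫ (gd Φ hcov).toBase =
        pullback.fst t k.1.ι ≫ t := by
      intro k
      calc (l k ≫ colimit.ι (gd Φ hcov).functor k) ≫ (gd Φ hcov).toBase
          = l k ≫ (colimit.ι (gd Φ hcov).functor k ≫ (gd Φ hcov).toBase) := Category.assoc _ _ _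
        _ = l k ≫ (gi Φ k ≫ k.1.ι) := congrArg (l k ≫ ·) (hιb k)
        _ = (l k ≫ gi Φ k) ≫ k.1.ι := (Category.assoc _ _ _).symm
        _ = pullback.snd t k.1.ι ≫ k.1.ι := congrArg (· ≫ k.1.ι) (hl k)
        _ = pullback.fst t k.1.ι ≫ t := pullback.condition.symm
    exact ClosedSubF.exists_lift_of_mono ((goodCover Φ hcov).pullback₁ t) (gd Φ hcov).toBase t
      (fun k => l k ≫ colimit.ι (gd Φ hcov).functor k) hw
  · rintro ⟨w, rfl⟩
    refine Φ.pre w _ ?_
    refine hZ (gd Φ hcov).cover (gd Φ hcov).toBase (fun k => ?_)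
    change Φ.P (colimit.ι (gd Φ hcov).functor k ≫ (gd Φ hcov).toBase)
    have e := hιb k
    rw [e]
    exact (gi_repBy Φ k).self

end Glue

end Groth.Agent.Lib.Helper10.MonoSubF
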