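import Mathlib
import Groth.Agent.Lib.Helper10.FpqcLocus
import Groth.Agent.Lib.Helper10.MagnetQuot
import Groth.Agent.Lib.Helper10.HomFamBC
import Groth.Agent.Lib.Helper10.DiagHomProps
import Groth.Agent.Lib.Helper21.DSPts
import Groth.Agent.Lib.Helper21.DSMap

/-!
# Subgroups of multiplicative type of a split diagonalisable group: the local kernel predicate

For a monomorphism of groups `i : H ⟶ D_B(M₀)` and a subgroup `N ≤ M₀`, `Pr i N g` says that over
`g : T ⟶ B` the subgroup `H` coincides (as a subfunctor of `D_B(M₀)`) with the kernel of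
`D_B(M₀) ⟶ D_B(N)`.  This predicate is stable under precomposition, descends along flat
surjective quasi-compact morphisms and is Zariski local.
-/

set_option autoImplicit false
set_option linter.unusedSectionVars false
set_option linter.style.haveILetI false
set_option backward.isDefEq.respectTransparency.types false
set_option maxHeartbeats 4000000
set_option synthInstance.maxHeartbeats 400000
universe u
open CategoryTheory CategoryTheory.Limits AlgebraicGeometry Opposite MonoidalCategory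
  CartesianMonoidalCategory MonObj GrpObj

namespace Groth.Agent.Lib.Helper10.TorusQuot

open Groth.Agent.Lib.Helper21.GaPts Groth.Agent.Lib.Helper10.FpqcLocus
  Groth.Agent.Lib.Helper10.MagnetQuot

variable {B : Scheme.{u}} {M₀ : Type} [AddCommGroup M₀] {H : Over B} [GrpObj H]
  (i : H ⟶ Red.DS B M₀)

/-- over `g`, the subfunctor `H` of `D(M₀)` is the kernel of `D(M₀) ⟶ D(N)`. -/
def Pr (N : AddSubgroup M₀) ⦃T : Scheme.{u}⦄ (g : T ⟶ B) : Prop :=
  ∀ (X : Over B) (x : X.left ⟶ T), x ≫ g = X.hom → ∀ t : X ⟶ Red.DS B M₀,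
    (∃ h : X ⟶ H, h ≫ i = t) ↔ t ≫ Red.DSmap B N.subtype = 1

theorem comp_one' {G X Y : Over B} [GrpObj G] (f : X ⟶ Y) : f ≫ (1 : Y ⟶ G) = 1 := by
  rw [Hom.one_def, Hom.one_def, ← Category.assoc]
  congr 1
  exact toUnit_unique _ _

variable {i}

theorem Pr.comp {N : AddSubgroup M₀} {T T' : Scheme.{u}} (b : T' ⟶ T) (g : T ⟶ B)
    (h : Pr i N g) : Pr i N (b ≫ g) := by
  intro X x hx t
  exact h X (x ≫ b) (by rw [Category.assoc, hx]) t

theorem Pr.descent [Mono i] {N : AddSubgroup M₀} {T T' : Scheme.{u}} (r : T' ⟶ T) (g : T ⟶ B)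
    (hfl : Flat r) (hs : Surjective r) (hqc : QuasiCompact r) (h : Pr i N (r ≫ g)) :
    Pr i N g := by
  intro X x hx t
  let X' : Over B := Over.mk (pullback.fst x r ≫ X.hom)
  let pr : X' ⟶ X := Over.homMk (pullback.fst x r) rfl
  have hpr : IsFpqc pr.left := IsFpqc.of_isPullback (IsPullback.of_hasPullback x r) ⟨hfl, hs, hqc⟩
  haveI : Epi pr := epi_of_isFpqc_left hpr
  have hx' : pullback.snd x r ≫ (r ≫ g) = X'.hom := by
    change _ = pullback.fst x r ≫ X.hom
    rw [← hx, ← Category.assoc, ← pullback.condition, Category.assoc]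
  have key := h X' (pullback.snd x r) hx' (pr ≫ t)
  constructor
  · rintro ⟨h0, rfl⟩
    have h1 : (pr ≫ h0 ≫ i) ≫ Red.DSmap B N.subtype = 1 :=
      key.1 ⟨pr ≫ h0, by rw [Category.assoc]⟩
    rw [← cancel_epi pr, ← Category.assoc, h1, comp_one']
  · intro ht
    have ht' : (pr ≫ t) ≫ Red.DSmap B N.subtype = 1 := by
      rw [Category.assoc, ht, comp_one']
    obtain ⟨h', hh'⟩ := key.2 ht'
    haveI := hpr.effectiveEpi
    haveI : Mono i.left := (Over.forget B).map_mono i
    have hh'l : h'.left ≫ i.left = pr.left ≫ t.left := by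
      rw [← Over.comp_left, hh', Over.comp_left]
    let hL : X.left ⟶ H.left := EffectiveEpi.desc pr.left h'.left (by
      intro Z g₁ g₂ hg
      rw [← cancel_mono i.left, Category.assoc, Category.assoc, hh'l, ← Category.assoc, hg,
        Category.assoc])
    have hfac : pr.left ≫ hL = h'.left := EffectiveEpi.fac _ _ _
    have hw : hL ≫ H.hom = X.hom := by
      haveI := hpr.epi
      rw [← cancel_epi pr.left, ← Category.assoc, hfac, Over.w h']
      exact (Over.w pr).symm
    refine ⟨Over.homMk hL hw, ?_⟩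
    rw [← cancel_epi pr]
    apply Over.OverMorphism.ext
    change pr.left ≫ hL ≫ i.left = pr.left ≫ t.left
    rw [← Category.assoc, hfac, hh'l]

theorem Pr.loc [Mono i] {N : AddSubgroup M₀} {T : Scheme.{u}} (g : T ⟶ B)
    (h : ∀ z : T, ∃ (Z : Scheme.{u}) (j : Z ⟶ T), IsOpenImmersion j ∧ z ∈ Set.range j ∧
      Pr i N (j ≫ g)) : Pr i N g := by
  intro X x hx t
  choose Z j hj hz hP using h
  haveI := hj
  let V : X.left → X.left.Opens := fun p => x ⁻¹ᵁ (j (x p)).opensRange
  have hV : ∀ p, p ∈ V p := fun p => hz (x p)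
  have hcov : TopologicalSpace.IsOpenCover V := by
    rw [TopologicalSpace.IsOpenCover, eq_top_iff]
    intro p _
    exact TopologicalSpace.Opens.mem_iSup.mpr ⟨p, hV p⟩
  let 𝒰 := X.left.openCoverOfIsOpenCover V hcov
  let Xp : X.left → Over B := fun p => Over.mk ((V p).ι ≫ X.hom)
  let ip : ∀ p, Xp p ⟶ X := fun p => Over.homMk (V p).ι rfl
  have hr : ∀ p, Set.range ((V p).ι ≫ x) ⊆ Set.range (j (x p)) := by
    rintro p _ ⟨y, rfl⟩
    exact y.2
  let xp : ∀ p, (Xp p).left ⟶ Z (x p) := fun p => IsOpenImmersion.lift (j (x p)) ((V p).ι ≫ x) (hr p)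
  have hxp : ∀ p, xp p ≫ j (x p) = (V p).ι ≫ x := fun p => IsOpenImmersion.lift_fac _ _ _
  have key : ∀ p, (∃ h : Xp p ⟶ H, h ≫ i = ip p ≫ t) ↔
      (ip p ≫ t) ≫ Red.DSmap B N.subtype = 1 := fun p =>
    hP (x p) (Xp p) (xp p) (by
      rw [← Category.assoc, hxp, Category.assoc, hx]
      rfl) (ip p ≫ t)
  constructor
  · rintro ⟨h0, rfl⟩
    apply Over.OverMorphism.ext
    apply 𝒰.hom_ext
    intro p
    have h1 : (ip p ≫ h0 ≫ i) ≫ Red.DSmap B N.subtype = 1 :=
      (key p).1 ⟨ip p ≫ h0, by rw [Category.assoc]⟩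
    have h2 : ip p ≫ ((h0 ≫ i) ≫ Red.DSmap B N.subtype) = ip p ≫ 1 := by
      rw [← Category.assoc, h1, comp_one']
    exact congrArg (fun z => z.left) h2
  · intro ht
    have ht' : ∀ p, (ip p ≫ t) ≫ Red.DSmap B N.subtype = 1 := fun p => by
      rw [Category.assoc, ht, comp_one']
    choose hp hhp using fun p => (key p).2 (ht' p)
    haveI : Mono i.left := (Over.forget B).map_mono i
    have hhpl : ∀ p, (hp p).left ≫ i.left = (V p).ι ≫ t.left := fun p => by
      rw [← Over.comp_left, hhp p, Over.comp_left]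
      rfl
    have compat : ∀ p p' : 𝒰.I₀, pullback.fst (𝒰.f p) (𝒰.f p') ≫ (hp p).left =
        pullback.snd (𝒰.f p) (𝒰.f p') ≫ (hp p').left := by
      intro p p'
      have e1 := hhpl p
      have e2 := hhpl p'
      rw [← cancel_mono i.left, Category.assoc, Category.assoc]
      refine (congrArg (fun z => pullback.fst (𝒰.f p) (𝒰.f p') ≫ z) e1).trans ?_
      refine Eq.trans ?_ (congrArg (fun z => pullback.snd (𝒰.f p) (𝒰.f p') ≫ z) e2).symm
      change pullback.fst (𝒰.f p) (𝒰.f p') ≫ 𝒰.f p ≫ t.left =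
        pullback.snd (𝒰.f p) (𝒰.f p') ≫ 𝒰.f p' ≫ t.left
      rw [← Category.assoc, ← Category.assoc, pullback.condition]
    let hL : X.left ⟶ H.left := 𝒰.glueMorphisms (fun p => (hp p).left) compat
    have hfac : ∀ p, (V p).ι ≫ hL = (hp p).left := fun p =>
      Scheme.Cover.ι_glueMorphisms 𝒰 (fun p => (hp p).left) compat p
    have hw : hL ≫ H.hom = X.hom := by
      apply 𝒰.hom_ext
      intro p
      change (V p).ι ≫ hL ≫ H.hom = (V p).ι ≫ X.hom
      rw [← Category.assoc, hfac, Over.w (hp p)]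
      rfl
    refine ⟨Over.homMk hL hw, ?_⟩
    apply Over.OverMorphism.ext
    apply 𝒰.hom_ext
    intro p
    change (V p).ι ≫ hL ≫ i.left = (V p).ι ≫ t.left
    rw [← Category.assoc, hfac, hhpl]

theorem isLocalBC_Pr [Mono i] (N : AddSubgroup M₀) : IsLocalBC (Pr i N) where
  comp := fun _ _ b g h => Pr.comp b g h
  descent := fun _ _ r g hfl hs hqc h => Pr.descent r g hfl hs hqc h
  loc := fun _ g h => Pr.loc g h

end Groth.Agent.Lib.Helper10.TorusQuot
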