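import Mathlib
import Groth.Agent.Lib.Helper10.TorusQuot1
import Groth.Agent.Lib.Helper10.DiagHomRep

/-!
# Local structure of a subgroup of multiplicative type of `D_B(M₀)`

Uniqueness of the kernel subgroup and its existence Zariski-locally over a trivialisation.
-/

set_option autoImplicit false
set_option linter.unusedSectionVars false
set_option linter.style.haveILetI false
set_option backward.isDefEq.respectTransparency.types false
set_option maxHeartbeats 4000000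
set_option synthInstance.maxHeartbeats 400000
universe u
open CategoryTheory CategoryTheory.Limits AlgebraicGeometry Opposite MonoidalCategory
  CartesianMonoidalCategory MonObj GrpObj

namespace Groth.Agent.Lib.Helper10.TorusQuot

open Groth.Agent.Lib.Helper21.GaPts Groth.Agent.Lib.Helper10.FpqcLocus
  Groth.Agent.Lib.Helper10.MagnetQuot Groth.Agent.Lib.Helper10.DiagHomProps
  Groth.Agent.Lib.Helper10.HomFamBC Groth.Agent.Lib.Helper10.DiagHom

section Zero

variable {B : Scheme.{u}} {N P : Type} [AddCommGroup N] [AddCommGroup P]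

theorem DSmap_zero : Red.DSmap B (0 : N →+ P) = toUnit _ ≫ η[Red.DS B N] :=
  AMonS_map_zero (N := N) (P := P) B

theorem comp_DSmap_zero {X : Over B} (a : X ⟶ Red.DS B P) :
    a ≫ Red.DSmap B (0 : N →+ P) = 1 := by
  rw [DSmap_zero, Hom.one_def, ← Category.assoc]
  congr 1
  exact toUnit_unique _ _

end Zero

variable {B : Scheme.{u}} {M₀ : Type} [AddCommGroup M₀] {H : Over B} [GrpObj H]
  {i : H ⟶ Red.DS B M₀}

/-! ### Uniqueness of the kernel subgroup -/

theorem le_of_Pr {N₀ N₁ : AddSubgroup M₀} {T : Scheme.{u}} (g : T ⟶ B) (z : T)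
    (h₀ : Pr i N₀ g) (h₁ : Pr i N₁ g) : N₁ ≤ N₀ := by
  obtain ⟨(A : T.Opens), hA, hzA, -⟩ :=
    TopologicalSpace.Opens.isBasis_iff_nbhd.mp T.isBasis_affineOpens
      (TopologicalSpace.Opens.mem_top z)
  let W' : Over B := Over.mk (A.ι ≫ g)
  haveI : IsAffine W'.left := hA
  let X : Over B := Red.DS B (M₀ ⧸ N₀) ⊗ W'
  let x : X.left ⟶ T := (snd (Red.DS B (M₀ ⧸ N₀)) W').left ≫ A.ι
  have hx : x ≫ g = X.hom := by
    rw [Category.assoc]
    exact Over.w (snd (Red.DS B (M₀ ⧸ N₀)) W')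
  let t : X ⟶ Red.DS B M₀ := fst _ _ ≫ Red.DSmap B (QuotientAddGroup.mk' N₀)
  have ht0 : t ≫ Red.DSmap B N₀.subtype = 1 := by
    have hz : (QuotientAddGroup.mk' N₀).comp N₀.subtype = 0 := by
      ext ⟨n, hn⟩
      exact (QuotientAddGroup.eq_zero_iff n).2 hn
    rw [Category.assoc, DSmap_comp, hz, comp_DSmap_zero]
  have ht1 : t ≫ Red.DSmap B N₁.subtype = 1 := (h₁ X x hx t).1 ((h₀ X x hx t).2 ht0)
  have h2 : fst (Red.DS B (M₀ ⧸ N₀)) W' ≫ Red.DSmap B ((QuotientAddGroup.mk' N₀).comp N₁.subtype) =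
      fst (Red.DS B (M₀ ⧸ N₀)) W' ≫ Red.DSmap B (0 : N₁ →+ M₀ ⧸ N₀) := by
    rw [comp_DSmap_zero, ← DSmap_comp, ← Category.assoc]
    exact ht1
  have h3 := eq_of_fst_DSmap_eq W' ⟨z, hzA⟩ _ _ h2
  intro n hn
  have h4 : ((QuotientAddGroup.mk' N₀).comp N₁.subtype) ⟨n, hn⟩ = 0 := by rw [h3]; rfl
  exact (QuotientAddGroup.eq_zero_iff n).1 h4

theorem eq_of_Pr {N₀ N₁ : AddSubgroup M₀} {T : Scheme.{u}} (g : T ⟶ B) (z : T)
    (h₀ : Pr i N₀ g) (h₁ : Pr i N₁ g) : N₀ = N₁ :=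
  le_antisymm (le_of_Pr g z h₁ h₀) (le_of_Pr g z h₀ h₁)

/-! ### Existence over a trivialisation -/

section Local

variable {U : Scheme.{u}} (g : U ⟶ B) {M : Type} [AddCommGroup M]
  (e : Red.bc g H ≅ Red.DS U M)

/-- the `B`-point of `D(M₀)` over `D_U(M)` given by `i`. -/
noncomputable def jpt : (Over.map g).obj (Red.DS U M) ⟶ Red.DS B M₀ := tr g e.inv ≫ i

/-- the homomorphism `D_U(M) ⟶ D_U(M₀)` induced by `i`. -/
noncomputable def jmap : Red.DS U M ⟶ Red.DS U M₀ :=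
  dsPt (S := U) (X := Red.DS U M)
    (dsChar (S := B) (X := (Over.map g).obj (Red.DS U M)) (jpt (i := i) g e))

theorem dsFn_jmap {X' : Over U} (a : X' ⟶ Red.DS U M) (m : M₀) :
    dsFn m (a ≫ jmap (i := i) g e) = dsFn m (tr g (a ≫ e.inv) ≫ i) := by
  rw [dsFn_comp, jmap, dsFn_dsPt, tr_comp, Category.assoc]
  change _ = dsFn m ((Over.map g).map a ≫ jpt (i := i) g e)
  rw [dsFn_comp]
  rfl

theorem jmap_mul [IsMonHom i] [IsMonHom e.hom] {X' : Over U} (a b : X' ⟶ Red.DS U M) :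
    (a * b) ≫ jmap (i := i) g e = (a ≫ jmap (i := i) g e) * (b ≫ jmap (i := i) g e) := by
  apply dsFn_injective
  intro m
  rw [dsFn_mul, dsFn_jmap, dsFn_jmap, dsFn_jmap, MonObj.mul_comp _ _ e.inv, tr_mul,
    MonObj.mul_comp _ _ i, dsFn_mul]

theorem jmap_cancel [Mono i] {X' : Over U} (a b : X' ⟶ Red.DS U M)
    (h : a ≫ jmap (i := i) g e = b ≫ jmap (i := i) g e) : a = b := by
  have h1 : tr g (a ≫ e.inv) ≫ i = tr g (b ≫ e.inv) ≫ i := by
    apply dsFn_injective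
    intro m
    rw [← dsFn_jmap, ← dsFn_jmap, h]
  have h2 := tr_injective g ((cancel_mono i).1 h1)
  exact (cancel_mono e.inv).1 h2

end Local

end Groth.Agent.Lib.Helper10.TorusQuot
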