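import Mathlib
import Groth.Agent.Lib.Helper10.TorusQuot2

/-!
# Local existence of the kernel subgroup over a trivialisation
-/

set_option autoImplicit false
set_option linter.unusedSectionVars false
set_option linter.style.haveILetI false
set_option backward.isDefEq.respectTransparency.types false
set_option maxHeartbeats 4000000
set_option synthInstance.maxHeartbeats 400000
universe u
open CategoryTheory CategoryTheory.Limits AlgebraicGeometry Opposite MonoidalCategory
  CartesianMonoidalCategory MonObj GrpObj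

namespace Groth.Agent.Lib.Helper10.TorusQuot

open Groth.Agent.Lib.Helper21.GaPts Groth.Agent.Lib.Helper10.FpqcLocus
  Groth.Agent.Lib.Helper10.MagnetQuot Groth.Agent.Lib.Helper10.DiagHomProps
  Groth.Agent.Lib.Helper10.HomFamBC Groth.Agent.Lib.Helper10.DiagHom

variable {B : Scheme.{u}} {M₀ : Type} [AddCommGroup M₀] {H : Over B} [GrpObj H]
  {i : H ⟶ Red.DS B M₀}

theorem exists_local_Pr [Mono i] [IsMonHom i] (hM₀ : AddGroup.FG M₀) {U : Scheme.{u}} (g : U ⟶ B)
    {M : Type} [AddCommGroup M] (e : Red.bc g H ≅ Red.DS U M) [IsMonHom e.hom] (u : U) :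
    ∃ (W : Scheme.{u}) (w : W ⟶ U) (N : AddSubgroup M₀), IsOpenImmersion w ∧ u ∈ Set.range w ∧
      Pr i N (w ≫ g) := by
  let j := jmap (i := i) g e
  let φ : Red.DS U M ⊗ 𝟙_ (Over U) ⟶ Red.DS U M₀ := fst _ _ ≫ j
  have hφ : ∀ (X : Over U) (a b : X ⟶ Red.DS U M) (t : X ⟶ 𝟙_ (Over U)),
      lift (a * b) t ≫ φ = (lift a t ≫ φ) * (lift b t ≫ φ) := by
    intro X a b t
    simp only [φ, lift_fst_assoc]
    exact jmap_mul g e a b
  obtain ⟨W, jW, ψ, hjW, huW, hψ⟩ := locally_DSmap (𝟙_ (Over U)) hM₀ φ hφ (u : (𝟙_ (Over U)).left)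
  have key : ∀ (X' : Over U) (xW : X' ⟶ W) (a : X' ⟶ Red.DS U M),
      a ≫ j = a ≫ Red.DSmap U ψ := by
    intro X' xW a
    have h1 := congrArg (fun z => lift a xW ≫ z) hψ
    simpa only [φ, lift_whiskerLeft_assoc, lift_fst_assoc] using h1
  -- surjectivity of ψ
  have hψs : Function.Surjective ψ := by
    obtain ⟨u', hu'⟩ := huW
    obtain ⟨(A : W.left.Opens), hA, hu'A, -⟩ :=
      TopologicalSpace.Opens.isBasis_iff_nbhd.mp W.left.isBasis_affineOpens
        (TopologicalSpace.Opens.mem_top u')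
    let W' : Over U := Over.mk (A.ι ≫ W.hom)
    haveI : IsAffine W'.left := hA
    let kW : W' ⟶ W := Over.homMk A.ι rfl
    have hwh : (Red.DSmap U ψ ▷ W') = (j ▷ W') := by
      apply CartesianMonoidalCategory.hom_ext
      · rw [whiskerRight_fst, whiskerRight_fst]
        exact (key (Red.DS U M ⊗ W') (snd _ _ ≫ kW) (fst _ _)).symm
      · rw [whiskerRight_snd, whiskerRight_snd]
    haveI : Mono (j ▷ W') := by
      constructor
      intro Z a b hab
      apply CartesianMonoidalCategory.hom_ext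
      · have h1 := congrArg (fun z => z ≫ fst _ _) hab
        simp only [Category.assoc, whiskerRight_fst] at h1
        exact jmap_cancel g e _ _ (by simpa only [Category.assoc] using h1)
      · have h1 := congrArg (fun z => z ≫ snd _ _) hab
        simpa only [Category.assoc, whiskerRight_snd] using h1
    have hm : Mono ((Red.DSmap U ψ) ▷ W').left := by
      rw [hwh]
      exact (Over.forget U).map_mono (j ▷ W')
    exact surjective_of_mono W' ⟨u', hu'A⟩ ψ hm
  have hWhom : W.hom = jW.left := by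
    have h1 := Over.w jW
    rw [← h1]
    exact (Category.comp_id _).symm
  refine ⟨W.left, jW.left, ψ.ker, hjW, huW, ?_⟩
  intro X x hx t
  have hx' : (x ≫ jW.left) ≫ g = X.hom := by rw [Category.assoc, hx]
  obtain ⟨XL, ⟨⟨⟩⟩, Xh⟩ := X
  change XL ⟶ W.left at x
  change (x ≫ jW.left) ≫ g = Xh at hx'
  subst hx'
  let X' : Over U := Over.mk (x ≫ jW.left)
  let xW : X' ⟶ W := Over.homMk x (by
    change x ≫ W.hom = x ≫ jW.left
    rw [hWhom])
  change (Over.map g).obj X' ⟶ Red.DS B M₀ at t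
  change (∃ h : (Over.map g).obj X' ⟶ H, h ≫ i = t) ↔ t ≫ Red.DSmap B ψ.ker.subtype = 1
  constructor
  · rintro ⟨h, rfl⟩
    let h' : X' ⟶ Red.bc g H := trInv g h
    let a : X' ⟶ Red.DS U M := h' ≫ e.hom
    have ha : a ≫ e.inv = h' := by simp only [a, Category.assoc, Iso.hom_inv_id, Category.comp_id]
    have hh : tr g (a ≫ e.inv) = h := by rw [ha, tr_trInv]
    apply dsFn_injective
    intro n
    rw [dsFn_DSmap, dsFn_one, ← hh, ← dsFn_jmap]
    change dsFn _ (a ≫ j) = 1
    rw [key X' xW a, dsFn_DSmap]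
    have h0 : ψ (ψ.ker.subtype n) = 0 := n.2
    rw [h0, dsFn_zero]
  · intro ht
    obtain ⟨k', hk'⟩ := exists_lift_of_comp_eq_one B ψ.ker t ht
    let e' : M₀ ⧸ ψ.ker ≃+ M := AddEquiv.ofBijective (QuotientAddGroup.kerLift ψ)
      ⟨QuotientAddGroup.kerLift_injective ψ, fun m => by
        obtain ⟨m0, rfl⟩ := hψs m
        exact ⟨QuotientAddGroup.mk m0, rfl⟩⟩
    let χ' : Multiplicative M →* Γ(X'.left, ⊤) :=
      (dsChar (S := B) (X := (Over.map g).obj X') k').comp
        (AddMonoidHom.toMultiplicative e'.symm.toAddMonoidHom)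
    let a : X' ⟶ Red.DS U M := dsPt χ'
    refine ⟨tr g (a ≫ e.inv), ?_⟩
    apply dsFn_injective
    intro m
    rw [← dsFn_jmap]
    change dsFn m (a ≫ j) = _
    rw [key X' xW a, dsFn_DSmap, dsFn_dsPt, ← hk']
    change dsFn (e'.symm (ψ m)) k' = dsFn m (k' ≫ Red.DSmap B (QuotientAddGroup.mk' ψ.ker))
    rw [dsFn_DSmap]
    congr 1
    rw [AddEquiv.symm_apply_eq]
    rfl

end Groth.Agent.Lib.Helper10.TorusQuot
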