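import Mathlib
import Groth.Agent.Lib.Helper10.TorusQuot3
import Groth.Agent.Lib.Helper10.Kummer1
import Groth.Agent.Lib.Helper10.FppfQuot2
import Groth.Prelude.Def_RedSub

/-!
# The quotient of `D_B(M₀)` by a subgroup which is the kernel of `D(M₀) ⟶ D(N)` is `D(N)`
-/

set_option autoImplicit false
set_option linter.unusedSectionVars false
set_option linter.style.haveILetI false
set_option backward.isDefEq.respectTransparency.types false
set_option maxHeartbeats 4000000
set_option synthInstance.maxHeartbeats 400000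
universe u
open CategoryTheory CategoryTheory.Limits AlgebraicGeometry Opposite MonoidalCategory
  CartesianMonoidalCategory MonObj GrpObj

namespace Groth.Agent.Lib.Helper10.TorusQuot

open Groth.Agent.Lib.Helper21.GaPts Groth.Agent.Lib.Helper10.FpqcLocus
  Groth.Agent.Lib.Helper10.MagnetQuot Groth.Agent.Lib.Helper10.DiagHomProps
  Groth.Agent.Lib.Helper10.HomFamBC Groth.Agent.Lib.Helper10.DiagHom
  Groth.Agent.Lib.Helper10.FppfQuot Groth.Agent.Lib.Helper10.HomSp

variable {B : Scheme.{u}} {M₀ : Type} [AddCommGroup M₀]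

theorem fg_subgroup (hM₀ : AddGroup.FG M₀) (N : AddSubgroup M₀) : AddGroup.FG N := by
  haveI : Module.Finite ℤ M₀ := Module.Finite.iff_addGroup_fg.mpr hM₀
  have h : Module.Finite ℤ (AddSubgroup.toIntSubmodule N) := inferInstance
  exact Module.Finite.iff_addGroup_fg.mp h

theorem fppf_K (hM₀ : AddGroup.FG M₀) (N : AddSubgroup M₀) :
    Fppf (Red.DSmap B N.subtype).left := by
  obtain ⟨h1, h2⟩ := Groth.Agent.Lib.Helper10.DiagHomFlat.flat_surjective_of_injective
    (W := B) N.subtype Subtype.val_injective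
  refine ⟨h2, h1, ?_⟩
  apply Groth.Agent.Lib.Helper14.AS.locallyOfFinitePresentation_of_comp _ (Red.DS B N).hom
  · rw [Over.w]
    exact Groth.Agent.Lib.Helper10.Kummer.lfp_DS B M₀ hM₀
  · exact Groth.Agent.Lib.Helper10.MultTypeMono.lft_DS B N (fg_subgroup hM₀ N)

theorem mk'_comp_subtype (N : AddSubgroup M₀) : (QuotientAddGroup.mk' N).comp N.subtype = 0 := by
  ext ⟨n, hn⟩
  exact (QuotientAddGroup.eq_zero_iff n).2 hn

theorem isPullback_kernel_DS (N : AddSubgroup M₀) :
    IsPullback (Red.DSmap B (QuotientAddGroup.mk' N)) (toUnit _) (Red.DSmap B N.subtype)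
      η[Red.DS B N] := by
  haveI : Mono (Red.DSmap B (QuotientAddGroup.mk' N)) := by
    haveI := mono_of_surjective (W := B) (QuotientAddGroup.mk' N)
      (QuotientAddGroup.mk'_surjective N)
    constructor
    intro Z a b hab
    apply Over.OverMorphism.ext
    rw [← cancel_mono (Red.DSmap B (QuotientAddGroup.mk' N)).left, ← Over.comp_left,
      ← Over.comp_left, hab]
  have hex : ∀ {W : Over B} (α : W ⟶ Red.DS B M₀) (β : W ⟶ 𝟙_ (Over B)),
      α ≫ Red.DSmap B N.subtype = β ≫ η[Red.DS B N] →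
      ∃ k' : W ⟶ Red.DS B (M₀ ⧸ N), k' ≫ Red.DSmap B (QuotientAddGroup.mk' N) = α := by
    intro W α β h
    refine exists_lift_of_comp_eq_one B N α ?_
    refine h.trans ?_
    congr 1
    exact toUnit_unique _ _
  refine isPullback_of_lift _ _ _ _ ?_ (fun {W} α β h => (hex α β h).choose) ?_ ?_ ?_
  · rw [DSmap_comp, mk'_comp_subtype, DSmap_zero]
  · intro W α β h
    exact (hex α β h).choose_spec
  · intro W α β h
    exact toUnit_unique _ _
  · intro W m m' h1 _
    exact (cancel_mono _).1 h1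

variable {H : Over B} [GrpObj H] {i : H ⟶ Red.DS B M₀}

theorem iso_of_Pr_id [IsMonHom i] (hM₀ : AddGroup.FG M₀) {Q : Over B} [GrpObj Q]
    (q : Red.DS B M₀ ⟶ Q) [IsMonHom q] (hq : RedSub.IsQuotient i q) (N : AddSubgroup M₀)
    (hN : Pr i N (𝟙 B)) : Nonempty (Grp.mk Q ≅ Grp.mk (Red.DS B N)) := by
  obtain ⟨hq1, hq2, hq3, hq4⟩ := hq
  have Fq : Fppf q.left := ⟨hq1, hq2, hq3⟩
  have FK := fppf_K (B := B) hM₀ N
  have h1 : i ≫ Red.DSmap B N.subtype = 1 :=
    (hN H H.hom (Category.comp_id _) i).1 ⟨𝟙 H, Category.id_comp _⟩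
  have hiq : i ≫ q = 1 := by
    have h0 := mul_π hq4.w (1 : H ⟶ Red.DS B M₀) (𝟙 H)
    rw [Category.id_comp, _root_.one_mul, MonObj.one_comp] at h0
    exact h0
  have h2 : Red.DSmap B (QuotientAddGroup.mk' N) ≫ q = 1 := by
    have hz : Red.DSmap B (QuotientAddGroup.mk' N) ≫ Red.DSmap B N.subtype = 1 := by
      rw [DSmap_comp, mk'_comp_subtype]
      exact (Category.id_comp _).symm.trans (comp_DSmap_zero (𝟙 _))
    obtain ⟨h, hh⟩ := (hN (Red.DS B (M₀ ⧸ N)) (Red.DS B (M₀ ⧸ N)).hom (Category.comp_id _)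
      (Red.DSmap B (QuotientAddGroup.mk' N))).2 hz
    rw [← hh, Category.assoc, hiq, MonObj.comp_one]
  obtain ⟨g, ⟨hg1, hg2⟩, -⟩ := existsUnique_factor_over i q Fq hq4 (Red.DSmap B N.subtype) h1
  obtain ⟨g', ⟨hg'1, hg'2⟩, -⟩ := existsUnique_factor_over (Red.DSmap B (QuotientAddGroup.mk' N))
    (Red.DSmap B N.subtype) FK (isPullback_of_kernel _ _ (isPullback_kernel_DS N)) q h2
  haveI := epi_of_fppf _ Fq
  haveI := epi_of_fppf _ FK
  have e1 : g ≫ g' = 𝟙 Q := by
    rw [← cancel_epi q, ← Category.assoc, hg1, hg'1, Category.comp_id]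
  have e2 : g' ≫ g = 𝟙 _ := by
    rw [← cancel_epi (Red.DSmap B N.subtype), ← Category.assoc, hg'1, hg1, Category.comp_id]
  haveI := hg2
  let ε : Q ≅ Red.DS B N := ⟨g, g', e1, e2⟩
  haveI : IsMonHom ε.hom := hg2
  exact ⟨Grp.mkIso' ε⟩

end Groth.Agent.Lib.Helper10.TorusQuot
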