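import Mathlib
import Groth.Agent.Lib.Helper10.TorusQuot4
import Groth.Agent.Lib.Helper10.MultTypeHom
import Groth.Prelude.Def_SGA3x

/-!
# The clopen decomposition of the base by kernel subgroups, and the connected case
-/

set_option autoImplicit false
set_option linter.unusedSectionVars false
set_option linter.style.haveILetI false
set_option backward.isDefEq.respectTransparency.types false
set_option maxHeartbeats 4000000
set_option synthInstance.maxHeartbeats 400000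
universe u
open CategoryTheory CategoryTheory.Limits AlgebraicGeometry Opposite MonoidalCategory
  CartesianMonoidalCategory MonObj GrpObj

namespace Groth.Agent.Lib.Helper10.TorusQuot

open Groth.Agent.Lib.Helper21.GaPts Groth.Agent.Lib.Helper10.FpqcLocus
  Groth.Agent.Lib.Helper10.MagnetQuot Groth.Agent.Lib.Helper10.DiagHomProps
  Groth.Agent.Lib.Helper10.HomFamBC Groth.Agent.Lib.Helper10.DiagHom
  Groth.Agent.Lib.Helper10.FppfQuot Groth.Agent.Lib.Helper10.HomSp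
  Groth.Agent.Lib.Helper10.MultTypeHom

section Rank

theorem exists_addEquiv_fin (r : ℕ) (N : AddSubgroup (Fin r → ℤ)) :
    ∃ r' : ℕ, r' ≤ r ∧ Nonempty (N ≃+ (Fin r' → ℤ)) := by
  let P : Submodule ℤ (Fin r → ℤ) := AddSubgroup.toIntSubmodule N
  haveI : Module.Finite ℤ P := inferInstance
  haveI : Module.Free ℤ P := inferInstance
  refine ⟨Module.finrank ℤ P, ?_, ?_⟩
  · have h1 := Submodule.finrank_le P
    rwa [Module.finrank_fin_fun] at h1
  · exact ⟨((Module.finBasis ℤ P).equivFun).toAddEquiv⟩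

variable {B : Scheme.{u}} {N N' : Type} [AddCommGroup N] [AddCommGroup N']

theorem nonempty_DS_iso (e : N ≃+ N') : Nonempty (Grp.mk (Red.DS B N) ≅ Grp.mk (Red.DS B N')) := by
  have h1 : Red.DSmap B e.symm.toAddMonoidHom ≫ Red.DSmap B e.toAddMonoidHom = 𝟙 _ := by
    rw [DSmap_comp, ← DSmap_id]
    congr 1
    ext m
    exact e.symm_apply_apply m
  have h2 : Red.DSmap B e.toAddMonoidHom ≫ Red.DSmap B e.symm.toAddMonoidHom = 𝟙 _ := by
    rw [DSmap_comp, ← DSmap_id]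
    congr 1
    ext n
    exact e.apply_symm_apply n
  let ε : Red.DS B N ≅ Red.DS B N' :=
    ⟨Red.DSmap B e.symm.toAddMonoidHom, Red.DSmap B e.toAddMonoidHom, h1, h2⟩
  haveI : IsMonHom ε.hom := isMonHom_DSmap _
  exact ⟨Grp.mkIso' ε⟩

end Rank

variable {B : Scheme.{u}} {M₀ : Type} [AddCommGroup M₀] {H : Over B} [GrpObj H]
  {i : H ⟶ Red.DS B M₀}

/-- every point of the base has an open and closed neighbourhood over which `H` is the kernel of
`D(M₀) ⟶ D(N)` for some subgroup `N`. -/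
theorem exists_clopen_Pr [Mono i] [IsMonHom i] (hM₀ : AddGroup.FG M₀) (hH : SGA3x.IsMultTypeFT H)
    (b : B) : ∃ (N : AddSubgroup M₀) (V : B.Opens), b ∈ V ∧ IsClosed (V : Set B) ∧ Pr i N V.ι := by
  obtain ⟨S', f, hfl, hsurj, hcov, hloc⟩ := hH
  haveI := hfl
  -- local kernel subgroups
  have hlocal : ∀ t : S', ∃ (W' : S'.Opens) (N : AddSubgroup M₀), t ∈ W' ∧ Pr i N (W'.ι ≫ f) := by
    intro t
    obtain ⟨U₀, htU₀, M, _, hM, ⟨φ⟩⟩ := hloc t
    obtain ⟨e, he⟩ := exists_iso_isMonHom φ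
    haveI := he
    obtain ⟨W, w, N, hw, hu, hP⟩ := exists_local_Pr (i := i) hM₀ (U₀.ι ≫ f) e ⟨t, htU₀⟩
    haveI := hw
    refine ⟨(w ≫ U₀.ι).opensRange, N, ?_, ?_⟩
    · obtain ⟨u', hu'⟩ := hu
      exact ⟨u', by
        change U₀.ι (w u') = t
        rw [hu']
        rfl⟩
    · have h1 : (w ≫ U₀.ι).opensRange.ι ≫ f =
          (w ≫ U₀.ι).isoOpensRange.inv ≫ (w ≫ U₀.ι ≫ f) := by
        rw [← Category.assoc, ← Category.assoc, Category.assoc _ w, Scheme.Hom.isoOpensRange_inv_comp]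
      rw [h1]
      exact Pr.comp _ _ hP
  obtain ⟨s', rfl⟩ := hsurj.surj b
  obtain ⟨W₀, N, hs'W₀, hPW₀⟩ := hlocal s'
  have hLB := isLocalBC_Pr (i := i) N
  obtain ⟨V, hVc, hVmem, hPV⟩ := clopen_locus hLB f hcov (by
    intro t
    obtain ⟨W', N', htW', hPW'⟩ := hlocal t
    refine ⟨W', htW', ?_⟩
    by_cases hNN : N' = N
    · left
      rw [← hNN]
      exact hPW'
    · right
      intro w hw hPw
      have h2 := (isLocalBC_Pr (i := i) N').at_point (W'.ι ≫ f) hPW' ⟨w, hw⟩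
      exact hNN (eq_of_Pr _ (IsLocalRing.closedPoint _) h2 hPw))
  refine ⟨N, V, ?_, hVc, hPV⟩
  rw [hVmem]
  exact hLB.at_point (W₀.ι ≫ f) hPW₀ ⟨s', hs'W₀⟩

/-- over a connected base, `H` is globally the kernel of `D(M₀) ⟶ D(N)`. -/
theorem exists_Pr_id [ConnectedSpace B] [Mono i] [IsMonHom i] (hM₀ : AddGroup.FG M₀)
    (hH : SGA3x.IsMultTypeFT H) : ∃ N : AddSubgroup M₀, Pr i N (𝟙 B) := by
  obtain ⟨b⟩ : Nonempty B := inferInstance
  obtain ⟨N, V, hbV, hVc, hPV⟩ := exists_clopen_Pr (i := i) hM₀ hH b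
  refine ⟨N, ?_⟩
  have hV : V = ⊤ := by
    apply TopologicalSpace.Opens.ext
    exact (IsClopen.eq_univ ⟨hVc, V.2⟩ ⟨b, hbV⟩)
  subst hV
  have h1 : 𝟙 B = B.topIso.inv ≫ (⊤ : B.Opens).ι := (Scheme.toIso_inv_ι B).symm
  rw [h1]
  exact Pr.comp _ _ hPV

end Groth.Agent.Lib.Helper10.TorusQuot
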