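import Mathlib
import Groth.Agent.Lib.Helper10.TorusQuot5

/-!
# Quotient of a split torus by a subgroup of multiplicative type over a connected base
-/

set_option autoImplicit false
set_option linter.unusedSectionVars false
set_option linter.style.haveILetI false
set_option backward.isDefEq.respectTransparency.types false
set_option maxHeartbeats 4000000
set_option synthInstance.maxHeartbeats 400000
universe u
open CategoryTheory CategoryTheory.Limits AlgebraicGeometry Opposite MonoidalCategory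
  CartesianMonoidalCategory MonObj GrpObj

namespace Groth.Agent.Lib.Helper10.TorusQuot

open Groth.Agent.Lib.Helper21.GaPts Groth.Agent.Lib.Helper10.FpqcLocus
  Groth.Agent.Lib.Helper10.MagnetQuot Groth.Agent.Lib.Helper10.DiagHomProps
  Groth.Agent.Lib.Helper10.HomFamBC Groth.Agent.Lib.Helper10.DiagHom
  Groth.Agent.Lib.Helper10.FppfQuot Groth.Agent.Lib.Helper10.HomSp
  Groth.Agent.Lib.Helper10.MultTypeHom

variable {S : Scheme.{u}}

theorem isQuotient_transport {T D H Q : Over S} [GrpObj T] [GrpObj D] [GrpObj H]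
    (i : H ⟶ T) (q : T ⟶ Q) (e : T ≅ D) [IsMonHom e.hom] (hq : RedSub.IsQuotient i q) :
    RedSub.IsQuotient (i ≫ e.hom) (e.inv ≫ q) := by
  obtain ⟨h1, h2, h3, h4⟩ := hq
  have F : Fppf (e.inv ≫ q).left := by
    rw [Over.comp_left]
    haveI : IsIso e.inv.left := (Over.forget S).map_isIso e.inv
    exact Fppf.comp (Fppf.of_isIso _) ⟨h1, h2, h3⟩
  refine ⟨F.1, F.2.1, F.2.2, ?_⟩
  refine IsPullback.of_iso h4 (whiskerRightIso e H) e e (Iso.refl Q) ?_ ?_ ?_ ?_
  · change fst T H ≫ e.hom = (e.hom ▷ H) ≫ fst D H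
    rw [whiskerRight_fst]
  · change ((T ◁ i) ≫ μ[T]) ≫ e.hom = (e.hom ▷ H) ≫ (D ◁ (i ≫ e.hom)) ≫ μ[D]
    rw [Category.assoc, IsMonHom.mul_hom, ← Category.assoc, ← Category.assoc]
    congr 1
    apply CartesianMonoidalCategory.hom_ext
    · simp only [Category.assoc, tensorHom_fst, whiskerLeft_fst, whiskerLeft_fst_assoc,
        whiskerRight_fst]
    · simp only [Category.assoc, tensorHom_snd, whiskerLeft_snd, whiskerLeft_snd_assoc,
        whiskerRight_snd_assoc]
  · change q ≫ 𝟙 Q = e.hom ≫ e.inv ≫ q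
    rw [Iso.hom_inv_id_assoc, Category.comp_id]
  · change q ≫ 𝟙 Q = e.hom ≫ e.inv ≫ q
    rw [Iso.hom_inv_id_assoc, Category.comp_id]

theorem fg_fin_int (r : ℕ) : AddGroup.FG (Fin r → ℤ) :=
  Module.Finite.iff_addGroup_fg.mp inferInstance

/-- **the quotient of a split torus by a subgroup of multiplicative type over a connected base
is a split torus of at most the same rank.** -/
theorem split_quotient_of_connected [ConnectedSpace ↥S]
    {T H Q : Over S} [GrpObj T] [GrpObj H] [GrpObj Q] (r : ℕ)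
    (hT : Red.IsSplitTorusWith (Fin r → ℤ) T)
    (i : H ⟶ T) [IsMonHom i] [Mono i] (hH : SGA3x.IsMultTypeFT H) (q : T ⟶ Q) [IsMonHom q]
    (hq : RedSub.IsQuotient i q) : ∃ r' : ℕ, r' ≤ r ∧ Red.IsSplitTorusWith (Fin r' → ℤ) Q := by
  obtain ⟨φ⟩ := hT
  obtain ⟨e, he⟩ := exists_iso_isMonHom φ
  haveI := he
  have hM₀ := fg_fin_int r
  have hq' := isQuotient_transport i q e hq
  haveI : Mono (i ≫ e.hom) := mono_comp _ _
  haveI : IsMonHom (i ≫ e.hom) := inferInstance
  haveI : IsMonHom (e.inv ≫ q) := inferInstance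
  obtain ⟨N, hN⟩ := exists_Pr_id (i := i ≫ e.hom) hM₀ hH
  obtain ⟨ψ⟩ := iso_of_Pr_id hM₀ (e.inv ≫ q) hq' N hN
  obtain ⟨r', hr', ⟨a⟩⟩ := exists_addEquiv_fin r N
  obtain ⟨ψ'⟩ := nonempty_DS_iso (B := S) a
  exact ⟨r', hr', ⟨ψ ≪≫ ψ'⟩⟩

end Groth.Agent.Lib.Helper10.TorusQuot
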