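import Mathlib
import Groth.Agent.Lib.Helper10.TorusQuot6
import Groth.Agent.Lib.Helper10.MultTypeMono

/-!
# Base change of fppf quotients, and the local form of the quotient theorem
-/

set_option autoImplicit false
set_option linter.unusedSectionVars false
set_option linter.style.haveILetI false
set_option backward.isDefEq.respectTransparency.types false
set_option maxHeartbeats 4000000
set_option synthInstance.maxHeartbeats 400000
universe u
open CategoryTheory CategoryTheory.Limits AlgebraicGeometry Opposite MonoidalCategory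
  CartesianMonoidalCategory MonObj GrpObj

namespace Groth.Agent.Lib.Helper10.TorusQuot

open Groth.Agent.Lib.Helper21.GaPts Groth.Agent.Lib.Helper10.FpqcLocus
  Groth.Agent.Lib.Helper10.MagnetQuot Groth.Agent.Lib.Helper10.DiagHomProps
  Groth.Agent.Lib.Helper10.HomFamBC Groth.Agent.Lib.Helper10.DiagHom
  Groth.Agent.Lib.Helper10.FppfQuot Groth.Agent.Lib.Helper10.HomSp
  Groth.Agent.Lib.Helper10.MultTypeHom Groth.Agent.Lib.Helper10.MultTypeMono

variable {S : Scheme.{u}}

/-- fppf quotients are stable under base change. -/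
theorem isQuotient_bc {G H Q : Over S} [GrpObj G] [GrpObj H] (i : H ⟶ G) (q : G ⟶ Q)
    (hq : RedSub.IsQuotient i q) {B : Scheme.{u}} (g : B ⟶ S) :
    RedSub.IsQuotient ((Over.pullback g).map i) ((Over.pullback g).map q) := by
  obtain ⟨h1, h2, h3, h4⟩ := hq
  have F : Fppf ((Over.pullback g).map q).left :=
    Fppf.of_isPullback (isPullback_bc_map_left q g).flip ⟨h1, h2, h3⟩
  refine ⟨F.1, F.2.1, F.2.2, ?_⟩
  have hp := h4.map (Over.pullback g)
  refine IsPullback.of_iso hp (Functor.Monoidal.μIso (Over.pullback g) G H).symm (Iso.refl _)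
    (Iso.refl _) (Iso.refl _) ?_ ?_ ?_ ?_
  · change (Over.pullback g).map (fst G H) ≫ 𝟙 _ =
      Functor.OplaxMonoidal.δ (Over.pullback g) G H ≫ fst _ _
    rw [Functor.OplaxMonoidal.δ_fst, Category.comp_id]
  · change (Over.pullback g).map ((G ◁ i) ≫ μ[G]) ≫ 𝟙 _ =
      Functor.OplaxMonoidal.δ (Over.pullback g) G H ≫
        ((Over.pullback g).obj G ◁ (Over.pullback g).map i) ≫
          (Functor.LaxMonoidal.μ (Over.pullback g) G G ≫ (Over.pullback g).map μ[G])
    rw [Category.comp_id, Functor.LaxMonoidal.μ_natural_right_assoc,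
      Functor.Monoidal.δ_μ_assoc, Functor.map_comp]
  · simp
  · simp

theorem tr_one {B : Scheme.{u}} (g : B ⟶ S) {X : Over B} {G : Over S} [GrpObj G] :
    tr g (1 : X ⟶ Red.bc g G) = 1 := by
  have h := tr_mul g (1 : X ⟶ Red.bc g G) 1
  rw [_root_.mul_one] at h
  exact mul_eq_left.mp h.symm

/-- over any `g : V ⟶ B` over which `H` is the kernel of `D(M₀) ⟶ D(N)`, the quotient becomes
`D_V(N)`. -/
theorem iso_of_Pr {B : Scheme.{u}} {M₀ : Type} [AddCommGroup M₀] {H : Over B} [GrpObj H]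
    {i : H ⟶ Red.DS B M₀} [IsMonHom i] (hM₀ : AddGroup.FG M₀) {Q : Over B} [GrpObj Q]
    (q : Red.DS B M₀ ⟶ Q) [IsMonHom q] (hq : RedSub.IsQuotient i q) (N : AddSubgroup M₀)
    {V : Scheme.{u}} (g : V ⟶ B) (hN : Pr i N g) :
    Nonempty (Grp.mk (Red.bc g Q) ≅ Grp.mk (Red.DS V N)) := by
  have hiq : i ≫ q = 1 := by
    have h0 := mul_π hq.2.2.2.w (1 : H ⟶ Red.DS B M₀) (𝟙 H)
    rw [Category.id_comp, _root_.one_mul, MonObj.one_comp] at h0
    exact h0
  have hq' := isQuotient_bc i q hq g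
  have hK' := isQuotient_bc (Red.DSmap B (QuotientAddGroup.mk' N)) (Red.DSmap B N.subtype)
    ⟨(fppf_K hM₀ N).1, (fppf_K hM₀ N).2.1, (fppf_K hM₀ N).2.2,
      isPullback_of_kernel _ _ (isPullback_kernel_DS N)⟩ g
  obtain ⟨a1, a2, a3, a4⟩ := hq'
  obtain ⟨b1, b2, b3, b4⟩ := hK'
  have Fq : Fppf ((Over.pullback g).map q).left := ⟨a1, a2, a3⟩
  have FK : Fppf ((Over.pullback g).map (Red.DSmap B N.subtype)).left := ⟨b1, b2, b3⟩
  have h1 : (Over.pullback g).map i ≫ (Over.pullback g).map (Red.DSmap B N.subtype) = 1 := by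
    apply tr_injective g
    have e1 := tr_comp_map g (𝟙 (Red.bc g H)) (i ≫ Red.DSmap B N.subtype)
    rw [Category.id_comp] at e1
    rw [tr_one, ← Functor.map_comp, e1, ← Category.assoc]
    exact (hN ((Over.map g).obj (Red.bc g H)) (Red.bc g H).hom rfl (tr g (𝟙 _) ≫ i)).1
      ⟨tr g (𝟙 _), rfl⟩
  have h2 : (Over.pullback g).map (Red.DSmap B (QuotientAddGroup.mk' N)) ≫
      (Over.pullback g).map q = 1 := by
    apply tr_injective g
    have e1 := tr_comp_map g (𝟙 (Red.bc g (Red.DS B (M₀ ⧸ N))))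
      (Red.DSmap B (QuotientAddGroup.mk' N) ≫ q)
    rw [Category.id_comp] at e1
    rw [tr_one, ← Functor.map_comp, e1, ← Category.assoc]
    have hz : (tr g (𝟙 (Red.bc g (Red.DS B (M₀ ⧸ N)))) ≫ Red.DSmap B (QuotientAddGroup.mk' N)) ≫
        Red.DSmap B N.subtype = 1 := by
      rw [Category.assoc, DSmap_comp, mk'_comp_subtype, comp_DSmap_zero]
    obtain ⟨h, hh⟩ := (hN ((Over.map g).obj (Red.bc g (Red.DS B (M₀ ⧸ N))))
      (Red.bc g (Red.DS B (M₀ ⧸ N))).hom rfl _).2 hz
    rw [← hh, Category.assoc, hiq, MonObj.comp_one]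
  obtain ⟨cc, ⟨hc1, hc2⟩, -⟩ := existsUnique_factor_over ((Over.pullback g).map i)
    ((Over.pullback g).map q) Fq a4 ((Over.pullback g).map (Red.DSmap B N.subtype)) h1
  obtain ⟨dd, ⟨hd1, hd2⟩, -⟩ := existsUnique_factor_over
    ((Over.pullback g).map (Red.DSmap B (QuotientAddGroup.mk' N)))
    ((Over.pullback g).map (Red.DSmap B N.subtype)) FK b4 ((Over.pullback g).map q) h2
  haveI := epi_of_fppf _ Fq
  haveI := epi_of_fppf _ FK
  have e1 : cc ≫ dd = 𝟙 _ := by
    rw [← cancel_epi ((Over.pullback g).map q), ← Category.assoc, hc1, hd1, Category.comp_id]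
  have e2 : dd ≫ cc = 𝟙 _ := by
    rw [← cancel_epi ((Over.pullback g).map (Red.DSmap B N.subtype)), ← Category.assoc, hd1, hc1,
      Category.comp_id]
  let ε : Red.bc g Q ≅ Red.bc g (Red.DS B N) := ⟨cc, dd, e1, e2⟩
  haveI : IsMonHom ε.hom := hc2
  exact ⟨Grp.mkIso' ε ≪≫ bcDSIso g N⟩

end Groth.Agent.Lib.Helper10.TorusQuot
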