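import Mathlib
import Groth.Agent.Lib.Helper10.TorusQuot7

/-!
# Quotients of (locally split) tori by subgroups of multiplicative type
-/

set_option autoImplicit false
set_option linter.unusedSectionVars false
set_option linter.style.haveILetI false
set_option backward.isDefEq.respectTransparency.types false
set_option maxHeartbeats 4000000
set_option synthInstance.maxHeartbeats 400000
universe u
open CategoryTheory CategoryTheory.Limits AlgebraicGeometry Opposite MonoidalCategory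
  CartesianMonoidalCategory MonObj GrpObj

namespace Groth.Agent.Lib.Helper10.TorusQuot

open Groth.Agent.Lib.Helper21.GaPts Groth.Agent.Lib.Helper10.FpqcLocus
  Groth.Agent.Lib.Helper10.MagnetQuot Groth.Agent.Lib.Helper10.DiagHomProps
  Groth.Agent.Lib.Helper10.HomFamBC Groth.Agent.Lib.Helper10.DiagHom
  Groth.Agent.Lib.Helper10.FppfQuot Groth.Agent.Lib.Helper10.HomSp
  Groth.Agent.Lib.Helper10.MultTypeHom Groth.Agent.Lib.Helper10.MultTypeMono

/-- the local form: around every point of the base the quotient of a split torus by a subgroup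
of multiplicative type is a split torus of at most the same rank. -/
theorem exists_local_split {B : Scheme.{u}} {T H Q : Over B} [GrpObj T] [GrpObj H] [GrpObj Q]
    (r : ℕ) (hT : Red.IsSplitTorusWith (Fin r → ℤ) T)
    (i : H ⟶ T) [IsMonHom i] [Mono i] (hH : SGA3x.IsMultTypeFT H) (q : T ⟶ Q) [IsMonHom q]
    (hq : RedSub.IsQuotient i q) (b : B) :
    ∃ (V : B.Opens) (r' : ℕ), b ∈ V ∧ r' ≤ r ∧
      Red.IsSplitTorusWith (Fin r' → ℤ) (Red.bc V.ι Q) := by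
  obtain ⟨φ⟩ := hT
  obtain ⟨e, he⟩ := exists_iso_isMonHom φ
  haveI := he
  have hM₀ := fg_fin_int r
  have hq' := isQuotient_transport i q e hq
  haveI : Mono (i ≫ e.hom) := mono_comp _ _
  haveI : IsMonHom (i ≫ e.hom) := inferInstance
  haveI : IsMonHom (e.inv ≫ q) := inferInstance
  obtain ⟨N, V, hbV, -, hP⟩ := exists_clopen_Pr (i := i ≫ e.hom) hM₀ hH b
  obtain ⟨ψ⟩ := iso_of_Pr hM₀ (e.inv ≫ q) hq' N V.ι hP
  obtain ⟨r', hr', ⟨a⟩⟩ := exists_addEquiv_fin r N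
  obtain ⟨ψ'⟩ := nonempty_DS_iso (B := (V : Scheme.{u})) a
  exact ⟨V, r', hbV, hr', ⟨ψ ≪≫ ψ'⟩⟩

/-- a group isomorphic to a diagonalisable group of finite type is of multiplicative type. -/
theorem isMultTypeFT_of_iso {B : Scheme.{u}} {H : Over B} [GrpObj H] {M : Type} [AddCommGroup M]
    (hM : AddGroup.FG M) (e : Grp.mk H ≅ Grp.mk (Red.DS B M)) : SGA3x.IsMultTypeFT H := by
  refine ⟨B, 𝟙 B, inferInstance, inferInstance, fun V _ => ⟨V, ?_, ?_⟩, fun s' => ?_⟩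
  · exact ‹IsAffineOpen V›.isCompact
  · simp
  · exact ⟨⊤, trivial, M, inferInstance, hM,
      ⟨bcMapIso ((⊤ : B.Opens).ι ≫ 𝟙 B) e ≪≫ bcDSIso ((⊤ : B.Opens).ι ≫ 𝟙 B) M⟩⟩

/-- groups of multiplicative type restrict to open subschemes. -/
theorem isMultTypeFT_restrict {S : Scheme.{u}} {H : Over S} [GrpObj H]
    (hH : SGA3x.IsMultTypeFT H) (U : S.Opens) : SGA3x.IsMultTypeFT (Red.bc U.ι H) := by
  obtain ⟨S', f, hfl, hsurj, hcov, hloc⟩ := hH
  haveI := hfl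
  haveI := hsurj
  have hsurj' : Surjective (f ∣_ U) := IsZariskiLocalAtTarget.restrict (P := @Surjective) hsurj U
  refine ⟨(f ⁻¹ᵁ U : S'.Opens), f ∣_ U, inferInstance, hsurj', ?_, ?_⟩
  · intro V hV
    have hV' : IsAffineOpen (U.ι ''ᵁ V) := hV.image_of_isOpenImmersion U.ι
    obtain ⟨W, hWc, hWeq⟩ := hcov _ hV'
    have hWU : (W : Set S') ⊆ Set.range (f ⁻¹ᵁ U).ι := by
      intro w hw
      rw [Scheme.Opens.range_ι]
      have h1 : f w ∈ f.base '' (W : Set S') := ⟨w, hw, rfl⟩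
      rw [hWeq] at h1
      obtain ⟨v, -, hv⟩ := h1
      change f w ∈ U
      rw [← hv]
      have h2 : U.ι v ∈ Set.range U.ι := ⟨v, rfl⟩
      rw [Scheme.Opens.range_ι] at h2
      exact h2
    refine ⟨(f ⁻¹ᵁ U).ι ⁻¹ᵁ W, ?_, ?_⟩
    · exact (f ⁻¹ᵁ U).ι.isOpenEmbedding.isInducing.isCompact_preimage' hWc hWU
    · ext v
      constructor
      · rintro ⟨x, hx, rfl⟩
        have h1 : f ((f ⁻¹ᵁ U).ι x) ∈ f.base '' (W : Set S') := ⟨_, hx, rfl⟩
        rw [hWeq] at h1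
        obtain ⟨v', hv', hvv⟩ := h1
        have h2 : U.ι ((f ∣_ U) x) = f ((f ⁻¹ᵁ U).ι x) := by
          change ((f ∣_ U) ≫ U.ι) x = ((f ⁻¹ᵁ U).ι ≫ f) x
          rw [morphismRestrict_ι]
        have h3 : v' = (f ∣_ U) x := U.ι.isOpenEmbedding.injective (hvv.trans h2.symm)
        rw [← h3]
        exact hv'
      · intro hv
        have h1 : U.ι v ∈ f.base '' (W : Set S') := by
          rw [hWeq]
          exact ⟨v, hv, rfl⟩
        obtain ⟨w, hw, hwv⟩ := h1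
        obtain ⟨x, hx⟩ := hWU hw
        refine ⟨x, ?_, ?_⟩
        · change (f ⁻¹ᵁ U).ι x ∈ W
          rw [hx]
          exact hw
        · apply U.ι.isOpenEmbedding.injective
          change ((f ∣_ U) ≫ U.ι) x = U.ι v
          rw [morphismRestrict_ι]
          change f ((f ⁻¹ᵁ U).ι x) = U.ι v
          rw [hx, hwv]
  · intro s''
    obtain ⟨U₀, hsU₀, M, _, hM, ⟨φ⟩⟩ := hloc ((f ⁻¹ᵁ U).ι s'')
    let U₀' : (f ⁻¹ᵁ U : S'.Opens).toScheme.Opens := (f ⁻¹ᵁ U).ι ⁻¹ᵁ U₀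
    refine ⟨U₀', hsU₀, M, inferInstance, hM, ?_⟩
    have hr : Set.range (U₀'.ι ≫ (f ⁻¹ᵁ U).ι) ⊆ Set.range U₀.ι := by
      rintro _ ⟨y, rfl⟩
      rw [Scheme.Opens.range_ι]
      exact y.2
    let k : (U₀' : Scheme.{u}) ⟶ (U₀ : Scheme.{u}) :=
      IsOpenImmersion.lift U₀.ι (U₀'.ι ≫ (f ⁻¹ᵁ U).ι) hr
    have hk : k ≫ U₀.ι = U₀'.ι ≫ (f ⁻¹ᵁ U).ι := IsOpenImmersion.lift_fac _ _ _
    have hg : (U₀'.ι ≫ f ∣_ U) ≫ U.ι = k ≫ U₀.ι ≫ f := by
      rw [Category.assoc, morphismRestrict_ι, ← Category.assoc, ← hk, Category.assoc]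
    exact ⟨(bcCompIso (U₀'.ι ≫ f ∣_ U) U.ι H).symm ≪≫
      trivIso H (U₀.ι ≫ f) k ((U₀'.ι ≫ f ∣_ U) ≫ U.ι) hg M φ⟩

end Groth.Agent.Lib.Helper10.TorusQuot
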