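import Mathlib
import Groth.Agent.Lib.Helper10.TorusQuot8

/-!
# Quotients of locally split tori and of tori by subgroups of multiplicative type
-/

set_option autoImplicit false
set_option linter.unusedSectionVars false
set_option linter.style.haveILetI false
set_option backward.isDefEq.respectTransparency.types false
set_option maxHeartbeats 4000000
set_option synthInstance.maxHeartbeats 400000
universe u
open CategoryTheory CategoryTheory.Limits AlgebraicGeometry Opposite MonoidalCategory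
  CartesianMonoidalCategory MonObj GrpObj

namespace Groth.Agent.Lib.Helper10.TorusQuot

open Groth.Agent.Lib.Helper21.GaPts Groth.Agent.Lib.Helper10.FpqcLocus
  Groth.Agent.Lib.Helper10.MagnetQuot Groth.Agent.Lib.Helper10.DiagHomProps
  Groth.Agent.Lib.Helper10.HomFamBC Groth.Agent.Lib.Helper10.DiagHom
  Groth.Agent.Lib.Helper10.FppfQuot Groth.Agent.Lib.Helper10.HomSp
  Groth.Agent.Lib.Helper10.MultTypeHom Groth.Agent.Lib.Helper10.MultTypeMono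

variable {S : Scheme.{u}}

/-- transport of a splitting over an open of an open to the image open. -/
theorem split_image {B : Scheme.{u}} (a : B ⟶ S) (Q : Over S) [GrpObj Q] (U : B.Opens)
    (V : (U : Scheme.{u}).Opens) (r : ℕ)
    (h : Red.IsSplitTorusWith (Fin r → ℤ) (Red.bc V.ι (Red.bc (U.ι ≫ a) Q))) :
    Red.IsSplitTorusWith (Fin r → ℤ) (Red.bc ((U.ι ''ᵁ V).ι ≫ a) Q) := by
  obtain ⟨ψ⟩ := h
  have hr : Set.range (U.ι ''ᵁ V).ι ⊆ Set.range (V.ι ≫ U.ι) := by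
    rw [Scheme.Opens.range_ι]
    rintro _ ⟨v, hv, rfl⟩
    exact ⟨⟨v, hv⟩, rfl⟩
  let k : ((U.ι ''ᵁ V : B.Opens) : Scheme.{u}) ⟶ (V : Scheme.{u}) :=
    IsOpenImmersion.lift (V.ι ≫ U.ι) (U.ι ''ᵁ V).ι hr
  have hk : k ≫ V.ι ≫ U.ι = (U.ι ''ᵁ V).ι := IsOpenImmersion.lift_fac _ _ _
  have hk' : (U.ι ''ᵁ V).ι ≫ a = k ≫ V.ι ≫ U.ι ≫ a := by
    rw [← hk, Category.assoc, Category.assoc]
  exact ⟨trivIso Q (V.ι ≫ U.ι ≫ a) k ((U.ι ''ᵁ V).ι ≫ a) hk' _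
    (bcCompIso V.ι (U.ι ≫ a) Q ≪≫ ψ)⟩

/-- **the quotient of a locally split torus by a subgroup of multiplicative type is a locally
split torus.** -/
theorem locally_split_quotient {T H Q : Over S} [GrpObj T] [GrpObj H] [GrpObj Q]
    (hT : ∀ s : ↥S, ∃ U : S.Opens, s ∈ U ∧ ∃ r : ℕ,
      Red.IsSplitTorusWith (Fin r → ℤ) (Red.bc U.ι T))
    (i : H ⟶ T) [IsMonHom i] [Mono i] (hH : SGA3x.IsMultTypeFT H) (q : T ⟶ Q) [IsMonHom q]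
    (hq : RedSub.IsQuotient i q) :
    ∀ s : ↥S, ∃ U : S.Opens, s ∈ U ∧ ∃ r : ℕ,
      Red.IsSplitTorusWith (Fin r → ℤ) (Red.bc U.ι Q) := by
  intro s
  obtain ⟨U, hsU, r, hTU⟩ := hT s
  haveI : Mono ((Over.pullback U.ι).map i) := inferInstance
  haveI : IsMonHom ((Over.pullback U.ι).map i) := inferInstance
  haveI : IsMonHom ((Over.pullback U.ι).map q) := inferInstance
  obtain ⟨V, r', hV, -, hψ⟩ := exists_local_split r hTU ((Over.pullback U.ι).map i)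
    (isMultTypeFT_restrict hH U) ((Over.pullback U.ι).map q) (isQuotient_bc i q hq U.ι) ⟨s, hsU⟩
  refine ⟨U.ι ''ᵁ V, ⟨⟨s, hsU⟩, hV, rfl⟩, r', ?_⟩
  have hψ' : Red.IsSplitTorusWith (Fin r' → ℤ) (Red.bc V.ι (Red.bc (U.ι ≫ 𝟙 S) Q)) := by
    obtain ⟨ψ⟩ := hψ
    exact ⟨bcMapIso V.ι (bcCongrIso (Category.comp_id U.ι) Q) ≪≫ ψ⟩
  obtain ⟨ψ₂⟩ := split_image (𝟙 S) Q U V r' hψ'
  exact ⟨bcCongrIso (Category.comp_id _).symm Q ≪≫ ψ₂⟩

/-- **the quotient of a torus by a subgroup of multiplicative type is a torus.** -/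
theorem torus_quotient {T H Q : Over S} [GrpObj T] [GrpObj H] [GrpObj Q]
    (hT : Red.IsTorus T) (i : H ⟶ T) [IsMonHom i] [Mono i] (hH : SGA3x.IsMultTypeFT H)
    (q : T ⟶ Q) [IsMonHom q] (hq : RedSub.IsQuotient i q) : Red.IsTorus Q := by
  obtain ⟨S₁, f₁, hfl₁, hsurj₁, hcov₁, hloc₁⟩ := hT
  obtain ⟨S₂, f₂, hfl₂, hsurj₂, hcov₂, hloc₂⟩ := hH
  haveI := hfl₁
  haveI := hfl₂
  haveI := hsurj₁
  haveI := hsurj₂
  refine ⟨pullback f₁ f₂, pullback.fst f₁ f₂ ≫ f₁, inferInstance, inferInstance,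
    fpqc_prod f₁ f₂ hcov₁ hcov₂, fun s' => ?_⟩
  obtain ⟨U₁, hU₁, r, hT₁⟩ := hloc₁ (pullback.fst f₁ f₂ s')
  obtain ⟨U₂, hU₂, M, _, hM, ⟨φ₂⟩⟩ := hloc₂ (pullback.snd f₁ f₂ s')
  let B₀ : (pullback f₁ f₂).Opens := pullback.fst f₁ f₂ ⁻¹ᵁ U₁ ⊓ pullback.snd f₁ f₂ ⁻¹ᵁ U₂
  have hsB₀ : s' ∈ B₀ := ⟨hU₁, hU₂⟩
  let g : (B₀ : Scheme.{u}) ⟶ S := B₀.ι ≫ pullback.fst f₁ f₂ ≫ f₁
  have hr₁ : Set.range (B₀.ι ≫ pullback.fst f₁ f₂) ⊆ Set.range U₁.ι := by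
    rintro _ ⟨y, rfl⟩
    rw [Scheme.Opens.range_ι]
    exact y.2.1
  have hr₂ : Set.range (B₀.ι ≫ pullback.snd f₁ f₂) ⊆ Set.range U₂.ι := by
    rintro _ ⟨y, rfl⟩
    rw [Scheme.Opens.range_ι]
    exact y.2.2
  let k₁ : (B₀ : Scheme.{u}) ⟶ (U₁ : Scheme.{u}) :=
    IsOpenImmersion.lift U₁.ι (B₀.ι ≫ pullback.fst f₁ f₂) hr₁
  let k₂ : (B₀ : Scheme.{u}) ⟶ (U₂ : Scheme.{u}) :=
    IsOpenImmersion.lift U₂.ι (B₀.ι ≫ pullback.snd f₁ f₂) hr₂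
  have hk₁ : k₁ ≫ U₁.ι = B₀.ι ≫ pullback.fst f₁ f₂ := IsOpenImmersion.lift_fac _ _ _
  have hk₂ : k₂ ≫ U₂.ι = B₀.ι ≫ pullback.snd f₁ f₂ := IsOpenImmersion.lift_fac _ _ _
  have hg₁ : g = k₁ ≫ U₁.ι ≫ f₁ := by
    rw [← Category.assoc, hk₁, Category.assoc]
  have hg₂ : g = k₂ ≫ U₂.ι ≫ f₂ := by
    rw [← Category.assoc, hk₂, Category.assoc, ← pullback.condition]
  obtain ⟨φ₁⟩ := hT₁
  have hTB : Red.IsSplitTorusWith (Fin r → ℤ) (Red.bc g T) :=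
    ⟨trivIso T (U₁.ι ≫ f₁) k₁ g hg₁ _ φ₁⟩
  have hHB : SGA3x.IsMultTypeFT (Red.bc g H) :=
    isMultTypeFT_of_iso hM (trivIso H (U₂.ι ≫ f₂) k₂ g hg₂ M φ₂)
  haveI : Mono ((Over.pullback g).map i) := inferInstance
  haveI : IsMonHom ((Over.pullback g).map i) := inferInstance
  haveI : IsMonHom ((Over.pullback g).map q) := inferInstance
  obtain ⟨V, r', hV, -, hψ⟩ := exists_local_split r hTB ((Over.pullback g).map i) hHB
    ((Over.pullback g).map q) (isQuotient_bc i q hq g) ⟨s', hsB₀⟩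
  exact ⟨B₀.ι ''ᵁ V, ⟨⟨s', hsB₀⟩, hV, rfl⟩, r',
    split_image (pullback.fst f₁ f₂ ≫ f₁) Q B₀ V r' hψ⟩

end Groth.Agent.Lib.Helper10.TorusQuot
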