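import Mathlib
import Groth.Agent.Lib.Helper10.TorusQuot9

/-!
# The kernel of a homomorphism from a split diagonalisable group: the local kernel predicate

For a homomorphism `m : D_B(M₀) ⟶ G` and a subgroup `N ≤ M₀`, `PrK m N g` says that over
`g : T ⟶ B` the kernel of `m` coincides (as a subfunctor of `D_B(M₀)`) with the kernel of
`D_B(M₀) ⟶ D_B(N)`.
-/

set_option autoImplicit false
set_option linter.unusedSectionVars false
set_option linter.style.haveILetI false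
set_option backward.isDefEq.respectTransparency.types false
set_option maxHeartbeats 4000000
set_option synthInstance.maxHeartbeats 400000
universe u
open CategoryTheory CategoryTheory.Limits AlgebraicGeometry Opposite MonoidalCategory
  CartesianMonoidalCategory MonObj GrpObj

namespace Groth.Agent.Lib.Helper10.TorusKer

open Groth.Agent.Lib.Helper21.GaPts Groth.Agent.Lib.Helper10.FpqcLocus
  Groth.Agent.Lib.Helper10.MagnetQuot Groth.Agent.Lib.Helper10.DiagHomProps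
  Groth.Agent.Lib.Helper10.HomFamBC Groth.Agent.Lib.Helper10.DiagHom
  Groth.Agent.Lib.Helper10.TorusQuot

variable {B : Scheme.{u}} {M₀ : Type} [AddCommGroup M₀] {G : Over B} [GrpObj G]
  (m : Red.DS B M₀ ⟶ G)

/-- over `g`, the kernel of `m` is the kernel of `D(M₀) ⟶ D(N)`. -/
def PrK (N : AddSubgroup M₀) ⦃T : Scheme.{u}⦄ (g : T ⟶ B) : Prop :=
  ∀ (X : Over B) (x : X.left ⟶ T), x ≫ g = X.hom → ∀ t : X ⟶ Red.DS B M₀,
    t ≫ m = 1 ↔ t ≫ Red.DSmap B N.subtype = 1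

variable {m}

theorem PrK.comp {N : AddSubgroup M₀} {T T' : Scheme.{u}} (b : T' ⟶ T) (g : T ⟶ B)
    (h : PrK m N g) : PrK m N (b ≫ g) := by
  intro X x hx t
  exact h X (x ≫ b) (by rw [Category.assoc, hx]) t

theorem eq_one_iff_of_epi {G' X X' : Over B} [GrpObj G'] (pr : X' ⟶ X) [Epi pr] (a : X ⟶ G') :
    a = 1 ↔ pr ≫ a = 1 := by
  constructor
  · intro h
    rw [h, MonObj.comp_one]
  · intro h
    rw [← cancel_epi pr, h, MonObj.comp_one]

theorem PrK.descent {N : AddSubgroup M₀} {T T' : Scheme.{u}} (r : T' ⟶ T) (g : T ⟶ B)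
    (hfl : Flat r) (hs : Surjective r) (hqc : QuasiCompact r) (h : PrK m N (r ≫ g)) :
    PrK m N g := by
  intro X x hx t
  let X' : Over B := Over.mk (pullback.fst x r ≫ X.hom)
  let pr : X' ⟶ X := Over.homMk (pullback.fst x r) rfl
  have hpr : IsFpqc pr.left := IsFpqc.of_isPullback (IsPullback.of_hasPullback x r) ⟨hfl, hs, hqc⟩
  haveI : Epi pr := epi_of_isFpqc_left hpr
  have hx' : pullback.snd x r ≫ (r ≫ g) = X'.hom := by
    change _ = pullback.fst x r ≫ X.hom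
    rw [← hx, ← Category.assoc, ← pullback.condition, Category.assoc]
  have key := h X' (pullback.snd x r) hx' (pr ≫ t)
  rw [eq_one_iff_of_epi pr (t ≫ m), eq_one_iff_of_epi pr (t ≫ Red.DSmap B N.subtype),
    ← Category.assoc, ← Category.assoc]
  exact key

theorem eq_one_of_openCover {G' X : Over B} [GrpObj G'] (a : X ⟶ G') {K : Type u}
    (V : K → X.left.Opens) (hV : TopologicalSpace.IsOpenCover V)
    (h : ∀ k, (Over.homMk (V k).ι rfl : Over.mk ((V k).ι ≫ X.hom) ⟶ X) ≫ a = 1) : a = 1 := by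
  apply Over.OverMorphism.ext
  apply (X.left.openCoverOfIsOpenCover V hV).hom_ext
  intro k
  have h2 : (Over.homMk (V k).ι rfl : Over.mk ((V k).ι ≫ X.hom) ⟶ X) ≫ a =
      (Over.homMk (V k).ι rfl : Over.mk ((V k).ι ≫ X.hom) ⟶ X) ≫ 1 := by
    rw [h k, MonObj.comp_one]
  exact congrArg (fun z => z.left) h2

theorem PrK.loc {N : AddSubgroup M₀} {T : Scheme.{u}} (g : T ⟶ B)
    (h : ∀ z : T, ∃ (Z : Scheme.{u}) (j : Z ⟶ T), IsOpenImmersion j ∧ z ∈ Set.range j ∧
      PrK m N (j ≫ g)) : PrK m N g := by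
  intro X x hx t
  choose Z j hj hz hP using h
  haveI := hj
  let V : X.left → X.left.Opens := fun p => x ⁻¹ᵁ (j (x p)).opensRange
  have hV : ∀ p, p ∈ V p := fun p => hz (x p)
  have hcov : TopologicalSpace.IsOpenCover V := by
    rw [TopologicalSpace.IsOpenCover, eq_top_iff]
    intro p _
    exact TopologicalSpace.Opens.mem_iSup.mpr ⟨p, hV p⟩
  let Xp : X.left → Over B := fun p => Over.mk ((V p).ι ≫ X.hom)
  let ip : ∀ p, Xp p ⟶ X := fun p => Over.homMk (V p).ι rfl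
  have hr : ∀ p, Set.range ((V p).ι ≫ x) ⊆ Set.range (j (x p)) := by
    rintro p _ ⟨y, rfl⟩
    exact y.2
  let xp : ∀ p, (Xp p).left ⟶ Z (x p) := fun p => IsOpenImmersion.lift (j (x p)) ((V p).ι ≫ x) (hr p)
  have hxp : ∀ p, xp p ≫ j (x p) = (V p).ι ≫ x := fun p => IsOpenImmersion.lift_fac _ _ _
  have key : ∀ p, (ip p ≫ t) ≫ m = 1 ↔ (ip p ≫ t) ≫ Red.DSmap B N.subtype = 1 := fun p =>
    hP (x p) (Xp p) (xp p) (by
      rw [← Category.assoc, hxp, Category.assoc, hx]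
      rfl) (ip p ≫ t)
  constructor
  · intro ht
    apply eq_one_of_openCover _ V hcov
    intro p
    rw [← Category.assoc]
    refine (key p).1 ?_
    rw [Category.assoc, ht, MonObj.comp_one]
  · intro ht
    apply eq_one_of_openCover _ V hcov
    intro p
    rw [← Category.assoc]
    refine (key p).2 ?_
    rw [Category.assoc, ht, MonObj.comp_one]

theorem isLocalBC_PrK (N : AddSubgroup M₀) : IsLocalBC (PrK m N) where
  comp := fun _ _ b g h => PrK.comp b g h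
  descent := fun _ _ r g hfl hs hqc h => PrK.descent r g hfl hs hqc h
  loc := fun _ g h => PrK.loc g h

/-! ### Uniqueness of the kernel subgroup -/

theorem le_of_PrK {N₀ N₁ : AddSubgroup M₀} {T : Scheme.{u}} (g : T ⟶ B) (z : T)
    (h₀ : PrK m N₀ g) (h₁ : PrK m N₁ g) : N₁ ≤ N₀ := by
  obtain ⟨(A : T.Opens), hA, hzA, -⟩ :=
    TopologicalSpace.Opens.isBasis_iff_nbhd.mp T.isBasis_affineOpens
      (TopologicalSpace.Opens.mem_top z)
  let W' : Over B := Over.mk (A.ι ≫ g)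
  haveI : IsAffine W'.left := hA
  let X : Over B := Red.DS B (M₀ ⧸ N₀) ⊗ W'
  let x : X.left ⟶ T := (snd (Red.DS B (M₀ ⧸ N₀)) W').left ≫ A.ι
  have hx : x ≫ g = X.hom := by
    rw [Category.assoc]
    exact Over.w (snd (Red.DS B (M₀ ⧸ N₀)) W')
  let t : X ⟶ Red.DS B M₀ := fst _ _ ≫ Red.DSmap B (QuotientAddGroup.mk' N₀)
  have ht0 : t ≫ Red.DSmap B N₀.subtype = 1 := by
    rw [Category.assoc, DSmap_comp, mk'_comp_subtype, comp_DSmap_zero]
  have ht1 : t ≫ Red.DSmap B N₁.subtype = 1 := (h₁ X x hx t).1 ((h₀ X x hx t).2 ht0)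
  have h2 : fst (Red.DS B (M₀ ⧸ N₀)) W' ≫ Red.DSmap B ((QuotientAddGroup.mk' N₀).comp N₁.subtype) =
      fst (Red.DS B (M₀ ⧸ N₀)) W' ≫ Red.DSmap B (0 : N₁ →+ M₀ ⧸ N₀) := by
    rw [comp_DSmap_zero, ← DSmap_comp, ← Category.assoc]
    exact ht1
  have h3 := eq_of_fst_DSmap_eq W' ⟨z, hzA⟩ _ _ h2
  intro n hn
  have h4 : ((QuotientAddGroup.mk' N₀).comp N₁.subtype) ⟨n, hn⟩ = 0 := by rw [h3]; rfl
  exact (QuotientAddGroup.eq_zero_iff n).1 h4

theorem eq_of_PrK {N₀ N₁ : AddSubgroup M₀} {T : Scheme.{u}} (g : T ⟶ B) (z : T)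
    (h₀ : PrK m N₀ g) (h₁ : PrK m N₁ g) : N₀ = N₁ :=
  le_antisymm (le_of_PrK g z h₁ h₀) (le_of_PrK g z h₀ h₁)

end Groth.Agent.Lib.Helper10.TorusKer
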