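import Mathlib
import Groth.Agent.Lib.Helper10.TorusKer1

/-!
# Local existence of the kernel subgroup of a homomorphism `D_B(M₀) ⟶ G` over a trivialisation of `G`
-/

set_option autoImplicit false
set_option linter.unusedSectionVars false
set_option linter.style.haveILetI false
set_option backward.isDefEq.respectTransparency.types false
set_option maxHeartbeats 4000000
set_option synthInstance.maxHeartbeats 400000
universe u
open CategoryTheory CategoryTheory.Limits AlgebraicGeometry Opposite MonoidalCategory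
  CartesianMonoidalCategory MonObj GrpObj

namespace Groth.Agent.Lib.Helper10.TorusKer

open Groth.Agent.Lib.Helper21.GaPts Groth.Agent.Lib.Helper10.FpqcLocus
  Groth.Agent.Lib.Helper10.MagnetQuot Groth.Agent.Lib.Helper10.DiagHomProps
  Groth.Agent.Lib.Helper10.HomFamBC Groth.Agent.Lib.Helper10.DiagHom
  Groth.Agent.Lib.Helper10.TorusQuot

variable {B U : Scheme.{u}} (g : U ⟶ B) {M₀ : Type} [AddCommGroup M₀]

/-- a `U`-point of `D_U(M₀)` as a `B`-point of `D_B(M₀)`. -/
noncomputable def up {X' : Over U} (a : X' ⟶ Red.DS U M₀) :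
    (Over.map g).obj X' ⟶ Red.DS B M₀ :=
  dsPt (S := B) (X := (Over.map g).obj X') (dsChar (S := U) (X := X') a)

/-- a `B`-point of `D_B(M₀)` over `U` as a `U`-point of `D_U(M₀)`. -/
noncomputable def down {X' : Over U} (t : (Over.map g).obj X' ⟶ Red.DS B M₀) :
    X' ⟶ Red.DS U M₀ :=
  dsPt (S := U) (X := X') (dsChar (S := B) (X := (Over.map g).obj X') t)

theorem dsFn_up {X' : Over U} (a : X' ⟶ Red.DS U M₀) (n : M₀) :
    dsFn n (up g a) = dsFn n a := by
  rw [up, dsFn_dsPt]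
  rfl

theorem dsFn_down {X' : Over U} (t : (Over.map g).obj X' ⟶ Red.DS B M₀) (n : M₀) :
    dsFn n (down g t) = dsFn n t := by
  rw [down, dsFn_dsPt]
  rfl

theorem up_down {X' : Over U} (t : (Over.map g).obj X' ⟶ Red.DS B M₀) : up g (down g t) = t := by
  apply dsFn_injective
  intro n
  rw [dsFn_up, dsFn_down]

theorem up_mul {X' : Over U} (a b : X' ⟶ Red.DS U M₀) : up g (a * b) = up g a * up g b := by
  apply dsFn_injective
  intro n
  rw [dsFn_up, dsFn_mul, dsFn_mul, dsFn_up, dsFn_up]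

theorem map_comp_up {X' X'' : Over U} (p : X'' ⟶ X') (a : X' ⟶ Red.DS U M₀) :
    (Over.map g).map p ≫ up g a = up g (p ≫ a) := by
  apply dsFn_injective
  intro n
  rw [dsFn_up, dsFn_comp, dsFn_comp, dsFn_up]
  rfl

theorem comp_trInv {X' X'' : Over U} {Y : Over B} (p : X'' ⟶ X') (y : (Over.map g).obj X' ⟶ Y) :
    p ≫ trInv g y = trInv g ((Over.map g).map p ≫ y) := by
  apply tr_injective g
  rw [tr_comp, tr_trInv, tr_trInv]

theorem trInv_mul {X' : Over U} {G : Over B} [GrpObj G] (x y : (Over.map g).obj X' ⟶ G) :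
    trInv g (x * y) = trInv g x * trInv g y := by
  apply tr_injective g
  rw [tr_mul, tr_trInv, tr_trInv, tr_trInv]

theorem trInv_eq_one_iff {X' : Over U} {G : Over B} [GrpObj G] (x : (Over.map g).obj X' ⟶ G) :
    trInv g x = 1 ↔ x = 1 := by
  constructor
  · intro h
    have h1 := congrArg (tr g) h
    rwa [tr_trInv, tr_one] at h1
  · intro h
    apply tr_injective g
    rw [tr_trInv, tr_one, h]

variable {G : Over B} [GrpObj G] (m : Red.DS B M₀ ⟶ G) {M : Type} [AddCommGroup M]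
  (e : Red.bc g G ≅ Red.DS U M)

/-- the homomorphism `D_U(M₀) ⟶ D_U(M)` induced by `m`. -/
noncomputable def cmap : Red.DS U M₀ ⟶ Red.DS U M :=
  trInv g (up g (𝟙 (Red.DS U M₀)) ≫ m) ≫ e.hom

theorem comp_cmap {X' : Over U} (a : X' ⟶ Red.DS U M₀) :
    a ≫ cmap g m e = trInv g (up g a ≫ m) ≫ e.hom := by
  rw [cmap, ← Category.assoc, comp_trInv, ← Category.assoc, map_comp_up, Category.comp_id]

theorem cmap_mul [IsMonHom m] [IsMonHom e.hom] {X' : Over U} (a b : X' ⟶ Red.DS U M₀) :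
    (a * b) ≫ cmap g m e = (a ≫ cmap g m e) * (b ≫ cmap g m e) := by
  rw [comp_cmap, comp_cmap, comp_cmap, up_mul, MonObj.mul_comp _ _ m, trInv_mul,
    MonObj.mul_comp _ _ e.hom]

theorem comp_cmap_eq_one_iff [IsMonHom e.hom] {X' : Over U} (a : X' ⟶ Red.DS U M₀) :
    a ≫ cmap g m e = 1 ↔ up g a ≫ m = 1 := by
  rw [comp_cmap, ← trInv_eq_one_iff g (up g a ≫ m)]
  constructor
  · intro h
    rw [← cancel_mono e.hom, h, MonObj.one_comp]
  · intro h
    rw [h, MonObj.one_comp]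

theorem exists_local_PrK [IsMonHom m] (hM : AddGroup.FG M) [IsMonHom e.hom] (u : U) :
    ∃ (W : Scheme.{u}) (w : W ⟶ U) (N : AddSubgroup M₀), IsOpenImmersion w ∧ u ∈ Set.range w ∧
      PrK m N (w ≫ g) := by
  let c := cmap g m e
  let φ : Red.DS U M₀ ⊗ 𝟙_ (Over U) ⟶ Red.DS U M := fst _ _ ≫ c
  have hφ : ∀ (X : Over U) (a b : X ⟶ Red.DS U M₀) (t : X ⟶ 𝟙_ (Over U)),
      lift (a * b) t ≫ φ = (lift a t ≫ φ) * (lift b t ≫ φ) := by
    intro X a b t
    simp only [φ, lift_fst_assoc]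
    exact cmap_mul g m e a b
  obtain ⟨W, jW, ψ, hjW, huW, hψ⟩ := locally_DSmap (𝟙_ (Over U)) hM φ hφ (u : (𝟙_ (Over U)).left)
  have key : ∀ (X' : Over U) (xW : X' ⟶ W) (a : X' ⟶ Red.DS U M₀),
      a ≫ c = a ≫ Red.DSmap U ψ := by
    intro X' xW a
    have h1 := congrArg (fun z => lift a xW ≫ z) hψ
    simpa only [φ, lift_whiskerLeft_assoc, lift_fst_assoc] using h1
  have hWhom : W.hom = jW.left := by
    have h1 := Over.w jW
    rw [← h1]
    exact (Category.comp_id _).symm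
  refine ⟨W.left, jW.left, ψ.range, hjW, huW, ?_⟩
  intro X x hx t
  have hx' : (x ≫ jW.left) ≫ g = X.hom := by rw [Category.assoc, hx]
  obtain ⟨XL, ⟨⟨⟩⟩, Xh⟩ := X
  change XL ⟶ W.left at x
  change (x ≫ jW.left) ≫ g = Xh at hx'
  subst hx'
  let X' : Over U := Over.mk (x ≫ jW.left)
  let xW : X' ⟶ W := Over.homMk x (by
    change x ≫ W.hom = x ≫ jW.left
    rw [hWhom])
  change (Over.map g).obj X' ⟶ Red.DS B M₀ at t
  change t ≫ m = 1 ↔ t ≫ Red.DSmap B ψ.range.subtype = 1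
  let a : X' ⟶ Red.DS U M₀ := down g t
  have hat : up g a = t := up_down g t
  have h1 : t ≫ m = 1 ↔ a ≫ Red.DSmap U ψ = 1 := by
    rw [← key X' xW a, comp_cmap_eq_one_iff, hat]
  rw [h1]
  constructor
  · intro h
    apply dsFn_injective
    rintro ⟨n, mm, rfl⟩
    rw [dsFn_DSmap, dsFn_one]
    change dsFn (ψ mm) t = 1
    rw [← dsFn_down g t, ← dsFn_DSmap, h, dsFn_one]
  · intro h
    apply dsFn_injective
    intro mm
    rw [dsFn_DSmap, dsFn_one, dsFn_down]
    have h2 := congrArg (dsFn (⟨ψ mm, mm, rfl⟩ : ψ.range)) h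
    rw [dsFn_DSmap, dsFn_one] at h2
    exact h2

end Groth.Agent.Lib.Helper10.TorusKer
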