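import Mathlib
import Groth.Agent.Lib.Helper10.TorusKer2

/-!
# The image of a homomorphism from a split diagonalisable group into a group of multiplicative type
-/

set_option autoImplicit false
set_option linter.unusedSectionVars false
set_option linter.style.haveILetI false
set_option backward.isDefEq.respectTransparency.types false
set_option maxHeartbeats 4000000
set_option synthInstance.maxHeartbeats 400000
universe u
open CategoryTheory CategoryTheory.Limits AlgebraicGeometry Opposite MonoidalCategory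
  CartesianMonoidalCategory MonObj GrpObj

namespace Groth.Agent.Lib.Helper10.TorusKer

open Groth.Agent.Lib.Helper21.GaPts Groth.Agent.Lib.Helper10.FpqcLocus
  Groth.Agent.Lib.Helper10.MagnetQuot Groth.Agent.Lib.Helper10.DiagHomProps
  Groth.Agent.Lib.Helper10.HomFamBC Groth.Agent.Lib.Helper10.DiagHom
  Groth.Agent.Lib.Helper10.TorusQuot Groth.Agent.Lib.Helper10.MultTypeHom
  Groth.Agent.Lib.Helper10.FppfQuot Groth.Agent.Lib.Helper10.HomSp

variable {B : Scheme.{u}} {M₀ : Type} [AddCommGroup M₀] {G : Over B} [GrpObj G]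
  {m : Red.DS B M₀ ⟶ G}

theorem exists_clopen_PrK [IsMonHom m] (hG : SGA3x.IsMultTypeFT G) (b : B) :
    ∃ (N : AddSubgroup M₀) (V : B.Opens), b ∈ V ∧ IsClosed (V : Set B) ∧ PrK m N V.ι := by
  obtain ⟨S', f, hfl, hsurj, hcov, hloc⟩ := hG
  haveI := hfl
  have hlocal : ∀ t : S', ∃ (W' : S'.Opens) (N : AddSubgroup M₀), t ∈ W' ∧ PrK m N (W'.ι ≫ f) := by
    intro t
    obtain ⟨U₀, htU₀, M, _, hM, ⟨φ⟩⟩ := hloc t
    obtain ⟨e, he⟩ := exists_iso_isMonHom φ
    haveI := he
    obtain ⟨W, w, N, hw, hu, hP⟩ := exists_local_PrK (U₀.ι ≫ f) m e hM ⟨t, htU₀⟩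
    haveI := hw
    refine ⟨(w ≫ U₀.ι).opensRange, N, ?_, ?_⟩
    · obtain ⟨u', hu'⟩ := hu
      exact ⟨u', by
        change U₀.ι (w u') = t
        rw [hu']
        rfl⟩
    · have h1 : (w ≫ U₀.ι).opensRange.ι ≫ f =
          (w ≫ U₀.ι).isoOpensRange.inv ≫ (w ≫ U₀.ι ≫ f) := by
        rw [← Category.assoc, ← Category.assoc, Category.assoc _ w, Scheme.Hom.isoOpensRange_inv_comp]
      rw [h1]
      exact PrK.comp _ _ hP
  obtain ⟨s', rfl⟩ := hsurj.surj b
  obtain ⟨W₀, N, hs'W₀, hPW₀⟩ := hlocal s'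
  have hLB := isLocalBC_PrK (m := m) N
  obtain ⟨V, hVc, hVmem, hPV⟩ := clopen_locus hLB f hcov (by
    intro t
    obtain ⟨W', N', htW', hPW'⟩ := hlocal t
    refine ⟨W', htW', ?_⟩
    by_cases hNN : N' = N
    · left
      rw [← hNN]
      exact hPW'
    · right
      intro w hw hPw
      have h2 := (isLocalBC_PrK (m := m) N').at_point (W'.ι ≫ f) hPW' ⟨w, hw⟩
      exact hNN (eq_of_PrK _ (IsLocalRing.closedPoint _) h2 hPw))
  refine ⟨N, V, ?_, hVc, hPV⟩
  rw [hVmem]
  exact hLB.at_point (W₀.ι ≫ f) hPW₀ ⟨s', hs'W₀⟩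

theorem exists_PrK_id [ConnectedSpace B] [IsMonHom m] (hG : SGA3x.IsMultTypeFT G) :
    ∃ N : AddSubgroup M₀, PrK m N (𝟙 B) := by
  obtain ⟨b⟩ : Nonempty B := inferInstance
  obtain ⟨N, V, hbV, hVc, hPV⟩ := exists_clopen_PrK (m := m) hG b
  refine ⟨N, ?_⟩
  have hV : V = ⊤ := by
    apply TopologicalSpace.Opens.ext
    exact (IsClopen.eq_univ ⟨hVc, V.2⟩ ⟨b, hbV⟩)
  subst hV
  have h1 : 𝟙 B = B.topIso.inv ≫ (⊤ : B.Opens).ι := (Scheme.toIso_inv_ι B).symm
  rw [h1]
  exact PrK.comp _ _ hPV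

/-- the image factorisation: `m` factors through `D(M₀) ⟶ D(N)` by a monomorphism. -/
theorem exists_image_factor [IsMonHom m] (hM₀ : AddGroup.FG M₀) (N : AddSubgroup M₀)
    (hN : PrK m N (𝟙 B)) :
    ∃ mbar : Red.DS B N ⟶ G, IsMonHom mbar ∧ Mono mbar ∧ Red.DSmap B N.subtype ≫ mbar = m := by
  have FK := fppf_K (B := B) hM₀ N
  have h2 : Red.DSmap B (QuotientAddGroup.mk' N) ≫ m = 1 := by
    refine (hN (Red.DS B (M₀ ⧸ N)) (Red.DS B (M₀ ⧸ N)).hom (Category.comp_id _) _).2 ?_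
    rw [DSmap_comp, mk'_comp_subtype]
    exact (Category.id_comp _).symm.trans (comp_DSmap_zero (𝟙 _))
  obtain ⟨mbar, ⟨hm1, hm2⟩, -⟩ := existsUnique_factor_over (Red.DSmap B (QuotientAddGroup.mk' N))
    (Red.DSmap B N.subtype) FK (isPullback_of_kernel _ _ (isPullback_kernel_DS N)) m h2
  haveI := hm2
  refine ⟨mbar, hm2, ?_, hm1⟩
  -- monomorphism
  have hker : ∀ (X : Over B) (c : X ⟶ Red.DS B N), c ≫ mbar = 1 → c = 1 := by
    intro X c hc
    let X'L := pullback c.left (Red.DSmap B N.subtype).left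
    let X' : Over B := Over.mk (pullback.fst c.left (Red.DSmap B N.subtype).left ≫ X.hom)
    let pr : X' ⟶ X := Over.homMk (pullback.fst c.left (Red.DSmap B N.subtype).left) rfl
    have hw : pullback.snd c.left (Red.DSmap B N.subtype).left ≫ (Red.DS B M₀).hom = X'.hom := by
      change _ = pullback.fst c.left (Red.DSmap B N.subtype).left ≫ X.hom
      rw [← Over.w (Red.DSmap B N.subtype), ← Category.assoc, ← pullback.condition, Category.assoc,
        Over.w c]
    let c' : X' ⟶ Red.DS B M₀ :=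
      Over.homMk (pullback.snd c.left (Red.DSmap B N.subtype).left) hw
    have hc' : c' ≫ Red.DSmap B N.subtype = pr ≫ c := by
      apply Over.OverMorphism.ext
      exact pullback.condition.symm
    have hpr : Fppf pr.left :=
      Fppf.of_isPullback (IsPullback.of_hasPullback c.left (Red.DSmap B N.subtype).left).flip FK
    haveI := epi_of_fppf pr hpr
    have h3 : c' ≫ m = 1 := by
      rw [← hm1, ← Category.assoc, hc', Category.assoc, hc, MonObj.comp_one]
    have h4 : c' ≫ Red.DSmap B N.subtype = 1 :=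
      (hN X' X'.hom (Category.comp_id _) c').1 h3
    rw [eq_one_iff_of_epi pr c, ← hc', h4]
  constructor
  intro X a b hab
  have h5 : (a⁻¹ * b) ≫ mbar = 1 := by
    rw [MonObj.mul_comp, GrpObj.inv_comp, hab, inv_mul_cancel]
  have h6 := hker X (a⁻¹ * b) h5
  exact inv_mul_eq_one.mp h6

end Groth.Agent.Lib.Helper10.TorusKer
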