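import Mathlib
import Groth.Agent.Lib.Helper10.TorusKer3

/-!
# Cocharacters of a torus factor through the greatest split subtorus
-/

set_option autoImplicit false
set_option linter.unusedSectionVars false
set_option linter.style.haveILetI false
set_option backward.isDefEq.respectTransparency.types false
set_option maxHeartbeats 4000000
set_option synthInstance.maxHeartbeats 400000
universe u
open CategoryTheory CategoryTheory.Limits AlgebraicGeometry Opposite MonoidalCategory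
  CartesianMonoidalCategory MonObj GrpObj

namespace Groth.Agent.Lib.Helper10.TorusKer

open Groth.Agent.Lib.Helper21.GaPts Groth.Agent.Lib.Helper10.FpqcLocus
  Groth.Agent.Lib.Helper10.MagnetQuot Groth.Agent.Lib.Helper10.DiagHomProps
  Groth.Agent.Lib.Helper10.HomFamBC Groth.Agent.Lib.Helper10.DiagHom
  Groth.Agent.Lib.Helper10.TorusQuot Groth.Agent.Lib.Helper10.MultTypeHom
  Groth.Agent.Lib.Helper10.FppfQuot Groth.Agent.Lib.Helper10.HomSp

variable {S : Scheme.{u}}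

theorem isMultTypeFT_of_isTorus {T : Over S} [GrpObj T] (hT : Red.IsTorus T) :
    SGA3x.IsMultTypeFT T := by
  obtain ⟨S', f, hfl, hsurj, hcov, hloc⟩ := hT
  refine ⟨S', f, hfl, hsurj, hcov, fun s' => ?_⟩
  obtain ⟨U, hU, r, ⟨φ⟩⟩ := hloc s'
  exact ⟨U, hU, Fin r → ℤ, inferInstance, fg_fin_int r, ⟨φ⟩⟩

theorem exists_addEquiv_fin' (M₀ : Type) [AddCommGroup M₀] [Module.Finite ℤ M₀] [Module.Free ℤ M₀]
    (N : AddSubgroup M₀) : ∃ r' : ℕ, r' ≤ Module.finrank ℤ M₀ ∧ Nonempty (N ≃+ (Fin r' → ℤ)) := by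
  let P : Submodule ℤ M₀ := AddSubgroup.toIntSubmodule N
  haveI : Module.Finite ℤ P := inferInstance
  haveI : Module.Free ℤ P := inferInstance
  exact ⟨Module.finrank ℤ P, Submodule.finrank_le P,
    ⟨((Module.finBasis ℤ P).equivFun).toAddEquiv⟩⟩

/-- the image of a homomorphism from a split torus to a group of multiplicative type over a
connected base is a split subtorus. -/
theorem exists_split_image [ConnectedSpace ↥S] {G : Over S} [GrpObj G] (hG : SGA3x.IsMultTypeFT G)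
    (M₀ : Type) [AddCommGroup M₀] [Module.Finite ℤ M₀] [Module.Free ℤ M₀]
    (m : Red.DS S M₀ ⟶ G) [IsMonHom m] :
    ∃ (N : AddSubgroup M₀) (mbar : Red.DS S N ⟶ G) (r' : ℕ), IsMonHom mbar ∧ Mono mbar ∧
      Red.DSmap S N.subtype ≫ mbar = m ∧ r' ≤ Module.finrank ℤ M₀ ∧
      Red.IsSplitTorusWith (Fin r' → ℤ) (Red.DS S N) := by
  obtain ⟨N, hN⟩ := exists_PrK_id (m := m) hG
  have hfg : AddGroup.FG M₀ := Module.Finite.iff_addGroup_fg.mp inferInstance
  obtain ⟨mbar, hm1, hm2, hm3⟩ := exists_image_factor hfg N hN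
  obtain ⟨r', hr', ⟨a⟩⟩ := exists_addEquiv_fin' M₀ N
  exact ⟨N, mbar, r', hm1, hm2, hm3, hr', nonempty_DS_iso a⟩

theorem cocharacter_factors [ConnectedSpace ↥S] {T T₀ : Over S} [GrpObj T] [GrpObj T₀]
    (hT : Red.IsTorus T) (j₀ : T₀ ⟶ T)
    (hmax : ∀ (T' : Over S) [GrpObj T'] (j' : T' ⟶ T) [IsMonHom j'] [Mono j'] (r' : ℕ),
      Red.IsSplitTorusWith (Fin r' → ℤ) T' → ∃ g : T' ⟶ T₀, g ≫ j₀ = j')
    (lam : Red.Gm S ⟶ T) [IsMonHom lam] : ∃ mu : Red.Gm S ⟶ T₀, mu ≫ j₀ = lam := by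
  obtain ⟨N, mbar, r', hm1, hm2, hm3, -, hsp⟩ :=
    exists_split_image (isMultTypeFT_of_isTorus hT) ℤ lam
  haveI := hm1
  haveI := hm2
  obtain ⟨g, hg⟩ := hmax (Red.DS S N) mbar r' hsp
  exact ⟨Red.DSmap S N.subtype ≫ g, by rw [Category.assoc, hg, hm3]⟩

end Groth.Agent.Lib.Helper10.TorusKer
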