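import Mathlib
import Groth.Agent.Lib.Helper10.TorusKer4

/-!
# Maximal split subtori: rank bounds and rigidity of monomorphisms between split tori
-/

set_option autoImplicit false
set_option linter.unusedSectionVars false
set_option linter.style.haveILetI false
set_option backward.isDefEq.respectTransparency.types false
set_option maxHeartbeats 4000000
set_option synthInstance.maxHeartbeats 400000
universe u
open CategoryTheory CategoryTheory.Limits AlgebraicGeometry Opposite MonoidalCategory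
  CartesianMonoidalCategory MonObj GrpObj

namespace Groth.Agent.Lib.Helper10.TorusMax

open Groth.Agent.Lib.Helper21.GaPts Groth.Agent.Lib.Helper10.FpqcLocus
  Groth.Agent.Lib.Helper10.MagnetQuot Groth.Agent.Lib.Helper10.DiagHomProps
  Groth.Agent.Lib.Helper10.HomFamBC Groth.Agent.Lib.Helper10.DiagHom
  Groth.Agent.Lib.Helper10.TorusQuot Groth.Agent.Lib.Helper10.MultTypeHom
  Groth.Agent.Lib.Helper10.FppfQuot Groth.Agent.Lib.Helper10.HomSp
  Groth.Agent.Lib.Helper10.TorusKer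

/-- a monomorphic homomorphism between diagonalisable groups is Zariski-locally `D(ψ)` for a
surjective `ψ`. -/
theorem exists_local_DSmap_of_mono {U : Scheme.{u}} {M₁ M₂ : Type} [AddCommGroup M₁]
    [AddCommGroup M₂] (hM₂ : AddGroup.FG M₂) (c : Red.DS U M₁ ⟶ Red.DS U M₂) [IsMonHom c] [Mono c]
    (u : U) :
    ∃ ψ : M₂ →+ M₁, Function.Surjective ψ ∧ ∃ (W : Over U) (jW : W ⟶ 𝟙_ (Over U)),
      IsOpenImmersion jW.left ∧ u ∈ Set.range jW.left ∧
      ∀ (X' : Over U) (_ : X' ⟶ W) (a : X' ⟶ Red.DS U M₁), a ≫ c = a ≫ Red.DSmap U ψ := by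
  let φ : Red.DS U M₁ ⊗ 𝟙_ (Over U) ⟶ Red.DS U M₂ := fst _ _ ≫ c
  have hφ : ∀ (X : Over U) (a b : X ⟶ Red.DS U M₁) (t : X ⟶ 𝟙_ (Over U)),
      lift (a * b) t ≫ φ = (lift a t ≫ φ) * (lift b t ≫ φ) := by
    intro X a b t
    simp only [φ, lift_fst_assoc]
    exact MonObj.mul_comp a b c
  obtain ⟨W, jW, ψ, hjW, huW, hψ⟩ := locally_DSmap (𝟙_ (Over U)) hM₂ φ hφ (u : (𝟙_ (Over U)).left)
  have key : ∀ (X' : Over U) (_ : X' ⟶ W) (a : X' ⟶ Red.DS U M₁),
      a ≫ c = a ≫ Red.DSmap U ψ := by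
    intro X' xW a
    have h1 := congrArg (fun z => lift a xW ≫ z) hψ
    simpa only [φ, lift_whiskerLeft_assoc, lift_fst_assoc] using h1
  refine ⟨ψ, ?_, W, jW, hjW, huW, key⟩
  obtain ⟨u', hu'⟩ := huW
  obtain ⟨(A : W.left.Opens), hA, hu'A, -⟩ :=
    TopologicalSpace.Opens.isBasis_iff_nbhd.mp W.left.isBasis_affineOpens
      (TopologicalSpace.Opens.mem_top u')
  let W' : Over U := Over.mk (A.ι ≫ W.hom)
  haveI : IsAffine W'.left := hA
  let kW : W' ⟶ W := Over.homMk A.ι rfl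
  have hwh : (Red.DSmap U ψ ▷ W') = (c ▷ W') := by
    apply CartesianMonoidalCategory.hom_ext
    · rw [whiskerRight_fst, whiskerRight_fst]
      exact (key (Red.DS U M₁ ⊗ W') (snd _ _ ≫ kW) (fst _ _)).symm
    · rw [whiskerRight_snd, whiskerRight_snd]
  haveI : Mono (c ▷ W') := by
    constructor
    intro Z a b hab
    apply CartesianMonoidalCategory.hom_ext
    · have h1 := congrArg (fun z => z ≫ fst _ _) hab
      simp only [Category.assoc, whiskerRight_fst] at h1
      exact (cancel_mono c).1 (by simpa only [Category.assoc] using h1)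
    · have h1 := congrArg (fun z => z ≫ snd _ _) hab
      simpa only [Category.assoc, whiskerRight_snd] using h1
  have hm : Mono ((Red.DSmap U ψ) ▷ W').left := by
    rw [hwh]
    exact (Over.forget U).map_mono (c ▷ W')
  exact surjective_of_mono W' ⟨u', hu'A⟩ ψ hm

variable {S : Scheme.{u}}

/-- the ranks of split subtori of a group of multiplicative type are bounded. -/
theorem exists_rank_bound {G : Over S} [GrpObj G] (hG : SGA3x.IsMultTypeFT G) (s₀ : S) :
    ∃ R : ℕ, ∀ (r : ℕ) (T : Over S) [GrpObj T] (j : T ⟶ G) [IsMonHom j] [Mono j],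
      Red.IsSplitTorusWith (Fin r → ℤ) T → r ≤ R := by
  obtain ⟨S', f, hfl, hsurj, hcov, hloc⟩ := hG
  obtain ⟨s₀', rfl⟩ := hsurj.surj s₀
  obtain ⟨U, hU, M, _, hM, ⟨φ⟩⟩ := hloc s₀'
  obtain ⟨e, he⟩ := exists_iso_isMonHom φ
  haveI := he
  haveI : Module.Finite ℤ M := Module.Finite.iff_addGroup_fg.mpr hM
  refine ⟨Module.finrank ℤ M, ?_⟩
  intro r T _ j _ _ ⟨φT⟩
  obtain ⟨e₁, he₁⟩ := exists_iso_isMonHom
    ((bcDSIso (U.ι ≫ f) (Fin r → ℤ)).symm ≪≫ (bcMapIso (U.ι ≫ f) φT).symm)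
  haveI := he₁
  let c : Red.DS (U : Scheme.{u}) (Fin r → ℤ) ⟶ Red.DS (U : Scheme.{u}) M :=
    e₁.hom ≫ (Over.pullback (U.ι ≫ f)).map j ≫ e.hom
  haveI : Mono ((Over.pullback (U.ι ≫ f)).map j) := inferInstance
  haveI : IsMonHom ((Over.pullback (U.ι ≫ f)).map j) := inferInstance
  haveI : Mono c := by
    haveI : Mono ((Over.pullback (U.ι ≫ f)).map j ≫ e.hom) := mono_comp _ _
    exact mono_comp _ _
  haveI : IsMonHom c := inferInstance
  obtain ⟨ψ, hψ, -⟩ := exists_local_DSmap_of_mono hM c ⟨s₀', hU⟩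
  have h1 := LinearMap.finrank_le_finrank_of_surjective (f := ψ.toIntLinearMap) hψ
  rwa [Module.finrank_fin_fun] at h1

/-- a morphism admitting local sections which is a monomorphism is an isomorphism. -/
theorem isIso_of_mono_of_local_sections {A C : Over S} (c : A ⟶ C) [Mono c]
    (h : ∀ p : C.left, ∃ V : C.left.Opens, p ∈ V ∧
      ∃ a : Over.mk (V.ι ≫ C.hom) ⟶ A, a ≫ c = Over.homMk V.ι rfl) : IsIso c := by
  choose V hV a ha using h
  have hcov : TopologicalSpace.IsOpenCover V := by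
    rw [TopologicalSpace.IsOpenCover, eq_top_iff]
    intro p _
    exact TopologicalSpace.Opens.mem_iSup.mpr ⟨p, hV p⟩
  let 𝒰 := C.left.openCoverOfIsOpenCover V hcov
  haveI : Mono c.left := (Over.forget S).map_mono c
  have hal : ∀ p, (a p).left ≫ c.left = (V p).ι := fun p => by
    rw [← Over.comp_left, ha p]
    rfl
  have compat : ∀ p p' : 𝒰.I₀, pullback.fst (𝒰.f p) (𝒰.f p') ≫ (a p).left =
      pullback.snd (𝒰.f p) (𝒰.f p') ≫ (a p').left := by
    intro p p'
    have e1 := hal p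
    have e2 := hal p'
    rw [← cancel_mono c.left, Category.assoc, Category.assoc]
    refine (congrArg (fun z => pullback.fst (𝒰.f p) (𝒰.f p') ≫ z) e1).trans ?_
    refine Eq.trans ?_ (congrArg (fun z => pullback.snd (𝒰.f p) (𝒰.f p') ≫ z) e2).symm
    exact pullback.condition
  let σL : C.left ⟶ A.left := 𝒰.glueMorphisms (fun p => (a p).left) compat
  have hfac : ∀ p, (V p).ι ≫ σL = (a p).left := fun p =>
    Scheme.Cover.ι_glueMorphisms 𝒰 (fun p => (a p).left) compat p
  have hσc : σL ≫ c.left = 𝟙 _ := by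
    apply 𝒰.hom_ext
    intro p
    change (V p).ι ≫ σL ≫ c.left = (V p).ι ≫ 𝟙 _
    rw [← Category.assoc, hfac, hal, Category.comp_id]
  have hcσ : c.left ≫ σL = 𝟙 _ := by
    rw [← cancel_mono c.left, Category.assoc, hσc, Category.comp_id, Category.id_comp]
  haveI : IsIso ((Over.forget S).map c) := ⟨⟨σL, hcσ, hσc⟩⟩
  exact isIso_of_reflects_iso c (Over.forget S)

/-- a monomorphic homomorphism between split tori of the same rank is an isomorphism. -/
theorem isIso_of_mono_split (r : ℕ) (c : Red.DS S (Fin r → ℤ) ⟶ Red.DS S (Fin r → ℤ)) [IsMonHom c]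
    [Mono c] : IsIso c := by
  apply isIso_of_mono_of_local_sections
  intro p
  obtain ⟨ψ, hψ, W, jW, hjW, huW, key⟩ :=
    exists_local_DSmap_of_mono (fg_fin_int r) c ((Red.DS S (Fin r → ℤ)).hom p)
  haveI := hjW
  have hψi : Function.Injective ψ :=
    OrzechProperty.injective_of_surjective_endomorphism ψ.toIntLinearMap hψ
  let E : (Fin r → ℤ) ≃+ (Fin r → ℤ) := AddEquiv.ofBijective ψ ⟨hψi, hψ⟩
  let V : (Red.DS S (Fin r → ℤ)).left.Opens := (Red.DS S (Fin r → ℤ)).hom ⁻¹ᵁ jW.left.opensRange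
  refine ⟨V, huW, ?_⟩
  let X' : Over S := Over.mk (V.ι ≫ (Red.DS S (Fin r → ℤ)).hom)
  have hr : Set.range (V.ι ≫ (Red.DS S (Fin r → ℤ)).hom) ⊆ Set.range jW.left := by
    rintro _ ⟨y, rfl⟩
    exact y.2
  have hWhom : W.hom = jW.left := by
    have h1 := Over.w jW
    rw [← h1]
    exact (Category.comp_id _).symm
  let xW : X' ⟶ W := Over.homMk (IsOpenImmersion.lift jW.left (V.ι ≫ (Red.DS S (Fin r → ℤ)).hom) hr)
    (by
      rw [hWhom]
      exact IsOpenImmersion.lift_fac _ _ _)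
  let b : X' ⟶ Red.DS S (Fin r → ℤ) := Over.homMk V.ι rfl
  refine ⟨b ≫ Red.DSmap S E.symm.toAddMonoidHom, ?_⟩
  rw [key X' xW, Category.assoc, DSmap_comp]
  have h2 : (E.symm.toAddMonoidHom).comp ψ = AddMonoidHom.id _ := by
    apply AddMonoidHom.ext
    intro x
    exact E.symm_apply_apply x
  rw [h2, DSmap_id, Category.comp_id]

/-- a morphism into a subgroup commuting with homomorphisms is a homomorphism. -/
theorem isMonHom_of_comp_mono {T T' G : Over S} [GrpObj T] [GrpObj T'] [GrpObj G] (g : T ⟶ T')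
    (j' : T' ⟶ G) [IsMonHom j'] [Mono j'] (j : T ⟶ G) [IsMonHom j] (h : g ≫ j' = j) :
    IsMonHom g := by
  refine isMonHom_of_points g ?_ ?_
  · rw [← cancel_mono j', Category.assoc, h, MonObj.one_comp, MonObj.one_comp]
  · intro X x y
    rw [← cancel_mono j', Category.assoc, h, MonObj.mul_comp, MonObj.mul_comp, Category.assoc,
      Category.assoc, h]

end Groth.Agent.Lib.Helper10.TorusMax
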