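import Mathlib
import Groth.Agent.Lib.Helper10.TorusMax1

/-!
# Existence of maximal split subtori of groups of multiplicative type
-/

set_option autoImplicit false
set_option linter.unusedSectionVars false
set_option linter.style.haveILetI false
set_option backward.isDefEq.respectTransparency.types false
set_option maxHeartbeats 4000000
set_option synthInstance.maxHeartbeats 400000
universe u
open CategoryTheory CategoryTheory.Limits AlgebraicGeometry Opposite MonoidalCategory
  CartesianMonoidalCategory MonObj GrpObj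

namespace Groth.Agent.Lib.Helper10.TorusMax

open Groth.Agent.Lib.Helper21.GaPts Groth.Agent.Lib.Helper10.FpqcLocus
  Groth.Agent.Lib.Helper10.MagnetQuot Groth.Agent.Lib.Helper10.DiagHomProps
  Groth.Agent.Lib.Helper10.HomFamBC Groth.Agent.Lib.Helper10.DiagHom
  Groth.Agent.Lib.Helper10.TorusQuot Groth.Agent.Lib.Helper10.MultTypeHom
  Groth.Agent.Lib.Helper10.FppfQuot Groth.Agent.Lib.Helper10.HomSp
  Groth.Agent.Lib.Helper10.TorusKer

variable {S : Scheme.{u}}

/-- `G` has a split subtorus of rank `r`. -/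
def HasSplitSub (G : Over S) [GrpObj G] (r : ℕ) : Prop :=
  ∃ (T : Over S) (_ : GrpObj T) (j : T ⟶ G), IsMonHom j ∧ Mono j ∧
    Red.IsSplitTorusWith (Fin r → ℤ) T

theorem isMonHom_one {T G : Over S} [GrpObj T] [GrpObj G] : IsMonHom (1 : T ⟶ G) := by
  refine isMonHom_of_points _ ?_ ?_
  · rw [MonObj.comp_one]
  · intro X x y
    rw [MonObj.comp_one, MonObj.comp_one, MonObj.comp_one, _root_.mul_one]

theorem hasSplitSub_zero (G : Over S) [GrpObj G] : HasSplitSub G 0 := by
  refine ⟨Red.DS S (Fin 0 → ℤ), inferInstance, 1, isMonHom_one, ?_, ⟨Iso.refl _⟩⟩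
  constructor
  intro X a b _
  apply dsFn_injective
  intro n
  rw [Subsingleton.elim n 0, dsFn_zero, dsFn_zero]

/-- monomorphic homomorphisms between split tori do not decrease the rank. -/
theorem rank_le_of_mono [Nonempty S] {T T' : Over S} [GrpObj T] [GrpObj T'] (r r' : ℕ)
    (hT : Red.IsSplitTorusWith (Fin r → ℤ) T) (hT' : Red.IsSplitTorusWith (Fin r' → ℤ) T')
    (g : T ⟶ T') [IsMonHom g] [Mono g] : r ≤ r' := by
  obtain ⟨s₀⟩ : Nonempty S := inferInstance
  obtain ⟨φ⟩ := hT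
  obtain ⟨φ'⟩ := hT'
  obtain ⟨e, he⟩ := exists_iso_isMonHom φ
  obtain ⟨e', he'⟩ := exists_iso_isMonHom φ'
  haveI := he
  haveI := he'
  let c : Red.DS S (Fin r → ℤ) ⟶ Red.DS S (Fin r' → ℤ) := e.inv ≫ g ≫ e'.hom
  haveI : Mono c := by
    haveI : Mono (g ≫ e'.hom) := mono_comp _ _
    exact mono_comp _ _
  haveI : IsMonHom c := inferInstance
  obtain ⟨ψ, hψ, -⟩ := exists_local_DSmap_of_mono (fg_fin_int r') c s₀
  have h1 := LinearMap.finrank_le_finrank_of_surjective (f := ψ.toIntLinearMap) hψ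
  rwa [Module.finrank_fin_fun, Module.finrank_fin_fun] at h1

theorem exists_max_rank [Nonempty S] {G : Over S} [GrpObj G] (hG : SGA3x.IsMultTypeFT G) :
    ∃ r₀ : ℕ, HasSplitSub G r₀ ∧ ∀ r, HasSplitSub G r → r ≤ r₀ := by
  classical
  obtain ⟨s₀⟩ : Nonempty S := inferInstance
  obtain ⟨R, hR⟩ := exists_rank_bound hG s₀
  have hb : ∀ r, HasSplitSub G r → r ≤ R := by
    rintro r ⟨T, _, j, hj1, hj2, hT⟩
    exact hR r T j hT
  refine ⟨Nat.findGreatest (HasSplitSub G) R, ?_, ?_⟩
  · exact Nat.findGreatest_spec (Nat.zero_le R) (hasSplitSub_zero G)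
  · intro r hr
    exact Nat.le_findGreatest (hb r hr) hr

/-- **a group of multiplicative type admits a maximal split subtorus.** -/
theorem exists_maximal_split_subtorus {G : Over S} [GrpObj G] (hG : SGA3x.IsMultTypeFT G) :
    ∃ (T : Over S) (_ : GrpObj T) (j : T ⟶ G) (r : ℕ), IsMonHom j ∧ Mono j ∧
      Red.IsSplitTorusWith (Fin r → ℤ) T ∧
      ∀ (T' : Over S) [GrpObj T'] (j' : T' ⟶ G) [IsMonHom j'] [Mono j'] (r' : ℕ) (g : T ⟶ T'),
        Red.IsSplitTorusWith (Fin r' → ℤ) T' → g ≫ j' = j → IsIso g := by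
  by_cases hS : Nonempty S
  · obtain ⟨r₀, ⟨T, hTg, j, hj1, hj2, hT⟩, hmax⟩ := exists_max_rank hG
    refine ⟨T, hTg, j, r₀, hj1, hj2, hT, ?_⟩
    intro T' _ j' _ _ r' g hT' hg
    haveI := hj1
    haveI := hj2
    haveI : IsMonHom g := isMonHom_of_comp_mono g j' j hg
    haveI : Mono g := by
      haveI : Mono (g ≫ j') := by rw [hg]; exact hj2
      exact mono_of_mono g j'
    have h1 : r₀ ≤ r' := rank_le_of_mono r₀ r' hT hT' g
    have h2 : r' ≤ r₀ := hmax r' ⟨T', inferInstance, j', inferInstance, inferInstance, hT'⟩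
    obtain rfl : r' = r₀ := le_antisymm h2 h1
    obtain ⟨φ⟩ := hT
    obtain ⟨φ'⟩ := hT'
    obtain ⟨e, he⟩ := exists_iso_isMonHom φ
    obtain ⟨e', he'⟩ := exists_iso_isMonHom φ'
    haveI := he
    haveI := he'
    let c : Red.DS S (Fin r' → ℤ) ⟶ Red.DS S (Fin r' → ℤ) := e.inv ≫ g ≫ e'.hom
    haveI : Mono c := by
      haveI : Mono (g ≫ e'.hom) := mono_comp _ _
      exact mono_comp _ _
    haveI : IsMonHom c := inferInstance
    haveI : IsIso c := isIso_of_mono_split r' c
    have hgc : g = e.hom ≫ c ≫ e'.inv := by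
      simp only [c, Category.assoc, Iso.hom_inv_id, Category.comp_id, Iso.hom_inv_id_assoc]
    rw [hgc]
    infer_instance
  · haveI : IsEmpty S := not_nonempty_iff.mp hS
    obtain ⟨T, hTg, j, hj1, hj2, hT⟩ := hasSplitSub_zero G
    refine ⟨T, hTg, j, 0, hj1, hj2, hT, ?_⟩
    intro T' _ j' _ _ r' g _ _
    haveI : IsEmpty T'.left := Function.isEmpty T'.hom.base
    haveI : IsIso ((Over.forget S).map g) := isIso_of_isEmpty g.left
    exact isIso_of_reflects_iso g (Over.forget S)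

end Groth.Agent.Lib.Helper10.TorusMax
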