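import Mathlib
import Groth.Agent.Lib.Helper10.TorusMax2
import Groth.Agent.Lib.Helper10.CharAsm2
import Groth.Agent.Lib.Helper10.RepDesc1

/-!
# The greatest split subtorus of a group of multiplicative type over a connected base
-/

set_option autoImplicit false
set_option linter.unusedSectionVars false
set_option linter.style.haveILetI false
set_option backward.isDefEq.respectTransparency.types false
set_option maxHeartbeats 4000000
set_option synthInstance.maxHeartbeats 400000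
universe u
open CategoryTheory CategoryTheory.Limits AlgebraicGeometry Opposite MonoidalCategory
  CartesianMonoidalCategory MonObj GrpObj

namespace Groth.Agent.Lib.Helper10.TorusMax

open Groth.Agent.Lib.Helper21.GaPts Groth.Agent.Lib.Helper10.FpqcLocus
  Groth.Agent.Lib.Helper10.MagnetQuot Groth.Agent.Lib.Helper10.DiagHomProps
  Groth.Agent.Lib.Helper10.HomFamBC Groth.Agent.Lib.Helper10.DiagHom
  Groth.Agent.Lib.Helper10.TorusQuot Groth.Agent.Lib.Helper10.MultTypeHom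
  Groth.Agent.Lib.Helper10.FppfQuot Groth.Agent.Lib.Helper10.HomSp
  Groth.Agent.Lib.Helper10.TorusKer Groth.Agent.Lib.Helper10.RepDesc

variable {S : Scheme.{u}}

theorem DSmap_zero_eq_one {B : Scheme.{u}} {N P : Type} [AddCommGroup N] [AddCommGroup P] :
    Red.DSmap B (0 : N →+ P) = 1 :=
  (Category.id_comp _).symm.trans (comp_DSmap_zero (𝟙 _))

theorem comm_DS {U : Scheme.{u}} {M : Type} [AddCommGroup M] {X : Over U} (a b : X ⟶ Red.DS U M) :
    a * b = b * a := by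
  apply dsFn_injective
  intro n
  rw [dsFn_mul, dsFn_mul, mul_comm]

/-- the points of a group of multiplicative type commute. -/
theorem comm_of_isMultTypeFT {G : Over S} [GrpObj G] (hG : SGA3x.IsMultTypeFT G) {X : Over S}
    (a b : X ⟶ G) : a * b = b * a := by
  obtain ⟨S', f, hfl, hsurj, hcov, hloc⟩ := hG
  choose V hV M hMg hM hφ using hloc
  have hfam := Groth.Agent.Lib.Helper10.CharAsm.fpqc_family_mem f hfl hsurj hcov V hV
  let gg : ∀ s' : S', ((V s' : S'.Opens) : Scheme.{u}) ⟶ S := fun s' => (V s').ι ≫ f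
  let T' : S' → Over S := fun s' => Over.mk (pullback.snd X.hom (gg s') ≫ gg s')
  let c : ∀ s', T' s' ⟶ X := fun s' => Over.homMk (pullback.fst X.hom (gg s')) pullback.condition
  refine hom_ext_over (fun s' => (V s').ι ≫ f) hfam c (fun s' => pullback.snd X.hom (gg s'))
    (fun s' => IsPullback.of_hasPullback X.hom (gg s')) _ _ (fun s' => ?_)
  rw [MonObj.comp_mul, MonObj.comp_mul]
  letI := hMg s'
  obtain ⟨φ⟩ := hφ s'
  obtain ⟨e, he⟩ := exists_iso_isMonHom φ
  haveI := he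
  let Y' : Over ((V s' : S'.Opens) : Scheme.{u}) := Over.mk (pullback.snd X.hom (gg s'))
  have key : ∀ y₁ y₂ : (Over.map (gg s')).obj Y' ⟶ G, y₁ * y₂ = y₂ * y₁ := by
    intro y₁ y₂
    have h1 : trInv (gg s') y₁ * trInv (gg s') y₂ = trInv (gg s') y₂ * trInv (gg s') y₁ := by
      rw [← cancel_mono e.hom, MonObj.mul_comp, MonObj.mul_comp]
      exact comm_DS _ _
    have h2 := congrArg (tr (gg s')) h1
    rwa [tr_mul, tr_mul, tr_trInv, tr_trInv] at h2
  exact key (c s' ≫ a) (c s' ≫ b)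

/-- the product of two homomorphisms into a commutative group is a homomorphism. -/
theorem isMonHom_mul {A G : Over S} [GrpObj A] [GrpObj G]
    (hc : ∀ (X : Over S) (a b : X ⟶ G), a * b = b * a) (α β : A ⟶ G) [IsMonHom α] [IsMonHom β] :
    IsMonHom (α * β) := by
  refine isMonHom_of_points _ ?_ ?_
  · rw [MonObj.comp_mul, MonObj.one_comp, MonObj.one_comp, _root_.mul_one]
  · intro X x y
    rw [MonObj.comp_mul, MonObj.comp_mul, MonObj.comp_mul, MonObj.mul_comp, MonObj.mul_comp]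
    rw [_root_.mul_assoc, _root_.mul_assoc, ← _root_.mul_assoc (y ≫ α), hc X (y ≫ α) (x ≫ β),
      _root_.mul_assoc]

/-- a split subtorus of maximal rank absorbs every split subtorus containing it. -/
theorem isIso_of_max [Nonempty S] {G T : Over S} [GrpObj G] [GrpObj T] (j : T ⟶ G) [IsMonHom j]
    [Mono j] (r₀ : ℕ) (hT : Red.IsSplitTorusWith (Fin r₀ → ℤ) T)
    (hmax : ∀ r, HasSplitSub G r → r ≤ r₀)
    (T' : Over S) [GrpObj T'] (j' : T' ⟶ G) [IsMonHom j'] [Mono j'] (r' : ℕ) (g : T ⟶ T')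
    (hT' : Red.IsSplitTorusWith (Fin r' → ℤ) T') (hg : g ≫ j' = j) : IsIso g := by
  haveI : IsMonHom g := isMonHom_of_comp_mono g j' j hg
  haveI : Mono g := by
    haveI : Mono (g ≫ j') := by rw [hg]; infer_instance
    exact mono_of_mono g j'
  have h1 : r₀ ≤ r' := rank_le_of_mono r₀ r' hT hT' g
  have h2 : r' ≤ r₀ := hmax r' ⟨T', inferInstance, j', inferInstance, inferInstance, hT'⟩
  obtain rfl : r' = r₀ := le_antisymm h2 h1
  obtain ⟨φ⟩ := hT
  obtain ⟨φ'⟩ := hT'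
  obtain ⟨e, he⟩ := exists_iso_isMonHom φ
  obtain ⟨e', he'⟩ := exists_iso_isMonHom φ'
  haveI := he
  haveI := he'
  let c : Red.DS S (Fin r' → ℤ) ⟶ Red.DS S (Fin r' → ℤ) := e.inv ≫ g ≫ e'.hom
  haveI : Mono c := by
    haveI : Mono (g ≫ e'.hom) := mono_comp _ _
    exact mono_comp _ _
  haveI : IsMonHom c := inferInstance
  haveI : IsIso c := isIso_of_mono_split r' c
  have hgc : g = e.hom ≫ c ≫ e'.inv := by
    simp only [c, Category.assoc, Iso.hom_inv_id, Category.comp_id, Iso.hom_inv_id_assoc]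
  rw [hgc]
  infer_instance

/-- **over a connected base a group of multiplicative type has a greatest split subtorus.** -/
theorem exists_greatest_split_subtorus [ConnectedSpace ↥S] {G : Over S} [GrpObj G]
    (hG : SGA3x.IsMultTypeFT G) :
    ∃ (T : Over S) (_ : GrpObj T) (j : T ⟶ G) (r : ℕ), IsMonHom j ∧ Mono j ∧
      Red.IsSplitTorusWith (Fin r → ℤ) T ∧
      ∀ (T' : Over S) [GrpObj T'] (j' : T' ⟶ G) [IsMonHom j'] [Mono j'] (r' : ℕ),
        Red.IsSplitTorusWith (Fin r' → ℤ) T' → ∃ g : T' ⟶ T, g ≫ j = j' := by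
  haveI : Nonempty S := inferInstance
  obtain ⟨r₀, ⟨T, hTg, j, hj1, hj2, hT⟩, hmax⟩ := exists_max_rank hG
  refine ⟨T, hTg, j, r₀, hj1, hj2, hT, ?_⟩
  intro T' _ j' _ _ r' hT'
  haveI := hj1
  haveI := hj2
  obtain ⟨φ⟩ := hT
  obtain ⟨φ'⟩ := hT'
  obtain ⟨e, he⟩ := exists_iso_isMonHom φ
  obtain ⟨e', he'⟩ := exists_iso_isMonHom φ'
  haveI := he
  haveI := he'
  let M₀ : Type := (Fin r₀ → ℤ) × (Fin r' → ℤ)
  let i₁ : (Fin r₀ → ℤ) →+ M₀ := AddMonoidHom.inl _ _
  let i₂ : (Fin r' → ℤ) →+ M₀ := AddMonoidHom.inr _ _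
  let p₁ : M₀ →+ (Fin r₀ → ℤ) := AddMonoidHom.fst _ _
  let p₂ : M₀ →+ (Fin r' → ℤ) := AddMonoidHom.snd _ _
  let α : Red.DS S M₀ ⟶ G := Red.DSmap S i₁ ≫ e.inv ≫ j
  let β : Red.DS S M₀ ⟶ G := Red.DSmap S i₂ ≫ e'.inv ≫ j'
  haveI : IsMonHom α := inferInstance
  haveI : IsMonHom β := inferInstance
  have hc := fun (X : Over S) (a b : X ⟶ G) => comm_of_isMultTypeFT hG a b
  haveI : IsMonHom (α * β) := isMonHom_mul hc α β
  obtain ⟨N, mbar, r'', hm1, hm2, hm3, -, hsp⟩ := exists_split_image hG M₀ (α * β)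
  haveI := hm1
  haveI := hm2
  have h11 : p₁.comp i₁ = AddMonoidHom.id _ := by ext x : 1; rfl
  have h12 : p₁.comp i₂ = 0 := by ext x : 1; rfl
  have h21 : p₂.comp i₁ = 0 := by ext x : 1; rfl
  have h22 : p₂.comp i₂ = AddMonoidHom.id _ := by ext x : 1; rfl
  have hι₁ : Red.DSmap S p₁ ≫ (α * β) = e.inv ≫ j := by
    rw [MonObj.comp_mul]
    simp only [α, β, ← Category.assoc, DSmap_comp, h11, h12, DSmap_id, Category.id_comp]
    rw [DSmap_zero_eq_one, Category.assoc, MonObj.one_comp, _root_.mul_one]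
  have hι₂ : Red.DSmap S p₂ ≫ (α * β) = e'.inv ≫ j' := by
    rw [MonObj.comp_mul]
    simp only [α, β, ← Category.assoc, DSmap_comp, h21, h22, DSmap_id, Category.id_comp]
    rw [DSmap_zero_eq_one, Category.assoc, MonObj.one_comp, _root_.one_mul]
  let g₁ : T ⟶ Red.DS S N := e.hom ≫ Red.DSmap S p₁ ≫ Red.DSmap S N.subtype
  let g₂ : T' ⟶ Red.DS S N := e'.hom ≫ Red.DSmap S p₂ ≫ Red.DSmap S N.subtype
  have hg₁ : g₁ ≫ mbar = j := by
    simp only [g₁, Category.assoc, hm3, hι₁, Iso.hom_inv_id_assoc]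
  have hg₂ : g₂ ≫ mbar = j' := by
    simp only [g₂, Category.assoc, hm3, hι₂, Iso.hom_inv_id_assoc]
  haveI : IsIso g₁ := isIso_of_max j r₀ ⟨φ⟩ hmax (Red.DS S N) mbar r'' g₁ hsp hg₁
  refine ⟨g₂ ≫ inv g₁, ?_⟩
  rw [← hg₁, Category.assoc, IsIso.inv_hom_id_assoc, hg₂]

end Groth.Agent.Lib.Helper10.TorusMax
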