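import Mathlib
import Groth.Agent.Lib.Helper10.MonoSubF
import Groth.Agent.Lib.Helper10.TorusMax3

/-!
# The image subfunctor of the product of two subgroups of a commutative group scheme
-/

set_option autoImplicit false
set_option linter.unusedSectionVars false
set_option linter.style.haveILetI false
set_option backward.isDefEq.respectTransparency.types false
set_option maxHeartbeats 4000000
set_option synthInstance.maxHeartbeats 400000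
universe u
open CategoryTheory CategoryTheory.Limits AlgebraicGeometry Opposite MonoidalCategory
  CartesianMonoidalCategory MonObj GrpObj

namespace Groth.Agent.Lib.Helper10.ImgSub

open Groth.Agent.Lib.Helper10.ClosedSubF Groth.Agent.Lib.Helper10.HomFamBC

variable {S : Scheme.{u}} {G E₁ E₂ : Over S} [GrpObj G] [GrpObj E₁] [GrpObj E₂]
  (j₁ : E₁ ⟶ G) (j₂ : E₂ ⟶ G)

/-- `x` is a product of a point of `E₁` and a point of `E₂`. -/
def IsProd {X : Over S} (x : X ⟶ G) : Prop :=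
  ∃ (l₁ : X ⟶ E₁) (l₂ : X ⟶ E₂), (l₁ ≫ j₁) * (l₂ ≫ j₂) = x

variable {j₁ j₂}

theorem IsProd.comp {X X' : Over S} (p : X' ⟶ X) {x : X ⟶ G} (h : IsProd j₁ j₂ x) :
    IsProd j₁ j₂ (p ≫ x) := by
  obtain ⟨l₁, l₂, rfl⟩ := h
  exact ⟨p ≫ l₁, p ≫ l₂, by rw [MonObj.comp_mul, Category.assoc, Category.assoc]⟩

theorem IsProd.one [IsMonHom j₁] [IsMonHom j₂] {X : Over S} : IsProd j₁ j₂ (1 : X ⟶ G) :=
  ⟨1, 1, by rw [MonObj.one_comp, MonObj.one_comp, _root_.mul_one]⟩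

theorem IsProd.mul [IsMonHom j₁] [IsMonHom j₂]
    (hc : ∀ (X : Over S) (a b : X ⟶ G), a * b = b * a) {X : Over S} {x y : X ⟶ G}
    (hx : IsProd j₁ j₂ x) (hy : IsProd j₁ j₂ y) : IsProd j₁ j₂ (x * y) := by
  obtain ⟨l₁, l₂, rfl⟩ := hx
  obtain ⟨k₁, k₂, rfl⟩ := hy
  refine ⟨l₁ * k₁, l₂ * k₂, ?_⟩
  rw [MonObj.mul_comp, MonObj.mul_comp, _root_.mul_assoc, _root_.mul_assoc,
    ← _root_.mul_assoc (k₁ ≫ j₁), hc X (k₁ ≫ j₁) (l₂ ≫ j₂), _root_.mul_assoc]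

theorem IsProd.inv [IsMonHom j₁] [IsMonHom j₂]
    (hc : ∀ (X : Over S) (a b : X ⟶ G), a * b = b * a) {X : Over S} {x : X ⟶ G}
    (hx : IsProd j₁ j₂ x) : IsProd j₁ j₂ x⁻¹ := by
  obtain ⟨l₁, l₂, rfl⟩ := hx
  refine ⟨l₁⁻¹, l₂⁻¹, ?_⟩
  rw [GrpObj.inv_comp, GrpObj.inv_comp, _root_.mul_inv_rev, hc X]

theorem IsProd.left [IsMonHom j₂] {X : Over S} (l : X ⟶ E₁) : IsProd j₁ j₂ (l ≫ j₁) :=
  ⟨l, 1, by rw [MonObj.one_comp, _root_.mul_one]⟩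

theorem IsProd.right [IsMonHom j₁] {X : Over S} (l : X ⟶ E₂) : IsProd j₁ j₂ (l ≫ j₂) :=
  ⟨1, l, by rw [MonObj.one_comp, _root_.one_mul]⟩

variable (j₁ j₂)

/-- the sieve of morphisms along which `t` becomes a product. -/
def liftSieve {Z : Scheme.{u}} (t : Z ⟶ G.left) : Sieve Z where
  arrows Z₁ s := IsProd j₁ j₂ (Over.homMk (s ≫ t) rfl : Over.mk ((s ≫ t) ≫ G.hom) ⟶ G)
  downward_closed := by
    intro Z₁ Z₂ s hs r
    have h := hs.comp (Over.homMk r (by simp) :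
      Over.mk (((r ≫ s) ≫ t) ≫ G.hom) ⟶ Over.mk ((s ≫ t) ≫ G.hom))
    have e : (Over.homMk r (by simp) :
        Over.mk (((r ≫ s) ≫ t) ≫ G.hom) ⟶ Over.mk ((s ≫ t) ≫ G.hom)) ≫
        (Over.homMk (s ≫ t) rfl : Over.mk ((s ≫ t) ≫ G.hom) ⟶ G) =
        (Over.homMk ((r ≫ s) ≫ t) rfl : Over.mk (((r ≫ s) ≫ t) ≫ G.hom) ⟶ G) := by
      apply Over.OverMorphism.ext
      simp
    rw [e] at h
    exact h

variable {j₁ j₂}

theorem liftSieve_iff {Z : Scheme.{u}} (t : Z ⟶ G.left) {X : Over S} (s : X.left ⟶ Z) (x : X ⟶ G)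
    (hx : x.left = s ≫ t) : liftSieve j₁ j₂ t s ↔ IsProd j₁ j₂ x := by
  obtain ⟨XL, ⟨⟨⟩⟩, Xh⟩ := X
  change XL ⟶ Z at s
  have hX : Xh = (s ≫ t) ≫ G.hom := by
    have h1 := Over.w x
    change x.left ≫ G.hom = Xh at h1
    rw [← h1, hx]
  subst hX
  have e : x = (Over.homMk (s ≫ t) rfl : Over.mk ((s ≫ t) ≫ G.hom) ⟶ G) := by
    apply Over.OverMorphism.ext
    exact hx
  rw [e]
  rfl

theorem mem_liftSieve {X : Over S} (x : X ⟶ G) {Z₁ : Scheme.{u}} (s : Z₁ ⟶ X.left) :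
    liftSieve j₁ j₂ x.left s ↔
      IsProd j₁ j₂ ((Over.homMk s rfl : Over.mk (s ≫ X.hom) ⟶ X) ≫ x) :=
  liftSieve_iff (X := Over.mk (s ≫ X.hom)) x.left s _ rfl

variable (j₁ j₂)

/-- the image subfunctor. -/
def imgSubF : SubF G.left where
  P Z t := liftSieve j₁ j₂ t ∈ Scheme.fpqcTopology Z
  pre := by
    intro T T' s t ht
    refine Scheme.fpqcTopology.superset_covering ?_ (Scheme.fpqcTopology.pullback_stable s ht)
    intro Z₁ r hr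
    change liftSieve j₁ j₂ t (r ≫ s) at hr
    have h1 := (liftSieve_iff (X := Over.mk (((r ≫ s) ≫ t) ≫ G.hom)) t (r ≫ s)
      (Over.homMk ((r ≫ s) ≫ t) rfl) rfl).1 hr
    exact (liftSieve_iff (X := Over.mk (((r ≫ s) ≫ t) ≫ G.hom)) (s ≫ t) r
      (Over.homMk ((r ≫ s) ≫ t) rfl) (Category.assoc _ _ _)).2 h1

variable {j₁ j₂}

theorem imgSubF_isZarLocal : (imgSubF j₁ j₂).IsZarLocal := by
  intro T 𝒱 t h
  have hcov : Sieve.ofArrows 𝒱.X 𝒱.f ∈ Scheme.fpqcTopology T :=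
    Scheme.zariskiTopology_le_fpqcTopology _ 𝒱.mem_grothendieckTopology
  refine Scheme.fpqcTopology.transitive hcov _ ?_
  rintro Y f ⟨Z, a, b, ⟨k⟩, rfl⟩
  have h1 := (imgSubF j₁ j₂).pre a _ (h k)
  refine Scheme.fpqcTopology.superset_covering ?_ h1
  intro Z₁ r hr
  change liftSieve j₁ j₂ t (r ≫ a ≫ 𝒱.f k)
  change liftSieve j₁ j₂ (a ≫ 𝒱.f k ≫ t) r at hr
  have h2 := (liftSieve_iff (X := Over.mk ((r ≫ a ≫ 𝒱.f k ≫ t) ≫ G.hom)) (a ≫ 𝒱.f k ≫ t) r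
    (Over.homMk (r ≫ a ≫ 𝒱.f k ≫ t) rfl) rfl).1 hr
  exact (liftSieve_iff (X := Over.mk ((r ≫ a ≫ 𝒱.f k ≫ t) ≫ G.hom)) t (r ≫ a ≫ 𝒱.f k)
    (Over.homMk (r ≫ a ≫ 𝒱.f k ≫ t) rfl) (by simp)).2 h2

/-- a point all of whose local lifts factor through a monomorphism factors through it. -/
theorem factor_of_sieve {Z Y W : Scheme.{u}} (i : W ⟶ Y) [Mono i] (t : Z ⟶ Y) (R : Sieve Z)
    (hR : R ∈ Scheme.fpqcTopology Z)
    (h : ∀ ⦃Z₁ : Scheme.{u}⦄ (s : Z₁ ⟶ Z), R s → ∃ w : Z₁ ⟶ W, w ≫ i = s ≫ t) :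
    ∃ w : Z ⟶ W, w ≫ i = t := by
  have hW : Presieve.IsSheaf Scheme.fpqcTopology.{u} (yoneda.obj W) :=
    GrothendieckTopology.Subcanonical.isSheaf_of_isRepresentable _
  have hY : Presieve.IsSheaf Scheme.fpqcTopology.{u} (yoneda.obj Y) :=
    GrothendieckTopology.Subcanonical.isSheaf_of_isRepresentable _
  let x : Presieve.FamilyOfElements (yoneda.obj W) R.arrows := fun Z₁ s hs => (h s hs).choose
  have hx : ∀ {Z₁ : Scheme.{u}} (s : Z₁ ⟶ Z) (hs : R s), x s hs ≫ i = s ≫ t :=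
    fun s hs => (h s hs).choose_spec
  have hcomp : x.Compatible := by
    intro Y₁ Y₂ Z₀ g₁ g₂ f₁ f₂ h₁ h₂ hcomm
    change g₁ ≫ x f₁ h₁ = g₂ ≫ x f₂ h₂
    rw [← cancel_mono i, Category.assoc, Category.assoc, hx f₁ h₁, hx f₂ h₂, ← Category.assoc,
      ← Category.assoc, hcomm]
  obtain ⟨w, hw, -⟩ := hW R hR x hcomp
  refine ⟨w, ?_⟩
  refine (hY R hR).isSeparatedFor.ext ?_
  intro Z₁ s hs
  change s ≫ w ≫ i = s ≫ t
  have h1 : s ≫ w = x s hs := hw s hs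
  rw [← Category.assoc, h1, hx s hs]

end Groth.Agent.Lib.Helper10.ImgSub
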