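import Mathlib
import Groth.Agent.Lib.Helper10.ImgSub1

/-!
# The image subfunctor: group closure and base change
-/

set_option autoImplicit false
set_option linter.unusedSectionVars false
set_option linter.style.haveILetI false
set_option backward.isDefEq.respectTransparency.types false
set_option maxHeartbeats 4000000
set_option synthInstance.maxHeartbeats 400000
universe u
open CategoryTheory CategoryTheory.Limits AlgebraicGeometry Opposite MonoidalCategory
  CartesianMonoidalCategory MonObj GrpObj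

namespace Groth.Agent.Lib.Helper10.ImgSub

open Groth.Agent.Lib.Helper10.ClosedSubF Groth.Agent.Lib.Helper10.HomFamBC

variable {S : Scheme.{u}} {G E₁ E₂ : Over S} [GrpObj G] [GrpObj E₁] [GrpObj E₂]
  {j₁ : E₁ ⟶ G} {j₂ : E₂ ⟶ G}

theorem P_of_forall {X : Over S} (x : X ⟶ G)
    (h : ∀ (X' : Over S) (p : X' ⟶ X), IsProd j₁ j₂ (p ≫ x)) : (imgSubF j₁ j₂).P x.left := by
  refine Scheme.fpqcTopology.superset_covering (S := ⊤) ?_ (Scheme.fpqcTopology.top_mem _)
  intro Z₁ s _
  exact (mem_liftSieve x s).2 (h _ _)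

theorem P_one [IsMonHom j₁] [IsMonHom j₂] {X : Over S} : (imgSubF j₁ j₂).P (1 : X ⟶ G).left :=
  P_of_forall _ (fun X' p => by rw [MonObj.comp_one]; exact IsProd.one)

theorem P_left [IsMonHom j₂] {X : Over S} (l : X ⟶ E₁) : (imgSubF j₁ j₂).P (l ≫ j₁).left :=
  P_of_forall _ (fun X' p => by rw [← Category.assoc]; exact IsProd.left _)

theorem P_right [IsMonHom j₁] {X : Over S} (l : X ⟶ E₂) : (imgSubF j₁ j₂).P (l ≫ j₂).left :=
  P_of_forall _ (fun X' p => by rw [← Category.assoc]; exact IsProd.right _)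

theorem P_mul [IsMonHom j₁] [IsMonHom j₂]
    (hc : ∀ (X : Over S) (a b : X ⟶ G), a * b = b * a) {X : Over S} {x y : X ⟶ G}
    (hx : (imgSubF j₁ j₂).P x.left) (hy : (imgSubF j₁ j₂).P y.left) :
    (imgSubF j₁ j₂).P (x * y).left := by
  refine Scheme.fpqcTopology.superset_covering ?_
    (Scheme.fpqcTopology.intersection_covering hx hy)
  rintro Z₁ s ⟨h1, h2⟩
  rw [mem_liftSieve] at h1 h2 ⊢
  rw [MonObj.comp_mul]
  exact h1.mul hc h2

theorem P_inv [IsMonHom j₁] [IsMonHom j₂]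
    (hc : ∀ (X : Over S) (a b : X ⟶ G), a * b = b * a) {X : Over S} {x : X ⟶ G}
    (hx : (imgSubF j₁ j₂).P x.left) : (imgSubF j₁ j₂).P (x⁻¹).left := by
  refine Scheme.fpqcTopology.superset_covering ?_ hx
  intro Z₁ s h1
  rw [mem_liftSieve] at h1 ⊢
  rw [GrpObj.comp_inv]
  exact h1.inv hc

/-! ### Base change -/

variable {U : Scheme.{u}} (g : U ⟶ S)

theorem isProd_tr_iff {X' : Over U} (x' : X' ⟶ Red.bc g G) :
    IsProd ((Over.pullback g).map j₁) ((Over.pullback g).map j₂) x' ↔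
      IsProd j₁ j₂ (tr g x') := by
  constructor
  · rintro ⟨l₁, l₂, rfl⟩
    refine ⟨tr g l₁, tr g l₂, ?_⟩
    rw [tr_mul, tr_comp_map, tr_comp_map]
  · rintro ⟨l₁, l₂, h⟩
    refine ⟨trInv g l₁, trInv g l₂, ?_⟩
    apply tr_injective g
    rw [tr_mul, tr_comp_map, tr_comp_map, tr_trInv, tr_trInv, h]

theorem imgSubF_bc_iff {T : Scheme.{u}} (t' : T ⟶ (Red.bc g G).left) :
    (imgSubF ((Over.pullback g).map j₁) ((Over.pullback g).map j₂)).P t' ↔
      (imgSubF j₁ j₂).P (t' ≫ pullback.fst G.hom g) := by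
  have e : liftSieve ((Over.pullback g).map j₁) ((Over.pullback g).map j₂) t' =
      liftSieve j₁ j₂ (t' ≫ pullback.fst G.hom g) := by
    ext Z₁ s
    let X' : Over U := Over.mk ((s ≫ t') ≫ (Red.bc g G).hom)
    let x' : X' ⟶ Red.bc g G := Over.homMk (s ≫ t') rfl
    have h1 : liftSieve ((Over.pullback g).map j₁) ((Over.pullback g).map j₂) t' s ↔
        IsProd ((Over.pullback g).map j₁) ((Over.pullback g).map j₂) x' := Iff.rfl
    have h2 : liftSieve j₁ j₂ (t' ≫ pullback.fst G.hom g) s ↔ IsProd j₁ j₂ (tr g x') :=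
      liftSieve_iff (X := (Over.map g).obj X') _ s (tr g x') (by
        rw [tr_left]
        change (s ≫ t') ≫ pullback.fst G.hom g = _
        rw [Category.assoc])
    exact h1.trans ((isProd_tr_iff g x').trans h2.symm)
  change liftSieve _ _ t' ∈ _ ↔ liftSieve j₁ j₂ (t' ≫ pullback.fst G.hom g) ∈ _
  rw [e]

end Groth.Agent.Lib.Helper10.ImgSub
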