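import Mathlib
import Groth.Agent.Lib.Helper10.ImgSub2

/-!
# The image subfunctor: local representability over a base where both subgroups are split
-/

set_option autoImplicit false
set_option linter.unusedSectionVars false
set_option linter.style.haveILetI false
set_option backward.isDefEq.respectTransparency.types false
set_option maxHeartbeats 4000000
set_option synthInstance.maxHeartbeats 400000
universe u
open CategoryTheory CategoryTheory.Limits AlgebraicGeometry Opposite MonoidalCategory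
  CartesianMonoidalCategory MonObj GrpObj

namespace Groth.Agent.Lib.Helper10.ImgSub

open Groth.Agent.Lib.Helper21.GaPts Groth.Agent.Lib.Helper10.FpqcLocus
  Groth.Agent.Lib.Helper10.MagnetQuot Groth.Agent.Lib.Helper10.DiagHomProps
  Groth.Agent.Lib.Helper10.HomFamBC Groth.Agent.Lib.Helper10.DiagHom
  Groth.Agent.Lib.Helper10.TorusQuot Groth.Agent.Lib.Helper10.MultTypeHom
  Groth.Agent.Lib.Helper10.FppfQuot Groth.Agent.Lib.Helper10.HomSp
  Groth.Agent.Lib.Helper10.TorusKer Groth.Agent.Lib.Helper10.TorusMax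
  Groth.Agent.Lib.Helper10.ClosedSubF

section BaseChangeHom

variable {B U : Scheme.{u}} (g : U ⟶ B) {M₀ : Type} [AddCommGroup M₀] {G : Over B} [GrpObj G]
  (m : Red.DS B M₀ ⟶ G)

theorem up_one {X' : Over U} : up g (1 : X' ⟶ Red.DS U M₀) = 1 := by
  apply dsFn_injective
  intro n
  rw [dsFn_up, dsFn_one, dsFn_one]

/-- the base change of `m` to `U`, as a morphism out of `D_U(M₀)`. -/
noncomputable def bcHom : Red.DS U M₀ ⟶ Red.bc g G :=
  trInv g (up g (𝟙 (Red.DS U M₀)) ≫ m)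

theorem comp_bcHom {X' : Over U} (a : X' ⟶ Red.DS U M₀) :
    a ≫ bcHom g m = trInv g (up g a ≫ m) := by
  rw [bcHom, comp_trInv, ← Category.assoc, map_comp_up, Category.comp_id]

theorem tr_bcHom : tr g (bcHom g m) = up g (𝟙 (Red.DS U M₀)) ≫ m := tr_trInv g _

instance isMonHom_bcHom [IsMonHom m] : IsMonHom (bcHom g m) := by
  refine isMonHom_of_points _ ?_ ?_
  · rw [comp_bcHom, up_one, MonObj.one_comp]
    exact (trInv_eq_one_iff g _).2 rfl
  · intro X x y
    rw [comp_bcHom, comp_bcHom, comp_bcHom, up_mul, MonObj.mul_comp _ _ m, trInv_mul]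

theorem prK_bcHom {N : AddSubgroup M₀} (hN : PrK m N g) : PrK (bcHom g m) N (𝟙 U) := by
  intro X' x hx t
  rw [comp_bcHom, trInv_eq_one_iff]
  have h1 := hN ((Over.map g).obj X') X'.hom rfl (up g t)
  rw [h1]
  constructor
  · intro h
    apply dsFn_injective
    intro n
    have h2 := congrArg (dsFn n) h
    rw [dsFn_DSmap, dsFn_up, dsFn_one] at h2
    rw [dsFn_DSmap, dsFn_one, h2]
  · intro h
    apply dsFn_injective
    intro n
    have h2 := congrArg (dsFn n) h
    rw [dsFn_DSmap, dsFn_one] at h2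
    rw [dsFn_DSmap, dsFn_up, dsFn_one, h2]

theorem exists_image_factor_bc [IsMonHom m] (hM₀ : AddGroup.FG M₀) (N : AddSubgroup M₀)
    (hN : PrK m N g) :
    ∃ mbar : Red.DS U N ⟶ Red.bc g G, IsMonHom mbar ∧ Mono mbar ∧
      Red.DSmap U N.subtype ≫ mbar = bcHom g m :=
  exists_image_factor hM₀ N (prK_bcHom g m hN)

end BaseChangeHom

section Pairing

variable {B : Scheme.{u}} {M₁ M₂ : Type} [AddCommGroup M₁] [AddCommGroup M₂]

/-- the point of `D(M₁ × M₂)` with given components. -/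
noncomputable def pairPt {X : Over B} (a₁ : X ⟶ Red.DS B M₁) (a₂ : X ⟶ Red.DS B M₂) :
    X ⟶ Red.DS B (M₁ × M₂) :=
  (a₁ ≫ Red.DSmap B (AddMonoidHom.fst M₁ M₂)) * (a₂ ≫ Red.DSmap B (AddMonoidHom.snd M₁ M₂))

theorem pairPt_inl {X : Over B} (a₁ : X ⟶ Red.DS B M₁) (a₂ : X ⟶ Red.DS B M₂) :
    pairPt a₁ a₂ ≫ Red.DSmap B (AddMonoidHom.inl M₁ M₂) = a₁ := by
  haveI : IsMonHom (Red.DSmap B (AddMonoidHom.inl M₁ M₂)) := isMonHom_DSmap _
  have h11 : (AddMonoidHom.fst M₁ M₂).comp (AddMonoidHom.inl M₁ M₂) = AddMonoidHom.id _ := by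
    ext x : 1; rfl
  have h21 : (AddMonoidHom.snd M₁ M₂).comp (AddMonoidHom.inl M₁ M₂) = 0 := by
    ext x : 1; rfl
  rw [pairPt, MonObj.mul_comp, Category.assoc, Category.assoc, DSmap_comp, DSmap_comp, h11, h21,
    DSmap_id, Category.comp_id, DSmap_zero_eq_one, MonObj.comp_one, _root_.mul_one]

theorem pairPt_inr {X : Over B} (a₁ : X ⟶ Red.DS B M₁) (a₂ : X ⟶ Red.DS B M₂) :
    pairPt a₁ a₂ ≫ Red.DSmap B (AddMonoidHom.inr M₁ M₂) = a₂ := by
  haveI : IsMonHom (Red.DSmap B (AddMonoidHom.inr M₁ M₂)) := isMonHom_DSmap _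
  have h12 : (AddMonoidHom.fst M₁ M₂).comp (AddMonoidHom.inr M₁ M₂) = 0 := by
    ext x : 1; rfl
  have h22 : (AddMonoidHom.snd M₁ M₂).comp (AddMonoidHom.inr M₁ M₂) = AddMonoidHom.id _ := by
    ext x : 1; rfl
  rw [pairPt, MonObj.mul_comp, Category.assoc, Category.assoc, DSmap_comp, DSmap_comp, h12, h22,
    DSmap_id, Category.comp_id, DSmap_zero_eq_one, MonObj.comp_one, _root_.one_mul]

end Pairing

end Groth.Agent.Lib.Helper10.ImgSub
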