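import Mathlib
import Groth.Agent.Lib.Helper10.ImgSub3

/-!
# The image subfunctor: local representability (split case)
-/

set_option autoImplicit false
set_option linter.unusedSectionVars false
set_option linter.style.haveILetI false
set_option backward.isDefEq.respectTransparency.types false
set_option maxHeartbeats 4000000
set_option synthInstance.maxHeartbeats 400000
universe u
open CategoryTheory CategoryTheory.Limits AlgebraicGeometry Opposite MonoidalCategory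
  CartesianMonoidalCategory MonObj GrpObj

namespace Groth.Agent.Lib.Helper10.ImgSub

open Groth.Agent.Lib.Helper21.GaPts Groth.Agent.Lib.Helper10.FpqcLocus
  Groth.Agent.Lib.Helper10.MagnetQuot Groth.Agent.Lib.Helper10.DiagHomProps
  Groth.Agent.Lib.Helper10.HomFamBC Groth.Agent.Lib.Helper10.DiagHom
  Groth.Agent.Lib.Helper10.TorusQuot Groth.Agent.Lib.Helper10.MultTypeHom
  Groth.Agent.Lib.Helper10.FppfQuot Groth.Agent.Lib.Helper10.HomSp
  Groth.Agent.Lib.Helper10.TorusKer Groth.Agent.Lib.Helper10.TorusMax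
  Groth.Agent.Lib.Helper10.ClosedSubF

variable {B : Scheme.{u}} {G E₁ E₂ : Over B} [GrpObj G] [GrpObj E₁] [GrpObj E₂]
  (j₁ : E₁ ⟶ G) (j₂ : E₂ ⟶ G) [IsMonHom j₁] [IsMonHom j₂]
  {M₁ M₂ : Type} [AddCommGroup M₁] [AddCommGroup M₂]
  (e₁ : E₁ ≅ Red.DS B M₁) (e₂ : E₂ ≅ Red.DS B M₂) [IsMonHom e₁.hom] [IsMonHom e₂.hom]

/-- the product homomorphism `D(M₁ × M₂) ⟶ G`. -/
noncomputable def prodHom : Red.DS B (M₁ × M₂) ⟶ G :=
  (Red.DSmap B (AddMonoidHom.inl M₁ M₂) ≫ e₁.inv ≫ j₁) *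
    (Red.DSmap B (AddMonoidHom.inr M₁ M₂) ≫ e₂.inv ≫ j₂)

theorem isMonHom_prodHom (hc : ∀ (X : Over B) (a b : X ⟶ G), a * b = b * a) :
    IsMonHom (prodHom j₁ j₂ e₁ e₂) := by
  haveI : IsMonHom (Red.DSmap B (AddMonoidHom.inl M₁ M₂)) := isMonHom_DSmap _
  haveI : IsMonHom (Red.DSmap B (AddMonoidHom.inr M₁ M₂)) := isMonHom_DSmap _
  haveI : IsMonHom (Red.DSmap B (AddMonoidHom.inl M₁ M₂) ≫ e₁.inv ≫ j₁) := inferInstance
  haveI : IsMonHom (Red.DSmap B (AddMonoidHom.inr M₁ M₂) ≫ e₂.inv ≫ j₂) := inferInstance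
  exact isMonHom_mul hc (Red.DSmap B (AddMonoidHom.inl M₁ M₂) ≫ e₁.inv ≫ j₁)
    (Red.DSmap B (AddMonoidHom.inr M₁ M₂) ≫ e₂.inv ≫ j₂)

theorem pairPt_prodHom {X : Over B} (l₁ : X ⟶ E₁) (l₂ : X ⟶ E₂) :
    pairPt (l₁ ≫ e₁.hom) (l₂ ≫ e₂.hom) ≫ prodHom j₁ j₂ e₁ e₂ = (l₁ ≫ j₁) * (l₂ ≫ j₂) := by
  rw [prodHom, MonObj.comp_mul, ← Category.assoc, pairPt_inl, ← Category.assoc (pairPt _ _),
    pairPt_inr, Category.assoc, Category.assoc, Iso.hom_inv_id_assoc, Iso.hom_inv_id_assoc]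

theorem isProd_comp_prodHom {X : Over B} (a : X ⟶ Red.DS B (M₁ × M₂)) :
    IsProd j₁ j₂ (a ≫ prodHom j₁ j₂ e₁ e₂) := by
  refine ⟨a ≫ Red.DSmap B (AddMonoidHom.inl M₁ M₂) ≫ e₁.inv,
    a ≫ Red.DSmap B (AddMonoidHom.inr M₁ M₂) ≫ e₂.inv, ?_⟩
  rw [prodHom, MonObj.comp_mul]
  simp only [Category.assoc]

variable {U : Scheme.{u}} (g : U ⟶ B)

/-- **local representability of the image subfunctor.** -/
theorem local_rep (hfg : AddGroup.FG (M₁ × M₂)) (N : AddSubgroup (M₁ × M₂))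
    (mbar : Red.DS U N ⟶ Red.bc g G) [Mono mbar]
    (hm : Red.DSmap U N.subtype ≫ mbar = bcHom g (prodHom j₁ j₂ e₁ e₂))
    {T : Scheme.{u}} (t' : T ⟶ (Red.bc g G).left) :
    (imgSubF j₁ j₂).P (t' ≫ pullback.fst G.hom g) ↔
      ∃ w : T ⟶ (Red.DS U N).left, w ≫ mbar.left = t' := by
  haveI : Mono mbar.left := (Over.forget U).map_mono mbar
  constructor
  · intro hP
    refine factor_of_sieve mbar.left t' _ hP ?_
    intro Z₁ s hs
    let X' : Over U := Over.mk ((s ≫ t') ≫ (Red.bc g G).hom)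
    let x' : X' ⟶ Red.bc g G := Over.homMk (s ≫ t') rfl
    have h2 : IsProd j₁ j₂ (tr g x') :=
      (liftSieve_iff (X := (Over.map g).obj X') _ s (tr g x') (by
        rw [tr_left]
        change (s ≫ t') ≫ pullback.fst G.hom g = _
        rw [Category.assoc])).1 hs
    obtain ⟨l₁, l₂, hl⟩ := h2
    let a : (Over.map g).obj X' ⟶ Red.DS B (M₁ × M₂) := pairPt (l₁ ≫ e₁.hom) (l₂ ≫ e₂.hom)
    have ha : a ≫ prodHom j₁ j₂ e₁ e₂ = tr g x' := (pairPt_prodHom j₁ j₂ e₁ e₂ l₁ l₂).trans hl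
    let a' : X' ⟶ Red.DS U (M₁ × M₂) := down g a
    have h3 : a' ≫ bcHom g (prodHom j₁ j₂ e₁ e₂) = x' := by
      rw [comp_bcHom, up_down, ha, trInv_tr]
    rw [← hm, ← Category.assoc] at h3
    refine ⟨(a' ≫ Red.DSmap U N.subtype).left, ?_⟩
    have h4 := congrArg (fun z => z.left) h3
    exact h4
  · rintro ⟨w, rfl⟩
    rw [Category.assoc]
    apply (imgSubF j₁ j₂).pre
    obtain ⟨k1, k2, k3⟩ := fppf_K (B := U) hfg N
    haveI := k1
    haveI := k2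
    haveI := k3
    have hcov : Sieve.generate (Presieve.singleton (Red.DSmap U N.subtype).left) ∈
        Scheme.fpqcTopology (Red.DS U N).left :=
      Scheme.fppfTopology_le_fpqcTopology _
        (Precoverage.generate_mem_toGrothendieck
          (Red.DSmap U N.subtype).left.singleton_mem_fppfPrecoverage)
    refine Scheme.fpqcTopology.superset_covering ?_ hcov
    rw [Sieve.generate_le_iff]
    rintro Z₁ s ⟨⟩
    refine (liftSieve_iff (X := (Over.map g).obj (Red.DS U (M₁ × M₂))) _ _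
      (tr g (bcHom g (prodHom j₁ j₂ e₁ e₂))) ?_).2 ?_
    · rw [tr_left, ← hm]
      rfl
    · rw [tr_bcHom]
      exact isProd_comp_prodHom j₁ j₂ e₁ e₂ _

end Groth.Agent.Lib.Helper10.ImgSub
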