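import Mathlib
import Groth.Agent.Lib.Helper10.ImgSub4
import Groth.Agent.Lib.Helper10.TorusQuot9

/-!
# The image subfunctor: local data for locally split subtori
-/

set_option autoImplicit false
set_option linter.unusedSectionVars false
set_option linter.style.haveILetI false
set_option backward.isDefEq.respectTransparency.types false
set_option maxHeartbeats 4000000
set_option synthInstance.maxHeartbeats 400000
universe u
open CategoryTheory CategoryTheory.Limits AlgebraicGeometry Opposite MonoidalCategory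
  CartesianMonoidalCategory MonObj GrpObj

namespace Groth.Agent.Lib.Helper10.ImgSub

open Groth.Agent.Lib.Helper21.GaPts Groth.Agent.Lib.Helper10.FpqcLocus
  Groth.Agent.Lib.Helper10.MagnetQuot Groth.Agent.Lib.Helper10.DiagHomProps
  Groth.Agent.Lib.Helper10.HomFamBC Groth.Agent.Lib.Helper10.DiagHom
  Groth.Agent.Lib.Helper10.TorusQuot Groth.Agent.Lib.Helper10.MultTypeHom
  Groth.Agent.Lib.Helper10.FppfQuot Groth.Agent.Lib.Helper10.HomSp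
  Groth.Agent.Lib.Helper10.TorusKer Groth.Agent.Lib.Helper10.TorusMax
  Groth.Agent.Lib.Helper10.ClosedSubF

/-- **stage 1**: over a base where both subgroups are split, the image subfunctor is locally
represented by split subtori. -/
theorem stage1 {B : Scheme.{u}} {G E₁ E₂ : Over B} [GrpObj G] [GrpObj E₁] [GrpObj E₂]
    (hG : SGA3x.IsMultTypeFT G)
    (j₁ : E₁ ⟶ G) (j₂ : E₂ ⟶ G) [IsMonHom j₁] [IsMonHom j₂] (r₁ r₂ : ℕ)
    (e₁ : E₁ ≅ Red.DS B (Fin r₁ → ℤ)) (e₂ : E₂ ≅ Red.DS B (Fin r₂ → ℤ))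
    [IsMonHom e₁.hom] [IsMonHom e₂.hom] (b : B) :
    ∃ (V : B.Opens) (r : ℕ) (mbar : Red.DS (V : Scheme.{u}) (Fin r → ℤ) ⟶ Red.bc V.ι G),
      b ∈ V ∧ IsMonHom mbar ∧ Mono mbar ∧
      ∀ (T : Scheme.{u}) (t' : T ⟶ (Red.bc V.ι G).left),
        (imgSubF j₁ j₂).P (t' ≫ pullback.fst G.hom V.ι) ↔
          ∃ w : T ⟶ (Red.DS (V : Scheme.{u}) (Fin r → ℤ)).left, w ≫ mbar.left = t' := by
  have hc := fun (X : Over B) (a b : X ⟶ G) => comm_of_isMultTypeFT hG a b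
  haveI := isMonHom_prodHom j₁ j₂ e₁ e₂ hc
  let M₀ : Type := (Fin r₁ → ℤ) × (Fin r₂ → ℤ)
  have hfg : AddGroup.FG M₀ := Module.Finite.iff_addGroup_fg.mp inferInstance
  obtain ⟨N, V, hbV, -, hPV⟩ := exists_clopen_PrK (m := prodHom j₁ j₂ e₁ e₂) hG b
  obtain ⟨mbar, hm1, hm2, hm3⟩ := exists_image_factor_bc V.ι (prodHom j₁ j₂ e₁ e₂) hfg N hPV
  haveI := hm1
  haveI := hm2
  obtain ⟨r, -, ⟨a⟩⟩ := exists_addEquiv_fin' M₀ N
  obtain ⟨ψ⟩ := nonempty_DS_iso (B := (V : Scheme.{u})) a.symm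
  obtain ⟨ε, hε⟩ := exists_iso_isMonHom ψ
  haveI := hε
  refine ⟨V, r, ε.hom ≫ mbar, hbV, inferInstance, mono_comp _ _, ?_⟩
  intro T t'
  rw [local_rep j₁ j₂ e₁ e₂ V.ι hfg N mbar hm3 t']
  constructor
  · rintro ⟨w, rfl⟩
    refine ⟨w ≫ ε.inv.left, ?_⟩
    rw [Over.comp_left, Category.assoc, ← Category.assoc ε.inv.left, ← Over.comp_left,
      Iso.inv_hom_id, Over.id_left, Category.id_comp]
  · rintro ⟨w, rfl⟩
    exact ⟨w ≫ ε.hom.left, by rw [Over.comp_left, Category.assoc]⟩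

variable {S : Scheme.{u}} {G E₁ E₂ : Over S} [GrpObj G] [GrpObj E₁] [GrpObj E₂]
  (j₁ : E₁ ⟶ G) (j₂ : E₂ ⟶ G)

/-- the local structure of the image subfunctor at a point of the base. -/
def LocData (s : S) : Prop :=
  ∃ (U : S.Opens) (hsU : s ∈ U) (V : (U : Scheme.{u}).Opens) (_ : (⟨s, hsU⟩ : U) ∈ V) (r : ℕ)
    (mbar : Red.DS (V : Scheme.{u}) (Fin r → ℤ) ⟶ Red.bc V.ι (Red.bc U.ι G)),
    IsMonHom mbar ∧ Mono mbar ∧
    ∀ (T : Scheme.{u}) (t'' : T ⟶ (Red.bc V.ι (Red.bc U.ι G)).left),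
      (imgSubF j₁ j₂).P (t'' ≫ pullback.fst (Red.bc U.ι G).hom V.ι ≫ pullback.fst G.hom U.ι) ↔
        ∃ w : T ⟶ (Red.DS (V : Scheme.{u}) (Fin r → ℤ)).left, w ≫ mbar.left = t''

variable {j₁ j₂}

theorem exists_locData (hG : SGA3x.IsMultTypeFT G) [IsMonHom j₁] [IsMonHom j₂]
    (h₁ : ∀ s : ↥S, ∃ U : S.Opens, s ∈ U ∧ ∃ r : ℕ,
      Red.IsSplitTorusWith (Fin r → ℤ) (Red.bc U.ι E₁))
    (h₂ : ∀ s : ↥S, ∃ U : S.Opens, s ∈ U ∧ ∃ r : ℕ,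
      Red.IsSplitTorusWith (Fin r → ℤ) (Red.bc U.ι E₂)) (s : S) : LocData j₁ j₂ s := by
  obtain ⟨U₁, hs₁, r₁, ⟨φ₁⟩⟩ := h₁ s
  obtain ⟨U₂, hs₂, r₂, ⟨φ₂⟩⟩ := h₂ s
  let U : S.Opens := U₁ ⊓ U₂
  have hsU : s ∈ U := ⟨hs₁, hs₂⟩
  let k₁ : (U : Scheme.{u}) ⟶ (U₁ : Scheme.{u}) := S.homOfLE inf_le_left
  let k₂ : (U : Scheme.{u}) ⟶ (U₂ : Scheme.{u}) := S.homOfLE inf_le_right
  have hk₁ : U.ι = k₁ ≫ U₁.ι := (Scheme.homOfLE_ι S _).symm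
  have hk₂ : U.ι = k₂ ≫ U₂.ι := (Scheme.homOfLE_ι S _).symm
  obtain ⟨e₁, he₁⟩ := exists_iso_isMonHom (trivIso E₁ U₁.ι k₁ U.ι hk₁ _ φ₁)
  obtain ⟨e₂, he₂⟩ := exists_iso_isMonHom (trivIso E₂ U₂.ι k₂ U.ι hk₂ _ φ₂)
  haveI := he₁
  haveI := he₂
  haveI : IsMonHom ((Over.pullback U.ι).map j₁) := inferInstance
  haveI : IsMonHom ((Over.pullback U.ι).map j₂) := inferInstance
  obtain ⟨V, r, mbar, hV, hm1, hm2, hLR⟩ := stage1 (isMultTypeFT_restrict hG U)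
    ((Over.pullback U.ι).map j₁) ((Over.pullback U.ι).map j₂) r₁ r₂ e₁ e₂ ⟨s, hsU⟩
  refine ⟨U, hsU, V, hV, r, mbar, hm1, hm2, ?_⟩
  intro T t''
  rw [← hLR T t'', imgSubF_bc_iff U.ι, Category.assoc]

end Groth.Agent.Lib.Helper10.ImgSub
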