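import Mathlib
import Groth.Agent.Lib.Helper10.ImgSub5
import Groth.Agent.Lib.Helper10.IdComp8

/-!
# The join of two locally split subtori of a group of multiplicative type
-/

set_option autoImplicit false
set_option linter.unusedSectionVars false
set_option linter.style.haveILetI false
set_option backward.isDefEq.respectTransparency.types false
set_option maxHeartbeats 4000000
set_option synthInstance.maxHeartbeats 400000
universe u
open CategoryTheory CategoryTheory.Limits AlgebraicGeometry Opposite MonoidalCategory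
  CartesianMonoidalCategory MonObj GrpObj

namespace Groth.Agent.Lib.Helper10.ImgSub

open Groth.Agent.Lib.Helper21.GaPts Groth.Agent.Lib.Helper10.FpqcLocus
  Groth.Agent.Lib.Helper10.MagnetQuot Groth.Agent.Lib.Helper10.DiagHomProps
  Groth.Agent.Lib.Helper10.HomFamBC Groth.Agent.Lib.Helper10.DiagHom
  Groth.Agent.Lib.Helper10.TorusQuot Groth.Agent.Lib.Helper10.MultTypeHom
  Groth.Agent.Lib.Helper10.FppfQuot Groth.Agent.Lib.Helper10.HomSp
  Groth.Agent.Lib.Helper10.TorusKer Groth.Agent.Lib.Helper10.TorusMax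
  Groth.Agent.Lib.Helper10.ClosedSubF

variable {S : Scheme.{u}} {G E₁ E₂ : Over S} [GrpObj G] [GrpObj E₁] [GrpObj E₂]
  {j₁ : E₁ ⟶ G} {j₂ : E₂ ⟶ G}

/-- two monomorphisms with the same points are isomorphic. -/
theorem iso_of_same_image {C : Type*} [Category C] {A A' Y : C} (i : A ⟶ Y) (i' : A' ⟶ Y)
    [Mono i] [Mono i']
    (h : ∀ (X : C) (x : X ⟶ Y), (∃ w : X ⟶ A, w ≫ i = x) ↔ ∃ w' : X ⟶ A', w' ≫ i' = x) :
    ∃ e : A ≅ A', e.hom ≫ i' = i := by
  obtain ⟨a, ha⟩ := (h A i).1 ⟨𝟙 _, Category.id_comp _⟩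
  obtain ⟨b, hb⟩ := (h A' i').2 ⟨𝟙 _, Category.id_comp _⟩
  refine ⟨⟨a, b, ?_, ?_⟩, ha⟩
  · rw [← cancel_mono i, Category.assoc, hb, ha, Category.id_comp]
  · rw [← cancel_mono i', Category.assoc, ha, hb, Category.id_comp]

/-- a point of `G.left` over `s` lies in the open chart of a local datum at `s`. -/
theorem mem_range_chart (U : S.Opens) (V : (U : Scheme.{u}).Opens) (x : G.left)
    (hxU : G.hom x ∈ U) (hxV : (⟨G.hom x, hxU⟩ : U) ∈ V) :
    x ∈ Set.range (pullback.fst (Red.bc U.ι G).hom V.ι ≫ pullback.fst G.hom U.ι) := by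
  have h1 : x ∈ Set.range (pullback.fst G.hom U.ι) := by
    rw [Scheme.Pullback.range_fst, Scheme.Opens.range_ι]
    exact hxU
  obtain ⟨y, rfl⟩ := h1
  have h2 : (Red.bc U.ι G).hom y = ⟨G.hom (pullback.fst G.hom U.ι y), hxU⟩ := by
    apply U.ι.injective
    change U.ι (pullback.snd G.hom U.ι y) = _
    rw [← Scheme.Hom.comp_apply, ← pullback.condition, Scheme.Hom.comp_apply]
    rfl
  have h3 : y ∈ Set.range (pullback.fst (Red.bc U.ι G).hom V.ι) := by
    rw [Scheme.Pullback.range_fst, Scheme.Opens.range_ι]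
    change (Red.bc U.ι G).hom y ∈ V
    rw [h2]
    exact hxV
  obtain ⟨z, rfl⟩ := h3
  exact ⟨z, rfl⟩

/-- **stage 2**: the image subfunctor is representable by a monomorphism. -/
theorem exists_repBy (hloc : ∀ s : S, LocData j₁ j₂ s) :
    ∃ (W : Scheme.{u}) (i : W ⟶ G.left), Mono i ∧ (imgSubF j₁ j₂).RepBy i := by
  refine MonoSubF.exists_repBy_of_good (imgSubF j₁ j₂) ?_ imgSubF_isZarLocal
  intro x
  obtain ⟨U, hsU, V, hV, r, mbar, hm1, hm2, hLR⟩ := hloc (G.hom x)
  let o : (Red.bc V.ι (Red.bc U.ι G)).left ⟶ G.left :=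
    pullback.fst (Red.bc U.ι G).hom V.ι ≫ pullback.fst G.hom U.ι
  haveI : IsOpenImmersion o := inferInstance
  have hxo : x ∈ o.opensRange := mem_range_chart U V x hsU hV
  have hgood : MonoSubF.Good (imgSubF j₁ j₂) o.opensRange := by
    haveI : Mono mbar.left := (Over.forget _).map_mono mbar
    refine ⟨(Red.DS (V : Scheme.{u}) (Fin r → ℤ)).left, mbar.left ≫ o.isoOpensRange.hom,
      mono_comp _ _, ?_⟩
    intro T t
    have e1 : t ≫ o.opensRange.ι = (t ≫ o.isoOpensRange.inv) ≫ o := by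
      rw [Category.assoc, Scheme.Hom.isoOpensRange_inv_comp]
    change (imgSubF j₁ j₂).P (t ≫ o.opensRange.ι) ↔ _
    rw [e1]
    change (imgSubF j₁ j₂).P ((t ≫ o.isoOpensRange.inv) ≫
      pullback.fst (Red.bc U.ι G).hom V.ι ≫ pullback.fst G.hom U.ι) ↔ _
    rw [hLR]
    constructor
    · rintro ⟨w, hw⟩
      refine ⟨w, ?_⟩
      rw [← Category.assoc, hw, Category.assoc, Iso.inv_hom_id, Category.comp_id]
    · rintro ⟨w, rfl⟩
      refine ⟨w, ?_⟩
      rw [Category.assoc, Category.assoc, Iso.hom_inv_id, Category.comp_id]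
  obtain ⟨(A : G.left.Opens), hA, hxA, hle⟩ :=
    TopologicalSpace.Opens.isBasis_iff_nbhd.mp G.left.isBasis_affineOpens hxo
  exact ⟨A, hA, hxA, hgood.of_le hle⟩

end Groth.Agent.Lib.Helper10.ImgSub
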