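import Mathlib
import Groth.Agent.Lib.Helper10.ImgSub6

/-!
# The join of two locally split subtori: group structure and local splitting
-/

set_option autoImplicit false
set_option linter.unusedSectionVars false
set_option linter.style.haveILetI false
set_option backward.isDefEq.respectTransparency.types false
set_option maxHeartbeats 4000000
set_option synthInstance.maxHeartbeats 400000
universe u
open CategoryTheory CategoryTheory.Limits AlgebraicGeometry Opposite MonoidalCategory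
  CartesianMonoidalCategory MonObj GrpObj

namespace Groth.Agent.Lib.Helper10.ImgSub

open Groth.Agent.Lib.Helper21.GaPts Groth.Agent.Lib.Helper10.FpqcLocus
  Groth.Agent.Lib.Helper10.MagnetQuot Groth.Agent.Lib.Helper10.DiagHomProps
  Groth.Agent.Lib.Helper10.HomFamBC Groth.Agent.Lib.Helper10.DiagHom
  Groth.Agent.Lib.Helper10.TorusQuot Groth.Agent.Lib.Helper10.MultTypeHom
  Groth.Agent.Lib.Helper10.FppfQuot Groth.Agent.Lib.Helper10.HomSp
  Groth.Agent.Lib.Helper10.TorusKer Groth.Agent.Lib.Helper10.TorusMax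
  Groth.Agent.Lib.Helper10.ClosedSubF Groth.Agent.Lib.Helper10.IdComp

variable {S : Scheme.{u}} {G E₁ E₂ : Over S} [GrpObj G] [GrpObj E₁] [GrpObj E₂]
  {j₁ : E₁ ⟶ G} {j₂ : E₂ ⟶ G}

section Rep

variable {W : Scheme.{u}} (i : W ⟶ G.left)

/-- the representing object, over `S`. -/
abbrev E3 : Over S := Over.mk (i ≫ G.hom)

/-- the inclusion of the representing object. -/
def j3 : E3 i ⟶ G := Over.homMk i rfl

instance mono_j3 [Mono i] : Mono (j3 i) := by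
  haveI : Mono ((Over.forget S).map (j3 i)) := ‹Mono i›
  exact (Over.forget S).mono_of_mono_map ‹_›

variable {i}

theorem repO (hrep : (imgSubF j₁ j₂).RepBy i) {X : Over S} (x : X ⟶ G) :
    (imgSubF j₁ j₂).P x.left ↔ ∃ w : X ⟶ E3 i, w ≫ j3 i = x := by
  constructor
  · intro h
    obtain ⟨w₀, hw₀⟩ := (hrep x.left).1 h
    refine ⟨Over.homMk w₀ ?_, Over.OverMorphism.ext hw₀⟩
    change w₀ ≫ i ≫ G.hom = X.hom
    rw [← Category.assoc, hw₀, Over.w]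
  · rintro ⟨w, rfl⟩
    exact (hrep _).2 ⟨w.left, rfl⟩

theorem exists_grpObj [Mono i] [IsMonHom j₁] [IsMonHom j₂]
    (hc : ∀ (X : Over S) (a b : X ⟶ G), a * b = b * a) (hrep : (imgSubF j₁ j₂).RepBy i) :
    ∃ (_ : GrpObj (E3 i)), IsMonHom (j3 i) := by
  have hself : ∀ {X : Over S} (w : X ⟶ E3 i), (imgSubF j₁ j₂).P (w ≫ j3 i).left :=
    fun w => (repO hrep _).2 ⟨w, rfl⟩
  obtain ⟨m, hm⟩ := (repO hrep ((fst (E3 i) (E3 i) ≫ j3 i) * (snd (E3 i) (E3 i) ≫ j3 i))).1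
    (P_mul hc (hself _) (hself _))
  obtain ⟨e, he⟩ := (repO hrep η[G]).1 (by
    rw [MonObj.one_eq_one]
    exact P_one)
  obtain ⟨v, hv⟩ := (repO hrep (j3 i ≫ ι[G])).1 (by
    rw [← Hom.inv_def]
    have h1 := hself (𝟙 (E3 i))
    rw [Category.id_comp] at h1
    exact P_inv hc h1)
  exact ⟨grpObjOfMono (j3 i) m hm e he v hv, isMonHom_ofMono (j3 i) m hm e he v hv⟩

end Rep

/-- the representing object of the image subfunctor is locally a split torus. -/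
theorem locally_split_of_locData {E₃ : Over S} [GrpObj E₃] (j₃ : E₃ ⟶ G) [IsMonHom j₃] [Mono j₃]
    (hrepO : ∀ (X : Over S) (x : X ⟶ G),
      (imgSubF j₁ j₂).P x.left ↔ ∃ w : X ⟶ E₃, w ≫ j₃ = x) (s : S) (hs : LocData j₁ j₂ s) :
    ∃ U : S.Opens, s ∈ U ∧ ∃ r : ℕ, Red.IsSplitTorusWith (Fin r → ℤ) (Red.bc U.ι E₃) := by
  obtain ⟨U, hsU, V, hV, r, mbar, hm1, hm2, hLR⟩ := hs
  haveI := hm1
  haveI := hm2
  let ii : Red.bc V.ι (Red.bc U.ι E₃) ⟶ Red.bc V.ι (Red.bc U.ι G) :=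
    (Over.pullback V.ι).map ((Over.pullback U.ι).map j₃)
  haveI : Mono ((Over.pullback U.ι).map j₃) := inferInstance
  haveI : Mono ii := inferInstance
  haveI : IsMonHom ((Over.pullback U.ι).map j₃) := inferInstance
  haveI : IsMonHom ii := inferInstance
  have hsame : ∀ (X'' : Over (V : Scheme.{u})) (x'' : X'' ⟶ Red.bc V.ι (Red.bc U.ι G)),
      (∃ w : X'' ⟶ Red.bc V.ι (Red.bc U.ι E₃), w ≫ ii = x'') ↔
        ∃ w' : X'' ⟶ Red.DS (V : Scheme.{u}) (Fin r → ℤ), w' ≫ mbar = x'' := by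
    intro X'' x''
    have h1 : (∃ w : X'' ⟶ Red.bc V.ι (Red.bc U.ι E₃), w ≫ ii = x'') ↔
        (imgSubF j₁ j₂).P (x''.left ≫ pullback.fst (Red.bc U.ι G).hom V.ι ≫
          pullback.fst G.hom U.ι) := by
      have e0 : (tr U.ι (tr V.ι x'')).left = x''.left ≫ pullback.fst (Red.bc U.ι G).hom V.ι ≫
          pullback.fst G.hom U.ι := by
        rw [tr_left, tr_left, Category.assoc]
      rw [← e0, hrepO]
      constructor
      · rintro ⟨w, rfl⟩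
        refine ⟨tr U.ι (tr V.ι w), ?_⟩
        rw [tr_comp_map, tr_comp_map]
      · rintro ⟨w₃, hw₃⟩
        refine ⟨trInv V.ι (trInv U.ι w₃), ?_⟩
        apply tr_injective V.ι
        apply tr_injective U.ι
        rw [tr_comp_map, tr_comp_map, tr_trInv, tr_trInv, hw₃]
    rw [h1, hLR]
    constructor
    · rintro ⟨w₀, hw₀⟩
      refine ⟨Over.homMk w₀ ?_, Over.OverMorphism.ext hw₀⟩
      have h2 := Over.w mbar
      have h3 := Over.w x''
      rw [← h2, ← Category.assoc, hw₀, h3]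
    · rintro ⟨w', rfl⟩
      exact ⟨w'.left, rfl⟩
  obtain ⟨e, he⟩ := iso_of_same_image ii mbar hsame
  haveI : IsMonHom e.hom := isMonHom_of_comp_mono e.hom mbar ii he
  have hψ : Red.IsSplitTorusWith (Fin r → ℤ) (Red.bc V.ι (Red.bc U.ι E₃)) := ⟨Grp.mkIso' e⟩
  refine ⟨U.ι ''ᵁ V, ⟨⟨s, hsU⟩, hV, rfl⟩, r, ?_⟩
  have hψ' : Red.IsSplitTorusWith (Fin r → ℤ) (Red.bc V.ι (Red.bc (U.ι ≫ 𝟙 S) E₃)) := by
    obtain ⟨ψ⟩ := hψ
    exact ⟨bcMapIso V.ι (bcCongrIso (Category.comp_id U.ι) E₃) ≪≫ ψ⟩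
  obtain ⟨ψ₂⟩ := split_image (𝟙 S) E₃ U V r hψ'
  exact ⟨bcCongrIso (Category.comp_id _).symm E₃ ≪≫ ψ₂⟩

/-- **locally split subtori of a group of multiplicative type form a directed family.** -/
theorem exists_join (hG : SGA3x.IsMultTypeFT G) (j₁ : E₁ ⟶ G) (j₂ : E₂ ⟶ G)
    [IsMonHom j₁] [IsMonHom j₂]
    (h₁ : ∀ s : ↥S, ∃ U : S.Opens, s ∈ U ∧ ∃ r : ℕ,
      Red.IsSplitTorusWith (Fin r → ℤ) (Red.bc U.ι E₁))
    (h₂ : ∀ s : ↥S, ∃ U : S.Opens, s ∈ U ∧ ∃ r : ℕ,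
      Red.IsSplitTorusWith (Fin r → ℤ) (Red.bc U.ι E₂)) :
    ∃ (E₃ : Over S) (_ : GrpObj E₃) (j₃ : E₃ ⟶ G) (g₁ : E₁ ⟶ E₃) (g₂ : E₂ ⟶ E₃),
      IsMonHom j₃ ∧ Mono j₃ ∧
      (∀ s : ↥S, ∃ U : S.Opens, s ∈ U ∧ ∃ r : ℕ,
        Red.IsSplitTorusWith (Fin r → ℤ) (Red.bc U.ι E₃)) ∧
      g₁ ≫ j₃ = j₁ ∧ g₂ ≫ j₃ = j₂ := by
  have hc := fun (X : Over S) (a b : X ⟶ G) => comm_of_isMultTypeFT hG a b
  have hloc := exists_locData (j₁ := j₁) (j₂ := j₂) hG h₁ h₂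
  obtain ⟨W, i, hi, hrep⟩ := exists_repBy hloc
  haveI := hi
  obtain ⟨grp, hj3⟩ := exists_grpObj hc hrep
  letI := grp
  haveI := hj3
  obtain ⟨g₁, hg₁⟩ := (repO hrep j₁).1 (by
    have h := P_left (j₁ := j₁) (j₂ := j₂) (𝟙 E₁)
    rwa [Category.id_comp] at h)
  obtain ⟨g₂, hg₂⟩ := (repO hrep j₂).1 (by
    have h := P_right (j₁ := j₁) (j₂ := j₂) (𝟙 E₂)
    rwa [Category.id_comp] at h)
  refine ⟨E3 i, grp, j3 i, g₁, g₂, hj3, inferInstance, ?_, hg₁, hg₂⟩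
  intro s
  exact locally_split_of_locData (j3 i) (fun X x => repO hrep x) s (hloc s)

end Groth.Agent.Lib.Helper10.ImgSub
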