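import Mathlib
import Groth.Prelude.Def_ProCons

/-!
# Ind-constructible sets contain locally closed neighbourhoods of their points
-/

set_option autoImplicit false
universe u
open Topology Set

namespace Groth.Agent.Lib.Helper10.IndCons

variable {X : Type*} [TopologicalSpace X]

/-- every point of a constructible set (resp. of its complement) has a locally closed
neighbourhood inside the set (resp. its complement). -/
theorem constructible_aux {s : Set X} (hs : IsConstructible s) :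
    (∀ x ∈ s, ∃ Z, IsLocallyClosed Z ∧ x ∈ Z ∧ Z ⊆ s) ∧
    (∀ x ∉ s, ∃ Z, IsLocallyClosed Z ∧ x ∈ Z ∧ Z ⊆ sᶜ) := by
  induction hs using IsConstructible.empty_union_induction with
  | open_retrocompact U hU _ =>
    exact ⟨fun x hx => ⟨U, hU.isLocallyClosed, hx, subset_rfl⟩,
      fun x hx => ⟨Uᶜ, hU.isClosed_compl.isLocallyClosed, hx, subset_rfl⟩⟩
  | union s _ t _ ihs iht =>
    refine ⟨fun x hx => ?_, fun x hx => ?_⟩
    · rcases hx with hx | hx
      · obtain ⟨Z, hZ, hxZ, hZs⟩ := ihs.1 x hx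
        exact ⟨Z, hZ, hxZ, hZs.trans subset_union_left⟩
      · obtain ⟨Z, hZ, hxZ, hZs⟩ := iht.1 x hx
        exact ⟨Z, hZ, hxZ, hZs.trans subset_union_right⟩
    · have hxs : x ∉ s := fun h => hx (Or.inl h)
      have hxt : x ∉ t := fun h => hx (Or.inr h)
      obtain ⟨Z₁, hZ₁, hxZ₁, hZs₁⟩ := ihs.2 x hxs
      obtain ⟨Z₂, hZ₂, hxZ₂, hZs₂⟩ := iht.2 x hxt
      refine ⟨Z₁ ∩ Z₂, hZ₁.inter hZ₂, ⟨hxZ₁, hxZ₂⟩, ?_⟩
      rintro y ⟨hy₁, hy₂⟩ (hy | hy)
      · exact hZs₁ hy₁ hy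
      · exact hZs₂ hy₂ hy
  | compl s _ ih =>
    refine ⟨fun x hx => ih.2 x hx, fun x hx => ?_⟩
    have hxs : x ∈ s := not_not.mp hx
    obtain ⟨Z, hZ, hxZ, hZs⟩ := ih.1 x hxs
    exact ⟨Z, hZ, hxZ, by rwa [compl_compl]⟩

theorem exists_locallyClosed_of_constructible {s : Set X} (hs : IsConstructible s) (x : X)
    (hx : x ∈ s) : ∃ Z, IsLocallyClosed Z ∧ x ∈ Z ∧ Z ⊆ s :=
  (constructible_aux hs).1 x hx

theorem image_val_locallyClosed {U : Set X} (hU : IsOpen U) {Z : Set ↥U} (hZ : IsLocallyClosed Z) :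
    IsLocallyClosed (Subtype.val '' Z) :=
  hZ.image IsInducing.subtypeVal (by
    rw [Subtype.range_coe]
    exact hU.isLocallyClosed)

theorem exists_locallyClosed_of_locallyConstructible {s : Set X} (hs : IsLocallyConstructible s)
    (x : X) (hx : x ∈ s) : ∃ Z, IsLocallyClosed Z ∧ x ∈ Z ∧ Z ⊆ s := by
  obtain ⟨U, hxU, hU, hc⟩ := hs x
  have hxU' : x ∈ U := mem_of_mem_nhds hxU
  obtain ⟨Z, hZ, hxZ, hZs⟩ := exists_locallyClosed_of_constructible hc ⟨x, hxU'⟩ hx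
  refine ⟨Subtype.val '' Z, image_val_locallyClosed hU hZ, ⟨⟨x, hxU'⟩, hxZ, rfl⟩, ?_⟩
  rintro _ ⟨y, hy, rfl⟩
  exact hZs hy

/-- every point of an ind-constructible set has a locally closed neighbourhood in the set. -/
theorem exists_locallyClosed_of_indConstructible {E : Set X} (hE : ProCons.IsIndConstructible E)
    (x : X) (hx : x ∈ E) : ∃ Z, IsLocallyClosed Z ∧ x ∈ Z ∧ Z ⊆ E := by
  obtain ⟨U, hU, hxU, S, hS, hES⟩ := hE x
  have hx' : (⟨x, hxU⟩ : ↥U) ∈ (Subtype.val ⁻¹' E : Set ↥U) := hx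
  rw [hES] at hx'
  obtain ⟨T, hTS, hxT⟩ := hx'
  obtain ⟨Z, hZ, hxZ, hZT⟩ := exists_locallyClosed_of_locallyConstructible (hS T hTS) ⟨x, hxU⟩ hxT
  refine ⟨Subtype.val '' Z, image_val_locallyClosed hU hZ, ⟨⟨x, hxU⟩, hxZ, rfl⟩, ?_⟩
  rintro _ ⟨y, hy, rfl⟩
  have : y ∈ (Subtype.val ⁻¹' E : Set ↥U) := by
    rw [hES]
    exact ⟨T, hTS, hZT hy⟩
  exact this

end Groth.Agent.Lib.Helper10.IndCons
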