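import Mathlib
import Groth.Agent.Lib.Helper6.TorsorProps
import Groth.Agent.Lib.Helper14.SchemeFieldStalk

/-!
# Torsors over a field under finite one-point groups: purely inseparable residue fields
-/

set_option autoImplicit false
set_option linter.unusedSectionVars false
set_option linter.style.haveILetI false
set_option maxHeartbeats 1000000
universe u
open CategoryTheory CategoryTheory.Limits AlgebraicGeometry Opposite MonoidalCategory
  CartesianMonoidalCategory MonObj GrpObj

namespace Groth.Agent.Lib.Helper10.InfTorsor

/-- if `f ≫ g` is universally injective and `f` is surjective, `g` is universally injective. -/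
theorem universallyInjective_of_comp {X Y Z : Scheme.{u}} (f : X ⟶ Y) (g : Y ⟶ Z) [Surjective f]
    [UniversallyInjective (f ≫ g)] : UniversallyInjective g := by
  rw [universallyInjective_eq]
  intro Y' Z' i₁ i₂ g' hpb
  have hpb' : IsPullback (pullback.snd f i₁) (pullback.fst f i₁) i₁ f :=
    (IsPullback.of_hasPullback f i₁).flip
  have hcomp : IsPullback (pullback.snd f i₁ ≫ g') (pullback.fst f i₁) i₂ (f ≫ g) :=
    hpb'.paste_horiz hpb
  have hinj : Function.Injective (pullback.snd f i₁ ≫ g') := by
    have h := ‹UniversallyInjective (f ≫ g)›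
    rw [universallyInjective_eq] at h
    exact h _ _ _ hcomp
  have hsurj : Function.Surjective (pullback.snd f i₁) :=
    (inferInstance : Surjective (pullback.snd f i₁)).surj
  intro a b hab
  obtain ⟨a', rfl⟩ := hsurj a
  obtain ⟨b', rfl⟩ := hsurj b
  congr 1
  apply hinj
  rw [Scheme.Hom.comp_apply, Scheme.Hom.comp_apply]
  exact hab

variable {K : Type u} [Field K]

instance : Nonempty ↥(Spec (CommRingCat.of K)) :=
  inferInstanceAs (Nonempty (PrimeSpectrum K))

instance : Subsingleton ↥(Spec (CommRingCat.of K)) :=
  inferInstanceAs (Subsingleton (PrimeSpectrum K))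

variable {G X : Over (Spec (CommRingCat.of K))} [GrpObj G]

/-- a one-point group scheme over a field is universally injective over the field. -/
theorem universallyInjective_of_subsingleton [Subsingleton ↥G.left] :
    UniversallyInjective G.hom := by
  let e : Spec (CommRingCat.of K) ⟶ G.left := η[G].left
  have he : e ≫ G.hom = 𝟙 _ := Over.w η[G]
  haveI : Surjective e := by
    obtain ⟨y⟩ := (inferInstance : Nonempty ↥(Spec (CommRingCat.of K)))
    exact ⟨fun x => ⟨y, Subsingleton.elim _ _⟩⟩
  haveI : UniversallyInjective (e ≫ G.hom) := by rw [he]; infer_instance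
  exact universallyInjective_of_comp e G.hom

/-- a finite connected group scheme over a field has one point. -/
theorem subsingleton_of_connected [IsFinite G.hom] [ConnectedSpace ↥G.left] :
    Subsingleton ↥G.left := by
  haveI : DiscreteTopology ↥G.left :=
    Groth.Agent.Lib.Helper14.AS.discreteTopology_of_lqf_field G.hom
  exact PreconnectedSpace.trivial_of_discrete

/-- torsors under a one-point group over a field are universally injective over the field. -/
theorem universallyInjective_torsor [Subsingleton ↥G.left] (a : AlgGrp.Action G X)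
    (ha : NonAbH1.IsTorsorFor Scheme.fpqcPrecoverage a) : UniversallyInjective X.hom :=
  Groth.Agent.Lib.Helper6.Torsor.of_isTorsorFor_fpqc (P := @UniversallyInjective) a ha
    universallyInjective_of_subsingleton

section Point

variable (q : X.left ⟶ Spec (CommRingCat.of K)) (x : X.left)

end Point

variable {Y : Scheme.{u}} (p : Y ⟶ Spec (CommRingCat.of K)) (x : Y)

/-- the structure map `K ⟶ κ(x)`. -/
noncomputable def alpha : CommRingCat.of K ⟶ Y.residueField x :=
  Spec.preimage (Y.fromSpecResidueField x ≫ p)

theorem specMap_alpha : Spec.map (alpha p x) = Y.fromSpecResidueField x ≫ p :=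
  Spec.map_preimage _

/-- `κ(x)` as a `K`-algebra. -/
noncomputable def algResidue : Algebra K (Y.residueField x) := (alpha p x).hom.toAlgebra

theorem algebraMap_algResidue :
    @algebraMap K (Y.residueField x) _ _ (algResidue p x) = (alpha p x).hom := rfl

/-- **the residue fields of a universally injective `K`-scheme are purely inseparable over `K`.** -/
theorem isPurelyInseparable_residue [UniversallyInjective p] :
    @IsPurelyInseparable K (Y.residueField x) _ _ (algResidue p x) := by
  letI := algResidue p x
  have h2 : ∀ (F : Type u) [Field F],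
      Function.Injective (fun g : Spec (CommRingCat.of F) ⟶ Y ↦ g ≫ p) :=
    ((tfae_universallyInjective p).out 0 1).mp ‹UniversallyInjective p›
  haveI : Nonempty (Y.residueField x →+* AlgebraicClosure (Y.residueField x)) :=
    ⟨algebraMap _ _⟩
  refine IsPurelyInseparable.of_injective_comp_algebraMap K (Y.residueField x)
    (AlgebraicClosure (Y.residueField x)) ?_
  intro f g hfg
  have hfg' : f.comp (alpha p x).hom = g.comp (alpha p x).hom := hfg
  have e1 : ∀ f : Y.residueField x →+* AlgebraicClosure (Y.residueField x),
      (Spec.map (CommRingCat.ofHom f) ≫ Y.fromSpecResidueField x) ≫ p =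
        Spec.map (CommRingCat.ofHom (f.comp (alpha p x).hom)) := by
    intro f
    rw [Category.assoc, ← specMap_alpha, ← Spec.map_comp]
    rfl
  have e2 := h2 (AlgebraicClosure (Y.residueField x)) (by
    change (Spec.map (CommRingCat.ofHom f) ≫ Y.fromSpecResidueField x) ≫ p =
      (Spec.map (CommRingCat.ofHom g) ≫ Y.fromSpecResidueField x) ≫ p
    rw [e1, e1, hfg'])
  have e3 : Spec.map (CommRingCat.ofHom f) = Spec.map (CommRingCat.ofHom g) :=
    (cancel_mono (Y.fromSpecResidueField x)).mp e2
  have e4 := Spec.map_injective e3
  exact congrArg CommRingCat.Hom.hom e4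

/-- a ring map out of the residue field compatible with `φ` gives a point over `φ`. -/
theorem hasSection_of_ringHom {K' : Type u} [Field K'] (φ : K →+* K')
    (ψ : Y.residueField x →+* K') (h : ψ.comp (alpha p x).hom = φ) :
    ∃ s : Spec (CommRingCat.of K') ⟶ Y, s ≫ p = Spec.map (CommRingCat.ofHom φ) := by
  refine ⟨Spec.map (CommRingCat.ofHom ψ) ≫ Y.fromSpecResidueField x, ?_⟩
  rw [Category.assoc, ← specMap_alpha, ← Spec.map_comp, ← h]
  rfl

/-- a point over `algebraMap K L₀` gives a `K`-embedding of the residue field at its image. -/
theorem exists_algHom_of_point {L₀ : Type u} [Field L₀] [Algebra K L₀]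
    (t : Spec (CommRingCat.of L₀) ⟶ Y)
    (ht : t ≫ p = Spec.map (CommRingCat.ofHom (algebraMap K L₀))) :
    ∃ β : Y.residueField (t (IsLocalRing.closedPoint L₀)) →+* L₀,
      β.comp (alpha p (t (IsLocalRing.closedPoint L₀))).hom = algebraMap K L₀ := by
  let β := Y.descResidueField (Scheme.stalkClosedPointTo t)
  have hβ : Spec.map β ≫ Y.fromSpecResidueField (t (IsLocalRing.closedPoint L₀)) = t :=
    Scheme.descResidueField_stalkClosedPointTo_fromSpecResidueField L₀ Y t
  refine ⟨β.hom, ?_⟩
  have e1 : Spec.map (alpha p (t (IsLocalRing.closedPoint L₀)) ≫ β) =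
      Spec.map (CommRingCat.ofHom (algebraMap K L₀)) := by
    rw [Spec.map_comp, specMap_alpha, ← Category.assoc, hβ, ht]
  have e2 := Spec.map_injective e1
  exact congrArg CommRingCat.Hom.hom e2

end Groth.Agent.Lib.Helper10.InfTorsor
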