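import Mathlib
import Groth.Agent.Lib.Helper10.InfTorsor1

/-!
# Rational points of universally injective schemes over a field
-/

set_option autoImplicit false
set_option linter.unusedSectionVars false
set_option linter.style.haveILetI false
set_option maxHeartbeats 1000000
universe u
open CategoryTheory CategoryTheory.Limits AlgebraicGeometry Opposite TensorProduct

namespace Groth.Agent.Lib.Helper10.InfTorsor

variable {K : Type u} [Field K] {Y : Scheme.{u}} (p : Y ⟶ Spec (CommRingCat.of K))

/-- a rational point from bijectivity of the structure map of a residue field. -/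
theorem hasSection_of_bijective (x : Y) (h : Function.Bijective (alpha p x).hom) :
    ∃ s : Spec (CommRingCat.of K) ⟶ Y, s ≫ p = 𝟙 _ := by
  let ε := RingEquiv.ofBijective (alpha p x).hom h
  obtain ⟨s, hs⟩ := hasSection_of_ringHom p x (RingHom.id K) ε.symm.toRingHom (by
    ext c
    change ε.symm ((alpha p x).hom c) = c
    exact ε.symm_apply_apply c)
  refine ⟨s, ?_⟩
  rw [hs]
  exact Spec.map_id _

/-- over a perfect field, universally injective nonempty schemes have a rational point. -/
theorem hasSection_of_perfect [PerfectField K] [UniversallyInjective p] (x : Y) :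
    ∃ s : Spec (CommRingCat.of K) ⟶ Y, s ≫ p = 𝟙 _ := by
  letI := algResidue p x
  haveI := isPurelyInseparable_residue p x
  obtain ⟨ψ⟩ : Nonempty (Y.residueField x →ₐ[K] K) := inferInstance
  obtain ⟨s, hs⟩ := hasSection_of_ringHom p x (RingHom.id K) ψ.toRingHom (by
    ext c
    exact ψ.commutes c)
  refine ⟨s, ?_⟩
  rw [hs]
  exact Spec.map_id _

/-- a point in a separable algebraic extension gives a rational point. -/
theorem hasSection_of_separable_point [UniversallyInjective p] {L₀ : Type u} [Field L₀]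
    [Algebra K L₀] [Algebra.IsSeparable K L₀]
    (t : Spec (CommRingCat.of L₀) ⟶ Y)
    (ht : t ≫ p = Spec.map (CommRingCat.ofHom (algebraMap K L₀))) :
    ∃ s : Spec (CommRingCat.of K) ⟶ Y, s ≫ p = 𝟙 _ := by
  obtain ⟨β, hβ⟩ := exists_algHom_of_point p t ht
  letI := algResidue p (t (IsLocalRing.closedPoint L₀))
  haveI := isPurelyInseparable_residue p (t (IsLocalRing.closedPoint L₀))
  let β' : Y.residueField (t (IsLocalRing.closedPoint L₀)) →ₐ[K] L₀ :=
    { β with commutes' := fun c => congrArg (fun f => f c) hβ }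
  haveI : Algebra.IsSeparable K (Y.residueField (t (IsLocalRing.closedPoint L₀))) :=
    Algebra.IsSeparable.of_algHom K _ β'
  have hb : Function.Bijective
      (algebraMap K (Y.residueField (t (IsLocalRing.closedPoint L₀)))) :=
    IsPurelyInseparable.bijective_algebraMap_of_isSeparable K _
  exact hasSection_of_bijective p (t (IsLocalRing.closedPoint L₀)) hb

/-- if `v ⊗ 1 = 1 ⊗ v` in `V ⊗ V` then `v` is a scalar. -/
theorem mem_range_of_tmul_eq {V : Type u} [Field V] [Algebra K V] (v : V)
    (h : v ⊗ₜ[K] (1 : V) = (1 : V) ⊗ₜ[K] v) : v ∈ (algebraMap K V).range := by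
  by_contra hv
  let W := V ⧸ (LinearMap.range (Algebra.linearMap K V))
  let π : V →ₗ[K] W := Submodule.mkQ _
  have hπv : π v ≠ 0 := by
    intro h0
    rw [Submodule.mkQ_apply, Submodule.Quotient.mk_eq_zero] at h0
    obtain ⟨c, hc⟩ := h0
    exact hv ⟨c, hc⟩
  obtain ⟨ψ, hψ⟩ : ∃ ψ : Module.Dual K W, ψ (π v) ≠ 0 := by
    by_contra hcon
    push Not at hcon
    exact hπv ((Module.forall_dual_apply_eq_zero_iff K (π v)).mp hcon)
  let φ : V →ₗ[K] K := ψ.comp π
  have hφ1 : φ 1 = 0 := by
    have : π 1 = 0 := by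
      rw [Submodule.mkQ_apply, Submodule.Quotient.mk_eq_zero]
      exact ⟨1, by simp⟩
    change ψ (π 1) = 0
    rw [this, map_zero]
  have hφv : φ v ≠ 0 := hψ
  have key := congrArg (TensorProduct.lid K V ∘ (LinearMap.rTensor V φ)) h
  simp only [Function.comp_apply, LinearMap.rTensor_tmul, TensorProduct.lid_tmul, hφ1,
    zero_smul] at key
  have : φ v = 0 := by
    by_contra hne
    have h1 : (1 : V) = (φ v)⁻¹ • (φ v • (1 : V)) := by
      rw [smul_smul, inv_mul_cancel₀ hne, one_smul]
    rw [key, smul_zero] at h1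
    exact one_ne_zero h1
  exact hφv this

/-- a point in an extension `L₀` with `L₀ ⊗ L₀` reduced gives a rational point. -/
theorem hasSection_of_reduced_point [UniversallyInjective p] {L₀ : Type u} [Field L₀]
    [Algebra K L₀] [IsReduced (L₀ ⊗[K] L₀)]
    (t : Spec (CommRingCat.of L₀) ⟶ Y)
    (ht : t ≫ p = Spec.map (CommRingCat.ofHom (algebraMap K L₀))) :
    ∃ s : Spec (CommRingCat.of K) ⟶ Y, s ≫ p = 𝟙 _ := by
  obtain ⟨β, hβ⟩ := exists_algHom_of_point p t ht
  letI := algResidue p (t (IsLocalRing.closedPoint L₀))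
  haveI := isPurelyInseparable_residue p (t (IsLocalRing.closedPoint L₀))
  refine hasSection_of_bijective p (t (IsLocalRing.closedPoint L₀))
    ⟨(alpha p (t (IsLocalRing.closedPoint L₀))).hom.injective, ?_⟩
  intro a
  let q := ringExpChar K
  obtain ⟨n, c, hc⟩ := IsPurelyInseparable.pow_mem K q a
  have hc' : (β a) ^ q ^ n = algebraMap K L₀ c := by
    rw [← map_pow, ← hc, ← hβ]
    rfl
  haveI : ExpChar (L₀ ⊗[K] L₀) q :=
    expChar_of_injective_algebraMap (algebraMap K (L₀ ⊗[K] L₀)).injective q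
  have hnil : ((β a) ⊗ₜ[K] (1 : L₀) - (1 : L₀) ⊗ₜ[K] (β a)) ^ q ^ n = 0 := by
    rw [sub_pow_expChar_pow, Algebra.TensorProduct.tmul_pow, Algebra.TensorProduct.tmul_pow,
      one_pow, hc', Algebra.algebraMap_eq_smul_one, TensorProduct.smul_tmul, sub_self]
  have hz : (β a) ⊗ₜ[K] (1 : L₀) - (1 : L₀) ⊗ₜ[K] (β a) = 0 :=
    IsReduced.eq_zero _ ⟨_, hnil⟩
  obtain ⟨c', hc'⟩ := mem_range_of_tmul_eq (β a) (sub_eq_zero.mp hz)
  refine ⟨c', ?_⟩
  apply β.injective
  rw [← hc', ← hβ]
  rfl

end Groth.Agent.Lib.Helper10.InfTorsor
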