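import Mathlib
import Groth.Agent.Lib.Helper10.InfTorsor2
import Groth.Agent.Lib.Helper20.UnramifiedOverField

/-!
# Étale-locally trivial schemes over a field have points in finite separable extensions
-/

set_option autoImplicit false
set_option linter.unusedSectionVars false
set_option linter.style.haveILetI false
set_option maxHeartbeats 1000000
universe u
open CategoryTheory CategoryTheory.Limits AlgebraicGeometry Opposite TensorProduct

namespace Groth.Agent.Lib.Helper10.InfTorsor

variable {K : Type u} [Field K]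

/-- an étale-locally trivial `K`-scheme has a point in a finite separable extension. -/
theorem exists_separable_point (X : Over (Spec (CommRingCat.of K)))
    (h : NonAbH1.IsLocallyTrivialFor Scheme.etalePrecoverage X) :
    ∃ (L₀ : Type u) (_ : Field L₀) (_ : Algebra K L₀) (_ : Algebra.IsSeparable K L₀)
      (t : Spec (CommRingCat.of L₀) ⟶ X.left),
      t ≫ X.hom = Spec.map (CommRingCat.ofHom (algebraMap K L₀)) := by
  obtain ⟨R, hR, hsec⟩ := h
  obtain ⟨E, rfl⟩ := R.exists_eq_preZeroHypercover
  have h3 := (Scheme.presieve₀_mem_precoverage_iff (P := @Etale) E).mp hR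
  obtain ⟨y⟩ := (inferInstance : Nonempty ↥(Spec (CommRingCat.of K)))
  obtain ⟨i, w, -⟩ := h3.1 y
  haveI : Etale (E.f i) := h3.2 i
  obtain ⟨s, hs⟩ := hsec (E.f i) ⟨i⟩
  obtain ⟨Idx, F, hF, hA, hprop, e, he⟩ :=
    Groth.Agent.Lib.Helper20.exists_iso_coprod_of_unramified K (E.f i)
  obtain ⟨j, z⟩ := (sigmaMk (fun j => Spec (CommRingCat.of (F j)))).symm (e.hom w)
  letI := hF j
  letI := hA j
  haveI := (hprop j).2
  refine ⟨F j, hF j, hA j, (hprop j).2,
    Sigma.ι (fun j => Spec (CommRingCat.of (F j))) j ≫ e.inv ≫ s, ?_⟩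
  rw [Category.assoc, Category.assoc, hs, ← he, Iso.inv_hom_id_assoc, Sigma.ι_desc]

end Groth.Agent.Lib.Helper10.InfTorsor
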