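import Mathlib
import Groth.Agent.Lib.Helper10.InfTorsor2

/-!
# Frobenius kills finite one-point group schemes over a field
-/

set_option autoImplicit false
set_option linter.unusedSectionVars false
set_option linter.style.haveILetI false
set_option maxHeartbeats 1000000
universe u
open CategoryTheory CategoryTheory.Limits AlgebraicGeometry Opposite MonoidalCategory
  CartesianMonoidalCategory MonObj GrpObj

namespace Groth.Agent.Lib.Helper10.InfTorsor

variable {K : Type u} [Field K]
variable {G : Over (Spec (CommRingCat.of K))} [GrpObj G]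

/-- uniform nilpotency of non-units in the coordinate ring of a finite one-point `K`-scheme. -/
theorem exists_pow_eq_zero [IsFinite G.hom] [Subsingleton ↥G.left] :
    ∃ N : ℕ, ∀ z : Γ(G.left, ⊤), ¬ IsUnit z → z ^ N = 0 := by
  haveI : IsAffine G.left := isAffine_of_isAffineHom G.hom
  have hfin : G.hom.appTop.hom.Finite := G.hom.finite_appTop
  haveI : IsNoetherianRing Γ(Spec (CommRingCat.of K), ⊤) :=
    isNoetherianRing_of_ringEquiv K
      (Scheme.ΓSpecIso (CommRingCat.of K)).symm.commRingCatIsoToRingEquiv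
  haveI : IsNoetherianRing Γ(G.left, ⊤) := by
    algebraize [G.hom.appTop.hom]
    exact IsNoetherianRing.of_finite Γ(Spec (CommRingCat.of K), ⊤) Γ(G.left, ⊤)
  haveI : Subsingleton (PrimeSpectrum Γ(G.left, ⊤)) :=
    G.left.isoSpec.hom.homeomorph.symm.injective.subsingleton
  obtain ⟨N, hN⟩ := IsNoetherianRing.isNilpotent_nilradical Γ(G.left, ⊤)
  refine ⟨N, fun z hz => ?_⟩
  have hmem : z ∈ nilradical Γ(G.left, ⊤) := by
    obtain ⟨m, hm, hzm⟩ := exists_max_ideal_of_mem_nonunits (mem_nonunits_iff.mpr hz)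
    rw [nilradical_eq_sInf, Ideal.mem_sInf]
    intro p hp
    have : (⟨p, hp⟩ : PrimeSpectrum Γ(G.left, ⊤)) = ⟨m, hm.isPrime⟩ := Subsingleton.elim _ _
    have hpm : p = m := congrArg PrimeSpectrum.asIdeal this
    rw [hpm]
    exact hzm
  have h1 : z ^ N ∈ nilradical Γ(G.left, ⊤) ^ N := Ideal.pow_mem_pow hmem N
  rw [hN] at h1
  exact h1

theorem appTop_specMap_iterateFrobenius (q : ℕ) (R' : Type u) [CommRing R'] [ExpChar R' q] (n : ℕ)
    (z : Γ(Spec (CommRingCat.of R'), ⊤)) :
    (Spec.map (CommRingCat.ofHom (iterateFrobenius R' q n))).appTop z = z ^ q ^ n := by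
  apply (Scheme.ΓSpecIso (CommRingCat.of R')).commRingCatIsoToRingEquiv.injective
  have h := congrArg (fun f => f.hom z)
    (Scheme.ΓSpecIso_naturality (CommRingCat.ofHom (iterateFrobenius R' q n)))
  simp only [CommRingCat.hom_comp, RingHom.comp_apply] at h
  change (Scheme.ΓSpecIso (CommRingCat.of R')).hom _ = (Scheme.ΓSpecIso (CommRingCat.of R')).hom _
  rw [map_pow]
  exact h

/-- **the `n`-fold Frobenius kills a finite one-point group scheme**, on points in rings of
characteristic exponent `q`. -/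
theorem frob_trivial (q : ℕ) [ExpChar K q] [IsFinite G.hom] [Subsingleton ↥G.left] (N : ℕ)
    (hN : ∀ z : Γ(G.left, ⊤), ¬ IsUnit z → z ^ N = 0) (n : ℕ) (hn : N ≤ q ^ n)
    (R' : Type u) [CommRing R'] [ExpChar R' q] (g : Spec (CommRingCat.of R') ⟶ G.left) :
    Spec.map (CommRingCat.ofHom (iterateFrobenius R' q n)) ≫ g =
      Spec.map (CommRingCat.ofHom (iterateFrobenius R' q n)) ≫ g ≫ G.hom ≫ η[G].left := by
  haveI : IsAffine G.left := isAffine_of_isAffineHom G.hom
  let e : Spec (CommRingCat.of K) ⟶ G.left := η[G].left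
  have he : e ≫ G.hom = 𝟙 _ := Over.w η[G]
  have he' : ∀ y, e.appTop (G.hom.appTop y) = y := by
    intro y
    have := congrArg (fun f => f.hom y) (congrArg Scheme.Hom.appTop he)
    simpa using this
  -- the coordinate ring has characteristic exponent `q`
  haveI : Nontrivial Γ(G.left, ⊤) := by
    refine ⟨⟨0, 1, fun h01 => ?_⟩⟩
    have := congrArg e.appTop h01
    rw [map_zero, map_one] at this
    have hnt : Nontrivial Γ(Spec (CommRingCat.of K), ⊤) :=
      (Scheme.ΓSpecIso (CommRingCat.of K)).commRingCatIsoToRingEquiv.nontrivial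
    exact zero_ne_one this
  let κ : K →+* Γ(G.left, ⊤) :=
    G.hom.appTop.hom.comp (Scheme.ΓSpecIso (CommRingCat.of K)).inv.hom
  haveI : ExpChar Γ(G.left, ⊤) q := expChar_of_injective_ringHom κ.injective q
  apply ext_of_isAffine
  ext b
  simp only [Scheme.Hom.comp_appTop, CommRingCat.hom_comp, RingHom.comp_apply]
  rw [appTop_specMap_iterateFrobenius, appTop_specMap_iterateFrobenius, ← map_pow, ← map_pow]
  congr 1
  -- `b ^ q ^ n = (θ b) ^ q ^ n`
  have hz : ¬ IsUnit (b - G.hom.appTop (e.appTop b)) := by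
    intro hu
    have h0 : e.appTop (b - G.hom.appTop (e.appTop b)) = 0 := by
      rw [map_sub, he', sub_self]
    have := hu.map e.appTop.hom
    rw [show e.appTop.hom (b - G.hom.appTop (e.appTop b)) = 0 from h0] at this
    have hnt : Nontrivial Γ(Spec (CommRingCat.of K), ⊤) :=
      (Scheme.ΓSpecIso (CommRingCat.of K)).commRingCatIsoToRingEquiv.nontrivial
    exact not_isUnit_zero this
  have h1 : (b - G.hom.appTop (e.appTop b)) ^ q ^ n = 0 :=
    pow_eq_zero_of_le hn (hN _ hz)
  rw [sub_pow_expChar_pow, sub_eq_zero] at h1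
  exact h1

end Groth.Agent.Lib.Helper10.InfTorsor
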