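import Mathlib
import Groth.Agent.Lib.Helper10.DescTorsor4
import Groth.Agent.Lib.Helper10.TorsorSeries1
import Groth.Agent.Lib.Helper10.TorsorIso1
import Groth.Agent.Lib.Helper10.FpqcBal1
import Groth.Agent.Lib.Helper6.TorsorProps
import Groth.Agent.S0084

/-!
# The scheme of equivariant isomorphisms of two torsors, as the quotient `(P₁ × P₂)/G`
-/

set_option autoImplicit false
set_option linter.unusedSectionVars false
set_option linter.style.haveILetI false
set_option backward.isDefEq.respectTransparency.types false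
set_option maxHeartbeats 4000000
set_option synthInstance.maxHeartbeats 400000
universe u
open CategoryTheory CategoryTheory.Limits AlgebraicGeometry Opposite MonoidalCategory
  CartesianMonoidalCategory MonObj GrpObj

namespace Groth.Agent.Lib.Helper10.IsomSch

variable {S : Scheme.{u}} {G P₁ P₂ : Over S} [GrpObj G]
  (a₁ : AlgGrp.Action G P₁) (a₂ : AlgGrp.Action G P₂)

theorem toUnit_left (X : Over S) : (toUnit X).left = X.hom := by
  have := Over.w (toUnit X)
  rw [← this]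
  exact (Category.comp_id _).symm

/-- **The Isom scheme** `I = (P₁ × P₂)/G` (diagonal action), with `P₁ × P₂ = P₁ × I`. -/
theorem exists_isom (h₁ : NonAbH1.IsTorsorFor Scheme.fpqcPrecoverage a₁) [Flat G.hom]
    [QuasiCompact G.hom] [IsAffineHom P₂.hom] :
    ∃ (I : Over S) (q : P₁ ⊗ P₂ ⟶ I),
      (a₁.prod a₂).act ≫ q = snd G (P₁ ⊗ P₂) ≫ q ∧
      IsPullback (fst P₁ P₂) q (toUnit P₁) (toUnit I) := by
  haveI := Groth.Agent.Lib.Helper6.Torsor.surjective_hom_of_grpObj (G := G)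
  haveI : Flat P₁.hom := Groth.Agent.Lib.Helper6.Torsor.flat_of_isTorsorFor_fpqc a₁ h₁
  haveI : QuasiCompact P₁.hom :=
    Groth.Agent.Lib.Helper6.Torsor.quasiCompact_of_isTorsorFor_fpqc a₁ h₁
  haveI : Surjective P₁.hom :=
    Groth.Agent.Lib.Helper6.Torsor.surjective_of_isTorsorFor_fpqc a₁ h₁
  haveI : Flat (toUnit P₁).left := by rw [toUnit_left]; infer_instance
  haveI : QuasiCompact (toUnit P₁).left := by rw [toUnit_left]; infer_instance
  haveI : Surjective (toUnit P₁).left := by rw [toUnit_left]; infer_instance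
  haveI hpr : IsAffineHom (fst P₁ P₂).left := by
    change IsAffineHom (pullback.fst P₁.hom P₂.hom)
    exact MorphismProperty.pullback_fst (P := @IsAffineHom) P₁.hom P₂.hom inferInstance
  have hcart := Groth.Agent.Lib.Helper10.TorsorSeries.isPullback_toUnit_of_isIso a₁ h₁.1
  have hsq : IsPullback a₁.act.left (snd G P₁).left (toUnit P₁).left (toUnit P₁).left :=
    hcart.map (Over.forget _)
  have heq : (a₁.prod a₂).act ≫ fst P₁ P₂ = (G ◁ fst P₁ P₂) ≫ a₁.act := by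
    rw [AlgGrp.Action.prod_act, lift_fst]
  obtain ⟨W, φ, ψ, hinv, hpb⟩ := Groth.Agent.Lib.Helper10.DescTorsor.exists_quotient_over a₁
    (toUnit P₁) (a₁.prod a₂) (fst P₁ P₂) hsq heq
  have hψ : ψ = toUnit W := toUnit_unique _ _
  subst hψ
  exact ⟨W, φ, hinv, Groth.Agent.Lib.Helper10.DescTorsor.isPullback_over_of_left hpb⟩

variable {I : Over S} (q : P₁ ⊗ P₂ ⟶ I)
  (hinv : (a₁.prod a₂).act ≫ q = snd G (P₁ ⊗ P₂) ≫ q)
  (hpb : IsPullback (fst P₁ P₂) q (toUnit P₁) (toUnit I))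

include hpb in
/-- finiteness of the Isom scheme. -/
theorem isFinite_isom (h₁ : NonAbH1.IsTorsorFor Scheme.fpqcPrecoverage a₁) [Flat G.hom]
    [QuasiCompact G.hom] [IsFinite P₂.hom] : IsFinite I.hom := by
  haveI := Groth.Agent.Lib.Helper6.Torsor.surjective_hom_of_grpObj (G := G)
  haveI : Flat P₁.hom := Groth.Agent.Lib.Helper6.Torsor.flat_of_isTorsorFor_fpqc a₁ h₁
  haveI : QuasiCompact P₁.hom :=
    Groth.Agent.Lib.Helper6.Torsor.quasiCompact_of_isTorsorFor_fpqc a₁ h₁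
  haveI : Surjective P₁.hom :=
    Groth.Agent.Lib.Helper6.Torsor.surjective_of_isTorsorFor_fpqc a₁ h₁
  have hsq : IsPullback (fst P₁ P₂).left q.left (toUnit P₁).left (toUnit I).left :=
    hpb.map (Over.forget _)
  rw [toUnit_left, toUnit_left] at hsq
  have := Groth.Agent.S0084.result.{u}
  have hfin : IsFinite (fst P₁ P₂).left := by
    change IsFinite (pullback.fst P₁.hom P₂.hom)
    exact MorphismProperty.pullback_fst (P := @IsFinite) P₁.hom P₂.hom inferInstance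
  exact MorphismProperty.DescendsAlong.of_isPullback (P := @IsFinite)
    (Q := (@Surjective ⊓ @Flat ⊓ @QuasiCompact : MorphismProperty Scheme.{u})) hsq
    ⟨⟨inferInstance, inferInstance⟩, inferInstance⟩ hfin

include hinv hpb in
/-- a section of the Isom scheme gives an equivariant morphism. -/
theorem exists_equivariant_of_section (s : 𝟙_ (Over S) ⟶ I) :
    ∃ θ : P₁ ⟶ P₂, AlgGrp.Action.IsEquivariant a₁ a₂ θ := by
  obtain ⟨σ, hσ1, hσ2⟩ : ∃ σ : P₁ ⟶ P₁ ⊗ P₂, σ ≫ fst P₁ P₂ = 𝟙 P₁ ∧ σ ≫ q = toUnit P₁ ≫ s :=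
    ⟨hpb.lift (𝟙 P₁) (toUnit P₁ ≫ s) (toUnit_unique _ _), hpb.lift_fst _ _ _, hpb.lift_snd _ _ _⟩
  have key : a₁.act ≫ σ = (G ◁ σ) ≫ (a₁.prod a₂).act := by
    apply hpb.hom_ext
    · rw [Category.assoc, hσ1, Category.comp_id, Category.assoc, AlgGrp.Action.prod_act, lift_fst,
        ← MonoidalCategory.whiskerLeft_comp_assoc, hσ1, MonoidalCategory.whiskerLeft_id,
        Category.id_comp]
    · have e1 : (G ◁ σ) ≫ snd G (P₁ ⊗ P₂) = snd G P₁ ≫ σ := whiskerLeft_snd _ _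
      have e2 : a₁.act ≫ toUnit P₁ = snd G P₁ ≫ toUnit P₁ := toUnit_unique _ _
      calc (a₁.act ≫ σ) ≫ q = a₁.act ≫ (σ ≫ q) := Category.assoc _ _ _
        _ = (a₁.act ≫ toUnit P₁) ≫ s := by rw [hσ2, Category.assoc]
        _ = (snd G P₁ ≫ toUnit P₁) ≫ s := by rw [e2]
        _ = snd G P₁ ≫ (σ ≫ q) := by rw [hσ2, Category.assoc]
        _ = ((G ◁ σ) ≫ snd G (P₁ ⊗ P₂)) ≫ q := by rw [e1, Category.assoc]
        _ = (G ◁ σ) ≫ (a₁.prod a₂).act ≫ q := by rw [hinv, Category.assoc]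
        _ = ((G ◁ σ) ≫ (a₁.prod a₂).act) ≫ q := (Category.assoc _ _ _).symm
  refine ⟨σ ≫ snd P₁ P₂, ?_⟩
  change a₁.act ≫ σ ≫ snd P₁ P₂ = (G ◁ (σ ≫ snd P₁ P₂)) ≫ a₂.act
  rw [← Category.assoc, key, Category.assoc, AlgGrp.Action.prod_act, lift_snd,
    MonoidalCategory.whiskerLeft_comp, Category.assoc]

end Groth.Agent.Lib.Helper10.IsomSch
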