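import Mathlib
import Groth.Agent.Lib.Helper10.InfTorsor4
import Groth.Agent.Lib.Helper10.GaTorsor1
import Groth.Agent.Lib.Helper10.IsomSch1

/-!
# Torsors under finite one-point groups over a field become trivial after a uniform Frobenius
-/

set_option autoImplicit false
set_option linter.unusedSectionVars false
set_option linter.style.haveILetI false
set_option maxHeartbeats 1000000
universe u
open CategoryTheory CategoryTheory.Limits AlgebraicGeometry Opposite MonoidalCategory
  CartesianMonoidalCategory MonObj GrpObj TensorProduct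

namespace Groth.Agent.Lib.Helper10.InfTorsor

open Groth.Agent.Lib.Helper10.HomSp Groth.Agent.Lib.Helper10.GaTorsor

variable {K : Type u} [Field K]
variable {G X : Over (Spec (CommRingCat.of K))} [GrpObj G]

/-- two points of a pseudo-torsor over the same base point agree after the Frobenius that kills
the group. -/
theorem frob_comp_eq (q : ℕ) [ExpChar K q] [IsFinite G.hom] [Subsingleton ↥G.left]
    (a : AlgGrp.Action G X) (ha : NonAbH1.IsPseudoTorsorSch a) (N : ℕ)
    (hN : ∀ z : Γ(G.left, ⊤), ¬ IsUnit z → z ^ N = 0) (n : ℕ) (hn : N ≤ q ^ n)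
    (R' : Type u) [CommRing R'] [ExpChar R' q] (t₁ t₂ : Spec (CommRingCat.of R') ⟶ X.left)
    (h12 : t₁ ≫ X.hom = t₂ ≫ X.hom) :
    Spec.map (CommRingCat.ofHom (iterateFrobenius R' q n)) ≫ t₁ =
      Spec.map (CommRingCat.ofHom (iterateFrobenius R' q n)) ≫ t₂ := by
  let F := Spec.map (CommRingCat.ofHom (iterateFrobenius R' q n))
  let T : Over (Spec (CommRingCat.of K)) := Over.mk (t₁ ≫ X.hom)
  let t₁' : T ⟶ X := Over.homMk t₁ rfl
  let t₂' : T ⟶ X := Over.homMk t₂ h12.symm
  let g : T ⟶ G := diff a ha t₁' t₂'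
  have hg : smul a g t₂' = t₁' := diff_smul a ha t₁' t₂'
  let T' : Over (Spec (CommRingCat.of K)) := Over.mk (F ≫ t₁ ≫ X.hom)
  let Fm : T' ⟶ T := Over.homMk F rfl
  have h1 : Fm ≫ g = (1 : T' ⟶ G) := by
    rw [Hom.one_def]
    apply Over.OverMorphism.ext
    change F ≫ g.left = (toUnit T').left ≫ η[G].left
    rw [frob_trivial q N hN n hn R' g.left, Groth.Agent.Lib.Helper10.IsomSch.toUnit_left]
    have hw : g.left ≫ G.hom = t₁ ≫ X.hom := Over.w g
    rw [← Category.assoc g.left, hw]
    simp only [Category.assoc]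
    rfl
  have h2 : Fm ≫ t₁' = Fm ≫ t₂' := by
    rw [← hg, comp_smul, h1, HomSp.one_smul]
  exact congrArg (fun f => f.left) h2

/-- **uniform exponent**: the residue field of a torsor is killed into `K` by a Frobenius power
depending only on the group. -/
theorem pow_mem_range (q : ℕ) [ExpChar K q] [IsFinite G.hom] [Subsingleton ↥G.left]
    (a : AlgGrp.Action G X) (ha : NonAbH1.IsPseudoTorsorSch a) (N : ℕ)
    (hN : ∀ z : Γ(G.left, ⊤), ¬ IsUnit z → z ^ N = 0) (n : ℕ) (hn : N ≤ q ^ n)
    (x : X.left) (c : X.left.residueField x) :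
    c ^ q ^ n ∈ (alpha X.hom x).hom.range := by
  letI := algResidue X.hom x
  let L := X.left.residueField x
  haveI : ExpChar (L ⊗[K] L) q :=
    expChar_of_injective_algebraMap (algebraMap K (L ⊗[K] L)).injective q
  let i₁ : L →+* L ⊗[K] L := (Algebra.TensorProduct.includeLeft : L →ₐ[K] L ⊗[K] L).toRingHom
  let i₂ : L →+* L ⊗[K] L := (Algebra.TensorProduct.includeRight : L →ₐ[K] L ⊗[K] L).toRingHom
  let t₁ : Spec (CommRingCat.of (L ⊗[K] L)) ⟶ X.left :=
    Spec.map (CommRingCat.ofHom i₁) ≫ X.left.fromSpecResidueField x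
  let t₂ : Spec (CommRingCat.of (L ⊗[K] L)) ⟶ X.left :=
    Spec.map (CommRingCat.ofHom i₂) ≫ X.left.fromSpecResidueField x
  have h12 : t₁ ≫ X.hom = t₂ ≫ X.hom := by
    change (Spec.map (CommRingCat.ofHom i₁) ≫ X.left.fromSpecResidueField x) ≫ X.hom =
      (Spec.map (CommRingCat.ofHom i₂) ≫ X.left.fromSpecResidueField x) ≫ X.hom
    rw [Category.assoc, Category.assoc, ← specMap_alpha, ← Spec.map_comp, ← Spec.map_comp]
    congr 1
    ext k
    change i₁ (algebraMap K L k) = i₂ (algebraMap K L k)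
    change (algebraMap K L k) ⊗ₜ[K] (1 : L) = (1 : L) ⊗ₜ[K] (algebraMap K L k)
    rw [Algebra.algebraMap_eq_smul_one, TensorProduct.smul_tmul]
  have key := frob_comp_eq q a ha N hN n hn (L ⊗[K] L) t₁ t₂ h12
  change Spec.map (CommRingCat.ofHom (iterateFrobenius (L ⊗[K] L) q n)) ≫
      Spec.map (CommRingCat.ofHom i₁) ≫ X.left.fromSpecResidueField x =
    Spec.map (CommRingCat.ofHom (iterateFrobenius (L ⊗[K] L) q n)) ≫
      Spec.map (CommRingCat.ofHom i₂) ≫ X.left.fromSpecResidueField x at key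
  rw [← Category.assoc, ← Category.assoc, cancel_mono, ← Spec.map_comp, ← Spec.map_comp] at key
  have key2 := congrArg (fun f => f.hom c) (Spec.map_injective key)
  have key3 : (c ⊗ₜ[K] (1 : L)) ^ q ^ n = ((1 : L) ⊗ₜ[K] c) ^ q ^ n := key2
  rw [Algebra.TensorProduct.tmul_pow, Algebra.TensorProduct.tmul_pow, one_pow] at key3
  exact mem_range_of_tmul_eq (c ^ q ^ n) key3

/-- **points over the Frobenius twist**. -/
theorem hasSection_frobenius (q : ℕ) [ExpChar K q] (p : X.left ⟶ Spec (CommRingCat.of K))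
    (hp : p = X.hom) (n : ℕ) (x : X.left)
    (h : ∀ c : X.left.residueField x, c ^ q ^ n ∈ (alpha X.hom x).hom.range) :
    ∃ s : Spec (CommRingCat.of K) ⟶ X.left,
      s ≫ X.hom = Spec.map (CommRingCat.ofHom (iterateFrobenius K q n)) := by
  let L := X.left.residueField x
  let αh : K →+* L := (alpha X.hom x).hom
  haveI : ExpChar L q := expChar_of_injective_ringHom αh.injective q
  let ε : K ≃+* αh.range := RingEquiv.ofBijective αh.rangeRestrict
    ⟨fun k₁ k₂ hk => αh.injective (congrArg Subtype.val hk), αh.rangeRestrict_surjective⟩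
  let ψ : L →+* K := ε.symm.toRingHom.comp ((iterateFrobenius L q n).codRestrict αh.range h)
  refine hasSection_of_ringHom X.hom x (iterateFrobenius K q n) ψ ?_
  ext k
  change ε.symm ⟨(αh k) ^ q ^ n, _⟩ = k ^ q ^ n
  rw [RingEquiv.symm_apply_eq]
  apply Subtype.ext
  change (αh k) ^ q ^ n = αh (k ^ q ^ n)
  rw [map_pow]

end Groth.Agent.Lib.Helper10.InfTorsor
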