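import Mathlib
import Groth.Agent.Lib.Helper10.ImgSub7

/-!
# The greatest locally split subtorus of a group of multiplicative type over a connected base
-/

set_option autoImplicit false
set_option linter.unusedSectionVars false
set_option linter.style.haveILetI false
set_option backward.isDefEq.respectTransparency.types false
set_option maxHeartbeats 4000000
set_option synthInstance.maxHeartbeats 400000
universe u
open CategoryTheory CategoryTheory.Limits AlgebraicGeometry Opposite MonoidalCategory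
  CartesianMonoidalCategory MonObj GrpObj

namespace Groth.Agent.Lib.Helper10.TorusLoc

open Groth.Agent.Lib.Helper21.GaPts Groth.Agent.Lib.Helper10.FpqcLocus
  Groth.Agent.Lib.Helper10.MagnetQuot Groth.Agent.Lib.Helper10.DiagHomProps
  Groth.Agent.Lib.Helper10.HomFamBC Groth.Agent.Lib.Helper10.DiagHom
  Groth.Agent.Lib.Helper10.TorusQuot Groth.Agent.Lib.Helper10.MultTypeHom
  Groth.Agent.Lib.Helper10.FppfQuot Groth.Agent.Lib.Helper10.HomSp
  Groth.Agent.Lib.Helper10.TorusKer Groth.Agent.Lib.Helper10.TorusMax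
  Groth.Agent.Lib.Helper10.ImgSub

variable {S : Scheme.{u}}

/-- a locally split group, with locally constant ranks. -/
def LocSplit (X : Over S) [GrpObj X] : Prop :=
  ∀ s : ↥S, ∃ U : S.Opens, s ∈ U ∧ ∃ r : ℕ, Red.IsSplitTorusWith (Fin r → ℤ) (Red.bc U.ι X)

/-- a locally split group of constant rank `r`. -/
def LocSplitR (X : Over S) [GrpObj X] (r : ℕ) : Prop :=
  ∀ s : ↥S, ∃ U : S.Opens, s ∈ U ∧ Red.IsSplitTorusWith (Fin r → ℤ) (Red.bc U.ι X)

theorem split_restrict {X : Over S} [GrpObj X] {U U' : S.Opens} (hle : U' ≤ U) {r : ℕ}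
    (h : Red.IsSplitTorusWith (Fin r → ℤ) (Red.bc U.ι X)) :
    Red.IsSplitTorusWith (Fin r → ℤ) (Red.bc U'.ι X) := by
  obtain ⟨φ⟩ := h
  exact ⟨trivIso X U.ι (S.homOfLE hle) U'.ι (Scheme.homOfLE_ι S hle).symm _ φ⟩

theorem rank_unique {B : Scheme.{u}} [Nonempty B] {Y : Over B} [GrpObj Y] {a b : ℕ}
    (ha : Red.IsSplitTorusWith (Fin a → ℤ) Y) (hb : Red.IsSplitTorusWith (Fin b → ℤ) Y) :
    a = b := by
  haveI : IsMonHom (𝟙 Y) := inferInstance
  exact le_antisymm (rank_le_of_mono a b ha hb (𝟙 Y)) (rank_le_of_mono b a hb ha (𝟙 Y))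

theorem LocSplitR.locSplit {X : Over S} [GrpObj X] {r : ℕ} (h : LocSplitR X r) : LocSplit X :=
  fun s => by
    obtain ⟨U, hU, hr⟩ := h s
    exact ⟨U, hU, r, hr⟩

/-- over a connected base the rank of a locally split group is constant. -/
theorem exists_const_rank [ConnectedSpace ↥S] {X : Over S} [GrpObj X] (h : LocSplit X) :
    ∃ r : ℕ, LocSplitR X r := by
  choose U hU rk hrk using h
  have hlc : IsLocallyConstant rk := by
    rw [IsLocallyConstant.iff_exists_open]
    intro x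
    refine ⟨U x, (U x).2, hU x, ?_⟩
    intro x' hx'
    let U'' : S.Opens := U x ⊓ U x'
    haveI : Nonempty (U'' : Scheme.{u}) := ⟨⟨x', hx', hU x'⟩⟩
    exact rank_unique (split_restrict (inf_le_right : U'' ≤ U x') (hrk x'))
      (split_restrict (inf_le_left : U'' ≤ U x) (hrk x))
  obtain ⟨s₀⟩ : Nonempty S := inferInstance
  refine ⟨rk s₀, fun s => ⟨U s, hU s, ?_⟩⟩
  have h1 : rk s = rk s₀ := hlc.apply_eq_of_preconnectedSpace s s₀
  rw [← h1]
  exact hrk s

/-- a monomorphism which is an isomorphism locally on the base is an isomorphism. -/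
theorem isIso_of_locally_iso {T E : Over S} (g : T ⟶ E) [Mono g]
    (h : ∀ s : S, ∃ U : S.Opens, s ∈ U ∧ IsIso ((Over.pullback U.ι).map g)) : IsIso g := by
  apply isIso_of_mono_of_local_sections
  intro p
  obtain ⟨U, hsU, hiso⟩ := h (E.hom p)
  haveI := hiso
  let X : Over S := (Over.map U.ι).obj (Red.bc U.ι E)
  let c : X ⟶ E := tr U.ι (𝟙 (Red.bc U.ι E))
  have hcl : c.left = pullback.fst E.hom U.ι := by
    rw [tr_left, Over.id_left]
    exact Category.id_comp _
  haveI : IsOpenImmersion c.left := by rw [hcl]; infer_instance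
  let aX : X ⟶ T := tr U.ι (inv ((Over.pullback U.ι).map g))
  have haX : aX ≫ g = c := by
    rw [← tr_comp_map, IsIso.inv_hom_id]
  have hp : p ∈ c.left.opensRange := by
    change p ∈ Set.range c.left
    rw [hcl, Scheme.Pullback.range_fst, Scheme.Opens.range_ι]
    exact hsU
  refine ⟨c.left.opensRange, hp, ?_⟩
  have hw : (c.left.isoOpensRange.inv ≫ aX.left) ≫ T.hom = c.left.opensRange.ι ≫ E.hom := by
    rw [Category.assoc, Over.w aX, ← Over.w c, ← Category.assoc,
      Scheme.Hom.isoOpensRange_inv_comp]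
  refine ⟨Over.homMk (c.left.isoOpensRange.inv ≫ aX.left) hw, ?_⟩
  apply Over.OverMorphism.ext
  change (c.left.isoOpensRange.inv ≫ aX.left) ≫ g.left = c.left.opensRange.ι
  rw [Category.assoc, ← Over.comp_left, haX, Scheme.Hom.isoOpensRange_inv_comp]

/-- the ranks of locally split subtori of a group of multiplicative type are bounded. -/
theorem exists_rank_bound_local {G : Over S} [GrpObj G] (hG : SGA3x.IsMultTypeFT G) (s₀ : S) :
    ∃ R : ℕ, ∀ (U : S.Opens) (_ : s₀ ∈ U) (r : ℕ) (T : Over S) [GrpObj T] (j : T ⟶ G)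
      [IsMonHom j] [Mono j], Red.IsSplitTorusWith (Fin r → ℤ) (Red.bc U.ι T) → r ≤ R := by
  obtain ⟨S', f, hfl, hsurj, hcov, hloc⟩ := hG
  obtain ⟨s₀', rfl⟩ := hsurj.surj s₀
  obtain ⟨U', hU', M, _, hM, ⟨φ⟩⟩ := hloc s₀'
  haveI : Module.Finite ℤ M := Module.Finite.iff_addGroup_fg.mpr hM
  refine ⟨Module.finrank ℤ M, ?_⟩
  intro U hsU r T _ j _ _ ⟨φT⟩
  let U'' : S'.Opens := U' ⊓ f ⁻¹ᵁ U
  have hs'' : s₀' ∈ U'' := ⟨hU', hsU⟩
  let g'' : (U'' : Scheme.{u}) ⟶ S := U''.ι ≫ f
  have hr : Set.range g'' ⊆ Set.range U.ι := by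
    rintro _ ⟨y, rfl⟩
    rw [Scheme.Opens.range_ι]
    exact y.2.2
  let k : (U'' : Scheme.{u}) ⟶ (U : Scheme.{u}) := IsOpenImmersion.lift U.ι g'' hr
  have hk : g'' = k ≫ U.ι := (IsOpenImmersion.lift_fac _ _ _).symm
  let k' : (U'' : Scheme.{u}) ⟶ (U' : Scheme.{u}) := S'.homOfLE inf_le_left
  have hk' : g'' = k' ≫ U'.ι ≫ f := by
    rw [← Category.assoc, Scheme.homOfLE_ι]
  obtain ⟨e₁, he₁⟩ := exists_iso_isMonHom (trivIso T U.ι k g'' hk _ φT)
  obtain ⟨e, he⟩ := exists_iso_isMonHom (trivIso G (U'.ι ≫ f) k' g'' hk' M φ)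
  haveI := he₁
  haveI := he
  let c : Red.DS (U'' : Scheme.{u}) (Fin r → ℤ) ⟶ Red.DS (U'' : Scheme.{u}) M :=
    e₁.inv ≫ (Over.pullback g'').map j ≫ e.hom
  haveI : Mono ((Over.pullback g'').map j) := inferInstance
  haveI : IsMonHom ((Over.pullback g'').map j) := inferInstance
  haveI : Mono c := by
    haveI : Mono ((Over.pullback g'').map j ≫ e.hom) := mono_comp _ _
    exact mono_comp _ _
  haveI : IsMonHom c := inferInstance
  obtain ⟨ψ, hψ, -⟩ := exists_local_DSmap_of_mono hM c ⟨s₀', hs''⟩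
  have h1 := LinearMap.finrank_le_finrank_of_surjective (f := ψ.toIntLinearMap) hψ
  rwa [Module.finrank_fin_fun] at h1

end Groth.Agent.Lib.Helper10.TorusLoc
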