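import Mathlib
import Groth.Agent.Lib.Helper10.TorusLoc1

/-!
# The greatest locally split subtorus over a connected base
-/

set_option autoImplicit false
set_option linter.unusedSectionVars false
set_option linter.style.haveILetI false
set_option backward.isDefEq.respectTransparency.types false
set_option maxHeartbeats 4000000
set_option synthInstance.maxHeartbeats 400000
universe u
open CategoryTheory CategoryTheory.Limits AlgebraicGeometry Opposite MonoidalCategory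
  CartesianMonoidalCategory MonObj GrpObj

namespace Groth.Agent.Lib.Helper10.TorusLoc

open Groth.Agent.Lib.Helper21.GaPts Groth.Agent.Lib.Helper10.FpqcLocus
  Groth.Agent.Lib.Helper10.MagnetQuot Groth.Agent.Lib.Helper10.DiagHomProps
  Groth.Agent.Lib.Helper10.HomFamBC Groth.Agent.Lib.Helper10.DiagHom
  Groth.Agent.Lib.Helper10.TorusQuot Groth.Agent.Lib.Helper10.MultTypeHom
  Groth.Agent.Lib.Helper10.FppfQuot Groth.Agent.Lib.Helper10.HomSp
  Groth.Agent.Lib.Helper10.TorusKer Groth.Agent.Lib.Helper10.TorusMax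
  Groth.Agent.Lib.Helper10.ImgSub

variable {S : Scheme.{u}}

/-- `G` has a locally split subtorus of constant rank `r`. -/
def HasLocSplitSub (G : Over S) [GrpObj G] (r : ℕ) : Prop :=
  ∃ (T : Over S) (_ : GrpObj T) (j : T ⟶ G), IsMonHom j ∧ Mono j ∧ LocSplitR T r

theorem hasLocSplitSub_zero (G : Over S) [GrpObj G] : HasLocSplitSub G 0 := by
  obtain ⟨T, hTg, j, hj1, hj2, ⟨φ⟩⟩ := hasSplitSub_zero G
  refine ⟨T, hTg, j, hj1, hj2, fun s => ⟨⊤, trivial, ?_⟩⟩
  exact ⟨bcMapIso (⊤ : S.Opens).ι φ ≪≫ bcDSIso (⊤ : S.Opens).ι _⟩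

/-- a monomorphic homomorphism between locally split groups of the same constant rank is an
isomorphism. -/
theorem isIso_of_mono_locSplitR {T E : Over S} [GrpObj T] [GrpObj E] (g : T ⟶ E) [IsMonHom g]
    [Mono g] {r : ℕ} (hT : LocSplitR T r) (hE : LocSplitR E r) : IsIso g := by
  apply isIso_of_locally_iso
  intro s
  obtain ⟨U₁, hs₁, h₁⟩ := hT s
  obtain ⟨U₂, hs₂, h₂⟩ := hE s
  let U : S.Opens := U₁ ⊓ U₂
  refine ⟨U, ⟨hs₁, hs₂⟩, ?_⟩
  obtain ⟨φ⟩ := split_restrict (inf_le_left : U ≤ U₁) h₁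
  obtain ⟨φ'⟩ := split_restrict (inf_le_right : U ≤ U₂) h₂
  obtain ⟨e, he⟩ := exists_iso_isMonHom φ
  obtain ⟨e', he'⟩ := exists_iso_isMonHom φ'
  haveI := he
  haveI := he'
  haveI : Mono ((Over.pullback U.ι).map g) := inferInstance
  haveI : IsMonHom ((Over.pullback U.ι).map g) := inferInstance
  let c : Red.DS (U : Scheme.{u}) (Fin r → ℤ) ⟶ Red.DS (U : Scheme.{u}) (Fin r → ℤ) :=
    e.inv ≫ (Over.pullback U.ι).map g ≫ e'.hom
  haveI : Mono c := by
    haveI : Mono ((Over.pullback U.ι).map g ≫ e'.hom) := mono_comp _ _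
    exact mono_comp _ _
  haveI : IsMonHom c := inferInstance
  haveI : IsIso c := isIso_of_mono_split r c
  have hgc : (Over.pullback U.ι).map g = e.hom ≫ c ≫ e'.inv := by
    simp only [c, Category.assoc, Iso.hom_inv_id, Category.comp_id, Iso.hom_inv_id_assoc]
  rw [hgc]
  infer_instance

/-- **over a connected base a group of multiplicative type has a greatest locally split
subtorus.** -/
theorem exists_greatest_locally_split_subtorus [ConnectedSpace ↥S] {G : Over S} [GrpObj G]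
    (hG : SGA3x.IsMultTypeFT G) :
    ∃ (T : Over S) (_ : GrpObj T) (j : T ⟶ G), IsMonHom j ∧ Mono j ∧ LocSplit T ∧
      ∀ (T' : Over S) [GrpObj T'] (j' : T' ⟶ G) [IsMonHom j'] [Mono j'],
        LocSplit T' → ∃ g : T' ⟶ T, g ≫ j = j' := by
  classical
  obtain ⟨s₀⟩ : Nonempty S := inferInstance
  obtain ⟨R, hR⟩ := exists_rank_bound_local hG s₀
  have hb : ∀ r, HasLocSplitSub G r → r ≤ R := by
    rintro r ⟨T, _, j, hj1, hj2, hT⟩
    haveI := hj1
    haveI := hj2
    obtain ⟨U, hU, hr⟩ := hT s₀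
    exact hR U hU r T j hr
  let r₀ := Nat.findGreatest (HasLocSplitSub G) R
  have hr₀ : HasLocSplitSub G r₀ :=
    Nat.findGreatest_spec (Nat.zero_le R) (hasLocSplitSub_zero G)
  have hmax : ∀ r, HasLocSplitSub G r → r ≤ r₀ := fun r hr => Nat.le_findGreatest (hb r hr) hr
  obtain ⟨T, hTg, j, hj1, hj2, hT⟩ := hr₀
  refine ⟨T, hTg, j, hj1, hj2, hT.locSplit, ?_⟩
  intro T' _ j' _ _ hT'
  haveI := hj1
  haveI := hj2
  obtain ⟨E₃, grp, j₃, g₁, g₂, hj₃, hmono, hsplit, hg₁, hg₂⟩ :=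
    exists_join hG j j' hT.locSplit hT'
  letI := grp
  haveI := hj₃
  haveI := hmono
  haveI : IsMonHom g₁ := isMonHom_of_comp_mono g₁ j₃ j hg₁
  haveI : Mono g₁ := by
    haveI : Mono (g₁ ≫ j₃) := by rw [hg₁]; infer_instance
    exact mono_of_mono g₁ j₃
  obtain ⟨b, hb'⟩ := exists_const_rank (X := E₃) hsplit
  have h2 : b ≤ r₀ := hmax b ⟨E₃, grp, j₃, hj₃, hmono, hb'⟩
  have h1 : r₀ ≤ b := by
    obtain ⟨U₁, hs₁, k₁⟩ := hT s₀
    obtain ⟨U₂, hs₂, k₂⟩ := hb' s₀
    let U : S.Opens := U₁ ⊓ U₂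
    haveI : Nonempty (U : Scheme.{u}) := ⟨⟨s₀, hs₁, hs₂⟩⟩
    haveI : Mono ((Over.pullback U.ι).map g₁) := inferInstance
    haveI : IsMonHom ((Over.pullback U.ι).map g₁) := inferInstance
    exact rank_le_of_mono r₀ b (split_restrict (inf_le_left : U ≤ U₁) k₁)
      (split_restrict (inf_le_right : U ≤ U₂) k₂) ((Over.pullback U.ι).map g₁)
  obtain rfl : b = r₀ := le_antisymm h2 h1
  haveI : IsIso g₁ := isIso_of_mono_locSplitR g₁ hT hb'
  refine ⟨g₂ ≫ inv g₁, ?_⟩
  rw [← hg₁, Category.assoc, IsIso.inv_hom_id_assoc, hg₂]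

end Groth.Agent.Lib.Helper10.TorusLoc
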