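import Mathlib
import Groth.Agent.Lib.Helper10.TorusLoc2

/-!
# Local trivialisations of a group scheme, evaluated on points
-/

set_option autoImplicit false
set_option linter.unusedSectionVars false
set_option linter.style.haveILetI false
set_option backward.isDefEq.respectTransparency.types false
set_option maxHeartbeats 4000000
set_option synthInstance.maxHeartbeats 400000
universe u
open CategoryTheory CategoryTheory.Limits AlgebraicGeometry Opposite MonoidalCategory
  CartesianMonoidalCategory MonObj GrpObj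

namespace Groth.Agent.Lib.Helper10.IrrSplit

open Groth.Agent.Lib.Helper21.GaPts Groth.Agent.Lib.Helper10.DiagHomProps
  Groth.Agent.Lib.Helper10.HomFamBC Groth.Agent.Lib.Helper10.DiagHom
  Groth.Agent.Lib.Helper10.TorusQuot Groth.Agent.Lib.Helper10.MultTypeHom
  Groth.Agent.Lib.Helper10.TorusKer Groth.Agent.Lib.Helper10.TorusMax
  Groth.Agent.Lib.Helper10.ImgSub

variable {S : Scheme.{u}} {X : Over S} [GrpObj X] {M : Type} [AddCommGroup M]

/-- a local trivialisation of `X` over an open of `S`. -/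
structure Chart (X : Over S) [GrpObj X] (M : Type) [AddCommGroup M] where
  U : S.Opens
  e : Red.bc U.ι X ≅ Red.DS (U : Scheme.{u}) M
  isMonHom : IsMonHom e.hom

attribute [instance] Chart.isMonHom

namespace Chart

variable (c : Chart X M)

/-- the point of the base change defined by a point of `X` lying over `U`. -/
noncomputable def pt {Y : Over S} (x : Y ⟶ X) (a : Y.left ⟶ (c.U : Scheme.{u}))
    (ha : a ≫ c.U.ι = Y.hom) : Over.mk a ⟶ Red.bc c.U.ι X :=
  Over.homMk (pullback.lift x.left a (by rw [Over.w x, ha])) (pullback.lift_snd _ _ _)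

/-- the value of the trivialisation on a point of `X` lying over `U`. -/
noncomputable def val {Y : Over S} (x : Y ⟶ X) (a : Y.left ⟶ (c.U : Scheme.{u}))
    (ha : a ≫ c.U.ι = Y.hom) : Y ⟶ Red.DS S M :=
  dsPt (S := S) (X := Y)
    (dsChar (S := (c.U : Scheme.{u})) (X := Over.mk a) (c.pt x a ha ≫ c.e.hom))

theorem dsFn_val {Y : Over S} (x : Y ⟶ X) (a : Y.left ⟶ (c.U : Scheme.{u}))
    (ha : a ≫ c.U.ι = Y.hom) (m : M) :
    dsFn m (c.val x a ha) =
      dsFn (S := (c.U : Scheme.{u})) (X := Over.mk a) m (c.pt x a ha ≫ c.e.hom) := by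
  rw [val, dsFn_dsPt]
  rfl

theorem pt_eq_trInv {Y' : Over (c.U : Scheme.{u})} (x : (Over.map c.U.ι).obj Y' ⟶ X) :
    c.pt x Y'.hom rfl = trInv c.U.ι x := rfl

theorem val_eq_up {Y' : Over (c.U : Scheme.{u})} (x : (Over.map c.U.ι).obj Y' ⟶ X) :
    c.val x Y'.hom rfl = up c.U.ι (trInv c.U.ι x ≫ c.e.hom) := by
  apply dsFn_injective
  intro m
  rw [dsFn_val, dsFn_up]
  rfl

/-- reduction to points of the form `(Over.map U.ι).obj Y'`. -/
theorem reduce {P : ∀ (Y : Over S) (a : Y.left ⟶ (c.U : Scheme.{u})), a ≫ c.U.ι = Y.hom → Prop}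
    (h : ∀ Y' : Over (c.U : Scheme.{u}), P ((Over.map c.U.ι).obj Y') Y'.hom rfl)
    (Y : Over S) (a : Y.left ⟶ (c.U : Scheme.{u})) (ha : a ≫ c.U.ι = Y.hom) : P Y a ha := by
  obtain ⟨YL, ⟨⟨⟩⟩, Yh⟩ := Y
  change YL ⟶ (c.U : Scheme.{u}) at a
  change a ≫ c.U.ι = Yh at ha
  subst ha
  exact h (Over.mk a)

theorem val_comp {Y Y' : Over S} (p : Y' ⟶ Y) (x : Y ⟶ X) (a : Y.left ⟶ (c.U : Scheme.{u}))
    (ha : a ≫ c.U.ι = Y.hom) :
    p ≫ c.val x a ha = c.val (p ≫ x) (p.left ≫ a) (by rw [Category.assoc, ha, Over.w p]) := by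
  apply dsFn_injective
  intro m
  rw [dsFn_comp, dsFn_val, dsFn_val]
  have e1 : c.pt (p ≫ x) (p.left ≫ a) (by rw [Category.assoc, ha, Over.w p]) =
      (Over.homMk p.left rfl : Over.mk (p.left ≫ a) ⟶ Over.mk a) ≫ c.pt x a ha := by
    apply Over.OverMorphism.ext
    apply pullback.hom_ext
    · change pullback.lift _ _ _ ≫ pullback.fst _ _ =
        (p.left ≫ pullback.lift _ _ _) ≫ pullback.fst _ _
      refine (pullback.lift_fst _ _ _).trans ?_
      refine Eq.trans ?_ (Category.assoc _ _ _).symm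
      exact congrArg (fun z => p.left ≫ z) (pullback.lift_fst _ _ _).symm
    · change pullback.lift _ _ _ ≫ pullback.snd _ _ =
        (p.left ≫ pullback.lift _ _ _) ≫ pullback.snd _ _
      refine (pullback.lift_snd _ _ _).trans ?_
      refine Eq.trans ?_ (Category.assoc _ _ _).symm
      exact congrArg (fun z => p.left ≫ z) (pullback.lift_snd _ _ _).symm
  rw [e1, Category.assoc, dsFn_comp]
  rfl

theorem val_mul {Y : Over S} (x y : Y ⟶ X) (a : Y.left ⟶ (c.U : Scheme.{u}))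
    (ha : a ≫ c.U.ι = Y.hom) : c.val (x * y) a ha = c.val x a ha * c.val y a ha := by
  revert x y
  refine c.reduce (P := fun Y a ha => ∀ x y : Y ⟶ X,
    c.val (x * y) a ha = c.val x a ha * c.val y a ha) ?_ Y a ha
  intro Y' x y
  rw [val_eq_up, val_eq_up, val_eq_up, trInv_mul, MonObj.mul_comp _ _ c.e.hom, up_mul]

theorem val_one {Y : Over S} (a : Y.left ⟶ (c.U : Scheme.{u}))
    (ha : a ≫ c.U.ι = Y.hom) : c.val (1 : Y ⟶ X) a ha = 1 := by
  refine c.reduce (P := fun Y a ha => c.val (1 : Y ⟶ X) a ha = 1) ?_ Y a ha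
  intro Y'
  rw [val_eq_up, (trInv_eq_one_iff c.U.ι _).2 rfl, MonObj.one_comp, up_one]

theorem val_injective {Y : Over S} (x y : Y ⟶ X) (a : Y.left ⟶ (c.U : Scheme.{u}))
    (ha : a ≫ c.U.ι = Y.hom) (h : c.val x a ha = c.val y a ha) : x = y := by
  revert x y
  refine c.reduce (P := fun Y a ha => ∀ x y : Y ⟶ X,
    c.val x a ha = c.val y a ha → x = y) ?_ Y a ha
  intro Y' x y h
  rw [val_eq_up, val_eq_up] at h
  have h1 : trInv c.U.ι x ≫ c.e.hom = trInv c.U.ι y ≫ c.e.hom := by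
    apply dsFn_injective
    intro m
    rw [← dsFn_up c.U.ι, ← dsFn_up c.U.ι, h]
  have h2 := (cancel_mono c.e.hom).1 h1
  have h3 := congrArg (tr c.U.ι) h2
  rwa [tr_trInv, tr_trInv] at h3

theorem val_surjective {Y : Over S} (z : Y ⟶ Red.DS S M) (a : Y.left ⟶ (c.U : Scheme.{u}))
    (ha : a ≫ c.U.ι = Y.hom) : ∃ x : Y ⟶ X, c.val x a ha = z := by
  revert z
  refine c.reduce (P := fun Y a ha => ∀ z : Y ⟶ Red.DS S M, ∃ x : Y ⟶ X, c.val x a ha = z)
    ?_ Y a ha
  intro Y' z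
  refine ⟨tr c.U.ι (down c.U.ι z ≫ c.e.inv), ?_⟩
  rw [val_eq_up, trInv_tr, Category.assoc, Iso.inv_hom_id, Category.comp_id, up_down]

end Chart

end Groth.Agent.Lib.Helper10.IrrSplit
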