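import Mathlib
import Groth.Agent.Lib.Helper10.IrrSplit1

/-!
# Homomorphisms between diagonalisable groups over a connected base
-/

set_option autoImplicit false
set_option linter.unusedSectionVars false
set_option linter.style.haveILetI false
set_option backward.isDefEq.respectTransparency.types false
set_option maxHeartbeats 4000000
set_option synthInstance.maxHeartbeats 400000
universe u
open CategoryTheory CategoryTheory.Limits AlgebraicGeometry Opposite MonoidalCategory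
  CartesianMonoidalCategory MonObj GrpObj

namespace Groth.Agent.Lib.Helper10.IrrSplit

open Groth.Agent.Lib.Helper21.GaPts Groth.Agent.Lib.Helper10.DiagHomProps
  Groth.Agent.Lib.Helper10.HomFamBC Groth.Agent.Lib.Helper10.DiagHom
  Groth.Agent.Lib.Helper10.TorusQuot Groth.Agent.Lib.Helper10.MultTypeHom
  Groth.Agent.Lib.Helper10.TorusKer Groth.Agent.Lib.Helper10.TorusMax
  Groth.Agent.Lib.Helper10.ImgSub

/-- a homomorphism between diagonalisable groups is Zariski-locally of the form `D(ψ)`. -/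
theorem exists_local_DSmap {U : Scheme.{u}} {M₁ M₂ : Type} [AddCommGroup M₁]
    [AddCommGroup M₂] (hM₂ : AddGroup.FG M₂) (c : Red.DS U M₁ ⟶ Red.DS U M₂) [IsMonHom c]
    (u : U) :
    ∃ (ψ : M₂ →+ M₁) (O : U.Opens), u ∈ O ∧
      ∀ (X' : Over U), Set.range X'.hom ⊆ (O : Set U) → ∀ a : X' ⟶ Red.DS U M₁,
        a ≫ c = a ≫ Red.DSmap U ψ := by
  let φ : Red.DS U M₁ ⊗ 𝟙_ (Over U) ⟶ Red.DS U M₂ := fst _ _ ≫ c
  have hφ : ∀ (X : Over U) (a b : X ⟶ Red.DS U M₁) (t : X ⟶ 𝟙_ (Over U)),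
      lift (a * b) t ≫ φ = (lift a t ≫ φ) * (lift b t ≫ φ) := by
    intro X a b t
    simp only [φ, lift_fst_assoc]
    exact MonObj.mul_comp a b c
  obtain ⟨W, jW, ψ, hjW, huW, hψ⟩ := locally_DSmap (𝟙_ (Over U)) hM₂ φ hφ (u : (𝟙_ (Over U)).left)
  haveI := hjW
  have key : ∀ (X' : Over U) (_ : X' ⟶ W) (a : X' ⟶ Red.DS U M₁),
      a ≫ c = a ≫ Red.DSmap U ψ := by
    intro X' xW a
    have h1 := congrArg (fun z => lift a xW ≫ z) hψ
    simpa only [φ, lift_whiskerLeft_assoc, lift_fst_assoc] using h1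
  have hWhom : W.hom = jW.left := by
    have h1 := Over.w jW
    rw [← h1]
    exact (Category.comp_id _).symm
  refine ⟨ψ, jW.left.opensRange, huW, ?_⟩
  intro X' hX' a
  have hr : Set.range X'.hom ⊆ Set.range jW.left := hX'
  let xW : X' ⟶ W := Over.homMk (IsOpenImmersion.lift jW.left X'.hom hr) (by
    rw [hWhom]
    exact IsOpenImmersion.lift_fac _ _ _)
  exact key X' xW a

/-- **over a connected base every homomorphism between diagonalisable groups is `D(ψ)`.** -/
theorem conn_DSmap {U : Scheme.{u}} [ConnectedSpace ↥U] {M₁ M₂ : Type} [AddCommGroup M₁]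
    [AddCommGroup M₂] (hM₂ : AddGroup.FG M₂) (c : Red.DS U M₁ ⟶ Red.DS U M₂) [IsMonHom c] :
    ∃ ψ : M₂ →+ M₁, c = Red.DSmap U ψ := by
  choose ψ O hO key using exists_local_DSmap hM₂ c
  have hlc : IsLocallyConstant ψ := by
    rw [IsLocallyConstant.iff_exists_open]
    intro x
    refine ⟨O x, (O x).2, hO x, ?_⟩
    intro x' hx'
    obtain ⟨(A : U.Opens), hA, hx'A, hle⟩ :=
      TopologicalSpace.Opens.isBasis_iff_nbhd.mp U.isBasis_affineOpens
        (show x' ∈ O x ⊓ O x' from ⟨hx', hO x'⟩)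
    let W' : Over U := Over.mk A.ι
    haveI : IsAffine W'.left := hA
    let Y : Over U := Red.DS U M₁ ⊗ W'
    have hY : Set.range Y.hom ⊆ (A : Set U) := by
      rintro _ ⟨y, rfl⟩
      have h1 : Y.hom = (snd (Red.DS U M₁) W').left ≫ A.ι := (Over.w (snd (Red.DS U M₁) W')).symm
      rw [h1, Scheme.Hom.comp_apply]
      exact ((snd (Red.DS U M₁) W').left y).2
    have h2 := key x Y (hY.trans (fun z hz => (hle hz).1)) (fst _ _)
    have h3 := key x' Y (hY.trans (fun z hz => (hle hz).2)) (fst _ _)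
    exact eq_of_fst_DSmap_eq W' ⟨x', hx'A⟩ _ _ (h3.symm.trans h2)
  obtain ⟨u₀⟩ : Nonempty U := inferInstance
  refine ⟨ψ u₀, ?_⟩
  have hcov : TopologicalSpace.IsOpenCover (fun k : U => (Red.DS U M₁).hom ⁻¹ᵁ O k) := by
    rw [TopologicalSpace.IsOpenCover, eq_top_iff]
    intro p _
    exact TopologicalSpace.Opens.mem_iSup.mpr ⟨(Red.DS U M₁).hom p, hO _⟩
  apply Over.OverMorphism.ext
  apply ((Red.DS U M₁).left.openCoverOfIsOpenCover _ hcov).hom_ext
  intro k
  let X' : Over U := Over.mk (((Red.DS U M₁).hom ⁻¹ᵁ O k).ι ≫ (Red.DS U M₁).hom)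
  let a : X' ⟶ Red.DS U M₁ := Over.homMk ((Red.DS U M₁).hom ⁻¹ᵁ O k).ι rfl
  have hX' : Set.range X'.hom ⊆ (O k : Set U) := by
    rintro _ ⟨y, rfl⟩
    exact y.2
  have h1 := key k X' hX' a
  have h2 : ψ k = ψ u₀ := hlc.apply_eq_of_preconnectedSpace k u₀
  rw [h2] at h1
  exact congrArg (fun z => z.left) h1

end Groth.Agent.Lib.Helper10.IrrSplit
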