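import Mathlib
import Groth.Agent.Lib.Helper10.IrrSplit2

/-!
# Rigidity of local trivialisations over connected opens
-/

set_option autoImplicit false
set_option linter.unusedSectionVars false
set_option linter.style.haveILetI false
set_option backward.isDefEq.respectTransparency.types false
set_option maxHeartbeats 4000000
set_option synthInstance.maxHeartbeats 400000
universe u
open CategoryTheory CategoryTheory.Limits AlgebraicGeometry Opposite MonoidalCategory
  CartesianMonoidalCategory MonObj GrpObj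

namespace Groth.Agent.Lib.Helper10.IrrSplit

open Groth.Agent.Lib.Helper21.GaPts Groth.Agent.Lib.Helper10.DiagHomProps
  Groth.Agent.Lib.Helper10.HomFamBC Groth.Agent.Lib.Helper10.DiagHom
  Groth.Agent.Lib.Helper10.TorusQuot Groth.Agent.Lib.Helper10.MultTypeHom
  Groth.Agent.Lib.Helper10.TorusKer Groth.Agent.Lib.Helper10.TorusMax
  Groth.Agent.Lib.Helper10.ImgSub

section UpDown

variable {B U : Scheme.{u}} (g : U ⟶ B) {M₀ M₁ : Type} [AddCommGroup M₀] [AddCommGroup M₁]

theorem up_DSmap {X' : Over U} (a : X' ⟶ Red.DS U M₀) (ψ : M₁ →+ M₀) :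
    up g (a ≫ Red.DSmap U ψ) = up g a ≫ Red.DSmap B ψ := by
  apply dsFn_injective
  intro n
  rw [dsFn_up, dsFn_DSmap, dsFn_DSmap, dsFn_up]

theorem down_up {X' : Over U} (a : X' ⟶ Red.DS U M₀) : down g (up g a) = a := by
  apply dsFn_injective
  intro n
  rw [dsFn_down, dsFn_up]

theorem comp_down {X' X'' : Over U} (p : X'' ⟶ X') (t : (Over.map g).obj X' ⟶ Red.DS B M₀) :
    p ≫ down g t = down g ((Over.map g).map p ≫ t) := by
  apply dsFn_injective
  intro n
  rw [dsFn_comp, dsFn_down, dsFn_down, dsFn_comp]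
  rfl

theorem down_mul {X' : Over U} (s t : (Over.map g).obj X' ⟶ Red.DS B M₀) :
    down g (s * t) = down g s * down g t := by
  apply dsFn_injective
  intro n
  rw [dsFn_down, dsFn_mul, dsFn_mul, dsFn_down, dsFn_down]

theorem down_one {X' : Over U} : down g (1 : (Over.map g).obj X' ⟶ Red.DS B M₀) = 1 := by
  apply dsFn_injective
  intro n
  rw [dsFn_down, dsFn_one, dsFn_one]

end UpDown

variable {S : Scheme.{u}} {X : Over S} [GrpObj X] {M : Type} [AddCommGroup M]

namespace Chart

variable (c : Chart X M)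

theorem val_congr {Y : Over S} (x : Y ⟶ X) {a a' : Y.left ⟶ (c.U : Scheme.{u})} (h : a = a')
    (ha : a ≫ c.U.ι = Y.hom) (ha' : a' ≫ c.U.ι = Y.hom) : c.val x a ha = c.val x a' ha' := by
  subst h
  rfl

/-- the trivialisation twisted by an automorphism of the character group. -/
noncomputable def twist (β : M ≃+ M) : Chart X M where
  U := c.U
  e := c.e ≪≫ ⟨Red.DSmap (c.U : Scheme.{u}) β.toAddMonoidHom,
    Red.DSmap (c.U : Scheme.{u}) β.symm.toAddMonoidHom, by
      rw [DSmap_comp, ← DSmap_id]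
      congr 1
      ext m
      exact β.apply_symm_apply m, by
      rw [DSmap_comp, ← DSmap_id]
      congr 1
      ext m
      exact β.symm_apply_apply m⟩
  isMonHom := by
    haveI : IsMonHom (Red.DSmap (c.U : Scheme.{u}) β.toAddMonoidHom) := isMonHom_DSmap _
    change IsMonHom (c.e.hom ≫ Red.DSmap (c.U : Scheme.{u}) β.toAddMonoidHom)
    infer_instance

theorem twist_U (β : M ≃+ M) : (c.twist β).U = c.U := rfl

theorem val_twist (β : M ≃+ M) {Y : Over S} (x : Y ⟶ X) (a : Y.left ⟶ (c.U : Scheme.{u}))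
    (ha : a ≫ c.U.ι = Y.hom) :
    (c.twist β).val x a ha = c.val x a ha ≫ Red.DSmap S β.toAddMonoidHom := by
  apply dsFn_injective
  intro m
  rw [dsFn_val, dsFn_DSmap, dsFn_val]
  change dsFn (S := (c.U : Scheme.{u})) (X := Over.mk a) m
    (c.pt x a ha ≫ c.e.hom ≫ Red.DSmap (c.U : Scheme.{u}) β.toAddMonoidHom) = _
  rw [← Category.assoc, dsFn_DSmap]

end Chart

end Groth.Agent.Lib.Helper10.IrrSplit
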