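import Mathlib
import Groth.Agent.Lib.Helper10.IrrSplit3

/-!
# Rigidity of local trivialisations over connected opens, II
-/

set_option autoImplicit false
set_option linter.unusedSectionVars false
set_option linter.style.haveILetI false
set_option backward.isDefEq.respectTransparency.types false
set_option maxHeartbeats 4000000
set_option synthInstance.maxHeartbeats 400000
universe u
open CategoryTheory CategoryTheory.Limits AlgebraicGeometry Opposite MonoidalCategory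
  CartesianMonoidalCategory MonObj GrpObj

namespace Groth.Agent.Lib.Helper10.IrrSplit

open Groth.Agent.Lib.Helper21.GaPts Groth.Agent.Lib.Helper10.DiagHomProps
  Groth.Agent.Lib.Helper10.HomFamBC Groth.Agent.Lib.Helper10.DiagHom
  Groth.Agent.Lib.Helper10.TorusQuot Groth.Agent.Lib.Helper10.MultTypeHom
  Groth.Agent.Lib.Helper10.TorusKer Groth.Agent.Lib.Helper10.TorusMax
  Groth.Agent.Lib.Helper10.ImgSub

variable {S : Scheme.{u}} {X : Over S} [GrpObj X] {M : Type} [AddCommGroup M]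

namespace Chart

variable (c : Chart X M) {V : S.Opens} (hle : V ≤ c.U)

/-- the value of a trivialisation on a point lying over a smaller open. -/
noncomputable def valV {Y : Over S} (x : Y ⟶ X) (b : Y.left ⟶ (V : Scheme.{u}))
    (hb : b ≫ V.ι = Y.hom) : Y ⟶ Red.DS S M :=
  c.val x (b ≫ S.homOfLE hle) (by rw [Category.assoc, Scheme.homOfLE_ι, hb])

theorem valV_comp {Y Y' : Over S} (p : Y' ⟶ Y) (x : Y ⟶ X) (b : Y.left ⟶ (V : Scheme.{u}))
    (hb : b ≫ V.ι = Y.hom) :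
    p ≫ c.valV hle x b hb = c.valV hle (p ≫ x) (p.left ≫ b) (by rw [Category.assoc, hb, Over.w p]) := by
  rw [valV, valV, val_comp]
  exact c.val_congr _ (Category.assoc _ _ _).symm _ _

theorem valV_congr {Y : Over S} (x : Y ⟶ X) {b b' : Y.left ⟶ (V : Scheme.{u})} (h : b = b')
    (hb : b ≫ V.ι = Y.hom) (hb' : b' ≫ V.ι = Y.hom) : c.valV hle x b hb = c.valV hle x b' hb' := by
  subst h
  rfl

theorem valV_mul {Y : Over S} (x y : Y ⟶ X) (b : Y.left ⟶ (V : Scheme.{u}))
    (hb : b ≫ V.ι = Y.hom) : c.valV hle (x * y) b hb = c.valV hle x b hb * c.valV hle y b hb :=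
  c.val_mul x y _ _

theorem valV_one {Y : Over S} (b : Y.left ⟶ (V : Scheme.{u}))
    (hb : b ≫ V.ι = Y.hom) : c.valV hle (1 : Y ⟶ X) b hb = 1 :=
  c.val_one _ _

theorem valV_injective {Y : Over S} (x y : Y ⟶ X) (b : Y.left ⟶ (V : Scheme.{u}))
    (hb : b ≫ V.ι = Y.hom) (h : c.valV hle x b hb = c.valV hle y b hb) : x = y :=
  c.val_injective x y _ _ h

theorem valV_surjective {Y : Over S} (z : Y ⟶ Red.DS S M) (b : Y.left ⟶ (V : Scheme.{u}))
    (hb : b ≫ V.ι = Y.hom) : ∃ x : Y ⟶ X, c.valV hle x b hb = z :=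
  c.val_surjective z _ _

end Chart

/-- **rigidity**: over a connected open two trivialisations differ by an endomorphism of the
character group. -/
theorem exists_transition (hM : AddGroup.FG M) (c c' : Chart X M) {V : S.Opens} (hle : V ≤ c.U)
    (hle' : V ≤ c'.U) [ConnectedSpace ↥(V : Scheme.{u})] :
    ∃ β : M →+ M, ∀ (Y : Over S) (x : Y ⟶ X) (b : Y.left ⟶ (V : Scheme.{u}))
      (hb : b ≫ V.ι = Y.hom), c.valV hle x b hb = c'.valV hle' x b hb ≫ Red.DSmap S β := by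
  let D : Over (V : Scheme.{u}) := Red.DS (V : Scheme.{u}) M
  let Y₀ : Over S := (Over.map V.ι).obj D
  let u₀ : Y₀ ⟶ Red.DS S M := up V.ι (𝟙 D)
  obtain ⟨x₀, hx₀⟩ := c'.valV_surjective hle' u₀ D.hom rfl
  let z : Y₀ ⟶ Red.DS S M := c.valV hle x₀ D.hom rfl
  let θ : D ⟶ Red.DS (V : Scheme.{u}) M := down V.ι z
  have hθ : ∀ (Y'' : Over (V : Scheme.{u})) (y : Y'' ⟶ D),
      y ≫ θ = down V.ι (c.valV hle ((Over.map V.ι).map y ≫ x₀) Y''.hom rfl) := by
    intro Y'' y
    rw [comp_down, Chart.valV_comp]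
    congr 1
    exact c.valV_congr hle _ (Over.w y) _ _
  have hF : ∀ (Y'' : Over (V : Scheme.{u})) (y : Y'' ⟶ D),
      c'.valV hle' ((Over.map V.ι).map y ≫ x₀) Y''.hom rfl = up V.ι y := by
    intro Y'' y
    have h1 := c'.valV_comp hle' ((Over.map V.ι).map y) x₀ D.hom rfl
    rw [hx₀, map_comp_up, Category.comp_id] at h1
    rw [h1]
    exact c'.valV_congr hle' _ (Over.w y).symm _ _
  haveI : IsMonHom θ := by
    refine isMonHom_of_points θ ?_ ?_
    · rw [hθ]
      have h1 : (Over.map V.ι).map (1 : 𝟙_ (Over (V : Scheme.{u})) ⟶ D) ≫ x₀ = 1 := by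
        apply c'.valV_injective hle' _ _ _ rfl
        rw [hF, up_one, Chart.valV_one]
      rw [h1, Chart.valV_one, down_one]
    · intro Y'' y₁ y₂
      rw [hθ, hθ, hθ, ← down_mul, ← Chart.valV_mul]
      have h1 : (Over.map V.ι).map (y₁ * y₂) ≫ x₀ =
          ((Over.map V.ι).map y₁ ≫ x₀) * ((Over.map V.ι).map y₂ ≫ x₀) := by
        apply c'.valV_injective hle' _ _ _ rfl
        rw [hF, Chart.valV_mul, hF, hF, up_mul]
      rw [h1]
  obtain ⟨β, hβ⟩ := conn_DSmap hM θ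
  refine ⟨β, ?_⟩
  intro Y x b hb
  obtain ⟨YL, ⟨⟨⟩⟩, Yh⟩ := Y
  change YL ⟶ (V : Scheme.{u}) at b
  change b ≫ V.ι = Yh at hb
  subst hb
  let Y'' : Over (V : Scheme.{u}) := Over.mk b
  change (Over.map V.ι).obj Y'' ⟶ X at x
  change c.valV hle x Y''.hom rfl = c'.valV hle' x Y''.hom rfl ≫ Red.DSmap S β
  let y : Y'' ⟶ D := down V.ι (c'.valV hle' x Y''.hom rfl)
  have hx : x = (Over.map V.ι).map y ≫ x₀ := by
    apply c'.valV_injective hle' _ _ _ rfl
    rw [hF, up_down]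
  have h2 : c.valV hle x Y''.hom rfl = up V.ι (y ≫ θ) := by
    rw [hθ, up_down, ← hx]
  rw [h2, hβ, up_DSmap, up_down]

/-- **uniqueness of transitions**: over a nonempty open the transition endomorphism is unique. -/
theorem transition_unique (c : Chart X M) {V : S.Opens} (hle : V ≤ c.U) (v : S) (hv : v ∈ V)
    (β β₂ : M →+ M)
    (h : ∀ (Y : Over S) (x : Y ⟶ X) (b : Y.left ⟶ (V : Scheme.{u})) (hb : b ≫ V.ι = Y.hom),
      c.valV hle x b hb ≫ Red.DSmap S β = c.valV hle x b hb ≫ Red.DSmap S β₂) : β = β₂ := by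
  obtain ⟨(A : (V : Scheme.{u}).Opens), hA, hvA, -⟩ :=
    TopologicalSpace.Opens.isBasis_iff_nbhd.mp (V : Scheme.{u}).isBasis_affineOpens
      (TopologicalSpace.Opens.mem_top (⟨v, hv⟩ : (V : Scheme.{u})))
  let W' : Over S := Over.mk (A.ι ≫ V.ι)
  haveI : IsAffine W'.left := hA
  let Y : Over S := Red.DS S M ⊗ W'
  let b : Y.left ⟶ (V : Scheme.{u}) := (snd (Red.DS S M) W').left ≫ A.ι
  have hb : b ≫ V.ι = Y.hom := by
    rw [Category.assoc]
    exact Over.w (snd (Red.DS S M) W')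
  obtain ⟨x, hx⟩ := c.valV_surjective hle (fst (Red.DS S M) W') b hb
  have h1 := h Y x b hb
  rw [hx] at h1
  exact eq_of_fst_DSmap_eq W' ⟨⟨v, hv⟩, hvA⟩ β β₂ h1

end Groth.Agent.Lib.Helper10.IrrSplit
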