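import Mathlib
import Groth.Agent.Lib.Helper10.IrrSplit4

/-!
# A locally split torus over an irreducible base is split
-/

set_option autoImplicit false
set_option linter.unusedSectionVars false
set_option linter.style.haveILetI false
set_option backward.isDefEq.respectTransparency.types false
set_option maxHeartbeats 4000000
set_option synthInstance.maxHeartbeats 400000
universe u
open CategoryTheory CategoryTheory.Limits AlgebraicGeometry Opposite MonoidalCategory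
  CartesianMonoidalCategory MonObj GrpObj

namespace Groth.Agent.Lib.Helper10.IrrSplit

open Groth.Agent.Lib.Helper21.GaPts Groth.Agent.Lib.Helper10.DiagHomProps
  Groth.Agent.Lib.Helper10.HomFamBC Groth.Agent.Lib.Helper10.DiagHom
  Groth.Agent.Lib.Helper10.TorusQuot Groth.Agent.Lib.Helper10.MultTypeHom
  Groth.Agent.Lib.Helper10.TorusKer Groth.Agent.Lib.Helper10.TorusMax
  Groth.Agent.Lib.Helper10.ImgSub Groth.Agent.Lib.Helper10.TorusLoc
  Groth.Agent.Lib.Helper10.RepDesc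

variable {S : Scheme.{u}} {X : Over S} [GrpObj X] {M : Type} [AddCommGroup M]

theorem connectedSpace_opens [IrreducibleSpace ↥S] (V : S.Opens) (v : S) (hv : v ∈ V) :
    ConnectedSpace ↥(V : Scheme.{u}) := by
  haveI : IrreducibleSpace (V : Set S) :=
    Subtype.irreducibleSpace
      ⟨⟨v, hv⟩, (PreirreducibleSpace.isPreirreducible_univ (X := S)).open_subset V.2
        (Set.subset_univ _)⟩
  exact inferInstanceAs (ConnectedSpace (V : Set S))

theorem exists_mem_inf [IrreducibleSpace ↥S] (V₁ V₂ : S.Opens) (v₁ v₂ : S) (h₁ : v₁ ∈ V₁)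
    (h₂ : v₂ ∈ V₂) : ∃ v, v ∈ V₁ ⊓ V₂ :=
  nonempty_preirreducible_inter V₁.2 V₂.2 ⟨v₁, h₁⟩ ⟨v₂, h₂⟩

namespace Chart

theorem val_congr' (c : Chart X M) {Y : Over S} {x x' : Y ⟶ X} (hx : x = x')
    {a a' : Y.left ⟶ (c.U : Scheme.{u})} (ha : a ≫ c.U.ι = Y.hom) (ha' : a' ≫ c.U.ι = Y.hom) :
    c.val x a ha = c.val x' a' ha' := by
  subst hx
  have h : a = a' := by rw [← cancel_mono c.U.ι, ha, ha']
  subst h
  rfl

theorem valV_eq_val (c : Chart X M) {V : S.Opens} (hle : V ≤ c.U) {Y : Over S} (x : Y ⟶ X)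
    (b : Y.left ⟶ (V : Scheme.{u})) (hb : b ≫ V.ι = Y.hom) (a : Y.left ⟶ (c.U : Scheme.{u}))
    (ha : a ≫ c.U.ι = Y.hom) : c.valV hle x b hb = c.val x a ha :=
  c.val_congr' rfl _ _

end Chart

/-- a point lying over two opens lies over their intersection. -/
theorem exists_factor_inf {Y : Over S} (U₁ U₂ : S.Opens) (a₁ : Y.left ⟶ (U₁ : Scheme.{u}))
    (h₁ : a₁ ≫ U₁.ι = Y.hom) (a₂ : Y.left ⟶ (U₂ : Scheme.{u})) (h₂ : a₂ ≫ U₂.ι = Y.hom) :
    ∃ b : Y.left ⟶ ((U₁ ⊓ U₂ : S.Opens) : Scheme.{u}), b ≫ (U₁ ⊓ U₂).ι = Y.hom := by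
  have hr : Set.range Y.hom ⊆ Set.range (U₁ ⊓ U₂).ι := by
    rintro _ ⟨y, rfl⟩
    rw [Scheme.Opens.range_ι]
    constructor
    · rw [← h₁, Scheme.Hom.comp_apply]
      exact (a₁ y).2
    · rw [← h₂, Scheme.Hom.comp_apply]
      exact (a₂ y).2
  exact ⟨IsOpenImmersion.lift (U₁ ⊓ U₂).ι Y.hom hr, IsOpenImmersion.lift_fac _ _ _⟩

end Groth.Agent.Lib.Helper10.IrrSplit
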