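import Mathlib
import Groth.Agent.Lib.Helper10.IrrSplit5

/-!
# A locally split torus over an irreducible base is split: compatible trivialisations
-/

set_option autoImplicit false
set_option linter.unusedSectionVars false
set_option linter.style.haveILetI false
set_option backward.isDefEq.respectTransparency.types false
set_option maxHeartbeats 4000000
set_option synthInstance.maxHeartbeats 400000
universe u
open CategoryTheory CategoryTheory.Limits AlgebraicGeometry Opposite MonoidalCategory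
  CartesianMonoidalCategory MonObj GrpObj

namespace Groth.Agent.Lib.Helper10.IrrSplit

open Groth.Agent.Lib.Helper21.GaPts Groth.Agent.Lib.Helper10.DiagHomProps
  Groth.Agent.Lib.Helper10.HomFamBC Groth.Agent.Lib.Helper10.DiagHom
  Groth.Agent.Lib.Helper10.TorusQuot Groth.Agent.Lib.Helper10.MultTypeHom
  Groth.Agent.Lib.Helper10.TorusKer Groth.Agent.Lib.Helper10.TorusMax
  Groth.Agent.Lib.Helper10.ImgSub Groth.Agent.Lib.Helper10.TorusLoc
  Groth.Agent.Lib.Helper10.RepDesc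

variable {S : Scheme.{u}} {X : Over S} [GrpObj X] {M : Type} [AddCommGroup M]

/-- every trivialisation can be twisted so as to agree with a fixed one on the overlap. -/
theorem exists_twist [IrreducibleSpace ↥S] (hM : AddGroup.FG M) (c₀ c : Chart X M)
    (v₀ v : S) (hv₀ : v₀ ∈ c₀.U) (hv : v ∈ c.U) :
    ∃ B : M ≃+ M, ∀ (Y : Over S) (x : Y ⟶ X) (a : Y.left ⟶ (c.U : Scheme.{u}))
      (ha : a ≫ c.U.ι = Y.hom) (a₀ : Y.left ⟶ (c₀.U : Scheme.{u})) (ha₀ : a₀ ≫ c₀.U.ι = Y.hom),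
      (c.twist B).val x a ha = c₀.val x a₀ ha₀ := by
  let V : S.Opens := c.U ⊓ c₀.U
  obtain ⟨w, hw⟩ := exists_mem_inf c.U c₀.U v v₀ hv hv₀
  haveI := connectedSpace_opens V w hw
  obtain ⟨β, hβ⟩ := exists_transition hM c₀ c (inf_le_right : V ≤ c₀.U) (inf_le_left : V ≤ c.U)
  obtain ⟨β', hβ'⟩ := exists_transition hM c c₀ (inf_le_left : V ≤ c.U) (inf_le_right : V ≤ c₀.U)
  have h1 : β'.comp β = AddMonoidHom.id M :=
    transition_unique c₀ (inf_le_right : V ≤ c₀.U) w hw _ _ (by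
      intro Y x b hb
      rw [DSmap_id, Category.comp_id, ← DSmap_comp, ← Category.assoc, ← hβ', ← hβ])
  have h2 : β.comp β' = AddMonoidHom.id M :=
    transition_unique c (inf_le_left : V ≤ c.U) w hw _ _ (by
      intro Y x b hb
      rw [DSmap_id, Category.comp_id, ← DSmap_comp, ← Category.assoc, ← hβ, ← hβ'])
  let B : M ≃+ M :=
    { toFun := β
      invFun := β'
      left_inv := fun m => DFunLike.congr_fun h1 m
      right_inv := fun m => DFunLike.congr_fun h2 m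
      map_add' := β.map_add }
  have hB : B.toAddMonoidHom = β := AddMonoidHom.ext fun _ => rfl
  refine ⟨B, ?_⟩
  intro Y x a ha a₀ ha₀
  obtain ⟨b, hb⟩ := exists_factor_inf c.U c₀.U a ha a₀ ha₀
  have h3 := hβ Y x b hb
  rw [Chart.val_twist, hB]
  have e1 : c.val x a ha = c.valV (inf_le_left : V ≤ c.U) x b hb := c.val_congr' rfl _ _
  have e2 : c₀.val x a₀ ha₀ = c₀.valV (inf_le_right : V ≤ c₀.U) x b hb := c₀.val_congr' rfl _ _
  rw [e1, e2, h3]

/-- **over an irreducible base local trivialisations can be chosen compatibly.** -/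
theorem exists_compatible_charts [IrreducibleSpace ↥S] (hM : AddGroup.FG M)
    (c₀ : S → Chart X M) (hc₀ : ∀ s, s ∈ (c₀ s).U) :
    ∃ c : S → Chart X M, (∀ s, s ∈ (c s).U) ∧
      ∀ (s s' : S) (Y : Over S) (x : Y ⟶ X) (a : Y.left ⟶ ((c s).U : Scheme.{u}))
        (ha : a ≫ (c s).U.ι = Y.hom) (a' : Y.left ⟶ ((c s').U : Scheme.{u}))
        (ha' : a' ≫ (c s').U.ι = Y.hom), (c s).val x a ha = (c s').val x a' ha' := by
  obtain ⟨s₀⟩ : Nonempty S := inferInstance
  choose B hB using fun s => exists_twist hM (c₀ s₀) (c₀ s) s₀ s (hc₀ s₀) (hc₀ s)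
  let c : S → Chart X M := fun s => (c₀ s).twist (B s)
  refine ⟨c, fun s => hc₀ s, ?_⟩
  intro s s' Y x a ha a' ha'
  let V : S.Opens := (c s).U ⊓ (c s').U
  obtain ⟨b, hb⟩ := exists_factor_inf (c s).U (c s').U a ha a' ha'
  obtain ⟨w₁, hw₁⟩ := exists_mem_inf (c s).U (c s').U s s' (hc₀ s) (hc₀ s')
  obtain ⟨w, hw⟩ := exists_mem_inf V (c₀ s₀).U w₁ s₀ hw₁ (hc₀ s₀)
  haveI := connectedSpace_opens V w₁ hw₁
  obtain ⟨β, hβ⟩ := exists_transition hM (c s) (c s') (inf_le_left : V ≤ (c s).U)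
    (inf_le_right : V ≤ (c s').U)
  have hle' : V ⊓ (c₀ s₀).U ≤ (c s').U := inf_le_left.trans inf_le_right
  have hβ1 : β = AddMonoidHom.id M :=
    transition_unique (c s') hle' w hw _ _ (by
      intro Y₁ x₁ b₁ hb₁
      rw [DSmap_id, Category.comp_id]
      have hb₂ : (b₁ ≫ S.homOfLE (inf_le_left : V ⊓ (c₀ s₀).U ≤ V)) ≫ V.ι = Y₁.hom := by
        rw [Category.assoc, Scheme.homOfLE_ι, hb₁]
      have hb₃ : (b₁ ≫ S.homOfLE (inf_le_right : V ⊓ (c₀ s₀).U ≤ (c₀ s₀).U)) ≫ (c₀ s₀).U.ι =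
          Y₁.hom := by
        rw [Category.assoc, Scheme.homOfLE_ι, hb₁]
      have e1 := hβ Y₁ x₁ (b₁ ≫ S.homOfLE inf_le_left) hb₂
      have e2 : (c s').valV hle' x₁ b₁ hb₁ =
          (c s').valV (inf_le_right : V ≤ (c s').U) x₁ (b₁ ≫ S.homOfLE inf_le_left) hb₂ :=
        (c s').val_congr' rfl _ _
      have e3 : (c s).valV (inf_le_left : V ≤ (c s).U) x₁ (b₁ ≫ S.homOfLE inf_le_left) hb₂ =
          (c₀ s₀).val x₁ (b₁ ≫ S.homOfLE inf_le_right) hb₃ := hB s Y₁ x₁ _ _ _ _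
      have e4 : (c s').valV hle' x₁ b₁ hb₁ =
          (c₀ s₀).val x₁ (b₁ ≫ S.homOfLE inf_le_right) hb₃ := hB s' Y₁ x₁ _ _ _ _
      rw [e2, ← e1, e3, ← e2, e4])
  have h4 := hβ Y x b hb
  rw [hβ1, DSmap_id, Category.comp_id] at h4
  have e1 : (c s).val x a ha = (c s).valV (inf_le_left : V ≤ (c s).U) x b hb :=
    (c s).val_congr' rfl _ _
  have e2 : (c s').val x a' ha' = (c s').valV (inf_le_right : V ≤ (c s').U) x b hb :=
    (c s').val_congr' rfl _ _
  rw [e1, e2, h4]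

end Groth.Agent.Lib.Helper10.IrrSplit
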