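import Mathlib
import Groth.Agent.Lib.Helper10.IrrSplit6

/-!
# A locally split torus over an irreducible base is split
-/

set_option autoImplicit false
set_option linter.unusedSectionVars false
set_option linter.style.haveILetI false
set_option backward.isDefEq.respectTransparency.types false
set_option maxHeartbeats 4000000
set_option synthInstance.maxHeartbeats 400000
universe u
open CategoryTheory CategoryTheory.Limits AlgebraicGeometry Opposite MonoidalCategory
  CartesianMonoidalCategory MonObj GrpObj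

namespace Groth.Agent.Lib.Helper10.IrrSplit

open Groth.Agent.Lib.Helper21.GaPts Groth.Agent.Lib.Helper10.DiagHomProps
  Groth.Agent.Lib.Helper10.HomFamBC Groth.Agent.Lib.Helper10.DiagHom
  Groth.Agent.Lib.Helper10.TorusQuot Groth.Agent.Lib.Helper10.MultTypeHom
  Groth.Agent.Lib.Helper10.TorusKer Groth.Agent.Lib.Helper10.TorusMax
  Groth.Agent.Lib.Helper10.ImgSub Groth.Agent.Lib.Helper10.TorusLoc
  Groth.Agent.Lib.Helper10.RepDesc

variable {S : Scheme.{u}} {X : Over S} [GrpObj X] {M : Type} [AddCommGroup M]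

/-- the family of opens of a family of trivialisations is an fpqc covering family. -/
theorem chart_family_mem (c : S → Chart X M) (hc : ∀ s, s ∈ (c s).U) :
    Presieve.ofArrows (fun s => (((c s).U : S.Opens) : Scheme.{u})) (fun s => (c s).U.ι) ∈
      Scheme.fpqcPrecoverage S := by
  have h := Groth.Agent.Lib.Helper10.CharAsm.fpqc_family_mem (𝟙 S) inferInstance inferInstance
    (fun V hV => ⟨V, hV.isCompact, by simp⟩) (fun s => (c s).U) hc
  simpa only [Category.comp_id] using h

/-- morphisms out of `Y` agree if they agree on all points lying over the opens of a family of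
trivialisations. -/
theorem local_ext (c : S → Chart X M) (hc : ∀ s, s ∈ (c s).U) {Y Z : Over S} (p q : Y ⟶ Z)
    (h : ∀ (s : S) (Y' : Over S) (i : Y' ⟶ Y) (a : Y'.left ⟶ ((c s).U : Scheme.{u}))
      (_ : a ≫ (c s).U.ι = Y'.hom), i ≫ p = i ≫ q) : p = q := by
  let T' : S → Over S := fun s =>
    Over.mk (pullback.snd Y.hom (c s).U.ι ≫ (c s).U.ι)
  let ci : ∀ s, T' s ⟶ Y := fun s => Over.homMk (pullback.fst Y.hom (c s).U.ι) pullback.condition
  refine hom_ext_over (fun s => (c s).U.ι) (chart_family_mem c hc) ci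
    (fun s => pullback.snd Y.hom (c s).U.ι)
    (fun s => IsPullback.of_hasPullback Y.hom (c s).U.ι) p q (fun s => ?_)
  exact h s (T' s) (ci s) (pullback.snd Y.hom (c s).U.ι) rfl

/-- **gluing compatible trivialisations.** -/
theorem exists_glue (c : S → Chart X M) (hc : ∀ s, s ∈ (c s).U)
    (hcomp : ∀ (s s' : S) (Y : Over S) (x : Y ⟶ X) (a : Y.left ⟶ ((c s).U : Scheme.{u}))
      (ha : a ≫ (c s).U.ι = Y.hom) (a' : Y.left ⟶ ((c s').U : Scheme.{u}))
      (ha' : a' ≫ (c s').U.ι = Y.hom), (c s).val x a ha = (c s').val x a' ha') :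
    ∃ g : X ⟶ Red.DS S M, ∀ (s : S) (Y : Over S) (x : Y ⟶ X)
      (a : Y.left ⟶ ((c s).U : Scheme.{u})) (ha : a ≫ (c s).U.ι = Y.hom),
      x ≫ g = (c s).val x a ha := by
  let T' : S → Over S := fun s =>
    Over.mk (pullback.snd X.hom (c s).U.ι ≫ (c s).U.ι)
  let ci : ∀ s, T' s ⟶ X := fun s => Over.homMk (pullback.fst X.hom (c s).U.ι) pullback.condition
  let ψ : ∀ s, T' s ⟶ Red.DS S M := fun s =>
    (c s).val (ci s) (pullback.snd X.hom (c s).U.ι) rfl
  obtain ⟨g, hg, -⟩ := glue_over (fun s => (c s).U.ι) (chart_family_mem c hc) ci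
    (fun s => pullback.snd X.hom (c s).U.ι)
    (fun s => IsPullback.of_hasPullback X.hom (c s).U.ι) ψ (by
      intro s s' W w₀ w₁ hw
      change w₀ ≫ (c s).val (ci s) _ _ = w₁ ≫ (c s').val (ci s') _ _
      rw [Chart.val_comp, Chart.val_comp]
      have e1 := hcomp s s' W (w₀ ≫ ci s) (w₀.left ≫ pullback.snd X.hom (c s).U.ι)
        (by rw [Category.assoc]; exact Over.w w₀)
        (w₁.left ≫ pullback.snd X.hom (c s').U.ι) (by rw [Category.assoc]; exact Over.w w₁)
      rw [e1]
      exact (c s').val_congr' hw _ _)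
  refine ⟨g, ?_⟩
  intro s Y x a ha
  have hx : x.left ≫ X.hom = a ≫ (c s).U.ι := by rw [Over.w x, ha]
  let w : Y ⟶ T' s := Over.homMk (pullback.lift x.left a hx) (by
    change pullback.lift x.left a hx ≫ pullback.snd X.hom (c s).U.ι ≫ (c s).U.ι = Y.hom
    rw [← Category.assoc, pullback.lift_snd, ha])
  have hw : w ≫ ci s = x := by
    apply Over.OverMorphism.ext
    exact pullback.lift_fst _ _ _
  have h1 : x ≫ g = w ≫ ψ s := by rw [← hg s, ← Category.assoc, hw]
  rw [h1]
  change w ≫ (c s).val (ci s) _ _ = _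
  rw [Chart.val_comp]
  exact (c s).val_congr' hw _ _

/-- **a locally split torus over an irreducible base is split.** -/
theorem split_of_locSplitR [IrreducibleSpace ↥S] {r : ℕ} (h : LocSplitR X r) :
    Red.IsSplitTorusWith (Fin r → ℤ) X := by
  have hM : AddGroup.FG (Fin r → ℤ) := fg_fin_int r
  have h0 : ∀ s : S, ∃ c : Chart X (Fin r → ℤ), s ∈ c.U := by
    intro s
    obtain ⟨U, hU, ⟨φ⟩⟩ := h s
    obtain ⟨e, he⟩ := exists_iso_isMonHom φ
    exact ⟨⟨U, e, he⟩, hU⟩
  choose c₀ hc₀ using h0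
  obtain ⟨c, hc, hcomp⟩ := exists_compatible_charts hM c₀ hc₀
  obtain ⟨g, hg⟩ := exists_glue c hc hcomp
  haveI : IsMonHom g := by
    refine isMonHom_of_points g ?_ ?_
    · apply local_ext c hc
      intro s Y' i a ha
      rw [← Category.assoc, MonObj.comp_one, MonObj.comp_one, hg s Y' 1 a ha, Chart.val_one]
    · intro Y x y
      apply local_ext c hc
      intro s Y' i a ha
      rw [← Category.assoc, MonObj.comp_mul, MonObj.comp_mul, hg s Y' _ a ha, Chart.val_mul,
        ← hg s Y' (i ≫ x) a ha, ← hg s Y' (i ≫ y) a ha, Category.assoc, Category.assoc]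
  haveI : Mono g := by
    constructor
    intro Y x y hxy
    apply local_ext c hc
    intro s Y' i a ha
    apply (c s).val_injective _ _ a ha
    rw [← hg s Y' (i ≫ x) a ha, ← hg s Y' (i ≫ y) a ha, Category.assoc, Category.assoc, hxy]
  have hDS : LocSplitR (Red.DS S (Fin r → ℤ)) r := fun s =>
    ⟨⊤, trivial, ⟨bcDSIso (⊤ : S.Opens).ι (Fin r → ℤ)⟩⟩
  haveI : IsIso g := isIso_of_mono_locSplitR g h hDS
  haveI : IsMonHom (asIso g).hom := ‹IsMonHom g›
  exact ⟨Grp.mkIso' (asIso g)⟩

end Groth.Agent.Lib.Helper10.IrrSplit
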