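import Groth.Prelude.Def_CAlg
import Groth.Agent.Lib.Helper18.QGor6
import Groth.Agent.Lib.Helper18.QGor2
import Groth.Agent.Lib.Helper16.DepthLocalize

/-!
# A depth criterion for a linear map to be bijective (helper10)

`A` Noetherian, `u : M → N` linear with `M` finite.  If at every prime `p` either `u` is bijective
after localizing at `p` (elementwise form `LocBij`), or `depth M_p ≥ 2` and `p ∉ Ass N`, then `u` is
bijective (`bijective_of_forall_prime`).
-/

set_option autoImplicit false
set_option linter.unusedSectionVars false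
universe u

namespace Groth.Agent.Lib.Helper10.IsoCrit

open IsLocalRing Pointwise RingTheory.Sequence

section Local

variable {A : Type u} [CommRing A] [IsLocalRing A] [IsNoetherianRing A]
  {M N : Type u} [AddCommGroup M] [Module A M] [Module.Finite A M] [AddCommGroup N] [Module A N]

/-- An ideal not contained in any non-maximal prime contains a power of every element of the
maximal ideal. -/
theorem exists_pow_mem_of_forall_prime (I : Ideal A)
    (h : ∀ q : Ideal A, q.IsPrime → q ≠ maximalIdeal A → ¬ I ≤ q) (j : A) (hj : j ∈ maximalIdeal A) :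
    ∃ n : ℕ, j ^ n ∈ I := by
  change j ∈ I.radical
  rw [Ideal.radical_eq_sInf, Ideal.mem_sInf]
  rintro q ⟨hIq, hq⟩
  by_cases hqm : q = maximalIdeal A
  · rw [hqm]; exact hj
  · exact absurd hIq (h q hq hqm)

theorem depth_localization_maximalIdeal_eq :
    LocCoh.depth (Localization.AtPrime (maximalIdeal A))
      (LocalizedModule (maximalIdeal A).primeCompl M) = LocCoh.depth A M := by
  have hle : (maximalIdeal A).primeCompl ≤ IsUnit.submonoid A := by
    intro s hs
    exact (IsLocalRing.notMem_maximalIdeal.mp hs)
  have hloc : IsLocalization.AtPrime A (maximalIdeal A) := IsLocalization.of_le_isUnit hle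
  have hlm : IsLocalizedModule (maximalIdeal A).primeCompl (LinearMap.id : M →ₗ[A] M) :=
    isLocalizedModule_id (maximalIdeal A).primeCompl M A
  exact (Groth.Agent.Lib.Helper16.Depth.depth_eq_of_isLocalizedModule (maximalIdeal A) M A M
    LinearMap.id).symm

/-- Ideals containing a power of every element of the maximal ideal have the same depth bound. -/
theorem two_le_idealDepth_of_forall_pow_mem (hd : (2 : ℕ∞) ≤ LocCoh.depth A M) (I : Ideal A)
    (hI : ∀ j ∈ maximalIdeal A, ∃ n : ℕ, j ^ n ∈ I) :
    ((2 : ℕ) : ℕ∞) ≤ LocCoh.idealDepth I M := by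
  apply Groth.Agent.Lib.Helper18.QGor.le_idealDepth_of_forall_le_depth I 2 M
  intro p hp hIp
  have hpm : p = maximalIdeal A := by
    apply le_antisymm (IsLocalRing.le_maximalIdeal hp.ne_top)
    intro j hj
    obtain ⟨n, hn⟩ := hI j hj
    exact hp.mem_of_pow_mem n (hIp hn)
  subst hpm
  rw [depth_localization_maximalIdeal_eq]
  exact hd

/-- **Local form.** -/
theorem bijective_of_local (u : M →ₗ[A] N) (hd : (2 : ℕ∞) ≤ LocCoh.depth A M)
    (hass : maximalIdeal A ∉ associatedPrimes A N)
    (hker : ∀ y, u y = 0 → ∀ q : Ideal A, q.IsPrime → q ≠ maximalIdeal A → ∃ s, s ∉ q ∧ s • y = 0)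
    (hcoker : ∀ n : N, ∀ q : Ideal A, q.IsPrime → q ≠ maximalIdeal A →
      ∃ s, s ∉ q ∧ ∃ m, u m = s • n) : Function.Bijective u := by
  have hinj : Function.Injective u := by
    rw [injective_iff_map_eq_zero]
    intro y hy
    have h1 : (1 : ℕ∞) ≤ LocCoh.idealDepth (maximalIdeal A) M := le_trans (by norm_num) hd
    refine Groth.Agent.Lib.Helper18.QGor.eq_zero_of_forall_pow_smul_eq_zero _ _ h1 y
      (fun j hj => ?_)
    obtain ⟨n, hn⟩ := exists_pow_mem_of_forall_prime ((⊥ : Submodule A M).colon {y})
      (fun q hq hqm hle => by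
        obtain ⟨s, hsq, hsy⟩ := hker y hy q hq hqm
        exact hsq (hle (by rw [Submodule.mem_colon_singleton, Submodule.mem_bot]; exact hsy)))
      j hj
    exact ⟨n, by rwa [Submodule.mem_colon_singleton, Submodule.mem_bot] at hn⟩
  refine ⟨hinj, fun n => ?_⟩
  -- the ideal of denominators
  have hI : ∀ j ∈ maximalIdeal A, ∃ k : ℕ, j ^ k ∈ (LinearMap.range u).colon {n} :=
    exists_pow_mem_of_forall_prime _ (fun q hq hqm hle => by
      obtain ⟨s, hsq, m, hm⟩ := hcoker n q hq hqm
      exact hsq (hle (by rw [Submodule.mem_colon_singleton]; exact ⟨m, hm⟩)))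
  have h2 := two_le_idealDepth_of_forall_pow_mem hd _ hI
  rw [Groth.Agent.Lib.Helper16.Depth.le_idealDepth_iff] at h2
  -- key': an element killed by the ideal of denominators is zero (as `m ∉ Ass N`)
  have key' : ∀ g : N, (∀ c ∈ (LinearMap.range u).colon {n}, c • g = 0) → g = 0 := by
    intro g hann
    by_contra hg
    have hpow : ∀ j ∈ maximalIdeal A, ∃ k : ℕ, j ^ k • g = 0 := fun j hj => by
      obtain ⟨k, hk⟩ := hI j hj
      exact ⟨k, hann _ hk⟩
    apply hass
    obtain ⟨P, hP, hle⟩ := exists_le_isAssociatedPrime_of_isNoetherianRing A g hg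
    have hPp : P.IsPrime := hP.isPrime
    have hPm : P = maximalIdeal A := by
      apply le_antisymm (IsLocalRing.le_maximalIdeal hPp.ne_top)
      intro j hj
      obtain ⟨k, hk⟩ := hpow j hj
      apply hPp.mem_of_pow_mem k
      apply hle
      rw [Submodule.mem_colon_singleton, Submodule.mem_bot]
      exact hk
    rw [← hPm]
    exact hP
  -- key: an element `g` with `x • g = 0` for a regular `x`, and `I • g ⊆ range u`, is zero
  have key : ∀ (x : A) (g : N), IsSMulRegular M x → x • g = 0 →
      (∀ c ∈ (LinearMap.range u).colon {n}, c • g ∈ LinearMap.range u) → g = 0 := by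
    intro x g hx hxg hcg
    apply key'
    intro c hc
    obtain ⟨f, hf⟩ := hcg c hc
    have h3 : u (x • f) = 0 := by rw [map_smul, hf, smul_comm, hxg, smul_zero]
    have h4 : x • f = 0 := hinj (by rw [h3, map_zero])
    have h5 : f = 0 := hx (by change x • f = x • 0; rw [h4, smul_zero])
    rw [← hf, h5, map_zero]
  rcases h2 with htop | ⟨rs, hlen, hreg, hmem⟩
  · obtain ⟨e, he, heM⟩ := Submodule.exists_sub_one_mem_and_smul_eq_zero_of_fg_of_le_smul
      ((LinearMap.range u).colon {n}) (⊤ : Submodule A M) Module.Finite.fg_top htop.ge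
    have hc : 1 - e ∈ (LinearMap.range u).colon {n} := by
      have := ((LinearMap.range u).colon {n}).neg_mem he
      simpa using this
    rw [Submodule.mem_colon_singleton] at hc
    obtain ⟨m0, hm0⟩ := hc
    have hen : e • n = 0 := by
      apply key'
      intro c hc
      rw [Submodule.mem_colon_singleton] at hc
      obtain ⟨f, hf⟩ := hc
      rw [smul_comm, ← hf, ← map_smul, heM f trivial, map_zero]
    refine ⟨m0, ?_⟩
    rw [hm0, sub_smul, one_smul, hen, sub_zero]
  · obtain ⟨x, y, rfl⟩ := List.length_eq_two.mp hlen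
    rw [isWeaklyRegular_cons_iff, isWeaklyRegular_cons_iff] at hreg
    obtain ⟨hx, hy, -⟩ := hreg
    have hxI := hmem x (by simp)
    have hyI := hmem y (by simp)
    rw [Submodule.mem_colon_singleton] at hxI hyI
    obtain ⟨mx, hmx⟩ := hxI
    obtain ⟨my, hmy⟩ := hyI
    have heq : y • mx = x • my := by
      apply hinj
      rw [map_smul, map_smul, hmx, hmy, smul_comm]
    have hmem' : mx ∈ x • (⊤ : Submodule A M) := by
      have h0 : y • (Submodule.Quotient.mk mx : QuotSMulTop x M) = y • 0 := by
        rw [smul_zero, ← Submodule.Quotient.mk_smul, heq, Submodule.Quotient.mk_eq_zero]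
        exact Submodule.smul_mem_pointwise_smul _ _ _ Submodule.mem_top
      have := hy h0
      rwa [Submodule.Quotient.mk_eq_zero] at this
    obtain ⟨m', -, hm'⟩ := (Submodule.mem_smul_pointwise_iff_exists _ _ _).mp hmem'
    refine ⟨m', ?_⟩
    have hg : n - u m' = 0 := by
      apply key x (n - u m') hx
      · rw [smul_sub, ← map_smul, hm', hmx, sub_self]
      · intro c hc
        rw [Submodule.mem_colon_singleton] at hc
        rw [smul_sub, ← map_smul]
        exact Submodule.sub_mem _ hc ⟨_, rfl⟩
    exact (sub_eq_zero.mp hg).symm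

end Local

section Global

variable {A : Type u} [CommRing A] [IsNoetherianRing A]
  {M N : Type u} [AddCommGroup M] [Module A M] [Module.Finite A M] [AddCommGroup N] [Module A N]

/-- `u` becomes bijective after localizing at `p` (elementwise form). -/
def LocBij (u : M →ₗ[A] N) (p : Ideal A) : Prop :=
  (∀ y, u y = 0 → ∃ s, s ∉ p ∧ s • y = 0) ∧ (∀ n : N, ∃ s, s ∉ p ∧ ∃ m, u m = s • n)

omit [IsNoetherianRing A] [Module.Finite A M] in
theorem bijective_of_forall_locBij (u : M →ₗ[A] N)
    (h : ∀ p : Ideal A, p.IsMaximal → LocBij u p) : Function.Bijective u := by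
  constructor
  · rw [injective_iff_map_eq_zero]
    intro y hy
    by_contra hne
    have hI : (⊥ : Submodule A M).colon {y} ≠ ⊤ := by
      intro htop
      apply hne
      have : (1 : A) ∈ (⊥ : Submodule A M).colon {y} := by rw [htop]; trivial
      rw [Submodule.mem_colon_singleton, Submodule.mem_bot, one_smul] at this
      exact this
    obtain ⟨P, hP, hle⟩ := Ideal.exists_le_maximal _ hI
    obtain ⟨s, hsP, hsy⟩ := (h P hP).1 y hy
    exact hsP (hle (by rw [Submodule.mem_colon_singleton, Submodule.mem_bot]; exact hsy))
  · intro n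
    by_contra hne
    have hI : (LinearMap.range u).colon {n} ≠ ⊤ := by
      intro htop
      apply hne
      have : (1 : A) ∈ (LinearMap.range u).colon {n} := by rw [htop]; trivial
      rw [Submodule.mem_colon_singleton, one_smul] at this
      exact this
    obtain ⟨P, hP, hle⟩ := Ideal.exists_le_maximal _ hI
    obtain ⟨s, hsP, m, hm⟩ := (h P hP).2 n
    exact hsP (hle (by rw [Submodule.mem_colon_singleton]; exact ⟨m, hm⟩))

/-- The inductive step: localize at `p` and apply the local form. -/
theorem locBij_of_forall_lt (u : M →ₗ[A] N) (p : Ideal A) [hp : p.IsPrime]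
    (hd : (2 : ℕ∞) ≤ LocCoh.depth (Localization.AtPrime p) (LocalizedModule p.primeCompl M))
    (hass : p ∉ associatedPrimes A N)
    (hlt : ∀ (q : Ideal A), q.IsPrime → q < p → LocBij u q) : LocBij u p := by
  have hum : Ideal.comap (algebraMap A (Localization.AtPrime p))
      (maximalIdeal (Localization.AtPrime p)) = p := Localization.AtPrime.under_maximalIdeal
  have hunder : ∀ q' : Ideal (Localization.AtPrime p), q'.IsPrime →
      q' ≠ maximalIdeal (Localization.AtPrime p) →
      (q'.comap (algebraMap A (Localization.AtPrime p))).IsPrime ∧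
        q'.comap (algebraMap A (Localization.AtPrime p)) < p := by
    intro q' hq' hne
    refine ⟨Ideal.comap_isPrime _ _, lt_of_le_of_ne ?_ ?_⟩
    · have h1 : q' ≤ maximalIdeal (Localization.AtPrime p) := IsLocalRing.le_maximalIdeal hq'.ne_top
      have h2 := Ideal.comap_mono (f := algebraMap A (Localization.AtPrime p)) h1
      rwa [hum] at h2
    · intro heq
      apply hne
      have h3 := IsLocalization.map_under p.primeCompl (Localization.AtPrime p) q'
      rw [Ideal.under_def, heq, Localization.AtPrime.map_eq_maximalIdeal] at h3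
      exact h3.symm
  have hbij : Function.Bijective (LocalizedModule.map p.primeCompl u) := by
    apply bijective_of_local (LocalizedModule.map p.primeCompl u) hd
    · intro hmem
      apply hass
      have h := Module.associatedPrimes.preimage_comap_associatedPrimes_eq_associatedPrimes_of_isLocalizedModule
        p.primeCompl (R' := Localization.AtPrime p) (LocalizedModule.mkLinearMap p.primeCompl N)
      rw [← h, Set.mem_preimage, hum] at hmem
      exact hmem
    · intro y' hy' q' hq' hne
      obtain ⟨hqp, hqlt⟩ := hunder q' hq' hne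
      induction y' using LocalizedModule.induction_on with
      | h y s =>
        rw [LocalizedModule.map_mk, ← LocalizedModule.zero_mk s, LocalizedModule.mk_eq] at hy'
        obtain ⟨t, ht⟩ := hy'
        simp only [smul_zero] at ht
        have h1 : u ((t : A) • (s : A) • y) = 0 := by
          rw [map_smul, map_smul]; exact ht
        obtain ⟨r, hrq, hr⟩ := (hlt _ hqp hqlt).1 _ h1
        refine ⟨algebraMap A (Localization.AtPrime p) r, hrq, ?_⟩
        rw [algebraMap_smul, LocalizedModule.smul'_mk, ← LocalizedModule.zero_mk s,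
          LocalizedModule.mk_eq]
        refine ⟨t * s, ?_⟩
        simp only [smul_zero]
        change ((t : A) * (s : A)) • (s : A) • r • y = 0
        have : ((t : A) * (s : A)) • (s : A) • r • y = (s : A) • (r • (t : A) • (s : A) • y) := by
          simp only [smul_smul]; congr 1; ring
        rw [this, hr, smul_zero]
    · intro n' q' hq' hne
      obtain ⟨hqp, hqlt⟩ := hunder q' hq' hne
      induction n' using LocalizedModule.induction_on with
      | h n s =>
        obtain ⟨r, hrq, m, hm⟩ := (hlt _ hqp hqlt).2 n
        refine ⟨algebraMap A (Localization.AtPrime p) r, hrq, LocalizedModule.mk m s, ?_⟩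
        rw [LocalizedModule.map_mk, hm, algebraMap_smul, LocalizedModule.smul'_mk]
  constructor
  · intro y hy
    have h1 : LocalizedModule.map p.primeCompl u (LocalizedModule.mk y 1) = 0 := by
      rw [LocalizedModule.map_mk, hy, LocalizedModule.zero_mk]
    have h2 : LocalizedModule.mk y (1 : p.primeCompl) = 0 := hbij.1 (by rw [h1, map_zero])
    rw [← LocalizedModule.zero_mk (1 : p.primeCompl), LocalizedModule.mk_eq] at h2
    obtain ⟨t, ht⟩ := h2
    refine ⟨(t : A), t.2, ?_⟩
    simpa [Submonoid.smul_def] using ht
  · intro n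
    obtain ⟨x', hx'⟩ := hbij.2 (LocalizedModule.mk n 1)
    induction x' using LocalizedModule.induction_on with
    | h m s =>
      rw [LocalizedModule.map_mk, LocalizedModule.mk_eq] at hx'
      obtain ⟨t, ht⟩ := hx'
      refine ⟨(t : A) * (s : A), (t * s).2, (t : A) • m, ?_⟩
      rw [map_smul, mul_smul]
      simpa [Submonoid.smul_def] using ht

/-- **Depth criterion for bijectivity.** -/
theorem locBij_of_forall_prime (u : M →ₗ[A] N)
    (h : ∀ (p : Ideal A) [p.IsPrime], LocBij u p ∨
      ((2 : ℕ∞) ≤ LocCoh.depth (Localization.AtPrime p) (LocalizedModule p.primeCompl M) ∧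
        p ∉ associatedPrimes A N)) :
    ∀ (p : Ideal A) [p.IsPrime], LocBij u p := by
  have main : ∀ (k : ℕ) (p : Ideal A) [p.IsPrime], p.height = k → LocBij u p := by
    intro k
    induction k using Nat.strong_induction_on with
    | _ k ih =>
      intro p hp hk
      rcases h p with h1 | ⟨hd, hass⟩
      · exact h1
      · apply locBij_of_forall_lt u p hd hass
        intro q hq hqp
        have hh : q.height < p.height := Ideal.height_strict_mono_of_isPrime hqp
        have hfin : q.height ≠ ⊤ := Ideal.height_ne_top hq.ne_top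
        obtain ⟨j, hj⟩ := ENat.ne_top_iff_exists.mp hfin
        have hjk : j < k := by
          rw [hk, ← hj] at hh
          exact_mod_cast hh
        exact ih j hjk q hj.symm
  intro p hp
  have hfin : p.height ≠ ⊤ := Ideal.height_ne_top hp.ne_top
  obtain ⟨k, hk⟩ := ENat.ne_top_iff_exists.mp hfin
  exact main k p hk.symm

theorem bijective_of_forall_prime (u : M →ₗ[A] N)
    (h : ∀ (p : Ideal A) [p.IsPrime], LocBij u p ∨
      ((2 : ℕ∞) ≤ LocCoh.depth (Localization.AtPrime p) (LocalizedModule p.primeCompl M) ∧
        p ∉ associatedPrimes A N)) : Function.Bijective u :=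
  bijective_of_forall_locBij u fun p hp =>
    haveI := hp.isPrime
    locBij_of_forall_prime u h p

end Global

end Groth.Agent.Lib.Helper10.IsoCrit
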