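import Mathlib
import Groth.Agent.Lib.Helper10.IsomSch1
import Groth.Prelude.Def_ActBC

/-!
# Sections of the Isom scheme from equivariant isomorphisms after base change
-/

set_option autoImplicit false
set_option linter.unusedSectionVars false
set_option linter.style.haveILetI false
set_option backward.isDefEq.respectTransparency.types false
set_option maxHeartbeats 4000000
set_option synthInstance.maxHeartbeats 400000
universe u
open CategoryTheory CategoryTheory.Limits AlgebraicGeometry Opposite MonoidalCategory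
  CartesianMonoidalCategory MonObj GrpObj

namespace Groth.Agent.Lib.Helper10.IsomSch

variable {S U : Scheme.{u}} (j : U ⟶ S) {G P₁ P₂ : Over S} [GrpObj G]
  (a₁ : AlgGrp.Action G P₁) (a₂ : AlgGrp.Action G P₂)
  (e : NonAbH1.EquivIso (a₁.bc j) (a₂.bc j))

/-- the map on points over `S` induced by the isomorphism over `U`. -/
noncomputable def psi {T' : Over U} (x : (Over.map j).obj T' ⟶ P₁) : (Over.map j).obj T' ⟶ P₂ :=
  ((Over.mapPullbackAdj j).homEquiv T' P₂).symm
    ((Over.mapPullbackAdj j).homEquiv T' P₁ x ≫ e.iso.hom)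

theorem he_psi {T' : Over U} (x : (Over.map j).obj T' ⟶ P₁) :
    (Over.mapPullbackAdj j).homEquiv T' P₂ (psi j a₁ a₂ e x) =
      (Over.mapPullbackAdj j).homEquiv T' P₁ x ≫ e.iso.hom := by
  unfold psi
  rw [Equiv.apply_symm_apply]

theorem psi_act {T' : Over U} (g : (Over.map j).obj T' ⟶ G) (x : (Over.map j).obj T' ⟶ P₁) :
    psi j a₁ a₂ e (lift g x ≫ a₁.act) = lift g (psi j a₁ a₂ e x) ≫ a₂.act := by
  apply ((Over.mapPullbackAdj j).homEquiv T' P₂).injective
  rw [he_psi, ← AlgGrp.Action.lift_homEquiv_bc_act, ← AlgGrp.Action.lift_homEquiv_bc_act,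
    Category.assoc, e.comm, lift_whiskerLeft_assoc, he_psi]

theorem psi_natural {T'' T' : Over U} (u : T'' ⟶ T') (x : (Over.map j).obj T' ⟶ P₁) :
    psi j a₁ a₂ e ((Over.map j).map u ≫ x) = (Over.map j).map u ≫ psi j a₁ a₂ e x := by
  apply ((Over.mapPullbackAdj j).homEquiv T'' P₂).injective
  rw [he_psi, Adjunction.homEquiv_naturality_left, Adjunction.homEquiv_naturality_left, he_psi,
    Category.assoc]

variable {I : Over S} (q : P₁ ⊗ P₂ ⟶ I)
  (hinv : (a₁.prod a₂).act ≫ q = snd G (P₁ ⊗ P₂) ≫ q)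

/-- the value of the section on a point of `P₁`. -/
noncomputable def M {T' : Over U} (x : (Over.map j).obj T' ⟶ P₁) : (Over.map j).obj T' ⟶ I :=
  lift x (psi j a₁ a₂ e x) ≫ q

theorem M_natural {T'' T' : Over U} (u : T'' ⟶ T') (x : (Over.map j).obj T' ⟶ P₁) :
    M j a₁ a₂ e q ((Over.map j).map u ≫ x) = (Over.map j).map u ≫ M j a₁ a₂ e q x := by
  unfold M
  rw [psi_natural, ← comp_lift_assoc]

include hinv in
theorem M_act {T' : Over U} (g : (Over.map j).obj T' ⟶ G) (x : (Over.map j).obj T' ⟶ P₁) :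
    M j a₁ a₂ e q (lift g x ≫ a₁.act) = M j a₁ a₂ e q x := by
  unfold M
  rw [psi_act, ← AlgGrp.Action.lift_prod_act, Category.assoc, hinv, lift_snd_assoc]

theorem isLocallyTrivialFor_toUnit {B : Scheme.{u}} (X : Over B)
    (h : NonAbH1.IsLocallyTrivialFor Scheme.fpqcPrecoverage X) :
    NonAbH1.IsLocallyTrivialFor Scheme.fpqcPrecoverage
      (Over.mk (toUnit X).left : Over (𝟙_ (Over B)).left) := by
  obtain ⟨R, hR, hsec⟩ := h
  refine ⟨R, hR, fun S' f hf => ?_⟩
  obtain ⟨s, hs⟩ := hsec f hf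
  refine ⟨s, ?_⟩
  change s ≫ (toUnit X).left = f
  rw [toUnit_left, hs]

include hinv e in
/-- **An equivariant isomorphism over `U` gives a section of the Isom scheme over `U`.** -/
theorem exists_section_of_equivIso (h₁ : NonAbH1.IsTorsorFor Scheme.fpqcPrecoverage a₁) :
    ∃ s : U ⟶ I.left, s ≫ I.hom = j := by
  have hT : NonAbH1.IsTorsorFor Scheme.fpqcPrecoverage (a₁.bc j) :=
    NonAbH1.isTorsorFor_bc j Scheme.fpqcPrecoverage h₁
  have hsq := Groth.Agent.Lib.Helper10.TorsorSeries.isPullback_toUnit_of_isIso (a₁.bc j) hT.1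
  have hloc := isLocallyTrivialFor_toUnit (Red.bc j P₁) hT.2
  let x₀ : (Over.map j).obj (Red.bc j P₁) ⟶ P₁ :=
    ((Over.mapPullbackAdj j).homEquiv (Red.bc j P₁) P₁).symm (𝟙 _)
  let f : Red.bc j P₁ ⟶ Red.bc j I :=
    (Over.mapPullbackAdj j).homEquiv (Red.bc j P₁) I (M j a₁ a₂ e q x₀)
  have hf : ∀ {T' : Over U} (u : T' ⟶ Red.bc j P₁), u ≫ f =
      (Over.mapPullbackAdj j).homEquiv T' I
        (M j a₁ a₂ e q (((Over.mapPullbackAdj j).homEquiv T' P₁).symm u)) := by
    intro T' u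
    change u ≫ (Over.mapPullbackAdj j).homEquiv (Red.bc j P₁) I (M j a₁ a₂ e q x₀) = _
    rw [← Adjunction.homEquiv_naturality_left, ← M_natural]
    have e1 : (Over.map j).map u ≫ x₀ = ((Over.mapPullbackAdj j).homEquiv T' P₁).symm u := by
      change (Over.map j).map u ≫
        ((Over.mapPullbackAdj j).homEquiv (Red.bc j P₁) P₁).symm (𝟙 _) = _
      rw [← Adjunction.homEquiv_naturality_left_symm, Category.comp_id]
    rw [e1]
  have hinvf : (a₁.bc j).act ≫ f = snd (Red.bc j G) (Red.bc j P₁) ≫ f := by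
    rw [hf, hf]
    congr 1
    obtain ⟨g, hg⟩ : ∃ g : (Over.map j).obj (Red.bc j G ⊗ Red.bc j P₁) ⟶ G,
      (Over.mapPullbackAdj j).homEquiv _ G g = fst (Red.bc j G) (Red.bc j P₁) :=
      ⟨((Over.mapPullbackAdj j).homEquiv _ G).symm (fst _ _), Equiv.apply_symm_apply _ _⟩
    obtain ⟨x, hx⟩ : ∃ x : (Over.map j).obj (Red.bc j G ⊗ Red.bc j P₁) ⟶ P₁,
      (Over.mapPullbackAdj j).homEquiv _ P₁ x = snd (Red.bc j G) (Red.bc j P₁) :=
      ⟨((Over.mapPullbackAdj j).homEquiv _ P₁).symm (snd _ _), Equiv.apply_symm_apply _ _⟩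
    have hact : (a₁.bc j).act = (Over.mapPullbackAdj j).homEquiv _ P₁ (lift g x ≫ a₁.act) := by
      rw [← AlgGrp.Action.lift_homEquiv_bc_act, hg, hx, lift_fst_snd, Category.id_comp]
    rw [hact, Equiv.symm_apply_apply, M_act j a₁ a₂ e q hinv, ← hx, Equiv.symm_apply_apply]
  obtain ⟨g, hg, -⟩ := Groth.Agent.Lib.Helper10.FpqcBal.exists_unique_desc_of_isPullback
    (a₁.bc j) (toUnit (Red.bc j P₁)) hsq hloc f hinvf
  let s' : (Over.map j).obj (𝟙_ (Over U)) ⟶ I :=
    ((Over.mapPullbackAdj j).homEquiv (𝟙_ (Over U)) I).symm g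
  refine ⟨s'.left, ?_⟩
  have := Over.w s'
  rw [this]
  change 𝟙 U ≫ j = j
  exact Category.id_comp _

end Groth.Agent.Lib.Helper10.IsomSch
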