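import Mathlib
import Groth.Agent.Lib.Helper10.IsomSch2
import Groth.Agent.Lib.Helper10.NormalExt
import Groth.Agent.Lib.Helper10.QuotFibre1

/-!
# Injectivity of restriction to a dense open for torsors under finite flat groups over normal bases
-/

set_option autoImplicit false
set_option linter.unusedSectionVars false
set_option linter.style.haveILetI false
set_option backward.isDefEq.respectTransparency.types false
set_option maxHeartbeats 4000000
set_option synthInstance.maxHeartbeats 400000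
universe u
open CategoryTheory CategoryTheory.Limits AlgebraicGeometry Opposite MonoidalCategory
  CartesianMonoidalCategory MonObj GrpObj

namespace Groth.Agent.Lib.Helper10.IsomSch

section Equiv

variable {S : Scheme.{u}} {G X X' X'' : Over S} [GrpObj G]
  {a : AlgGrp.Action G X} {a' : AlgGrp.Action G X'} {a'' : AlgGrp.Action G X''}

/-- identity -/
def equivIsoRefl (a : AlgGrp.Action G X) : NonAbH1.EquivIso a a where
  iso := Iso.refl X
  comm := by
    rw [Iso.refl_hom, Category.comp_id, MonoidalCategory.whiskerLeft_id, Category.id_comp]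

/-- inverse -/
def equivIsoSymm (e : NonAbH1.EquivIso a a') : NonAbH1.EquivIso a' a where
  iso := e.iso.symm
  comm := by
    rw [Iso.symm_hom, ← cancel_mono e.iso.hom, Category.assoc, Iso.inv_hom_id, Category.comp_id,
      Category.assoc, e.comm, ← MonoidalCategory.whiskerLeft_comp_assoc, Iso.inv_hom_id,
      MonoidalCategory.whiskerLeft_id, Category.id_comp]

/-- composition -/
def equivIsoTrans (e : NonAbH1.EquivIso a a') (e' : NonAbH1.EquivIso a' a'') :
    NonAbH1.EquivIso a a'' where
  iso := e.iso ≪≫ e'.iso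
  comm := by
    rw [Iso.trans_hom, ← Category.assoc, e.comm, Category.assoc, e'.comm,
      MonoidalCategory.whiskerLeft_comp, Category.assoc]

theorem equivalence_equivIso (K : Precoverage Scheme.{u}) :
    Equivalence fun P Q : NonAbH1.TorsorSch G K => Nonempty (NonAbH1.EquivIso P.act Q.act) where
  refl P := ⟨equivIsoRefl P.act⟩
  symm := fun ⟨e⟩ => ⟨equivIsoSymm e⟩
  trans := fun ⟨e⟩ ⟨e'⟩ => ⟨equivIsoTrans e e'⟩

theorem nonempty_equivIso_of_cl_eq {K : Precoverage Scheme.{u}} (P Q : NonAbH1.TorsorSch G K)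
    (h : P.cl = Q.cl) : Nonempty (NonAbH1.EquivIso P.act Q.act) := by
  have h2 := Quot.eqvGen_exact h
  exact (equivalence_equivIso K).eqvGen_iff.mp h2

end Equiv

variable {X : Scheme.{u}} [IsIntegral X] {G P₁ P₂ : Over X} [GrpObj G]
  (a₁ : AlgGrp.Action G P₁) (a₂ : AlgGrp.Action G P₂)

/-- **Equivariant isomorphisms of torsors under a finite flat group over a normal integral scheme
extend from a nonempty open.** -/
theorem nonempty_equivIso_of_open (hX : ∀ x : X, IsIntegrallyClosed (X.presheaf.stalk x))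
    [IsFinite G.hom] [Flat G.hom]
    (h₁ : NonAbH1.IsTorsorFor Scheme.fpqcPrecoverage a₁)
    (h₂ : NonAbH1.IsTorsorFor Scheme.fpqcPrecoverage a₂)
    (U : X.Opens) (hU : (U : Set X).Nonempty)
    (e : NonAbH1.EquivIso (a₁.bc U.ι) (a₂.bc U.ι)) : Nonempty (NonAbH1.EquivIso a₁ a₂) := by
  haveI : IsFinite P₂.hom := Groth.Agent.Lib.Helper6.Torsor.isFinite_of_isTorsorFor_fpqc a₂ h₂
  obtain ⟨I, q, hinv, hpb⟩ := exists_isom a₁ a₂ h₁
  haveI : IsFinite I.hom := isFinite_isom a₁ q hpb h₁
  obtain ⟨sU, hsU⟩ := exists_section_of_equivIso U.ι a₁ a₂ e q hinv h₁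
  obtain ⟨g', -, hg'⟩ := Groth.Agent.Lib.Helper10.NormalExt.exists_extend_of_open hX (𝟙 X) I.hom
    U hU (pullback.snd (𝟙 X) U.ι ≫ sU) (by
      rw [Category.assoc, hsU, ← pullback.condition])
  let s : 𝟙_ (Over X) ⟶ I := Over.homMk g' hg'
  obtain ⟨θ, hθ⟩ := exists_equivariant_of_section a₁ a₂ q hinv hpb s
  haveI : IsIso θ := Groth.Agent.Lib.Helper10.TorsorIso.isIso_of_isEquivariant a₁ a₂ h₁ h₂.1 θ hθ
  exact ⟨⟨asIso θ, hθ⟩⟩

end Groth.Agent.Lib.Helper10.IsomSch
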