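import Mathlib
import Groth.Prelude.Def_SGA3x
import Groth.Agent.Lib.Helper10.KerLocal
import Groth.Agent.Lib.Helper10.FpqcLocus
import Groth.Agent.Lib.Helper10.MultTypeLocus

/-!
# SGA 3 IX 6.4: a homomorphism from a group of multiplicative type to a separated group which is
a monomorphism on one fibre is a monomorphism in a neighbourhood
-/

set_option autoImplicit false
set_option backward.isDefEq.respectTransparency.types false
set_option maxHeartbeats 4000000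
set_option synthInstance.maxHeartbeats 400000
universe u
open CategoryTheory CategoryTheory.Limits AlgebraicGeometry MonoidalCategory
  CartesianMonoidalCategory MonObj GrpObj

namespace Groth.Agent.Lib.Helper10.KerGlobal

open Groth.Agent.Lib.Helper10.FpqcLocus Groth.Agent.Lib.Helper10.BCProps
  Groth.Agent.Lib.Helper10.MultTypeHom Groth.Agent.Lib.Helper10.MultTypeLocus
  Groth.Agent.Lib.Helper10.KerTriv Groth.Agent.Lib.Helper10.KerLocal

section OpenLocus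

variable {S : Scheme.{u}} {Pr : ∀ ⦃T : Scheme.{u}⦄, (T ⟶ S) → Prop}

/-- **the locus where an fpqc-local property spreading out from points holds is open.** -/
theorem open_locus (hPr : IsLocalBC Pr) {S' : Scheme.{u}} (c : S' ⟶ S) [Flat c]
    (hfpqc : ∀ V : S.Opens, IsAffineOpen V → ∃ W : S'.Opens, IsCompact (W : Set S') ∧
      c.base '' (W : Set S') = (V : Set S))
    (hloc : ∀ t : S', Pr (S.fromSpecResidueField (c t)) → ∃ W : S'.Opens, t ∈ W ∧ Pr (W.ι ≫ c)) :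
    ∃ U : S.Opens, (∀ s, s ∈ U ↔ Pr (S.fromSpecResidueField s)) ∧ Pr U.ι := by
  let E : Set S := {s | Pr (S.fromSpecResidueField s)}
  have hA : ∀ W : S'.Opens, Pr (W.ι ≫ c) → ∀ w ∈ W, c w ∈ E := by
    intro W hW w hw
    exact hPr.at_point (W.ι ≫ c) hW ⟨w, hw⟩
  have hE1 : IsOpen (c.base ⁻¹' E) := by
    rw [isOpen_iff_forall_mem_open]
    intro t ht
    obtain ⟨W, htW, hW⟩ := hloc t ht
    exact ⟨W, fun w hw => hA W hW w hw, W.2, htW⟩
  have hEo : IsOpen E := isOpen_of_isOpen_preimage c hfpqc E hE1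
  refine ⟨⟨E, hEo⟩, fun s => Iff.rfl, ?_⟩
  let U : S.Opens := ⟨E, hEo⟩
  refine hPr.loc U.ι (fun z => ?_)
  obtain ⟨(V₀ : S.Opens), hV₀, hzV₀, hV₀U⟩ :=
    TopologicalSpace.Opens.isBasis_iff_nbhd.mp S.isBasis_affineOpens (show z.1 ∈ U from z.2)
  refine ⟨V₀.toScheme, S.homOfLE hV₀U, inferInstance, ⟨⟨z.1, hzV₀⟩, ?_⟩, ?_⟩
  · apply U.ι.isOpenEmbedding.injective
    change (S.homOfLE hV₀U ≫ U.ι) ⟨z.1, hzV₀⟩ = U.ι z
    rw [Scheme.homOfLE_ι]
    rfl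
  rw [Scheme.homOfLE_ι]
  obtain ⟨Sg, σ, c₀, hc₀, hfl, hsurj, hqc⟩ := exists_fpqc_refinement c hfpqc V₀ hV₀
  refine hPr.descent c₀ V₀.ι hfl hsurj hqc ?_
  rw [hc₀]
  refine hPr.loc (σ ≫ c) (fun z' => ?_)
  have hcz : c (σ z') ∈ E := by
    have : c (σ z') = V₀.ι (c₀ z') := by
      change (σ ≫ c) z' = (c₀ ≫ V₀.ι) z'
      rw [hc₀]
    rw [this]
    exact hV₀U (c₀ z').2
  obtain ⟨W, htW, hW⟩ := hloc (σ z') hcz
  refine ⟨(σ ⁻¹ᵁ W).toScheme, (σ ⁻¹ᵁ W).ι, inferInstance, ⟨⟨z', htW⟩, rfl⟩, ?_⟩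
  have hr : Set.range ((σ ⁻¹ᵁ W).ι ≫ σ) ⊆ Set.range W.ι := by
    rintro _ ⟨y, rfl⟩
    rw [Scheme.Opens.range_ι]
    exact y.2
  have hb : IsOpenImmersion.lift W.ι ((σ ⁻¹ᵁ W).ι ≫ σ) hr ≫ W.ι = (σ ⁻¹ᵁ W).ι ≫ σ :=
    IsOpenImmersion.lift_fac _ _ _
  rw [← Category.assoc, ← hb, Category.assoc]
  exact hPr.comp _ _ hW

end OpenLocus

section Iso

variable {S : Scheme.{u}} {H H' G : Over S} [GrpObj H] [GrpObj H'] [GrpObj G]
  (u : H ⟶ G) [IsMonHom u] (e : H ≅ H') [IsMonHom e.hom] [IsMonHom e.inv]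

theorem kerTriv_iso_iff {T : Scheme.{u}} (g : T ⟶ S) :
    KerTriv (e.inv ≫ u) g ↔ KerTriv u g := by
  constructor
  · intro h Y q hq a ha
    have h1 : (a ≫ e.hom) ≫ e.inv ≫ u = 1 := by
      rw [Category.assoc, Iso.hom_inv_id_assoc, ha]
    have h2 := h Y q hq _ h1
    have h3 : a = (a ≫ e.hom) ≫ e.inv := by rw [Category.assoc, Iso.hom_inv_id, Category.comp_id]
    rw [h3, h2, MonObj.one_comp]
  · intro h Y q hq a ha
    have h1 : (a ≫ e.inv) ≫ u = 1 := by rw [Category.assoc, ha]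
    have h2 := h Y q hq _ h1
    have h3 : a = (a ≫ e.inv) ≫ e.hom := by rw [Category.assoc, Iso.inv_hom_id, Category.comp_id]
    rw [h3, h2, MonObj.one_comp]

end Iso

section Main

variable {S : Scheme.{u}} (H G : Over S) [GrpObj H] [GrpObj G] [IsSeparated G.hom]
  (u : H ⟶ G) [IsMonHom u]

open scoped Obj in
/-- the local statement on a chart of the fpqc covering. -/
theorem exists_nhd_pbc {U₀ : Scheme.{u}} (a : U₀ ⟶ S) (M : Type) [AddCommGroup M]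
    (hM : AddGroup.FG M) (ψ : Grp.mk (Red.bc a H) ≅ Grp.mk (Red.DS U₀ M)) (t₀ : U₀)
    (ht₀ : Pbc u (MorphismProperty.monomorphisms Scheme.{u}) (S.fromSpecResidueField (a t₀))) :
    ∃ W : U₀.Opens, t₀ ∈ W ∧ Pbc u (MorphismProperty.monomorphisms Scheme.{u}) (W.ι ≫ a) := by
  obtain ⟨(V : U₀.Opens), hV, htV, -⟩ :=
    TopologicalSpace.Opens.isBasis_iff_nbhd.mp U₀.isBasis_affineOpens
      (TopologicalSpace.Opens.mem_top t₀)
  haveI : IsAffine V.toScheme := hV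
  let g₁ : V.toScheme ⟶ S := V.ι ≫ a
  let ψ' : Grp.mk (Red.bc g₁ H) ≅ Grp.mk (Red.DS V.toScheme M) := trivIso H a V.ι g₁ rfl M ψ
  obtain ⟨e, he, he'⟩ := exists_iso_isMonHom' ψ'
  let u₀ : Red.bc g₁ H ⟶ Red.bc g₁ G := (Over.pullback g₁).map u
  haveI : IsMonHom u₀ := Functor.map.instIsMonHom (F := Over.pullback g₁) H G u
  haveI : IsSeparated (Red.bc g₁ G).hom :=
    inferInstanceAs (IsSeparated (pullback.snd G.hom g₁))
  let u' : Red.DS V.toScheme M ⟶ Red.bc g₁ G := e.inv ≫ u₀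
  haveI : IsMonHom u' := inferInstance
  let t₁ : V.toScheme := ⟨t₀, htV⟩
  -- the hypothesis at `t₁`
  have h1 : Pbc u (MorphismProperty.monomorphisms Scheme.{u})
      (V.toScheme.fromSpecResidueField t₁ ≫ g₁) := by
    rw [← Scheme.Hom.SpecMap_residueFieldMap_fromSpecResidueField g₁ t₁]
    exact pbc_comp u _ _ _ ht₀
  have h2 : KerTriv u₀ (V.toScheme.fromSpecResidueField t₁) := by
    rw [kerTriv_iff_pbc]
    exact (pbc_comp_iff u _ _ g₁).mp h1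
  have h3 : KerTriv u' (V.toScheme.fromSpecResidueField t₁) := (kerTriv_iso_iff u₀ e _).mpr h2
  obtain ⟨g, htg, hg⟩ := exists_basicOpen_kerTriv M hM u' t₁ h3
  have h4 : KerTriv u₀ (V.toScheme.basicOpen g).ι := (kerTriv_iso_iff u₀ e _).mp hg
  have h5 : Pbc u (MorphismProperty.monomorphisms Scheme.{u})
      ((V.toScheme.basicOpen g).ι ≫ g₁) := by
    rw [pbc_comp_iff u _ _ g₁]
    exact (kerTriv_iff_pbc u₀ _).mp h4
  refine ⟨V.ι ''ᵁ (V.toScheme.basicOpen g), ⟨t₁, htg, rfl⟩, ?_⟩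
  have hr : Set.range (V.ι ''ᵁ (V.toScheme.basicOpen g)).ι ⊆
      Set.range ((V.toScheme.basicOpen g).ι ≫ V.ι) := by
    rintro _ ⟨z, rfl⟩
    obtain ⟨w, hw, hwz⟩ := z.2
    exact ⟨⟨w, hw⟩, hwz⟩
  have hb : IsOpenImmersion.lift ((V.toScheme.basicOpen g).ι ≫ V.ι)
      (V.ι ''ᵁ (V.toScheme.basicOpen g)).ι hr ≫ ((V.toScheme.basicOpen g).ι ≫ V.ι) =
      (V.ι ''ᵁ (V.toScheme.basicOpen g)).ι := IsOpenImmersion.lift_fac _ _ _
  rw [← hb, Category.assoc, Category.assoc]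
  exact pbc_comp u _ _ _ h5

/-- **SGA 3 IX 6.4.** -/
theorem exists_nhd_mono (hH : SGA3x.IsMultTypeFT H) (s : S)
    (hs : Mono ((Over.pullback (S.fromSpecResidueField s)).map u).left) :
    ∃ U : S.Opens, s ∈ U ∧ Mono ((Over.pullback U.ι).map u).left := by
  obtain ⟨S', cov, hfl, -, hfpqc, hloc⟩ := hH
  haveI := hfl
  have hL := isLocalBC_pbc u (MorphismProperty.monomorphisms Scheme.{u})
  have hloc' : ∀ t : S', Pbc u (MorphismProperty.monomorphisms Scheme.{u})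
      (S.fromSpecResidueField (cov t)) → ∃ W : S'.Opens, t ∈ W ∧
        Pbc u (MorphismProperty.monomorphisms Scheme.{u}) (W.ι ≫ cov) := by
    intro t ht
    obtain ⟨U₀, htU₀, M, _, hM, ⟨ψ⟩⟩ := hloc t
    obtain ⟨W, htW, hW⟩ := exists_nhd_pbc H G u (U₀.ι ≫ cov) M hM ψ ⟨t, htU₀⟩ ht
    refine ⟨U₀.ι ''ᵁ W, ⟨⟨t, htU₀⟩, htW, rfl⟩, ?_⟩
    have hr : Set.range (U₀.ι ''ᵁ W).ι ⊆ Set.range (W.ι ≫ U₀.ι) := by
      rintro _ ⟨z, rfl⟩
      obtain ⟨w, hw, hwz⟩ := z.2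
      exact ⟨⟨w, hw⟩, hwz⟩
    have hb : IsOpenImmersion.lift (W.ι ≫ U₀.ι) (U₀.ι ''ᵁ W).ι hr ≫ (W.ι ≫ U₀.ι) =
        (U₀.ι ''ᵁ W).ι := IsOpenImmersion.lift_fac _ _ _
    rw [← hb, Category.assoc, Category.assoc]
    exact pbc_comp u _ _ _ hW
  obtain ⟨U, hU1, hU2⟩ := open_locus hL cov hfpqc hloc'
  exact ⟨U, (hU1 s).mpr hs, hU2⟩

end Main

end Groth.Agent.Lib.Helper10.KerGlobal
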