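import Mathlib

/-!
# Kummer coverings: the standard étale algebra `A[X]/(X^n - a)` for `n`, `a` invertible
-/

set_option autoImplicit false
universe u
open CategoryTheory CategoryTheory.Limits AlgebraicGeometry Polynomial

namespace Groth.Agent.Lib.Helper10.Kummer

section ring

variable (A : Type u) [CommRing A] (n : ℕ) (hn0 : n ≠ 0) (a : Aˣ) (ν : A) (hν : (n : A) * ν = 1)

/-- The Kummer standard étale pair `(X^n - a, 1)`. -/
noncomputable def pair : StandardEtalePair A where
  f := X ^ n - C (a : A)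
  monic_f := monic_X_pow_sub_C _ hn0
  g := 1
  cond := by
    refine ⟨C (↑a⁻¹ * ν) * X, - C (↑a⁻¹ : A), 0, ?_⟩
    obtain ⟨m, rfl⟩ := Nat.exists_eq_add_one_of_ne_zero hn0
    have h1 : (C ((m + 1 : ℕ) : A) : A[X]) * C (↑a⁻¹ * ν) = C (↑a⁻¹ : A) := by
      rw [← C_mul]
      congr 1
      linear_combination (↑a⁻¹ : A) * hν
    have h2 : (C (a : A) : A[X]) * C (↑a⁻¹ : A) = 1 := by
      rw [← C_mul, Units.mul_inv, C_1]
    simp only [derivative_sub, derivative_X_pow, derivative_C, sub_zero, pow_zero,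
      Nat.add_sub_cancel]
    linear_combination (X ^ (m + 1) : A[X]) * h1 + h2

variable {A n} in
theorem X_pow (P : StandardEtalePair A) (hP : P.f = X ^ n - C (a : A)) :
    P.X ^ n = algebraMap A P.Ring a := by
  have h := P.hasMap_X.1
  rw [hP] at h
  simpa [sub_eq_zero] using h

theorem pair_X_pow : (pair A n hn0 a ν hν).X ^ n = algebraMap A (pair A n hn0 a ν hν).Ring a :=
  X_pow a _ rfl

theorem isUnit_pair_X : IsUnit (pair A n hn0 a ν hν).X := by
  obtain ⟨m, rfl⟩ := Nat.exists_eq_add_one_of_ne_zero hn0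
  have h := pair_X_pow A (m + 1) hn0 a ν hν
  refine IsUnit.of_mul_eq_one
    ((pair A (m + 1) hn0 a ν hν).X ^ m * algebraMap A _ (↑a⁻¹ : A)) ?_
  rw [← mul_assoc, ← pow_succ', h, ← map_mul, Units.mul_inv, map_one]

/-- `Spec A[X]/(X^n - a) → Spec A` is surjective. -/
theorem comap_surjective :
    Function.Surjective (PrimeSpectrum.comap (algebraMap A (pair A n hn0 a ν hν).Ring)) := by
  intro p
  let k := p.asIdeal.ResidueField
  let K := AlgebraicClosure k
  letI : Algebra A K := ((algebraMap k K).comp (algebraMap A k)).toAlgebra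
  obtain ⟨x, hx⟩ := IsAlgClosed.exists_pow_nat_eq (algebraMap A K a) (Nat.pos_of_ne_zero hn0)
  have hmap : (pair A n hn0 a ν hν).HasMap x := by
    refine ⟨?_, ?_⟩
    · change aeval x (X ^ n - C (a : A)) = 0
      simp [hx]
    · change IsUnit (aeval x (1 : A[X]))
      simp
  let ψ := (pair A n hn0 a ν hν).lift x hmap
  refine ⟨⟨RingHom.ker ψ.toRingHom, RingHom.ker_isPrime _⟩, ?_⟩
  apply PrimeSpectrum.ext
  ext r
  change ψ (algebraMap A _ r) = 0 ↔ r ∈ p.asIdeal
  rw [ψ.commutes]
  change algebraMap k K (algebraMap A k r) = 0 ↔ _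
  rw [map_eq_zero_iff _ (algebraMap k K).injective, Ideal.algebraMap_residueField_eq_zero]

end ring

end Groth.Agent.Lib.Helper10.Kummer
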