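import Mathlib
import Groth.Prelude.Def_W4stkremschemesLRS

/-!
# Closed immersions of locally ringed spaces: stalk-level reformulation
-/

set_option autoImplicit false
set_option linter.unusedSectionVars false
set_option linter.style.haveILetI false
set_option backward.isDefEq.respectTransparency.types false
set_option maxHeartbeats 4000000
set_option synthInstance.maxHeartbeats 400000
universe u
open CategoryTheory CategoryTheory.Limits AlgebraicGeometry Opposite TopologicalSpace

namespace Groth.Agent.Lib.Helper10.LRSImmLib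

variable {Z X : LocallyRingedSpace.{u}}

/-- the defining formula of the stalk map. -/
theorem stalkMap_eq (i : Z ⟶ X) (z : Z) :
    i.stalkMap z = (TopCat.Presheaf.stalkFunctor CommRingCat (i.base z)).map i.c ≫
      Z.presheaf.stalkPushforward CommRingCat i.base z := rfl

theorem stalkMap_surjective (i : Z ⟶ X) (hi : LRSImm.IsClosedImmersion i) (z : Z) :
    Function.Surjective (i.stalkMap z).hom := by
  obtain ⟨hemb, hsurj, -⟩ := hi
  have h1 := (TopCat.Presheaf.locally_surjective_iff_surjective_on_stalks i.c).mp hsurj (i.base z)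
  haveI := TopCat.Presheaf.stalkPushforward.stalkPushforward_iso_of_isInducing
    (C := CommRingCat) hemb.isInducing Z.presheaf z
  have h2 : Function.Bijective (Z.presheaf.stalkPushforward CommRingCat i.base z).hom :=
    (ConcreteCategory.isIso_iff_bijective _).mp inferInstance
  intro t
  obtain ⟨t', ht'⟩ := h2.surjective t
  obtain ⟨a, ha⟩ := h1 t'
  refine ⟨a, ?_⟩
  change (Z.presheaf.stalkPushforward CommRingCat i.base z).hom
    (((TopCat.Presheaf.stalkFunctor CommRingCat (i.base z)).map i.c).hom a) = t
  rw [← ht']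
  exact congrArg _ ha

theorem stalkMap_eq_zero_iff (i : Z ⟶ X) (hi : LRSImm.IsClosedImmersion i) (z : Z)
    (a : X.presheaf.stalk (i.base z)) :
    (i.stalkMap z).hom a = 0 ↔
      ((TopCat.Presheaf.stalkFunctor CommRingCat (i.base z)).map i.c).hom a = 0 := by
  obtain ⟨hemb, hsurj, -⟩ := hi
  haveI := TopCat.Presheaf.stalkPushforward.stalkPushforward_iso_of_isInducing
    (C := CommRingCat) hemb.isInducing Z.presheaf z
  have h2 : Function.Bijective (Z.presheaf.stalkPushforward CommRingCat i.base z).hom :=
    (ConcreteCategory.isIso_iff_bijective _).mp inferInstance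
  change (Z.presheaf.stalkPushforward CommRingCat i.base z).hom
    (((TopCat.Presheaf.stalkFunctor CommRingCat (i.base z)).map i.c).hom a) = 0 ↔ _
  constructor
  · intro h
    exact h2.injective (h.trans (map_zero _).symm)
  · intro h
    exact (congrArg _ h).trans (map_zero _)

theorem ker_eq_top_of_not_mem_range (i : Z ⟶ X) (hi : LRSImm.IsClosedImmersion i) (x : X)
    (hx : x ∉ Set.range i.base) :
    ∀ a : X.presheaf.stalk x, ((TopCat.Presheaf.stalkFunctor CommRingCat x).map i.c).hom a = 0 := by
  obtain ⟨hemb, -, -⟩ := hi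
  let V : Opens X := ⟨(Set.range i.base)ᶜ, hemb.isClosed_range.isOpen_compl⟩
  have hxV : x ∈ V := hx
  have hbot : (Opens.map i.base).obj V = ⊥ := by
    ext z
    simp only [Opens.map_coe, Opens.coe_bot, Set.mem_preimage, Set.mem_empty_iff_false, iff_false]
    intro hz
    exact hz ⟨z, rfl⟩
  haveI : Subsingleton ((i.base _* Z.presheaf).obj (op V)) := by
    change Subsingleton (Z.presheaf.obj (op ((Opens.map i.base).obj V)))
    rw [hbot]
    exact CommRingCat.subsingleton_of_isTerminal Z.sheaf.isTerminalOfEmpty
  haveI : Subsingleton ((i.base _* Z.presheaf).stalk x) := by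
    have h1 : (1 : (i.base _* Z.presheaf).stalk x) = 0 := by
      have e1 : ((i.base _* Z.presheaf).germ V x hxV).hom 1 = 1 := map_one _
      have e0 : ((i.base _* Z.presheaf).germ V x hxV).hom 0 = 0 := map_zero _
      rw [← e1, ← e0, Subsingleton.elim (1 : (i.base _* Z.presheaf).obj (op V)) 0]
    exact subsingleton_of_zero_eq_one h1.symm
  intro a
  exact Subsingleton.elim (α := ((i.base _* Z.presheaf).stalk x)) _ _

/-- Stalkwise form of `KerLocallyGenerated`. -/
theorem exists_local_generators (i : Z ⟶ X) (hi : LRSImm.IsClosedImmersion i) (x : X) :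
    ∃ (U : Opens X) (_ : x ∈ U) (ι : Type u) (s : ι → X.presheaf.obj (op U)),
      (∀ j, i.c.app (op U) (s j) = 0) ∧
      (∀ (z : Z) (hz : i.base z ∈ U) (a : X.presheaf.stalk (i.base z)),
         (i.stalkMap z).hom a = 0 →
          a ∈ Ideal.span (Set.range fun j => X.presheaf.germ U (i.base z) hz (s j))) ∧
      (∀ (x' : X) (hx' : x' ∈ U), x' ∉ Set.range i.base →
         Ideal.span (Set.range fun j => X.presheaf.germ U x' hx' (s j)) = ⊤) := by
  obtain ⟨U, hxU, ι, s, hs0, hs⟩ := hi.2.2 x
  refine ⟨U, hxU, ι, s, hs0, ?_, ?_⟩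
  · intro z hz a ha
    rw [hs (i.base z) hz]
    exact (RingHom.mem_ker (f := ((TopCat.Presheaf.stalkFunctor CommRingCat (i.base z)).map
      i.c).hom)).mpr ((stalkMap_eq_zero_iff i hi z a).mp ha)
  · intro x' hx' hnot
    rw [hs x' hx']
    refine (Ideal.eq_top_iff_one _).mpr ?_
    exact (RingHom.mem_ker (f := ((TopCat.Presheaf.stalkFunctor CommRingCat x').map
      i.c).hom)).mpr (ker_eq_top_of_not_mem_range i hi x' hnot 1)

end Groth.Agent.Lib.Helper10.LRSImmLib
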