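import Mathlib
import Groth.Agent.Lib.Helper10.LRSImm1

/-!
# Closed immersions of locally ringed spaces into affine schemes, globally generated kernel
-/

set_option autoImplicit false
set_option linter.unusedSectionVars false
set_option linter.style.haveILetI false
set_option backward.isDefEq.respectTransparency.types false
set_option maxHeartbeats 4000000
set_option synthInstance.maxHeartbeats 400000
universe u
open CategoryTheory CategoryTheory.Limits AlgebraicGeometry Opposite TopologicalSpace

namespace Groth.Agent.Lib.Helper10.LRSImmLib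

/-- the ring homomorphism adjoint to a morphism into an affine scheme. -/
noncomputable def phi {A : CommRingCat.{u}} {Z : LocallyRingedSpace.{u}}
    (i : Z ⟶ (Spec A).toLocallyRingedSpace) : A ⟶ LocallyRingedSpace.Γ.obj (op Z) :=
  ((ΓSpec.locallyRingedSpaceAdjunction.homEquiv Z (op A)).symm i).unop

theorem phi_eq {A : CommRingCat.{u}} {Z : LocallyRingedSpace.{u}}
    (i : Z ⟶ (Spec A).toLocallyRingedSpace) :
    phi i = (Scheme.ΓSpecIso A).inv ≫ i.c.app (op ⊤) := by
  unfold phi
  rw [Adjunction.homEquiv_counit]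
  rfl

theorem homEquiv_phi {A : CommRingCat.{u}} {Z : LocallyRingedSpace.{u}}
    (i : Z ⟶ (Spec A).toLocallyRingedSpace) :
    ΓSpec.locallyRingedSpaceAdjunction.homEquiv Z (op A) (phi i).op = i := by
  unfold phi
  exact Equiv.apply_symm_apply _ i

/-- factorisation of a morphism to `Spec A` through `Spec (A ⧸ J)` when `J` is killed. -/
theorem exists_factor {A : CommRingCat.{u}} {Z : LocallyRingedSpace.{u}}
    (i : Z ⟶ (Spec A).toLocallyRingedSpace) (J : Ideal A)
    (hJ : ∀ a ∈ J, i.c.app (op ⊤) ((Scheme.ΓSpecIso A).inv a) = 0) :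
    ∃ j : Z ⟶ (Spec (CommRingCat.of (A ⧸ J))).toLocallyRingedSpace,
      j ≫ (Spec.map (CommRingCat.ofHom (Ideal.Quotient.mk J))).toLRSHom = i := by
  have hJ' : ∀ a ∈ J, (phi i).hom a = 0 := by
    intro a ha
    rw [phi_eq]
    exact hJ a ha
  let ψ : CommRingCat.of (A ⧸ J) ⟶ LocallyRingedSpace.Γ.obj (op Z) :=
    CommRingCat.ofHom (Ideal.Quotient.lift J (phi i).hom hJ')
  have hψ : CommRingCat.ofHom (Ideal.Quotient.mk J) ≫ ψ = phi i := by
    ext a
    exact Ideal.Quotient.lift_mk J (phi i).hom hJ'
  refine ⟨ΓSpec.locallyRingedSpaceAdjunction.homEquiv Z (op (CommRingCat.of (A ⧸ J))) ψ.op, ?_⟩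
  have := Adjunction.homEquiv_naturality_right ΓSpec.locallyRingedSpaceAdjunction (X := Z)
    ψ.op (CommRingCat.ofHom (Ideal.Quotient.mk J)).op
  rw [← op_comp, hψ, homEquiv_phi] at this
  exact this.symm

/-- a bijective closed embedding inducing bijections on stalks is an isomorphism. -/
theorem isIso_of_stalk_bijective {Z Y : LocallyRingedSpace.{u}} (j : Z ⟶ Y)
    (hemb : Topology.IsClosedEmbedding j.base) (hsurj : Function.Surjective j.base)
    (hst : ∀ z, Function.Bijective (j.stalkMap z).hom) : IsIso j := by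
  have hopen : Topology.IsOpenEmbedding j.base :=
    ⟨hemb.isEmbedding, by rw [hsurj.range_eq]; exact isOpen_univ⟩
  haveI : ∀ z : Z.1, IsIso (j.stalkMap z) := fun z =>
    (ConcreteCategory.isIso_iff_bijective _).mpr (hst z)
  haveI : LocallyRingedSpace.IsOpenImmersion j :=
    LocallyRingedSpace.IsOpenImmersion.of_stalk_iso j hopen
  haveI : Epi j.base := (TopCat.epi_iff_surjective _).mpr hsurj
  exact LocallyRingedSpace.IsOpenImmersion.to_iso j

end Groth.Agent.Lib.Helper10.LRSImmLib
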