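import Mathlib
import Groth.Agent.Lib.Helper10.LRSImm2

/-!
# Closed immersions of locally ringed spaces into affine schemes, globally generated kernel: main
-/

set_option autoImplicit false
set_option linter.unusedSectionVars false
set_option linter.style.haveILetI false
set_option backward.isDefEq.respectTransparency.types false
set_option maxHeartbeats 4000000
set_option synthInstance.maxHeartbeats 400000
universe u
open CategoryTheory CategoryTheory.Limits AlgebraicGeometry Opposite TopologicalSpace

namespace Groth.Agent.Lib.Helper10.LRSImmLib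

/-- germs of elements of `J` die in the stalks of `Spec (A ⧸ J)`. -/
theorem stalkMap_quotient_germ {A : Type u} [CommRing A] (J : Ideal A) (a : A) (ha : a ∈ J)
    (q : Spec (CommRingCat.of (A ⧸ J))) :
    ((Spec.map (CommRingCat.ofHom (Ideal.Quotient.mk J))).stalkMap q).hom
      ((Spec (CommRingCat.of A)).presheaf.germ ⊤
        ((Spec.map (CommRingCat.ofHom (Ideal.Quotient.mk J))) q) trivial
        ((Scheme.ΓSpecIso (CommRingCat.of A)).inv a)) = 0 := by
  have h1 := Scheme.Hom.germ_stalkMap_apply (Spec.map (CommRingCat.ofHom (Ideal.Quotient.mk J))) ⊤ q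
    trivial ((Scheme.ΓSpecIso (CommRingCat.of A)).inv a)
  refine h1.trans ?_
  have h2 : (Spec.map (CommRingCat.ofHom (Ideal.Quotient.mk J))).app ⊤
      ((Scheme.ΓSpecIso (CommRingCat.of A)).inv a) =
      (Scheme.ΓSpecIso (CommRingCat.of (A ⧸ J))).inv (Ideal.Quotient.mk J a) := by
    have := Scheme.ΓSpecIso_inv_naturality (CommRingCat.ofHom (Ideal.Quotient.mk J))
    exact (congrArg (fun φ => φ.hom a) this).symm
  rw [h2, Ideal.Quotient.eq_zero_iff_mem.mpr ha, map_zero]
  exact map_zero _

/-- **Affine case with globally generated kernel.** -/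
theorem exists_iso_Spec_quotient {A : Type u} [CommRing A] {Z : LocallyRingedSpace.{u}}
    (i : Z ⟶ (Spec (CommRingCat.of A)).toLocallyRingedSpace)
    (hemb : Topology.IsClosedEmbedding i.base)
    (hsurj : ∀ z, Function.Surjective (i.stalkMap z).hom)
    {ι : Type u} (s : ι → A)
    (hs0 : ∀ j, i.c.app (op ⊤) ((Scheme.ΓSpecIso (CommRingCat.of A)).inv (s j)) = 0)
    (hker : ∀ (z : Z) (a : (Spec (CommRingCat.of A)).presheaf.stalk (i.base z)),
      (i.stalkMap z).hom a = 0 →
        a ∈ Ideal.span (Set.range fun j =>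
          (Spec (CommRingCat.of A)).presheaf.germ ⊤ (i.base z) trivial
            ((Scheme.ΓSpecIso (CommRingCat.of A)).inv (s j))))
    (hout : ∀ p : Spec (CommRingCat.of A), p ∉ Set.range i.base →
        Ideal.span (Set.range fun j =>
          (Spec (CommRingCat.of A)).presheaf.germ ⊤ p trivial
            ((Scheme.ΓSpecIso (CommRingCat.of A)).inv (s j))) = ⊤) :
    ∃ e : Z ≅ (Spec (CommRingCat.of (A ⧸ Ideal.span (Set.range s)))).toLocallyRingedSpace,
      e.hom ≫ (Spec.map (CommRingCat.ofHom
        (Ideal.Quotient.mk (Ideal.span (Set.range s))))).toLRSHom = i := by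
  set J := Ideal.span (Set.range s) with hJdef
  have hJ : ∀ a ∈ J, i.c.app (op ⊤) ((Scheme.ΓSpecIso (CommRingCat.of A)).inv a) = 0 := by
    intro a ha
    have : J ≤ RingHom.ker ((Scheme.ΓSpecIso (CommRingCat.of A)).inv ≫ i.c.app (op ⊤)).hom := by
      rw [hJdef, Ideal.span_le]
      rintro _ ⟨j, rfl⟩
      exact hs0 j
    exact this ha
  obtain ⟨j, hj⟩ := exists_factor i J hJ
  subst hj
  set cS : Spec (CommRingCat.of (A ⧸ J)) ⟶ Spec (CommRingCat.of A) :=
    Spec.map (CommRingCat.ofHom (Ideal.Quotient.mk J)) with hcS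
  haveI hcl : IsClosedImmersion cS :=
    IsClosedImmersion.spec_of_surjective _ Ideal.Quotient.mk_surjective
  have hcemb : Topology.IsClosedEmbedding cS.toLRSHom.base := cS.isClosedEmbedding
  have hcsurj : ∀ q, Function.Surjective (cS.toLRSHom.stalkMap q).hom := fun q =>
    cS.stalkMap_surjective q
  -- generators die
  have hgen : ∀ (q : Spec (CommRingCat.of (A ⧸ J))) (k : ι),
      (cS.toLRSHom.stalkMap q).hom ((Spec (CommRingCat.of A)).presheaf.germ ⊤
        (cS.toLRSHom.base q) trivial ((Scheme.ΓSpecIso (CommRingCat.of A)).inv (s k))) = 0 :=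
    fun q k => stalkMap_quotient_germ J (s k) (Ideal.subset_span ⟨k, rfl⟩) q
  -- (1) closed embedding
  have hjemb : Topology.IsClosedEmbedding j.base :=
    (Topology.IsClosedEmbedding.of_comp_iff hcemb).mp hemb
  -- (2) surjective
  have hjsurj : Function.Surjective j.base := by
    intro q
    by_contra hq
    have hq' : cS.toLRSHom.base q ∉ Set.range (j ≫ cS.toLRSHom).base := by
      rintro ⟨z, hz⟩
      exact hq ⟨z, hcemb.injective hz⟩
    have htop := hout _ hq'
    have hle : Ideal.span (Set.range fun k =>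
        (Spec (CommRingCat.of A)).presheaf.germ ⊤ (cS.toLRSHom.base q) trivial
          ((Scheme.ΓSpecIso (CommRingCat.of A)).inv (s k))) ≤
        IsLocalRing.maximalIdeal ((Spec (CommRingCat.of A)).presheaf.stalk (cS.toLRSHom.base q)) := by
      rw [Ideal.span_le]
      rintro _ ⟨k, rfl⟩
      change _ ∈ IsLocalRing.maximalIdeal _
      rw [IsLocalRing.mem_maximalIdeal, mem_nonunits_iff]
      intro hu
      have := hu.map (cS.toLRSHom.stalkMap q).hom
      rw [hgen q k] at this
      exact not_isUnit_zero this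
    rw [htop] at hle
    exact (IsLocalRing.maximalIdeal.isMaximal _).ne_top (top_le_iff.mp hle)
  -- (3) stalks
  have hst : ∀ z, Function.Bijective (j.stalkMap z).hom := by
    intro z
    have hcomp : (j ≫ cS.toLRSHom).stalkMap z = cS.toLRSHom.stalkMap (j.base z) ≫ j.stalkMap z :=
      LocallyRingedSpace.stalkMap_comp j cS.toLRSHom z
    constructor
    · rw [injective_iff_map_eq_zero]
      intro y hy
      obtain ⟨a, rfl⟩ := hcsurj (j.base z) y
      have h0 : ((j ≫ cS.toLRSHom).stalkMap z).hom a = 0 := by
        rw [hcomp]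
        exact hy
      have hmem := hker z a h0
      have hle : Ideal.span (Set.range fun k =>
          (Spec (CommRingCat.of A)).presheaf.germ ⊤ ((j ≫ cS.toLRSHom).base z) trivial
            ((Scheme.ΓSpecIso (CommRingCat.of A)).inv (s k))) ≤
          RingHom.ker (cS.toLRSHom.stalkMap (j.base z)).hom := by
        rw [Ideal.span_le]
        rintro _ ⟨k, rfl⟩
        exact hgen (j.base z) k
      exact hle hmem
    · intro t
      obtain ⟨a, ha⟩ := hsurj z t
      refine ⟨(cS.toLRSHom.stalkMap (j.base z)).hom a, ?_⟩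
      rw [hcomp] at ha
      exact ha
  haveI := isIso_of_stalk_bijective j hjemb hjsurj hst
  exact ⟨asIso j, rfl⟩

end Groth.Agent.Lib.Helper10.LRSImmLib
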