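import Mathlib
import Groth.Agent.Lib.Helper10.LRSImm3

/-!
# Closed immersions of locally ringed spaces: transport of the stalk conditions along squares
-/

set_option autoImplicit false
set_option linter.unusedSectionVars false
set_option linter.style.haveILetI false
set_option backward.isDefEq.respectTransparency.types false
set_option maxHeartbeats 4000000
set_option synthInstance.maxHeartbeats 400000
universe u
open CategoryTheory CategoryTheory.Limits AlgebraicGeometry Opposite TopologicalSpace

namespace Groth.Agent.Lib.Helper10.LRSImmLib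

section Pred
variable {P X : LocallyRingedSpace.{u}} (U : Opens X) {ι : Type u} (s : ι → X.presheaf.obj (op U))

/-- stalk maps are surjective. -/
def SurjP (g : P ⟶ X) : Prop := ∀ p, Function.Surjective (g.stalkMap p).hom

/-- the kernels of the stalk maps are generated by the germs of the `s j`. -/
def KerP (g : P ⟶ X) : Prop :=
  ∀ (p : P) (hp : g.base p ∈ U) (β : X.presheaf.stalk (g.base p)), (g.stalkMap p).hom β = 0 →
    β ∈ Ideal.span (Set.range fun j => X.presheaf.germ U (g.base p) hp (s j))

/-- the germs of the `s j` die. -/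
def ZeroP (g : P ⟶ X) : Prop :=
  ∀ (p : P) (hp : g.base p ∈ U) (j : ι),
    (g.stalkMap p).hom (X.presheaf.germ U (g.base p) hp (s j)) = 0

end Pred

section Precomp
variable {P Z X : LocallyRingedSpace.{u}} (U : Opens X) {ι : Type u}
  (s : ι → X.presheaf.obj (op U)) (b : P ⟶ Z) (i : Z ⟶ X)

theorem SurjP.precomp (hb : ∀ p, Function.Bijective (b.stalkMap p).hom) (hi : SurjP i) :
    SurjP (b ≫ i) := by
  intro p
  have hcomp : (b ≫ i).stalkMap p = i.stalkMap (b.base p) ≫ b.stalkMap p :=
    LocallyRingedSpace.stalkMap_comp b i p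
  rw [hcomp]
  exact (hb p).surjective.comp (hi (b.base p))

theorem KerP.precomp (hb : ∀ p, Function.Bijective (b.stalkMap p).hom) (hi : KerP U s i) :
    KerP U s (b ≫ i) := by
  intro p hp β hβ
  have hcomp : (b ≫ i).stalkMap p = i.stalkMap (b.base p) ≫ b.stalkMap p :=
    LocallyRingedSpace.stalkMap_comp b i p
  rw [hcomp] at hβ
  have h0 : (i.stalkMap (b.base p)).hom β = 0 :=
    (hb p).injective (hβ.trans (map_zero _).symm)
  exact hi (b.base p) hp β h0

theorem ZeroP.precomp (hi : ZeroP U s i) : ZeroP U s (b ≫ i) := by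
  intro p hp j
  have hcomp : (b ≫ i).stalkMap p = i.stalkMap (b.base p) ≫ b.stalkMap p :=
    LocallyRingedSpace.stalkMap_comp b i p
  rw [hcomp]
  have h1 : (i.stalkMap (b.base p)).hom (X.presheaf.germ U (i.base (b.base p)) hp (s j)) = 0 :=
    hi (b.base p) hp j
  change (b.stalkMap p).hom ((i.stalkMap (b.base p)).hom
    (X.presheaf.germ U (i.base (b.base p)) hp (s j))) = 0
  rw [h1, map_zero]

end Precomp

section Cancel
variable {P S X : LocallyRingedSpace.{u}} (U : Opens X) {ι : Type u}
  (s : ι → X.presheaf.obj (op U)) (a : P ⟶ S) (f : S ⟶ X)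

theorem SurjP.of_comp (h : SurjP (a ≫ f)) : SurjP a := by
  intro p t
  have hcomp : (a ≫ f).stalkMap p = f.stalkMap (a.base p) ≫ a.stalkMap p :=
    LocallyRingedSpace.stalkMap_comp a f p
  obtain ⟨β, hβ⟩ := h p t
  rw [hcomp] at hβ
  exact ⟨(f.stalkMap (a.base p)).hom β, hβ⟩

/-- the kernel of the stalk map of `a` is generated by the images of the germs. -/
theorem KerP.of_comp (hf : ∀ w, Function.Surjective (f.stalkMap w).hom) (h : KerP U s (a ≫ f))
    (p : P) (hp : f.base (a.base p) ∈ U) (α : S.presheaf.stalk (a.base p))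
    (hα : (a.stalkMap p).hom α = 0) :
    α ∈ Ideal.span (Set.range fun j =>
      (f.stalkMap (a.base p)).hom (X.presheaf.germ U (f.base (a.base p)) hp (s j))) := by
  have hcomp : (a ≫ f).stalkMap p = f.stalkMap (a.base p) ≫ a.stalkMap p :=
    LocallyRingedSpace.stalkMap_comp a f p
  obtain ⟨β, rfl⟩ := hf (a.base p) α
  have h0 : ((a ≫ f).stalkMap p).hom β = 0 := by
    rw [hcomp]
    exact hα
  have hmem : β ∈ Ideal.span (Set.range fun j =>
      X.presheaf.germ U (f.base (a.base p)) hp (s j)) := h p hp β h0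
  have := Ideal.mem_map_of_mem (f.stalkMap (a.base p)).hom hmem
  rw [Ideal.map_span, ← Set.range_comp] at this
  exact this

theorem ZeroP.of_comp (h : ZeroP U s (a ≫ f)) (p : P) (hp : f.base (a.base p) ∈ U) (j : ι) :
    (a.stalkMap p).hom ((f.stalkMap (a.base p)).hom
      (X.presheaf.germ U (f.base (a.base p)) hp (s j))) = 0 := by
  have hcomp : (a ≫ f).stalkMap p = f.stalkMap (a.base p) ≫ a.stalkMap p :=
    LocallyRingedSpace.stalkMap_comp a f p
  have := h p hp j
  rw [hcomp] at this
  exact this

end Cancel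

end Groth.Agent.Lib.Helper10.LRSImmLib
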