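import Mathlib
import Groth.Agent.Lib.Helper10.LRSImm4

/-!
# Closed immersions of locally ringed spaces into schemes: local charts
-/

set_option autoImplicit false
set_option linter.unusedSectionVars false
set_option linter.style.haveILetI false
set_option backward.isDefEq.respectTransparency.types false
set_option maxHeartbeats 4000000
set_option synthInstance.maxHeartbeats 400000
universe u
open CategoryTheory CategoryTheory.Limits AlgebraicGeometry Opposite TopologicalSpace

namespace Groth.Agent.Lib.Helper10.LRSImmLib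

theorem fromSpec_stalkMap_germ {X : Scheme.{u}} {W : X.Opens} (hW : IsAffineOpen W) (U : X.Opens)
    (hWU : W ≤ U) (σ : Γ(X, U)) (w : Spec Γ(X, W)) (hw : hW.fromSpec w ∈ U) :
    (hW.fromSpec.stalkMap w).hom (X.presheaf.germ U (hW.fromSpec w) hw σ) =
      (Spec Γ(X, W)).presheaf.germ ⊤ w trivial
        ((Scheme.ΓSpecIso Γ(X, W)).inv (X.presheaf.map (homOfLE hWU).op σ)) := by
  have hwW : hW.fromSpec w ∈ W := by
    have : hW.fromSpec w ∈ Set.range hW.fromSpec := ⟨w, rfl⟩
    rw [hW.range_fromSpec] at this
    exact this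
  have e1 : X.presheaf.germ U (hW.fromSpec w) hw σ =
      X.presheaf.germ W (hW.fromSpec w) hwW (X.presheaf.map (homOfLE hWU).op σ) :=
    (TopCat.Presheaf.germ_res_apply X.presheaf (homOfLE hWU) (hW.fromSpec w) hwW σ).symm
  rw [e1]
  refine (Scheme.Hom.germ_stalkMap_apply hW.fromSpec W w hwW _).trans ?_
  rw [hW.fromSpec_app_self_apply]
  exact TopCat.Presheaf.germ_res_apply (Spec Γ(X, W)).presheaf
    (eqToHom hW.fromSpec_preimage_self) w hwW _

theorem zeroP_of_app_eq_zero {Z X : LocallyRingedSpace.{u}} (i : Z ⟶ X) (U : Opens X) {ι : Type u}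
    (s : ι → X.presheaf.obj (op U)) (hs0 : ∀ j, i.c.app (op U) (s j) = 0) : ZeroP U s i := by
  intro p hp j
  refine (LocallyRingedSpace.stalkMap_germ_apply i U p hp (s j)).trans ?_
  rw [hs0 j]
  exact map_zero _

theorem exists_affine_chart {X : Scheme.{u}} {Z : LocallyRingedSpace.{u}}
    (i : Z ⟶ X.toLocallyRingedSpace) (hi : LRSImm.IsClosedImmersion i) (z : Z) :
    ∃ (R : CommRingCat.{u}) (f : Spec.toLocallyRingedSpace.obj (op R) ⟶ Z),
      z ∈ Set.range f.base ∧ LocallyRingedSpace.IsOpenImmersion f := by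
  obtain ⟨U, hxU, ι, s, hs0, hker, hout⟩ := exists_local_generators i hi (i.base z)
  obtain ⟨W, hWaff, hzW, hWU⟩ : ∃ W : X.Opens, IsAffineOpen W ∧ i.base z ∈ W ∧ W ≤ U := by
    obtain ⟨W, hW, h1, h2⟩ := Opens.isBasis_iff_nbhd.mp X.isBasis_affineOpens hxU
    exact ⟨W, hW, h1, h2⟩
  let fS : Spec Γ(X, W) ⟶ X := hWaff.fromSpec
  let f : (Spec Γ(X, W)).toLocallyRingedSpace ⟶ X.toLocallyRingedSpace := fS.toLRSHom
  haveI hfopen : LocallyRingedSpace.IsOpenImmersion f := inferInstanceAs (IsOpenImmersion fS)
  let V : Opens Z := (Opens.map i.base).obj W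
  let b : Z.restrict V.isOpenEmbedding ⟶ Z := Z.ofRestrict V.isOpenEmbedding
  have hbase : ∀ v : Z.restrict V.isOpenEmbedding, i.base (b.base v) ∈ W := fun v => v.2
  have hrange : Set.range (b ≫ i).base ⊆ Set.range f.base := by
    rintro _ ⟨v, rfl⟩
    change i.base (b.base v) ∈ Set.range fS
    rw [hWaff.range_fromSpec]
    exact hbase v
  let a := LocallyRingedSpace.IsOpenImmersion.lift f (b ≫ i) hrange
  have hfac : a ≫ f = b ≫ i := LocallyRingedSpace.IsOpenImmersion.lift_fac f (b ≫ i) hrange
  have hfW : ∀ w, f.base w ∈ W := by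
    intro w
    have : fS w ∈ Set.range fS := ⟨w, rfl⟩
    rw [hWaff.range_fromSpec] at this
    exact this
  -- stalk isomorphisms
  have hbst : ∀ p, Function.Bijective (b.stalkMap p).hom := fun p =>
    (ConcreteCategory.isIso_iff_bijective _).mp inferInstance
  have hfst : ∀ w, Function.Bijective (f.stalkMap w).hom := fun w =>
    (ConcreteCategory.isIso_iff_bijective _).mp inferInstance
  -- the three predicates
  have hS : SurjP (a ≫ f) := by
    rw [hfac]
    exact SurjP.precomp b i hbst (fun z' => stalkMap_surjective i hi z')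
  have hK : KerP U s (a ≫ f) := by
    rw [hfac]
    exact KerP.precomp U s b i hbst hker
  have hZ : ZeroP U s (a ≫ f) := by
    rw [hfac]
    exact ZeroP.precomp U s b i (zeroP_of_app_eq_zero i U s hs0)
  -- the generators in `Γ(X, W)`
  let s' : ι → Γ(X, W) := fun j => X.presheaf.map (homOfLE hWU).op (s j)
  have hid : ∀ (w : Spec Γ(X, W)) (j : ι),
      (f.stalkMap w).hom (X.presheaf.germ U (f.base w) (hWU (hfW w)) (s j)) =
        (Spec Γ(X, W)).presheaf.germ ⊤ w trivial ((Scheme.ΓSpecIso Γ(X, W)).inv (s' j)) :=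
    fun w j => fromSpec_stalkMap_germ hWaff U hWU (s j) w (hWU (hfW w))
  -- topology
  have hiemb : Topology.IsClosedEmbedding i.base := hi.1
  have haemb : Topology.IsClosedEmbedding a.base := by
    have hcomp : Topology.IsEmbedding (f.base ∘ a.base) := by
      have h1 : Topology.IsEmbedding (i.base ∘ b.base) :=
        hiemb.isEmbedding.comp V.isOpenEmbedding.isEmbedding
      have h2 : (f.base ∘ a.base : _ → _) = (i.base ∘ b.base : _ → _) := by
        have := congrArg (fun g : Z.restrict V.isOpenEmbedding ⟶ X.toLocallyRingedSpace =>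
          (g.base : _ → _)) hfac
        exact this
      rw [h2]
      exact h1
    refine ⟨Topology.IsEmbedding.of_comp a.base.hom.continuous f.base.hom.continuous hcomp, ?_⟩
    have hr : Set.range a.base = f.base ⁻¹' Set.range i.base := by
      rw [LocallyRingedSpace.IsOpenImmersion.lift_range f (b ≫ i) hrange]
      ext w
      constructor
      · rintro ⟨v, hv⟩
        exact ⟨b.base v, hv⟩
      · rintro ⟨z', hz'⟩
        have hz'V : z' ∈ V := by
          change i.base z' ∈ W
          rw [hz']
          exact hfW w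
        exact ⟨⟨z', hz'V⟩, hz'⟩
    rw [hr]
    exact hiemb.isClosed_range.preimage f.base.hom.continuous
  have hfinj : Function.Injective f.base := hfopen.base_open.injective
  -- apply the affine case
  obtain ⟨e, he⟩ := exists_iso_Spec_quotient (A := Γ(X, W)) a haemb (SurjP.of_comp a f hS) s'
    (by
      intro j
      refine TopCat.Presheaf.section_ext (Z.restrict V.isOpenEmbedding).sheaf _ _ _ ?_
      intro p hp
      have h1 := LocallyRingedSpace.stalkMap_germ_apply a ⊤ p trivial
        ((Scheme.ΓSpecIso Γ(X, W)).inv (s' j))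
      refine h1.symm.trans ?_
      rw [← hid (a.base p) j]
      refine (ZeroP.of_comp U s a f hZ p (hWU (hfW _)) j).trans ?_
      exact (map_zero _).symm)
    (by
      intro p α hα
      have := KerP.of_comp U s a f (fun w => (hfst w).surjective) hK p (hWU (hfW _)) α hα
      have hfun : (fun j => (f.stalkMap (a.base p)).hom
          (X.presheaf.germ U (f.base (a.base p)) (hWU (hfW _)) (s j))) =
          fun j => (Spec Γ(X, W)).presheaf.germ ⊤ (a.base p) trivial
            ((Scheme.ΓSpecIso Γ(X, W)).inv (s' j)) := funext fun j => hid (a.base p) j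
      rw [hfun] at this
      exact this)
    (by
      intro w hw
      have hnot : f.base w ∉ Set.range i.base := by
        rintro ⟨z', hz'⟩
        have hz'V : z' ∈ V := by
          change i.base z' ∈ W
          rw [hz']
          exact hfW w
        apply hw
        refine ⟨⟨z', hz'V⟩, hfinj ?_⟩
        have := congrArg (fun g : Z.restrict V.isOpenEmbedding ⟶ X.toLocallyRingedSpace =>
          g.base (⟨z', hz'V⟩ : Z.restrict V.isOpenEmbedding)) hfac
        exact this.trans hz'
      have htop := hout (f.base w) (hWU (hfW w)) hnot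
      have hmap := congrArg (Ideal.map (f.stalkMap w).hom) htop
      rw [Ideal.map_span, ← Set.range_comp, Ideal.map_top] at hmap
      have hfun : ((f.stalkMap w).hom ∘ fun j =>
          X.presheaf.germ U (f.base w) (hWU (hfW w)) (s j)) =
          fun j => (Spec Γ(X, W)).presheaf.germ ⊤ w trivial
            ((Scheme.ΓSpecIso Γ(X, W)).inv (s' j)) := funext fun j => hid w j
      rw [hfun] at hmap
      exact hmap)
  refine ⟨CommRingCat.of (Γ(X, W) ⧸ Ideal.span (Set.range s')), e.inv ≫ b, ?_, inferInstance⟩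
  refine ⟨e.hom.base ⟨z, hzW⟩, ?_⟩
  have h1 : (e.hom ≫ e.inv).base ⟨z, hzW⟩ = ⟨z, hzW⟩ := by
    rw [e.hom_inv_id]
    rfl
  change b.base ((e.hom ≫ e.inv).base ⟨z, hzW⟩) = z
  rw [h1]
  rfl

end Groth.Agent.Lib.Helper10.LRSImmLib
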