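import Mathlib
import Groth.Agent.Lib.Helper10.LRSImm5

/-!
# Closed immersions of locally ringed spaces into schemes: the source is a scheme
-/

set_option autoImplicit false
set_option linter.unusedSectionVars false
set_option linter.style.haveILetI false
set_option backward.isDefEq.respectTransparency.types false
set_option maxHeartbeats 4000000
set_option synthInstance.maxHeartbeats 400000
universe u
open CategoryTheory CategoryTheory.Limits AlgebraicGeometry Opposite TopologicalSpace

namespace Groth.Agent.Lib.Helper10.LRSImmLib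

/-- the homeomorphism underlying an isomorphism of locally ringed spaces. -/
noncomputable def homeoOfIso {P Z : LocallyRingedSpace.{u}} (e : P ≅ Z) : P ≃ₜ Z where
  toFun := e.hom.base
  invFun := e.inv.base
  left_inv p := by
    change (e.hom ≫ e.inv).base p = p
    rw [e.hom_inv_id]
    rfl
  right_inv p := by
    change (e.inv ≫ e.hom).base p = p
    rw [e.inv_hom_id]
    rfl
  continuous_toFun := e.hom.base.hom.continuous
  continuous_invFun := e.inv.base.hom.continuous

theorem isClosedImmersion_of_iso (X : Scheme.{u}) (Z : LocallyRingedSpace.{u})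
    (i : Z ⟶ X.toLocallyRingedSpace) (hi : LRSImm.IsClosedImmersion i)
    (Z' : Scheme.{u}) (e : Z'.toLocallyRingedSpace ≅ Z) :
    AlgebraicGeometry.IsClosedImmersion (Scheme.Hom.mk (e.hom ≫ i) : Z' ⟶ X) := by
  have hst : ∀ p, Function.Bijective (e.hom.stalkMap p).hom := fun p =>
    (ConcreteCategory.isIso_iff_bijective _).mp inferInstance
  have hS : SurjP (e.hom ≫ i) :=
    SurjP.precomp e.hom i hst (fun z' => stalkMap_surjective i hi z')
  have hemb : Topology.IsClosedEmbedding (e.hom ≫ i).base :=
    hi.1.comp (homeoOfIso e).isClosedEmbedding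
  exact { stalkMap_surjective := fun p => hS p, isClosedEmbedding := hemb }

theorem exists_scheme_iso (X : Scheme.{u}) (Z : LocallyRingedSpace.{u})
    (i : Z ⟶ X.toLocallyRingedSpace) (hi : LRSImm.IsClosedImmersion i) :
    ∃ (Z' : Scheme.{u}) (e : Z'.toLocallyRingedSpace ≅ Z),
      AlgebraicGeometry.IsClosedImmersion (Scheme.Hom.mk (e.hom ≫ i) : Z' ⟶ X) := by
  let Z' : Scheme.{u} :=
    LocallyRingedSpace.IsOpenImmersion.scheme Z (fun z => exists_affine_chart i hi z)
  exact ⟨Z', (Iso.refl Z : Z'.toLocallyRingedSpace ≅ Z), isClosedImmersion_of_iso X Z i hi Z' _⟩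

end Groth.Agent.Lib.Helper10.LRSImmLib
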