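import Mathlib
import Groth.Agent.Lib.Helper10.LRSImm6

/-!
# Closed immersions of locally ringed spaces into affine schemes
-/

set_option autoImplicit false
set_option linter.unusedSectionVars false
set_option linter.style.haveILetI false
set_option backward.isDefEq.respectTransparency.types false
set_option maxHeartbeats 4000000
set_option synthInstance.maxHeartbeats 400000
universe u
open CategoryTheory CategoryTheory.Limits AlgebraicGeometry Opposite TopologicalSpace

namespace Groth.Agent.Lib.Helper10.LRSImmLib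

theorem app_injective_of_isIso {P Z : LocallyRingedSpace.{u}} (u : P ⟶ Z) [IsIso u] (V : Opens Z) :
    Function.Injective (u.c.app (op V)).hom := by
  haveI : IsIso (LocallyRingedSpace.forgetToSheafedSpace.map u) := inferInstance
  haveI : IsIso ((LocallyRingedSpace.forgetToSheafedSpace ⋙
    SheafedSpace.forgetToPresheafedSpace).map u) := inferInstance
  have : IsIso ((LocallyRingedSpace.forgetToSheafedSpace ⋙
    SheafedSpace.forgetToPresheafedSpace).map u).c := inferInstance
  haveI : IsIso (u.c.app (op V)) :=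
    inferInstanceAs (IsIso (((LocallyRingedSpace.forgetToSheafedSpace ⋙
      SheafedSpace.forgetToPresheafedSpace).map u).c.app (op V)))
  exact ((ConcreteCategory.isIso_iff_bijective _).mp inferInstance).injective

theorem exists_iso_Spec_quotient_ker
    (R : Type u) [CommRing R] (Z : LocallyRingedSpace.{u})
    (i : Z ⟶ (Spec (CommRingCat.of R)).toLocallyRingedSpace) (hi : LRSImm.IsClosedImmersion i)
    (I : Ideal R)
    (hI : I = RingHom.ker ((Scheme.ΓSpecIso (CommRingCat.of R)).inv ≫ i.c.app (op ⊤)).hom) :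
    ∃ e : Z ≅ (Spec (CommRingCat.of (R ⧸ I))).toLocallyRingedSpace,
      e.hom ≫ (Spec.map (CommRingCat.ofHom (Ideal.Quotient.mk I))).toLRSHom = i := by
  obtain ⟨Z', e, hcl⟩ := exists_scheme_iso (Spec (CommRingCat.of R)) Z i hi
  obtain ⟨I', e', he'⟩ := IsClosedImmersion.Spec_iff.mp hcl
  -- the isomorphism `Z ≅ Spec (R ⧸ I')`
  let E : Z ≅ (Spec (CommRingCat.of (R ⧸ I'))).toLocallyRingedSpace :=
    e.symm ≪≫ (Scheme.forgetToLocallyRingedSpace.mapIso e')
  have hE : E.hom ≫ (Spec.map (CommRingCat.ofHom (Ideal.Quotient.mk I'))).toLRSHom = i := by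
    have h1 : e'.hom.toLRSHom ≫ (Spec.map (CommRingCat.ofHom (Ideal.Quotient.mk I'))).toLRSHom =
        e.hom ≫ i := by
      have := congrArg Scheme.Hom.toLRSHom he'
      exact this.symm
    change (e.inv ≫ e'.hom.toLRSHom) ≫ _ = i
    rw [Category.assoc, h1, Iso.inv_hom_id_assoc]
  -- `I' = I`
  have hII : I' = I := by
    rw [hI]
    ext a
    rw [RingHom.mem_ker]
    change a ∈ I' ↔ (i.c.app (op ⊤)).hom ((Scheme.ΓSpecIso (CommRingCat.of R)).inv.hom a) = 0
    have hc : (E.hom ≫ (Spec.map (CommRingCat.ofHom (Ideal.Quotient.mk I'))).toLRSHom).c.app (op ⊤)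
        ((Scheme.ΓSpecIso (CommRingCat.of R)).inv.hom a) =
        (E.hom.c.app (op ((Opens.map
          (Spec.map (CommRingCat.ofHom (Ideal.Quotient.mk I'))).toLRSHom.base).obj ⊤))).hom
          ((Scheme.ΓSpecIso (CommRingCat.of (R ⧸ I'))).inv.hom (Ideal.Quotient.mk I' a)) := by
      have h2 : (Spec.map (CommRingCat.ofHom (Ideal.Quotient.mk I'))).app ⊤
          ((Scheme.ΓSpecIso (CommRingCat.of R)).inv a) =
          (Scheme.ΓSpecIso (CommRingCat.of (R ⧸ I'))).inv (Ideal.Quotient.mk I' a) := by
        have := Scheme.ΓSpecIso_inv_naturality (CommRingCat.ofHom (Ideal.Quotient.mk I'))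
        exact (congrArg (fun φ => φ.hom a) this).symm
      rw [← h2]
      rfl
    have hc' : (i.c.app (op ⊤)).hom ((Scheme.ΓSpecIso (CommRingCat.of R)).inv.hom a) = 0 ↔
        (E.hom ≫ (Spec.map (CommRingCat.ofHom (Ideal.Quotient.mk I'))).toLRSHom).c.app (op ⊤)
        ((Scheme.ΓSpecIso (CommRingCat.of R)).inv.hom a) = 0 := by
      rw [hE]
    rw [hc', hc]
    constructor
    · intro ha
      rw [Ideal.Quotient.eq_zero_iff_mem.mpr ha, map_zero]
      exact map_zero _
    · intro h0
      have h3 := app_injective_of_isIso E.hom _ (h0.trans (map_zero _).symm)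
      have h4 : Function.Injective (Scheme.ΓSpecIso (CommRingCat.of (R ⧸ I'))).inv.hom :=
        ((ConcreteCategory.isIso_iff_bijective _).mp inferInstance).injective
      have h5 := h4 (h3.trans (map_zero _).symm)
      exact Ideal.Quotient.eq_zero_iff_mem.mp h5
  subst hII
  exact ⟨E, hE⟩

end Groth.Agent.Lib.Helper10.LRSImmLib
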