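import Mathlib.CategoryTheory.Functor.Flat
import Mathlib.CategoryTheory.Abelian.GrothendieckAxioms.Basic
import Mathlib.Algebra.Category.Grp.AB
import Mathlib.CategoryTheory.Limits.FunctorCategory.Basic
set_option autoImplicit false
universe v₁ v₂ v₃ u₁ u₂ u₃
open CategoryTheory Limits Functor

namespace Groth.Agent.Lib.Helper10.LanFlat

variable {C : Type u₁} [Category.{v₁} C] {D : Type u₂} [Category.{v₂} D]
  (E : Type u₃) [Category.{v₃} E]

set_option backward.defeqAttrib.useBackward true in
set_option backward.isDefEq.respectTransparency false in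
/-- General-universe version of Mathlib's `lanEvaluationIsoColim`. -/
noncomputable def lanEvaluationIsoColim (F : C ⥤ D) (X : D)
    [∀ X : D, HasColimitsOfShape (CostructuredArrow F X) E] :
    F.lan ⋙ (evaluation D E).obj X ≅
      (Functor.whiskeringLeft _ _ E).obj (CostructuredArrow.proj F X) ⋙ colim :=
  NatIso.ofComponents (fun G =>
    IsColimit.coconePointUniqueUpToIso
    (Functor.isPointwiseLeftKanExtensionLeftKanExtensionUnit F G X)
    (colimit.isColimit _)) (fun {G₁ G₂} φ => by
      apply (Functor.isPointwiseLeftKanExtensionLeftKanExtensionUnit F G₁ X).hom_ext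
      intro T
      have h₁ := fun (G : C ⥤ E) => IsColimit.comp_coconePointUniqueUpToIso_hom
        (Functor.isPointwiseLeftKanExtensionLeftKanExtensionUnit F G X) (colimit.isColimit _) T
      have h₂ := congr_app (F.lanUnit.naturality φ) T.left
      dsimp at h₁ h₂ ⊢
      simp only [Category.assoc] at h₁ ⊢
      simp only [Functor.lan, Functor.lanUnit] at h₂ ⊢
      rw [reassoc_of% h₁, NatTrans.naturality_assoc, ← reassoc_of% h₂, h₁,
        ι_colimMap, Functor.whiskerLeft_app]
      rfl)

/-- If `F : C ⥤ D` is representably flat, then `Lan F.op` on `E`-valued presheaves preserves finite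
limits, as soon as the relevant (filtered) colimits exist in `E` and are exact. No smallness
assumption on `C`, `D`. -/
theorem lan_preservesFiniteLimits_of_flat (F : C ⥤ D) [RepresentablyFlat F]
    [HasFiniteLimits E]
    [∀ K : Dᵒᵖ, HasColimitsOfShape (CostructuredArrow F.op K) E]
    [∀ K : Dᵒᵖ, HasExactColimitsOfShape (CostructuredArrow F.op K) E] :
    PreservesFiniteLimits (F.op.lan : (Cᵒᵖ ⥤ E) ⥤ (Dᵒᵖ ⥤ E)) := by
  apply preservesFiniteLimits_of_preservesFiniteLimitsOfSize.{0}
  intro J _ _
  apply preservesLimitsOfShape_of_evaluation (F.op.lan : (Cᵒᵖ ⥤ E) ⥤ Dᵒᵖ ⥤ E) J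
  intro K
  have : PreservesLimitsOfShape J (colim : (CostructuredArrow F.op K ⥤ E) ⥤ E) :=
    inferInstance
  exact preservesLimitsOfShape_of_natIso (lanEvaluationIsoColim E F.op K).symm

end Groth.Agent.Lib.Helper10.LanFlat

namespace Groth.Agent.Lib.Helper10.LanFlat
universe w
variable {C : Type u₁} [Category.{v₁} C] {D : Type u₂} [Category.{v₂} D]

/-- Version for abelian-group valued presheaves: `C`, `D` only need to be `w`-small in the weak
sense `UnivLE`. -/
theorem lan_preservesFiniteLimits_of_flat_addCommGrp (F : C ⥤ D) [RepresentablyFlat F]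
    [UnivLE.{v₁, w}] [UnivLE.{max u₁ v₂, w}]
    [∀ K : Dᵒᵖ, HasColimitsOfShape (CostructuredArrow F.op K) AddCommGrpCat.{w}] :
    PreservesFiniteLimits (F.op.lan : (Cᵒᵖ ⥤ AddCommGrpCat.{w}) ⥤ (Dᵒᵖ ⥤ AddCommGrpCat.{w})) := by
  have h4 : ∀ K : Dᵒᵖ, IsFiltered (CostructuredArrow F.op K) := fun K =>
    IsFiltered.of_equivalence (structuredArrowOpEquivalence F (Opposite.unop K))
  have h5 : ∀ K : Dᵒᵖ, HasExactColimitsOfShape (CostructuredArrow F.op K) AddCommGrpCat.{w} := by
    intro K
    let e := (ShrinkHoms.equivalence.{w} (CostructuredArrow F.op K)).trans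
      (Shrink.equivalence.{w, w} (ShrinkHoms.{max u₁ v₂} (CostructuredArrow F.op K)))
    have := IsFiltered.of_equivalence e
    exact HasExactColimitsOfShape.of_domain_equivalence _ e.symm
  exact lan_preservesFiniteLimits_of_flat AddCommGrpCat.{w} F

theorem hasColimitsOfShape_costructuredArrow_addCommGrp (F : C ⥤ D)
    [UnivLE.{v₁, w}] [UnivLE.{max u₁ v₂, w}] (K : Dᵒᵖ) :
    HasColimitsOfShape (CostructuredArrow F.op K) AddCommGrpCat.{w} :=
  hasColimitsOfShape_of_equivalence
    ((ShrinkHoms.equivalence.{w} (CostructuredArrow F.op K)).trans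
      (Shrink.equivalence.{w, w} (ShrinkHoms.{max u₁ v₂} (CostructuredArrow F.op K)))).symm

end Groth.Agent.Lib.Helper10.LanFlat
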