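import Mathlib

/-!
# A finitely generated Lie algebra all of whose `ad x` are nilpotent is nilpotent (helper10)

Proof: the structure constants with respect to a finite generating family generate a Noetherian
subring `A₀` of `A`; the `A₀`-span `L₀` of the generators is a Lie algebra over `A₀`, Noetherian as
a module, acting on `L` by nilpotent endomorphisms, so Engel's theorem (Mathlib) shows that `L` is a
nilpotent `L₀`-module; since `L` is the `A`-span of `L₀`, `L` is nilpotent.
-/

set_option autoImplicit false
universe u

namespace Groth.Agent.Lib.Helper10.LieNilp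

open LieModule

variable {A : Type u} [CommRing A] {L : Type u} [LieRing L] [LieAlgebra A L]

/-- The `A`-Lie algebra `L` seen as a Lie algebra over a subalgebra `A₀ ⊆ A`. -/
@[reducible] def lieAlgebraSub (A₀ : Subalgebra ℤ A) : LieAlgebra A₀ L where
  lie_smul a x y := by
    change ⁅x, (a : A) • y⁆ = (a : A) • ⁅x, y⁆
    exact lie_smul (a : A) x y

theorem isNilpotent_of_forall_ad [Module.Finite A L]
    (h : ∀ x : L, IsNilpotent (LieAlgebra.ad A L x)) : LieRing.IsNilpotent L := by
  classical
  obtain ⟨n, s, hs⟩ := Module.Finite.exists_fin (R := A) (M := L)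
  have hc : ∀ i j : Fin n, ∃ c : Fin n → A, ∑ k, c k • s k = ⁅s i, s j⁆ := fun i j =>
    (Submodule.mem_span_range_iff_exists_fun A).mp (by rw [hs]; trivial)
  choose c hc using hc
  let T : Set A := Set.range (fun t : Fin n × Fin n × Fin n => c t.1 t.2.1 t.2.2)
  have hT : T.Finite := Set.finite_range _
  let A₀ : Subalgebra ℤ A := Algebra.adjoin ℤ T
  have hcm : ∀ i j k, c i j k ∈ A₀ := fun i j k => Algebra.subset_adjoin ⟨(i, j, k), rfl⟩
  haveI : Algebra.FiniteType ℤ A₀ := by
    rw [← Subalgebra.fg_iff_finiteType]
    exact ⟨hT.toFinset, by simp [A₀]⟩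
  haveI : IsNoetherianRing A₀ := Algebra.FiniteType.isNoetherianRing ℤ A₀
  letI : LieAlgebra A₀ L := lieAlgebraSub A₀
  -- the `A₀`-span of the generators is a Lie subalgebra
  let N₀ : Submodule A₀ L := Submodule.span A₀ (Set.range s)
  have hlie : ∀ x ∈ N₀, ∀ y ∈ N₀, ⁅x, y⁆ ∈ N₀ := by
    intro x hx y hy
    induction hx using Submodule.span_induction with
    | mem x hx =>
      obtain ⟨i, rfl⟩ := hx
      induction hy using Submodule.span_induction with
      | mem y hy =>
        obtain ⟨j, rfl⟩ := hy
        rw [← hc i j]
        refine Submodule.sum_mem _ fun k _ => ?_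
        have : c i j k • s k = (⟨c i j k, hcm i j k⟩ : A₀) • s k := rfl
        rw [this]
        exact Submodule.smul_mem _ _ (Submodule.subset_span ⟨k, rfl⟩)
      | zero => simp
      | add y z _ _ hy hz => rw [lie_add]; exact add_mem hy hz
      | smul a y _ hy => rw [lie_smul]; exact Submodule.smul_mem _ _ hy
    | zero => simp
    | add x z _ _ hx hz => rw [add_lie]; exact add_mem hx hz
    | smul a x _ hx => rw [smul_lie]; exact Submodule.smul_mem _ _ hx
  let L₀ : LieSubalgebra A₀ L := { N₀ with lie_mem' := fun {x y} hx hy => hlie x hx y hy }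
  haveI : IsNoetherian A₀ L₀ := by
    have : (N₀).FG := ⟨(Set.finite_range s).toFinset, by simp [N₀]⟩
    exact isNoetherian_of_fg_of_noetherian N₀ this
  have hE : LieAlgebra.IsEngelian A₀ L₀ := LieAlgebra.isEngelian_of_isNoetherian
  have hnil : LieModule.IsNilpotent L₀ L := by
    apply hE
    intro x
    obtain ⟨m, hm⟩ := h (x : L)
    refine ⟨m, ?_⟩
    ext y
    have h1 : ∀ (k : ℕ) (y : L), ((LieModule.toEnd A₀ L₀ L x) ^ k) y = ((LieAlgebra.ad A L (x : L)) ^ k) y := by
      intro k
      induction k with
      | zero => intro y; simp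
      | succ k ih =>
        intro y
        rw [pow_succ, pow_succ, Module.End.mul_apply, Module.End.mul_apply, ih]
        rfl
    rw [h1, hm]
    rfl
  obtain ⟨k, hk⟩ := (LieModule.isNilpotent_iff A₀ L₀ L).mp hnil
  rw [LieRing.IsNilpotent, LieModule.isNilpotent_iff A L L]
  refine ⟨k, ?_⟩
  -- comparison of the two lower central series
  have key : ∀ j : ℕ, ((LieModule.lowerCentralSeries A L L j : LieSubmodule A L L) : Set L) ⊆
      Submodule.span A ((LieModule.lowerCentralSeries A₀ L₀ L j : LieSubmodule A₀ L₀ L) : Set L) := by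
    intro j
    induction j with
    | zero =>
      intro x _
      simp
    | succ j ih =>
      intro x hx
      rw [LieModule.lowerCentralSeries_succ] at hx
      have hx' : x ∈ (⁅(⊤ : LieIdeal A L), LieModule.lowerCentralSeries A L L j⁆ : LieSubmodule A L L).toSubmodule := hx
      rw [LieSubmodule.lieIdeal_oper_eq_linear_span'] at hx'
      refine Submodule.span_le.mpr ?_ hx'
      rintro _ ⟨y, -, m, hm, rfl⟩
      have hm' := ih hm
      have hy : y ∈ Submodule.span A (Set.range s) := by rw [hs]; trivial
      clear hm hx hx'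
      -- bilinearity
      induction hy using Submodule.span_induction with
      | mem y hy =>
        obtain ⟨i, rfl⟩ := hy
        induction hm' using Submodule.span_induction with
        | mem m hm =>
          apply Submodule.subset_span
          rw [LieModule.lowerCentralSeries_succ]
          have hsi : s i ∈ N₀ := Submodule.subset_span ⟨i, rfl⟩
          exact LieSubmodule.lie_mem_lie (LieSubmodule.mem_top (⟨s i, hsi⟩ : L₀)) hm
        | zero => simp
        | add m m' _ _ h1 h2 => rw [lie_add]; exact add_mem h1 h2
        | smul a m _ h1 => rw [lie_smul]; exact Submodule.smul_mem _ _ h1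
      | zero => simp
      | add y z _ _ h1 h2 => rw [add_lie]; exact add_mem h1 h2
      | smul a y _ h1 => rw [smul_lie]; exact Submodule.smul_mem _ _ h1
  rw [eq_bot_iff]
  intro x hx
  have := key k hx
  rw [hk] at this
  simpa using this

end Groth.Agent.Lib.Helper10.LieNilp
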