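import Mathlib
import Groth.Agent.Lib.Helper10.LieNilp1

/-!
# Fibrewise nilpotent Lie algebras are nilpotent (helper10)

* `isNilpotent_of_fibrewise_zero`: an endomorphism of a finite module which vanishes on every
  fibre `κ(p) ⊗ L` is nilpotent.
* `isNilpotent_of_fibres`: a Lie algebra, finite as a module, all of whose fibres are nilpotent,
  is nilpotent.
-/

set_option autoImplicit false
universe u
open scoped TensorProduct
open Polynomial

namespace Groth.Agent.Lib.Helper10.LieNilp

section endo

variable {A : Type u} [CommRing A] {L : Type u} [AddCommGroup L] [Module A L] [Module.Finite A L]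

theorem isNilpotent_of_fibrewise_zero (φ : Module.End A L)
    (h : ∀ (p : PrimeSpectrum A) (y : L), (1 : p.asIdeal.ResidueField) ⊗ₜ[A] (φ y) = 0) :
    IsNilpotent φ := by
  classical
  let M' := Module.AEval' φ
  have hX : (X : A[X]) ∈ (Module.annihilator A[X] M').radical := by
    rw [Ideal.radical_eq_sInf, Ideal.mem_sInf]
    rintro Q ⟨hQann, hQprime⟩
    by_contra hXQ
    let Qs : PrimeSpectrum A[X] := ⟨Q, hQprime⟩
    have hsupp : Qs ∈ Module.support A[X] M' := Module.mem_support_iff_of_finite.mpr hQann
    have hnt : Nontrivial (Q.ResidueField ⊗[A[X]] M') :=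
      (Module.mem_support_iff_nontrivial_residueField_tensorProduct Qs).mp hsupp
    let p : PrimeSpectrum A := ⟨Q.comap (C : A →+* A[X]), inferInstance⟩
    let f : A →+* Q.ResidueField := (algebraMap A[X] Q.ResidueField).comp C
    have hf₁ : p.asIdeal ≤ RingHom.ker f := by
      intro r hr
      rw [RingHom.mem_ker]
      exact (Ideal.algebraMap_residueField_eq_zero).mpr hr
    have hf₂ : p.asIdeal.primeCompl ≤ (IsUnit.submonoid Q.ResidueField).comap f := by
      intro r hr
      change IsUnit (f r)
      rw [isUnit_iff_ne_zero]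
      intro h0
      have h1 : (C r : A[X]) ∈ Q := (Ideal.algebraMap_residueField_eq_zero (I := Q)).mp h0
      exact hr h1
    let ι : p.asIdeal.ResidueField →+* Q.ResidueField := Ideal.ResidueField.lift p.asIdeal f hf₁ hf₂
    have hι : ∀ r : A, ι (algebraMap A p.asIdeal.ResidueField r) = f r :=
      Ideal.ResidueField.lift_algebraMap p.asIdeal f hf₁ hf₂
    -- additive map on tensor products
    let g : p.asIdeal.ResidueField →+ L →+ Q.ResidueField ⊗[A[X]] M' :=
      { toFun := fun a =>
          { toFun := fun y => ι a ⊗ₜ[A[X]] (Module.AEval'.of φ y)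
            map_zero' := by simp
            map_add' := by intro y z; simp [TensorProduct.tmul_add] }
        map_zero' := by ext y; simp
        map_add' := by intro a b; ext y; simp [TensorProduct.add_tmul] }
    have hg : ∀ (r : A) (a : p.asIdeal.ResidueField) (y : L), g (r • a) y = g a (r • y) := by
      intro r a y
      change ι (r • a) ⊗ₜ[A[X]] (Module.AEval'.of φ y) = ι a ⊗ₜ[A[X]] (Module.AEval'.of φ (r • y))
      have h1 : ι (r • a) = (C r : A[X]) • ι a := by
        rw [Algebra.smul_def, map_mul, hι, Algebra.smul_def]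
        rfl
      have h2 : Module.AEval'.of φ (r • y) = (C r : A[X]) • Module.AEval'.of φ y := by
        rw [Module.AEval.C_smul]
        exact map_smul _ r y
      rw [h1, h2, TensorProduct.smul_tmul]
    let Ψ : p.asIdeal.ResidueField ⊗[A] L →+ Q.ResidueField ⊗[A[X]] M' :=
      TensorProduct.liftAddHom g hg
    have hΨ : ∀ a y, Ψ (a ⊗ₜ y) = ι a ⊗ₜ[A[X]] (Module.AEval'.of φ y) := fun a y => rfl
    have hXbar : algebraMap A[X] Q.ResidueField X ≠ 0 := by
      intro h0
      exact hXQ ((Ideal.algebraMap_residueField_eq_zero).mp h0)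
    have hzero : ∀ y : L, (1 : Q.ResidueField) ⊗ₜ[A[X]] (Module.AEval'.of φ y) = 0 := by
      intro y
      have h1 := congrArg Ψ (h p y)
      rw [hΨ, map_zero, map_one] at h1
      have h2 : (1 : Q.ResidueField) ⊗ₜ[A[X]] (Module.AEval'.of φ (φ y)) =
          algebraMap A[X] Q.ResidueField X • ((1 : Q.ResidueField) ⊗ₜ[A[X]] (Module.AEval'.of φ y)) := by
        rw [← Module.AEval'.X_smul_of, ← TensorProduct.smul_tmul, TensorProduct.smul_tmul',
          Algebra.smul_def, mul_one, smul_eq_mul, mul_one]
      rw [h2] at h1
      exact (smul_eq_zero.mp h1).resolve_left hXbar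
    have hsub : Subsingleton (Q.ResidueField ⊗[A[X]] M') := by
      refine ⟨fun u v => ?_⟩
      have h0 : ∀ w : Q.ResidueField ⊗[A[X]] M', w = 0 := by
        intro w
        induction w using TensorProduct.induction_on with
        | zero => rfl
        | tmul a m =>
          obtain ⟨y, rfl⟩ := (Module.AEval'.of φ).surjective m
          have : a ⊗ₜ[A[X]] (Module.AEval'.of φ y) =
              a • ((1 : Q.ResidueField) ⊗ₜ[A[X]] (Module.AEval'.of φ y)) := by
            rw [TensorProduct.smul_tmul', smul_eq_mul, mul_one]
          rw [this, hzero, smul_zero]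
        | add w w' hw hw' => rw [hw, hw', add_zero]
      rw [h0 u, h0 v]
    exact not_subsingleton _ hsub
  obtain ⟨n, hn⟩ := hX
  refine ⟨n, ?_⟩
  ext y
  have h1 : (X ^ n : A[X]) • Module.AEval'.of φ y = 0 := by
    have := Module.mem_annihilator.mp hn (Module.AEval'.of φ y)
    exact this
  rw [Module.AEval'.X_pow_smul_of] at h1
  have h2 := (Module.AEval'.of φ).injective (h1.trans (map_zero _).symm)
  simpa using h2

end endo

section lie

variable {A : Type u} [CommRing A] {L : Type u} [LieRing L] [LieAlgebra A L] [Module.Finite A L]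

theorem isNilpotent_of_fibres
    (h : ∀ p : PrimeSpectrum A, LieRing.IsNilpotent (p.asIdeal.ResidueField ⊗[A] L)) :
    LieRing.IsNilpotent L := by
  classical
  apply isNilpotent_of_forall_ad (A := A)
  intro x
  obtain ⟨n, s, hs⟩ := Module.Finite.exists_fin (R := A) (M := L)
  have hnil : IsNilpotent ((LieAlgebra.ad A L x) ^ n) := by
    apply isNilpotent_of_fibrewise_zero
    intro p y
    let K := p.asIdeal.ResidueField
    haveI := h p
    -- `ad (1 ⊗ x)` is nilpotent on the fibre, whose dimension is at most `n`
    have hfin : Module.finrank K (K ⊗[A] L) ≤ n := by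
      have hspan : Submodule.span K (Set.range fun i => (1 : K) ⊗ₜ[A] s i) = ⊤ := by
        rw [eq_top_iff]
        intro w hwtop
        clear hwtop
        induction w using TensorProduct.induction_on with
        | zero => exact zero_mem _
        | add w w' hw hw' => exact add_mem hw hw'
        | tmul a z =>
          have hz : z ∈ Submodule.span A (Set.range s) := by rw [hs]; trivial
          induction hz using Submodule.span_induction with
          | mem z hz =>
            obtain ⟨i, rfl⟩ := hz
            have : a ⊗ₜ[A] s i = a • ((1 : K) ⊗ₜ[A] s i) := by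
              rw [TensorProduct.smul_tmul', smul_eq_mul, mul_one]
            rw [this]
            exact Submodule.smul_mem _ _ (Submodule.subset_span ⟨i, rfl⟩)
          | zero => simp
          | add z z' _ _ h1 h2 => rw [TensorProduct.tmul_add]; exact add_mem h1 h2
          | smul r z _ h1 =>
            have : a ⊗ₜ[A] (r • z) = (algebraMap A K r) • (a ⊗ₜ[A] z) := by
              rw [TensorProduct.tmul_smul, algebraMap_smul]
            rw [this]
            exact Submodule.smul_mem _ _ h1
      have h1 := finrank_range_le_card (R := K) (fun i => (1 : K) ⊗ₜ[A] s i)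
      rw [Set.finrank, hspan, finrank_top] at h1
      simpa using h1
    have hadn : IsNilpotent (LieAlgebra.ad K (K ⊗[A] L) ((1 : K) ⊗ₜ[A] x)) :=
      LieModule.isNilpotent_toEnd_of_isNilpotent K (K ⊗[A] L) (K ⊗[A] L) _
    have hpow : (LieAlgebra.ad K (K ⊗[A] L) ((1 : K) ⊗ₜ[A] x)) ^ n = 0 := by
      have hfinite : Module.Finite K (K ⊗[A] L) := inferInstance
      have hch := hadn.charpoly_eq_X_pow_finrank
      have hCH := LinearMap.aeval_self_charpoly (LieAlgebra.ad K (K ⊗[A] L) ((1 : K) ⊗ₜ[A] x))
      rw [hch, map_pow, aeval_X] at hCH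
      exact pow_eq_zero_of_le hfin hCH
    have hcomp : ∀ (k : ℕ) (z : L), (1 : K) ⊗ₜ[A] (((LieAlgebra.ad A L x) ^ k) z) =
        ((LieAlgebra.ad K (K ⊗[A] L) ((1 : K) ⊗ₜ[A] x)) ^ k) ((1 : K) ⊗ₜ[A] z) := by
      intro k
      induction k with
      | zero => intro z; simp
      | succ k ih =>
        intro z
        rw [pow_succ', pow_succ', Module.End.mul_apply, Module.End.mul_apply, ← ih]
        rw [LieAlgebra.ad_apply, LieAlgebra.ad_apply, LieAlgebra.ExtendScalars.bracket_tmul, mul_one]
    rw [hcomp, hpow]
    rfl
  exact IsNilpotent.of_pow hnil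

end lie

end Groth.Agent.Lib.Helper10.LieNilp
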