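import Mathlib
import Groth.Agent.Lib.Helper10.GrassChartCoord

/-!
# Plücker coordinates on the charts of the Grassmannian of `Rⁿ`: the linear algebra
-/

set_option autoImplicit false
set_option linter.unusedSectionVars false
set_option linter.style.haveILetI false
set_option backward.isDefEq.respectTransparency.types false
set_option maxHeartbeats 4000000
set_option synthInstance.maxHeartbeats 400000
universe u
open TensorProduct Module Function

namespace Groth.Agent.Lib.Helper10.Plucker

open Groth.Agent.Lib.Helper10.GrassChart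

section Index

variable (n k : ℕ)

/-- the index type of the Plücker coordinates: the `k`-element subsets of `Fin n`. -/
abbrev T : Type := {s : Finset (Fin n) // s.card = k}

variable {n k}

/-- the increasing enumeration of a subset. -/
def It (t : T n k) : Fin k → Fin n := fun a => t.1.orderEmbOfFin t.2 a

lemma It_injective (t : T n k) : Injective (It t) := (t.1.orderEmbOfFin t.2).injective

lemma card_T : Fintype.card (T n k) = n.choose k := by
  rw [Fintype.card_finset_len, Fintype.card_fin]

/-- every injective map is a permutation of an increasing enumeration. -/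
theorem exists_perm (I : Fin k → Fin n) (hI : Injective I) :
    ∃ (t : T n k) (π : Equiv.Perm (Fin k)), ∀ a, I a = It t (π a) := by
  classical
  have hc : (Finset.univ.image I).card = k := by
    rw [Finset.card_image_of_injective _ hI, Finset.card_univ, Fintype.card_fin]
  let t : T n k := ⟨Finset.univ.image I, hc⟩
  let o := (Finset.univ.image I).orderIsoOfFin hc
  have hmem : ∀ a, I a ∈ Finset.univ.image I := fun a => Finset.mem_image_of_mem I (Finset.mem_univ a)
  let p : Fin k → Fin k := fun a => o.symm ⟨I a, hmem a⟩
  have hp : ∀ a, It t (p a) = I a := by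
    intro a
    change ((Finset.univ.image I).orderEmbOfFin hc) (o.symm ⟨I a, hmem a⟩) = I a
    rw [← Finset.coe_orderIsoOfFin_apply]
    change ((o (o.symm ⟨I a, hmem a⟩) : {x // x ∈ Finset.univ.image I}) : Fin n) = I a
    rw [OrderIso.apply_symm_apply]
  have hpinj : Injective p := by
    intro a b hab
    apply hI
    rw [← hp a, ← hp b, hab]
  exact ⟨t, Equiv.ofBijective p (Finite.injective_iff_bijective.mp hpinj), fun a => (hp a).symm⟩

end Index

section Minor

variable {n k : ℕ} {A : Type u} [CommRing A]

/-- the maximal minor of an `n × k` matrix along an index map. -/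
noncomputable def minor (Wm : Fin n → Fin k → A) (I : Fin k → Fin n) : A :=
  Matrix.det (Matrix.of fun a b => Wm (I a) b)

lemma minor_comp_perm (Wm : Fin n → Fin k → A) (I : Fin k → Fin n) (π : Equiv.Perm (Fin k)) :
    minor Wm (fun a => I (π a)) = ((Equiv.Perm.sign π : ℤˣ) : ℤ) * minor Wm I := by
  have h : (Matrix.of fun a b => Wm (I (π a)) b) =
      (Matrix.of fun a b => Wm (I a) b).submatrix π id := rfl
  rw [minor, h, Matrix.det_permute]
  simp [minor]

lemma minor_map {C : Type u} [CommRing C] (ψ : A →+* C) (Wm : Fin n → Fin k → A)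
    (I : Fin k → Fin n) : ψ (minor Wm I) = minor (fun l b => ψ (Wm l b)) I := by
  rw [minor, RingHom.map_det]
  rfl

lemma isUnit_minor_comp_perm (Wm : Fin n → Fin k → A) (I : Fin k → Fin n)
    (π : Equiv.Perm (Fin k)) : IsUnit (minor Wm (fun a => I (π a))) ↔ IsUnit (minor Wm I) := by
  rw [minor_comp_perm]
  have hu : IsUnit ((((Equiv.Perm.sign π : ℤˣ) : ℤ) : A)) := by
    have := (Equiv.Perm.sign π).isUnit.map (Int.castRingHom A)
    simpa using this
  constructor
  · intro h
    exact isUnit_of_mul_isUnit_right h
  · intro h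
    exact hu.mul h

/-- the determinant of the identity matrix with one row replaced. -/
lemma det_one_updateRow (i : Fin k) (r : Fin k → A) :
    ((1 : Matrix (Fin k) (Fin k) A).updateRow i r).det = r i := by
  rw [← Matrix.det_transpose, ← Matrix.updateCol_transpose, Matrix.transpose_one,
    ← Matrix.cramer_apply, Matrix.cramer_one]
  rfl

end Minor

section Chart

variable (R : Type u) [CommRing R] {n k m : ℕ} (σ σ' : Fin k ⊕ Fin m ≃ Fin n)
  (A : Type u) [CommRing A] [Algebra R A]

/-- the composite `Aᵏ → A ⊗ Rⁿ → Aᵏ` for an index map. -/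
lemma qv_sA_sI (v : Fin m → Fin k → A) (I : Fin k → Fin n) :
    qv R σ A v ∘ₗ sA (sI R I) A =
      Matrix.toLin' (Matrix.of fun a b => W σ A v (I a) b).transpose := by
  apply LinearMap.pi_ext
  intro j a
  rw [LinearMap.comp_apply, sA_single, sI_single, qv_tmul_single, Matrix.toLin'_apply]
  funext b
  rw [Matrix.mulVec_single, Pi.smul_apply, smul_eq_mul]
  simp [Matrix.transpose_apply, mul_comm]

/-- **a point of a chart lies in another chart iff the corresponding minor is invertible.** -/
theorem inChart_sI_chartPt_iff (v : Fin m → Fin k → A) (I : Fin k → Fin n) :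
    InChart (sI R I) (chartPt R σ A v).toSubmodule ↔ IsUnit (minor (W σ A v) I) := by
  have h1 : ((qvEquiv R σ A v).toLinearMap ∘ₗ
      ((LinearMap.ker (qv R σ A v)).mkQ ∘ₗ sA (sI R I) A)) =
      Matrix.toLin' (Matrix.of fun a b => W σ A v (I a) b).transpose := by
    rw [← qv_sA_sI R σ A v I]
    rfl
  have h2 : InChart (sI R I) (chartPt R σ A v).toSubmodule ↔
      Bijective (Matrix.toLin' (Matrix.of fun a b => W σ A v (I a) b).transpose) := by
    rw [← h1]
    exact ((qvEquiv R σ A v).bijective.of_comp_iff'
      ((LinearMap.ker (qv R σ A v)).mkQ ∘ₗ sA (sI R I) A)).symm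
  rw [h2, ← Module.End.isUnit_iff, Matrix.isUnit_toLin'_iff, Matrix.isUnit_iff_isUnit_det,
    Matrix.det_transpose]
  rfl

/-- the matrix of a point of a chart, with one basis row replaced. -/
theorem minor_update (v : Fin m → Fin k → A) (i : Fin k) (j : Fin m) :
    minor (W σ A v) (Function.update (fun a => σ (Sum.inl a)) i (σ (Sum.inr j))) = v j i := by
  have h : (Matrix.of fun a b =>
      W σ A v (Function.update (fun a => σ (Sum.inl a)) i (σ (Sum.inr j)) a) b) =
      (1 : Matrix (Fin k) (Fin k) A).updateRow i (v j) := by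
    ext a b
    rw [Matrix.of_apply, Matrix.updateRow_apply]
    by_cases ha : a = i
    · subst ha
      rw [Function.update_self, W_inr, if_pos rfl]
    · rw [Function.update_of_ne ha, W_inl, if_neg ha, Matrix.one_apply, Pi.single_apply]
      by_cases hab : b = a
      · rw [if_pos hab, if_pos hab.symm]
      · rw [if_neg hab, if_neg (fun h => hab h.symm)]
  rw [minor, h, det_one_updateRow]

lemma update_injective (i : Fin k) (j : Fin m) :
    Injective (Function.update (fun a => σ (Sum.inl a)) i (σ (Sum.inr j))) := by
  intro a b hab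
  by_cases ha : a = i
  · by_cases hb : b = i
    · rw [ha, hb]
    · subst ha
      rw [Function.update_self, Function.update_of_ne hb] at hab
      have := σ.injective hab
      cases this
  · by_cases hb : b = i
    · subst hb
      rw [Function.update_self, Function.update_of_ne ha] at hab
      have := σ.injective hab
      cases this
    · rw [Function.update_of_ne ha, Function.update_of_ne hb] at hab
      exact Sum.inl_injective (σ.injective hab)

lemma minor_inl (v : Fin m → Fin k → A) : minor (W σ A v) (fun a => σ (Sum.inl a)) = 1 := by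
  have h : (Matrix.of fun a b => W σ A v (σ (Sum.inl a)) b) = (1 : Matrix (Fin k) (Fin k) A) := by
    ext a b
    rw [Matrix.of_apply, W_inl, Matrix.one_apply, Pi.single_apply]
    by_cases hab : b = a
    · rw [if_pos hab, if_pos hab.symm]
    · rw [if_neg hab, if_neg (fun h => hab h.symm)]
  rw [minor, h, Matrix.det_one]

/-- **change of chart**: the minors of two chart representatives of the same point differ by
the unit given by the minor of the other chart. -/
theorem minor_eq_mul (v v' : Fin m → Fin k → A) (h : chartPt R σ A v = chartPt R σ' A v')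
    (I : Fin k → Fin n) :
    minor (W σ A v) I =
      minor (W σ A v) (fun j => σ' (Sum.inl j)) * minor (W σ' A v') I := by
  have hker : LinearMap.ker (qv R σ A v) = LinearMap.ker (qv R σ' A v') :=
    congrArg Module.Grassmannian.toSubmodule h
  let g : (Fin k → A) →ₗ[A] (Fin k → A) := qv R σ' A v' ∘ₗ sA (sσ R σ) A
  have hg : ∀ x, qv R σ' A v' x = g (qv R σ A v x) := by
    intro x
    have hx : x - sA (sσ R σ) A (qv R σ A v x) ∈ LinearMap.ker (qv R σ A v) := by
      rw [LinearMap.mem_ker, map_sub, qv_sA, sub_self]
    rw [hker, LinearMap.mem_ker, map_sub, sub_eq_zero] at hx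
    exact hx
  have hW : ∀ l, W σ' A v' l = g (W σ A v l) := by
    intro l
    have := hg ((1 : A) ⊗ₜ[R] Pi.single l (1 : R))
    rw [qv_tmul_single, qv_tmul_single, one_smul, one_smul] at this
    exact this
  let G : Matrix (Fin k) (Fin k) A := LinearMap.toMatrix' g
  have hG : ∀ w, g w = G.mulVec w := by
    intro w
    rw [← Matrix.toLin'_apply, Matrix.toLin'_toMatrix']
  have hM : ∀ J : Fin k → Fin n, (Matrix.of fun a b => W σ' A v' (J a) b) =
      (Matrix.of fun a b => W σ A v (J a) b) * G.transpose := by
    intro J
    ext a b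
    rw [Matrix.of_apply, hW, hG, Matrix.mul_apply, Matrix.mulVec, dotProduct]
    refine Finset.sum_congr rfl (fun c _ => ?_)
    rw [Matrix.of_apply, Matrix.transpose_apply, mul_comm]
  have hdet : ∀ J : Fin k → Fin n, minor (W σ' A v') J = minor (W σ A v) J * G.det := by
    intro J
    rw [minor, hM, Matrix.det_mul, Matrix.det_transpose]
    rfl
  have h1 := hdet (fun j => σ' (Sum.inl j))
  rw [minor_inl] at h1
  rw [hdet I, mul_left_comm, ← h1, mul_one]

end Chart

section Phi

variable (R : Type u) [CommRing R] {n k m N : ℕ} (hN : N + 1 = n.choose k)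

/-- the numbering of the Plücker coordinates. -/
noncomputable def eqv : Fin (N + 1) ≃ T n k :=
  (Fintype.equivFinOfCardEq (card_T.trans hN.symm)).symm

variable (σ σ' : Fin k ⊕ Fin m ≃ Fin n) (A : Type u) [CommRing A] [Algebra R A]

/-- the Plücker coordinates of a point of a chart. -/
noncomputable def plk (v : Fin m → Fin k → A) : T n k → A := fun t => minor (W σ A v) (It t)

/-- the evaluation of polynomials at the Plücker coordinates of a point of a chart. -/
noncomputable def φ (v : Fin m → Fin k → A) : MvPolynomial (Fin (N + 1)) R →+* A :=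
  MvPolynomial.eval₂Hom (algebraMap R A) (fun i => plk σ A v (eqv hN i))

lemma φ_X (v : Fin m → Fin k → A) (i : Fin (N + 1)) :
    φ R hN σ A v (MvPolynomial.X i) = plk σ A v (eqv hN i) :=
  MvPolynomial.eval₂Hom_X' _ _ _

lemma φ_C (v : Fin m → Fin k → A) (r : R) :
    φ R hN σ A v (MvPolynomial.C r) = algebraMap R A r :=
  MvPolynomial.eval₂Hom_C _ _ _

lemma W_map {C : Type u} [CommRing C] (ψ : A →+* C) (v : Fin m → Fin k → A) (l : Fin n)
    (b : Fin k) : W σ C (fun j i => ψ (v j i)) l b = ψ (W σ A v l b) := by
  obtain ⟨x, rfl⟩ := σ.surjective l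
  cases x with
  | inl j =>
    rw [W_inl, W_inl, Pi.single_apply, Pi.single_apply]
    split_ifs
    · rw [map_one]
    · rw [map_zero]
  | inr j => rw [W_inr, W_inr]

lemma plk_map {C : Type u} [CommRing C] (ψ : A →+* C) (v : Fin m → Fin k → A) (t : T n k) :
    plk σ C (fun j i => ψ (v j i)) t = ψ (plk σ A v t) := by
  rw [plk, plk, minor_map]
  congr 1
  funext l b
  exact W_map σ A ψ v l b

/-- naturality of the evaluation. -/
lemma comp_φ {C : Type u} [CommRing C] [Algebra R C] (ψ : A →ₐ[R] C) (v : Fin m → Fin k → A) :
    (ψ : A →+* C).comp (φ R hN σ A v) = φ R hN σ C (fun j i => ψ (v j i)) := by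
  apply MvPolynomial.ringHom_ext
  · intro r
    rw [RingHom.comp_apply, φ_C, φ_C]
    exact ψ.commutes r
  · intro i
    rw [RingHom.comp_apply, φ_X, φ_X]
    exact (plk_map σ A (ψ : A →+* C) v _).symm

theorem eval₂Hom_mul_of_isHomogeneous {ι B : Type*} [CommRing B] (c : R →+* B)
    (y : ι → B) (u : B) {a : MvPolynomial ι R} {d : ℕ} (ha : a.IsHomogeneous d) :
    MvPolynomial.eval₂Hom c (fun l => u * y l) a = u ^ d * MvPolynomial.eval₂Hom c y a := by
  classical
  conv_lhs => rw [← MvPolynomial.support_sum_monomial_coeff a]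
  conv_rhs => rw [← MvPolynomial.support_sum_monomial_coeff a]
  rw [map_sum, map_sum, Finset.mul_sum]
  refine Finset.sum_congr rfl fun e he => ?_
  rw [MvPolynomial.coe_eval₂Hom, MvPolynomial.eval₂_monomial, MvPolynomial.coe_eval₂Hom,
    MvPolynomial.eval₂_monomial]
  have hk := ha.degree_eq_sum_deg_support he
  simp only [Finsupp.prod, mul_pow, Finset.prod_mul_distrib, Finset.prod_pow_eq_pow_sum, ← hk]
  ring

/-- **change of chart for the evaluation**: rescaling by the minor of the other chart. -/
theorem φ_scale (v v' : Fin m → Fin k → A) (h : chartPt R σ A v = chartPt R σ' A v') (d : ℕ)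
    (a : MvPolynomial (Fin (N + 1)) R) (ha : a.IsHomogeneous d) :
    φ R hN σ A v a =
      (minor (W σ A v) (fun j => σ' (Sum.inl j))) ^ d * φ R hN σ' A v' a := by
  have h1 : (fun i => plk σ A v (eqv hN i)) =
      fun i => minor (W σ A v) (fun j => σ' (Sum.inl j)) * plk σ' A v' (eqv hN i) := by
    funext i
    exact minor_eq_mul R σ σ' A v v' h _
  rw [φ, h1]
  exact eval₂Hom_mul_of_isHomogeneous R (algebraMap R A) _ _ ha

/-- each coordinate of a point of a chart is, up to sign, a Plücker coordinate. -/
theorem exists_plk_eq (v : Fin m → Fin k → A) (i : Fin k) (j : Fin m) :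
    ∃ (t : T n k) (ε : ℤ), v j i = (ε : A) * plk σ A v t := by
  obtain ⟨t, π, hπ⟩ := exists_perm _ (update_injective σ i j)
  refine ⟨t, ((Equiv.Perm.sign π : ℤˣ) : ℤ), ?_⟩
  rw [← minor_update σ A v i j, plk, ← minor_comp_perm]
  congr 1
  funext a
  exact hπ a

/-- the Plücker coordinate of the chart itself is one. -/
lemma plk_self (v : Fin m → Fin k → A) (t : T n k) (ht : ∀ j, σ (Sum.inl j) = It t j) :
    plk σ A v t = 1 := by
  rw [plk, ← minor_inl σ A v]
  congr 1
  funext j
  exact (ht j).symm

end Phi

end Groth.Agent.Lib.Helper10.Plucker
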