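import Mathlib
import Groth.Agent.Lib.Helper10.GrassCharts
import Groth.Agent.Lib.Helper10.PluckerAlg

/-!
# The universal points of the standard charts of a scheme representing the Grassmannian
-/

set_option autoImplicit false
set_option linter.unusedSectionVars false
set_option linter.style.haveILetI false
set_option backward.isDefEq.respectTransparency.types false
set_option maxHeartbeats 4000000
set_option synthInstance.maxHeartbeats 400000
universe u
open CategoryTheory CategoryTheory.Limits AlgebraicGeometry Opposite TensorProduct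

namespace Groth.Agent.Lib.Helper10.PluckerCharts

open Groth.Agent.Lib.Helper10.AffPtClosed Groth.Agent.Lib.Helper10.GrassChart
  Groth.Agent.Lib.Helper10.AffSpaceRep Groth.Agent.Lib.Helper10.GrassCharts

variable (R : Type u) [CommRing R] (n k : ℕ) (hk : k ≤ n) (X : Over (Spec (CommRingCat.of R)))
  (e : ∀ A : CommAlgCat.{u} R,
    (SpA R A ⟶ X) ≃ (Module.Grassmannian.functor (R := R) (M := Fin n → R) k).obj A)
  (he : ∀ (A C : CommAlgCat.{u} R) (φ : A ⟶ C) (g : SpA R A ⟶ X) (g' : SpA R C ⟶ X),
    g'.left = Spec.map (CommRingCat.ofHom φ.hom.toRingHom) ≫ g.left →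
      e C g' = (Module.Grassmannian.functor (R := R) (M := Fin n → R) k).map φ (e A g))

/-- the coordinate ring of a chart. -/
abbrev BB : Type u := MvPolynomial (ιA n k) R

/-- the coordinate ring of a chart, as an `R`-algebra. -/
noncomputable abbrev Bc : CommAlgCat.{u} R := CommAlgCat.of R (BB R n k)

/-- the universal coordinates. -/
noncomputable def vuniv : Fin (n - k) → Fin k → BB R n k :=
  fun j i => MvPolynomial.X ((εA n k).symm (i, j))

/-- the affine space as the spectrum of the polynomial ring, over `Spec R`. -/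
noncomputable def aHom : SpA R (Bc R n k) ⟶ affOver R (ιA n k) :=
  Over.homMk (AffineSpace.SpecIso (ιA n k) (CommRingCat.of R)).inv
    (AffineSpace.SpecIso_inv_over (CommRingCat.of R))

instance : IsIso (aHom R n k).left := by
  change IsIso (AffineSpace.SpecIso (ιA n k) (CommRingCat.of R)).inv
  infer_instance

lemma affEquiv_aHom (i : ιA n k) :
    affEquiv R (ιA n k) (Bc R n k) (aHom R n k) i = MvPolynomial.X i := by
  change (Scheme.ΓSpecIso (CommRingCat.of (BB R n k))).hom.hom
    ((AffineSpace.SpecIso (ιA n k) (CommRingCat.of R)).inv.appTop.hom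
      (AffineSpace.coord (Spec (CommRingCat.of R)) i)) = _
  have h := AffineSpace.SpecIso_inv_appTop_coord (CommRingCat.of R) i
  have h2 := congrArg (Scheme.ΓSpecIso (CommRingCat.of (BB R n k))).hom.hom h
  refine h2.trans ?_
  change ((Scheme.ΓSpecIso (CommRingCat.of (BB R n k))).inv ≫
    (Scheme.ΓSpecIso (CommRingCat.of (BB R n k))).hom).hom _ = _
  rw [Iso.inv_hom_id]
  rfl

include hk he in
/-- **the universal point of a chart**: an open immersion from affine space onto the chart whose
point of the Grassmannian is the universal point of the chart. -/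
theorem exists_univ_pt (I : Fin k → Fin n) (hI : Function.Injective I) (U : X.left.Opens)
    (hU : ∀ (A : CommAlgCat.{u} R) (g : SpA R A ⟶ X),
      Set.range g.left ⊆ (U : Set X.left) ↔ InChart (sI R I) (e A g).toSubmodule)
    (hm : k + (n - k) = n) :
    ∃ (g : SpA R (Bc R n k) ⟶ X) (_ : IsOpenImmersion g.left), g.left.opensRange = U ∧
      e (Bc R n k) g = chartPt R (σOf I hI hm) (BB R n k) (vuniv R n k) := by
  let σ := σOf I hI hm
  have hs : sσ R σ = sI R I := by
    have h0 : (fun j => σ (Sum.inl j)) = I := funext (σOf_inl I hI hm)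
    rw [sσ_eq_sI, h0]
  let τ : ∀ A : CommAlgCat.{u} R, (vecFunctor R (ιA n k)).obj A →
      (Module.Grassmannian.functor (R := R) (M := Fin n → R) k).obj A :=
    fun A v => chartPt R σ A (fun j i => v ((εA n k).symm (i, j)))
  have hτ : ∀ (A C : CommAlgCat.{u} R) (φ : A ⟶ C) (v : (vecFunctor R (ιA n k)).obj A),
      τ C ((vecFunctor R (ιA n k)).map φ v) =
        (Module.Grassmannian.functor (R := R) (M := Fin n → R) k).map φ (τ A v) := by
    intro A C φ v
    exact (map_chartPt R σ A C φ _).symm
  have hτinj : ∀ A : CommAlgCat.{u} R, Function.Injective (τ A) := by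
    intro A v v' h
    have h1 := chartPt_injective R σ A h
    funext i
    have h2 := congrFun (congrFun h1 ((εA n k) i).2) ((εA n k) i).1
    simp only [Prod.mk.eta, Equiv.symm_apply_apply] at h2
    exact h2
  haveI : Mono U.ι := inferInstance
  obtain ⟨eZ, heZ, heZ'⟩ := exists_rep_sub X
    (Module.Grassmannian.functor (R := R) (M := Fin n → R) k) (vecFunctor R (ιA n k)) e he
    τ hτ hτinj U.toScheme U.ι (fun A g => by
      rw [← range_subset_iff, hU A g, ← hs]
      constructor
      · intro hin
        obtain ⟨v', hv'⟩ := exists_chartPt_eq R σ A (e A g) hin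
        refine ⟨fun i => v' ((εA n k) i).2 ((εA n k) i).1, ?_⟩
        change chartPt R σ A _ = _
        rw [← hv']
        congr 1
        funext j i
        simp only [Equiv.apply_symm_apply]
      · rintro ⟨v, hv⟩
        rw [← hv]
        exact inChart_chartPt R σ A _)
  obtain ⟨c, hc⟩ := exists_iso_of_transform (affOver R (ιA n k)) (subOver X U.toScheme U.ι)
    (vecFunctor R (ιA n k)) (vecFunctor R (ιA n k)) (affEquiv R (ιA n k))
    (affEquiv_nat R (ιA n k)) eZ heZ (fun A => Equiv.refl _) (fun A C φ N => rfl)
  let g' : SpA R (Bc R n k) ⟶ subOver X U.toScheme U.ι := aHom R n k ≫ c.inv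
  have hopen : IsOpenImmersion (g' ≫ subHom X U.toScheme U.ι).left := by
    change IsOpenImmersion (((aHom R n k).left ≫ c.inv.left) ≫ U.ι)
    infer_instance
  refine ⟨g' ≫ subHom X U.toScheme U.ι, hopen, ?_, ?_⟩
  · change (((aHom R n k).left ≫ c.inv.left) ≫ U.ι).opensRange = U
    rw [Scheme.Hom.opensRange_comp_of_isIso, Scheme.Opens.opensRange_ι]
  · rw [← heZ' (Bc R n k) g']
    have h1 := hc (Bc R n k) g'
    have h2 : g' ≫ c.hom = aHom R n k := by
      change (aHom R n k ≫ c.inv) ≫ c.hom = _
      rw [Category.assoc, Iso.inv_hom_id, Category.comp_id]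
    rw [h2] at h1
    change chartPt R σ (BB R n k) (fun j i => eZ (Bc R n k) g' ((εA n k).symm (i, j))) = _
    congr 1
    funext j i
    have h3 := congrFun h1 ((εA n k).symm (i, j))
    rw [affEquiv_aHom] at h3
    exact h3.symm

end Groth.Agent.Lib.Helper10.PluckerCharts
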