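import Mathlib
import Groth.Agent.Lib.Helper29.ToProj

/-!
# Morphisms from an affine scheme to `Proj` through a standard chart
-/

set_option autoImplicit false
set_option linter.unusedSectionVars false
set_option linter.style.haveILetI false
set_option backward.isDefEq.respectTransparency.types false
set_option maxHeartbeats 4000000
set_option synthInstance.maxHeartbeats 400000
universe u
open CategoryTheory CategoryTheory.Limits AlgebraicGeometry Opposite

namespace Groth.Agent.Lib.Helper10.PluckerSpec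

open Groth.Agent.Lib.Helper29.QCoh HomogeneousLocalization

variable {R A : Type u} [CommRing R] [CommRing A] [Algebra R A] (𝒜 : ℕ → Submodule R A)
  [GradedAlgebra 𝒜] {B B' : Type u} [CommRing B] [CommRing B']

/-- the morphism `Spec B ⟶ Proj 𝒜` through the chart `D₊(f)` given by a ring homomorphism
inverting `f`. -/
noncomputable def sc (φ : A →+* B) {f : A} {d : ℕ} (hf : f ∈ 𝒜 d) (hd : 0 < d)
    (hu : IsUnit (φ f)) : Spec (CommRingCat.of B) ⟶ Proj 𝒜 :=
  Spec.map (CommRingCat.ofHom (awayLift 𝒜 φ f hu)) ≫ Proj.awayι 𝒜 f hf hd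

theorem specMap_sc (ρ : B →+* B') (φ : A →+* B) {f : A} {d : ℕ} (hf : f ∈ 𝒜 d) (hd : 0 < d)
    (hu : IsUnit (φ f)) :
    Spec.map (CommRingCat.ofHom ρ) ≫ sc 𝒜 φ hf hd hu = sc 𝒜 (ρ.comp φ) hf hd (hu.map ρ) := by
  unfold sc
  rw [← Category.assoc, ← Spec.map_comp, ← CommRingCat.ofHom_comp, comp_awayLift]

theorem sc_mul (φ φ' : A →+* B) {f g x : A} {d e : ℕ} (hf : f ∈ 𝒜 d)
    (hd : 0 < d) (hg : g ∈ 𝒜 e) (hx : x = f * g) (hu : IsUnit (φ f)) (hu' : IsUnit (φ' x))
    (u : B) (hscale : ∀ (n : ℕ) (a : A), a ∈ 𝒜 (n • d) → φ' a = u ^ n * φ a) :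
    sc 𝒜 φ' (hx ▸ SetLike.mul_mem_graded hf hg : x ∈ 𝒜 (d + e))
        (Nat.add_pos_left hd e) hu' = sc 𝒜 φ hf hd hu := by
  unfold sc
  rw [← awayLift_comp_awayMap 𝒜 φ φ' hf hg hx hu hu' u hscale, CommRingCat.ofHom_comp,
    Spec.map_comp, Category.assoc, Proj.SpecMap_awayMap_awayι]

/-- two chart morphisms agree when the ring homomorphisms differ by the rescaling dictated by
the grading. -/
theorem sc_eq_of_scale (φ φ' : A →+* B) {f f' : A} (hf : f ∈ 𝒜 1) (hf' : f' ∈ 𝒜 1)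
    (hu : IsUnit (φ f)) (hu' : IsUnit (φ' f')) (u : B)
    (hscale : ∀ (n : ℕ) (a : A), a ∈ 𝒜 n → φ a = u ^ n * φ' a) :
    sc 𝒜 φ hf one_pos hu = sc 𝒜 φ' hf' one_pos hu' := by
  have huu : IsUnit u := by
    have h1 := hscale 1 f hf
    rw [pow_one] at h1
    rw [h1] at hu
    exact isUnit_of_mul_isUnit_left hu
  have hux : IsUnit (φ (f * f')) := by
    rw [map_mul]
    refine hu.mul ?_
    rw [hscale 1 f' hf', pow_one]
    exact huu.mul hu'
  have e1 := sc_mul 𝒜 φ φ hf one_pos hf' rfl hu hux 1 (fun n a _ => by rw [one_pow, one_mul])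
  have e2 := sc_mul 𝒜 φ' φ hf' one_pos hf (mul_comm f f') hu' hux u
    (fun n a ha => hscale n a (by rwa [smul_eq_mul, mul_one] at ha))
  exact e1.symm.trans e2

theorem awayLift_fromZero (φ : A →+* B) (f : A) (hu : IsUnit (φ f)) (a : 𝒜 0) :
    awayLift 𝒜 φ f hu (fromZeroRingHom 𝒜 _ a) = φ a.1 := by
  change (IsLocalization.Away.lift (S := Localization.Away f) f hu)
    ((fromZeroRingHom 𝒜 (Submonoid.powers f) a).val) = _
  have : (fromZeroRingHom 𝒜 (Submonoid.powers f) a).val =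
      algebraMap A (Localization.Away f) a.1 := by
    change Localization.mk a.1 1 = _
    rw [Localization.mk_one_eq_algebraMap]
  rw [this, IsLocalization.Away.lift_eq]

theorem sc_toSpecZero (φ : A →+* B) {f : A} {d : ℕ} (hf : f ∈ 𝒜 d) (hd : 0 < d)
    (hu : IsUnit (φ f)) :
    sc 𝒜 φ hf hd hu ≫ Proj.toSpecZero 𝒜 =
      Spec.map (CommRingCat.ofHom (φ.comp (algebraMap (𝒜 0) A))) := by
  unfold sc
  rw [Category.assoc, Proj.awayι_toSpecZero, ← Spec.map_comp]
  congr 2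
  ext a
  exact awayLift_fromZero 𝒜 φ f hu a

/-- the preimage of a standard chart under a chart morphism. -/
theorem sc_preimage_basicOpen (φ : A →+* B) {f g : A} (hf : f ∈ 𝒜 1) (hg : g ∈ 𝒜 1)
    (hu : IsUnit (φ f)) :
    sc 𝒜 φ hf one_pos hu ⁻¹ᵁ Proj.basicOpen 𝒜 g = PrimeSpectrum.basicOpen (φ g) := by
  unfold sc
  rw [Scheme.Hom.comp_preimage, Proj.awayι_preimage_basicOpen 𝒜 hf one_pos hg one_pos]
  have hmk : awayLift 𝒜 φ f hu (Away.isLocalizationElem hf hg) * φ f = φ g := by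
    have := awayLift_mk 𝒜 φ f hu hf 1 (g ^ 1) (by
      rw [smul_eq_mul, mul_one]
      simpa using hg)
    have e1 : φ (g ^ 1) = φ g := by rw [pow_one]
    have e2 : φ f ^ 1 = φ f := pow_one _
    rw [e1, e2] at this
    exact this
  ext y
  change (awayLift 𝒜 φ f hu) (Away.isLocalizationElem hf hg) ∉ y.asIdeal ↔ φ g ∉ y.asIdeal
  rw [← hmk]
  constructor
  · intro h1 h2
    apply h1
    have := y.asIdeal.mul_mem_right (↑hu.unit⁻¹ : B) h2
    rwa [mul_assoc, IsUnit.mul_val_inv, mul_one] at this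
  · intro h1 h2
    exact h1 (y.asIdeal.mul_mem_right _ h2)

/-- a chart morphism whose ring homomorphism is surjective is a closed immersion into the chart:
the range of `awayLift` contains the images of degree zero and the quotients by `f`. -/
theorem awayLift_mk_one (φ : A →+* B) {f g : A} (hf : f ∈ 𝒜 1) (hg : g ∈ 𝒜 1)
    (hu : IsUnit (φ f)) :
    awayLift 𝒜 φ f hu (Away.mk 𝒜 hf 1 g (by rwa [smul_eq_mul, mul_one])) * φ f = φ g := by
  have := awayLift_mk 𝒜 φ f hu hf 1 g (by rwa [smul_eq_mul, mul_one])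
  rwa [pow_one] at this

theorem awayLift_mk_zero (φ : A →+* B) {f a : A} (hf : f ∈ 𝒜 1) (ha : a ∈ 𝒜 0)
    (hu : IsUnit (φ f)) :
    awayLift 𝒜 φ f hu (Away.mk 𝒜 hf 0 a (by rwa [zero_smul])) = φ a := by
  have := awayLift_mk 𝒜 φ f hu hf 0 a (by rwa [zero_smul])
  rwa [pow_zero, mul_one] at this

end Groth.Agent.Lib.Helper10.PluckerSpec
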