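import Mathlib
import Groth.Agent.Lib.Helper10.PluckerCharts
import Groth.Agent.Lib.Helper10.PluckerSpec
import Groth.Prelude.Def_CohB1

/-!
# The Plücker embedding of a scheme representing the Grassmannian of `Rⁿ` into `Proj R[x_J]`
-/

set_option autoImplicit false
set_option linter.unusedSectionVars false
set_option linter.style.haveILetI false
set_option backward.isDefEq.respectTransparency.types false
set_option maxHeartbeats 4000000
set_option synthInstance.maxHeartbeats 400000
universe u
open CategoryTheory CategoryTheory.Limits AlgebraicGeometry Opposite TensorProduct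

namespace Groth.Agent.Lib.Helper10.PluckerMap

open Groth.Agent.Lib.Helper10.AffPtClosed Groth.Agent.Lib.Helper10.GrassChart
  Groth.Agent.Lib.Helper10.AffSpaceRep Groth.Agent.Lib.Helper10.GrassCharts
  Groth.Agent.Lib.Helper10.Plucker Groth.Agent.Lib.Helper10.PluckerSpec
  Groth.Agent.Lib.Helper10.PluckerCharts Groth.Agent.Lib.Helper29.QCoh

section Pn

variable (N : ℕ) (R : Type u) [CommRing R]

theorem iSup_basicOpen_X_eq_top :
    ⨆ i : Fin (N + 1), Proj.basicOpen (CohB1.polyGrading N R) (MvPolynomial.X i) = ⊤ := by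
  apply Proj.iSup_basicOpen_eq_top' (CohB1.polyGrading N R) (fun i => MvPolynomial.X i)
  · intro i
    exact ⟨1, MvPolynomial.isHomogeneous_X R i⟩
  · rw [eq_top_iff]
    intro p hp0
    clear hp0
    induction p using MvPolynomial.induction_on with
    | C a =>
      have : (MvPolynomial.C a : MvPolynomial (Fin (N + 1)) R) =
          algebraMap (CohB1.polyGrading N R 0) _
            ⟨MvPolynomial.C a, MvPolynomial.isHomogeneous_C _ a⟩ := rfl
      rw [this]
      exact Subalgebra.algebraMap_mem _ _
    | add p q hp hq => exact Subalgebra.add_mem _ hp hq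
    | mul_X p i hp =>
      exact Subalgebra.mul_mem _ hp (Algebra.subset_adjoin ⟨i, rfl⟩)

theorem sc_congr {A B : Type u} [CommRing A] [Algebra R A] [CommRing B] (𝒜 : ℕ → Submodule R A)
    [GradedAlgebra 𝒜] {φ φ' : A →+* B} (h : φ = φ') {f : A} {d : ℕ} (hf : f ∈ 𝒜 d) (hd : 0 < d)
    (hu : IsUnit (φ f)) (hu' : IsUnit (φ' f)) : sc 𝒜 φ hf hd hu = sc 𝒜 φ' hf hd hu' := by
  subst h
  rfl

end Pn

variable (R : Type u) [CommRing R] (n k : ℕ) (hk : k ≤ n) (X : Over (Spec (CommRingCat.of R)))
  (e : ∀ A : CommAlgCat.{u} R,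
    (SpA R A ⟶ X) ≃ (Module.Grassmannian.functor (R := R) (M := Fin n → R) k).obj A)
  (he : ∀ (A C : CommAlgCat.{u} R) (φ : A ⟶ C) (g : SpA R A ⟶ X) (g' : SpA R C ⟶ X),
    g'.left = Spec.map (CommRingCat.ofHom φ.hom.toRingHom) ≫ g.left →
      e C g' = (Module.Grassmannian.functor (R := R) (M := Fin n → R) k).map φ (e A g))
  (hm : k + (n - k) = n)

/-- the chart equivalence attached to a subset. -/
noncomputable def σt (t : T n k) : Fin k ⊕ Fin (n - k) ≃ Fin n := σOf (It t) (It_injective t) hm

lemma σt_inl (t : T n k) (j : Fin k) : σt n k hm t (Sum.inl j) = It t j :=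
  σOf_inl (It t) (It_injective t) hm j

include he hm in
/-- the charts attached to subsets cover. -/
theorem exists_It_chart_mem (U : T n k → X.left.Opens)
    (hU : ∀ (t : T n k) (A : CommAlgCat.{u} R) (g : SpA R A ⟶ X),
      Set.range g.left ⊆ (U t : Set X.left) ↔ InChart (sI R (It t)) (e A g).toSubmodule)
    (x : X.left) : ∃ t, x ∈ U t := by
  obtain ⟨alg, g, hg⟩ := exists_pt X (CommRingCat.of (X.left.residueField x))
    (X.left.fromSpecResidueField x)
  letI := alg
  obtain ⟨I, hI, hin⟩ := exists_inChart_of_field R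
    (e (CommAlgCat.of R (X.left.residueField x)) g)
  let σ := σOf I hI hm
  have hs : sσ R σ = sI R I := by
    have h0 : (fun j => σ (Sum.inl j)) = I := funext (σOf_inl I hI hm)
    rw [sσ_eq_sI, h0]
  obtain ⟨v, hv⟩ := exists_chartPt_eq R σ (X.left.residueField x)
    (e (CommAlgCat.of R (X.left.residueField x)) g) (by rw [hs]; exact hin)
  obtain ⟨t, π, hπ⟩ := exists_perm I hI
  have hu : IsUnit (minor (W σ (X.left.residueField x) v) (It t)) := by
    rw [← isUnit_minor_comp_perm _ _ π]
    have h1 : (fun a => It t (π a)) = fun a => σ (Sum.inl a) := by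
      funext a
      rw [← hπ a, σOf_inl]
    rw [h1, minor_inl]
    exact isUnit_one
  have hin' : InChart (sI R (It t))
      (e (CommAlgCat.of R (X.left.residueField x)) g).toSubmodule := by
    rw [← hv]
    exact (inChart_sI_chartPt_iff R σ (X.left.residueField x) v (It t)).mpr hu
  have h1 := (hU t _ g).mpr hin'
  rw [hg, Scheme.range_fromSpecResidueField] at h1
  exact ⟨t, h1 rfl⟩

section PointMap

variable {N : ℕ} (hN : N + 1 = n.choose k)

/-- the coordinate of projective space attached to a subset. -/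
noncomputable def xt (t : T n k) : MvPolynomial (Fin (N + 1)) R :=
  MvPolynomial.X ((eqv hN).symm t)

lemma xt_mem (t : T n k) : xt R n k hN t ∈ CohB1.polyGrading N R 1 :=
  MvPolynomial.isHomogeneous_X R _

variable (A : Type u) [CommRing A] [Algebra R A]

lemma isUnit_φ_xt (t : T n k) (v : Fin (n - k) → Fin k → A) :
    IsUnit (φ R hN (σt n k hm t) A v (xt R n k hN t)) := by
  rw [xt, φ_X, Equiv.apply_symm_apply, plk_self (σt n k hm t) A v t (σt_inl n k hm t)]
  exact isUnit_one

/-- the morphism to projective space defined by a point of a chart. -/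
noncomputable def fpt (t : T n k) (v : Fin (n - k) → Fin k → A) :
    Spec (CommRingCat.of A) ⟶ Proj (CohB1.polyGrading N R) :=
  sc (CohB1.polyGrading N R) (φ R hN (σt n k hm t) A v) (xt_mem R n k hN t) one_pos
    (isUnit_φ_xt R n k hm hN A t v)

/-- naturality of the point morphism. -/
theorem specMap_fpt {C : Type u} [CommRing C] [Algebra R C] (ψ : A →ₐ[R] C) (t : T n k)
    (v : Fin (n - k) → Fin k → A) :
    Spec.map (CommRingCat.ofHom (ψ : A →+* C)) ≫ fpt R n k hm hN A t v =
      fpt R n k hm hN C t (fun j i => ψ (v j i)) := by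
  unfold fpt
  rw [specMap_sc]
  exact sc_congr R (CohB1.polyGrading N R) (comp_φ R hN (σt n k hm t) A ψ v) _ _ _ _

/-- the point morphism does not depend on the chart. -/
theorem fpt_eq_of_chartPt_eq (t t' : T n k) (v v' : Fin (n - k) → Fin k → A)
    (h : chartPt R (σt n k hm t) A v = chartPt R (σt n k hm t') A v') :
    fpt R n k hm hN A t v = fpt R n k hm hN A t' v' := by
  unfold fpt
  refine sc_eq_of_scale (CohB1.polyGrading N R) _ _ (xt_mem R n k hN t) (xt_mem R n k hN t')
    _ _ (minor (W (σt n k hm t) A v) (fun j => σt n k hm t' (Sum.inl j))) ?_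
  intro d a ha
  exact φ_scale R hN (σt n k hm t) (σt n k hm t') A v v' h d a
    ((MvPolynomial.mem_homogeneousSubmodule _ _).mp ha)

/-- the structure morphism of a point morphism. -/
theorem fpt_toSpec (t : T n k) (v : Fin (n - k) → Fin k → A) :
    fpt R n k hm hN A t v ≫ CohB1.ProjSpace.toSpec N R =
      Spec.map (CommRingCat.ofHom (algebraMap R A)) := by
  unfold fpt CohB1.ProjSpace.toSpec
  erw [reassoc_of% (sc_toSpecZero (CohB1.polyGrading N R) (φ R hN (σt n k hm t) A v)
    (xt_mem R n k hN t) one_pos (isUnit_φ_xt R n k hm hN A t v))]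
  rw [← Spec.map_comp]
  congr 2
  ext r
  exact φ_C R hN (σt n k hm t) A v r

/-- the preimage of a standard chart under a point morphism. -/
theorem fpt_preimage (t s : T n k) (v : Fin (n - k) → Fin k → A) :
    fpt R n k hm hN A t v ⁻¹ᵁ Proj.basicOpen (CohB1.polyGrading N R) (xt R n k hN s) =
      PrimeSpectrum.basicOpen (plk (σt n k hm t) A v s) := by
  unfold fpt
  rw [sc_preimage_basicOpen (CohB1.polyGrading N R) _ (xt_mem R n k hN t) (xt_mem R n k hN s)]
  congr 1
  rw [xt, φ_X, Equiv.apply_symm_apply]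

end PointMap

section Glue

variable {N : ℕ} (hN : N + 1 = n.choose k)
  (U : T n k → X.left.Opens)
  (hU : ∀ (t : T n k) (A : CommAlgCat.{u} R) (g : SpA R A ⟶ X),
      Set.range g.left ⊆ (U t : Set X.left) ↔ InChart (sI R (It t)) (e A g).toSubmodule)
  (g : T n k → (SpA R (Bc R n k) ⟶ X))
  [hgo : ∀ t, IsOpenImmersion (g t).left]
  (hgr : ∀ t, (g t).left.opensRange = U t)
  (hge : ∀ t, e (Bc R n k) (g t) = chartPt R (σt n k hm t) (BB R n k) (vuniv R n k))

/-- the chart morphisms. -/
noncomputable abbrev ft (t : T n k) :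
    Spec (CommRingCat.of (BB R n k)) ⟶ Proj (CohB1.polyGrading N R) :=
  fpt R n k hm hN (BB R n k) t (vuniv R n k)

include he hge in
/-- the composite of a point of a chart with the chart morphism is the point morphism of its
coordinates. -/
theorem comp_ft (t : T n k) (D : CommAlgCat.{u} R) (gD : SpA R D ⟶ X)
    (a : (SpA R D).left ⟶ (SpA R (Bc R n k)).left) (ha : a ≫ (g t).left = gD.left) :
    ∃ v : Fin (n - k) → Fin k → D, e D gD = chartPt R (σt n k hm t) D v ∧
      a ≫ ft R n k hm hN t = fpt R n k hm hN D t v := by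
  obtain ⟨ψ, hψ⟩ := exists_algHom X (g t) gD a ha
  refine ⟨fun j i => ψ.hom (vuniv R n k j i), ?_, ?_⟩
  · rw [he (Bc R n k) D ψ (g t) gD (by rw [← ha, hψ]), hge t]
    exact map_chartPt R (σt n k hm t) (Bc R n k) D ψ (vuniv R n k)
  · rw [hψ]
    exact specMap_fpt R n k hm hN (BB R n k) ψ.hom t (vuniv R n k)

include he hge in
/-- the chart morphisms agree on overlaps. -/
theorem ft_compat (t t' : T n k) (D : CommRingCat.{u})
    (a a' : Spec D ⟶ Spec (CommRingCat.of (BB R n k)))
    (h : a ≫ (g t).left = a' ≫ (g t').left) :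
    a ≫ ft R n k hm hN t = a' ≫ ft R n k hm hN t' := by
  obtain ⟨alg, gD, hgD⟩ := exists_pt X D (a ≫ (g t).left)
  letI := alg
  obtain ⟨v, hv1, hv2⟩ := comp_ft R n k X e he hm hN g hge t (CommAlgCat.of R D) gD a hgD.symm
  obtain ⟨v', hv1', hv2'⟩ := comp_ft R n k X e he hm hN g hge t' (CommAlgCat.of R D) gD a'
    (by rw [hgD, h])
  rw [hv2, hv2']
  exact fpt_eq_of_chartPt_eq R n k hm hN D t t' v v' (hv1.symm.trans hv1')

include he hm hU hgr in
theorem covers (x : X.left) : ∃ (t : T n k) (y : Spec (CommRingCat.of (BB R n k))),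
    (g t).left y = x := by
  obtain ⟨t, ht⟩ := exists_It_chart_mem R n k X e he hm U hU x
  rw [← hgr t] at ht
  obtain ⟨y, hy⟩ := ht
  exact ⟨t, y, hy⟩

include he hU hgr hge in
/-- **the Plücker morphism**, glued from the chart morphisms. -/
theorem exists_glued : ∃ r : X.left ⟶ Proj (CohB1.polyGrading N R),
    ∀ t, (g t).left ≫ r = ft R n k hm hN t := by
  let 𝒰 : X.left.OpenCover := Scheme.Cover.mkOfCovers (T n k)
    (fun _ => Spec (CommRingCat.of (BB R n k))) (fun t => (g t).left)
    (covers R n k X e he hm U hU g hgr) (fun t => hgo t)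
  refine ⟨𝒰.glueMorphisms (fun t => ft R n k hm hN t) ?_, fun t => 𝒰.ι_glueMorphisms _ _ t⟩
  intro t t'
  refine (pullback (𝒰.f t) (𝒰.f t')).affineOpenCover.openCover.hom_ext _ _ (fun i => ?_)
  rw [← Category.assoc, ← Category.assoc]
  apply ft_compat R n k X e he hm hN g hge t t'
  exact (Category.assoc _ _ _).trans ((congrArg (fun z => _ ≫ z)
    (pullback.condition (f := 𝒰.f t) (g := 𝒰.f t'))).trans (Category.assoc _ _ _).symm)

variable (r : X.left ⟶ Proj (CohB1.polyGrading N R))
  (hr : ∀ t, (g t).left ≫ r = ft R n k hm hN t)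

include he hU hgr hr in
/-- the Plücker morphism is a morphism over `Spec R`. -/
theorem glued_toSpec : r ≫ CohB1.ProjSpace.toSpec N R = X.hom := by
  let 𝒰 : X.left.OpenCover := Scheme.Cover.mkOfCovers (T n k)
    (fun _ => Spec (CommRingCat.of (BB R n k))) (fun t => (g t).left)
    (covers R n k X e he hm U hU g hgr) (fun t => hgo t)
  apply 𝒰.hom_ext
  intro t
  change (g t).left ≫ r ≫ CohB1.ProjSpace.toSpec N R = (g t).left ≫ X.hom
  rw [← Category.assoc, hr t, fpt_toSpec]
  exact (Over.w (g t)).symm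

include he hU hgr hge hr in
/-- the preimage of a standard chart of projective space is the corresponding chart. -/
theorem glued_preimage (s : T n k) :
    r ⁻¹ᵁ Proj.basicOpen (CohB1.polyGrading N R) (xt R n k hN s) = U s := by
  apply le_antisymm
  · intro x hx
    obtain ⟨t', y, hy⟩ := covers R n k X e he hm U hU g hgr x
    let p := (Spec (CommRingCat.of (BB R n k))).fromSpecResidueField y
    obtain ⟨alg, gκ, hgκ⟩ := exists_pt X
      (CommRingCat.of ((Spec (CommRingCat.of (BB R n k))).residueField y)) (p ≫ (g t').left)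
    letI := alg
    obtain ⟨v, hv1, hv2⟩ := comp_ft R n k X e he hm hN g hge t'
      (CommAlgCat.of R ((Spec (CommRingCat.of (BB R n k))).residueField y)) gκ p hgκ.symm
    have hyr : y ∈ Set.range p := by
      rw [Scheme.range_fromSpecResidueField]
      rfl
    obtain ⟨pt, hpt⟩ := hyr
    have h1 : (p ≫ ft R n k hm hN t') pt ∈
        Proj.basicOpen (CohB1.polyGrading N R) (xt R n k hN s) := by
      rw [← hr t', ← Category.assoc, Scheme.Hom.comp_apply, Scheme.Hom.comp_apply, hpt, hy]
      exact hx
    rw [hv2] at h1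
    have h2 : pt ∈ fpt R n k hm hN ((Spec (CommRingCat.of (BB R n k))).residueField y) t' v ⁻¹ᵁ
        Proj.basicOpen (CohB1.polyGrading N R) (xt R n k hN s) := h1
    rw [fpt_preimage] at h2
    have h3 : plk (σt n k hm t') ((Spec (CommRingCat.of (BB R n k))).residueField y) v s ≠ 0 := by
      intro h0
      apply h2
      change _ ∈ pt.asIdeal
      rw [h0]
      exact pt.asIdeal.zero_mem
    have h4 : InChart (sI R (It s))
        (e (CommAlgCat.of R ((Spec (CommRingCat.of (BB R n k))).residueField y)) gκ).toSubmodule := by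
      rw [hv1]
      exact (inChart_sI_chartPt_iff R (σt n k hm t') _ v (It s)).mpr h3.isUnit
    have h5 := (hU s _ gκ).mpr h4
    have h6 : x = gκ.left pt := by
      rw [hgκ, Scheme.Hom.comp_apply, hpt, hy]
    rw [h6]
    exact h5 ⟨pt, rfl⟩
  · intro x hx
    rw [← hgr s] at hx
    obtain ⟨y, hy⟩ := hx
    have h1 : y ∈ ft R n k hm hN s ⁻¹ᵁ
        Proj.basicOpen (CohB1.polyGrading N R) (xt R n k hN s) := by
      rw [fpt_preimage, plk_self (σt n k hm s) _ _ s (σt_inl n k hm s)]
      change (1 : BB R n k) ∉ y.asIdeal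
      intro h1
      exact y.isPrime.ne_top ((Ideal.eq_top_iff_one _).mpr h1)
    rw [← hr s] at h1
    have h2 : r ((g s).left y) ∈ Proj.basicOpen (CohB1.polyGrading N R) (xt R n k hN s) := h1
    rw [hy] at h2
    exact h2

include hk in
/-- the chart ring homomorphism is surjective: every coordinate is, up to sign, a Plücker
coordinate. -/
theorem awayLift_surjective (t : T n k) :
    Function.Surjective (awayLift (CohB1.polyGrading N R)
      (φ R hN (σt n k hm t) (BB R n k) (vuniv R n k)) (xt R n k hN t)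
      (isUnit_φ_xt R n k hm hN (BB R n k) t (vuniv R n k))) := by
  have hone : φ R hN (σt n k hm t) (BB R n k) (vuniv R n k) (xt R n k hN t) = 1 := by
    rw [xt, φ_X, Equiv.apply_symm_apply,
      plk_self (σt n k hm t) (BB R n k) (vuniv R n k) t (σt_inl n k hm t)]
  intro b
  induction b using MvPolynomial.induction_on with
  | C c =>
    refine ⟨HomogeneousLocalization.Away.mk (CohB1.polyGrading N R) (xt_mem R n k hN t) 0
      (MvPolynomial.C c) (by rw [zero_smul]; exact MvPolynomial.isHomogeneous_C _ c), ?_⟩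
    rw [awayLift_mk_zero (CohB1.polyGrading N R) _ (xt_mem R n k hN t)
      (MvPolynomial.isHomogeneous_C _ c), φ_C]
    rfl
  | add p q hp hq =>
    obtain ⟨a, rfl⟩ := hp
    obtain ⟨b, rfl⟩ := hq
    exact ⟨a + b, map_add _ _ _⟩
  | mul_X p i hp =>
    obtain ⟨a, rfl⟩ := hp
    have hX : ∃ c, awayLift (CohB1.polyGrading N R)
        (φ R hN (σt n k hm t) (BB R n k) (vuniv R n k)) (xt R n k hN t)
        (isUnit_φ_xt R n k hm hN (BB R n k) t (vuniv R n k)) c = MvPolynomial.X i := by
      obtain ⟨s, ε, hε⟩ := exists_plk_eq (σt n k hm t) (BB R n k) (vuniv R n k)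
        ((εA n k) i).1 ((εA n k) i).2
      have hv : vuniv R n k ((εA n k) i).2 ((εA n k) i).1 = MvPolynomial.X i := by
        unfold vuniv
        rw [Prod.mk.eta, Equiv.symm_apply_apply]
      have h1 := awayLift_mk_one (CohB1.polyGrading N R)
        (φ R hN (σt n k hm t) (BB R n k) (vuniv R n k)) (xt_mem R n k hN t) (xt_mem R n k hN s)
        (isUnit_φ_xt R n k hm hN (BB R n k) t (vuniv R n k))
      rw [hone, mul_one] at h1
      refine ⟨(ε : HomogeneousLocalization.Away (CohB1.polyGrading N R) (xt R n k hN t)) *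
        HomogeneousLocalization.Away.mk (CohB1.polyGrading N R) (xt_mem R n k hN t) 1
          (xt R n k hN s) (by rw [smul_eq_mul, mul_one]; exact xt_mem R n k hN s), ?_⟩
      rw [map_mul, map_intCast, ← hv, hε, h1, xt, φ_X, Equiv.apply_symm_apply]
    obtain ⟨c, hc⟩ := hX
    exact ⟨a * c, by rw [map_mul, hc]⟩

include hk he hU hgr hge hr in
/-- **the Plücker morphism is a closed immersion.** -/
theorem glued_isClosedImmersion : IsClosedImmersion r := by
  have hcov : ∀ x : Proj (CohB1.polyGrading N R), ∃ (t : T n k)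
      (y : Spec (CommRingCat.of (HomogeneousLocalization.Away (CohB1.polyGrading N R)
        (xt R n k hN t)))),
      Proj.awayι (CohB1.polyGrading N R) (xt R n k hN t) (xt_mem R n k hN t) one_pos y = x := by
    intro x
    have hx : x ∈ ⨆ i : Fin (N + 1),
        Proj.basicOpen (CohB1.polyGrading N R) (MvPolynomial.X i) := by
      rw [iSup_basicOpen_X_eq_top]
      trivial
    obtain ⟨i, hi⟩ := TopologicalSpace.Opens.mem_iSup.mp hx
    have h1 : (MvPolynomial.X i : MvPolynomial (Fin (N + 1)) R) = xt R n k hN (eqv hN i) := by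
      rw [xt, Equiv.symm_apply_apply]
    rw [h1, ← Proj.opensRange_awayι (CohB1.polyGrading N R) _ (xt_mem R n k hN _) one_pos] at hi
    obtain ⟨y, hy⟩ := hi
    exact ⟨eqv hN i, y, hy⟩
  let 𝒱 : (Proj (CohB1.polyGrading N R)).OpenCover := Scheme.Cover.mkOfCovers (T n k)
    (fun t => Spec (CommRingCat.of (HomogeneousLocalization.Away (CohB1.polyGrading N R)
      (xt R n k hN t))))
    (fun t => Proj.awayι (CohB1.polyGrading N R) (xt R n k hN t) (xt_mem R n k hN t) one_pos)
    hcov (fun t => inferInstance)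
  apply IsZariskiLocalAtTarget.of_openCover (P := @IsClosedImmersion) 𝒱
  intro t
  have hpb : IsPullback (Spec.map (CommRingCat.ofHom (awayLift (CohB1.polyGrading N R)
      (φ R hN (σt n k hm t) (BB R n k) (vuniv R n k)) (xt R n k hN t)
      (isUnit_φ_xt R n k hm hN (BB R n k) t (vuniv R n k))))) (g t).left
      (Proj.awayι (CohB1.polyGrading N R) (xt R n k hN t) (xt_mem R n k hN t) one_pos) r :=
    IsOpenImmersion.isPullback _ _ _ _ (hr t) (by
      rw [Proj.opensRange_awayι, glued_preimage R n k X e he hm hN U hU g hgr hge r hr t, hgr t])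
  have h1 : pullback.snd r
      (Proj.awayι (CohB1.polyGrading N R) (xt R n k hN t) (xt_mem R n k hN t) one_pos) =
      hpb.flip.isoPullback.inv ≫
      Spec.map (CommRingCat.ofHom (awayLift (CohB1.polyGrading N R)
      (φ R hN (σt n k hm t) (BB R n k) (vuniv R n k)) (xt R n k hN t)
      (isUnit_φ_xt R n k hm hN (BB R n k) t (vuniv R n k)))) := by
    rw [Iso.eq_inv_comp]
    exact hpb.flip.isoPullback_hom_snd
  have hci : IsClosedImmersion (Spec.map (CommRingCat.ofHom (awayLift (CohB1.polyGrading N R)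
      (φ R hN (σt n k hm t) (BB R n k) (vuniv R n k)) (xt R n k hN t)
      (isUnit_φ_xt R n k hm hN (BB R n k) t (vuniv R n k))))) :=
    IsClosedImmersion.spec_of_surjective _ (awayLift_surjective R n k hk hm hN t)
  change IsClosedImmersion (pullback.snd r
      (Proj.awayι (CohB1.polyGrading N R) (xt R n k hN t) (xt_mem R n k hN t) one_pos))
  rw [h1, MorphismProperty.cancel_left_of_respectsIso (P := @IsClosedImmersion)]
  exact hci

end Glue

end Groth.Agent.Lib.Helper10.PluckerMap
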