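import Mathlib
import Groth.Agent.Lib.Helper10.PluckerMap
import Groth.Agent.Lib.Helper25.PolyRelProj2

/-!
# The Plücker embedding: a scheme representing the Grassmannian of `Rⁿ` is a closed subscheme of
projective space
-/

set_option autoImplicit false
set_option linter.unusedSectionVars false
set_option linter.style.haveILetI false
set_option backward.isDefEq.respectTransparency.types false
set_option maxHeartbeats 4000000
set_option synthInstance.maxHeartbeats 400000
universe u
open CategoryTheory CategoryTheory.Limits AlgebraicGeometry Opposite TensorProduct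

namespace Groth.Agent.Lib.Helper10.PluckerMain

open Groth.Agent.Lib.Helper10.AffPtClosed Groth.Agent.Lib.Helper10.GrassChart
  Groth.Agent.Lib.Helper10.GrassCharts
  Groth.Agent.Lib.Helper10.Plucker Groth.Agent.Lib.Helper10.PluckerCharts
  Groth.Agent.Lib.Helper10.PluckerMap Groth.Agent.Lib.Helper25.PolyRelProj

variable (R : Type u) [CommRing R] (n k : ℕ) (hk : k ≤ n) (X : Over (Spec (CommRingCat.of R)))
  (e : ∀ A : CommAlgCat.{u} R,
    (SpA R A ⟶ X) ≃ (Module.Grassmannian.functor (R := R) (M := Fin n → R) k).obj A)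
  (he : ∀ (A C : CommAlgCat.{u} R) (φ : A ⟶ C) (g : SpA R A ⟶ X) (g' : SpA R C ⟶ X),
    g'.left = Spec.map (CommRingCat.ofHom φ.hom.toRingHom) ≫ g.left →
      e C g' = (Module.Grassmannian.functor (R := R) (M := Fin n → R) k).map φ (e A g))

include hk he in
/-- **the Plücker embedding** into `Proj R[x_J]`. -/
theorem exists_closedImmersion_proj {N : ℕ} (hN : N + 1 = n.choose k) :
    ∃ r : X.left ⟶ Proj (CohB1.polyGrading N R),
      IsClosedImmersion r ∧ r ≫ CohB1.ProjSpace.toSpec N R = X.hom := by
  have hm : k + (n - k) = n := by omega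
  choose U hU using fun t : T n k => exists_chart_open R n k X e he (It t)
  have h1 := fun t : T n k =>
    exists_univ_pt R n k hk X e he (It t) (It_injective t) (U t) (hU t) hm
  choose g hgo hgr hge using h1
  letI : ∀ t, IsOpenImmersion (g t).left := hgo
  obtain ⟨r, hr⟩ := exists_glued R n k X e he hm hN U hU g hgr hge
  exact ⟨r, glued_isClosedImmersion R n k hk X e he hm hN U hU g hgr hge r hr,
    glued_toSpec R n k X e he hm hN U hU g hgr r hr⟩

include hk he in
/-- **the Plücker embedding** into projective space over `Spec R`. -/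
theorem exists_closedImmersion_projSpaceOver {N : ℕ} (hN : N + 1 = n.choose k) :
    ∃ c : X.left ⟶ CohB1.ProjSpaceOver N (Spec (CommRingCat.of R)),
      IsClosedImmersion c ∧
        c ≫ CohB1.ProjSpaceOver.toBase N (Spec (CommRingCat.of R)) = X.hom := by
  obtain ⟨r, hr1, hr2⟩ := exists_closedImmersion_proj R n k hk X e he hN
  have PB := @isPullback_projSpace N (ULift.{u} ℤ) R _ _ (zAlg R)
  have hT : Spec.map (CommRingCat.ofHom (@algebraMap (ULift.{u} ℤ) R _ _ (zAlg R))) =
      specULiftZIsTerminal.from (Spec (CommRingCat.of R)) := specULiftZIsTerminal.hom_ext _ _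
  rw [hT] at PB
  let κ : Proj (CohB1.polyGrading N R) ≅ CohB1.ProjSpaceOver N (Spec (CommRingCat.of R)) :=
    PB.isoPullback
  have hκ : κ.hom ≫ CohB1.ProjSpaceOver.toBase N (Spec (CommRingCat.of R)) =
      CohB1.ProjSpace.toSpec N R := PB.isoPullback_hom_snd
  refine ⟨r ≫ κ.hom, inferInstance, ?_⟩
  rw [Category.assoc, hκ, hr2]

end Groth.Agent.Lib.Helper10.PluckerMain
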