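import Mathlib
import Groth.Agent.Lib.Helper10.GrassCond
import Groth.Agent.Lib.Helper10.AffPtProd
import Groth.Agent.Lib.Helper10.AffPtCondRep
import Groth.Agent.Lib.Helper10.PluckerMain
import Groth.Agent.Lib.Helper10.GrassRep
import Groth.Agent.Lib.Helper29.VA7
import Groth.Prelude.Def_W4c1limliniiiiLG

/-!
# The linked Grassmannian is representable by a proper scheme
-/

set_option autoImplicit false
set_option linter.unusedSectionVars false
set_option linter.style.haveILetI false
set_option backward.isDefEq.respectTransparency.types false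
set_option maxHeartbeats 4000000
set_option synthInstance.maxHeartbeats 400000
universe u
open CategoryTheory CategoryTheory.Limits AlgebraicGeometry Opposite TensorProduct

namespace Groth.Agent.Lib.Helper10.LinkedGrass

open Groth.Agent.Lib.Helper10.AffPtClosed Groth.Agent.Lib.Helper10.GrassCond
  Groth.Agent.Lib.Helper10.AffPtProd Groth.Agent.Lib.Helper10.AffPtCondRep

section Cond2

variable {R : Type u} [CommRing R] {M : Type u} [AddCommGroup M] [Module R M]
  {A : Type u} [CommRing A] [Algebra R A] (B : Type u) [CommRing B] [Algebra R B]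
  [Algebra A B] [IsScalarTower R A B] (N N' : Submodule A (A ⊗[R] M)) (θ : M →ₗ[R] M)

/-- the obstruction elements for `θ` to carry `N` into `N'`. -/
def mapSet : Set ((A ⊗[R] M) ⧸ N') := {q | ∃ x ∈ N, q = N'.mkQ (θ.baseChange A x)}

theorem map_le_iff [Module.Projective A ((A ⊗[R] M) ⧸ N')] :
    Submodule.map (θ.baseChange B) (LinearMap.ker (Module.Grassmannian.baseChangeMkQ B N)) ≤
        LinearMap.ker (Module.Grassmannian.baseChangeMkQ B N') ↔
      coordIdeal (mapSet N N' θ) ≤ RingHom.ker (algebraMap A B) := by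
  rw [coordIdeal_le_ker_iff]
  constructor
  · rintro h _ ⟨x, hx, rfl⟩
    have h1 : ιB B x ∈ LinearMap.ker (Module.Grassmannian.baseChangeMkQ B N) := by
      rw [ker_baseChangeMkQ]
      exact Submodule.subset_span ⟨x, hx, rfl⟩
    have h2 := h (Submodule.mem_map_of_mem h1)
    rw [LinearMap.mem_ker, baseChange_ιB, baseChangeMkQ_ιB] at h2
    exact h2
  · intro h
    rw [Submodule.map_le_iff_le_comap, ker_baseChangeMkQ, Submodule.span_le]
    rintro _ ⟨x, hx, rfl⟩
    rw [SetLike.mem_coe, Submodule.mem_comap, LinearMap.mem_ker, baseChange_ιB, baseChangeMkQ_ιB]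
    exact h _ ⟨x, hx, rfl⟩

end Cond2

section Functor

variable (R : Type u) [CommRing R] (M : Type u) [AddCommGroup M] [Module R M] (k : ℕ)

theorem hCond_map_le (θ : M →ₗ[R] M) (A : CommAlgCat.{u} R)
    (N N' : (Module.Grassmannian.functor (R := R) (M := M) k).obj A) :
    ∃ J : Ideal A, ∀ (C : CommAlgCat.{u} R) (φ : A ⟶ C),
      Submodule.map (θ.baseChange C)
        ((Module.Grassmannian.functor (R := R) (M := M) k).map φ N).toSubmodule ≤
        ((Module.Grassmannian.functor (R := R) (M := M) k).map φ N').toSubmodule ↔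
      J ≤ RingHom.ker φ.hom.toRingHom := by
  refine ⟨coordIdeal (mapSet N.toSubmodule N'.toSubmodule θ), fun C φ => ?_⟩
  letI : Algebra A C := φ.hom.toAlgebra
  letI : IsScalarTower R A C :=
    IsScalarTower.of_algebraMap_eq' <| IsScalarTower.algebraMap_eq R A C
  have h1 : ((Module.Grassmannian.functor (R := R) (M := M) k).map φ N).toSubmodule =
      LinearMap.ker (Module.Grassmannian.baseChangeMkQ C N.toSubmodule) :=
    Module.Grassmannian.map_toSubmodule φ.hom N
  have h2 : ((Module.Grassmannian.functor (R := R) (M := M) k).map φ N').toSubmodule =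
      LinearMap.ker (Module.Grassmannian.baseChangeMkQ C N'.toSubmodule) :=
    Module.Grassmannian.map_toSubmodule φ.hom N'
  rw [h1, h2]
  exact map_le_iff C N.toSubmodule N'.toSubmodule θ

end Functor

section Proper

variable (R : Type u) [CommRing R] (n k : ℕ) (hk : k ≤ n) (X : Over (Spec (CommRingCat.of R)))
  (e : ∀ A : CommAlgCat.{u} R,
    (SpA R A ⟶ X) ≃ (Module.Grassmannian.functor (R := R) (M := Fin n → R) k).obj A)
  (he : ∀ (A C : CommAlgCat.{u} R) (φ : A ⟶ C) (g : SpA R A ⟶ X) (g' : SpA R C ⟶ X),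
    g'.left = Spec.map (CommRingCat.ofHom φ.hom.toRingHom) ≫ g.left →
      e C g' = (Module.Grassmannian.functor (R := R) (M := Fin n → R) k).map φ (e A g))

include hk he in
/-- a scheme representing the Grassmannian of `Rⁿ` is proper over `Spec R`. -/
theorem isProper_of_rep : IsProper X.hom := by
  have hpos : 0 < n.choose k := Nat.choose_pos hk
  have hN : n.choose k - 1 + 1 = n.choose k := Nat.sub_add_cancel hpos
  obtain ⟨c, hc, hcX⟩ := Groth.Agent.Lib.Helper10.PluckerMain.exists_closedImmersion_projSpaceOver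
    R n k hk X e he hN
  rw [← hcX]
  haveI := Groth.Agent.Lib.Helper29.QCoh.isProper_toBase (n.choose k - 1)
    (Spec (CommRingCat.of R))
  infer_instance

end Proper

section Main

variable (R : Type u) [CommRing R] (d r n : ℕ) (f g : Fin n → ((Fin d → R) →ₗ[R] (Fin d → R)))

/-- the Grassmannian functor of quotients of rank `d - r` of `R^d`. -/
abbrev GF : CommAlgCat.{u} R ⥤ Type u :=
  Module.Grassmannian.functor (R := R) (M := Fin d → R) (d - r)

/-- the linked condition on tuples. -/
def LCond (A : CommAlgCat.{u} R) (V : (piFunctor (GF R d r) (n + 1)).obj A) : Prop :=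
  V ∈ W4c1limliniiii.LGPoints R d r n f g A

theorem hCond_linked (A : CommAlgCat.{u} R) (V : (piFunctor (GF R d r) (n + 1)).obj A) :
    ∃ J : Ideal A, ∀ (C : CommAlgCat.{u} R) (φ : A ⟶ C),
      LCond R d r n f g C ((piFunctor (GF R d r) (n + 1)).map φ V) ↔
        J ≤ RingHom.ker φ.hom.toRingHom := by
  choose J1 hJ1 using fun i : Fin n =>
    hCond_map_le R (Fin d → R) (d - r) (f i) A (V i.castSucc) (V i.succ)
  choose J2 hJ2 using fun i : Fin n =>
    hCond_map_le R (Fin d → R) (d - r) (g i) A (V i.succ) (V i.castSucc)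
  refine ⟨⨆ i, (J1 i ⊔ J2 i), fun C φ => ?_⟩
  rw [iSup_le_iff]
  refine forall_congr' (fun i => ?_)
  rw [sup_le_iff, ← hJ1 i C φ, ← hJ2 i C φ]
  rfl

/-- **the linked Grassmannian is representable by a proper scheme.** -/
theorem exists_rep_linked :
    ∃ (X : Over (Spec (CommRingCat.of R)))
      (e : ∀ A : CommAlgCat.{u} R, (SpA R A ⟶ X) ≃ W4c1limliniiii.LGPoints R d r n f g A),
      (∀ (A B : CommAlgCat.{u} R) (φ : A ⟶ B) (x : SpA R A ⟶ X) (x' : SpA R B ⟶ X),
        x'.left = Spec.map (CommRingCat.ofHom φ.hom.toRingHom) ≫ x.left →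
          ∀ i, (e B x').1 i = Module.Grassmannian.map φ.hom ((e A x).1 i)) ∧
      IsProper X.hom := by
  obtain ⟨G, eG, heG⟩ := Groth.Agent.Lib.Helper10.GrassRep.exists_rep R (Fin d → R) (d - r)
  have hGp : IsProper G.hom := isProper_of_rep R d (d - r) (Nat.sub_le d r) G eG heG
  obtain ⟨Y, eY, heY, hYp⟩ := exists_rep_pi (GF R d r) G eG heG hGp (n + 1)
  obtain ⟨Z, ι, hι, eZ, heZ⟩ := exists_rep_cond Y (piFunctor (GF R d r) (n + 1)) eY heY
    (LCond R d r n f g) (hCond_linked R d r n f g)
  refine ⟨Over.mk (ι ≫ Y.hom), eZ, fun A B φ x x' hxx i => ?_, ?_⟩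
  · have := congrFun (heZ A B φ x x' hxx) i
    exact this
  · change IsProper (ι ≫ Y.hom)
    infer_instance

end Main

end Groth.Agent.Lib.Helper10.LinkedGrass
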