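import Mathlib
import Groth.Prelude.Def_W4bk4git07Quot
import Groth.Agent.Lib.Helper10.BCAct1
import Groth.Agent.Lib.Helper10.TorsorComp1
import Groth.Agent.Lib.Helper10.TorsorLoc1

/-!
# Locally (iso)trivial bundles are principal

If `π : P ⟶ X` is invariant and trivialised by sections over the members of an fpqc covering family
of `X` (i.e. `(u, g) ↦ g • s(u)` exhibits `U' × G` as `U' ×_X P`), then `(σ, p₂) : G × P → P ×_X P`
is an isomorphism and `π` is flat (when `G` is).
-/

set_option autoImplicit false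
set_option backward.isDefEq.respectTransparency.types false
set_option maxHeartbeats 4000000
set_option synthInstance.maxHeartbeats 400000

universe u

open CategoryTheory CategoryTheory.Limits AlgebraicGeometry MonoidalCategory
  CartesianMonoidalCategory MonObj GrpObj TopologicalSpace

namespace Groth.Agent.Lib.Helper10.LocIsotriv

variable {S : Scheme.{u}} {G P X : Over S} [GrpObj G] (a : AlgGrp.Action G P) (π : P ⟶ X)
  (hinv : GIT.IsInvariant a π)

section Triv

variable {Y' : Over S} (gO : Y' ⟶ X) (s : Y' ⟶ P)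

/-- The trivialisation map `(u, g) ↦ g • s(u)`. -/
noncomputable def Theta : Y' ⊗ G ⟶ P := lift (snd Y' G) (fst Y' G ≫ s) ≫ a.act

theorem lift_Theta {T : Over S} (u : T ⟶ Y') (g : T ⟶ G) :
    lift u g ≫ Theta a s = lift g (u ≫ s) ≫ a.act := by
  unfold Theta
  rw [← Category.assoc]
  congr 1
  apply CartesianMonoidalCategory.hom_ext <;> simp

variable (hpb : IsPullback (Theta a s) (fst Y' G) π gO)

include hpb in
/-- The trivial bundle with the induced action is principal. -/
theorem isPullback_triv (a' : AlgGrp.Action G (Y' ⊗ G))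
    (ha' : a'.act ≫ Theta a s = (G ◁ Theta a s) ≫ a.act)
    (hinv' : GIT.IsInvariant a' (fst Y' G)) :
    IsPullback a'.act (snd G (Y' ⊗ G)) (fst Y' G) (fst Y' G) := by
  refine TorsorComp.isPullback_of_exists_unique a' (fst Y' G) hinv' ?_
  intro T p p' hp
  have hp0 : lift (p ≫ fst Y' G) (p ≫ snd Y' G) = p := by
    apply CartesianMonoidalCategory.hom_ext <;> simp
  have hp0' : lift (p' ≫ fst Y' G) (p' ≫ snd Y' G) = p' := by
    apply CartesianMonoidalCategory.hom_ext <;> simp
  set u := p ≫ fst Y' G with hu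
  set g₁ := p ≫ snd Y' G with hg₁
  set g₂ := p' ≫ snd Y' G with hg₂
  have hu' : p' ≫ fst Y' G = u := hp.symm
  -- the action on points, after composing with `Theta`
  have key : ∀ g : T ⟶ G, (lift g p' ≫ a'.act) ≫ Theta a s = lift (g * g₂) (u ≫ s) ≫ a.act := by
    intro g
    rw [Category.assoc, ha', ← Category.assoc]
    have e : lift g p' ≫ (G ◁ Theta a s) = lift g (lift g₂ (u ≫ s) ≫ a.act) := by
      apply CartesianMonoidalCategory.hom_ext
      · simp
      · rw [Category.assoc, whiskerLeft_snd, lift_snd_assoc, lift_snd, ← hp0', hu',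
          lift_Theta]
    rw [e, ← AlgGrp.Action.lift_mul_act]
  have key2 : ∀ g : T ⟶ G, (lift g p' ≫ a'.act) ≫ fst Y' G = u := by
    intro g
    rw [Category.assoc, (show a'.act ≫ fst Y' G = snd G _ ≫ fst Y' G from hinv'),
      ← Category.assoc, lift_snd, hu']
  have hpT : p ≫ Theta a s = lift g₁ (u ≫ s) ≫ a.act := by
    rw [← hp0, lift_Theta]
  refine ⟨g₁ * g₂⁻¹, ?_, ?_⟩
  · show lift (g₁ * g₂⁻¹) p' ≫ a'.act = p
    apply hpb.hom_ext
    · rw [key, inv_mul_cancel_right, hpT]
    · rw [key2]
  · intro g hg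
    have h1 : lift (g * g₂) (u ≫ s) ≫ a.act = lift g₁ (u ≫ s) ≫ a.act := by
      rw [← key, hg, hpT]
    have h2 : lift u (g * g₂) = lift u g₁ := by
      apply hpb.hom_ext
      · rw [lift_Theta, lift_Theta, h1]
      · rw [lift_fst, lift_fst]
    have h3 : g * g₂ = g₁ := by
      have := congrArg (fun t => t ≫ snd Y' G) h2
      simpa using this
    rw [← h3, mul_inv_cancel_right]

include hpb in
theorem isIso_pullback_snd_PsiY :
    IsIso (pullback.snd (GIT.PsiY a π hinv) (BCAct.kmap hpb)) := by
  obtain ⟨a', ha', hinv'⟩ := BCAct.exists_induced_action a π _ _ gO hpb hinv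
  have sq := BCAct.isPullback_PsiY hpb hinv a' ha' hinv'
  have hcart := isPullback_triv a π gO s hpb a' ha' hinv'
  haveI : IsIso (GIT.PsiY a' (fst Y' G) hinv') := TorsorLoc.isIso_PsiY a' (fst Y' G) hcart
  have e : sq.flip.isoPullback.hom ≫ pullback.snd (GIT.PsiY a π hinv) (BCAct.kmap hpb) =
      GIT.PsiY a' (fst Y' G) hinv' := sq.flip.isoPullback_hom_snd
  have : pullback.snd (GIT.PsiY a π hinv) (BCAct.kmap hpb) =
      sq.flip.isoPullback.inv ≫ GIT.PsiY a' (fst Y' G) hinv' :=
    (Iso.eq_inv_comp _).mpr e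
  rw [this]
  infer_instance

include hpb in
theorem isPullback_kmap_base :
    IsPullback (BCAct.kmap hpb)
      (pullback.snd (fst Y' G).left (fst Y' G).left ≫ (fst Y' G).left)
      (pullback.snd π.left π.left ≫ π.left) gO.left :=
  (BCAct.isPullback_kmap_snd hpb).paste_vert (hpb.map (Over.forget S))

end Triv

section Cover

variable {J : Type*} (Y' : J → Over S) (gO : ∀ i, Y' i ⟶ X) (s : ∀ i, Y' i ⟶ P)
  (hpb : ∀ i, IsPullback (Theta a (s i)) (fst (Y' i) G) π (gO i))
  (hcov : Presieve.ofArrows (fun i => (Y' i).left) (fun i => (gO i).left) ∈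
    Scheme.fpqcPrecoverage X.left)

include hpb hcov in
theorem isIso_PsiY_of_cover : IsIso (GIT.PsiY a π hinv) := by
  have hcov' : Presieve.ofArrows (fun i => pullback (fst (Y' i) G).left (fst (Y' i) G).left)
      (fun i => BCAct.kmap (hpb i)) ∈ Scheme.fpqcPrecoverage (pullback π.left π.left) :=
    Precoverage.mem_coverings_of_isPullback (fun i => (gO i).left) hcov
      (pullback.snd π.left π.left ≫ π.left) _ _
      (fun i => isPullback_kmap_base a π (gO i) (s i) (hpb i))
  have := Groth.Agent.Lib.Helper24.FpqcLocal.of_fpqc_presieve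
    (P := MorphismProperty.isomorphisms Scheme.{u}) (GIT.PsiY a π hinv) _ hcov' (by
      rintro _ _ ⟨i⟩
      exact isIso_pullback_snd_PsiY a π hinv (gO i) (s i) (hpb i))
  exact this

include hpb hcov in
theorem flat_of_cover [Flat G.hom] : Flat π.left := by
  haveI := Groth.Agent.Lib.Helper14.Fpqc.flat_descendsAlong.{u}
  refine Groth.Agent.Lib.Helper24.FpqcLocal.of_fpqc_presieve (P := @Flat) π.left _ hcov ?_
  rintro _ _ ⟨i⟩
  have sq : IsPullback (Theta a (s i)).left (fst (Y' i) G).left π.left (gO i).left :=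
    (hpb i).map (Over.forget S)
  have e : sq.isoPullback.hom ≫ pullback.snd π.left (gO i).left = (fst (Y' i) G).left :=
    sq.isoPullback_hom_snd
  have h1 : Flat (fst (Y' i) G).left := by
    rw [Over.fst_left]
    infer_instance
  have : pullback.snd π.left (gO i).left = sq.isoPullback.inv ≫ (fst (Y' i) G).left :=
    (Iso.eq_inv_comp _).mpr e
  rw [this]
  infer_instance

end Cover

end Groth.Agent.Lib.Helper10.LocIsotriv
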