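import Groth.Prelude.Def_W4swconnpcurvhiggsLogLam

/-!
# Helper lemmas on components of logarithmic λ-connections (helper10)
-/

set_option autoImplicit false
universe v u

open TensorProduct

namespace Groth.Agent.Lib.Helper10.LogConnLib

section Basic

variable {A : Type v} {B L E : Type u} [CommRing A] [CommRing B]
    [Algebra A B] [AddCommGroup L] [Module B L] [Module A L] [IsScalarTower A B L]
    [AddCommGroup E] [Module B E] [Module A E] [IsScalarTower A B E]
    (lam : B) {n : ℕ} (t : Fin n → B) (bΩ : Module.Basis (Fin n) B (KaehlerDifferential A B))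
    (hbΩ : ∀ i, bΩ i = KaehlerDifferential.D A B (t i))
    (ω : Module.Basis (Fin n) B L) (ι : KaehlerDifferential A B →ₗ[B] L)
    (hι : ∀ i, ι (KaehlerDifferential.D A B (t i)) = t i • ω i)
    (nabla : E →ₗ[A] E ⊗[B] L)
    (hc : Conn.IsLamConn (ι.compDer (KaehlerDifferential.D A B)) lam nabla)

/-- The partial derivative `∂/∂tᵢ` attached to the basis `dt` of the differentials. -/
noncomputable def pd (i : Fin n) : Derivation A B B := (bΩ.coord i).compDer (KaehlerDifferential.D A B)

omit [Module A L] [IsScalarTower A B L] [AddCommGroup L] [Module B L] [AddCommGroup E] [Module B E]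
  [Module A E] [IsScalarTower A B E] in
lemma pd_apply (i : Fin n) (b : B) : pd bΩ i b = bΩ.repr (KaehlerDifferential.D A B b) i := rfl

include hbΩ in
omit [Module A L] [IsScalarTower A B L] [AddCommGroup L] [Module B L] [AddCommGroup E] [Module B E]
  [Module A E] [IsScalarTower A B E] in
lemma pd_t (i j : Fin n) : pd bΩ i (t j) = if j = i then 1 else 0 := by
  rw [pd_apply, ← hbΩ, Module.Basis.repr_self, Finsupp.single_apply]

include hbΩ in
omit [Module A L] [IsScalarTower A B L] [AddCommGroup L] [Module B L] [AddCommGroup E] [Module B E]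
  [Module A E] [IsScalarTower A B E] in
lemma pd_prod (i : Fin n) (S : Finset (Fin n)) (hi : i ∉ S) : pd bΩ i (∏ k ∈ S, t k) = 0 := by
  classical
  induction S using Finset.induction_on with
  | empty => rw [Finset.prod_empty]; exact Derivation.map_one_eq_zero _
  | insert a s ha ih =>
    rw [Finset.prod_insert ha, Derivation.leibniz, ih (fun h => hi (Finset.mem_insert_of_mem h)),
      pd_t t bΩ hbΩ, if_neg (fun h : a = i => hi (h ▸ Finset.mem_insert_self a s)), smul_zero, smul_zero,
      add_zero]

include hbΩ hι in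
omit [Module A L] [IsScalarTower A B L] [AddCommGroup E] [Module B E] [Module A E] [IsScalarTower A B E] in
lemma coord_iota_D (i : Fin n) (b : B) :
    ω.coord i (ι (KaehlerDifferential.D A B b)) = pd bΩ i b * t i := by
  conv_lhs => rw [← bΩ.sum_repr (KaehlerDifferential.D A B b)]
  rw [map_sum, map_sum]
  rw [Finset.sum_eq_single i]
  · rw [map_smul, map_smul, hbΩ, hι, map_smul, Module.Basis.coord_apply, Module.Basis.repr_self,
      Finsupp.single_eq_same, smul_eq_mul, smul_eq_mul, mul_one, pd_apply]
  · intro j _ hji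
    rw [map_smul, map_smul, hbΩ, hι, map_smul, Module.Basis.coord_apply, Module.Basis.repr_self,
      Finsupp.single_eq_of_ne (Ne.symm hji), smul_zero, smul_zero]
  · intro h
    exact absurd (Finset.mem_univ i) h

include hbΩ hι hc in
/-- The twisted Leibniz rule for the `i`-th component. -/
lemma comp_smul (i : Fin n) (b : B) (e : E) :
    LogConn.comp nabla ω i (b • e) =
      b • LogConn.comp nabla ω i e + (lam * (pd bΩ i b * t i)) • e := by
  unfold LogConn.comp
  rw [Conn.along_apply, Conn.along_apply, hc b e, map_add, map_add, map_smul, map_smul, map_smul,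
    map_smul, TensorProduct.map_tmul, TensorProduct.rid_tmul, LinearMap.id_apply]
  change _ + lam • (ω.coord i (ι (KaehlerDifferential.D A B b)) • e) = _
  rw [coord_iota_D t bΩ hbΩ ω ι hι]
  simp only [mul_smul]

include hbΩ hι hc in
lemma comp_smul_prod (i : Fin n) (S : Finset (Fin n)) (hi : i ∉ S) (x : E) :
    LogConn.comp nabla ω i ((∏ k ∈ S, t k) • x) = (∏ k ∈ S, t k) • LogConn.comp nabla ω i x := by
  rw [comp_smul lam t bΩ hbΩ ω ι hι nabla hc, pd_prod t bΩ hbΩ i S hi, zero_mul, mul_zero, zero_smul,
    add_zero]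

omit [Module A L] [IsScalarTower A B L] in
lemma compProd_empty : LogConn.compProd nabla ω ∅ = LinearMap.id := by
  unfold LogConn.compProd
  rw [Finset.sort_empty]
  rfl

omit [Module A L] [IsScalarTower A B L] in
lemma compProd_insert (a : Fin n) (s : Finset (Fin n)) (ha : ∀ x ∈ s, a < x) :
    LogConn.compProd nabla ω (insert a s) = LogConn.comp nabla ω a ∘ₗ LogConn.compProd nabla ω s := by
  unfold LogConn.compProd
  rw [Finset.sort_insert (r := (· ≤ ·)) (fun b hb => (ha b hb).le) (fun h => lt_irrefl a (ha a h))]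
  rfl

omit [Module A L] [IsScalarTower A B L] in
lemma mem_piece {I J : Finset (Fin n)} (hJ : J ⊆ I) (e : E) :
    (∏ i ∈ I \ J, t i) • LogConn.compProd nabla ω J e ∈ LogConn.piece nabla ω t I := by
  unfold LogConn.piece
  refine Submodule.mem_iSup_of_mem J (Submodule.mem_iSup_of_mem (Finset.mem_powerset.2 hJ) ?_)
  exact ⟨e, rfl⟩

omit [Module A L] [IsScalarTower A B L] in
/-- Induction principle for the pieces. -/
lemma piece_induction {I : Finset (Fin n)} {P : E → Prop}
    (hgen : ∀ J ⊆ I, ∀ e : E, P ((∏ i ∈ I \ J, t i) • LogConn.compProd nabla ω J e))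
    (hzero : P 0) (hadd : ∀ x y, P x → P y → P (x + y))
    {x : E} (hx : x ∈ LogConn.piece nabla ω t I) : P x := by
  unfold LogConn.piece at hx
  induction hx using Submodule.iSup_induction' with
  | mem J x hx =>
    induction hx using Submodule.iSup_induction' with
    | mem hJ x hx =>
      obtain ⟨e, rfl⟩ := hx
      exact hgen J (Finset.mem_powerset.1 hJ) e
    | zero => exact hzero
    | add x y _ _ hx hy => exact hadd x y hx hy
  | zero => exact hzero
  | add x y _ _ hx hy => exact hadd x y hx hy

omit [Module A L] [IsScalarTower A B L] in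
lemma prod_sdiff_mul {I J J' : Finset (Fin n)} (hJ : J ⊆ I) (hJ' : J' ⊆ J) :
    (∏ i ∈ I \ J, t i) * (∏ i ∈ J \ J', t i) = ∏ i ∈ I \ J', t i := by
  classical
  rw [← Finset.prod_union]
  · congr 1
    ext x
    simp only [Finset.mem_union, Finset.mem_sdiff]
    constructor
    · rintro (⟨h1, h2⟩ | ⟨h1, h2⟩)
      · exact ⟨h1, fun h => h2 (hJ' h)⟩
      · exact ⟨hJ h1, h2⟩
    · rintro ⟨h1, h2⟩
      by_cases h : x ∈ J
      · exact Or.inr ⟨h, h2⟩
      · exact Or.inl ⟨h1, h⟩
  · rw [Finset.disjoint_left]
    intro x h1 h2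
    exact (Finset.mem_sdiff.1 h1).2 (Finset.mem_sdiff.1 h2).1

omit [Module A L] [IsScalarTower A B L] in
/-- Multiplying the piece `E_J` by `t_{I∖J}` lands in `E_I`. -/
lemma prod_smul_mem_piece {I J : Finset (Fin n)} (hJ : J ⊆ I) {y : E}
    (hy : y ∈ LogConn.piece nabla ω t J) :
    (∏ i ∈ I \ J, t i) • y ∈ LogConn.piece nabla ω t I := by
  refine piece_induction t ω nabla (P := fun y => (∏ i ∈ I \ J, t i) • y ∈ LogConn.piece nabla ω t I)
    ?_ ?_ ?_ hy
  · intro J' hJ' e
    rw [smul_smul, prod_sdiff_mul t hJ hJ']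
    exact mem_piece t ω nabla (hJ'.trans hJ) e
  · rw [smul_zero]; exact Submodule.zero_mem _
  · intro x y hx hy
    rw [smul_add]; exact Submodule.add_mem _ hx hy

include hbΩ hι hc in
/-- The component `∇_a` maps `E_s` into `E_{a ∪ s}` when `a` is smaller than all of `s`. -/
lemma comp_mem_piece (a : Fin n) (s : Finset (Fin n)) (ha : ∀ x ∈ s, a < x) {y : E}
    (hy : y ∈ LogConn.piece nabla ω t s) :
    LogConn.comp nabla ω a y ∈ LogConn.piece nabla ω t (insert a s) := by
  classical
  have has : a ∉ s := fun h => lt_irrefl a (ha a h)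
  refine piece_induction t ω nabla
    (P := fun y => LogConn.comp nabla ω a y ∈ LogConn.piece nabla ω t (insert a s)) ?_ ?_ ?_ hy
  · intro J' hJ' e
    have ha' : a ∉ s \ J' := fun h => has (Finset.mem_sdiff.1 h).1
    rw [comp_smul_prod lam t bΩ hbΩ ω ι hι nabla hc a _ ha']
    have e1 : LogConn.comp nabla ω a (LogConn.compProd nabla ω J' e) =
        LogConn.compProd nabla ω (insert a J') e := by
      rw [compProd_insert ω nabla a J' (fun x hx => ha x (hJ' hx))]
      rfl
    have e2 : s \ J' = insert a s \ insert a J' := by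
      ext x
      simp only [Finset.mem_sdiff, Finset.mem_insert]
      constructor
      · rintro ⟨h1, h2⟩
        exact ⟨Or.inr h1, fun h => h.elim (fun h => has (h ▸ h1)) h2⟩
      · rintro ⟨h1, h2⟩
        exact ⟨h1.elim (fun h => absurd (Or.inl h) h2) id, fun h => h2 (Or.inr h)⟩
    rw [e1, e2]
    exact mem_piece t ω nabla (Finset.insert_subset_insert a hJ') e
  · rw [map_zero]; exact Submodule.zero_mem _
  · intro x y hx hy
    rw [map_add]; exact Submodule.add_mem _ hx hy

include hbΩ hι hc in
/-- `b • ∇_J e` lies in the piece `E_J`. -/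
lemma smul_compProd_mem_piece (J : Finset (Fin n)) :
    ∀ (b : B) (e : E), b • LogConn.compProd nabla ω J e ∈ LogConn.piece nabla ω t J := by
  classical
  induction J using Finset.induction_on_min with
  | empty =>
    intro b e
    have := mem_piece t ω nabla (Finset.Subset.refl (∅ : Finset (Fin n))) (b • e)
    rw [Finset.sdiff_self, Finset.prod_empty, one_smul, compProd_empty, LinearMap.id_apply] at this
    rw [compProd_empty, LinearMap.id_apply]
    exact this
  | insert a s ha ih =>
    intro b e
    have has : a ∉ s := fun h => lt_irrefl a (ha a h)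
    rw [compProd_insert ω nabla a s ha, LinearMap.comp_apply]
    have h1 := comp_smul lam t bΩ hbΩ ω ι hι nabla hc a b (LogConn.compProd nabla ω s e)
    have h2 : b • LogConn.comp nabla ω a (LogConn.compProd nabla ω s e) =
        LogConn.comp nabla ω a (b • LogConn.compProd nabla ω s e) -
          (lam * (pd bΩ a b * t a)) • LogConn.compProd nabla ω s e := by
      rw [h1]; abel
    rw [h2]
    refine Submodule.sub_mem _ (comp_mem_piece lam t bΩ hbΩ ω ι hι nabla hc a s ha (ih b e)) ?_
    have h3 := prod_smul_mem_piece t ω nabla (Finset.subset_insert a s) (ih (lam * pd bΩ a b) e)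
    have h4 : insert a s \ s = {a} := by
      ext x
      simp only [Finset.mem_sdiff, Finset.mem_insert, Finset.mem_singleton]
      constructor
      · rintro ⟨h | h, h'⟩
        · exact h
        · exact absurd h h'
      · rintro rfl
        exact ⟨Or.inl rfl, has⟩
    rw [h4, Finset.prod_singleton, smul_smul] at h3
    have h5 : t a * (lam * pd bΩ a b) = lam * (pd bΩ a b * t a) := by ring
    rwa [h5] at h3

include hbΩ hι hc in
/-- The pieces are stable under multiplication by `B`. -/
theorem smul_mem_piece (I : Finset (Fin n)) (b : B) {x : E} (hx : x ∈ LogConn.piece nabla ω t I) :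
    b • x ∈ LogConn.piece nabla ω t I := by
  refine piece_induction t ω nabla (P := fun x => b • x ∈ LogConn.piece nabla ω t I) ?_ ?_ ?_ hx
  · intro J hJ e
    rw [smul_comm]
    exact prod_smul_mem_piece t ω nabla hJ (smul_compProd_mem_piece lam t bΩ hbΩ ω ι hι nabla hc J b e)
  · rw [smul_zero]; exact Submodule.zero_mem _
  · intro x y hx hy
    rw [smul_add]; exact Submodule.add_mem _ hx hy

end Basic

section Span

variable {A : Type v} {B L E : Type u} [CommRing A] [CommRing B]
    [Algebra A B] [AddCommGroup L] [Module B L] [Module A L] [IsScalarTower A B L]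
    [AddCommGroup E] [Module B E] [Module A E] [IsScalarTower A B E]
    (lam : B) {n : ℕ} (t : Fin n → B) (bΩ : Module.Basis (Fin n) B (KaehlerDifferential A B))
    (hbΩ : ∀ i, bΩ i = KaehlerDifferential.D A B (t i))
    (ω : Module.Basis (Fin n) B L) (ι : KaehlerDifferential A B →ₗ[B] L)
    (hι : ∀ i, ι (KaehlerDifferential.D A B (t i)) = t i • ω i)
    (nabla : E →ₗ[A] E ⊗[B] L)
    (hc : Conn.IsLamConn (ι.compDer (KaehlerDifferential.D A B)) lam nabla)
    {m : ℕ} (e : Fin m → E)

/-- The `B`-span of the explicit generators of the piece `E_I`. -/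
noncomputable def Sp (I : Finset (Fin n)) : Submodule B E :=
  Submodule.span B (⋃ J ∈ I.powerset, Set.range (fun k : Fin m =>
    (∏ i ∈ I \ J, t i) • LogConn.compProd nabla ω J (e k)))

omit [Module A L] [IsScalarTower A B L] in
lemma gen_mem_Sp {I J : Finset (Fin n)} (hJ : J ⊆ I) (k : Fin m) :
    (∏ i ∈ I \ J, t i) • LogConn.compProd nabla ω J (e k) ∈ Sp t ω nabla e I := by
  apply Submodule.subset_span
  simp only [Set.mem_iUnion, Set.mem_range]
  exact ⟨J, Finset.mem_powerset.2 hJ, k, rfl⟩

omit [Module A L] [IsScalarTower A B L] in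
lemma Sp_induction {I : Finset (Fin n)} {P : E → Prop}
    (hgen : ∀ J ⊆ I, ∀ k : Fin m, P ((∏ i ∈ I \ J, t i) • LogConn.compProd nabla ω J (e k)))
    (hzero : P 0) (hadd : ∀ x y, P x → P y → P (x + y))
    (hsmul : ∀ (c : B) (x : E), x ∈ Sp t ω nabla e I → P x → P (c • x))
    {x : E} (hx : x ∈ Sp t ω nabla e I) : P x := by
  unfold Sp at hx
  induction hx using Submodule.span_induction with
  | mem x hx =>
    simp only [Set.mem_iUnion, Set.mem_range] at hx
    obtain ⟨J, hJ, k, rfl⟩ := hx
    exact hgen J (Finset.mem_powerset.1 hJ) k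
  | zero => exact hzero
  | add x y _ _ hx hy => exact hadd x y hx hy
  | smul c x hx' hx => exact hsmul c x hx' hx

omit [Module A L] [IsScalarTower A B L] in
lemma prod_smul_mem_Sp {I J : Finset (Fin n)} (hJ : J ⊆ I) {y : E} (hy : y ∈ Sp t ω nabla e J) :
    (∏ i ∈ I \ J, t i) • y ∈ Sp t ω nabla e I := by
  refine Sp_induction t ω nabla e (P := fun y => (∏ i ∈ I \ J, t i) • y ∈ Sp t ω nabla e I)
    ?_ ?_ ?_ ?_ hy
  · intro J' hJ' k
    rw [smul_smul, prod_sdiff_mul t hJ hJ']
    exact gen_mem_Sp t ω nabla e (hJ'.trans hJ) k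
  · rw [smul_zero]; exact Submodule.zero_mem _
  · intro x y hx hy
    rw [smul_add]; exact Submodule.add_mem _ hx hy
  · intro c x _ hx
    rw [smul_comm]; exact Submodule.smul_mem _ c hx

include hbΩ hι hc in
lemma comp_mem_Sp (a : Fin n) (s : Finset (Fin n)) (ha : ∀ x ∈ s, a < x) {y : E}
    (hy : y ∈ Sp t ω nabla e s) :
    LogConn.comp nabla ω a y ∈ Sp t ω nabla e (insert a s) := by
  classical
  have has : a ∉ s := fun h => lt_irrefl a (ha a h)
  have h4 : insert a s \ s = {a} := by
    ext x
    simp only [Finset.mem_sdiff, Finset.mem_insert, Finset.mem_singleton]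
    constructor
    · rintro ⟨h | h, h'⟩
      · exact h
      · exact absurd h h'
    · rintro rfl
      exact ⟨Or.inl rfl, has⟩
  refine Sp_induction t ω nabla e
    (P := fun y => LogConn.comp nabla ω a y ∈ Sp t ω nabla e (insert a s)) ?_ ?_ ?_ ?_ hy
  · intro J' hJ' k
    have ha' : a ∉ s \ J' := fun h => has (Finset.mem_sdiff.1 h).1
    rw [comp_smul_prod lam t bΩ hbΩ ω ι hι nabla hc a _ ha']
    have e1 : LogConn.comp nabla ω a (LogConn.compProd nabla ω J' (e k)) =
        LogConn.compProd nabla ω (insert a J') (e k) := by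
      rw [compProd_insert ω nabla a J' (fun x hx => ha x (hJ' hx))]
      rfl
    have e2 : s \ J' = insert a s \ insert a J' := by
      ext x
      simp only [Finset.mem_sdiff, Finset.mem_insert]
      constructor
      · rintro ⟨h1, h2⟩
        exact ⟨Or.inr h1, fun h => h.elim (fun h => has (h ▸ h1)) h2⟩
      · rintro ⟨h1, h2⟩
        exact ⟨h1.elim (fun h => absurd (Or.inl h) h2) id, fun h => h2 (Or.inr h)⟩
    rw [e1, e2]
    exact gen_mem_Sp t ω nabla e (Finset.insert_subset_insert a hJ') k
  · rw [map_zero]; exact Submodule.zero_mem _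
  · intro x y hx hy
    rw [map_add]; exact Submodule.add_mem _ hx hy
  · intro c x hx' hx
    rw [comp_smul lam t bΩ hbΩ ω ι hι nabla hc]
    refine Submodule.add_mem _ (Submodule.smul_mem _ c hx) ?_
    have h3 := prod_smul_mem_Sp t ω nabla e (Finset.subset_insert a s) hx'
    rw [h4, Finset.prod_singleton] at h3
    have h5 : (lam * (pd bΩ a c * t a)) • x = (lam * pd bΩ a c) • (t a • x) := by
      rw [smul_smul, mul_assoc]
    rw [h5]
    exact Submodule.smul_mem _ _ h3

include hbΩ hι hc in
lemma compProd_mem_Sp (he : Submodule.span B (Set.range e) = ⊤) (J : Finset (Fin n)) :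
    ∀ x : E, LogConn.compProd nabla ω J x ∈ Sp t ω nabla e J := by
  classical
  induction J using Finset.induction_on_min with
  | empty =>
    intro x
    rw [compProd_empty, LinearMap.id_apply]
    have hx : x ∈ Submodule.span B (Set.range e) := by rw [he]; trivial
    refine (Submodule.span_le.2 ?_) hx
    rintro _ ⟨k, rfl⟩
    have := gen_mem_Sp t ω nabla e (Finset.Subset.refl (∅ : Finset (Fin n))) k
    rwa [Finset.sdiff_self, Finset.prod_empty, one_smul, compProd_empty, LinearMap.id_apply] at this
  | insert a s ha ih =>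
    intro x
    rw [compProd_insert ω nabla a s ha, LinearMap.comp_apply]
    exact comp_mem_Sp lam t bΩ hbΩ ω ι hι nabla hc e a s ha (ih x)

include hbΩ hι hc in
theorem Sp_eq_piece (he : Submodule.span B (Set.range e) = ⊤) (I : Finset (Fin n)) :
    (Sp t ω nabla e I).restrictScalars A = LogConn.piece nabla ω t I := by
  apply le_antisymm
  · intro x hx
    rw [Submodule.restrictScalars_mem] at hx
    refine Sp_induction t ω nabla e (P := fun x => x ∈ LogConn.piece nabla ω t I) ?_ ?_ ?_ ?_ hx
    · intro J hJ k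
      exact mem_piece t ω nabla hJ (e k)
    · exact Submodule.zero_mem _
    · intro x y hx hy
      exact Submodule.add_mem _ hx hy
    · intro c x _ hx
      exact smul_mem_piece lam t bΩ hbΩ ω ι hι nabla hc I c hx
  · intro x hx
    rw [Submodule.restrictScalars_mem]
    refine piece_induction t ω nabla (P := fun x => x ∈ Sp t ω nabla e I) ?_ ?_ ?_ hx
    · intro J hJ x
      exact prod_smul_mem_Sp t ω nabla e hJ
        (compProd_mem_Sp lam t bΩ hbΩ ω ι hι nabla hc e he J x)
    · exact Submodule.zero_mem _
    · intro x y hx hy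
      exact Submodule.add_mem _ hx hy

end Span

end Groth.Agent.Lib.Helper10.LogConnLib
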