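import Groth.Agent.Lib.Helper10.MagnetQuot
import Groth.Agent.Lib.Helper10.AMonPts
import Mathlib.CategoryTheory.Limits.Constructions.Over.Connected

/-!
# Change of group for attractors: `X^{f⁻¹Y ⊂ M} ≅ X^{Y ⊂ Z}` for `Y ⊆ f(M)`

For a homomorphism `f : M → Z` of commutative groups and a submonoid `Y ⊆ f(M)`, with
`N = f⁻¹ Y`, the morphism `D(M) × A(Y) → A(N)`, `(m, υ) ↦ m · c^*υ` is an fpqc torsor under
`D(M / ker f)`; equivariant families out of `A(Y)` extend uniquely to equivariant families out of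
`A(N)` by descent of `(m, υ, t) ↦ m · ψ(υ, t)`.
-/

set_option autoImplicit false
set_option backward.isDefEq.respectTransparency.types false
universe u
open CategoryTheory CategoryTheory.Limits MonoidalCategory CartesianMonoidalCategory MonObj AlgebraicGeometry Opposite
open Magnet
open Groth.Agent.Lib.Helper10.AMonPts Groth.Agent.Lib.Helper10.MagnetQuot

namespace Groth.Agent.Lib.Helper10.MagnetComap

/-- `D(M') → D(N')` is fpqc for an injective homomorphism of groups `N' → M'`. -/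
theorem isFpqc_AMonS_map_left_of_injective (S : Scheme.{u}) {M' N' : Type} [AddCommGroup M']
    [AddCommGroup N'] (j : N' →+ M') (hj : Function.Injective j) :
    IsFpqc (AMonS.map S j).left := by
  refine IsFpqc.of_isPullback (isPullback_AMonS_map_left S j) ?_
  rw [AMon.map_left]
  refine isFpqc_SpecMap _ ?_
  refine faithfullyFlat_of_single (AddMonoidHom.toMultiplicative j) ?_ ?_ _ ?_
  · intro a b h
    exact hj h
  · intro h
    exact ⟨Multiplicative.ofAdd (-(Multiplicative.toAdd h)), by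
      change Multiplicative.ofAdd (j (-(Multiplicative.toAdd h))) = _
      rw [map_neg]
      rfl⟩
  · intro h r
    exact MonoidAlgebra.mapDomainBialgHom_single _ _ _

section Setup

variable {S : Scheme.{u}} {M Z : Type} [AddCommGroup M] [AddCommGroup Z] (f : M →+ Z)
  (Y : AddSubmonoid Z)

/-- the restriction `f⁻¹ Y → Y` of `f`. -/
abbrev cres : ↥(Y.comap f) →+ ↥Y := (f.comp (Y.comap f).subtype).codRestrict Y (fun x => x.2)

theorem cres_surjective (hY : Y ≤ AddMonoidHom.mrange f) : Function.Surjective (cres f Y) := by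
  rintro ⟨y, hy⟩
  obtain ⟨m, rfl⟩ := hY hy
  exact ⟨⟨m, hy⟩, rfl⟩

theorem cres_eq_iff (n n' : ↥(Y.comap f)) : cres f Y n = cres f Y n' ↔ f n.1 = f n'.1 := by
  constructor
  · intro h
    exact congrArg Subtype.val h
  · intro h
    exact Subtype.ext h

/-- the inclusion `ker f → f⁻¹ Y`. -/
def kerIncl : ↥f.ker.toAddSubmonoid →+ ↥(Y.comap f) :=
  (f.ker.toAddSubmonoid.subtype).codRestrict (Y.comap f) (fun k => by
    change f k.1 ∈ Y
    rw [show f k.1 = 0 from k.2]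
    exact Y.zero_mem)

theorem kerIncl_comp_subtype :
    (Y.comap f).subtype.comp (kerIncl f Y) = f.ker.toAddSubmonoid.subtype := rfl

theorem cres_comp_kerIncl : (cres f Y).comp (kerIncl f Y) = 0 := by
  ext k
  exact k.2

variable (S)

/-- the cover `D(M) × A(Y) → A(N)`, `(m, υ) ↦ m · c^*υ`. -/
noncomputable def cov : AMonS S M ⊗ AMonS S ↥Y ⟶ AMonS S ↥(Y.comap f) :=
  (fst _ _ ≫ AMonS.map S (Y.comap f).subtype) * (snd _ _ ≫ AMonS.map S (cres f Y))

variable {S}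

theorem lift_cov {W : Over S} (m : W ⟶ AMonS S M) (υ : W ⟶ AMonS S ↥Y) :
    lift m υ ≫ cov S f Y = (m ≫ AMonS.map S (Y.comap f).subtype) * (υ ≫ AMonS.map S (cres f Y)) := by
  rw [cov, MonObj.comp_mul, lift_fst_assoc, lift_snd_assoc]

theorem amFn_lift_cov {W : Over S} (m : W ⟶ AMonS S M) (υ : W ⟶ AMonS S ↥Y) (n : ↥(Y.comap f)) :
    amFn n (lift m υ ≫ cov S f Y) = amFn n.1 m * amFn (cres f Y n) υ := by
  rw [lift_cov, amFn_mul, amFn_map, amFn_map]
  rfl

theorem amFn_inv_mul {W : Over S} (m : W ⟶ AMonS S M) (x : M) : amFn x m⁻¹ * amFn x m = 1 := by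
  rw [← amFn_mul, inv_mul_cancel, amFn_one]

theorem amFn_mul_inv {W : Over S} (m : W ⟶ AMonS S M) (x : M) : amFn x m * amFn x m⁻¹ = 1 := by
  rw [← amFn_mul, mul_inv_cancel, amFn_one]

/-- Key computation: two points of `D(M) × A(Y)` with the same image in `A(N)` differ by a point of
`D(M)` trivial on `ker f`. -/
theorem amFn_ker_of_cov_eq {W : Over S} (m₁ m₂ : W ⟶ AMonS S M) (υ₁ υ₂ : W ⟶ AMonS S ↥Y)
    (h : lift m₁ υ₁ ≫ cov S f Y = lift m₂ υ₂ ≫ cov S f Y) (k : M) (hk : f k = 0) :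
    amFn k (m₂⁻¹ * m₁) = 1 := by
  have hkY : k ∈ Y.comap f := by
    change f k ∈ Y
    rw [hk]
    exact Y.zero_mem
  have h1 := congrArg (amFn (⟨k, hkY⟩ : ↥(Y.comap f))) h
  rw [amFn_lift_cov, amFn_lift_cov] at h1
  have h0 : cres f Y ⟨k, hkY⟩ = 0 := Subtype.ext hk
  rw [h0, amFn_zero, amFn_zero, _root_.mul_one, _root_.mul_one] at h1
  change amFn k m₁ = amFn k m₂ at h1
  rw [amFn_mul, h1, amFn_inv_mul]

theorem amFn_snd_of_cov_eq {W : Over S} (m₁ m₂ : W ⟶ AMonS S M) (υ₁ υ₂ : W ⟶ AMonS S ↥Y)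
    (h : lift m₁ υ₁ ≫ cov S f Y = lift m₂ υ₂ ≫ cov S f Y) (n : ↥(Y.comap f)) :
    amFn (cres f Y n) υ₂ = amFn n.1 (m₂⁻¹ * m₁) * amFn (cres f Y n) υ₁ := by
  have h1 := congrArg (amFn n) h
  rw [amFn_lift_cov, amFn_lift_cov] at h1
  rw [amFn_mul, _root_.mul_assoc, h1, ← _root_.mul_assoc, amFn_inv_mul, _root_.one_mul]

end Setup

section Cover

variable {S : Scheme.{u}} {M Z : Type} [AddCommGroup M] [AddCommGroup Z] (f : M →+ Z)
  (Y : AddSubmonoid Z)

theorem cov_comp_kerIncl :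
    cov S f Y ≫ AMonS.map S (kerIncl f Y) =
      fst _ _ ≫ AMonS.map S f.ker.toAddSubmonoid.subtype := by
  apply amFn_injective
  intro k
  rw [amFn_map, amFn_map]
  have : cov S f Y = lift (fst _ _) (snd _ _) ≫ cov S f Y := by
    rw [lift_fst_snd, Category.id_comp]
  rw [this, amFn_lift_cov]
  have h0 : cres f Y (kerIncl f Y k) = 0 := DFunLike.congr_fun (cres_comp_kerIncl f Y) k
  rw [h0, amFn_zero, _root_.mul_one]
  rfl

section QuotChar

variable {f Y} {W : Over S} (m : W ⟶ AMonS S M) (ν : W ⟶ AMonS S ↥(Y.comap f))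

/-- the function `n ↦ (m⁻¹ · ν)(n)` on `N = f⁻¹ Y`. -/
noncomputable def gfun (n : ↥(Y.comap f)) : Γ(W.left, ⊤) := amFn n.1 m⁻¹ * amFn n ν

theorem gfun_zero : gfun m ν 0 = 1 := by
  rw [gfun]
  change amFn (0 : M) m⁻¹ * amFn 0 ν = 1
  rw [amFn_zero, amFn_zero, _root_.mul_one]

theorem gfun_add (n n' : ↥(Y.comap f)) : gfun m ν (n + n') = gfun m ν n * gfun m ν n' := by
  rw [gfun, gfun, gfun]
  change amFn (n.1 + n'.1) m⁻¹ * amFn (n + n') ν = _
  rw [amFn_add, amFn_add]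
  ring

theorem gfun_eq_of_cres_eq
    (h : ν ≫ AMonS.map S (kerIncl f Y) = m ≫ AMonS.map S f.ker.toAddSubmonoid.subtype)
    (n n' : ↥(Y.comap f)) (hn : cres f Y n = cres f Y n') : gfun m ν n = gfun m ν n' := by
  have hf : f n.1 = f n'.1 := (cres_eq_iff f Y n n').1 hn
  have hk : n.1 - n'.1 ∈ f.ker := by
    rw [AddMonoidHom.mem_ker, map_sub, hf, sub_self]
  let k'' : ↥f.ker.toAddSubmonoid := ⟨n.1 - n'.1, hk⟩
  have hnn : n = n' + kerIncl f Y k'' := by
    apply Subtype.ext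
    change n.1 = n'.1 + (n.1 - n'.1)
    abel
  have h1 : gfun m ν (kerIncl f Y k'') = 1 := by
    rw [gfun]
    have h2 : amFn (kerIncl f Y k'') ν = amFn (n.1 - n'.1) m := by
      rw [← amFn_map, h, amFn_map]
      rfl
    rw [h2]
    exact amFn_inv_mul m _
  rw [hnn, gfun_add, h1, _root_.mul_one]

/-- The character on `Y` of `m⁻¹ · ν`, when `ν` and `m` agree on `ker f`. -/
noncomputable def quotChar (hY : Y ≤ AddMonoidHom.mrange f)
    (h : ν ≫ AMonS.map S (kerIncl f Y) = m ≫ AMonS.map S f.ker.toAddSubmonoid.subtype) :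
    Multiplicative ↥Y →* Γ(W.left, ⊤) where
  toFun y := gfun m ν (Function.surjInv (cres_surjective f Y hY) (Multiplicative.toAdd y))
  map_one' := by
    rw [← gfun_zero m ν]
    apply gfun_eq_of_cres_eq m ν h
    rw [Function.surjInv_eq (cres_surjective f Y hY), map_zero]
    rfl
  map_mul' y y' := by
    rw [← gfun_add]
    apply gfun_eq_of_cres_eq m ν h
    rw [Function.surjInv_eq (cres_surjective f Y hY), map_add,
      Function.surjInv_eq (cres_surjective f Y hY), Function.surjInv_eq (cres_surjective f Y hY)]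
    rfl

theorem quotChar_cres (hY : Y ≤ AddMonoidHom.mrange f)
    (h : ν ≫ AMonS.map S (kerIncl f Y) = m ≫ AMonS.map S f.ker.toAddSubmonoid.subtype)
    (n : ↥(Y.comap f)) :
    quotChar m ν hY h (Multiplicative.ofAdd (cres f Y n)) = gfun m ν n := by
  change gfun m ν (Function.surjInv (cres_surjective f Y hY) (cres f Y n)) = _
  apply gfun_eq_of_cres_eq m ν h
  rw [Function.surjInv_eq (cres_surjective f Y hY)]

end QuotChar

theorem isPullback_cov (hY : Y ≤ AddMonoidHom.mrange f) :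
    IsPullback (cov S f Y) (fst (AMonS S M) (AMonS S ↥Y)) (AMonS.map S (kerIncl f Y))
      (AMonS.map S f.ker.toAddSubmonoid.subtype) := by
  refine IsPullback.of_isLimit (c := PullbackCone.mk _ _ (cov_comp_kerIncl f Y))
    (PullbackCone.IsLimit.mk _
      (fun s => lift s.snd (amPt (quotChar s.snd s.fst hY s.condition))) ?_ ?_ ?_)
  · intro s
    apply amFn_injective
    intro n
    rw [amFn_lift_cov, amFn_amPt, quotChar_cres, gfun, ← _root_.mul_assoc, amFn_mul_inv,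
      _root_.one_mul]
  · intro s
    exact lift_fst _ _
  · intro s q hq1 hq2
    have hq : q = lift s.snd (q ≫ snd _ _) := by
      rw [← hq2, lift_comp_fst_snd]
    rw [hq]
    congr 1
    apply amFn_injective
    intro y
    obtain ⟨n, rfl⟩ := cres_surjective f Y hY y
    rw [amFn_amPt, quotChar_cres, gfun]
    have h1 := congrArg (amFn n) hq1
    rw [hq, amFn_lift_cov] at h1
    rw [← h1, ← _root_.mul_assoc, amFn_inv_mul, _root_.one_mul]

theorem isFpqc_cov_left (hY : Y ≤ AddMonoidHom.mrange f) : IsFpqc (cov S f Y).left :=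
  IsFpqc.of_isPullback ((isPullback_cov f Y hY).map (Over.forget S))
    (isFpqc_AMonS_map_left S f.ker)

end Cover

section Desc

variable {S : Scheme.{u}} {M Z : Type} [AddCommGroup M] [AddCommGroup Z] (f : M →+ Z)
  (Y : AddSubmonoid Z) (hY : Y ≤ AddMonoidHom.mrange f) {X : Over S} (a : MonAct (AMonS S M) X)

include hY in
/-- The kernel-pair computation: `(m, υ, t) ↦ m · ψ(υ, t)` is constant on the fibres of the cover. -/
theorem orbit_eq_of_cov_eq (T : Over S) (ψ : AMonS S ↥Y ⊗ T ⟶ X)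
    (hψ : MonAct.IsEquivariant ((subAct S Z Y).prod (MonAct.trivial (AMonS S Z) T))
      (a.restrict (AMonS.map S f)) ψ)
    {W : Over S} (m₁ m₂ : W ⟶ AMonS S M) (υ₁ υ₂ : W ⟶ AMonS S ↥Y) (t : W ⟶ T)
    (h : lift m₁ υ₁ ≫ cov S f Y = lift m₂ υ₂ ≫ cov S f Y) :
    lift m₁ (lift υ₁ t ≫ ψ) ≫ a.act = lift m₂ (lift υ₂ t ≫ ψ) ≫ a.act := by
  let κ : W ⟶ AMonS S M := m₂⁻¹ * m₁
  have hκ1 : κ ≫ AMonS.map S f.ker.toAddSubmonoid.subtype =
      toUnit W ≫ η[AMonS S ↥f.ker.toAddSubmonoid] := by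
    rw [← Hom.one_def]
    apply amFn_injective
    intro k
    rw [amFn_map, amFn_one]
    exact amFn_ker_of_cov_eq f Y m₁ m₂ υ₁ υ₂ h k.1 k.2
  obtain ⟨k', hk'⟩ := exists_lift_of_comp_eq_one S f.ker κ hκ1
  let lam : AMonS S Z ⟶ AMonS S (M ⧸ f.ker) := AMonS.map S (QuotientAddGroup.kerLift f)
  have hlam : IsFpqc lam.left :=
    isFpqc_AMonS_map_left_of_injective S _ (QuotientAddGroup.kerLift_injective f)
  let W₁ : Over S := Over.mk (pullback.fst k'.left lam.left ≫ W.hom)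
  let w : W₁ ⟶ W := Over.homMk (pullback.fst k'.left lam.left) rfl
  let ζ : W₁ ⟶ AMonS S Z := Over.homMk (pullback.snd k'.left lam.left) (by
    change pullback.snd k'.left lam.left ≫ (AMonS S Z).hom = pullback.fst k'.left lam.left ≫ W.hom
    rw [← Over.w lam, ← Category.assoc, ← pullback.condition, Category.assoc, Over.w k'])
  have hwζ : w ≫ k' = ζ ≫ lam := by
    apply Over.OverMorphism.ext
    exact pullback.condition
  have hw : Epi w := epi_of_isFpqc_left (f := w)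
    (IsFpqc.of_isPullback (IsPullback.of_hasPullback k'.left lam.left) hlam)
  have hζ : ζ ≫ AMonS.map S f = w ≫ κ := by
    have hf : f = (QuotientAddGroup.kerLift f).comp (QuotientAddGroup.mk' f.ker) := by
      ext x; rfl
    have h2 : AMonS.map S f = lam ≫ AMonS.map S (QuotientAddGroup.mk' f.ker) := by
      conv_lhs => rw [hf]
      exact AMonS.map_comp S _ _
    rw [h2, ← Category.assoc, ← hwζ, Category.assoc, hk']
  have hυ : w ≫ υ₂ = (ζ ≫ AMonS.map S Y.subtype) * (w ≫ υ₁) := by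
    apply amFn_injective
    intro y
    obtain ⟨n, rfl⟩ := cres_surjective f Y hY y
    have hl : amFn (cres f Y n) (w ≫ υ₂) =
        w.left.appTop (amFn n.1 κ) * w.left.appTop (amFn (cres f Y n) υ₁) := by
      rw [amFn_comp, amFn_snd_of_cov_eq f Y m₁ m₂ υ₁ υ₂ h n, map_mul]
    have hr : amFn (cres f Y n) ((ζ ≫ AMonS.map S Y.subtype) * (w ≫ υ₁)) =
        amFn (f n.1) ζ * w.left.appTop (amFn (cres f Y n) υ₁) := by
      rw [amFn_mul, amFn_map, amFn_comp]
      rfl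
    have hk : w.left.appTop (amFn n.1 κ) = amFn (f n.1) ζ := by
      rw [← amFn_comp, ← hζ, amFn_map]
    rw [hl, hr, hk]
  rw [MonAct.mem_eqvHom_iff] at hψ
  have h4 := hψ W₁ ζ (w ≫ υ₁) (w ≫ t)
  rw [subAct, MonAct.lift_restrict_act, MonAct.lift_regular_act, MonAct.lift_restrict_act, hζ,
    ← hυ] at h4
  rw [← cancel_epi w]
  simp only [comp_lift_assoc]
  rw [h4, ← MonAct.lift_mul_act, ← MonObj.comp_mul]
  congr 3
  change m₁ = m₂ * (m₂⁻¹ * m₁)
  rw [mul_inv_cancel_left]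

/-- the orbit-type map `(m, υ, t) ↦ m · ψ(υ, t)`. -/
noncomputable def orbitMap (T : Over S) (ψ : AMonS S ↥Y ⊗ T ⟶ X) :
    (AMonS S M ⊗ AMonS S ↥Y) ⊗ T ⟶ X :=
  lift (fst _ _ ≫ fst _ _) (lift (fst _ _ ≫ snd _ _) (snd _ _) ≫ ψ) ≫ a.act

theorem lift_orbitMap (T : Over S) (ψ : AMonS S ↥Y ⊗ T ⟶ X) {W : Over S} (m : W ⟶ AMonS S M)
    (υ : W ⟶ AMonS S ↥Y) (t : W ⟶ T) :
    lift (lift m υ) t ≫ orbitMap Y a T ψ = lift m (lift υ t ≫ ψ) ≫ a.act := by
  rw [orbitMap]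
  simp only [comp_lift_assoc, lift_fst_assoc, lift_fst, lift_snd]

include hY in
theorem exists_desc (T : Over S) (ψ : AMonS S ↥Y ⊗ T ⟶ X)
    (hψ : MonAct.IsEquivariant ((subAct S Z Y).prod (MonAct.trivial (AMonS S Z) T))
      (a.restrict (AMonS.map S f)) ψ) :
    ∃ φ : AMonS S ↥(Y.comap f) ⊗ T ⟶ X, (cov S f Y ▷ T) ≫ φ = orbitMap Y a T ψ := by
  set o := orbitMap Y a T ψ with ho
  have hfpqc : IsFpqc (cov S f Y ▷ T).left := (isFpqc_cov_left f Y hY).whiskerRight T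
  have heff : EffectiveEpi (cov S f Y ▷ T).left := hfpqc.effectiveEpi
  have hepi : Epi (cov S f Y ▷ T).left := hfpqc.epi
  have hker : ∀ {W₀ : Scheme.{u}} (g₁ g₂ : W₀ ⟶ ((AMonS S M ⊗ AMonS S ↥Y) ⊗ T).left),
      g₁ ≫ (cov S f Y ▷ T).left = g₂ ≫ (cov S f Y ▷ T).left → g₁ ≫ o.left = g₂ ≫ o.left := by
    intro W₀ g₁ g₂ hg
    let W : Over S := Over.mk (g₁ ≫ ((AMonS S M ⊗ AMonS S ↥Y) ⊗ T).hom)
    let p₁ : W ⟶ (AMonS S M ⊗ AMonS S ↥Y) ⊗ T := Over.homMk g₁ rfl
    have hg₂ : g₂ ≫ ((AMonS S M ⊗ AMonS S ↥Y) ⊗ T).hom =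
        g₁ ≫ ((AMonS S M ⊗ AMonS S ↥Y) ⊗ T).hom := by
      rw [← Over.w (cov S f Y ▷ T), ← Category.assoc, ← hg, Category.assoc]
    let p₂ : W ⟶ (AMonS S M ⊗ AMonS S ↥Y) ⊗ T := Over.homMk g₂ hg₂
    have hp : p₁ ≫ (cov S f Y ▷ T) = p₂ ≫ (cov S f Y ▷ T) := by
      apply Over.OverMorphism.ext
      exact hg
    suffices h : p₁ ≫ o = p₂ ≫ o from congrArg (fun q => q.left) h
    have e1 : p₁ = lift (lift ((p₁ ≫ fst _ _) ≫ fst _ _) ((p₁ ≫ fst _ _) ≫ snd _ _)) (p₁ ≫ snd _ _) := by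
      rw [lift_comp_fst_snd, lift_comp_fst_snd]
    have e2 : p₂ = lift (lift ((p₂ ≫ fst _ _) ≫ fst _ _) ((p₂ ≫ fst _ _) ≫ snd _ _)) (p₂ ≫ snd _ _) := by
      rw [lift_comp_fst_snd, lift_comp_fst_snd]
    generalize (p₁ ≫ fst _ _) ≫ fst _ _ = m₁ at e1
    generalize (p₁ ≫ fst _ _) ≫ snd _ _ = υ₁ at e1
    generalize p₁ ≫ snd _ _ = t₁ at e1
    generalize (p₂ ≫ fst _ _) ≫ fst _ _ = m₂ at e2
    generalize (p₂ ≫ fst _ _) ≫ snd _ _ = υ₂ at e2
    generalize p₂ ≫ snd _ _ = t₂ at e2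
    rw [e1, e2] at hp ⊢
    rw [lift_whiskerRight, lift_whiskerRight] at hp
    have hm : lift m₁ υ₁ ≫ cov S f Y = lift m₂ υ₂ ≫ cov S f Y := by
      have := congrArg (fun q => q ≫ fst _ _) hp
      simpa using this
    have ht : t₁ = t₂ := by
      have := congrArg (fun q => q ≫ snd _ _) hp
      simpa using this
    subst ht
    rw [ho, lift_orbitMap, lift_orbitMap]
    exact orbit_eq_of_cov_eq f Y hY a T ψ hψ m₁ m₂ υ₁ υ₂ t₁ hm
  let φ₀ := EffectiveEpi.desc (cov S f Y ▷ T).left o.left hker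
  have hφ₀ : (cov S f Y ▷ T).left ≫ φ₀ = o.left := EffectiveEpi.fac _ _ _
  have hw : φ₀ ≫ X.hom = (AMonS S ↥(Y.comap f) ⊗ T).hom := by
    rw [← cancel_epi (cov S f Y ▷ T).left, ← Category.assoc, hφ₀, Over.w o, Over.w (cov S f Y ▷ T)]
  refine ⟨Over.homMk φ₀ hw, ?_⟩
  apply Over.OverMorphism.ext
  exact hφ₀

include hY in
theorem isEquivariant_of_comp_eq_orbitMap (T : Over S) (ψ : AMonS S ↥Y ⊗ T ⟶ X)
    (φ : AMonS S ↥(Y.comap f) ⊗ T ⟶ X) (h : (cov S f Y ▷ T) ≫ φ = orbitMap Y a T ψ) :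
    MonAct.IsEquivariant ((subAct S M (Y.comap f)).prod (MonAct.trivial (AMonS S M) T)) a φ := by
  have hepi : Epi (AMonS S M ◁ (cov S f Y ▷ T)) :=
    epi_of_isFpqc_left (((isFpqc_cov_left f Y hY).whiskerRight T).whiskerLeft (AMonS S M))
  unfold MonAct.IsEquivariant
  rw [← cancel_epi (AMonS S M ◁ (cov S f Y ▷ T))]
  apply hom_ext_lift₂
  intro T' g z
  rw [← lift_comp_fst_snd z, ← lift_comp_fst_snd (z ≫ fst _ _)]
  generalize (z ≫ fst _ _) ≫ fst _ _ = m
  generalize (z ≫ fst _ _) ≫ snd _ _ = υ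
  generalize z ≫ snd _ _ = t
  have hval : ∀ (m' : T' ⟶ AMonS S M), lift (lift m' υ ≫ cov S f Y) t ≫ φ =
      lift m' (lift υ t ≫ ψ) ≫ a.act := by
    intro m'
    rw [← lift_whiskerRight_assoc, h, lift_orbitMap]
  have hmul : (g ≫ AMonS.map S (Y.comap f).subtype) * (lift m υ ≫ cov S f Y) =
      lift (g * m) υ ≫ cov S f Y := by
    rw [lift_cov, lift_cov, MonObj.mul_comp, _root_.mul_assoc]
  have hL : lift g (lift (lift m υ) t) ≫ (AMonS S M ◁ (cov S f Y ▷ T)) ≫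
      ((subAct S M (Y.comap f)).prod (MonAct.trivial (AMonS S M) T)).act ≫ φ =
      lift (g * m) (lift υ t ≫ ψ) ≫ a.act := by
    rw [lift_whiskerLeft_assoc, lift_whiskerRight, MonAct.lift_prod_act_assoc,
      MonAct.lift_trivial_act, subAct, MonAct.lift_restrict_act, MonAct.lift_regular_act,
      hmul, hval]
  have hR : lift g (lift (lift m υ) t) ≫ (AMonS S M ◁ (cov S f Y ▷ T)) ≫ (AMonS S M ◁ φ) ≫ a.act =
      lift g (lift m (lift υ t ≫ ψ) ≫ a.act) ≫ a.act := by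
    rw [lift_whiskerLeft_assoc, lift_whiskerLeft_assoc, lift_whiskerRight, hval]
  rw [hL, hR, MonAct.lift_mul_act]

theorem cres_comp_of_comp_eq_orbitMap (T : Over S) (ψ : AMonS S ↥Y ⊗ T ⟶ X)
    (φ : AMonS S ↥(Y.comap f) ⊗ T ⟶ X) (h : (cov S f Y ▷ T) ≫ φ = orbitMap Y a T ψ) :
    (AMonS.map S (cres f Y) ▷ T) ≫ φ = ψ := by
  apply hom_ext_lift₂
  intro T' υ t
  have h1 : υ ≫ AMonS.map S (cres f Y) = lift (1 : T' ⟶ AMonS S M) υ ≫ cov S f Y := by
    rw [lift_cov, MonObj.one_comp, _root_.one_mul]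
  rw [lift_whiskerRight_assoc, h1, ← lift_whiskerRight_assoc, h, lift_orbitMap, MonAct.lift_one_act]

theorem cov_comp_eq_of_isEquivariant (T : Over S) (φ : AMonS S ↥(Y.comap f) ⊗ T ⟶ X)
    (hφ : MonAct.IsEquivariant ((subAct S M (Y.comap f)).prod (MonAct.trivial (AMonS S M) T)) a φ) :
    (cov S f Y ▷ T) ≫ φ = orbitMap Y a T ((AMonS.map S (cres f Y) ▷ T) ≫ φ) := by
  rw [MonAct.mem_eqvHom_iff] at hφ
  apply hom_ext_lift₂
  intro T' z t
  rw [← lift_comp_fst_snd z]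
  generalize z ≫ fst _ _ = m
  generalize z ≫ snd _ _ = υ
  have h1 := hφ T' m (υ ≫ AMonS.map S (cres f Y)) t
  have h2 : lift m (υ ≫ AMonS.map S (cres f Y)) ≫ (subAct S M (Y.comap f)).act =
      lift m υ ≫ cov S f Y := by
    rw [subAct, MonAct.lift_restrict_act, MonAct.lift_regular_act, lift_cov]
  rw [h2] at h1
  rw [lift_orbitMap, lift_whiskerRight_assoc, lift_whiskerRight_assoc, h1]

include hY in
/-- **Main theorem**: the canonical map of attractors is an isomorphism when `Y ⊆ f(M)`. -/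
theorem isIso_attrComap : IsIso (attrComap a f Y) := by
  apply (config := {allowSynthFailures := true}) NatIso.isIso_of_isIso_app
  intro T
  rw [isIso_iff_bijective]
  have hepi : Epi (cov S f Y ▷ unop T) :=
    epi_of_isFpqc_left ((isFpqc_cov_left f Y hY).whiskerRight (unop T))
  constructor
  · intro φ φ' h
    have h' : (AMonS.map S (cres f Y) ▷ unop T) ≫ φ.1 = (AMonS.map S (cres f Y) ▷ unop T) ≫ φ'.1 :=
      congrArg Subtype.val h
    apply Subtype.ext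
    rw [← cancel_epi (cov S f Y ▷ unop T), cov_comp_eq_of_isEquivariant f Y a (unop T) φ.1 φ.2,
      cov_comp_eq_of_isEquivariant f Y a (unop T) φ'.1 φ'.2, h']
  · intro ψ
    obtain ⟨φ, hφ⟩ := exists_desc f Y hY a (unop T) ψ.1 ψ.2
    refine ⟨⟨φ, isEquivariant_of_comp_eq_orbitMap f Y hY a (unop T) ψ.1 φ hφ⟩, ?_⟩
    apply Subtype.ext
    exact cres_comp_of_comp_eq_orbitMap f Y a (unop T) ψ.1 φ hφ

end Desc

end Groth.Agent.Lib.Helper10.MagnetComap
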