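import Mathlib.AlgebraicGeometry.Morphisms.ClosedImmersion
import Mathlib.AlgebraicGeometry.Morphisms.Separated
import Mathlib.AlgebraicGeometry.Morphisms.Affine
import Mathlib.AlgebraicGeometry.Pullbacks
import Mathlib.RingTheory.TensorProduct.Basic
import Groth.Prelude.Def_Magnet3

/-!
# Universal scheme-theoretic dominance of `A(M)_S ⟶ A(N)_S` for injective `N → M`

For an injective homomorphism of commutative monoids `j : N → M` the morphism of diagonalizable
monoid schemes `A(M)_S ⟶ A(N)_S` is "universally scheme-theoretically dominant": after any base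
change `W` over `S`, a closed subscheme of `A(N)_S ×_S W` through which `A(M)_S ×_S W` factors is
everything.  Consequences: morphisms from `A(N)_S ×_S W` to a separated `S`-scheme are determined
by their restriction to `A(M)_S ×_S W`, and they factor through a closed subscheme as soon as
the restriction does.
-/

set_option autoImplicit false
universe u
open CategoryTheory CategoryTheory.Limits MonoidalCategory CartesianMonoidalCategory MonObj AlgebraicGeometry Opposite
open TensorProduct Magnet

namespace Groth.Agent.Lib.Helper10.MagnetDom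


/-- `R[N] → R[M]` for an injective monoid hom stays injective after any base change. -/
theorem mapDomain_tensor_injective (R : Type u) [CommRing R] {N M : Type} [Monoid N] [Monoid M]
    (g : N →* M) (hg : Function.Injective g) (T : Type u) [CommRing T] [Algebra R T] :
    Function.Injective (Algebra.TensorProduct.map (MonoidAlgebra.mapDomainAlgHom R R g)
      (AlgHom.id R T)) := by
  -- linear retraction
  let r : MonoidAlgebra R M →ₗ[R] MonoidAlgebra R N :=
    { toFun := fun x => MonoidAlgebra.ofCoeff (Finsupp.comapDomain g x.coeff hg.injOn)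
      map_add' := fun x y => by
        apply MonoidAlgebra.coeff_injective
        ext n
        simp [Finsupp.comapDomain_apply]
      map_smul' := fun c x => by
        apply MonoidAlgebra.coeff_injective
        ext n
        simp [Finsupp.comapDomain_apply] }
  have hr : ∀ x : MonoidAlgebra R N, r (MonoidAlgebra.mapDomainAlgHom R R g x) = x := by
    intro x
    apply MonoidAlgebra.coeff_injective
    ext n
    change (Finsupp.comapDomain g (MonoidAlgebra.mapDomainAlgHom R R g x).coeff hg.injOn) n = _
    rw [Finsupp.comapDomain_apply]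
    change (Finsupp.mapDomain g x.coeff) (g n) = _
    exact Finsupp.mapDomain_apply hg _ _
  have hleft : Function.LeftInverse (LinearMap.rTensor T r)
      (Algebra.TensorProduct.map (MonoidAlgebra.mapDomainAlgHom R R g) (AlgHom.id R T)) := by
    intro x
    induction x using TensorProduct.induction_on with
    | zero => simp
    | tmul a t =>
      rw [Algebra.TensorProduct.map_tmul, LinearMap.rTensor_tmul, hr]
      rfl
    | add x y hx hy => rw [map_add, map_add, hx, hy]
  exact hleft.injective



theorem SpecMap_appTop_injective {R S : CommRingCat.{u}} (f : R ⟶ S) (hf : Function.Injective f.hom) :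
    Function.Injective (Spec.map f).appTop.hom := by
  have h := Scheme.ΓSpecIso_naturality f
  -- (Spec.map f).appTop ≫ (ΓSpecIso S).hom = (ΓSpecIso R).hom ≫ f
  have h2 : (Spec.map f).appTop = (Scheme.ΓSpecIso R).hom ≫ f ≫ (Scheme.ΓSpecIso S).inv := by
    rw [← Category.assoc, ← h, Category.assoc, Iso.hom_inv_id, Category.comp_id]
  rw [h2]
  have i1 : Function.Injective (Scheme.ΓSpecIso R).hom.hom :=
    ((ConcreteCategory.isIso_iff_bijective (Scheme.ΓSpecIso R).hom).1 inferInstance).1
  have i2 : Function.Injective (Scheme.ΓSpecIso S).inv.hom :=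
    ((ConcreteCategory.isIso_iff_bijective (Scheme.ΓSpecIso S).inv).1 inferInstance).1
  simp only [CommRingCat.hom_comp, RingHom.coe_comp]
  exact i2.comp (hf.comp i1)

theorem appTop_bijective_of_iso {X Y : Scheme.{u}} (e : X ≅ Y) :
    Function.Bijective e.hom.appTop.hom := by
  have h1 : e.inv.appTop ≫ e.hom.appTop = 𝟙 _ := by
    rw [← Scheme.Hom.comp_appTop, Iso.hom_inv_id, Scheme.Hom.id_appTop]
  have h2 : e.hom.appTop ≫ e.inv.appTop = 𝟙 _ := by
    rw [← Scheme.Hom.comp_appTop, Iso.inv_hom_id, Scheme.Hom.id_appTop]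
  have : IsIso e.hom.appTop := ⟨⟨e.inv.appTop, h2, h1⟩⟩
  exact (ConcreteCategory.isIso_iff_bijective e.hom.appTop).1 this

/-- The key lemma: a morphism between base changes (to an affine scheme `T`) of affine schemes
`Spec A' ⟶ Spec A` over `Spec R₀`, induced by a universally injective algebra map, is injective
on global sections. -/
theorem appTop_injective_of_isPullback {R₀ A A' : Type u} [CommRing R₀] [CommRing A] [CommRing A']
    [Algebra R₀ A] [Algebra R₀ A'] (φ : A →ₐ[R₀] A')
    (hφ : ∀ (R : Type u) [CommRing R] [Algebra R₀ R],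
      Function.Injective (Algebra.TensorProduct.map φ (AlgHom.id R₀ R)))
    {V V' T : Scheme.{u}} [IsAffine T] (t : T ⟶ Spec (CommRingCat.of R₀))
    (v₁ : V ⟶ Spec (CommRingCat.of A)) (v₂ : V ⟶ T)
    (v₁' : V' ⟶ Spec (CommRingCat.of A')) (v₂' : V' ⟶ T)
    (hV : IsPullback v₁ v₂ (Spec.map (CommRingCat.ofHom (algebraMap R₀ A))) t)
    (hV' : IsPullback v₁' v₂' (Spec.map (CommRingCat.ofHom (algebraMap R₀ A'))) t)
    (h : V' ⟶ V) (h₁ : h ≫ v₁ = v₁' ≫ Spec.map (CommRingCat.ofHom φ.toRingHom))
    (h₂ : h ≫ v₂ = v₂') : Function.Injective h.appTop.hom := by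
  let e : T ≅ Spec Γ(T, ⊤) := T.isoSpec
  let ψ : CommRingCat.of R₀ ⟶ Γ(T, ⊤) := Spec.preimage (e.inv ≫ t)
  have hψ : t = e.hom ≫ Spec.map ψ := by
    rw [Spec.map_preimage, Iso.hom_inv_id_assoc]
  let _ : Algebra R₀ Γ(T, ⊤) := ψ.hom.toAlgebra
  have hψ' : Spec.map ψ = Spec.map (CommRingCat.ofHom (algebraMap R₀ Γ(T, ⊤))) := rfl
  -- the two pullback squares with `Spec` of the global sections of `T`
  have hV2 : IsPullback v₁ (v₂ ≫ e.hom) (Spec.map (CommRingCat.ofHom (algebraMap R₀ A)))
      (Spec.map (CommRingCat.ofHom (algebraMap R₀ Γ(T, ⊤)))) := by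
    refine hV.of_iso (Iso.refl _) (Iso.refl _) e (Iso.refl _) (by simp) (by simp) (by simp) ?_
    rw [Iso.refl_hom, Category.comp_id, hψ, hψ']
  have hV2' : IsPullback v₁' (v₂' ≫ e.hom) (Spec.map (CommRingCat.ofHom (algebraMap R₀ A')))
      (Spec.map (CommRingCat.ofHom (algebraMap R₀ Γ(T, ⊤)))) := by
    refine hV'.of_iso (Iso.refl _) (Iso.refl _) e (Iso.refl _) (by simp) (by simp) (by simp) ?_
    rw [Iso.refl_hom, Category.comp_id, hψ, hψ']
  have hS := isPullback_SpecMap_of_isPushout _ _ _ _
    (CommRingCat.isPushout_tensorProduct R₀ A Γ(T, ⊤))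
  have hS' := isPullback_SpecMap_of_isPushout _ _ _ _
    (CommRingCat.isPushout_tensorProduct R₀ A' Γ(T, ⊤))
  let Θ := hV2.isoIsPullback _ _ hS
  let Θ' := hV2'.isoIsPullback _ _ hS'
  let m : CommRingCat.of (A ⊗[R₀] Γ(T, ⊤)) ⟶ CommRingCat.of (A' ⊗[R₀] Γ(T, ⊤)) :=
    CommRingCat.ofHom (Algebra.TensorProduct.map φ (AlgHom.id R₀ Γ(T, ⊤))).toRingHom
  have hm : Function.Injective m.hom := hφ Γ(T, ⊤)
  have key : h ≫ Θ.hom = Θ'.hom ≫ Spec.map m := by
    apply hS.hom_ext
    · rw [Category.assoc, IsPullback.isoIsPullback_hom_fst, Category.assoc, ← Spec.map_comp, h₁]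
      have : CommRingCat.ofHom (Algebra.TensorProduct.includeLeftRingHom (R := R₀) (A := A) (B := Γ(T, ⊤))) ≫ m =
          CommRingCat.ofHom φ.toRingHom ≫
            CommRingCat.ofHom (Algebra.TensorProduct.includeLeftRingHom (R := R₀) (A := A') (B := Γ(T, ⊤))) := by
        ext a
        simp [m]
      rw [this, Spec.map_comp, IsPullback.isoIsPullback_hom_fst_assoc]
    · have e1 : Θ.hom ≫ Spec.map (CommRingCat.ofHom
          (Algebra.TensorProduct.includeRight (R := R₀) (A := A) (B := Γ(T, ⊤))).toRingHom) = v₂ ≫ e.hom :=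
        IsPullback.isoIsPullback_hom_snd _ _ hV2 hS
      have e2 : Θ'.hom ≫ Spec.map (CommRingCat.ofHom
          (Algebra.TensorProduct.includeRight (R := R₀) (A := A') (B := Γ(T, ⊤))).toRingHom) = v₂' ≫ e.hom :=
        IsPullback.isoIsPullback_hom_snd _ _ hV2' hS'
      have : CommRingCat.ofHom (Algebra.TensorProduct.includeRight (R := R₀) (A := A) (B := Γ(T, ⊤))).toRingHom ≫ m =
            CommRingCat.ofHom (Algebra.TensorProduct.includeRight (R := R₀) (A := A') (B := Γ(T, ⊤))).toRingHom := by
        ext a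
        simp [m]
      rw [Category.assoc, e1, Category.assoc, ← Spec.map_comp, this, e2, ← Category.assoc, h₂]
  have key2 : Θ.hom.appTop ≫ h.appTop = (Spec.map m).appTop ≫ Θ'.hom.appTop := by
    rw [← Scheme.Hom.comp_appTop, ← Scheme.Hom.comp_appTop, key]
  have inj1 : Function.Injective ((Spec.map m).appTop ≫ Θ'.hom.appTop).hom := by
    simp only [CommRingCat.hom_comp, RingHom.coe_comp]
    exact (appTop_bijective_of_iso Θ').1.comp
      (SpecMap_appTop_injective m hm)
  rw [← key2] at inj1
  simp only [CommRingCat.hom_comp, RingHom.coe_comp] at inj1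
  exact Function.Injective.of_comp_right inj1
    (appTop_bijective_of_iso Θ).2



/-- the pasted pullback square computing `(A(N)_S ⊗ W).left`. -/
theorem isPullback_AMonS_tensor (S : Scheme.{u}) (N : Type) [AddCommMonoid N] (W : Over S) :
    IsPullback (pullback.fst (AMonS S N).hom W.hom ≫
        pullback.fst (AMon (ULift.{u} ℤ) N).hom (Limits.IsTerminal.from specULiftZIsTerminal S))
      (pullback.snd (AMonS S N).hom W.hom)
      (Spec.map (CommRingCat.ofHom (algebraMap (ULift.{u} ℤ)
        (MonoidAlgebra (ULift.{u} ℤ) (Multiplicative N)))))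
      (W.hom ≫ Limits.IsTerminal.from specULiftZIsTerminal S) :=
  (IsPullback.of_hasPullback (AMonS S N).hom W.hom).paste_horiz
    (IsPullback.of_hasPullback (AMon (ULift.{u} ℤ) N).hom
      (Limits.IsTerminal.from specULiftZIsTerminal S))

theorem whiskerRight_appTop_injective (S : Scheme.{u}) {N M : Type} [AddCommMonoid N]
    [AddCommMonoid M] (j : N →+ M) (hj : Function.Injective j) (W : Over S) [IsAffine W.left] :
    Function.Injective (AMonS.map S j ▷ W).left.appTop.hom := by
  refine appTop_injective_of_isPullback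
    (MonoidAlgebra.mapDomainAlgHom (ULift.{u} ℤ) (ULift.{u} ℤ) (AddMonoidHom.toMultiplicative j))
    (fun R _ _ => mapDomain_tensor_injective _ _ hj R) _ _ _ _ _
    (isPullback_AMonS_tensor S N W) (isPullback_AMonS_tensor S M W) _ ?_ ?_
  · have e1 : (AMonS.map S j ▷ W).left ≫ pullback.fst (AMonS S N).hom W.hom =
        pullback.fst (AMonS S M).hom W.hom ≫ (AMonS.map S j).left := Over.whiskerRight_left_fst _
    have e2 : (AMonS.map S j).left ≫ pullback.fst (AMon (ULift.{u} ℤ) N).hom
          (Limits.IsTerminal.from specULiftZIsTerminal S) =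
        pullback.fst (AMon (ULift.{u} ℤ) M).hom (Limits.IsTerminal.from specULiftZIsTerminal S) ≫
          (AMon.map (ULift.{u} ℤ) j).left := pullback.lift_fst _ _ _
    change (AMonS.map S j ▷ W).left ≫ (pullback.fst (AMonS S N).hom W.hom ≫
        pullback.fst (AMon (ULift.{u} ℤ) N).hom (Limits.IsTerminal.from specULiftZIsTerminal S)) =
      (pullback.fst (AMonS S M).hom W.hom ≫
        pullback.fst (AMon (ULift.{u} ℤ) M).hom (Limits.IsTerminal.from specULiftZIsTerminal S)) ≫
        (AMon.map (ULift.{u} ℤ) j).left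
    rw [← Category.assoc, e1, Category.assoc, e2, Category.assoc]
  · exact Over.whiskerRight_left_snd _



instance (S : Scheme.{u}) (N : Type) [AddCommMonoid N] : IsAffineHom (AMonS S N).hom := by
  have h : IsAffineHom (AMon (ULift.{u} ℤ) N).hom := by
    change IsAffineHom (Spec.map _)
    infer_instance
  exact MorphismProperty.of_isPullback (P := @IsAffineHom)
    (IsPullback.of_hasPullback (AMon (ULift.{u} ℤ) N).hom
      (Limits.IsTerminal.from specULiftZIsTerminal S)) h

/-- **Key lemma**: for an injective monoid hom `j : N → M` and any `W` over `S`, a closed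
immersion into `A(N)_S ×_S W` through which `A(M)_S ×_S W ⟶ A(N)_S ×_S W` factors is an
isomorphism (the morphism is universally scheme-theoretically dominant). -/
theorem isIso_of_isClosedImmersion_of_fac (S : Scheme.{u}) {N M : Type} [AddCommMonoid N]
    [AddCommMonoid M] (j : N →+ M) (hj : Function.Injective j) (W : Over S) {P : Scheme.{u}}
    (ii : P ⟶ (AMonS S N ⊗ W).left) [IsClosedImmersion ii] (l : (AMonS S M ⊗ W).left ⟶ P)
    (hl : l ≫ ii = (AMonS.map S j ▷ W).left) : IsIso ii := by
  wlog hW : IsAffine W.left generalizing W P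
  · rw [← MorphismProperty.isomorphisms.iff,
      IsZariskiLocalAtTarget.iff_of_openCover (P := .isomorphisms Scheme)
        (Scheme.Pullback.openCoverOfRight W.left.affineCover (AMonS S N).hom W.hom)]
    intro i
    let Wi : Over S := Over.mk (W.left.affineCover.f i ≫ W.hom)
    let inc : Wi ⟶ W := Over.homMk (W.left.affineCover.f i)
    have hcov : (Scheme.Pullback.openCoverOfRight W.left.affineCover (AMonS S N).hom W.hom).f i =
        (AMonS S N ◁ inc).left := rfl
    change IsIso (pullback.snd ii (AMonS S N ◁ inc).left)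
    have hcomm : ((AMonS S M ◁ inc).left ≫ l) ≫ ii =
        (AMonS.map S j ▷ Wi).left ≫ (AMonS S N ◁ inc).left := by
      rw [Category.assoc, hl, ← Over.comp_left, ← Over.comp_left, whisker_exchange]
    refine this Wi (pullback.snd ii (AMonS S N ◁ inc).left)
      (pullback.lift ((AMonS S M ◁ inc).left ≫ l) (AMonS.map S j ▷ Wi).left hcomm)
      (pullback.lift_snd _ _ _) ?_
    exact Scheme.isAffine_affineCover W.left i
  · have : IsAffine (AMonS S N ⊗ W).left := by
      change IsAffine (pullback (AMonS S N).hom W.hom)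
      infer_instance
    apply IsClosedImmersion.isIso_of_injective_of_isAffine
    have h1 : ii.appTop ≫ l.appTop = (AMonS.map S j ▷ W).left.appTop := by
      rw [← Scheme.Hom.comp_appTop, hl]
    have h2 := whiskerRight_appTop_injective S j hj W
    rw [← h1] at h2
    simp only [CommRingCat.hom_comp, RingHom.coe_comp] at h2
    exact Function.Injective.of_comp h2



/-- Morphisms from `A(N)_S ×_S W` to a separated `S`-scheme are determined by their restriction
along `A(M)_S ×_S W ⟶ A(N)_S ×_S W`, for `N → M` injective. -/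
theorem hom_ext_of_whiskerRight_map (S : Scheme.{u}) {N M : Type} [AddCommMonoid N]
    [AddCommMonoid M] (j : N →+ M) (hj : Function.Injective j) (W X : Over S) [IsSeparated X.hom]
    (u v : AMonS S N ⊗ W ⟶ X) (h : (AMonS.map S j ▷ W) ≫ u = (AMonS.map S j ▷ W) ≫ v) : u = v := by
  have hiso : IsIso (equalizer.ι u v).left :=
    isIso_of_isClosedImmersion_of_fac S j hj W (equalizer.ι u v).left
      (equalizer.lift (AMonS.map S j ▷ W) h).left
      (by rw [← Over.comp_left, equalizer.lift_ι])
  have hiso' : IsIso (equalizer.ι u v) := by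
    have : IsIso ((Over.forget S).map (equalizer.ι u v)) := hiso
    exact isIso_of_reflects_iso _ (Over.forget S)
  rw [← cancel_epi (equalizer.ι u v)]
  exact equalizer.condition u v

/-- A morphism from `A(N)_S ×_S W` factors through a closed subscheme as soon as its
restriction along `A(M)_S ×_S W ⟶ A(N)_S ×_S W` does, for `N → M` injective. -/
theorem exists_lift_of_isClosedImmersion (S : Scheme.{u}) {N M : Type} [AddCommMonoid N]
    [AddCommMonoid M] (j : N →+ M) (hj : Function.Injective j) (W Y Z : Over S) (f : Z ⟶ Y)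
    [IsClosedImmersion f.left] (φ : AMonS S N ⊗ W ⟶ Y) (ζ : AMonS S M ⊗ W ⟶ Z)
    (h : ζ ≫ f = (AMonS.map S j ▷ W) ≫ φ) : ∃ φ' : AMonS S N ⊗ W ⟶ Z, φ' ≫ f = φ := by
  have hcomm : (AMonS.map S j ▷ W).left ≫ φ.left = ζ.left ≫ f.left := by
    rw [← Over.comp_left, ← Over.comp_left, h]
  have hiso : IsIso (pullback.fst φ.left f.left) :=
    isIso_of_isClosedImmersion_of_fac S j hj W (pullback.fst φ.left f.left)
      (pullback.lift (AMonS.map S j ▷ W).left ζ.left hcomm) (pullback.lift_fst _ _ _)
  have hfac : (inv (pullback.fst φ.left f.left) ≫ pullback.snd φ.left f.left) ≫ f.left = φ.left := by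
    rw [Category.assoc, ← pullback.condition, IsIso.inv_hom_id_assoc]
  refine ⟨Over.homMk (inv (pullback.fst φ.left f.left) ≫ pullback.snd φ.left f.left) ?_, ?_⟩
  · rw [← Over.w f, ← Category.assoc, hfac, Over.w φ]
  · ext
    exact hfac


section General
universe v₁ u₁
open Magnet.MonAct


/-- An equivariant map out of `B ⊗ T` (with `A` acting on `B` through a monoid morphism
`π : A ⟶ B`) restricted along `π` is the orbit map of its value at the unit section. -/
theorem whiskerRight_comp_eq_orbit {C : Type u₁} [Category.{v₁} C] [CartesianMonoidalCategory C]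
    {A B X T : C} [MonObj A] [MonObj B] (π : A ⟶ B) [IsMonHom π] (a : MonAct A X)
    (φ : B ⊗ T ⟶ X)
    (hφ : IsEquivariant (((regular B).restrict π).prod (MonAct.trivial A T)) a φ) :
    (π ▷ T) ≫ φ = (A ◁ (lift (toUnit T ≫ η[B]) (𝟙 T) ≫ φ)) ≫ a.act := by
  rw [mem_eqvHom_iff] at hφ
  apply hom_ext_lift₂
  intro T' g t
  have h := hφ T' g 1 t
  rw [lift_restrict_act, lift_regular_act, _root_.mul_one] at h
  rw [lift_whiskerRight_assoc, h, lift_whiskerLeft_assoc, comp_lift_assoc, Category.comp_id,
    ← Category.assoc t, toUnit_unique (t ≫ toUnit T) (toUnit T'), ← Hom.one_def]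

theorem AMon_map_id (R : Type u) [CommRing R] (M : Type) [AddCommMonoid M] :
    AMon.map R (AddMonoidHom.id M) = 𝟙 (AMon R M) := by
  ext : 1
  rw [AMon.map_left]
  have h : MonoidAlgebra.mapDomainBialgHom R (AddMonoidHom.toMultiplicative (AddMonoidHom.id M)) =
      BialgHom.id R (MonoidAlgebra R (Multiplicative M)) :=
    MonoidAlgebra.mapDomainBialgHom_id
  rw [h]
  exact Spec.map_id _

theorem AMonS_map_id (S : Scheme.{u}) (M : Type) [AddCommMonoid M] :
    AMonS.map S (AddMonoidHom.id M) = 𝟙 (AMonS S M) := by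
  rw [AMonS.map, AMon_map_id, CategoryTheory.Functor.map_id]


end General

end Groth.Agent.Lib.Helper10.MagnetDom
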