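import Groth.Prelude.Def_ModSt
import Groth.Agent.Lib.Helper10.FibreProductStalk
import Groth.Agent.Lib.Helper29.QCohPullback

/-! # The categories of modules over `(Sch/S)` are fibred in groupoids (ingredients)

* `isCart_unit`: the unit `N ⟶ h_* h^* N` is a cartesian comparison map.
* `isCart_of_comp`: two-out-of-three for cartesian comparison maps.
* `pbObj`, `pbHom`: the pulled-back object along a morphism of bases and its morphism to the given one.
* `isCohObj_pbObj`: pulled-back objects of flat finitely presented modules are such.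
* `exists_unique_fill`: every morphism of `ModSt.Obj f` is strongly cartesian. -/

set_option autoImplicit false
open CategoryTheory CategoryTheory.Limits AlgebraicGeometry
universe u

namespace Groth.Agent.Lib.Helper10.ModStFib

open ModSt

section Cart

variable {Y Z W : Scheme.{u}}

theorem isCart_unit (h : Y ⟶ Z) (N : Z.Modules) :
    IsCart h ((Scheme.Modules.pullbackPushforwardAdjunction h).unit.app N) := by
  intro M'
  have heq : (fun v : (Scheme.Modules.pullback h).obj N ⟶ M' =>
      (Scheme.Modules.pullbackPushforwardAdjunction h).unit.app N ≫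
        (Scheme.Modules.pushforward h).map v) =
      ((Scheme.Modules.pullbackPushforwardAdjunction h).homEquiv N M') := by
    funext v
    exact ((Scheme.Modules.pullbackPushforwardAdjunction h).homEquiv_unit N M' v).symm
  rw [heq]
  exact Equiv.bijective _

theorem isCart_of_comp {h₁ : Y ⟶ Z} {h₂ : Z ⟶ W} {P : W.Modules} {N : Z.Modules} {M : Y.Modules}
    {c₁ : N ⟶ (Scheme.Modules.pushforward h₁).obj M}
    {c₂ : P ⟶ (Scheme.Modules.pushforward h₂).obj N}
    (hc₂ : IsCart h₂ c₂)
    (hc : IsCart (h₁ ≫ h₂) (c₂ ≫ (Scheme.Modules.pushforward h₂).map c₁ ≫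
      (Scheme.Modules.pushforwardComp h₁ h₂).hom.app M)) : IsCart h₁ c₁ := by
  intro M'
  have heq : (fun v : M ⟶ M' => (c₂ ≫ (Scheme.Modules.pushforward h₂).map c₁ ≫
      (Scheme.Modules.pushforwardComp h₁ h₂).hom.app M) ≫
        (Scheme.Modules.pushforward (h₁ ≫ h₂)).map v) =
      ((Scheme.Modules.pushforwardComp h₁ h₂).app M').homToEquiv ∘
        (fun w : N ⟶ (Scheme.Modules.pushforward h₁).obj M' =>
          c₂ ≫ (Scheme.Modules.pushforward h₂).map w) ∘
        (fun v : M ⟶ M' => c₁ ≫ (Scheme.Modules.pushforward h₁).map v) := by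
    funext v
    simp only [Function.comp_apply, Iso.homToEquiv_apply, Iso.app_hom, Category.assoc,
      Functor.map_comp]
    rw [← (Scheme.Modules.pushforwardComp h₁ h₂).hom.naturality v]
    rfl
  have hb := hc M'
  rw [heq] at hb
  have h1 := (Function.Bijective.of_comp_iff' (Equiv.bijective _) _).mp hb
  exact (Function.Bijective.of_comp_iff' (hc₂ _) _).mp h1

end Cart

variable {X S : Scheme.{u}} {f : X ⟶ S}

/-- The pulled-back object along a morphism of bases. -/
noncomputable def pbObj (A : Obj f) {V : Over S} (g : V ⟶ A.base) : Obj f where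
  base := V
  XT := pullback A.q g.left
  p := pullback.fst A.q g.left ≫ A.p
  q := pullback.snd A.q g.left
  isPullback := by
    have h := (IsPullback.of_hasPullback A.q g.left).paste_horiz A.isPullback
    rwa [Over.w g] at h
  E := (Scheme.Modules.pullback (pullback.fst A.q g.left)).obj A.E

/-- The morphism from the pulled-back object. -/
noncomputable def pbHom (A : Obj f) {V : Over S} (g : V ⟶ A.base) : pbObj A g ⟶ A where
  base := g
  top := pullback.fst A.q g.left
  w_p := rfl
  w_q := pullback.condition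
  c := (Scheme.Modules.pullbackPushforwardAdjunction (pullback.fst A.q g.left)).unit.app A.E
  cart := isCart_unit _ _

theorem isCohObj_pbObj (A : Obj f) (hA : IsCohObj A) {V : Over S} (g : V ⟶ A.base) :
    IsCohObj (pbObj A g) := by
  obtain ⟨hfl, hfp⟩ := hA
  haveI : A.E.IsFinitePresentation := hfp
  haveI : A.E.IsQuasicoherent := inferInstance
  refine ⟨fun x' => ?_, ?_⟩
  · exact Groth.Agent.Lib.Helper10.FibreProductStalk.isFlatOverAt_baseChange x' A.E
      (IsPullback.of_hasPullback A.q g.left) (hfl _)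
  · exact Groth.Agent.Lib.Helper29.QCoh.isFinitePresentation_pullback _ _

theorem exists_unique_fill_aux {A B Z : Obj f} (φ : A ⟶ B) (g : Z.base ⟶ A.base)
    (top : Z.XT ⟶ A.XT) (w_p : top ≫ A.p = Z.p) (w_q : top ≫ A.q = Z.q ≫ g.left)
    (wp' : (top ≫ φ.top) ≫ B.p = Z.p)
    (wq' : (top ≫ φ.top) ≫ B.q = Z.q ≫ (g ≫ φ.base).left)
    (c' : B.E ⟶ (Scheme.Modules.pushforward (top ≫ φ.top)).obj Z.E)
    (cart' : IsCart (top ≫ φ.top) c') :
    ∃! χ : Z ⟶ A, χ.base = g ∧
      χ ≫ φ = (⟨g ≫ φ.base, top ≫ φ.top, wp', wq', c', cart'⟩ : Obj.Hom Z B) := by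
  obtain ⟨c, hc0⟩ := (φ.cart ((Scheme.Modules.pushforward top).obj Z.E)).2
    (c' ≫ (Scheme.Modules.pushforwardComp top φ.top).inv.app Z.E)
  have hc : φ.c ≫ (Scheme.Modules.pushforward φ.top).map c ≫
      (Scheme.Modules.pushforwardComp top φ.top).hom.app Z.E = c' := by
    have := congrArg (· ≫ (Scheme.Modules.pushforwardComp top φ.top).hom.app Z.E) hc0
    simpa using this
  have hcart : IsCart top c := isCart_of_comp φ.cart (by rw [hc]; exact cart')
  refine ⟨⟨g, top, w_p, w_q, c, hcart⟩, ⟨rfl, ?_⟩, ?_⟩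
  · subst hc
    rfl
  · rintro ⟨b', t', wp'', wq'', c'', cart''⟩ ⟨hb, he⟩
    dsimp only at hb
    subst hb
    have ht : t' = top := by
      refine φ.isPullback_top.hom_ext ?_ ?_
      · exact congrArg Obj.Hom.top he
      · rw [wq'', w_q]
    subst ht
    have hc2 : φ.c ≫ (Scheme.Modules.pushforward φ.top).map c'' ≫
        (Scheme.Modules.pushforwardComp t' φ.top).hom.app Z.E = c' := by
      injection he with _ _ h3
    have hcc : c'' = c := by
      apply (φ.cart _).1
      dsimp only
      have h3 := hc2.trans hc.symm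
      rw [← Category.assoc, ← Category.assoc] at h3
      exact (cancel_mono _).mp h3
    subst hcc
    rfl

theorem exists_unique_fill {A B Z : Obj f} (φ : A ⟶ B) (g : Z.base ⟶ A.base) (ψ : Z ⟶ B)
    (hψ : ψ.base = g ≫ φ.base) : ∃! χ : Z ⟶ A, χ.base = g ∧ χ ≫ φ = ψ := by
  obtain ⟨b, t, wp, wq, c', cart'⟩ := ψ
  dsimp only at hψ
  subst hψ
  obtain ⟨top, e1, e2⟩ : ∃ top : Z.XT ⟶ A.XT, top ≫ φ.top = t ∧ top ≫ A.q = Z.q ≫ g.left :=
    ⟨φ.isPullback_top.lift t (Z.q ≫ g.left) (by rw [wq]; simp),
      IsPullback.lift_fst _ _ _ _, IsPullback.lift_snd _ _ _ _⟩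
  subst e1
  exact exists_unique_fill_aux φ g top (by rw [← φ.w_p, ← Category.assoc]; exact wp) e2 wp wq
    c' cart'

end Groth.Agent.Lib.Helper10.ModStFib
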