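import Mathlib

/-!
# The group of units of a monoid scheme
-/

set_option autoImplicit false
set_option backward.isDefEq.respectTransparency.types false
set_option maxHeartbeats 4000000
set_option synthInstance.maxHeartbeats 400000
universe u
open CategoryTheory CategoryTheory.Limits AlgebraicGeometry MonoidalCategory
  CartesianMonoidalCategory MonObj

namespace Groth.Agent.Lib.Helper10.MonUnits

variable {S : Scheme.{u}} (M : Over S) [MonObj M]

/-- `(m, n) ↦ (m n, n m)` -/
noncomputable def uu : M ⊗ M ⟶ M ⊗ M := lift (fst M M * snd M M) (snd M M * fst M M)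

/-- `(1, 1)` -/
noncomputable def ee : 𝟙_ (Over S) ⟶ M ⊗ M := lift η[M] η[M]

/-- the scheme of units -/
noncomputable abbrev U : Over S := pullback (uu M) (ee M)

/-- the inclusion of the units -/
noncomputable def inc : U M ⟶ M := pullback.fst (uu M) (ee M) ≫ fst M M

/-- the inverse -/
noncomputable def inv' : U M ⟶ M := pullback.fst (uu M) (ee M) ≫ snd M M

theorem lift_uu {T : Over S} (m n : T ⟶ M) : lift m n ≫ uu M = lift (m * n) (n * m) := by
  unfold uu
  rw [comp_lift, MonObj.comp_mul, MonObj.comp_mul, lift_fst, lift_snd]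

theorem toUnit_ee {T : Over S} : toUnit T ≫ ee M = lift (1 : T ⟶ M) 1 := by
  unfold ee
  rw [comp_lift, ← Hom.one_def]

theorem comp_fst_uu {T : Over S} (g : T ⟶ U M) :
    (g ≫ pullback.fst (uu M) (ee M)) ≫ uu M = lift (1 : T ⟶ M) 1 := by
  rw [Category.assoc, pullback.condition, ← Category.assoc, toUnit_unique (g ≫ _) (toUnit T),
    toUnit_ee]

theorem inc_mul_inv {T : Over S} (g : T ⟶ U M) : (g ≫ inc M) * (g ≫ inv' M) = 1 := by
  have h := comp_fst_uu M g
  rw [← lift_comp_fst_snd (g ≫ pullback.fst (uu M) (ee M)), lift_uu] at h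
  have := congrArg (fun φ => φ ≫ fst M M) h
  simp only [lift_fst] at this
  unfold inc inv'
  rw [← Category.assoc, ← Category.assoc]
  exact this

theorem inv_mul_inc {T : Over S} (g : T ⟶ U M) : (g ≫ inv' M) * (g ≫ inc M) = 1 := by
  have h := comp_fst_uu M g
  rw [← lift_comp_fst_snd (g ≫ pullback.fst (uu M) (ee M)), lift_uu] at h
  have := congrArg (fun φ => φ ≫ snd M M) h
  simp only [lift_snd] at this
  unfold inc inv'
  rw [← Category.assoc, ← Category.assoc]
  exact this

/-- the point of the units defined by an inverse pair -/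
noncomputable def mk {T : Over S} (m n : T ⟶ M) (h1 : m * n = 1) (h2 : n * m = 1) : T ⟶ U M :=
  pullback.lift (lift m n) (toUnit T) (by rw [lift_uu, toUnit_ee, h1, h2])

theorem mk_inc {T : Over S} (m n : T ⟶ M) (h1 : m * n = 1) (h2 : n * m = 1) :
    mk M m n h1 h2 ≫ inc M = m := by
  unfold mk inc
  rw [← Category.assoc, pullback.lift_fst, lift_fst]

theorem isUnit_iff {T : Over S} (m : T ⟶ M) : (∃ g : T ⟶ U M, g ≫ inc M = m) ↔ IsUnit m := by
  constructor
  · rintro ⟨g, rfl⟩
    exact ⟨⟨g ≫ inc M, g ≫ inv' M, inc_mul_inv M g, inv_mul_inc M g⟩, rfl⟩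
  · rintro ⟨⟨m, n, h1, h2⟩, rfl⟩
    exact ⟨mk M m n h1 h2, mk_inc M m n h1 h2⟩

instance mono_inc : Mono (inc M) := by
  refine ⟨fun {T} g₁ g₂ h => ?_⟩
  have hn : g₁ ≫ inv' M = g₂ ≫ inv' M := by
    calc g₁ ≫ inv' M = (g₁ ≫ inv' M) * ((g₂ ≫ inc M) * (g₂ ≫ inv' M)) := by
          rw [inc_mul_inv, _root_.mul_one]
      _ = ((g₁ ≫ inv' M) * (g₁ ≫ inc M)) * (g₂ ≫ inv' M) := by rw [← h, _root_.mul_assoc]
      _ = g₂ ≫ inv' M := by rw [inv_mul_inc, _root_.one_mul]
  apply pullback.hom_ext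
  · apply CartesianMonoidalCategory.hom_ext
    · rw [Category.assoc, Category.assoc]; exact h
    · rw [Category.assoc, Category.assoc]; exact hn
  · exact toUnit_unique _ _

/-- uniqueness of the scheme of units -/
theorem exists_iso {G : Over S} (i : G ⟶ M) [Mono i]
    (hi : ∀ (T : Over S) (m : T ⟶ M), (∃ g : T ⟶ G, g ≫ i = m) ↔ IsUnit m) :
    ∃ e : G ≅ U M, e.hom ≫ inc M = i := by
  obtain ⟨a, ha⟩ := (isUnit_iff M i).mpr ((hi G i).mp ⟨𝟙 G, Category.id_comp _⟩)
  obtain ⟨b, hb⟩ := (hi (U M) (inc M)).mpr ((isUnit_iff M (inc M)).mp ⟨𝟙 _, Category.id_comp _⟩)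
  refine ⟨⟨a, b, ?_, ?_⟩, ha⟩
  · rw [← cancel_mono i, Category.assoc, hb, ha, Category.id_comp]
  · rw [← cancel_mono (inc M), Category.assoc, ha, hb, Category.id_comp]

theorem isAffine_U [IsAffine S] [IsAffine M.left] : IsAffine (U M).left := by
  have sq : IsPullback (pullback.fst (uu M) (ee M)).left (pullback.snd (uu M) (ee M)).left
      (uu M).left (ee M).left :=
    (IsPullback.of_hasPullback (uu M) (ee M)).map (Over.forget S)
  haveI : IsAffine (M ⊗ M).left := by
    rw [Over.tensorObj_left]; infer_instance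
  haveI : IsAffine (𝟙_ (Over S)).left := by
    rw [Over.tensorUnit_left]; infer_instance
  exact IsAffine.of_isIso sq.isoPullback.hom

end Groth.Agent.Lib.Helper10.MonUnits
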