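import Mathlib
import Groth.Agent.Lib.Helper10.MorSRep
import Groth.Agent.Lib.Helper10.MorSRep2
import Groth.Agent.Lib.Helper10.FinAffine

/-!
# Representability of `Mor_S(Z, X)` for `Z` finite locally free and `X` with the AF property
-/

set_option autoImplicit false
set_option linter.unusedSectionVars false
set_option linter.style.haveILetI false
set_option backward.isDefEq.respectTransparency.types false
set_option maxHeartbeats 4000000
set_option synthInstance.maxHeartbeats 400000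
universe u
open CategoryTheory CategoryTheory.Limits AlgebraicGeometry Opposite MonoidalCategory
  CartesianMonoidalCategory

namespace Groth.Agent.Lib.Helper10.MorSRep

open Groth.Agent.Lib.Helper10.WeilClosed Groth.Agent.Lib.Helper10.HomScheme
  Groth.Agent.Lib.Helper10.ZarRep Groth.Agent.Lib.Helper10.ZarRep.SFun
  Groth.Agent.Lib.Helper10.HomFun Groth.Agent.Lib.Helper10.HomLocal

variable {S : Scheme.{u}}

/-- finiteness and projectivity over every affine open. -/
theorem finite_projective_restrict {Z : Scheme.{u}} (g : Z ⟶ S) (hg : Mor2.IsFinLocFree g)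
    (V : S.Opens) (hV : IsAffineOpen V) :
    letI := (g ∣_ V).appTop.hom.toAlgebra
    Module.Finite Γ(V.toScheme, ⊤) Γ((g ⁻¹ᵁ V).toScheme, ⊤) ∧
      Module.Projective Γ(V.toScheme, ⊤) Γ((g ⁻¹ᵁ V).toScheme, ⊤) := by
  obtain ⟨hfin, hflat, hlfp⟩ := hg
  haveI : IsAffine V.toScheme := hV
  have hZaff : IsAffineOpen (g ⁻¹ᵁ V) := hV.preimage g
  haveI : IsAffine (g ⁻¹ᵁ V).toScheme := hZaff
  have h1 : (g ∣_ V).appTop.hom.Finite :=
    (HasAffineProperty.iff_of_isAffine (P := @IsFinite)).mp inferInstance |>.2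
  have h2 : (g ∣_ V).appTop.hom.Flat :=
    (HasRingHomProperty.iff_of_isAffine (P := @Flat)).mp inferInstance
  have h3 : (g ∣_ V).appTop.hom.FinitePresentation :=
    (HasRingHomProperty.iff_of_isAffine (P := @LocallyOfFinitePresentation)).mp inferInstance
  algebraize [(g ∣_ V).appTop.hom]
  haveI : Module.FinitePresentation Γ(V.toScheme, ⊤) Γ((g ⁻¹ᵁ V).toScheme, ⊤) :=
    Module.FinitePresentation.of_finite_of_finitePresentation _ _
  exact ⟨inferInstance, Module.Flat.projective_of_finitePresentation⟩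

section Post

variable {A B B' : Over S} (k : B' ⟶ B)

/-- postcomposition of families. -/
noncomputable def post {T : Scheme.{u}} (y : El A B' T) : El A B T := ⟨y.1, y.2 ≫ k⟩

lemma post_fst {T : Scheme.{u}} (y : El A B' T) : (post k y).1 = y.1 := rfl

lemma post_snd_left {T : Scheme.{u}} (y : El A B' T) :
    (post k y).2.left = y.2.left ≫ k.left := rfl

lemma post_elMap {T T' : Scheme.{u}} (a : T' ⟶ T) (y : El A B' T) :
    post k (elMap a y) = elMap a (post k y) := by
  obtain ⟨t, φ⟩ := y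
  exact congrArg (Sigma.mk (a ≫ t)) (Category.assoc _ _ _)

lemma post_injective [Mono k.left] {T : Scheme.{u}} (y y' : El A B' T)
    (h : post k y = post k y') : y = y' := by
  obtain ⟨t, φ⟩ := y
  obtain ⟨t', φ'⟩ := y'
  obtain ⟨h1, h2⟩ := El.ext_iff' (φ ≫ k) (φ' ≫ k) h
  refine El.ext' h1 φ φ' ?_
  rw [← cancel_mono k.left, Category.assoc]
  exact h2

end Post

section Lands

variable (A B : Over S) (U : B.left.Opens)

/-- the open `U` of `B` as an object over `S`. -/
abbrev BU : Over S := Over.mk (U.ι ≫ B.hom)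

/-- the inclusion. -/
def kU : BU B U ⟶ B := Over.homMk U.ι rfl

instance : Mono (kU B U).left := (inferInstance : Mono U.ι)

lemma exists_post_iff {T : Scheme.{u}} (x : El A B T) :
    (∃ y : El A (BU B U) T, post (kU B U) y = x) ↔ Set.range x.2.left ⊆ U := by
  constructor
  · rintro ⟨y, rfl⟩
    rintro _ ⟨z, rfl⟩
    have : (post (kU B U) y).2.left z = U.ι (y.2.left z) := rfl
    rw [this]
    have h2 : U.ι (y.2.left z) ∈ Set.range U.ι := ⟨_, rfl⟩
    rwa [Scheme.Opens.range_ι] at h2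
  · intro h
    have h' : Set.range x.2.left ⊆ Set.range U.ι := by rwa [Scheme.Opens.range_ι]
    obtain ⟨t, φ⟩ := x
    have hl : IsOpenImmersion.lift U.ι φ.left h' ≫ U.ι = φ.left := IsOpenImmersion.lift_fac _ _ _
    refine ⟨⟨t, Over.homMk (IsOpenImmersion.lift U.ι φ.left h') (by
      change IsOpenImmersion.lift U.ι φ.left h' ≫ U.ι ≫ B.hom = _
      rw [← Category.assoc, hl]
      exact Over.w φ)⟩, ?_⟩
    exact congrArg (Sigma.mk t) (Over.OverMorphism.ext hl)

lemma isPullback_pbMap {T T' : Scheme.{u}} (a : T' ⟶ T) (t : T ⟶ S) :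
    IsPullback (pbMap A a t) (pullback.snd A.hom (a ≫ t)) (pullback.snd A.hom t) a := by
  refine IsPullback.of_right ?_ (pbMap_snd A a t) (IsPullback.of_hasPullback A.hom t)
  rw [pbMap_fst]
  exact IsPullback.of_hasPullback A.hom (a ≫ t)

/-- the locus of `T` over which the family does not land in `U`. -/
def bad {T : Scheme.{u}} (x : El A B T) : Set T :=
  pullback.snd A.hom x.1 '' (x.2.left ⁻¹' (U : Set B.left)ᶜ)

lemma isClosed_bad [IsFinite A.hom] {T : Scheme.{u}} (x : El A B T) : IsClosed (bad A B U x) :=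
  (pullback.snd A.hom x.1).isClosedMap _
    (IsClosed.preimage x.2.left.continuous U.2.isClosed_compl)

lemma range_elMap_subset_iff {T T' : Scheme.{u}} (a : T' ⟶ T) (x : El A B T) :
    Set.range (elMap a x).2.left ⊆ U ↔ Disjoint (Set.range a) (bad A B U x) := by
  rw [elMap_snd_left, Set.disjoint_left]
  constructor
  · rintro h _ ⟨q', rfl⟩ ⟨z, hz, hpz⟩
    obtain ⟨z', hz'1, hz'2⟩ := Scheme.exists_preimage_of_isPullback
      (isPullback_pbMap A a x.1) z q' hpz
    apply hz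
    have h3 : (pbMap A a x.1 ≫ x.2.left) z' ∈ (U : Set B.left) := h ⟨z', rfl⟩
    rw [Scheme.Hom.comp_apply, hz'1] at h3
    exact h3
  · rintro h _ ⟨z', rfl⟩
    by_contra hc
    refine h ⟨pullback.snd A.hom (a ≫ x.1) z', rfl⟩ ⟨pbMap A a x.1 z', ?_, ?_⟩
    · exact hc
    · rw [← Scheme.Hom.comp_apply, pbMap_snd, Scheme.Hom.comp_apply]

/-- the open of `T` over which the family lands in `U` and in `V`. -/
def WW [IsFinite A.hom] (V : S.Opens) {T : Scheme.{u}} (x : El A B T) : T.Opens :=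
  x.1 ⁻¹ᵁ V ⊓ ⟨(bad A B U x)ᶜ, (isClosed_bad A B U x).isOpen_compl⟩

lemma mem_WW [IsFinite A.hom] (V : S.Opens) {T : Scheme.{u}} (x : El A B T) (q : T) :
    q ∈ WW A B U V x ↔ x.1 q ∈ V ∧ q ∉ bad A B U x := Iff.rfl

end Lands

section Main

variable (A B : Over S)

/-- the index type of the open cover. -/
structure Idx where
  V : S.Opens
  U : B.left.Opens
  hV : IsAffineOpen V
  hU : IsAffineOpen U
  hle : U ≤ B.hom ⁻¹ᵁ V

variable {B} (hA : Mor2.IsFinLocFree A.hom)

include hA in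
theorem exists_repOn_idx (i : Idx B) :
    ∃ (M : Scheme.{u}) (ξ : El A (BU B i.U) M), (homFun A (BU B i.U)).RepOn i.V M ξ := by
  haveI : IsFinite A.hom := hA.1
  haveI : IsAffine i.V.toScheme := i.hV
  haveI : IsAffine i.U.toScheme := i.hU
  haveI : IsAffine (A.hom ⁻¹ᵁ i.V).toScheme := i.hV.preimage A.hom
  obtain ⟨hfin, hproj⟩ := finite_projective_restrict A.hom hA i.V i.hV
  have hr : Set.range (i.U.ι ≫ B.hom) ⊆ Set.range i.V.ι := by
    rw [Scheme.Opens.range_ι]
    rintro _ ⟨z, rfl⟩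
    exact i.hle z.2
  have hpY : IsOpenImmersion.lift i.V.ι (i.U.ι ≫ B.hom) hr ≫ i.V.ι = i.U.ι ≫ B.hom :=
    IsOpenImmersion.lift_fac _ _ _
  have hY : IsPullback (𝟙 i.U.toScheme) (IsOpenImmersion.lift i.V.ι (i.U.ι ≫ B.hom) hr)
      (BU B i.U).hom i.V.ι := by
    have h1 : IsPullback (𝟙 i.U.toScheme) (IsOpenImmersion.lift i.V.ι (i.U.ι ≫ B.hom) hr)
        (IsOpenImmersion.lift i.V.ι (i.U.ι ≫ B.hom) hr) (𝟙 _) := IsPullback.of_id_fst
    have h2 : IsPullback (𝟙 i.V.toScheme) (𝟙 _) i.V.ι i.V.ι := IsKernelPair.id_of_mono _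
    have h3 := h1.paste_vert h2
    rw [Category.comp_id, hpY] at h3
    exact h3
  have hX : IsPullback (A.hom ⁻¹ᵁ i.V).ι (A.hom ∣_ i.V) A.hom i.V.ι :=
    (isPullback_morphismRestrict A.hom i.V).flip
  obtain ⟨M, ξ, mB, -, -, hRep, -, -⟩ :=
    exists_repOn (X := A) (Y := BU B i.U) i.V.ι hX hY hfin hproj
  rw [Scheme.Opens.opensRange_ι] at hRep
  exact ⟨M, ξ, hRep⟩

/-- the local representing objects. -/
noncomputable def Mi (i : Idx B) : Scheme.{u} := (exists_repOn_idx A hA i).choose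

/-- the local universal families, with values in `U`. -/
noncomputable def ξ'i (i : Idx B) : El A (BU B i.U) (Mi A hA i) :=
  (exists_repOn_idx A hA i).choose_spec.choose

theorem repOn_i (i : Idx B) : (homFun A (BU B i.U)).RepOn i.V (Mi A hA i) (ξ'i A hA i) :=
  (exists_repOn_idx A hA i).choose_spec.choose_spec

/-- the local universal families. -/
noncomputable def ξi (i : Idx B) : El A B (Mi A hA i) := post (kU B i.U) (ξ'i A hA i)

theorem hmono_i (i : Idx B) (T : Scheme.{u}) (v v' : T ⟶ Mi A hA i)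
    (h : (homFun A B).pull v (ξi A hA i) = (homFun A B).pull v' (ξi A hA i)) : v = v' := by
  rw [pull_eq, pull_eq, ξi, ← post_elMap, ← post_elMap] at h
  have h2 := post_injective (kU B i.U) _ _ h
  exact ((repOn_i A hA i).2 T (elMap v (ξ'i A hA i)) ((repOn_i A hA i).1.pull v)).unique rfl
    h2.symm

variable [IsFinite A.hom]

theorem hW_i (i : Idx B) (T : Scheme.{u}) (x : El A B T) (T' : Scheme.{u}) (a : T' ⟶ T) :
    (∃ v : T' ⟶ Mi A hA i, (homFun A B).pull v (ξi A hA i) = (homFun A B).pull a x) ↔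
      Set.range a ⊆ WW A B i.U i.V x := by
  constructor
  · rintro ⟨v, hv⟩
    rw [pull_eq, pull_eq, ξi, ← post_elMap] at hv
    have h1 : Set.range (elMap a x).2.left ⊆ i.U := (exists_post_iff A B i.U _).mp ⟨_, hv⟩
    have h2 := (range_elMap_subset_iff A B i.U a x).mp h1
    rintro _ ⟨q', rfl⟩
    refine (mem_WW A B i.U i.V x _).mpr ⟨?_, ?_⟩
    · have h3 : (elMap a x).1 = (elMap v (ξ'i A hA i)).1 := by
        rw [← hv]
        rfl
      have h4 : (elMap v (ξ'i A hA i)).1 q' ∈ i.V := (repOn_i A hA i).1.pull v q'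
      have h5 : x.1 (a q') = (elMap a x).1 q' := rfl
      rw [h5, h3]
      exact h4
    · exact Set.disjoint_left.mp h2 ⟨q', rfl⟩
  · intro h
    have h2 : Disjoint (Set.range a) (bad A B i.U x) :=
      Set.disjoint_left.mpr (fun q hq => ((mem_WW A B i.U i.V x q).mp (h hq)).2)
    have h1 := (range_elMap_subset_iff A B i.U a x).mpr h2
    obtain ⟨y, hy⟩ := (exists_post_iff A B i.U _).mpr h1
    have hyV : (homFun A (BU B i.U)).Lands y i.V := by
      intro q'
      have h3 : y.1 = (elMap a x).1 := by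
        rw [← hy]
        rfl
      change y.1 q' ∈ i.V
      rw [h3]
      exact ((mem_WW A B i.U i.V x _).mp (h ⟨q', rfl⟩)).1
    obtain ⟨v, hv, -⟩ := (repOn_i A hA i).2 T' y hyV
    refine ⟨v, ?_⟩
    rw [pull_eq, pull_eq, ξi, ← post_elMap]
    change elMap v (ξ'i A hA i) = y at hv
    rw [hv, hy]

include hA in
theorem hcov_i (hAF : ∀ (s : S) (d : ℕ) (x : Fin d → B.left), (∀ k, B.hom (x k) = s) →
      ∃ U : B.left.Opens, IsAffineOpen U ∧ ∀ k, x k ∈ U)
    (T : Scheme.{u}) (x : El A B T) (q : T) : ∃ i : Idx B, q ∈ WW A B i.U i.V x := by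
  obtain ⟨(V : S.Opens), hV, hsV, -⟩ :=
    exists_isAffineOpen_mem_and_subset (x := x.1 q) (U := ⊤) trivial
  have hfin : ((pullback.snd A.hom x.1) ⁻¹' {q}).Finite :=
    (pullback.snd A.hom x.1).finite_preimage_singleton q
  obtain ⟨d, ⟨e⟩⟩ : ∃ d, Nonempty (Fin d ≃ ((pullback.snd A.hom x.1) ⁻¹' {q})) := by
    haveI := hfin.fintype
    exact ⟨_, ⟨(Fintype.equivFin _).symm⟩⟩
  have hz : ∀ k, pullback.snd A.hom x.1 (e k).1 = q := fun k => (e k).2
  have h1 : x.2.left ≫ B.hom = pullback.snd A.hom x.1 ≫ x.1 := by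
    rw [Over.w x.2]
    exact pullback.condition
  have hfz : ∀ k, B.hom (x.2.left (e k).1) = x.1 q := by
    intro k
    rw [← Scheme.Hom.comp_apply, h1, Scheme.Hom.comp_apply, hz]
  obtain ⟨U', hU', hxU'⟩ := hAF (x.1 q) d (fun k => x.2.left (e k).1) hfz
  obtain ⟨U, hU, hUO, -, hxU⟩ := FinAffine.exists_affineOpen_of_finite hU' (B.hom ⁻¹ᵁ V)
    (fun k => x.2.left (e k).1) hxU' (fun k => by
      change B.hom (x.2.left (e k).1) ∈ V
      rw [hfz]
      exact hsV)
  refine ⟨⟨V, U, hV, hU, hUO⟩, (mem_WW A B U V x q).mpr ⟨hsV, ?_⟩⟩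
  rintro ⟨z₀, hz₀, hpz₀⟩
  apply hz₀
  have h2 : (e (e.symm ⟨z₀, hpz₀⟩)).1 = z₀ := by rw [Equiv.apply_symm_apply]
  rw [← h2]
  exact hxU _

include hA in
/-- **Representability of the functor of morphisms.** -/
theorem exists_rep_of_AF (hAF : ∀ (s : S) (d : ℕ) (x : Fin d → B.left), (∀ k, B.hom (x k) = s) →
      ∃ U : B.left.Opens, IsAffineOpen U ∧ ∀ k, x k ∈ U) :
    ∃ (M : Scheme.{u}) (ξ : El A B M), (homFun A B).Rep M ξ :=
  exists_rep_of_open_cover (homFun A B) (fun i => Mi A hA i) (fun i => ξi A hA i)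
    (hmono_i A hA) (fun i T x => WW A B i.U i.V x) (hW_i A hA) (hcov_i A hA hAF)
    (homFun_isSheaf A B)

end Main

/-- **`Mor_S(Z, X)` is representable** for `Z` finite locally free and `X` with the AF property. -/
theorem isRepresentable_of_AF {Z X : Scheme.{u}} (g : Z ⟶ S) (f : X ⟶ S)
    (hg : Mor2.IsFinLocFree g)
    (hAF : ∀ (s : S) (d : ℕ) (x : Fin d → ↥X), (∀ k, f (x k) = s) →
      ∃ U : X.Opens, IsAffineOpen U ∧ ∀ k, x k ∈ U) :
    (Flatn.morS g f).IsRepresentable := by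
  haveI : IsFinite (Over.mk g).hom := hg.1
  obtain ⟨M, ξ, hR⟩ := exists_rep_of_AF (Over.mk g) (B := Over.mk f) hg hAF
  obtain ⟨r⟩ := representableBy_of_univ g f (Over.mk ξ.1) ξ.2 (univ_of_rep g f hR)
  exact ⟨_, ⟨r⟩⟩

end Groth.Agent.Lib.Helper10.MorSRep
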