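import Mathlib
import Groth.Agent.Lib.Helper10.MultTypeHom

/-!
# Homomorphisms between finite groups of multiplicative type: the representing scheme is finite
étale (the descent argument)
-/

set_option autoImplicit false
set_option backward.isDefEq.respectTransparency.types false
set_option maxHeartbeats 4000000
set_option synthInstance.maxHeartbeats 400000
universe u
open CategoryTheory CategoryTheory.Limits AlgebraicGeometry MonoidalCategory
  CartesianMonoidalCategory MonObj GrpObj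

namespace Groth.Agent.Lib.Helper10.MultTypeHom

open Groth.Agent.Lib.Helper21.GaPts Groth.Agent.Lib.Helper10.DiagHom
  Groth.Agent.Lib.Helper10.HomFamBC Groth.Agent.Lib.Helper10.WeilClosed

variable {S : Scheme.{u}} (G H : Over S) [GrpObj G] [GrpObj H]

/-- the local statement: after a base change trivialising both groups, the scheme of
homomorphisms is finite étale. -/
theorem finite_etale_local [IsFinite G.hom] [IsFinite H.hom] (A : Over S) (υ : G ⊗ A ⟶ H)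
    (hυ : IsHomFam υ)
    (huniv : ∀ (T : Over S) (Φ : G ⊗ T ⟶ H), IsHomFam Φ → ∃! w : T ⟶ A, (G ◁ w) ≫ υ = Φ)
    [IsAffineHom A.hom] [LocallyOfFiniteType A.hom]
    {U : Scheme.{u}} (g : U ⟶ S) (u : U) (M N : Type) [AddCommGroup M] [AddCommGroup N]
    (hN : AddGroup.FG N)
    (ψ₁ : Grp.mk (Red.bc g G) ≅ Grp.mk (Red.DS U M))
    (ψ₂ : Grp.mk (Red.bc g H) ≅ Grp.mk (Red.DS U N)) :
    IsFinite (pullback.snd A.hom g) ∧ Etale (pullback.snd A.hom g) := by
  obtain ⟨e₁, he₁⟩ := exists_iso_isMonHom ψ₁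
  obtain ⟨e₂, he₂⟩ := exists_iso_isMonHom ψ₂
  obtain ⟨υ', hυ', huniv'⟩ := represents_bc g υ hυ huniv
  obtain ⟨υ'', hυ'', huniv''⟩ := represents_iso e₁ e₂ υ' hυ' huniv'
  have hfin₁ : IsFinite (Red.DS U M).hom := by
    have : (Red.DS U M).hom = e₁.inv.left ≫ (Red.bc g G).hom := (Over.w e₁.inv).symm
    rw [this]
    haveI : IsFinite (Red.bc g G).hom :=
      MorphismProperty.pullback_snd (P := @IsFinite) G.hom g inferInstance
    infer_instance
  have hfin₂ : IsFinite (Red.DS U N).hom := by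
    have : (Red.DS U N).hom = e₂.inv.left ≫ (Red.bc g H).hom := (Over.w e₂.inv).symm
    rw [this]
    haveI : IsFinite (Red.bc g H).hom :=
      MorphismProperty.pullback_snd (P := @IsFinite) H.hom g inferInstance
    infer_instance
  haveI : Finite M := finite_of_isFinite_DS hfin₁ u
  haveI : Finite N := finite_of_isFinite_DS hfin₂ u
  haveI : Finite (N →+ M) := Finite.of_injective (fun f => (f : N → M)) DFunLike.coe_injective
  haveI : IsAffineHom (Red.bc g A).hom :=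
    MorphismProperty.pullback_snd (P := @IsAffineHom) A.hom g inferInstance
  haveI : LocallyOfFiniteType (Red.bc g A).hom :=
    MorphismProperty.pullback_snd (P := @LocallyOfFiniteType) A.hom g inferInstance
  exact finite_etale_of_represents hN (Red.bc g A) υ'' huniv'' hυ''

/-- **The scheme of homomorphisms between finite groups of multiplicative type is finite étale.** -/
theorem finite_etale_of_multType (hG : SGA3x.IsMultTypeFT G) [IsFinite G.hom]
    (hH : SGA3x.IsMultTypeFT H) [IsFinite H.hom] (A : Over S) (υ : G ⊗ A ⟶ H)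
    (hυ : IsHomFam υ)
    (huniv : ∀ (T : Over S) (Φ : G ⊗ T ⟶ H), IsHomFam Φ → ∃! w : T ⟶ A, (G ◁ w) ≫ υ = Φ)
    [IsAffineHom A.hom] [LocallyOfFiniteType A.hom] : IsFinite A.hom ∧ Etale A.hom := by
  obtain ⟨S₁, f₁, hfl₁, -, hq₁, hloc₁⟩ := hG
  obtain ⟨S₂, f₂, hfl₂, -, hq₂, hloc₂⟩ := hH
  haveI := hfl₁
  haveI := hfl₂
  let c : pullback f₁ f₂ ⟶ S := pullback.fst f₁ f₂ ≫ f₁
  haveI : Flat c := inferInstance
  have hq := fpqc_prod f₁ f₂ hq₁ hq₂
  have hlocal : ∀ s : (pullback f₁ f₂ : Scheme.{u}), ∃ U : (pullback f₁ f₂).Opens, s ∈ U ∧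
      IsFinite (pullback.snd A.hom (U.ι ≫ c)) ∧ Etale (pullback.snd A.hom (U.ι ≫ c)) := by
    intro s
    obtain ⟨U₁, hs₁, M, _, -, ⟨φ₁⟩⟩ := hloc₁ (pullback.fst f₁ f₂ s)
    obtain ⟨U₂, hs₂, N, _, hN, ⟨φ₂⟩⟩ := hloc₂ (pullback.snd f₁ f₂ s)
    let U : (pullback f₁ f₂).Opens := pullback.fst f₁ f₂ ⁻¹ᵁ U₁ ⊓ pullback.snd f₁ f₂ ⁻¹ᵁ U₂
    have hsU : s ∈ U := ⟨hs₁, hs₂⟩
    have hr₁ : Set.range (U.ι ≫ pullback.fst f₁ f₂) ⊆ Set.range U₁.ι := by
      rintro _ ⟨z, rfl⟩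
      rw [Scheme.Opens.range_ι]
      exact z.2.1
    have hr₂ : Set.range (U.ι ≫ pullback.snd f₁ f₂) ⊆ Set.range U₂.ι := by
      rintro _ ⟨z, rfl⟩
      rw [Scheme.Opens.range_ι]
      exact z.2.2
    let b₁ : U.toScheme ⟶ U₁.toScheme := IsOpenImmersion.lift U₁.ι _ hr₁
    let b₂ : U.toScheme ⟶ U₂.toScheme := IsOpenImmersion.lift U₂.ι _ hr₂
    have hb₁ : b₁ ≫ U₁.ι = U.ι ≫ pullback.fst f₁ f₂ := IsOpenImmersion.lift_fac _ _ _
    have hb₂ : b₂ ≫ U₂.ι = U.ι ≫ pullback.snd f₁ f₂ := IsOpenImmersion.lift_fac _ _ _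
    have hg₁ : U.ι ≫ c = b₁ ≫ (U₁.ι ≫ f₁) := by
      change U.ι ≫ pullback.fst f₁ f₂ ≫ f₁ = _
      rw [← Category.assoc, ← hb₁, Category.assoc]
    have hg₂ : U.ι ≫ c = b₂ ≫ (U₂.ι ≫ f₂) := by
      change U.ι ≫ pullback.fst f₁ f₂ ≫ f₁ = _
      rw [pullback.condition, ← Category.assoc, ← hb₂, Category.assoc]
    refine ⟨U, hsU, ?_⟩
    exact finite_etale_local G H A υ hυ huniv (U.ι ≫ c) ⟨s, hsU⟩ M N hN
      (trivIso G (U₁.ι ≫ f₁) b₁ (U.ι ≫ c) hg₁ M φ₁) (trivIso H (U₂.ι ≫ f₂) b₂ (U.ι ≫ c) hg₂ N φ₂)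
  have hpaste : ∀ U : (pullback f₁ f₂).Opens, ∃ l, IsPullback l (pullback.snd A.hom (U.ι ≫ c))
      (pullback.snd A.hom c) U.ι := fun U =>
    ⟨_, IsPullback.of_right' (IsPullback.of_hasPullback A.hom (U.ι ≫ c))
      (IsPullback.of_hasPullback A.hom c)⟩
  haveI := Groth.Agent.Lib.Helper10.FinLocFreeDescent.isFinite_descendsAlong.{u}
  constructor
  · refine of_fpqc @IsFinite hq (IsPullback.of_hasPullback A.hom c) ?_
    refine of_local_isPullback @IsFinite _ (fun s => ?_)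
    obtain ⟨U, hsU, h1, -⟩ := hlocal s
    obtain ⟨l, hl⟩ := hpaste U
    exact ⟨U, _, l, _, hsU, hl, h1⟩
  · refine of_fpqc @Etale hq (IsPullback.of_hasPullback A.hom c) ?_
    refine of_local_isPullback @Etale _ (fun s => ?_)
    obtain ⟨U, hsU, -, h2⟩ := hlocal s
    obtain ⟨l, hl⟩ := hpaste U
    exact ⟨U, _, l, _, hsU, hl, h2⟩

end Groth.Agent.Lib.Helper10.MultTypeHom
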