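import Mathlib
import Groth.Agent.Lib.Helper10.MultTypeLocus
import Groth.Agent.Lib.Helper10.DiagHomFlat
import Groth.Agent.Lib.Helper10.FinLocFreeDescent

/-!
# The faithfully flat locus of a homomorphism of groups of multiplicative type
-/

set_option autoImplicit false
set_option backward.isDefEq.respectTransparency.types false
set_option maxHeartbeats 4000000
set_option synthInstance.maxHeartbeats 400000
universe u
open CategoryTheory CategoryTheory.Limits AlgebraicGeometry MonoidalCategory
  CartesianMonoidalCategory MonObj GrpObj

namespace Groth.Agent.Lib.Helper10.MultTypeLocus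

open Groth.Agent.Lib.Helper10.DiagHomProps Groth.Agent.Lib.Helper10.DiagHomFlat

theorem compat_flat : Compat (@Flat ⊓ @Surjective : MorphismProperty Scheme.{u})
    (fun {M N} _ _ f => Function.Injective f) where
  of_grp W M N _ _ f hf := flat_surjective_of_injective f hf
  to_grp W W' _ x M N _ _ f h := by
    haveI : Flat ((Red.DSmap W f) ▷ W').left := h.1
    haveI : Surjective ((Red.DSmap W f) ▷ W').left := h.2
    exact injective_of_epi W' x f (Flat.epi_of_flat_of_surjective _)

variable {S : Scheme.{u}} {G H : Over S} [GrpObj G] [GrpObj H] (u : G ⟶ H) [IsMonHom u]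

theorem clopen_flat (hG : SGA3x.IsMultTypeFT G) (hH : SGA3x.IsMultTypeFT H) :
    ∃ U : S.Opens, IsClosed (U : Set S) ∧
      (∀ s : S, s ∈ U ↔ (Flat ((Over.pullback (S.fromSpecResidueField s)).map u).left ∧
        Surjective ((Over.pullback (S.fromSpecResidueField s)).map u).left)) ∧
      (Flat ((Over.pullback U.ι).map u).left ∧ Surjective ((Over.pullback U.ι).map u).left) := by
  haveI := Groth.Agent.Lib.Helper10.FinLocFreeDescent.flat_descendsAlong.{u}
  exact clopen_locus_multType u (@Flat ⊓ @Surjective : MorphismProperty Scheme.{u}) _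
    compat_flat hG hH

end Groth.Agent.Lib.Helper10.MultTypeLocus
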