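import Mathlib
import Groth.Prelude.Def_SGA3x
import Groth.Agent.Lib.Helper10.WeilClosed8

/-!
# Groups of multiplicative type are fpqc-locally affine with locally projective coordinate ring
-/

set_option autoImplicit false
set_option backward.isDefEq.respectTransparency.types false
set_option maxHeartbeats 4000000
set_option synthInstance.maxHeartbeats 400000
universe u
open CategoryTheory CategoryTheory.Limits AlgebraicGeometry MonoidalCategory
  CartesianMonoidalCategory MonObj GrpObj

namespace Groth.Agent.Lib.Helper10.WeilClosed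

/-- `Spec` of a ring map with projective target is `AffLocProj`. -/
theorem affLocProj_SpecMap {R B : CommRingCat.{u}} (φ : R ⟶ B)
    (h : letI := φ.hom.toAlgebra; Module.Projective R B) : AffLocProj (Spec.map φ) := by
  refine affLocProj_of_app _ (fun s => ⟨⊤, isAffineOpen_top _, trivial, ?_, ?_⟩)
  · exact isAffineOpen_top _
  · exact projective_of_iso (α := φ) (Scheme.ΓSpecIso R).inv (Scheme.ΓSpecIso B).inv
      (Scheme.ΓSpecIso_inv_naturality φ) h

theorem affLocProj_diag (R : Type u) [CommRing R] (M : Type) [AddCommGroup M] :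
    AffLocProj (Red.diag R M).hom := by
  change AffLocProj (Spec.map (CommRingCat.ofHom
    (algebraMap R (MonoidAlgebra R (Multiplicative M)))))
  refine affLocProj_SpecMap _ ?_
  have e : (CommRingCat.ofHom (algebraMap R (MonoidAlgebra R (Multiplicative M)))).hom.toAlgebra =
      (inferInstance : Algebra R (MonoidAlgebra R (Multiplicative M))) :=
    Algebra.algebra_ext _ _ (fun r => rfl)
  rw [e]
  exact Module.Projective.of_free

theorem affLocProj_DS (U : Scheme.{u}) (M : Type) [AddCommGroup M] :
    AffLocProj (Red.DS U M).hom :=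
  affLocProj_of_isPullback (affLocProj_diag (ULift.{u} ℤ) M) (IsPullback.of_hasPullback _ _)

/-- groups of multiplicative type are, fpqc locally, affine with locally projective coordinate
ring. -/
theorem affLocProj_of_multType {S S' : Scheme.{u}} (H : Over S) [GrpObj H] (f : S' ⟶ S)
    (h : ∀ s' : S', ∃ U : S'.Opens, s' ∈ U ∧ ∃ (M : Type) (_ : AddCommGroup M), AddGroup.FG M ∧
      Nonempty (Grp.mk (Red.bc (U.ι ≫ f) H) ≅ Grp.mk (Red.DS (U : Scheme.{u}) M))) :
    AffLocProj (pullback.snd H.hom f) := by
  refine affLocProj_of_local _ (fun s' => ?_)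
  obtain ⟨U, hs', M, _, -, ⟨φ⟩⟩ := h s'
  let ψ : Red.bc (U.ι ≫ f) H ≅ Red.DS (U : Scheme.{u}) M := (Grp.forget _).mapIso φ
  obtain ⟨l, h0⟩ : ∃ l, IsPullback l (pullback.snd H.hom (U.ι ≫ f)) (pullback.snd H.hom f) U.ι :=
    ⟨_, IsPullback.of_right' (IsPullback.of_hasPullback H.hom (U.ι ≫ f))
      (IsPullback.of_hasPullback H.hom f)⟩
  refine ⟨U, hs', (Red.DS (U : Scheme.{u}) M).left, ψ.inv.left ≫ l, (Red.DS (U : Scheme.{u}) M).hom,
    ?_, affLocProj_DS _ M⟩
  refine IsPullback.of_iso h0 ((Over.forget _).mapIso ψ) (Iso.refl _) (Iso.refl _) (Iso.refl _)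
    ?_ ?_ (by simp) (by simp)
  · simp only [Iso.refl_hom, Category.comp_id, Functor.mapIso_hom, Over.forget_map]
    rw [← Category.assoc, ← Over.comp_left, Iso.hom_inv_id, Over.id_left]
    exact (Category.id_comp _).symm
  · simp only [Iso.refl_hom, Category.comp_id, Functor.mapIso_hom, Over.forget_map]
    exact (Over.w ψ.hom).symm

end Groth.Agent.Lib.Helper10.WeilClosed
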