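import Mathlib
import Groth.Prelude.Def_W4bk4git07Quot
import Groth.Prelude.Def_ChGrp
import Groth.Agent.Lib.Helper10.BCAct1
import Groth.Agent.Lib.Helper10.KPts1
import Groth.Agent.Lib.Helper10.ProperQuot1

/-!
# Quotient by a normal subgroup: closedness of orbits upstairs and downstairs
-/

set_option autoImplicit false
set_option backward.isDefEq.respectTransparency.types false
set_option maxHeartbeats 4000000
set_option synthInstance.maxHeartbeats 400000
universe u
open CategoryTheory CategoryTheory.Limits AlgebraicGeometry MonoidalCategory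
  CartesianMonoidalCategory MonObj GrpObj TopologicalSpace

namespace Groth.Agent.Lib.Helper10.NQuot

open Groth.Agent.Lib.Helper10 Groth.Agent.Lib.Helper10.HomSp

section General

variable {S : Scheme.{u}} {H N Q X Y : Over S} [GrpObj H] [GrpObj N] [GrpObj Q]
  (i : N ⟶ H) (q : H ⟶ Q)
  (a : AlgGrp.Action H X) (aN : AlgGrp.Action N X) (haN : aN.act = (i ▷ X) ≫ a.act)
  (π : X ⟶ Y) (aQ : AlgGrp.Action Q Y) (hequiv : (q ⊗ₘ π) ≫ aQ.act = a.act ≫ π)

include hequiv in
theorem psi_comp {T : Over S} (f : T ⟶ X) :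
    GIT.psi a f ≫ (π ▷ T) = (q ▷ T) ≫ GIT.psi aQ (f ≫ π) := by
  unfold GIT.psi
  apply CartesianMonoidalCategory.hom_ext
  · simp only [Category.assoc, whiskerRight_fst, lift_fst_assoc, lift_fst]
    rw [← hequiv, ← Category.assoc, ← Category.assoc]
    congr 1
    apply CartesianMonoidalCategory.hom_ext <;> simp
  · simp

/-- multiplication by `N` on the left of `H ⊗ T`. -/
noncomputable def mN (T : Over S) : N ⊗ (H ⊗ T) ⟶ H ⊗ T :=
  lift ((fst N (H ⊗ T) ≫ i) * (snd N (H ⊗ T) ≫ fst H T)) (snd N (H ⊗ T) ≫ snd H T)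

include haN in
theorem mN_psi {T : Over S} (f : T ⟶ X) (aN' : AlgGrp.Action N (X ⊗ T))
    (h1 : aN'.act ≫ fst X T = (N ◁ fst X T) ≫ aN.act)
    (h2 : aN'.act ≫ (π ▷ T) = snd N (X ⊗ T) ≫ (π ▷ T)) :
    mN i T ≫ GIT.psi a f = (N ◁ GIT.psi a f) ≫ aN'.act := by
  have h2' : aN'.act ≫ snd X T = snd N (X ⊗ T) ≫ snd X T := by
    have := congrArg (fun t => t ≫ snd Y T) h2
    simpa only [Category.assoc, whiskerRight_snd] using this
  apply CartesianMonoidalCategory.hom_ext
  · rw [Category.assoc, Category.assoc, h1]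
    unfold GIT.psi mN
    rw [lift_fst, ← MonoidalCategory.whiskerLeft_comp_assoc, lift_fst, haN,
      lift_whiskerLeft_assoc, AlgGrp.Action.lift_mul_act]
    have e1 : lift (snd N (H ⊗ T) ≫ fst H T) ((snd N (H ⊗ T) ≫ snd H T) ≫ f) =
        snd N (H ⊗ T) ≫ (H ◁ f) := by
      apply CartesianMonoidalCategory.hom_ext <;> simp
    have e2 : N ◁ ((H ◁ f) ≫ a.act) ≫ (i ▷ X) =
        lift (fst N (H ⊗ T) ≫ i) (snd N (H ⊗ T) ≫ (H ◁ f) ≫ a.act) := by
      apply CartesianMonoidalCategory.hom_ext <;> simp
    rw [e1, ← Category.assoc (N ◁ _), e2, Category.assoc]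
  · rw [Category.assoc, Category.assoc, h2']
    unfold GIT.psi mN
    simp

include haN hequiv in
/-- The `H`-orbit of a `T`-point `f` of `X` is the preimage of the `Q`-orbit of `f ≫ π`. -/
theorem range_psi_eq (hπ : GIT.IsGeomQuot aN π) (hq : Function.Surjective q.left)
    {T : Over S} (f : T ⟶ X) :
    Set.range (GIT.psi a f).left =
      (π ▷ T).left ⁻¹' Set.range (GIT.psi aQ (f ≫ π)).left := by
  apply Set.Subset.antisymm
  · rintro _ ⟨w, rfl⟩
    refine ⟨(q ▷ T).left w, ?_⟩
    have := congrArg (fun t => t.left w) (psi_comp q a π aQ hequiv f)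
    simp only [Over.comp_left, Scheme.Hom.comp_apply] at this
    exact this.symm
  · intro z hz
    obtain ⟨v, hv⟩ := hz
    -- lift `v` to `H ⊗ T`
    have hqT : Function.Surjective (q ▷ T).left := by
      have h1 : Surjective q.left := ⟨hq⟩
      have h2 : Surjective (q ▷ T).left :=
        MorphismProperty.of_isPullback
          ((isPullback_whiskerRight_fst q T).map (Over.forget S)).flip h1
      exact h2.1
    obtain ⟨w, rfl⟩ := hqT v
    -- the induced action of `N` on `X ⊗ T`
    have hpb : IsPullback (fst X T) (π ▷ T) π (fst Y T) := (isPullback_whiskerRight_fst π T).flip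
    obtain ⟨aN', h1, h2⟩ := BCAct.exists_induced_action aN π (fst X T) (π ▷ T) (fst Y T) hpb hπ.inv
    have horb' := BCAct.surjective_PsiY hpb hπ.inv aN' h1 h2 hπ.orbit
    -- `z` and `z' = psi a f w` lie in the same fibre
    have hzz : (π ▷ T).left z = (π ▷ T).left ((GIT.psi a f).left w) := by
      rw [← hv]
      have := congrArg (fun t => t.left w) (psi_comp q a π aQ hequiv f)
      simp only [Over.comp_left, Scheme.Hom.comp_apply] at this
      exact this.symm
    obtain ⟨p, hp1, hp2⟩ := Scheme.Pullback.exists_preimage_pullback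
      (f := (π ▷ T).left) (g := (π ▷ T).left) z ((GIT.psi a f).left w) hzz
    obtain ⟨u, hu⟩ := horb' p
    have hu1 : aN'.act.left u = z := by
      rw [← hp1, ← hu]
      have : GIT.PsiY aN' (π ▷ T) h2 ≫ pullback.fst (π ▷ T).left (π ▷ T).left = aN'.act.left :=
        pullback.lift_fst _ _ _
      exact (congrArg (fun t => t.base u) this).symm
    have hu2 : (snd N (X ⊗ T)).left u = (GIT.psi a f).left w := by
      rw [← hp2, ← hu]
      have : GIT.PsiY aN' (π ▷ T) h2 ≫ pullback.snd (π ▷ T).left (π ▷ T).left =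
          (snd N (X ⊗ T)).left := pullback.lift_snd _ _ _
      exact (congrArg (fun t => t.base u) this).symm
    -- a point of `N ⊗ (H ⊗ T)` over `u` and `w`
    have sq : IsPullback (N ◁ GIT.psi a f).left (snd N (H ⊗ T)).left (snd N (X ⊗ T)).left
        (GIT.psi a f).left := (isPullback_whiskerLeft_snd N (GIT.psi a f)).map (Over.forget S)
    obtain ⟨v', hv'1, hv'2⟩ := ProperQuot.exists_preimage_of_isPullback sq u w hu2
    refine ⟨(mN i T).left v', ?_⟩
    have := congrArg (fun t => t.left v') (mN_psi i a aN haN π f aN' h1 h2)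
    simp only [Over.comp_left, Scheme.Hom.comp_apply] at this
    rw [this, hv'1, hu1]

end General

section Field

variable {k : Type u} [Field k] {H N Q X Y : Over (Spec (CommRingCat.of k))}
  [GrpObj H] [GrpObj N] [GrpObj Q]
  (i : N ⟶ H) (q : H ⟶ Q)
  (a : AlgGrp.Action H X) (aN : AlgGrp.Action N X) (haN : aN.act = (i ▷ X) ≫ a.act)
  (π : X ⟶ Y) (aQ : AlgGrp.Action Q Y) (hequiv : (q ⊗ₘ π) ≫ aQ.act = a.act ≫ π)

/-- lifting geometric points along a surjective morphism locally of finite type. -/
theorem exists_lift_geomPoint [LocallyOfFiniteType X.hom] (hs : Function.Surjective π.left)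
    (Ω : Type u) [Field Ω] [IsAlgClosed Ω] (T : Over (Spec (CommRingCat.of k)))
    (e : T.left ≅ Spec (CommRingCat.of Ω)) (fY : T ⟶ Y) : ∃ f : T ⟶ X, f ≫ π = fY := by
  haveI : LocallyOfFiniteType (π.left ≫ Y.hom) := by
    rw [Over.w π]
    infer_instance
  haveI : LocallyOfFiniteType π.left := locallyOfFiniteType_of_comp π.left Y.hom
  haveI : Surjective π.left := ⟨hs⟩
  let F := pullback π.left fY.left
  let σ : F ⟶ Spec (CommRingCat.of Ω) := pullback.snd π.left fY.left ≫ e.hom
  haveI : LocallyOfFiniteType σ := inferInstance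
  haveI : Surjective (pullback.snd π.left fY.left) := inferInstance
  haveI : Nonempty F := by
    obtain ⟨z, -⟩ := (pullback.snd π.left fY.left).surjective (e.inv (KPts.pt Ω))
    exact ⟨z⟩
  obtain ⟨s, hs⟩ := KPts.exists_section σ
  have hs' : s ≫ pullback.snd π.left fY.left = e.inv := by
    have : (s ≫ pullback.snd π.left fY.left) ≫ e.hom = 𝟙 _ := by
      rw [Category.assoc]
      exact hs
    rw [← Category.comp_id (s ≫ pullback.snd π.left fY.left), ← e.hom_inv_id,
      ← Category.assoc, this, Category.id_comp]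
  have hw : (e.hom ≫ s ≫ pullback.fst π.left fY.left) ≫ π.left = fY.left := by
    rw [Category.assoc, Category.assoc, pullback.condition, ← Category.assoc s, hs',
      e.hom_inv_id_assoc]
  refine ⟨Over.homMk (e.hom ≫ s ≫ pullback.fst π.left fY.left) ?_, ?_⟩
  · rw [← Over.w π, ← Category.assoc, hw]
    exact Over.w fY
  · ext
    exact hw

include haN hequiv in
theorem isClosedAction_iff [LocallyOfFiniteType X.hom] (hπ : GIT.IsGeomQuot aN π)
    (hq : Function.Surjective q.left) :
    GIT.IsClosedAction aQ ↔ GIT.IsClosedAction a := by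
  constructor
  · intro h Ω _ _ T e f
    have := h Ω T e (f ≫ π)
    change IsClosed (Set.range (GIT.psi a f).left)
    rw [range_psi_eq i q a aN haN π aQ hequiv hπ hq f]
    exact this.preimage (π ▷ T).left.continuous
  · intro h Ω _ _ T e fY
    obtain ⟨f, rfl⟩ := exists_lift_geomPoint π hπ.surj Ω T e fY
    have h1 := h Ω T e f
    change IsClosed (Set.range (GIT.psi a f).left) at h1
    rw [range_psi_eq i q a aN haN π aQ hequiv hπ hq f] at h1
    have hqm : Topology.IsQuotientMap (π ▷ T).left :=
      hπ.subm _ _ _ ((isPullback_whiskerRight_fst π T).map (Over.forget _))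
    exact hqm.isClosed_preimage.mp h1

end Field

end Groth.Agent.Lib.Helper10.NQuot
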