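import Mathlib
import Groth.Agent.Lib.Helper10.GaTorsor1
import Groth.Agent.Lib.Helper10.FpqcBal1
import Groth.Agent.Lib.Helper10.HomSp1
import Groth.Prelude.Def_NonAbH2

/-!
# Mapping properties pass from a group scheme to its torsors (formal part)

`D : Over S ⥤ Over S` with `ε : D ⟶ 𝟭` (e.g. "generic fibre, seen over `S`") and a class `𝒴` of
test objects.  If `g ↦ ε_Y ≫ g` is bijective on `Hom(Y, G)` for all `Y ∈ 𝒴`, the same holds for
every pseudo-torsor `P` under `G` such that `P × Y → Y` has fpqc-local sections for `Y ∈ 𝒴`.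
-/

set_option autoImplicit false
set_option backward.isDefEq.respectTransparency.types false
set_option maxHeartbeats 4000000
set_option synthInstance.maxHeartbeats 400000
set_option linter.unusedSectionVars false
set_option linter.style.haveILetI false
universe u
open CategoryTheory CategoryTheory.Limits AlgebraicGeometry MonoidalCategory
  CartesianMonoidalCategory MonObj GrpObj

namespace Groth.Agent.Lib.Helper10.NeronTorsor

open Groth.Agent.Lib.Helper10.HomSp Groth.Agent.Lib.Helper10.GaTorsor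

variable {S : Scheme.{u}} {G P : Over S} [GrpObj G] (a : AlgGrp.Action G P)
  (ha : NonAbH1.IsPseudoTorsorSch a)
  (D : Over S ⥤ Over S) (ε : D ⟶ 𝟭 (Over S)) (𝒴 : Over S → Prop)

/-- injectivity of restriction along `ε` for maps into `Z`, for test objects in `𝒴`. -/
def Inj (Z : Over S) : Prop :=
  ∀ Y : Over S, 𝒴 Y → Function.Injective (fun g : Y ⟶ Z => ε.app Y ≫ g)

/-- surjectivity of restriction along `ε` for maps into `Z`, for test objects in `𝒴`. -/
def Surj (Z : Over S) : Prop :=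
  ∀ Y : Over S, 𝒴 Y → Function.Surjective (fun g : Y ⟶ Z => ε.app Y ≫ g)

include ha in
theorem inj_torsor (hG : Inj D ε 𝒴 G) : Inj D ε 𝒴 P := by
  intro Y hY x y hxy
  change ε.app Y ≫ x = ε.app Y ≫ y at hxy
  have h1 : ε.app Y ≫ diff a ha y x = ε.app Y ≫ (1 : Y ⟶ G) := by
    rw [comp_diff, MonObj.comp_one]
    symm
    apply eq_diff
    rw [HomSp.one_smul, hxy]
  have h2 : diff a ha y x = 1 := hG Y hY h1
  have h3 := diff_smul a ha y x
  rw [h2, HomSp.one_smul] at h3
  exact h3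

include ha in
theorem surj_torsor (hGi : Inj D ε 𝒴 G) (hGs : Surj D ε 𝒴 G)
    (h𝒴 : ∀ Y, 𝒴 Y → 𝒴 (P ⊗ Y))
    (hloc : ∀ Y, 𝒴 Y → NonAbH1.IsLocallyTrivialFor Scheme.fpqcPrecoverage
      (Over.mk (snd P Y).left : Over Y.left))
    (hepi : ∀ Y, 𝒴 Y → Epi (D.map (snd P Y))) : Surj D ε 𝒴 P := by
  intro Y hY u
  change ∃ v : Y ⟶ P, ε.app Y ≫ v = u
  have hW := h𝒴 Y hY
  -- the difference on `D (P ⊗ Y)`
  obtain ⟨h, hh⟩ := hGs (P ⊗ Y) hW
    (diff a ha (D.map (snd P Y) ≫ u) (ε.app (P ⊗ Y) ≫ fst P Y))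
  change ε.app (P ⊗ Y) ≫ h = _ at hh
  let f : P ⊗ Y ⟶ P := smul a h (fst P Y)
  have hf : ε.app (P ⊗ Y) ≫ f = D.map (snd P Y) ≫ u := by
    change ε.app (P ⊗ Y) ≫ smul a h (fst P Y) = _
    rw [comp_smul, hh, diff_smul]
  have hnat : ∀ {A B : Over S} (k : A ⟶ B), ε.app A ≫ k = D.map k ≫ ε.app B := fun k =>
    (ε.naturality k).symm
  -- `f` is constant along the fibres of `snd`
  have hW2 := h𝒴 (P ⊗ Y) hW
  have hPinj := inj_torsor a ha D ε 𝒴 hGi
  have huniv : (P ◁ snd P Y) ≫ f = snd P (P ⊗ Y) ≫ f := by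
    apply hPinj _ hW2
    change ε.app _ ≫ (P ◁ snd P Y) ≫ f = ε.app _ ≫ snd P (P ⊗ Y) ≫ f
    rw [← Category.assoc, hnat, Category.assoc, hf, ← Category.assoc (ε.app _), hnat,
      Category.assoc, hf, ← Category.assoc, ← Category.assoc, ← D.map_comp, ← D.map_comp,
      whiskerLeft_snd]
  obtain ⟨v, hv, -⟩ := Groth.Agent.Lib.Helper10.FpqcBal.exists_unique_desc_over (snd P Y)
    (hloc Y hY) f (by
      intro W p₁ p₂ hp
      have e1 : lift (p₁ ≫ fst P Y) p₂ ≫ (P ◁ snd P Y) = p₁ := by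
        apply CartesianMonoidalCategory.hom_ext
        · rw [Category.assoc, whiskerLeft_fst, lift_fst]
        · rw [Category.assoc, whiskerLeft_snd, ← Category.assoc, lift_snd, hp]
      have e2 : lift (p₁ ≫ fst P Y) p₂ ≫ snd P (P ⊗ Y) = p₂ := lift_snd _ _
      rw [← e1, Category.assoc, huniv, ← Category.assoc, e2])
  refine ⟨v, ?_⟩
  haveI := hepi Y hY
  rw [← cancel_epi (D.map (snd P Y)), ← hf, ← hv, ← Category.assoc, ← hnat, Category.assoc]

end Groth.Agent.Lib.Helper10.NeronTorsor
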