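import Mathlib
import Groth.Agent.Lib.Helper10.NeronTorsor1
import Groth.Agent.Lib.Helper10.QuotFibre1
import Groth.Agent.Lib.Helper6.TorsorProps
import Groth.Agent.Lib.Helper25.ProperDescent
import Groth.Agent.Lib.Helper24.EtSheaf
import Groth.Agent.Lib.Helper12.GrpLim4
import Groth.Agent.S0412
import Groth.Prelude.Def_Neron

/-!
# A torsor under a Néron model is a Néron model
-/

set_option autoImplicit false
set_option backward.isDefEq.respectTransparency.types false
set_option maxHeartbeats 4000000
set_option synthInstance.maxHeartbeats 400000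
set_option linter.unusedSectionVars false
set_option linter.style.haveILetI false
universe u
open CategoryTheory CategoryTheory.Limits AlgebraicGeometry MonoidalCategory
  CartesianMonoidalCategory MonObj GrpObj

namespace Groth.Agent.Lib.Helper10.NeronTorsor

section General

variable {S U : Scheme.{u}} (j : U ⟶ S)

/-- "restrict to `U`, seen over `S`". -/
noncomputable abbrev DD : Over S ⥤ Over S := Over.pullback j ⋙ Over.map j

noncomputable abbrev εε : DD j ⟶ 𝟭 (Over S) := (Over.mapPullbackAdj j).counit

theorem homEquiv_counit_comp {Y Z : Over S} (g : Y ⟶ Z) :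
    (Over.mapPullbackAdj j).homEquiv ((Over.pullback j).obj Y) Z ((εε j).app Y ≫ g) =
      (Over.pullback j).map g := by
  rw [Adjunction.homEquiv_unit, Functor.map_comp, ← Category.assoc]
  have := (Over.mapPullbackAdj j).right_triangle_components Y
  rw [this, Category.id_comp]

theorem bijective_iff (Y Z : Over S) :
    Function.Bijective (fun g : Y ⟶ Z => (Over.pullback j).map g ≫ (Iso.refl _).hom) ↔
      Function.Bijective (fun g : Y ⟶ Z => (εε j).app Y ≫ g) := by
  have : (fun g : Y ⟶ Z => (Over.pullback j).map g ≫ (Iso.refl _).hom) =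
      (Over.mapPullbackAdj j).homEquiv ((Over.pullback j).obj Y) Z ∘
        (fun g : Y ⟶ Z => (εε j).app Y ≫ g) := by
    funext g
    change _ = (Over.mapPullbackAdj j).homEquiv ((Over.pullback j).obj Y) Z ((εε j).app Y ≫ g)
    rw [homEquiv_counit_comp]
    exact Category.comp_id _
  rw [this, Equiv.comp_bijective]

theorem epi_DD_map {A B : Over S} (w : A ⟶ B) [Flat w.left] [Surjective w.left] :
    Epi ((DD j).map w) := by
  have hpb := Groth.Agent.Lib.Helper12.H12GrpLim.isPullback_map_left j w
  haveI : Flat ((Over.pullback j).map w).left :=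
    MorphismProperty.of_isPullback (P := @Flat) hpb inferInstance
  haveI : Surjective ((Over.pullback j).map w).left :=
    MorphismProperty.of_isPullback (P := @Surjective) hpb inferInstance
  haveI : Epi ((DD j).map w).left := by
    change Epi ((Over.pullback j).map w).left
    exact Flat.epi_of_flat_of_surjective _
  exact Over.epi_of_epi_left _

/-- smooth surjective morphisms have étale-local (hence fpqc-local) sections. -/
theorem isLocallyTrivialFor_of_smooth {T : Scheme.{u}} (X : Over T) [Smooth X.hom]
    [Surjective X.hom] : NonAbH1.IsLocallyTrivialFor Scheme.fpqcPrecoverage X := by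
  choose S' g s' hget hgs t ht using
    fun x : ↥T => Groth.Agent.S0412.result X.hom x (Surjective.surj (f := X.hom) x)
  refine ⟨Presieve.ofArrows S' g, ?_, ?_⟩
  · apply Scheme.fppfPrecoverage_le_fpqcPrecoverage
    apply Groth.Agent.Lib.Helper24.EtSheaf.etalePrecoverage_le
    show _ ∈ Scheme.precoverage @Etale T
    rw [Scheme.ofArrows_mem_precoverage_iff]
    exact ⟨fun x => ⟨x, s' x, hgs x⟩, hget⟩
  · rintro _ _ ⟨x⟩
    exact ⟨t x, ht x⟩

end General

section Main

variable {S U : Scheme.{u}} (j : U ⟶ S) {G P : Over S} [GrpObj G] (a : AlgGrp.Action G P)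

/-- the mapping property with respect to `j` for smooth test schemes passes to fppf torsors under
smooth groups. -/
theorem bijective_torsor [Smooth G.hom]
    (h : NonAbH1.IsTorsorFor Scheme.fppfPrecoverage a)
    (hG : ∀ Y : Over S, Smooth Y.hom →
      Function.Bijective (fun g : Y ⟶ G => (εε j).app Y ≫ g)) :
    ∀ Y : Over S, Smooth Y.hom →
      Function.Bijective (fun g : Y ⟶ P => (εε j).app Y ≫ g) := by
  have h' : NonAbH1.IsTorsorFor Scheme.fpqcPrecoverage a :=
    Groth.Agent.Lib.Helper10.QuotFibre.isTorsorFor_mono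
      Scheme.fppfPrecoverage_le_fpqcPrecoverage h
  haveI : Smooth P.hom := Groth.Agent.Lib.Helper6.Torsor.smooth_of_isTorsorFor_fpqc a h'
  haveI : Surjective G.hom := Groth.Agent.Lib.Helper6.Torsor.surjective_hom_of_grpObj
  haveI : Surjective P.hom := Groth.Agent.Lib.Helper6.Torsor.surjective_of_isTorsorFor_fpqc a h'
  have hsm : ∀ Y : Over S, Smooth Y.hom → Smooth (P ⊗ Y).hom := by
    intro Y hY
    rw [Over.tensorObj_hom]
    infer_instance
  have hGi : Inj (DD j) (εε j) (fun Y => Smooth Y.hom) G := fun Y hY => (hG Y hY).1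
  have hGs : Surj (DD j) (εε j) (fun Y => Smooth Y.hom) G := fun Y hY => (hG Y hY).2
  have hsnd : ∀ Y : Over S, (snd P Y).left = pullback.snd P.hom Y.hom := fun Y => rfl
  intro Y hY
  refine ⟨inj_torsor a h.1 (DD j) (εε j) _ hGi Y hY, ?_⟩
  refine surj_torsor a h.1 (DD j) (εε j) _ hGi hGs hsm ?_ ?_ Y hY
  · intro Y hY
    haveI : Smooth (Over.mk (snd P Y).left : Over Y.left).hom := by
      change Smooth (snd P Y).left
      rw [hsnd]
      infer_instance
    haveI : Surjective (Over.mk (snd P Y).left : Over Y.left).hom := by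
      change Surjective (snd P Y).left
      rw [hsnd]
      infer_instance
    exact isLocallyTrivialFor_of_smooth _
  · intro Y hY
    haveI : Flat (snd P Y).left := by
      rw [hsnd]
      infer_instance
    haveI : Surjective (snd P Y).left := by
      rw [hsnd]
      infer_instance
    exact epi_DD_map j _

end Main

section Neron

variable (R : Type u) [CommRing R] [IsDomain R]
  {X P : Over (Spec (CommRingCat.of R))} [GrpObj X] (a : AlgGrp.Action X P)

theorem isNeronModelOf_torsor
    (hX : Neron.IsNeronModelOf R X ((Neron.genericFibre R).obj X) (Iso.refl _))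
    (h : NonAbH1.IsTorsorFor Scheme.fppfPrecoverage a) :
    Neron.IsNeronModelOf R P ((Neron.genericFibre R).obj P) (Iso.refl _) := by
  obtain ⟨h1, h2, h3, h4, h5⟩ := hX
  have h' : NonAbH1.IsTorsorFor Scheme.fpqcPrecoverage a :=
    Groth.Agent.Lib.Helper10.QuotFibre.isTorsorFor_mono
      Scheme.fppfPrecoverage_le_fpqcPrecoverage h
  refine ⟨Groth.Agent.Lib.Helper6.Torsor.smooth_of_isTorsorFor_fpqc a h', ?_,
    Groth.Agent.Lib.Helper6.Torsor.locallyOfFiniteType_of_isTorsorFor_fpqc a h',
    Groth.Agent.Lib.Helper6.Torsor.quasiCompact_of_isTorsorFor_fpqc a h', ?_⟩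
  · have := Groth.Agent.Lib.Helper25.ProperDescent.isSeparated_descendsAlong.{u}
    exact Groth.Agent.Lib.Helper6.Torsor.of_isTorsorFor_fpqc (P := @IsSeparated) a h' h2
  · intro Y hY
    change Function.Bijective
      (fun g : Y ⟶ P => (Over.pullback (Neron.genPt R)).map g ≫ (Iso.refl _).hom)
    rw [bijective_iff]
    refine bijective_torsor (Neron.genPt R) a h (fun Y' hY' => ?_) Y hY
    rw [← bijective_iff]
    exact h5 Y' hY'

end Neron

end Groth.Agent.Lib.Helper10.NeronTorsor
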