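import Mathlib
import Groth.Prelude.Def_P1
import Groth.Agent.Lib.Helper25.PolyRelProj1
import Groth.Agent.Lib.Helper3.ProjIntegral

set_option autoImplicit false
set_option linter.unusedSectionVars false
set_option linter.style.haveILetI false
set_option backward.isDefEq.respectTransparency.types false
set_option maxHeartbeats 4000000
set_option synthInstance.maxHeartbeats 400000

universe u

open CategoryTheory CategoryTheory.Limits AlgebraicGeometry Opposite
open scoped HomogeneousIdeal

namespace Groth.Agent.Lib.Helper10.P1Conn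

/-- the `ULift ℤ`-algebra structure on a ring -/
@[reducible] noncomputable def zAlg (R : Type u) [CommRing R] : Algebra (ULift.{u} ℤ) R :=
  ((Int.castRingHom R).comp (ULift.ringEquiv : ULift.{u} ℤ ≃+* ℤ).toRingHom).toAlgebra

/-- Projective space over (the spectrum of) a field is irreducible. -/
theorem irreducibleSpace_projSpaceOver_field (n : ℕ) (κ : Type u) [Field κ] :
    IrreducibleSpace (CohB1.ProjSpaceOver n (Spec (CommRingCat.of κ))) := by
  have PB := @Groth.Agent.Lib.Helper25.PolyRelProj.isPullback_projSpace n (ULift.{u} ℤ) κ _ _ (zAlg κ)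
  have hT : Spec.map (CommRingCat.ofHom (@algebraMap (ULift.{u} ℤ) κ _ _ (zAlg κ))) =
      specULiftZIsTerminal.from (Spec (CommRingCat.of κ)) := specULiftZIsTerminal.hom_ext _ _
  rw [hT] at PB
  let e : Proj (CohB1.polyGrading n κ) ≅ CohB1.ProjSpaceOver n (Spec (CommRingCat.of κ)) :=
    PB.isoPullback
  have hne : ((CohB1.polyGrading n κ)₊).toIdeal ≠ ⊥ := by
    intro h
    have hX : (MvPolynomial.X 0 : MvPolynomial (Fin (n + 1)) κ) ∈
        ((CohB1.polyGrading n κ)₊).toIdeal :=
      HomogeneousIdeal.mem_irrelevant_of_mem _ one_pos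
        ((MvPolynomial.mem_homogeneousSubmodule 1 _).mpr (MvPolynomial.isHomogeneous_X κ 0))
    rw [h, Ideal.mem_bot] at hX
    exact MvPolynomial.X_ne_zero 0 hX
  haveI : IsIntegral (Proj (CohB1.polyGrading n κ)) :=
    Groth.Agent.Lib.Helper3.ProjIntegral.isIntegral_of_isDomain _ hne
  haveI : Nonempty (CohB1.ProjSpaceOver n (Spec (CommRingCat.of κ))) :=
    ⟨e.hom (Classical.arbitrary _)⟩
  haveI : IsIntegral (CohB1.ProjSpaceOver n (Spec (CommRingCat.of κ))) :=
    isIntegral_of_isOpenImmersion e.inv
  infer_instance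

end Groth.Agent.Lib.Helper10.P1Conn
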