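import Mathlib
import Groth.Agent.Lib.Helper10.P1Conn1

set_option autoImplicit false
set_option linter.unusedSectionVars false
set_option linter.style.haveILetI false
set_option backward.isDefEq.respectTransparency.types false
set_option maxHeartbeats 4000000
set_option synthInstance.maxHeartbeats 400000

universe u

open CategoryTheory CategoryTheory.Limits AlgebraicGeometry Opposite

namespace Groth.Agent.Lib.Helper10.P1Conn

theorem toP1_fst {Y Z : Scheme.{u}} (g : Y ⟶ Z) :
    P1.toP1 g ≫ pullback.fst (CohB1.ProjSpace.toSpec 1 (ULift.{u} ℤ))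
      (specULiftZIsTerminal.from Z) =
    pullback.fst (CohB1.ProjSpace.toSpec 1 (ULift.{u} ℤ)) (specULiftZIsTerminal.from Y) :=
  (pullback.lift_fst _ _ _).trans (Category.comp_id _)

theorem toP1_toBase {Y Z : Scheme.{u}} (g : Y ⟶ Z) :
    P1.toP1 g ≫ CohB1.ProjSpaceOver.toBase 1 Z = CohB1.ProjSpaceOver.toBase 1 Y ≫ g :=
  pullback.lift_snd _ _ _

theorem isPullback_toP1 {Y Z : Scheme.{u}} (g : Y ⟶ Z) :
    IsPullback (P1.toP1 g) (CohB1.ProjSpaceOver.toBase 1 Y)
      (CohB1.ProjSpaceOver.toBase 1 Z) g := by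
  have hright : IsPullback
      (pullback.fst (CohB1.ProjSpace.toSpec 1 (ULift.{u} ℤ)) (specULiftZIsTerminal.from Z))
      (CohB1.ProjSpaceOver.toBase 1 Z) (CohB1.ProjSpace.toSpec 1 (ULift.{u} ℤ))
      (specULiftZIsTerminal.from Z) := IsPullback.of_hasPullback _ _
  have houter : IsPullback
      (P1.toP1 g ≫ pullback.fst (CohB1.ProjSpace.toSpec 1 (ULift.{u} ℤ))
        (specULiftZIsTerminal.from Z))
      (CohB1.ProjSpaceOver.toBase 1 Y) (CohB1.ProjSpace.toSpec 1 (ULift.{u} ℤ))
      (g ≫ specULiftZIsTerminal.from Z) := by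
    rw [toP1_fst]
    have : g ≫ specULiftZIsTerminal.from Z = specULiftZIsTerminal.from Y :=
      specULiftZIsTerminal.hom_ext _ _
    rw [this]
    exact IsPullback.of_hasPullback _ _
  exact IsPullback.of_right houter (toP1_toBase g) hright

theorem sect_toP1 {Y Z : Scheme.{u}} (g : Y ⟶ Z) (i : Fin (1 + 1)) :
    P1.sect Y i ≫ P1.toP1 g = g ≫ P1.sect Z i := by
  have hf : ∀ (X : Scheme.{u}), P1.sect X i ≫ pullback.fst (CohB1.ProjSpace.toSpec 1 (ULift.{u} ℤ))
      (specULiftZIsTerminal.from X) = specULiftZIsTerminal.from X ≫ P1.point i :=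
    fun X => pullback.lift_fst _ _ _
  have hs : ∀ (X : Scheme.{u}), P1.sect X i ≫ CohB1.ProjSpaceOver.toBase 1 X = 𝟙 X :=
    fun X => pullback.lift_snd _ _ _
  refine pullback.hom_ext (f := CohB1.ProjSpace.toSpec 1 (ULift.{u} ℤ))
    (g := specULiftZIsTerminal.from Z) ?_ ?_
  · have e1 : (P1.sect Y i ≫ P1.toP1 g) ≫ pullback.fst (CohB1.ProjSpace.toSpec 1 (ULift.{u} ℤ))
        (specULiftZIsTerminal.from Z) = specULiftZIsTerminal.from Y ≫ P1.point i := by
      rw [Category.assoc, toP1_fst, hf]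
    have e2 : (g ≫ P1.sect Z i) ≫ pullback.fst (CohB1.ProjSpace.toSpec 1 (ULift.{u} ℤ))
        (specULiftZIsTerminal.from Z) = specULiftZIsTerminal.from Y ≫ P1.point i := by
      rw [Category.assoc, hf, ← Category.assoc]
      congr 1
      exact specULiftZIsTerminal.hom_ext _ _
    exact e1.trans e2.symm
  · have e1 : (P1.sect Y i ≫ P1.toP1 g) ≫ CohB1.ProjSpaceOver.toBase 1 Z = g := by
      rw [Category.assoc, toP1_toBase, ← Category.assoc, hs, Category.id_comp]
    have e2 : (g ≫ P1.sect Z i) ≫ CohB1.ProjSpaceOver.toBase 1 Z = g := by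
      rw [Category.assoc, hs, Category.comp_id]
    exact e1.trans e2.symm

/-- A clopen subset of `P^1_S` disjoint from the zero section is empty. -/
theorem eq_empty_of_isClopen {S : Scheme.{u}} (Z : Set (CohB1.ProjSpaceOver 1 S))
    (hZ : IsClopen Z) (i : Fin (1 + 1)) (h0 : ∀ s : S, P1.sect S i s ∉ Z) : Z = ∅ := by
  by_contra hne
  obtain ⟨z, hz⟩ := Set.nonempty_iff_ne_empty.mpr hne
  set s := CohB1.ProjSpaceOver.toBase 1 S z with hs
  let j : Spec (S.residueField s) ⟶ S := S.fromSpecResidueField s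
  let m := P1.toP1 j
  have hpb := isPullback_toP1 j
  -- a point of the fibre over `z`
  have hpt : ∃ t : Spec (S.residueField s), j t = s := by
    have : s ∈ Set.range j := by
      rw [Scheme.range_fromSpecResidueField]; rfl
    exact this
  obtain ⟨t, ht⟩ := hpt
  obtain ⟨z₀, hz₀1, hz₀2⟩ := Scheme.Pullback.exists_preimage_pullback
    (f := CohB1.ProjSpaceOver.toBase 1 S) (g := j) z t (by rw [ht])
  let z' := hpb.isoPullback.inv z₀
  have hz' : m z' = z := by
    have := congrArg (fun φ : pullback (CohB1.ProjSpaceOver.toBase 1 S) j ⟶ _ => φ z₀)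
      hpb.isoPullback_inv_fst
    exact this.trans hz₀1
  haveI := irreducibleSpace_projSpaceOver_field 1 (S.residueField s)
  have hcl : IsClopen (m ⁻¹' Z) := hZ.preimage m.continuous
  rcases isClopen_iff.mp hcl with h | h
  · have : z' ∈ m ⁻¹' Z := by
      change m z' ∈ Z
      rw [hz']; exact hz
    rw [h] at this
    exact this
  · have hmem : P1.sect (Spec (S.residueField s)) i t ∈ m ⁻¹' Z := by
      rw [h]; trivial
    change m (P1.sect (Spec (S.residueField s)) i t) ∈ Z at hmem
    rw [← Scheme.Hom.comp_apply, sect_toP1, Scheme.Hom.comp_apply] at hmem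
    exact h0 _ hmem

end Groth.Agent.Lib.Helper10.P1Conn
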