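import Mathlib
import Groth.Agent.Lib.Helper10.P1Conn2

set_option autoImplicit false
set_option linter.unusedSectionVars false
set_option linter.style.haveILetI false
set_option backward.isDefEq.respectTransparency.types false
set_option maxHeartbeats 4000000
set_option synthInstance.maxHeartbeats 400000

universe u

open CategoryTheory CategoryTheory.Limits AlgebraicGeometry Opposite

namespace Groth.Agent.Lib.Helper10.P1Conn

/-- `P^1_S` is preconnected when `S` is. -/
theorem preconnectedSpace_projLine (S : Scheme.{u}) [PreconnectedSpace S] :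
    PreconnectedSpace (CohB1.ProjSpaceOver 1 S) := by
  rw [preconnectedSpace_iff_clopen]
  intro Z hZ
  have hA : IsClopen ((P1.sect S 0) ⁻¹' Z) := hZ.preimage (P1.sect S 0).continuous
  rcases isClopen_iff.mp hA with h | h
  · left
    apply eq_empty_of_isClopen Z hZ 0
    intro s hs
    have : s ∈ (P1.sect S 0) ⁻¹' Z := hs
    rw [h] at this
    exact this
  · right
    have : Zᶜ = ∅ := by
      apply eq_empty_of_isClopen Zᶜ hZ.compl 0
      intro s hs
      have h1 : s ∈ (P1.sect S 0) ⁻¹' Z := by rw [h]; trivial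
      exact hs h1
    rwa [Set.compl_empty_iff] at this

/-- For an open and closed map with finite fibres onto a preconnected space, every connected
component of the source surjects onto the target. -/
theorem exists_mem_connectedComponent {X P : Type*} [TopologicalSpace X] [TopologicalSpace P]
    [PreconnectedSpace P] (f : X → P) (hopen : IsOpenMap f) (hclosed : IsClosedMap f)
    (hfin : ∀ p, (f ⁻¹' {p}).Finite) (x : X) (p : P) :
    ∃ y ∈ connectedComponent x, f y = p := by
  classical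
  -- nonempty clopen subsets surject
  have hsurj : ∀ W : Set X, IsClopen W → W.Nonempty → f '' W = Set.univ := by
    intro W hW hne
    have hcl : IsClopen (f '' W) := ⟨hclosed _ hW.isClosed, hopen _ hW.isOpen⟩
    rcases isClopen_iff.mp hcl with h | h
    · exact absurd (Set.image_eq_empty.mp h) hne.ne_empty
    · exact h
  -- the counting function
  let p₀ := f x
  let c : {W : Set X // IsClopen W ∧ x ∈ W} → ℕ := fun W => (W.1 ∩ f ⁻¹' {p₀}).ncard
  obtain ⟨W₀, -, hmin⟩ := (measure c).wf.has_min Set.univ ⟨⟨Set.univ, isClopen_univ, trivial⟩, trivial⟩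
  have hmin' : ∀ W : {W : Set X // IsClopen W ∧ x ∈ W}, ¬ c W < c W₀ := fun W => hmin W trivial
  obtain ⟨W₀, hW₀cl, hxW₀⟩ := W₀
  -- key: a clopen part of `W₀` containing `x` whose complement in `W₀` is clopen is everything
  have key : ∀ W₁ W₂ : Set X, IsClopen W₁ → IsClopen W₂ → W₁ ∪ W₂ = W₀ → Disjoint W₁ W₂ →
      x ∈ W₁ → W₂ = ∅ := by
    intro W₁ W₂ h1 h2 hun hdis hx1
    by_contra hne
    have hne' : W₂.Nonempty := Set.nonempty_iff_ne_empty.mpr hne
    have h3 := hsurj W₂ h2 hne'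
    have hp₀ : p₀ ∈ f '' W₂ := by rw [h3]; trivial
    obtain ⟨w, hw2, hwp⟩ := hp₀
    have hsub : W₁ ∩ f ⁻¹' {p₀} ⊂ W₀ ∩ f ⁻¹' {p₀} := by
      refine ⟨fun a ha => ⟨hun ▸ Or.inl ha.1, ha.2⟩, fun hcon => ?_⟩
      have hw0 : w ∈ W₀ ∩ f ⁻¹' {p₀} := ⟨hun ▸ Or.inr hw2, hwp⟩
      have hw1 := hcon hw0
      exact Set.disjoint_left.mp hdis hw1.1 hw2
    have hlt : c ⟨W₁, h1, hx1⟩ < c ⟨W₀, hW₀cl, hxW₀⟩ :=
      Set.ncard_lt_ncard hsub ((hfin p₀).subset Set.inter_subset_right)
    exact hmin' ⟨W₁, h1, hx1⟩ hlt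
  have hpre : IsPreconnected W₀ := by
    rw [isPreconnected_iff_subset_of_disjoint_closed]
    intro u v hu hv hsub hdis
    have e1 : W₀ ∩ u = W₀ \ v := by
      ext a
      constructor
      · rintro ⟨ha0, hau⟩
        refine ⟨ha0, fun hav => ?_⟩
        have : a ∈ W₀ ∩ (u ∩ v) := ⟨ha0, hau, hav⟩
        rw [hdis] at this; exact this
      · rintro ⟨ha0, hav⟩
        rcases hsub ha0 with h | h
        · exact ⟨ha0, h⟩
        · exact absurd h hav
    have e2 : W₀ ∩ v = W₀ \ u := by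
      ext a
      constructor
      · rintro ⟨ha0, hav⟩
        refine ⟨ha0, fun hau => ?_⟩
        have : a ∈ W₀ ∩ (u ∩ v) := ⟨ha0, hau, hav⟩
        rw [hdis] at this; exact this
      · rintro ⟨ha0, hau⟩
        rcases hsub ha0 with h | h
        · exact absurd h hau
        · exact ⟨ha0, h⟩
    have c1 : IsClopen (W₀ ∩ u) :=
      ⟨hW₀cl.isClosed.inter hu, e1 ▸ hW₀cl.isOpen.sdiff hv⟩
    have c2 : IsClopen (W₀ ∩ v) :=
      ⟨hW₀cl.isClosed.inter hv, e2 ▸ hW₀cl.isOpen.sdiff hu⟩
    have hun : (W₀ ∩ u) ∪ (W₀ ∩ v) = W₀ := by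
      rw [← Set.inter_union_distrib_left]
      exact Set.inter_eq_left.mpr hsub
    have hun' : (W₀ ∩ v) ∪ (W₀ ∩ u) = W₀ := by rw [Set.union_comm]; exact hun
    have hd : Disjoint (W₀ ∩ u) (W₀ ∩ v) := by
      rw [Set.disjoint_left]
      rintro a ⟨ha0, hau⟩ ⟨-, hav⟩
      have : a ∈ W₀ ∩ (u ∩ v) := ⟨ha0, hau, hav⟩
      rw [hdis] at this; exact this
    rcases hsub hxW₀ with hxu | hxv
    · left
      have := key _ _ c1 c2 hun hd ⟨hxW₀, hxu⟩
      intro a ha
      rcases hsub ha with h | h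
      · exact h
      · have : a ∈ W₀ ∩ v := ⟨ha, h⟩
        rw [key _ _ c1 c2 hun hd ⟨hxW₀, hxu⟩] at this
        exact absurd this (Set.notMem_empty a)
    · right
      intro a ha
      rcases hsub ha with h | h
      · have : a ∈ W₀ ∩ u := ⟨ha, h⟩
        rw [key _ _ c2 c1 hun' hd.symm ⟨hxW₀, hxv⟩] at this
        exact absurd this (Set.notMem_empty a)
      · exact h
  have hW₀C : W₀ ⊆ connectedComponent x := hpre.subset_connectedComponent hxW₀
  have hp : p ∈ f '' W₀ := by rw [hsurj W₀ hW₀cl ⟨x, hxW₀⟩]; trivial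
  obtain ⟨y, hy, hyp⟩ := hp
  exact ⟨y, hW₀C hy, hyp⟩

end Groth.Agent.Lib.Helper10.P1Conn
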