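import Mathlib
import Groth.Agent.Lib.Helper25.EtaleSection

/-!
# A smooth algebra with surjective spectrum map acquires a point over an étale faithfully flat
algebra
-/

set_option autoImplicit false
set_option linter.unusedSectionVars false
set_option linter.style.haveILetI false
set_option maxHeartbeats 1000000
universe u
open TensorProduct

namespace Groth.Agent.Lib.Helper10.PSTorsor

variable {R B : Type u} [CommRing R] [CommRing B] [Algebra R B]

/-- **étale faithfully flat section of a smooth surjective algebra.** -/
theorem exists_etale_faithfullyFlat_section [Algebra.Smooth R B]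
    (hsurj : Function.Surjective (PrimeSpectrum.comap (algebraMap R B))) :
    ∃ (R' : Type u) (_ : CommRing R') (_ : Algebra R R'),
      Algebra.Etale R R' ∧ Module.FaithfullyFlat R R' ∧ Nonempty (B →ₐ[R] R') := by
  classical
  have h := fun p : PrimeSpectrum R =>
    Groth.Agent.Lib.Helper25.EtaleSection.exists_etale_algebra_section (B := B) p (hsurj p)
  choose R' hC hA hE ρ p' hp' using h
  -- open images
  let U : PrimeSpectrum R → Set (PrimeSpectrum R) := fun p =>
    Set.range (PrimeSpectrum.comap (algebraMap R (R' p)))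
  have hUo : ∀ p, IsOpen (U p) := by
    intro p
    haveI := hE p
    haveI : Module.Flat R (R' p) := inferInstance
    exact (PrimeSpectrum.isOpenMap_comap_of_hasGoingDown_of_finitePresentation
      (R := R) (S := R' p)).isOpen_range
  have hUc : (Set.univ : Set (PrimeSpectrum R)) ⊆ ⋃ p, U p := by
    intro p _
    exact Set.mem_iUnion.mpr ⟨p, p' p, hp' p⟩
  obtain ⟨t, ht⟩ := isCompact_univ.elim_finite_subcover U hUo hUc
  let R'' : Type u := Π p : t, R' p.1
  haveI : ∀ p : t, Algebra.Etale R (R' p.1) := fun p => hE p.1
  refine ⟨R'', inferInstance, inferInstance, inferInstance, ?_, ⟨AlgHom.pi fun p => ρ p.1⟩⟩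
  haveI : Module.Flat R R'' := inferInstance
  refine Module.FaithfullyFlat.of_comap_surjective ?_
  intro q
  obtain ⟨p, hp, hq⟩ := Set.mem_iUnion₂.mp (ht (Set.mem_univ q))
  obtain ⟨q', rfl⟩ := hq
  refine ⟨PrimeSpectrum.comap (Pi.evalRingHom (fun p : t => R' p.1) ⟨p, hp⟩) q', ?_⟩
  rw [← PrimeSpectrum.comap_comp_apply]
  rfl

end Groth.Agent.Lib.Helper10.PSTorsor
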