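import Mathlib
import Groth.Agent.Lib.Helper10.PSTorsor1

/-!
# Lifting points of formally smooth algebras over power series rings
-/

set_option autoImplicit false
set_option linter.unusedSectionVars false
set_option linter.style.haveILetI false
set_option maxHeartbeats 1000000
universe u
open TensorProduct PowerSeries

namespace Groth.Agent.Lib.Helper10.PSTorsor

variable {R R' B : Type u} [CommRing R] [CommRing R'] [Algebra R R'] [CommRing B]
  [Algebra R⟦X⟧ B]

/-- **lifting a point modulo `X` to a power series point.** -/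
theorem exists_lift_powerSeries [Algebra.FormallySmooth R⟦X⟧ B] (f₀ : B →+* R')
    (hf₀ : f₀.comp (algebraMap R⟦X⟧ B) = (algebraMap R R').comp (constantCoeff (R := R))) :
    ∃ g : B →+* R'⟦X⟧, g.comp (algebraMap R⟦X⟧ B) = PowerSeries.map (algebraMap R R') := by
  letI : Algebra R⟦X⟧ R'⟦X⟧ := (PowerSeries.map (algebraMap R R')).toAlgebra
  let I : Ideal R'⟦X⟧ := Ideal.span {(X : R'⟦X⟧)}
  have hmem : ∀ h : R'⟦X⟧, h - C (constantCoeff h) ∈ I := by
    intro h
    rw [Ideal.mem_span_singleton, PowerSeries.X_dvd_iff, map_sub, constantCoeff_C, sub_self]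
  let f : B →ₐ[R⟦X⟧] R'⟦X⟧ ⧸ I :=
    { (Ideal.Quotient.mk I).comp ((C : R' →+* R'⟦X⟧).comp f₀) with
      commutes' := by
        intro l
        have h1 : f₀ (algebraMap R⟦X⟧ B l) = algebraMap R R' (constantCoeff l) :=
          congrArg (fun φ => φ l) hf₀
        change Ideal.Quotient.mk I (C (f₀ (algebraMap R⟦X⟧ B l))) =
          Ideal.Quotient.mk I (PowerSeries.map (algebraMap R R') l)
        rw [h1]
        symm
        rw [Ideal.Quotient.eq]
        have := hmem (PowerSeries.map (algebraMap R R') l)
        rwa [show constantCoeff (PowerSeries.map (algebraMap R R') l) =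
          algebraMap R R' (constantCoeff l) from by
            rw [← coeff_zero_eq_constantCoeff_apply, coeff_map,
              coeff_zero_eq_constantCoeff_apply]] at this }
  obtain ⟨g, -⟩ := Algebra.FormallySmooth.exists_mkₐ_comp_eq_of_isAdicComplete (I := I) f
  refine ⟨g.toRingHom, ?_⟩
  ext1 l
  exact g.commutes l

end Groth.Agent.Lib.Helper10.PSTorsor
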