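import Mathlib
import Groth.Agent.Lib.Helper10.PSTorsor2

/-!
# Sections of smooth surjective affine schemes over power series rings
-/

set_option autoImplicit false
set_option linter.unusedSectionVars false
set_option linter.style.haveILetI false
set_option maxHeartbeats 1000000
universe u
open CategoryTheory CategoryTheory.Limits AlgebraicGeometry TensorProduct PowerSeries

namespace Groth.Agent.Lib.Helper10.PSTorsor

/-- **a smooth surjective affine scheme over `R⟦X⟧` has a point over `R'⟦X⟧` for an étale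
faithfully flat `R`-algebra `R'`.** -/
theorem exists_section_powerSeries (R : Type u) [CommRing R] {Y : Scheme.{u}} [IsAffine Y]
    (p : Y ⟶ Spec (CommRingCat.of R⟦X⟧)) [Smooth p] [Surjective p] :
    ∃ (R' : Type u) (_ : CommRing R') (_ : Algebra R R'),
      Algebra.Etale R R' ∧ Module.FaithfullyFlat R R' ∧
      ∃ s : Spec (CommRingCat.of R'⟦X⟧) ⟶ Y,
        s ≫ p = Spec.map (CommRingCat.ofHom (PowerSeries.map (algebraMap R R'))) := by
  let B : CommRingCat.{u} := Γ(Y, ⊤)
  let c : Y ≅ Spec B := Y.isoSpec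
  let ψ : Spec B ⟶ Spec (CommRingCat.of R⟦X⟧) := c.inv ≫ p
  let φ : CommRingCat.of R⟦X⟧ ⟶ B := Spec.preimage ψ
  have hφ : Spec.map φ = ψ := Spec.map_preimage ψ
  haveI : Smooth (Spec.map φ) := by rw [hφ]; infer_instance
  haveI : Surjective (Spec.map φ) := by rw [hφ]; infer_instance
  letI : Algebra R⟦X⟧ B := φ.hom.toAlgebra
  have hsm : φ.hom.Smooth := (HasRingHomProperty.Spec_iff (P := @Smooth)).mp inferInstance
  haveI : Algebra.Smooth R⟦X⟧ B := hsm
  letI : Algebra R⟦X⟧ R := (constantCoeff (R := R)).toAlgebra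
  -- the special fibre
  have hsurj : Function.Surjective (PrimeSpectrum.comap (algebraMap R (R ⊗[R⟦X⟧] B))) := by
    have h1 : Surjective (pullback.fst (Spec.map (CommRingCat.ofHom (algebraMap R⟦X⟧ R)))
        (Spec.map (CommRingCat.ofHom (algebraMap R⟦X⟧ B)))) :=
      MorphismProperty.pullback_fst (P := @Surjective) _ _
        (inferInstanceAs (Surjective (Spec.map φ)))
    have h2 : Surjective (Spec.map (CommRingCat.ofHom
        (Algebra.TensorProduct.includeLeftRingHom : R →+* R ⊗[R⟦X⟧] B))) := by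
      rw [← pullbackSpecIso_inv_fst]
      infer_instance
    intro q
    obtain ⟨q', hq'⟩ := h2.surj q
    exact ⟨q', hq'⟩
  obtain ⟨R', hC, hA, hE, hFF, ⟨ρ⟩⟩ :=
    exists_etale_faithfullyFlat_section (R := R) (B := R ⊗[R⟦X⟧] B) hsurj
  let f₀ : B →+* R' := ρ.toRingHom.comp
    (Algebra.TensorProduct.includeRight : B →ₐ[R⟦X⟧] R ⊗[R⟦X⟧] B).toRingHom
  have hf₀ : f₀.comp (algebraMap R⟦X⟧ B) = (algebraMap R R').comp (constantCoeff (R := R)) := by
    ext1 l
    change ρ ((1 : R) ⊗ₜ[R⟦X⟧] (algebraMap R⟦X⟧ B l)) = algebraMap R R' (constantCoeff l)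
    rw [Algebra.algebraMap_eq_smul_one, ← TensorProduct.smul_tmul, ← Algebra.algebraMap_eq_smul_one]
    have : (algebraMap R⟦X⟧ R l) ⊗ₜ[R⟦X⟧] (1 : B) =
        algebraMap R (R ⊗[R⟦X⟧] B) (constantCoeff l) := rfl
    rw [this, ρ.commutes]
  obtain ⟨g, hg⟩ := exists_lift_powerSeries (R := R) (R' := R') (B := B) f₀ hf₀
  refine ⟨R', hC, hA, hE, hFF, Spec.map (CommRingCat.ofHom g) ≫ c.inv, ?_⟩
  rw [Category.assoc]
  change Spec.map (CommRingCat.ofHom g) ≫ ψ = _
  rw [← hφ, ← Spec.map_comp]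
  congr 1
  ext1
  exact hg

end Groth.Agent.Lib.Helper10.PSTorsor
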