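import Mathlib
import Groth.Agent.Lib.Helper26.FibrB

/-!
# Proper morphisms which are generically isomorphisms: algebraic core and affine reduction
-/

set_option autoImplicit false
set_option linter.style.haveILetI false
set_option linter.unusedSectionVars false
universe u
open CategoryTheory CategoryTheory.Limits AlgebraicGeometry TopologicalSpace Opposite

namespace Groth.Agent.Lib.Helper10.ProperDvr

/-- `A → B` injective and integral, `r` regular on `B`, every element of `B` is a fraction with
denominator a power of `r`, and `A/rA` reduced: then `A → B` is surjective. -/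
theorem surjective_of_integral_of_reduced {A B : Type*} [CommRing A] [CommRing B] (φ : A →+* B)
    (r : A) (hinj : Function.Injective φ) (hint : φ.IsIntegral)
    (hregB : ∀ u v : B, φ r * u = φ r * v → u = v)
    (hgen : ∀ b : B, ∃ (n : ℕ) (a : A), φ r ^ n * b = φ a)
    (hred : ∀ (a : A) (m : ℕ), a ^ m ∈ Ideal.span {r} → a ∈ Ideal.span {r}) :
    Function.Surjective φ := by
  intro b
  obtain ⟨n, a, h⟩ := hgen b
  induction n generalizing a with
  | zero => exact ⟨a, by rw [← h, pow_zero, one_mul]⟩
  | succ n ih =>
    obtain ⟨p, hp, hpb⟩ := hint b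
    set s : A := r ^ (n + 1) with hs
    have hsa : φ s * b = φ a := by rw [hs, map_pow]; exact h
    have h1 : Polynomial.eval₂ φ (φ s * b) (p.scaleRoots s) = 0 := by
      rw [Polynomial.scaleRoots_eval₂_mul, hpb, mul_zero]
    rw [hsa, Polynomial.eval₂_hom] at h1
    have h2 : Polynomial.eval a (p.scaleRoots s) = 0 := hinj (by rw [h1, map_zero])
    have hmon : (p.scaleRoots s).Monic := (Polynomial.monic_scaleRoots_iff s).mpr hp
    have hweak : (p.scaleRoots s).IsWeaklyEisensteinAt (Ideal.span {r}) := by
      constructor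
      intro i hi
      rw [Polynomial.natDegree_scaleRoots] at hi
      rw [Polynomial.coeff_scaleRoots]
      apply Ideal.mul_mem_left
      have hpos : 0 < p.natDegree - i := Nat.sub_pos_of_lt hi
      obtain ⟨k, hk⟩ := Nat.exists_eq_succ_of_ne_zero hpos.ne'
      rw [hk, pow_succ, hs, pow_succ]
      exact Ideal.mul_mem_left _ _ (Ideal.mul_mem_left _ _ (Ideal.subset_span rfl))
    have h3 : a ^ (p.scaleRoots s).natDegree ∈ Ideal.span {r} :=
      hweak.pow_natDegree_le_of_root_of_monic_mem h2 hmon _ le_rfl
    have h4 := hred a _ h3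
    obtain ⟨a', ha'⟩ := Ideal.mem_span_singleton'.mp h4
    apply ih a'
    apply hregB
    rw [← mul_assoc, ← pow_succ', h, ← ha', map_mul, mul_comm]

section
variable {X Y : Scheme.{u}} (f : Y ⟶ X)

/-- Injectivity of `O_X(U) → O_Y(f⁻¹U)` for all opens follows from the affine opens. -/
theorem injective_app_of_affine
    (hinj : ∀ V : X.Opens, IsAffineOpen V → Function.Injective (f.app V).hom) (U : X.Opens) :
    Function.Injective (f.app U).hom := by
  intro a a' h
  refine TopCat.Presheaf.section_ext X.sheaf U a a' (fun x hx => ?_)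
  obtain ⟨_, ⟨V, hV, rfl⟩, hxV, hVU⟩ :=
    X.isBasis_affineOpens.exists_subset_of_mem_open hx U.isOpen
  have hVU' : V ≤ U := hVU
  have e1 := Groth.Agent.Lib.Helper26.FibrA.nat_apply f hVU' a
  have e2 := Groth.Agent.Lib.Helper26.FibrA.nat_apply f hVU' a'
  rw [h] at e1
  have e3 := hinj V hV (e1.trans e2.symm)
  have h2 := congrArg (X.presheaf.germ V x hxV).hom e3
  change (X.presheaf.germ U x hx).hom a = (X.presheaf.germ U x hx).hom a'
  rw [← TopCat.Presheaf.germ_res_apply X.presheaf (homOfLE hVU') x hxV a,
    ← TopCat.Presheaf.germ_res_apply X.presheaf (homOfLE hVU') x hxV a']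
  exact h2

/-- `O_X → f_* O_Y` is an isomorphism on all opens as soon as it is bijective on affine opens. -/
theorem isIso_app_of_affine
    (h : ∀ V : X.Opens, IsAffineOpen V → Function.Bijective (f.app V).hom) (U : X.Opens) :
    IsIso (f.app U) := by
  have hinj := injective_app_of_affine f (fun V hV => (h V hV).1)
  have hsurj := Groth.Agent.Lib.Helper26.FibrA.surjective_app_of_affine f hinj
    (fun V hV => (h V hV).2) U
  exact (ConcreteCategory.isIso_iff_bijective _).mpr ⟨hinj U, hsurj⟩

/-- If `f` restricted over the open `O` is an isomorphism, then `O_X(W) → O_Y(f⁻¹W)` is an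
isomorphism for all `W ≤ O`. -/
theorem isIso_app_of_le_of_isIso_restrict (O : X.Opens) [IsIso (f ∣_ O)] (W : X.Opens)
    (hW : W ≤ O) : IsIso (f.app W) := by
  let V' : O.toScheme.Opens := O.ι ⁻¹ᵁ W
  have hV' : O.ι ''ᵁ V' = W := by
    rw [Scheme.Hom.image_preimage_eq_opensRange_inf, Scheme.Opens.opensRange_ι]
    exact inf_eq_right.mpr hW
  have e := morphismRestrict_app f O V'
  have h1 : IsIso ((f ∣_ O).app V') := inferInstance
  rw [e] at h1
  have h2 : IsIso (f.app (O.ι ''ᵁ V')) :=
    @IsIso.of_isIso_comp_right _ _ _ _ _ (f.app (O.ι ''ᵁ V'))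
      (Y.presheaf.map (eqToHom (image_morphismRestrict_preimage f O V')).op) inferInstance h1
  rw [hV'] at h2
  exact h2

end

end Groth.Agent.Lib.Helper10.ProperDvr
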