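import Mathlib
import Groth.Prelude.Def_Neron
import Groth.Agent.Lib.Helper10.ProperDvr1
import Groth.Agent.Lib.Helper14.RedDvr1
import Groth.Agent.Lib.Helper14.DvrFib3
import Groth.Agent.Lib.Helper25.AbSchPow2

/-!
# Facts about the closed and generic points of the spectrum of a DVR
-/

set_option autoImplicit false
set_option linter.style.haveILetI false
set_option linter.unusedSectionVars false
universe u
open CategoryTheory CategoryTheory.Limits AlgebraicGeometry TopologicalSpace Opposite

namespace Groth.Agent.Lib.Helper10.ProperDvr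

variable (R : Type u) [CommRing R] [IsDomain R] [IsDiscreteValuationRing R]

set_option backward.isDefEq.respectTransparency.types false in
/-- The closed point of `Spec R`: global sections of its residue field are `R/(π)`. -/
theorem closedPoint_facts {π : R} (hπ : Irreducible π) :
    Function.Surjective ((Spec (CommRingCat.of R)).fromSpecResidueField
        (IsLocalRing.closedPoint R)).appTop.hom ∧
      RingHom.ker ((Spec (CommRingCat.of R)).fromSpecResidueField
        (IsLocalRing.closedPoint R)).appTop.hom =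
        Ideal.span {(Scheme.ΓSpecIso (CommRingCat.of R)).inv.hom π} ∧
      (Scheme.ΓSpecIso (CommRingCat.of R)).inv.hom π ∈
        nonZeroDivisors Γ(Spec (CommRingCat.of R), ⊤) := by
  set s : ↥(Spec (CommRingCat.of R)) := IsLocalRing.closedPoint R with hs
  have hρeq : (Spec (CommRingCat.of R)).fromSpecResidueField s =
      Spec.map (CommRingCat.ofHom (algebraMap R s.asIdeal.ResidueField) ≫
        (Scheme.Spec.residueFieldIso (CommRingCat.of R) s).inv) := by
    rw [Spec.map_comp]
    exact (Scheme.Spec.map_residueFieldIso_inv_eq_fromSpecResidueField _ s).symm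
  have hsm : s.asIdeal = IsLocalRing.maximalIdeal R := rfl
  have hsπ : s.asIdeal = Ideal.span {π} := hsm.trans hπ.maximalIdeal_eq
  set ψ : CommRingCat.of R ⟶ (Spec (CommRingCat.of R)).residueField s :=
    CommRingCat.ofHom (algebraMap R s.asIdeal.ResidueField) ≫
      (Scheme.Spec.residueFieldIso (CommRingCat.of R) s).inv with hψ
  haveI hmax : s.asIdeal.IsMaximal := by
    rw [hsm]; exact IsLocalRing.maximalIdeal.isMaximal R
  have hψsurj : Function.Surjective ψ.hom := by
    rw [hψ, CommRingCat.hom_comp]
    exact (ConcreteCategory.bijective_of_isIso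
      (Scheme.Spec.residueFieldIso (CommRingCat.of R) s).inv).2.comp
      (Ideal.algebraMap_residueField_surjective s.asIdeal)
  have hψker : ∀ a : R, ψ.hom a = 0 ↔ a ∈ s.asIdeal := by
    intro a
    rw [hψ, CommRingCat.hom_comp, RingHom.comp_apply]
    have hinj := (ConcreteCategory.bijective_of_isIso
      (Scheme.Spec.residueFieldIso (CommRingCat.of R) s).inv).1
    rw [← Ideal.algebraMap_residueField_eq_zero]
    constructor
    · intro h
      apply hinj
      rw [map_zero]
      exact h
    · intro h
      rw [CommRingCat.hom_ofHom, h, map_zero]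
  have hnat : (Spec.map ψ).appTop =
      (Scheme.ΓSpecIso (CommRingCat.of R)).hom ≫ ψ ≫ (Scheme.ΓSpecIso _).inv := by
    rw [← Category.assoc, ← Scheme.ΓSpecIso_naturality ψ, Category.assoc, Iso.hom_inv_id,
      Category.comp_id]
  have happ : ∀ x, ((Spec (CommRingCat.of R)).fromSpecResidueField s).appTop.hom x =
      (Scheme.ΓSpecIso _).inv.hom (ψ.hom ((Scheme.ΓSpecIso (CommRingCat.of R)).hom.hom x)) := by
    intro x
    rw [hρeq, hnat]
    rfl
  have hbijhom := ConcreteCategory.bijective_of_isIso (Scheme.ΓSpecIso (CommRingCat.of R)).hom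
  have hbijinv := ConcreteCategory.bijective_of_isIso
    (Scheme.ΓSpecIso ((Spec (CommRingCat.of R)).residueField s)).inv
  set ϖ : Γ(Spec (CommRingCat.of R), ⊤) := (Scheme.ΓSpecIso (CommRingCat.of R)).inv.hom π
    with hϖ
  have hϖπ : (Scheme.ΓSpecIso (CommRingCat.of R)).hom.hom ϖ = π := by
    rw [hϖ]
    change ((Scheme.ΓSpecIso (CommRingCat.of R)).inv ≫
      (Scheme.ΓSpecIso (CommRingCat.of R)).hom).hom π = π
    rw [Iso.inv_hom_id]
    rfl
  refine ⟨?_, ?_, ?_⟩
  · intro y
    obtain ⟨y', rfl⟩ := hbijinv.2 y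
    obtain ⟨a, rfl⟩ := hψsurj y'
    obtain ⟨x, rfl⟩ := hbijhom.2 a
    exact ⟨x, happ x⟩
  · ext x
    rw [RingHom.mem_ker, happ]
    constructor
    · intro h
      have h1 : ψ.hom ((Scheme.ΓSpecIso (CommRingCat.of R)).hom.hom x) = 0 := by
        apply hbijinv.1
        rw [map_zero]
        exact h
      rw [hψker, hsπ, Ideal.mem_span_singleton'] at h1
      obtain ⟨a, ha⟩ := h1
      obtain ⟨a', rfl⟩ := hbijhom.2 a
      rw [Ideal.mem_span_singleton']
      refine ⟨a', hbijhom.1 ?_⟩
      rw [map_mul, hϖπ]
      exact ha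
    · intro h
      rw [Ideal.mem_span_singleton'] at h
      obtain ⟨a', rfl⟩ := h
      have h1 : ψ.hom ((Scheme.ΓSpecIso (CommRingCat.of R)).hom.hom (a' * ϖ)) = 0 := by
        rw [hψker, hsπ, map_mul, hϖπ]
        exact Ideal.mul_mem_left _ _ (Ideal.subset_span rfl)
      rw [h1, map_zero]
  · have hdom : IsDomain Γ(Spec (CommRingCat.of R), ⊤) :=
      MulEquiv.isDomain R
        (Scheme.ΓSpecIso (CommRingCat.of R)).commRingCatIsoToRingEquiv.toMulEquiv
    apply mem_nonZeroDivisors_of_ne_zero
    intro h0
    apply hπ.ne_zero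
    rw [← hϖπ, h0, map_zero]

/-- The basic open of a uniformizer in `Spec R` is contained in the image of the generic point. -/
theorem basicOpen_subset_range_genPt {π : R} (hπ : Irreducible π) :
    (((Spec (CommRingCat.of R)).basicOpen ((Scheme.ΓSpecIso (CommRingCat.of R)).inv.hom π) :
      (Spec (CommRingCat.of R)).Opens) : Set ↥(Spec (CommRingCat.of R))) ⊆
      Set.range (Neron.genPt R) := by
  intro x hx
  rw [basicOpen_eq_of_affine] at hx
  have hx' : π ∉ x.asIdeal := hx
  have hbot : x.asIdeal = ⊥ := by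
    by_contra hne
    have hmax : x.asIdeal.IsMaximal := Ideal.IsPrime.isMaximal x.isPrime hne
    have h1 : x.asIdeal = IsLocalRing.maximalIdeal R := IsLocalRing.eq_maximalIdeal hmax
    apply hx'
    rw [h1, hπ.maximalIdeal_eq]
    exact Ideal.subset_span rfl
  let y : ↥(Spec (CommRingCat.of (FractionRing R))) := ⟨⊥, Ideal.isPrime_bot⟩
  refine ⟨y, ?_⟩
  apply PrimeSpectrum.ext
  rw [hbot]
  change Ideal.comap (algebraMap R (FractionRing R)) ⊥ = ⊥
  exact Ideal.comap_bot_of_injective _ (IsFractionRing.injective R (FractionRing R))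

end Groth.Agent.Lib.Helper10.ProperDvr
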