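import Mathlib
import Groth.Agent.Lib.Helper10.ProperDvr2

/-!
# `O_X → π_* O_Y` for a proper, generically isomorphic morphism of flat schemes over a DVR
with reduced special fibre
-/

set_option autoImplicit false
set_option linter.style.haveILetI false
set_option linter.unusedSectionVars false
set_option maxHeartbeats 1000000
universe u
open CategoryTheory CategoryTheory.Limits AlgebraicGeometry TopologicalSpace Opposite

namespace Groth.Agent.Lib.Helper10.ProperDvr

open Groth.Agent.Lib.Helper14 Groth.Agent.Lib.Helper14.Normal Groth.Agent.Lib.Helper26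

theorem res_res {Z : Scheme.{u}} {A B C : Z.Opens} (h1 : B ≤ A) (h2 : C ≤ B) (s : Γ(Z, A)) :
    (Z.presheaf.map (homOfLE h2).op).hom ((Z.presheaf.map (homOfLE h1).op).hom s) =
      (Z.presheaf.map (homOfLE (h2.trans h1)).op).hom s := by
  rw [← CommRingCat.comp_apply, ← Functor.map_comp]
  rfl

theorem eq_zero_of_pow_mul_eq_zero {A : Type*} [CommRing A] (r d : A)
    (hreg : ∀ u v : A, r * u = r * v → u = v) (n : ℕ) (h : r ^ n * d = 0) : d = 0 := by
  induction n with
  | zero => rwa [pow_zero, one_mul] at h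
  | succ n ih =>
    apply ih
    apply hreg
    rw [mul_zero, ← mul_assoc, ← pow_succ']
    exact h

variable (R : Type u) [CommRing R] [IsDomain R] [IsDiscreteValuationRing R]

set_option backward.isDefEq.respectTransparency.types false in
theorem bijective_app_affine
    (X Y : Over (Spec (CommRingCat.of R))) [Flat X.hom] [Flat Y.hom]
    (π : Y ⟶ X) [IsProper π.left]
    (hgen : IsIso ((Neron.genericFibre R).map π))
    [IsReduced (X.hom.fiber (IsLocalRing.closedPoint R))]
    (V : X.left.Opens) (hV : IsAffineOpen V) : Function.Bijective (π.left.app V).hom := by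
  let S := Spec (CommRingCat.of R)
  let j : Spec (CommRingCat.of (FractionRing R)) ⟶ S := Neron.genPt R
  let f : Y.left ⟶ X.left := π.left
  let p : X.left ⟶ S := X.hom
  let q : Y.left ⟶ S := Y.hom
  have hfpq : f ≫ p = q := Over.w π
  obtain ⟨ϖ, hϖ⟩ := IsDiscreteValuationRing.exists_irreducible R
  obtain ⟨hρsurj, hker, hreg⟩ := closedPoint_facts R hϖ
  set ϖ' : Γ(S, ⊤) := (Scheme.ΓSpecIso (CommRingCat.of R)).inv.hom ϖ with hϖ'
  let ρ := S.fromSpecResidueField (IsLocalRing.closedPoint R)
  let r : Γ(X.left, V) := (p.appLE ⊤ V le_top).hom ϖ'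
  let U : Y.left.Opens := f ⁻¹ᵁ V
  let rU : Γ(Y.left, U) := (f.app V).hom r
  have hrU : rU = (q.appLE ⊤ U le_top).hom ϖ' := by
    change (p.appLE ⊤ V le_top ≫ f.app V).hom ϖ' = _
    rw [Scheme.Hom.app_eq_appLE, Scheme.Hom.appLE_comp_appLE]
    simp only [hfpq]
    rfl
  have hregA : ∀ u v : Γ(X.left, V), r * u = r * v → u = v := fun u v h =>
    DvrFib.regular_affine p ϖ' hreg V hV u v h
  have hregB : ∀ u v : Γ(Y.left, U), rU * u = rU * v → u = v := by
    intro u v h
    rw [hrU] at h
    exact DvrFib.regular_of_affine (q.appTop.hom ϖ')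
      (fun V' hV' => DvrFib.regular_affine q ϖ' hreg V' hV') U u v h
  -- the generic isomorphism
  haveI : IsOpenImmersion j := AS.isOpenImmersion_Spec_map_fractionRing_of_dvr R
  let i : pullback p j ⟶ X.left := pullback.fst p j
  haveI : IsOpenImmersion i := inferInstanceAs (IsOpenImmersion (pullback.fst p j))
  have sq := Groth.Agent.Lib.Helper25.AbSchPow.isPullback_map_left j π
  haveI hg' : IsIso ((Over.pullback j).map π).left := by
    haveI := hgen
    exact inferInstanceAs (IsIso ((Over.forget _).map ((Over.pullback j).map π)))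
  have hsnd : IsIso (pullback.snd f i) := by
    rw [← sq.flip.isoPullback_inv_snd]
    infer_instance
  let O : X.left.Opens := i.opensRange
  haveI : IsIso (f ∣_ O) :=
    ((MorphismProperty.isomorphisms Scheme).arrow_mk_iso_iff
      (morphismRestrictOpensRange f i)).mpr hsnd
  let D : X.left.Opens := X.left.basicOpen r
  have hDV : D ≤ V := X.left.basicOpen_le r
  have hbo : D ≤ O := by
    intro x hx
    have hr : r = (X.left.presheaf.map (homOfLE (le_top : V ≤ ⊤)).op).hom (p.appTop.hom ϖ') := rfl
    have h1 : x ∈ X.left.basicOpen (p.appTop.hom ϖ') := by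
      have h2 : D = V ⊓ X.left.basicOpen (p.appTop.hom ϖ') := by
        change X.left.basicOpen r = _
        rw [hr]
        exact X.left.basicOpen_res _ _
      rw [h2] at hx
      exact hx.2
    rw [← Scheme.preimage_basicOpen_top] at h1
    have h3 : p x ∈ Set.range j := basicOpen_subset_range_genPt R hϖ h1
    have h4 : Set.range i = p ⁻¹' Set.range j := Scheme.Pullback.range_fst p j
    change x ∈ Set.range i
    rw [h4]
    exact h3
  haveI hiso : IsIso (f.app D) := isIso_app_of_le_of_isIso_restrict f O D hbo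
  have hbij : Function.Bijective (f.app D).hom := ConcreteCategory.bijective_of_isIso (f.app D)
  have hUc : IsCompact (U : Set Y.left) := f.isCompact_preimage hV.isCompact
  have hUq : IsQuasiSeparated (U : Set Y.left) := f.isQuasiSeparated_preimage hV.isQuasiSeparated
  have hpre : f ⁻¹ᵁ D = Y.left.basicOpen rU := Scheme.preimage_basicOpen f r
  have hDU : f ⁻¹ᵁ D ≤ U := f.preimage_mono hDV
  -- injectivity
  have hinj : Function.Injective (f.app V).hom := by
    rw [injective_iff_map_eq_zero]
    intro d hd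
    have e1 := FibrA.nat_apply f hDV d
    rw [hd, map_zero] at e1
    have e2 : (X.left.presheaf.map (homOfLE hDV).op).hom d = 0 := hbij.1 (by rw [e1, map_zero])
    obtain ⟨n, hn⟩ := exists_of_res_zero_of_qcqs hV.isCompact hV.isQuasiSeparated
      (f := d) (s := r) e2
    exact eq_zero_of_pow_mul_eq_zero r d hregA n hn
  refine ⟨hinj, ?_⟩
  apply surjective_of_integral_of_reduced (f.app V).hom r hinj (FibrB.isIntegral_app f hV) hregB
  · -- fractions
    intro b
    obtain ⟨x', hx'⟩ := hbij.2 ((Y.left.presheaf.map (homOfLE hDU).op).hom b)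
    obtain ⟨n, y, hy⟩ := exists_eq_pow_mul_of_isAffineOpen X.left V hV r x'
    have hy' : (X.left.presheaf.map (homOfLE hDV).op).hom y =
        ((X.left.presheaf.map (homOfLE hDV).op).hom r) ^ n * x' := hy
    have e1 := congrArg (f.app D).hom hy'
    rw [map_mul, map_pow, hx', FibrA.nat_apply f hDV y, FibrA.nat_apply f hDV r, ← map_pow,
      ← map_mul] at e1
    have e2 := congrArg (Y.left.presheaf.map (homOfLE hpre.ge).op).hom e1
    rw [res_res, res_res] at e2
    obtain ⟨m, hm⟩ := exists_of_res_eq_of_qcqs hUc hUq (f := (f.app V).hom y)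
      (g := rU ^ n * b) (s := rU) e2
    refine ⟨m + n, r ^ m * y, ?_⟩
    rw [map_mul, map_pow, pow_add, mul_assoc]
    exact hm.symm
  · -- reducedness of the special fibre
    intro a m ham
    have H : IsPullback (pullback.fst p ρ) (pullback.snd p ρ) p ρ := IsPullback.of_hasPullback p ρ
    have hUST : (⊤ : (Spec (S.residueField (IsLocalRing.closedPoint R))).Opens) ≤ ρ ⁻¹ᵁ ⊤ := le_top
    have hUSX : V ≤ p ⁻¹ᵁ ⊤ := le_top
    have iso := isIso_pushoutSection_of_isAffineOpen H hUST hUSX rfl (isAffineOpen_top S)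
      (isAffineOpen_top _) hV
    have po := (isIso_pushoutSection_iff H hUST hUSX rfl).1 iso
    have e0 : ρ.appLE ⊤ ⊤ hUST = ρ.appTop := by
      rw [Scheme.Hom.appTop, Scheme.Hom.app_eq_appLE]
      rfl
    have hρ' : Function.Surjective (ρ.appLE ⊤ ⊤ hUST).hom := by rw [e0]; exact hρsurj
    have hker' : RingHom.ker (ρ.appLE ⊤ ⊤ hUST).hom = Ideal.span {ϖ'} := by rw [e0]; exact hker
    have hle := DvrFib.ker_inl_le_of_isPushout po hρ' ϖ' hker'
    apply hle
    rw [RingHom.mem_ker]
    haveI : IsReduced (pullback p ρ) := ‹IsReduced (X.hom.fiber (IsLocalRing.closedPoint R))›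
    obtain ⟨c, hc⟩ := Ideal.mem_span_singleton'.mp ham
    have hr0 : ((pullback.fst p ρ).appLE V
        (pullback.fst p ρ ⁻¹ᵁ V ⊓ pullback.snd p ρ ⁻¹ᵁ ⊤) (by simp)).hom r = 0 := by
      have hw := congrArg (fun k => k.hom ϖ') po.w
      simp only [CommRingCat.hom_comp, RingHom.comp_apply] at hw
      refine hw.trans ?_
      have h0 : (ρ.appLE ⊤ ⊤ hUST).hom ϖ' = 0 := by
        rw [← RingHom.mem_ker, hker']
        exact Ideal.subset_span rfl
      rw [h0, map_zero]
    have hnil : IsNilpotent (((pullback.fst p ρ).appLE V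
        (pullback.fst p ρ ⁻¹ᵁ V ⊓ pullback.snd p ρ ⁻¹ᵁ ⊤) (by simp)).hom a) := by
      refine ⟨m, ?_⟩
      rw [← map_pow, ← hc, map_mul, hr0, mul_zero]
    exact hnil.eq_zero

end Groth.Agent.Lib.Helper10.ProperDvr
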