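import Mathlib
import Groth.Agent.Lib.Helper10.QuotTower3
import Groth.Agent.Lib.Helper14.FppfLocalInst2

/-!
# A homomorphism proper on the kernel of a proper quotient is proper (SGA3 XVI)
-/

set_option autoImplicit false
set_option backward.isDefEq.respectTransparency.types false
set_option maxHeartbeats 4000000
set_option synthInstance.maxHeartbeats 400000
universe v u
open CategoryTheory CategoryTheory.Limits AlgebraicGeometry MonoidalCategory
  CartesianMonoidalCategory MonObj GrpObj

namespace Groth.Agent.Lib.Helper10.ProperHom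

open Groth.Agent.Lib.Helper10.FppfQuot Groth.Agent.Lib.Helper10.HomSp

variable {S : Scheme.{u}} {G G' G'' H : Over S} [GrpObj G] [GrpObj G'] [GrpObj G''] [GrpObj H]
  (p : G ⟶ G'') [IsMonHom p] (i : G' ⟶ G) (hker : IsPullback i (toUnit G') p η[G''])
  (u : G ⟶ H) [IsMonHom u]

/-- `(g, g') ↦ (u(g g'), g)` -/
noncomputable def w : G ⊗ G' ⟶ H ⊗ G := lift (((G ◁ i) ≫ μ[G]) ≫ u) (fst G G')

/-- `(h, g) ↦ (u(g) h, g)` -/
noncomputable def τ : H ⊗ G ⟶ H ⊗ G := lift ((snd H G ≫ u) * fst H G) (snd H G)

noncomputable def τinv : H ⊗ G ⟶ H ⊗ G := lift ((snd H G ≫ u)⁻¹ * fst H G) (snd H G)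

theorem w_fst : w i u ≫ fst H G = ((G ◁ i) ≫ μ[G]) ≫ u := lift_fst _ _

theorem w_snd : w i u ≫ snd H G = fst G G' := lift_snd _ _

theorem τ_fst : τ u ≫ fst H G = (snd H G ≫ u) * fst H G := lift_fst _ _

theorem τ_snd : τ u ≫ snd H G = snd H G := lift_snd _ _

theorem τinv_fst : τinv u ≫ fst H G = (snd H G ≫ u)⁻¹ * fst H G := lift_fst _ _

theorem τinv_snd : τinv u ≫ snd H G = snd H G := lift_snd _ _

theorem τ_τinv : τ u ≫ τinv u = 𝟙 _ := by
  apply CartesianMonoidalCategory.hom_ext
  · rw [Category.assoc, τinv_fst, MonObj.comp_mul, GrpObj.comp_inv, ← Category.assoc, τ_snd,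
      τ_fst, inv_mul_cancel_left, Category.id_comp]
  · rw [Category.assoc, τinv_snd, τ_snd, Category.id_comp]

theorem τinv_τ : τinv u ≫ τ u = 𝟙 _ := by
  apply CartesianMonoidalCategory.hom_ext
  · rw [Category.assoc, τ_fst, MonObj.comp_mul, ← Category.assoc, τinv_snd,
      τinv_fst, mul_inv_cancel_left, Category.id_comp]
  · rw [Category.assoc, τ_snd, τinv_snd, Category.id_comp]

theorem w_eq : w i u = (β_ G G').hom ≫ ((i ≫ u) ▷ G) ≫ τ u := by
  have hact : (G ◁ i) ≫ μ[G] = fst G G' * (snd G G' ≫ i) := by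
    have := comp_act i (𝟙 (G ⊗ G'))
    simpa using this
  apply CartesianMonoidalCategory.hom_ext
  · have h1 : ((β_ G G').hom ≫ ((i ≫ u) ▷ G) ≫ τ u) ≫ fst H G =
        ((β_ G G').hom ≫ ((i ≫ u) ▷ G) ≫ snd H G ≫ u) *
          ((β_ G G').hom ≫ ((i ≫ u) ▷ G) ≫ fst H G) := by
      simp only [Category.assoc, τ_fst, MonObj.comp_mul]
    rw [h1, w_fst, hact, MonObj.mul_comp]
    congr 1
    · rw [← Category.assoc ((i ≫ u) ▷ G), whiskerRight_snd, ← Category.assoc, braiding_hom_snd]
    · rw [whiskerRight_fst, ← Category.assoc, braiding_hom_fst]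
      simp only [Category.assoc]
  · have h2 : ((β_ G G').hom ≫ ((i ≫ u) ▷ G) ≫ τ u) ≫ snd H G =
        (β_ G G').hom ≫ ((i ≫ u) ▷ G) ≫ snd H G := by
      simp only [Category.assoc, τ_snd]
    rw [h2, w_snd, whiskerRight_snd, braiding_hom_snd]

omit [IsMonHom p] [IsMonHom u] in
theorem lift_cond {T : Over S} (a : T ⟶ G) (b : T ⟶ H ⊗ G)
    (hab : a ≫ lift u p = b ≫ (H ◁ p)) : (b ≫ snd H G) ≫ p = a ≫ p := by
  have := congrArg (fun φ => φ ≫ snd H G'') hab
  simp only [Category.assoc, lift_snd, whiskerLeft_snd] at this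
  rw [Category.assoc]
  exact this.symm

include hker in
theorem isPullback_w : IsPullback ((G ◁ i) ≫ μ[G]) (w i u) (lift u p) (H ◁ p) := by
  have kp : IsPullback (fst G G') ((G ◁ i) ≫ μ[G]) p p := isPullback_of_kernel i p hker
  refine isPullback_of_lift _ _ _ _ ?_
    (fun {T} a b hab => kp.lift (b ≫ snd H G) a (lift_cond p u a b hab)) ?_ ?_ ?_
  · apply CartesianMonoidalCategory.hom_ext
    · simp only [Category.assoc, lift_fst, whiskerLeft_fst, w_fst]
    · simp only [Category.assoc, lift_snd, whiskerLeft_snd]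
      rw [← Category.assoc (w i u), w_snd, kp.w, Category.assoc]
  · intro T a b hab
    exact kp.lift_snd _ _ _
  · intro T a b hab
    have h1 := congrArg (fun φ => φ ≫ fst H G'') hab
    simp only [Category.assoc, lift_fst, whiskerLeft_fst] at h1
    apply CartesianMonoidalCategory.hom_ext
    · rw [Category.assoc, w_fst, ← Category.assoc, kp.lift_snd, h1]
    · rw [Category.assoc, w_snd, kp.lift_fst]
  · intro T m m' e1 e2
    apply kp.hom_ext _ e1
    have := congrArg (fun φ => φ ≫ snd H G) e2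
    simpa only [Category.assoc, w_snd] using this

include hker in
/-- SGA3 XVI: `u` is proper as soon as its restriction to the kernel of a proper fppf quotient
is proper -/
theorem isProper_of_isProper_kernel (fp : Fppf p.left) [IsProper G''.hom]
    (hu : IsProper (i ≫ u).left) : IsProper u.left := by
  -- `w` is proper
  have hw : IsProper (w i u).left := by
    rw [w_eq, Over.comp_left, Over.comp_left]
    haveI : IsIso (β_ G G').hom.left :=
      inferInstanceAs (IsIso ((Over.forget S).map (β_ G G').hom))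
    haveI : IsIso (τ u) := ⟨τinv u, τ_τinv u, τinv_τ u⟩
    haveI : IsIso (τ u).left := inferInstanceAs (IsIso ((Over.forget S).map (τ u)))
    haveI : IsProper ((i ≫ u) ▷ G).left :=
      MorphismProperty.of_isPullback (P := @IsProper)
        ((isPullback_whiskerRight_fst (i ≫ u) G).flip.map (Over.forget S)) hu
    infer_instance
  -- descend along `H ◁ p`
  have hQ : (@Surjective ⊓ @Flat ⊓ @LocallyOfFinitePresentation : MorphismProperty Scheme.{u})
      (H ◁ p).left := by
    obtain ⟨h1, h2, h3⟩ := fppf_whiskerLeft H p fp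
    exact ⟨⟨h1, h2⟩, h3⟩
  have hv : IsProper (lift u p).left :=
    MorphismProperty.of_isPullback_of_descendsAlong (P := @IsProper)
      (Q := @Surjective ⊓ @Flat ⊓ @LocallyOfFinitePresentation)
      ((isPullback_w p i hker u).flip.map (Over.forget S)) hQ hw
  have hfst : IsProper (fst H G'').left := by
    rw [Over.fst_left]
    infer_instance
  have : u.left = (lift u p).left ≫ (fst H G'').left := by
    rw [← Over.comp_left, lift_fst]
  rw [this]
  infer_instance

end Groth.Agent.Lib.Helper10.ProperHom
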