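import Mathlib
import Groth.Agent.Lib.Helper10.RepDesc1
import Groth.Prelude.Def_NonAbH2

/-!
# Push forward of fpqc torsors, part 1: small refinements of fpqc coverings, gluing along charts
-/

set_option autoImplicit false
set_option linter.unusedSectionVars false
set_option linter.style.haveILetI false
set_option backward.isDefEq.respectTransparency.types false
set_option maxHeartbeats 4000000
set_option synthInstance.maxHeartbeats 400000
universe u
open CategoryTheory CategoryTheory.Limits AlgebraicGeometry Opposite MonoidalCategory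
  CartesianMonoidalCategory MonObj GrpObj

namespace Groth.Agent.Lib.Helper10.PushEx

open Groth.Agent.Lib.Helper10.RepDesc

variable {B : Scheme.{u}}

/-- an fpqc covering presieve can be refined by an fpqc covering family indexed by a small type. -/
theorem exists_small_family (R : Presieve B) (hR : R ∈ Scheme.fpqcPrecoverage B) :
    ∃ (Idx : Type u) (U : Idx → Scheme.{u}) (f : ∀ i, U i ⟶ B),
      Presieve.ofArrows U f ∈ Scheme.fpqcPrecoverage B ∧
      ∀ i, ∃ (Y : Scheme.{u}) (g : Y ⟶ B) (k : U i ⟶ Y), R g ∧ k ≫ g = f i := by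
  have hR' : R ∈ Scheme.propQCPrecoverage @Flat B := hR
  obtain ⟨𝒰, h𝒰, rfl⟩ := Scheme.mem_propQCPrecoverage_iff_exists_quasiCompactCover.1 hR'
  have hcov : ∀ V : B.affineOpens,
      IsCompactOpenCovered (fun i => (𝒰.f i).base) ((V.1 : B.Opens) : Set B) :=
    fun V => h𝒰.isCompactOpenCovered_of_isAffineOpen V.2
  choose s hsfin W hWc hWeq using hcov
  haveI : ∀ V : B.affineOpens, Finite ↥(s V) := fun V => (hsfin V).to_subtype
  let n : B.affineOpens → ℕ := fun V => Nat.card ↥(s V)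
  let en : ∀ V : B.affineOpens, Fin (n V) ≃ ↥(s V) := fun V => (Finite.equivFin ↥(s V)).symm
  let Idx : Type u := Σ V : B.affineOpens, Fin (n V)
  let idx : Idx → 𝒰.I₀ := fun p => ((en p.1 p.2 : ↥(s p.1)) : 𝒰.I₀)
  have hidx : ∀ p : Idx, idx p ∈ s p.1 := fun p => (en p.1 p.2).2
  let WW : ∀ p : Idx, (𝒰.X (idx p)).Opens := fun p => W p.1 (idx p) (hidx p)
  let U : Idx → Scheme.{u} := fun p => ((WW p : (𝒰.X (idx p)).Opens) : Scheme.{u})
  let f : ∀ p : Idx, U p ⟶ B := fun p => (WW p).ι ≫ 𝒰.f (idx p)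
  have hmem : ∀ (V : B.affineOpens) (b : B), b ∈ (V.1 : B.Opens) →
      ∃ k : Fin (n V), b ∈ Set.range (f ⟨V, k⟩).base := by
    intro V b hb
    have hb' : b ∈ ⋃ (i : 𝒰.I₀) (h : i ∈ s V), (𝒰.f i).base '' ((W V i h : (𝒰.X i).Opens) :
        Set (𝒰.X i)) := by
      rw [hWeq V]; exact hb
    obtain ⟨i, hi, z, hz, rfl⟩ := Set.mem_iUnion₂.1 hb'
    refine ⟨(en V).symm ⟨i, hi⟩, ?_⟩
    have e1 : idx ⟨V, (en V).symm ⟨i, hi⟩⟩ = i := by
      change ((en V ((en V).symm ⟨i, hi⟩) : ↥(s V)) : 𝒰.I₀) = i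
      rw [Equiv.apply_symm_apply]
    have key : ∀ (i' : 𝒰.I₀) (hi' : i' ∈ s V), i' = i →
        (𝒰.f i).base z ∈ Set.range (Scheme.Opens.ι (X := 𝒰.X i') (W V i' hi') ≫ 𝒰.f i').base := by
      intro i' hi' e
      subst e
      exact ⟨⟨z, hz⟩, rfl⟩
    exact key _ (hidx ⟨V, (en V).symm ⟨i, hi⟩⟩) e1
  have hsub : ∀ (V : B.affineOpens) (k : Fin (n V)),
      Set.range (f ⟨V, k⟩).base ⊆ ((V.1 : B.Opens) : Set B) := by
    intro V k b hb
    obtain ⟨z, rfl⟩ := hb
    rw [← hWeq V]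
    exact Set.mem_iUnion₂.2 ⟨idx ⟨V, k⟩, hidx ⟨V, k⟩, (WW ⟨V, k⟩).ι.base z, z.2, rfl⟩
  refine ⟨Idx, U, f, ?_, fun p => ⟨𝒰.X (idx p), 𝒰.f (idx p), (WW p).ι, ⟨idx p⟩, rfl⟩⟩
  change _ ∈ (Scheme.qcPrecoverage ⊓ Scheme.precoverage @Flat) B
  refine ⟨?_, ?_⟩
  · let E : PreZeroHypercover.{u} B := { I₀ := Idx, X := U, f := f }
    have hE : QuasiCompactCover E := by
      refine ⟨fun {V₀} hV₀ => ?_⟩
      let V : B.affineOpens := ⟨V₀, hV₀⟩
      refine IsCompactOpenCovered.of_finite (κ := Fin (n V)) (fun k => (⟨V, k⟩ : Idx))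
        (fun k => ⊤) ?_ ?_
      · intro k
        haveI : CompactSpace ↥(U ⟨V, k⟩) :=
          isCompact_iff_compactSpace.mp (hWc V (idx ⟨V, k⟩) (hidx ⟨V, k⟩))
        exact isCompact_univ
      · apply subset_antisymm
        · apply Set.iUnion_subset
          intro k b hb
          obtain ⟨z, -, rfl⟩ := hb
          exact hsub V k ⟨z, rfl⟩
        · intro b hb
          obtain ⟨k, z, hz⟩ := hmem V b hb
          exact Set.mem_iUnion.2 ⟨k, z, trivial, hz⟩
    exact (Scheme.presieve₀_mem_qcPrecoverage_iff (E := E)).2 hE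
  · rw [Scheme.ofArrows_mem_precoverage_iff]
    refine ⟨fun b => ?_, fun p => ?_⟩
    · obtain ⟨_, ⟨V₀, hV₀ : IsAffineOpen V₀, rfl⟩, hbV, -⟩ :=
        B.isBasis_affineOpens.exists_subset_of_mem_open (Set.mem_univ b) isOpen_univ
      obtain ⟨k, hk⟩ := hmem ⟨V₀, hV₀⟩ b hbV
      exact ⟨⟨⟨V₀, hV₀⟩, k⟩, hk⟩
    · haveI : Flat (𝒰.f (idx p)) := 𝒰.map_prop (idx p)
      change Flat ((WW p).ι ≫ 𝒰.f (idx p))
      infer_instance

variable {Idx : Type u} {U : Idx → Scheme.{u}} (f : ∀ i, U i ⟶ B)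

/-- the chart of `T` over `U i`. -/
noncomputable def Tch (T : Over B) (i : Idx) : Over B :=
  Over.mk (pullback.snd T.hom (f i) ≫ f i)

noncomputable def cch (T : Over B) (i : Idx) : Tch f T i ⟶ T :=
  Over.homMk (pullback.fst T.hom (f i)) pullback.condition

noncomputable def bch (T : Over B) (i : Idx) : (Tch f T i).left ⟶ U i := pullback.snd T.hom (f i)

theorem isPullback_ch (T : Over B) (i : Idx) :
    IsPullback (cch f T i).left (bch f T i) T.hom (f i) := IsPullback.of_hasPullback _ _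

/-- morphisms over `B` agree as soon as they agree on all charted points. -/
theorem hom_ext_charts (hf : Presieve.ofArrows U f ∈ Scheme.fpqcPrecoverage B) {T Z : Over B}
    (p q : T ⟶ Z)
    (h : ∀ (W : Over B) (i : Idx) (x : W.left ⟶ U i), x ≫ f i = W.hom → ∀ a : W ⟶ T,
      a ≫ p = a ≫ q) : p = q :=
  hom_ext_over f hf (cch f T) (bch f T) (isPullback_ch f T) p q
    (fun i => h (Tch f T i) i (bch f T i) rfl (cch f T i))

/-- gluing of morphisms defined on charted points. -/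
theorem glue_charts (hf : Presieve.ofArrows U f ∈ Scheme.fpqcPrecoverage B) {T Z : Over B}
    (ψ : ∀ (W : Over B) (i : Idx) (x : W.left ⟶ U i), x ≫ f i = W.hom → (W ⟶ T) → (W ⟶ Z))
    (hnat : ∀ (W W' : Over B) (b : W' ⟶ W) (i : Idx) (x : W.left ⟶ U i) (hx : x ≫ f i = W.hom)
      (a : W ⟶ T), b ≫ ψ W i x hx a =
        ψ W' i (b.left ≫ x) (by rw [Category.assoc, hx, Over.w]) (b ≫ a))
    (hind : ∀ (W : Over B) (i j : Idx) (x₀ : W.left ⟶ U i) (x₁ : W.left ⟶ U j)
      (h₀ : x₀ ≫ f i = W.hom) (h₁ : x₁ ≫ f j = W.hom) (a : W ⟶ T),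
      ψ W i x₀ h₀ a = ψ W j x₁ h₁ a) :
    ∃ Ψ : T ⟶ Z, ∀ (W : Over B) (i : Idx) (x : W.left ⟶ U i) (hx : x ≫ f i = W.hom) (a : W ⟶ T),
      a ≫ Ψ = ψ W i x hx a := by
  have key : ∀ (W : Over B) (i : Idx) (x x' : W.left ⟶ U i) (hx : x ≫ f i = W.hom)
      (hx' : x' ≫ f i = W.hom) (a a' : W ⟶ T), x' = x → a' = a →
      ψ W i x' hx' a' = ψ W i x hx a := by
    intro W i x x' hx hx' a a' e1 e2
    subst e1 e2
    rfl
  obtain ⟨Ψ, hΨ, -⟩ := glue_over f hf (cch f T) (bch f T) (isPullback_ch f T)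
    (fun i => ψ (Tch f T i) i (bch f T i) rfl (cch f T i))
    (fun i j W w₀ w₁ hw => by
      rw [hnat, hnat]
      rw [hind W i j (w₀.left ≫ bch f T i) (w₁.left ≫ bch f T j) _
        (by rw [Category.assoc]; exact Over.w w₁) (w₀ ≫ cch f T i)]
      exact key W j _ _ _ _ _ _ rfl hw)
  refine ⟨Ψ, fun W i x hx a => ?_⟩
  let w : W ⟶ Tch f T i := Over.homMk (pullback.lift a.left x (by rw [Over.w a, hx])) (by
    change pullback.lift a.left x _ ≫ pullback.snd T.hom (f i) ≫ f i = W.hom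
    rw [pullback.lift_snd_assoc, hx])
  have hw1 : w ≫ cch f T i = a := by
    apply Over.OverMorphism.ext
    exact pullback.lift_fst _ _ _
  have hw2 : w.left ≫ bch f T i = x := pullback.lift_snd _ _ _
  have e0 : a ≫ Ψ = (w ≫ cch f T i) ≫ Ψ := by rw [hw1]
  rw [e0, Category.assoc, hΨ i, hnat]
  exact key W i x _ hx _ a _ hw2 hw1

end Groth.Agent.Lib.Helper10.PushEx
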