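import Mathlib
import Groth.Agent.Lib.Helper10.PushEx1
import Groth.Agent.Lib.Helper10.GaTorsor1
import Groth.Agent.Lib.Helper10.IQADesc5

/-!
# Push forward of fpqc torsors, part 2: the cocycle, the descent datum and its charts
-/

set_option autoImplicit false
set_option linter.unusedSectionVars false
set_option linter.style.haveILetI false
set_option backward.isDefEq.respectTransparency.types false
set_option maxHeartbeats 4000000
set_option synthInstance.maxHeartbeats 400000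
universe u
open CategoryTheory CategoryTheory.Limits AlgebraicGeometry Opposite MonoidalCategory
  CartesianMonoidalCategory MonObj GrpObj

namespace Groth.Agent.Lib.Helper10.PushEx

open Desc Groth.Agent.Lib.Helper10.HomSp Groth.Agent.Lib.Helper10.GaTorsor

variable {B : Scheme.{u}} {J J' P : Over B} [GrpObj J] [GrpObj J'] (u : J ⟶ J') [IsMonHom u]
  (a : AlgGrp.Action J P) (hP : NonAbH1.IsPseudoTorsorSch a)
  {Idx : Type u} {U : Idx → Scheme.{u}} (f : ∀ i, U i ⟶ B) (s : ∀ i, U i ⟶ P.left)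
  (hs : ∀ i, s i ≫ P.hom = f i)

/-- the point of `P` attached to a chart. -/
def pt {T : Over B} {i : Idx} {x : T.left ⟶ U i} (hx : x ≫ f i = T.hom) : T ⟶ P :=
  Over.homMk (x ≫ s i) (by rw [Category.assoc, hs, hx])

theorem comp_pt {T W : Over B} (b : W ⟶ T) {i : Idx} {x : T.left ⟶ U i}
    (hx : x ≫ f i = T.hom) :
    b ≫ pt f s hs hx =
      pt f s hs (x := b.left ≫ x) (by rw [Category.assoc, hx, Over.w]) := by
  apply Over.OverMorphism.ext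
  change b.left ≫ x ≫ s i = (b.left ≫ x) ≫ s i
  rw [Category.assoc]

/-- the cocycle: `cc h₀ h₁ • pt h₀ = pt h₁`. -/
noncomputable def cc {T : Over B} {i j : Idx} {x₀ : T.left ⟶ U i} {x₁ : T.left ⟶ U j}
    (h₀ : x₀ ≫ f i = T.hom) (h₁ : x₁ ≫ f j = T.hom) : T ⟶ J :=
  diff a hP (pt f s hs h₁) (pt f s hs h₀)

theorem cc_self {T : Over B} {i : Idx} {x₀ : T.left ⟶ U i} (h₀ : x₀ ≫ f i = T.hom) :
    cc a hP f s hs h₀ h₀ = 1 :=
  (eq_diff a hP _ _ 1 (one_smul a _)).symm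

theorem cc_trans {T : Over B} {i j k : Idx} {x₀ : T.left ⟶ U i} {x₁ : T.left ⟶ U j}
    {x₂ : T.left ⟶ U k} (h₀ : x₀ ≫ f i = T.hom) (h₁ : x₁ ≫ f j = T.hom)
    (h₂ : x₂ ≫ f k = T.hom) :
    cc a hP f s hs h₁ h₂ * cc a hP f s hs h₀ h₁ = cc a hP f s hs h₀ h₂ :=
  diff_mul_diff a hP _ _ _

theorem comp_cc {T W : Over B} (b : W ⟶ T) {i j : Idx} {x₀ : T.left ⟶ U i}
    {x₁ : T.left ⟶ U j} (h₀ : x₀ ≫ f i = T.hom) (h₁ : x₁ ≫ f j = T.hom) :
    b ≫ cc a hP f s hs h₀ h₁ =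
      cc a hP f s hs (x₀ := b.left ≫ x₀) (x₁ := b.left ≫ x₁)
        (by rw [Category.assoc, h₀, Over.w]) (by rw [Category.assoc, h₁, Over.w]) := by
  unfold cc
  rw [comp_diff, comp_pt, comp_pt]

/-- the transition element of `J'`. -/
noncomputable def uc {T : Over B} {i j : Idx} {x₀ : T.left ⟶ U i} {x₁ : T.left ⟶ U j}
    (h₀ : x₀ ≫ f i = T.hom) (h₁ : x₁ ≫ f j = T.hom) : T ⟶ J' :=
  (cc a hP f s hs h₀ h₁ ≫ u)⁻¹

theorem uc_self {T : Over B} {i : Idx} {x₀ : T.left ⟶ U i} (h₀ : x₀ ≫ f i = T.hom) :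
    uc u a hP f s hs h₀ h₀ = 1 := by
  unfold uc
  rw [cc_self, MonObj.one_comp, inv_one]

theorem uc_trans {T : Over B} {i j k : Idx} {x₀ : T.left ⟶ U i} {x₁ : T.left ⟶ U j}
    {x₂ : T.left ⟶ U k} (h₀ : x₀ ≫ f i = T.hom) (h₁ : x₁ ≫ f j = T.hom)
    (h₂ : x₂ ≫ f k = T.hom) :
    uc u a hP f s hs h₀ h₁ * uc u a hP f s hs h₁ h₂ = uc u a hP f s hs h₀ h₂ := by
  unfold uc
  rw [← _root_.mul_inv_rev, ← MonObj.mul_comp, cc_trans]

theorem comp_uc {T W : Over B} (b : W ⟶ T) {i j : Idx} {x₀ : T.left ⟶ U i}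
    {x₁ : T.left ⟶ U j} (h₀ : x₀ ≫ f i = T.hom) (h₁ : x₁ ≫ f j = T.hom) :
    b ≫ uc u a hP f s hs h₀ h₁ =
      uc u a hP f s hs (x₀ := b.left ≫ x₀) (x₁ := b.left ≫ x₁)
        (by rw [Category.assoc, h₀, Over.w]) (by rw [Category.assoc, h₁, Over.w]) := by
  unfold uc
  rw [GrpObj.comp_inv, ← Category.assoc, comp_cc]

variable (J') in
/-- the objects of the descent datum: `J'` restricted to the members of the covering. -/
noncomputable def Dobj (i : Idx) : Over (U i) := Over.mk (pullback.fst (f i) J'.hom)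

/-- the point of `J'` attached to a lift. -/
noncomputable def toJ {T : Over B} {i : Idx} {x : T.left ⟶ U i} (hx : x ≫ f i = T.hom)
    (v : Lifts (Dobj J' f i) x) : T ⟶ J' :=
  Over.homMk ((v.1 : T.left ⟶ pullback (f i) J'.hom) ≫ pullback.snd (f i) J'.hom) (by
    have h1 : (v.1 : T.left ⟶ pullback (f i) J'.hom) ≫ pullback.fst (f i) J'.hom = x := v.2
    have hc : pullback.fst (f i) J'.hom ≫ f i = pullback.snd (f i) J'.hom ≫ J'.hom :=
      pullback.condition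
    change ((v.1 : T.left ⟶ pullback (f i) J'.hom) ≫ pullback.snd (f i) J'.hom) ≫ J'.hom = T.hom
    erw [Category.assoc, ← hc, ← Category.assoc, h1, hx])

/-- the lift attached to a point of `J'`. -/
noncomputable def ofJ {T : Over B} {i : Idx} {x : T.left ⟶ U i} (hx : x ≫ f i = T.hom)
    (g : T ⟶ J') : Lifts (Dobj J' f i) x :=
  ⟨pullback.lift x g.left (by rw [hx, Over.w g]), pullback.lift_fst _ _ _⟩

theorem toJ_ofJ {T : Over B} {i : Idx} {x : T.left ⟶ U i} (hx : x ≫ f i = T.hom)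
    (g : T ⟶ J') : toJ f hx (ofJ f hx g) = g := by
  apply Over.OverMorphism.ext
  exact pullback.lift_snd _ _ _

theorem ofJ_toJ {T : Over B} {i : Idx} {x : T.left ⟶ U i} (hx : x ≫ f i = T.hom)
    (v : Lifts (Dobj J' f i) x) : ofJ f hx (toJ f hx v) = v := by
  apply Subtype.ext
  have h1 : (v.1 : T.left ⟶ pullback (f i) J'.hom) ≫ pullback.fst (f i) J'.hom = x := v.2
  change pullback.lift x (toJ f hx v).left _ = (v.1 : T.left ⟶ pullback (f i) J'.hom)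
  apply pullback.hom_ext
  · erw [h1]
    exact pullback.lift_fst _ _ _
  · exact pullback.lift_snd _ _ _

theorem comp_toJ {T W : Over B} (b : W ⟶ T) {i : Idx} {x : T.left ⟶ U i}
    (hx : x ≫ f i = T.hom) (v : Lifts (Dobj J' f i) x) :
    b ≫ toJ f hx v = toJ f (x := b.left ≫ x) (by rw [Category.assoc, hx, Over.w])
      ⟨b.left ≫ v.1, by rw [Category.assoc, v.2]⟩ := by
  apply Over.OverMorphism.ext
  change b.left ≫ v.1 ≫ pullback.snd (f i) J'.hom = (b.left ≫ v.1) ≫ pullback.snd (f i) J'.hom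
  rw [Category.assoc]

theorem ofJ_comp_val {T W : Over B} (b : W ⟶ T) {i : Idx} {x : T.left ⟶ U i}
    (hx : x ≫ f i = T.hom) (g : T ⟶ J') :
    (ofJ f (x := b.left ≫ x) (by rw [Category.assoc, hx, Over.w]) (b ≫ g)).1 =
      b.left ≫ (ofJ f hx g).1 := by
  apply pullback.hom_ext
  · change pullback.lift _ _ _ ≫ _ = (b.left ≫ pullback.lift _ _ _) ≫ _
    rw [pullback.lift_fst, Category.assoc, pullback.lift_fst]
  · change pullback.lift _ _ _ ≫ _ = (b.left ≫ pullback.lift _ _ _) ≫ _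
    rw [pullback.lift_snd, Category.assoc, pullback.lift_snd]
    rfl

/-- transfer of lifts: right multiplication by the transition element. -/
noncomputable def transfer {i j : Idx} {T : Over B} {x₀ : T.left ⟶ U i} {x₁ : T.left ⟶ U j}
    (h₀ : x₀ ≫ f i = T.hom) (h₁ : x₁ ≫ f j = T.hom) (v : Lifts (Dobj J' f i) x₀) :
    Lifts (Dobj J' f j) x₁ :=
  ofJ f h₁ (toJ f h₀ v * uc u a hP f s hs h₀ h₁)

theorem toJ_transfer {i j : Idx} {T : Over B} {x₀ : T.left ⟶ U i} {x₁ : T.left ⟶ U j}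
    (h₀ : x₀ ≫ f i = T.hom) (h₁ : x₁ ≫ f j = T.hom) (v : Lifts (Dobj J' f i) x₀) :
    toJ f h₁ (transfer u a hP f s hs h₀ h₁ v) = toJ f h₀ v * uc u a hP f s hs h₀ h₁ :=
  toJ_ofJ f h₁ _

theorem transfer_self {i : Idx} {T : Over B} {x₀ : T.left ⟶ U i}
    (h₀ : x₀ ≫ f i = T.hom) (v : Lifts (Dobj J' f i) x₀) :
    transfer u a hP f s hs h₀ h₀ v = v := by
  unfold transfer
  rw [uc_self, _root_.mul_one, ofJ_toJ]

theorem transfer_trans {i j k : Idx} {T : Over B} {x₀ : T.left ⟶ U i} {x₁ : T.left ⟶ U j}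
    {x₂ : T.left ⟶ U k} (h₀ : x₀ ≫ f i = T.hom) (h₁ : x₁ ≫ f j = T.hom)
    (h₂ : x₂ ≫ f k = T.hom) (v : Lifts (Dobj J' f i) x₀) :
    transfer u a hP f s hs h₁ h₂ (transfer u a hP f s hs h₀ h₁ v) =
      transfer u a hP f s hs h₀ h₂ v := by
  unfold transfer
  rw [toJ_ofJ, _root_.mul_assoc, uc_trans]

theorem transfer_comp {i j : Idx} {T W : Over B} (b : W ⟶ T) {x₀ : T.left ⟶ U i}
    {x₁ : T.left ⟶ U j} (h₀ : x₀ ≫ f i = T.hom) (h₁ : x₁ ≫ f j = T.hom)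
    (v : Lifts (Dobj J' f i) x₀) :
    (transfer u a hP f s hs (T := W) (x₀ := b.left ≫ x₀) (x₁ := b.left ≫ x₁)
      (by rw [Category.assoc, h₀, Over.w]) (by rw [Category.assoc, h₁, Over.w])
      ⟨b.left ≫ v.1, by rw [Category.assoc, v.2]⟩).1 =
      b.left ≫ (transfer u a hP f s hs h₀ h₁ v).1 := by
  unfold transfer
  rw [← ofJ_comp_val, MonObj.comp_mul, comp_toJ, comp_uc]

theorem transfer_congr {i j : Idx} {T₀ : Scheme.{u}} {t t' : T₀ ⟶ B} (e : t = t')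
    {x₀ : T₀ ⟶ U i} {x₁ : T₀ ⟶ U j} (h₀ : x₀ ≫ f i = t) (h₁ : x₁ ≫ f j = t)
    (v : Lifts (Dobj J' f i) x₀) :
    transfer u a hP f s hs (T := Over.mk t) h₀ h₁ v =
      transfer u a hP f s hs (T := Over.mk t') (h₀.trans e) (h₁.trans e) v := by
  subst e
  rfl

/-- the transfer bijection. -/
noncomputable def transferEquiv {i j : Idx} {T : Over B} {x₀ : T.left ⟶ U i}
    {x₁ : T.left ⟶ U j} (h₀ : x₀ ≫ f i = T.hom) (h₁ : x₁ ≫ f j = T.hom) :
    Lifts (Dobj J' f i) x₀ ≃ Lifts (Dobj J' f j) x₁ where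
  toFun := transfer u a hP f s hs h₀ h₁
  invFun := transfer u a hP f s hs h₁ h₀
  left_inv := fun v => by rw [transfer_trans, transfer_self]
  right_inv := fun v => by rw [transfer_trans, transfer_self]

theorem dd_natural ⦃T T' : Scheme.{u}⦄ (g : T' ⟶ T) ⦃i j : Idx⦄ (x₀ : T ⟶ U i) (x₁ : T ⟶ U j)
    (h : x₀ ≫ f i = x₁ ≫ f j) (y₀ : T' ⟶ U i) (y₁ : T' ⟶ U j) (hy₀ : g ≫ x₀ = y₀)
    (hy₁ : g ≫ x₁ = y₁)
    (h' : y₀ ≫ f i = y₁ ≫ f j) (v : Lifts (Dobj J' f i) x₀) (v' : Lifts (Dobj J' f i) y₀)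
    (hv' : v'.1 = g ≫ v.1) :
    (transfer u a hP f s hs (T := Over.mk (y₀ ≫ f i)) (x₀ := y₀) (x₁ := y₁) rfl h'.symm v').1 =
      g ≫ (transfer u a hP f s hs (T := Over.mk (x₀ ≫ f i)) (x₀ := x₀) (x₁ := x₁) rfl
        h.symm v).1 := by
  subst hy₀ hy₁
  have ev : v' = ⟨g ≫ v.1, by rw [Category.assoc, v.2]⟩ := Subtype.ext hv'
  subst ev
  have h1 := transfer_comp u a hP f s hs (T := Over.mk (x₀ ≫ f i))
    (W := Over.mk (g ≫ x₀ ≫ f i)) (Over.homMk g rfl) (x₀ := x₀) (x₁ := x₁) rfl h.symm v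
  have h2 := transfer_congr u a hP f s hs (Category.assoc g x₀ (f i)) (x₀ := g ≫ x₀)
    (x₁ := g ≫ x₁) rfl h'.symm ⟨g ≫ v.1, by rw [Category.assoc, v.2]⟩
  exact (congrArg Subtype.val h2).trans h1

theorem dd_comp ⦃T : Scheme.{u}⦄ ⦃i j k : Idx⦄ (x₀ : T ⟶ U i) (x₁ : T ⟶ U j) (x₂ : T ⟶ U k)
    (h₀₁ : x₀ ≫ f i = x₁ ≫ f j) (h₁₂ : x₁ ≫ f j = x₂ ≫ f k) (v : Lifts (Dobj J' f i) x₀) :
    transfer u a hP f s hs (T := Over.mk (x₁ ≫ f j)) (x₀ := x₁) (x₁ := x₂) rfl h₁₂.symm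
      (transfer u a hP f s hs (T := Over.mk (x₀ ≫ f i)) (x₀ := x₀) (x₁ := x₁) rfl h₀₁.symm v) =
      transfer u a hP f s hs (T := Over.mk (x₀ ≫ f i)) (x₀ := x₀) (x₁ := x₂) rfl
        (h₀₁.trans h₁₂).symm v := by
  have h2 := transfer_congr u a hP f s hs h₀₁.symm (x₀ := x₁) (x₁ := x₂) rfl h₁₂.symm
    (transfer u a hP f s hs (T := Over.mk (x₀ ≫ f i)) (x₀ := x₀) (x₁ := x₁) rfl h₀₁.symm v)
  rw [h2]
  exact transfer_trans u a hP f s hs (T := Over.mk (x₀ ≫ f i)) (x₀ := x₀) (x₁ := x₁)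
    (x₂ := x₂) rfl h₀₁.symm (h₀₁.trans h₁₂).symm v

/-- the descent datum of the push forward. -/
noncomputable def dd : SchDDFam f where
  obj := Dobj J' f
  φ T i j x₀ x₁ h :=
    transferEquiv u a hP f s hs (T := Over.mk (x₀ ≫ f i)) (x₀ := x₀) (x₁ := x₁) rfl h.symm
  φ_natural T T' g i j x₀ x₁ h y₀ y₁ hy₀ hy₁ h' v v' hv' :=
    dd_natural u a hP f s hs g x₀ x₁ h y₀ y₁ hy₀ hy₁ h' v v' hv'
  φ_self T i x v := transfer_self u a hP f s hs (T := Over.mk (x ≫ f i)) (x₀ := x) rfl v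
  φ_comp T i j k x₀ x₁ x₂ h₀₁ h₁₂ v := dd_comp u a hP f s hs x₀ x₁ x₂ h₀₁ h₁₂ v

theorem dd_φ {T : Scheme.{u}} {i j : Idx} (x₀ : T ⟶ U i) (x₁ : T ⟶ U j) (t : T ⟶ B)
    (h₀ : x₀ ≫ f i = t) (h₁ : x₁ ≫ f j = t) (v : Lifts (Dobj J' f i) x₀) :
    (dd u a hP f s hs).φ x₀ x₁ (h₀.trans h₁.symm) v =
      transfer u a hP f s hs (T := Over.mk t) h₀ h₁ v := by
  subst h₀
  rfl

/-- an affine morphism is ind-quasi-affine. -/
theorem isIndQuasiAffineHom_of_isAffineHom {X Y : Scheme.{u}} (g : X ⟶ Y) [IsAffineHom g] :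
    MoreMor.IsIndQuasiAffineHom g := by
  intro V hV W hW
  haveI : IsAffine ((g ⁻¹ᵁ V : X.Opens) : Scheme.{u}) := hV.preimage g
  haveI : CompactSpace ↥((W : ((g ⁻¹ᵁ V : X.Opens) : Scheme.{u}).Opens) : Scheme.{u}) :=
    isCompact_iff_compactSpace.mp hW
  exact Scheme.IsQuasiAffine.of_isImmersion W.ι

theorem isIndQuasiAffineHom_dd [IsAffineHom J'.hom] (i : Idx) :
    MoreMor.IsIndQuasiAffineHom ((dd u a hP f s hs).obj i).hom := by
  haveI : IsAffineHom (pullback.fst (f i) J'.hom) :=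
    MorphismProperty.pullback_fst (P := @IsAffineHom) (f i) J'.hom inferInstance
  exact isIndQuasiAffineHom_of_isAffineHom (pullback.fst (f i) J'.hom)

end Groth.Agent.Lib.Helper10.PushEx
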