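import Mathlib
import Groth.Agent.Lib.Helper10.PushEx2

/-!
# Push forward of fpqc torsors, part 3: charts of the descended scheme, the action
-/

set_option autoImplicit false
set_option linter.unusedSectionVars false
set_option linter.style.haveILetI false
set_option backward.isDefEq.respectTransparency.types false
set_option maxHeartbeats 4000000
set_option synthInstance.maxHeartbeats 400000
universe u
open CategoryTheory CategoryTheory.Limits AlgebraicGeometry Opposite MonoidalCategory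
  CartesianMonoidalCategory MonObj GrpObj

namespace Groth.Agent.Lib.Helper10.PushEx

open Desc Groth.Agent.Lib.Helper10.HomSp Groth.Agent.Lib.Helper10.GaTorsor

section Points

variable {C : Type*} [Category C] [CartesianMonoidalCategory C] {G X : C} [GrpObj G]

/-- an action from its point-wise axioms. -/
noncomputable def actionOfPoints {S : Scheme.{u}} {G X : Over S} [GrpObj G] (act : G ⊗ X ⟶ X)
    (h1 : ∀ {T : Over S} (x : T ⟶ X), lift (1 : T ⟶ G) x ≫ act = x)
    (h2 : ∀ {T : Over S} (g h : T ⟶ G) (x : T ⟶ X),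
      lift (g * h) x ≫ act = lift g (lift h x ≫ act) ≫ act) : AlgGrp.Action G X where
  act := act
  one_act := by
    have e1 : η[G] ▷ X = lift (1 : 𝟙_ (Over S) ⊗ X ⟶ G) (snd (𝟙_ (Over S)) X) := by
      apply CartesianMonoidalCategory.hom_ext
      · rw [whiskerRight_fst, lift_fst, Hom.one_def]
        congr 1
      · rw [whiskerRight_snd, lift_snd]
    rw [e1, h1]
    exact (leftUnitor_hom X).symm
  mul_act := by
    have e1 : μ[G] ▷ X = lift ((fst (G ⊗ G) X ≫ fst G G) * (fst (G ⊗ G) X ≫ snd G G))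
        (snd (G ⊗ G) X) := by
      apply CartesianMonoidalCategory.hom_ext
      · rw [whiskerRight_fst, lift_fst, Hom.mul_def, lift_comp_fst_snd]
      · rw [whiskerRight_snd, lift_snd]
    have e2 : (α_ G G X).hom ≫ (G ◁ act) = lift (fst (G ⊗ G) X ≫ fst G G)
        (lift (fst (G ⊗ G) X ≫ snd G G) (snd (G ⊗ G) X) ≫ act) := by
      apply CartesianMonoidalCategory.hom_ext
      · rw [Category.assoc, whiskerLeft_fst, associator_hom_fst, lift_fst]
      · rw [Category.assoc, whiskerLeft_snd, lift_snd, ← Category.assoc]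
        congr 1
        apply CartesianMonoidalCategory.hom_ext
        · rw [Category.assoc, associator_hom_snd_fst, lift_fst]
        · rw [Category.assoc, associator_hom_snd_snd, lift_snd]
    rw [e1, h2, ← Category.assoc, e2]

end Points

variable {B : Scheme.{u}} {J J' P : Over B} [GrpObj J] [GrpObj J'] (u : J ⟶ J') [IsMonHom u]
  (a : AlgGrp.Action J P) (hP : NonAbH1.IsPseudoTorsorSch a)
  {Idx : Type u} {U : Idx → Scheme.{u}} (f : ∀ i, U i ⟶ B) (s : ∀ i, U i ⟶ P.left)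
  (hs : ∀ i, s i ≫ P.hom = f i)
  (Q : Over B) (e : (toDDFam f).obj Q ≅ dd u a hP f s hs)

theorem E_hom_inv (i : Idx) : (e.hom.hom i).left ≫ (e.inv.hom i).left = 𝟙 _ := by
  have h1 : (e.hom ≫ e.inv).hom i = 𝟙 _ := by rw [e.hom_inv_id]; rfl
  have h2 := congrArg (fun z => z.left) h1
  exact h2

theorem E_inv_hom (i : Idx) : (e.inv.hom i).left ≫ (e.hom.hom i).left = 𝟙 _ := by
  have h1 : (e.inv ≫ e.hom).hom i = 𝟙 _ := by rw [e.inv_hom_id]; rfl
  have h2 := congrArg (fun z => z.left) h1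
  exact h2

/-- the components of `e`, with clean types. -/
noncomputable def Eh (i : Idx) : pullback (f i) Q.hom ⟶ pullback (f i) J'.hom :=
  (e.hom.hom i).left

noncomputable def Ei (i : Idx) : pullback (f i) J'.hom ⟶ pullback (f i) Q.hom :=
  (e.inv.hom i).left

theorem Eh_Ei (i : Idx) : Eh u a hP f s hs Q e i ≫ Ei u a hP f s hs Q e i = 𝟙 _ :=
  E_hom_inv u a hP f s hs Q e i

theorem Ei_Eh (i : Idx) : Ei u a hP f s hs Q e i ≫ Eh u a hP f s hs Q e i = 𝟙 _ :=
  E_inv_hom u a hP f s hs Q e i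

theorem Eh_w (i : Idx) :
    Eh u a hP f s hs Q e i ≫ pullback.fst (f i) J'.hom = pullback.fst (f i) Q.hom :=
  Over.w (e.hom.hom i)

theorem Ei_w (i : Idx) :
    Ei u a hP f s hs Q e i ≫ pullback.fst (f i) Q.hom = pullback.fst (f i) J'.hom :=
  Over.w (e.inv.hom i)

/-- the graph of a point of `Q` over a chart. -/
noncomputable def liftQ {T : Over B} {i : Idx} {x : T.left ⟶ U i} (hx : x ≫ f i = T.hom)
    (y : T ⟶ Q) : T.left ⟶ pullback (f i) Q.hom :=
  pullback.lift x y.left (by rw [hx, Over.w y])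

/-- the graph of a point of `J'` over a chart. -/
noncomputable def liftJ {T : Over B} {i : Idx} {x : T.left ⟶ U i} (hx : x ≫ f i = T.hom)
    (g : T ⟶ J') : T.left ⟶ pullback (f i) J'.hom :=
  pullback.lift x g.left (by rw [hx, Over.w g])

theorem liftQ_fst {T : Over B} {i : Idx} {x : T.left ⟶ U i} (hx : x ≫ f i = T.hom)
    (y : T ⟶ Q) : liftQ f Q hx y ≫ pullback.fst (f i) Q.hom = x := pullback.lift_fst _ _ _

theorem liftQ_snd {T : Over B} {i : Idx} {x : T.left ⟶ U i} (hx : x ≫ f i = T.hom)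
    (y : T ⟶ Q) : liftQ f Q hx y ≫ pullback.snd (f i) Q.hom = y.left := pullback.lift_snd _ _ _

theorem liftJ_fst {T : Over B} {i : Idx} {x : T.left ⟶ U i} (hx : x ≫ f i = T.hom)
    (g : T ⟶ J') : liftJ f hx g ≫ pullback.fst (f i) J'.hom = x := pullback.lift_fst _ _ _

theorem liftJ_snd {T : Over B} {i : Idx} {x : T.left ⟶ U i} (hx : x ≫ f i = T.hom)
    (g : T ⟶ J') : liftJ f hx g ≫ pullback.snd (f i) J'.hom = g.left := pullback.lift_snd _ _ _

theorem comp_liftQ {T W : Over B} (b : W ⟶ T) {i : Idx} {x : T.left ⟶ U i}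
    (hx : x ≫ f i = T.hom) (y : T ⟶ Q) :
    b.left ≫ liftQ f Q hx y =
      liftQ f Q (x := b.left ≫ x) (by rw [Category.assoc, hx, Over.w]) (b ≫ y) := by
  apply pullback.hom_ext
  · rw [Category.assoc, liftQ_fst, liftQ_fst]
  · rw [Category.assoc, liftQ_snd, liftQ_snd]
    rfl

/-- the chart: a point of `Q` read in `J'`. -/
noncomputable def ch {T : Over B} {i : Idx} {x : T.left ⟶ U i} (hx : x ≫ f i = T.hom)
    (y : T ⟶ Q) : T ⟶ J' :=
  Over.homMk ((liftQ f Q hx y ≫ Eh u a hP f s hs Q e i) ≫ pullback.snd (f i) J'.hom) (by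
    have hc : pullback.fst (f i) J'.hom ≫ f i = pullback.snd (f i) J'.hom ≫ J'.hom :=
      pullback.condition
    rw [Category.assoc, ← hc, Category.assoc, ← Category.assoc (Eh u a hP f s hs Q e i), Eh_w,
      ← Category.assoc, liftQ_fst, hx])

/-- the inverse chart. -/
noncomputable def chInv {T : Over B} {i : Idx} {x : T.left ⟶ U i} (hx : x ≫ f i = T.hom)
    (g : T ⟶ J') : T ⟶ Q :=
  Over.homMk ((liftJ f hx g ≫ Ei u a hP f s hs Q e i) ≫ pullback.snd (f i) Q.hom) (by
    have hc : pullback.fst (f i) Q.hom ≫ f i = pullback.snd (f i) Q.hom ≫ Q.hom :=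
      pullback.condition
    rw [Category.assoc, ← hc, Category.assoc, ← Category.assoc (Ei u a hP f s hs Q e i), Ei_w,
      ← Category.assoc, liftJ_fst, hx])

theorem ch_left {T : Over B} {i : Idx} {x : T.left ⟶ U i} (hx : x ≫ f i = T.hom)
    (y : T ⟶ Q) : (ch u a hP f s hs Q e hx y).left =
      (liftQ f Q hx y ≫ Eh u a hP f s hs Q e i) ≫ pullback.snd (f i) J'.hom := rfl

theorem chInv_left {T : Over B} {i : Idx} {x : T.left ⟶ U i} (hx : x ≫ f i = T.hom)
    (g : T ⟶ J') : (chInv u a hP f s hs Q e hx g).left =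
      (liftJ f hx g ≫ Ei u a hP f s hs Q e i) ≫ pullback.snd (f i) Q.hom := rfl

theorem liftQ_chInv {T : Over B} {i : Idx} {x : T.left ⟶ U i} (hx : x ≫ f i = T.hom)
    (g : T ⟶ J') :
    liftQ f Q hx (chInv u a hP f s hs Q e hx g) = liftJ f hx g ≫ Ei u a hP f s hs Q e i := by
  apply pullback.hom_ext
  · rw [liftQ_fst, Category.assoc, Ei_w, liftJ_fst]
  · rw [liftQ_snd, chInv_left]

theorem liftJ_ch {T : Over B} {i : Idx} {x : T.left ⟶ U i} (hx : x ≫ f i = T.hom)
    (y : T ⟶ Q) :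
    liftJ f hx (ch u a hP f s hs Q e hx y) = liftQ f Q hx y ≫ Eh u a hP f s hs Q e i := by
  apply pullback.hom_ext
  · rw [liftJ_fst, Category.assoc, Eh_w, liftQ_fst]
  · rw [liftJ_snd, ch_left]

theorem ch_chInv {T : Over B} {i : Idx} {x : T.left ⟶ U i} (hx : x ≫ f i = T.hom)
    (g : T ⟶ J') : ch u a hP f s hs Q e hx (chInv u a hP f s hs Q e hx g) = g := by
  apply Over.OverMorphism.ext
  rw [ch_left, liftQ_chInv, Category.assoc (liftJ f hx g), Ei_Eh, Category.comp_id, liftJ_snd]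

theorem chInv_ch {T : Over B} {i : Idx} {x : T.left ⟶ U i} (hx : x ≫ f i = T.hom)
    (y : T ⟶ Q) : chInv u a hP f s hs Q e hx (ch u a hP f s hs Q e hx y) = y := by
  apply Over.OverMorphism.ext
  rw [chInv_left, liftJ_ch, Category.assoc (liftQ f Q hx y), Eh_Ei, Category.comp_id, liftQ_snd]

theorem ch_injective {T : Over B} {i : Idx} {x : T.left ⟶ U i} (hx : x ≫ f i = T.hom)
    (y y' : T ⟶ Q) (h : ch u a hP f s hs Q e hx y = ch u a hP f s hs Q e hx y') : y = y' := by
  rw [← chInv_ch u a hP f s hs Q e hx y, h, chInv_ch]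

theorem comp_ch {T W : Over B} (b : W ⟶ T) {i : Idx} {x : T.left ⟶ U i}
    (hx : x ≫ f i = T.hom) (y : T ⟶ Q) :
    b ≫ ch u a hP f s hs Q e hx y =
      ch u a hP f s hs Q e (x := b.left ≫ x) (by rw [Category.assoc, hx, Over.w]) (b ≫ y) := by
  apply Over.OverMorphism.ext
  rw [Over.comp_left, ch_left, ch_left, ← comp_liftQ, Category.assoc, Category.assoc,
    Category.assoc]

theorem comp_chInv {T W : Over B} (b : W ⟶ T) {i : Idx} {x : T.left ⟶ U i}
    (hx : x ≫ f i = T.hom) (g : T ⟶ J') :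
    b ≫ chInv u a hP f s hs Q e hx g =
      chInv u a hP f s hs Q e (x := b.left ≫ x) (by rw [Category.assoc, hx, Over.w]) (b ≫ g) := by
  apply ch_injective u a hP f s hs Q e (x := b.left ≫ x) (by rw [Category.assoc, hx, Over.w])
  rw [← comp_ch u a hP f s hs Q e b hx, ch_chInv, ch_chInv]

/-- the lift of the descent datum attached to a point of `Q`. -/
noncomputable def chL {T : Over B} {i : Idx} {x : T.left ⟶ U i} (hx : x ≫ f i = T.hom)
    (y : T ⟶ Q) : Lifts (Dobj J' f i) x :=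
  ⟨liftQ f Q hx y ≫ Eh u a hP f s hs Q e i, by
    change (liftQ f Q hx y ≫ Eh u a hP f s hs Q e i) ≫ pullback.fst (f i) J'.hom = x
    rw [Category.assoc, Eh_w, liftQ_fst]⟩

theorem toJ_chL {T : Over B} {i : Idx} {x : T.left ⟶ U i} (hx : x ≫ f i = T.hom)
    (y : T ⟶ Q) : toJ f hx (chL u a hP f s hs Q e hx y) = ch u a hP f s hs Q e hx y := by
  apply Over.OverMorphism.ext
  rfl

/-- the canonical lift of a point of `Q`. -/
noncomputable def canLift {T : Over B} {i : Idx} {x : T.left ⟶ U i} (hx : x ≫ f i = T.hom)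
    (y : T ⟶ Q) : Lifts (((toDDFam f).obj Q).obj i) x :=
  ⟨liftQ f Q hx y, liftQ_fst f Q hx y⟩

/-- change of chart. -/
theorem ch_change {T : Over B} {i j : Idx} {x₀ : T.left ⟶ U i} {x₁ : T.left ⟶ U j}
    (h₀ : x₀ ≫ f i = T.hom) (h₁ : x₁ ≫ f j = T.hom) (y : T ⟶ Q) :
    ch u a hP f s hs Q e h₁ y = ch u a hP f s hs Q e h₀ y * uc u a hP f s hs h₀ h₁ := by
  obtain ⟨TL, ⟨⟨⟩⟩, Th⟩ := T
  change x₀ ≫ f i = Th at h₀
  change x₁ ≫ f j = Th at h₁
  have hcomm := e.hom.comm x₀ x₁ (h₀.trans h₁.symm) (canLift f Q h₀ y)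
    (chL u a hP f s hs Q e h₀ y) rfl
  rw [dd_φ u a hP f s hs x₀ x₁ Th h₀ h₁] at hcomm
  have h3 : (((toDDFam f).obj Q).φ x₀ x₁ (h₀.trans h₁.symm) (canLift f Q h₀ y)).1 =
      liftQ f Q h₁ y := by
    change pullback.lift x₁ (liftQ f Q h₀ y ≫ pullback.snd (f i) Q.hom) _ = _
    apply pullback.hom_ext
    · rw [pullback.lift_fst, liftQ_fst]
    · rw [pullback.lift_snd, liftQ_snd, liftQ_snd]
  have h2 : chL u a hP f s hs Q e h₁ y =
      transfer u a hP f s hs h₀ h₁ (chL u a hP f s hs Q e h₀ y) := by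
    apply Subtype.ext
    refine Eq.trans ?_ hcomm.symm
    change liftQ f Q h₁ y ≫ Eh u a hP f s hs Q e j = _ ≫ (e.hom.hom j).left
    rw [h3]
    rfl
  rw [← toJ_chL, h2, toJ_transfer, toJ_chL]

theorem chInv_change {T : Over B} {i j : Idx} {x₀ : T.left ⟶ U i} {x₁ : T.left ⟶ U j}
    (h₀ : x₀ ≫ f i = T.hom) (h₁ : x₁ ≫ f j = T.hom) (g : T ⟶ J') :
    chInv u a hP f s hs Q e h₁ (g * uc u a hP f s hs h₀ h₁) = chInv u a hP f s hs Q e h₀ g := by
  apply ch_injective u a hP f s hs Q e h₁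
  rw [ch_chInv, ch_change u a hP f s hs Q e h₀ h₁, ch_chInv]

end Groth.Agent.Lib.Helper10.PushEx
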