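import Mathlib
import Groth.Agent.Lib.Helper10.PushEx3

/-!
# Push forward of fpqc torsors, part 4: the action on the descended scheme, the torsor property,
the equivariant morphism, existence of the push forward
-/

set_option autoImplicit false
set_option linter.unusedSectionVars false
set_option linter.style.haveILetI false
set_option backward.isDefEq.respectTransparency.types false
set_option maxHeartbeats 4000000
set_option synthInstance.maxHeartbeats 400000
universe u
open CategoryTheory CategoryTheory.Limits AlgebraicGeometry Opposite MonoidalCategory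
  CartesianMonoidalCategory MonObj GrpObj

namespace Groth.Agent.Lib.Helper10.PushEx

open Desc Groth.Agent.Lib.Helper10.HomSp Groth.Agent.Lib.Helper10.GaTorsor

variable {B : Scheme.{u}} {J J' P : Over B} [GrpObj J] [GrpObj J'] (u : J ⟶ J') [IsMonHom u]
  (a : AlgGrp.Action J P) (hP : NonAbH1.IsPseudoTorsorSch a)
  {Idx : Type u} {U : Idx → Scheme.{u}} (f : ∀ i, U i ⟶ B) (s : ∀ i, U i ⟶ P.left)
  (hs : ∀ i, s i ≫ P.hom = f i)
  (Q : Over B) (e : (toDDFam f).obj Q ≅ dd u a hP f s hs)
  (hf : Presieve.ofArrows U f ∈ Scheme.fpqcPrecoverage B)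

theorem split_pt {T A C : Over B} (p : T ⟶ A ⊗ C) : lift (p ≫ fst A C) (p ≫ snd A C) = p := by
  rw [← comp_lift, lift_fst_snd, Category.comp_id]

include hf in
/-- the action morphism. -/
theorem exists_act : ∃ act : J' ⊗ Q ⟶ Q, ∀ (W : Over B) (i : Idx) (x : W.left ⟶ U i)
    (hx : x ≫ f i = W.hom) (w : W ⟶ J' ⊗ Q),
    w ≫ act = chInv u a hP f s hs Q e hx
      ((w ≫ fst J' Q) * ch u a hP f s hs Q e hx (w ≫ snd J' Q)) := by
  refine glue_charts f hf (T := J' ⊗ Q) (Z := Q)
    (fun W i x hx w => chInv u a hP f s hs Q e hx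
      ((w ≫ fst J' Q) * ch u a hP f s hs Q e hx (w ≫ snd J' Q))) ?_ ?_
  · intro W W' b i x hx w
    rw [comp_chInv, MonObj.comp_mul, comp_ch]
    simp only [Category.assoc]
  · intro W i j x₀ x₁ h₀ h₁ w
    rw [ch_change u a hP f s hs Q e h₀ h₁ (w ≫ snd J' Q), ← _root_.mul_assoc, chInv_change]

variable (act : J' ⊗ Q ⟶ Q)
  (hact : ∀ (W : Over B) (i : Idx) (x : W.left ⟶ U i) (hx : x ≫ f i = W.hom) (w : W ⟶ J' ⊗ Q),
    w ≫ act = chInv u a hP f s hs Q e hx
      ((w ≫ fst J' Q) * ch u a hP f s hs Q e hx (w ≫ snd J' Q)))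

include hact in
theorem lift_act {W : Over B} {i : Idx} {x : W.left ⟶ U i} (hx : x ≫ f i = W.hom)
    (g : W ⟶ J') (y : W ⟶ Q) :
    lift g y ≫ act = chInv u a hP f s hs Q e hx (g * ch u a hP f s hs Q e hx y) := by
  rw [hact W i x hx (lift g y), lift_fst, lift_snd]

include hf hact in
theorem act_one {T : Over B} (y : T ⟶ Q) : lift (1 : T ⟶ J') y ≫ act = y := by
  apply hom_ext_charts f hf
  intro W i x hx b
  rw [← Category.assoc, comp_lift, MonObj.comp_one, lift_act u a hP f s hs Q e act hact hx,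
    _root_.one_mul, chInv_ch]

include hf hact in
theorem act_mul {T : Over B} (g h : T ⟶ J') (y : T ⟶ Q) :
    lift (g * h) y ≫ act = lift g (lift h y ≫ act) ≫ act := by
  apply hom_ext_charts f hf
  intro W i x hx b
  rw [← Category.assoc, comp_lift, MonObj.comp_mul, lift_act u a hP f s hs Q e act hact hx,
    ← Category.assoc b, comp_lift, ← Category.assoc b, comp_lift,
    lift_act u a hP f s hs Q e act hact hx, lift_act u a hP f s hs Q e act hact hx, ch_chInv,
    _root_.mul_assoc]

/-- the action of `J'` on the descended scheme. -/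
noncomputable def actQ : AlgGrp.Action J' Q :=
  actionOfPoints act (fun y => act_one u a hP f s hs Q e hf act hact y)
    (fun g h y => act_mul u a hP f s hs Q e hf act hact g h y)

theorem actQ_act : (actQ u a hP f s hs Q e hf act hact).act = act := rfl

include hf in
/-- the difference morphism. -/
theorem exists_delta : ∃ δ : Q ⊗ Q ⟶ J', ∀ (W : Over B) (i : Idx) (x : W.left ⟶ U i)
    (hx : x ≫ f i = W.hom) (w : W ⟶ Q ⊗ Q),
    w ≫ δ = ch u a hP f s hs Q e hx (w ≫ fst Q Q) *
      (ch u a hP f s hs Q e hx (w ≫ snd Q Q))⁻¹ := by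
  refine glue_charts f hf (T := Q ⊗ Q) (Z := J')
    (fun W i x hx w => ch u a hP f s hs Q e hx (w ≫ fst Q Q) *
      (ch u a hP f s hs Q e hx (w ≫ snd Q Q))⁻¹) ?_ ?_
  · intro W W' b i x hx w
    rw [MonObj.comp_mul, GrpObj.comp_inv, comp_ch, comp_ch]
    simp only [Category.assoc]
  · intro W i j x₀ x₁ h₀ h₁ w
    rw [ch_change u a hP f s hs Q e h₀ h₁ (w ≫ fst Q Q),
      ch_change u a hP f s hs Q e h₀ h₁ (w ≫ snd Q Q)]
    group

include hf hact in
theorem isPseudoTorsor_actQ :
    NonAbH1.IsPseudoTorsorSch (actQ u a hP f s hs Q e hf act hact) := by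
  obtain ⟨δ, hδ⟩ := exists_delta u a hP f s hs Q e hf
  change IsIso (lift act (snd J' Q))
  refine ⟨lift δ (snd Q Q), ?_, ?_⟩
  · apply CartesianMonoidalCategory.hom_ext
    · rw [Category.assoc, lift_fst, Category.id_comp]
      apply hom_ext_charts f hf
      intro W i x hx w
      rw [← Category.assoc, hδ W i x hx, Category.assoc, lift_fst, Category.assoc, lift_snd,
        hact W i x hx w, ch_chInv, mul_inv_cancel_right]
    · rw [Category.assoc, lift_snd, lift_snd, Category.id_comp]
  · apply CartesianMonoidalCategory.hom_ext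
    · rw [Category.assoc, lift_fst, Category.id_comp]
      apply hom_ext_charts f hf
      intro W i x hx w
      rw [← Category.assoc, hact W i x hx, Category.assoc, lift_fst, Category.assoc, lift_snd,
        hδ W i x hx w, inv_mul_cancel_right, chInv_ch]
    · rw [Category.assoc, lift_snd, lift_snd, Category.id_comp]

include e hf in
theorem isLocallyTrivialFor_Q : NonAbH1.IsLocallyTrivialFor Scheme.fpqcPrecoverage Q := by
  refine ⟨Presieve.ofArrows U f, hf, ?_⟩
  intro Y g hg
  obtain ⟨i⟩ := hg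
  exact ⟨(chInv u a hP f s hs Q e (T := Over.mk (f i)) (x := 𝟙 (U i)) (Category.id_comp _)
    (1 : Over.mk (f i) ⟶ J')).left, Over.w _⟩

theorem diff_smul_left {T : Over B} (j : T ⟶ J) (p p₀ : T ⟶ P) :
    diff a hP (smul a j p) p₀ = j * diff a hP p p₀ := by
  symm
  apply eq_diff
  rw [HomSp.mul_smul, diff_smul]

theorem diff_change {T : Over B} (w p₀ p₁ : T ⟶ P) :
    diff a hP w p₁ = diff a hP w p₀ * (diff a hP p₁ p₀)⁻¹ := by
  rw [eq_mul_inv_iff_mul_eq, diff_mul_diff]

include hf in
/-- the equivariant morphism. -/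
theorem exists_q : ∃ q : P ⟶ Q, ∀ (W : Over B) (i : Idx) (x : W.left ⟶ U i)
    (hx : x ≫ f i = W.hom) (w : W ⟶ P),
    w ≫ q = chInv u a hP f s hs Q e hx (diff a hP w (pt f s hs hx) ≫ u) := by
  refine glue_charts f hf (T := P) (Z := Q)
    (fun W i x hx w => chInv u a hP f s hs Q e hx (diff a hP w (pt f s hs hx) ≫ u)) ?_ ?_
  · intro W W' b i x hx w
    have h1 : b ≫ diff a hP w (pt f s hs hx) ≫ u =
        diff a hP (b ≫ w) (pt f s hs (x := b.left ≫ x)
          (by rw [Category.assoc, hx, Over.w])) ≫ u := by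
      rw [← Category.assoc, comp_diff, comp_pt]
    rw [comp_chInv, h1]
  · intro W i j x₀ x₁ h₀ h₁ w
    rw [← chInv_change u a hP f s hs Q e h₀ h₁]
    congr 1
    unfold uc cc
    rw [← GrpObj.inv_comp, ← MonObj.mul_comp, ← diff_change]

include hf hact in
theorem q_equivariant (q : P ⟶ Q)
    (hq : ∀ (W : Over B) (i : Idx) (x : W.left ⟶ U i) (hx : x ≫ f i = W.hom) (w : W ⟶ P),
      w ≫ q = chInv u a hP f s hs Q e hx (diff a hP w (pt f s hs hx) ≫ u)) :
    a.act ≫ q = lift (fst J P ≫ u) (snd J P ≫ q) ≫ act := by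
  apply hom_ext_charts f hf
  intro W i x hx w
  have h1 : w ≫ a.act = smul a (w ≫ fst J P) (w ≫ snd J P) := by
    unfold smul
    rw [split_pt]
  rw [← Category.assoc, hq W i x hx, h1, diff_smul_left, ← Category.assoc, comp_lift,
    lift_act u a hP f s hs Q e act hact hx, ← Category.assoc w, ← Category.assoc w,
    hq W i x hx (w ≫ snd J P), ch_chInv, MonObj.mul_comp]

end Groth.Agent.Lib.Helper10.PushEx
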