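import Mathlib
import Groth.Agent.Lib.Helper10.PushEx4

/-!
# Push forward of fpqc torsors, part 5: existence
-/

set_option autoImplicit false
set_option linter.unusedSectionVars false
set_option linter.style.haveILetI false
set_option backward.isDefEq.respectTransparency.types false
set_option maxHeartbeats 4000000
set_option synthInstance.maxHeartbeats 400000
universe u
open CategoryTheory CategoryTheory.Limits AlgebraicGeometry Opposite MonoidalCategory
  CartesianMonoidalCategory MonObj GrpObj

namespace Groth.Agent.Lib.Helper10.PushEx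

open Desc

/-- **Existence of the push forward of an fpqc torsor along a homomorphism to a group scheme
affine over the base.** -/
theorem exists_push {B : Scheme.{u}} {J J' P : Over B} [GrpObj J] [GrpObj J']
    [IsAffineHom J'.hom] (u : J ⟶ J') [IsMonHom u] (a : AlgGrp.Action J P)
    (hP : NonAbH1.IsTorsorFor Scheme.fpqcPrecoverage a) :
    ∃ (Q : Over B) (a' : AlgGrp.Action J' Q), NonAbH1.IsTorsorFor Scheme.fpqcPrecoverage a' ∧
      NonAbH1.IsPushforwardAlongSch u a a' := by
  obtain ⟨hps, R, hR, hsec⟩ := hP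
  obtain ⟨Idx, U, f, hf, hfac⟩ := exists_small_family R hR
  choose Y g k hRg hkg using hfac
  have hsec' : ∀ i, ∃ s : U i ⟶ P.left, s ≫ P.hom = f i := fun i => by
    obtain ⟨s0, hs0⟩ := hsec (g i) (hRg i)
    exact ⟨k i ≫ s0, by rw [Category.assoc, hs0, hkg]⟩
  choose s hs using hsec'
  obtain ⟨Q, ⟨e⟩⟩ := Groth.Agent.Lib.Helper10.IQADesc.isEffective_of_indQuasiAffine f hf
    (dd u a hps f s hs) (isIndQuasiAffineHom_dd u a hps f s hs)
  obtain ⟨act, hact⟩ := exists_act u a hps f s hs Q e hf
  obtain ⟨q, hq⟩ := exists_q u a hps f s hs Q e hf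
  refine ⟨Q, actQ u a hps f s hs Q e hf act hact,
    ⟨isPseudoTorsor_actQ u a hps f s hs Q e hf act hact,
      isLocallyTrivialFor_Q u a hps f s hs Q e hf⟩, q, ?_⟩
  exact q_equivariant u a hps f s hs Q e hf act hact q hq

end Groth.Agent.Lib.Helper10.PushEx
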