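import Mathlib
import Groth.Agent.Lib.Helper10.TorsorIso1
import Groth.Agent.Lib.Helper10.IsomSch1
import Groth.Prelude.Def_ActBC

/-!
# A torsor whose push forward along a generically-isomorphic homomorphism is trivial has a
generic section
-/

set_option autoImplicit false
set_option linter.unusedSectionVars false
set_option linter.style.haveILetI false
set_option backward.isDefEq.respectTransparency.types false
set_option maxHeartbeats 4000000
set_option synthInstance.maxHeartbeats 400000
universe u
open CategoryTheory CategoryTheory.Limits AlgebraicGeometry Opposite MonoidalCategory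
  CartesianMonoidalCategory MonObj GrpObj

namespace Groth.Agent.Lib.Helper10.PushTriv

variable {S S' : Scheme.{u}} (j : S' ⟶ S) {G G' P P' : Over S} [GrpObj G] [GrpObj G']
  (g : G ⟶ G') [IsMonHom g]
  (a : AlgGrp.Action G P) (a' : AlgGrp.Action G' P')

/-- restriction of a pseudo-torsor along an isomorphism of groups is a pseudo-torsor. -/
theorem isPseudoTorsorSch_restrict_of_isIso [IsIso g] (h : NonAbH1.IsPseudoTorsorSch a') :
    NonAbH1.IsPseudoTorsorSch (a'.restrict g) := by
  have h' : IsIso (lift a'.act (snd G' P')) := h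
  have e : lift (a'.restrict g).act (snd G P') = (g ▷ P') ≫ lift a'.act (snd G' P') := by
    rw [comp_lift, AlgGrp.Action.restrict_act, whiskerRight_snd]
  change IsIso (lift (a'.restrict g).act (snd G P'))
  rw [e]
  infer_instance

/-- **generic section**: if `P'` is a push forward of `P` along `g`, `g` becomes an isomorphism
after the base change `j`, and `P'` has a section, then `P` has a section over `j`. -/
theorem hasSectionOver_of_push (hP : NonAbH1.IsTorsorFor Scheme.fpqcPrecoverage a)
    (hP' : NonAbH1.IsPseudoTorsorSch a')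
    (hg : IsIso ((Over.pullback j).map g))
    (hpush : NonAbH1.IsPushforwardAlongSch g a a') (htriv : NonAbH1.HasSectionOver P' (𝟙 S)) :
    NonAbH1.HasSectionOver P j := by
  obtain ⟨f, hf⟩ := hpush
  obtain ⟨s', hs'⟩ := htriv
  have hf' : AlgGrp.Action.IsEquivariant a (a'.restrict g) f := by
    change a.act ≫ f = (G ◁ f) ≫ (a'.restrict g).act
    rw [hf, AlgGrp.Action.restrict_act, ← Category.assoc]
    congr 1
    apply CartesianMonoidalCategory.hom_ext
    · rw [lift_fst, Category.assoc, whiskerRight_fst, whiskerLeft_fst_assoc]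
    · rw [lift_snd, Category.assoc, whiskerRight_snd, whiskerLeft_snd]
  have hfη := AlgGrp.Action.isEquivariant_bc j hf'
  rw [AlgGrp.Action.bc_restrict] at hfη
  have hT : NonAbH1.IsTorsorFor Scheme.fpqcPrecoverage (a.bc j) :=
    NonAbH1.isTorsorFor_bc j Scheme.fpqcPrecoverage hP
  have hpt : NonAbH1.IsPseudoTorsorSch ((a'.bc j).restrict ((Over.pullback j).map g)) :=
    isPseudoTorsorSch_restrict_of_isIso ((Over.pullback j).map g) (a'.bc j)
      (NonAbH1.isPseudoTorsorSch_bc j hP')
  haveI : IsIso ((Over.pullback j).map f) :=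
    Groth.Agent.Lib.Helper10.TorsorIso.isIso_of_isEquivariant (a.bc j)
      ((a'.bc j).restrict ((Over.pullback j).map g)) hT hpt _ hfη
  -- the section of `P'` over the generic point
  let σ' : 𝟙_ (Over S') ⟶ Red.bc j P' :=
    Over.homMk (pullback.lift (j ≫ s') (𝟙 S') (by
      rw [Category.assoc, hs', Category.comp_id]
      exact (Category.id_comp j).symm)) (by
      change pullback.lift _ _ _ ≫ pullback.snd P'.hom j = 𝟙 S'
      exact pullback.lift_snd _ _ _)
  let σ : 𝟙_ (Over S') ⟶ Red.bc j P := σ' ≫ inv ((Over.pullback j).map f)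
  refine ⟨σ.left ≫ pullback.fst P.hom j, ?_⟩
  rw [Category.assoc, pullback.condition, ← Category.assoc]
  have hw : σ.left ≫ pullback.snd P.hom j = 𝟙 S' := Over.w σ
  rw [hw, Category.id_comp]

end Groth.Agent.Lib.Helper10.PushTriv
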