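import Mathlib
import Groth.Agent.Lib.Helper10.SpecialExt1
import Groth.Agent.Lib.Helper10.GaTorsor1

/-!
# Morphisms out of a push-forward torsor (uniqueness of the push forward of an fpqc torsor)
-/

set_option autoImplicit false
set_option backward.isDefEq.respectTransparency.types false
set_option maxHeartbeats 4000000
set_option synthInstance.maxHeartbeats 400000
universe u
open CategoryTheory CategoryTheory.Limits AlgebraicGeometry MonoidalCategory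
  CartesianMonoidalCategory MonObj GrpObj

namespace Groth.Agent.Lib.Helper10.PushUniq

open Groth.Agent.Lib.Helper10.FpqcBal Groth.Agent.Lib.Helper10.SpecialExt
  Groth.Agent.Lib.Helper10.HomSp Groth.Agent.Lib.Helper10.GaTorsor

variable {B : Scheme.{u}} {J J' J'' P P' P'' : Over B} [GrpObj J] [GrpObj J'] [GrpObj J'']
  (u : J ⟶ J') [IsMonHom u] (v : J' ⟶ J'') [IsMonHom v]
  (a : AlgGrp.Action J P) (a' : AlgGrp.Action J' P') (a'' : AlgGrp.Action J'' P'')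
  (hP : NonAbH1.IsPseudoTorsorSch a)
  (hPloc : NonAbH1.IsLocallyTrivialFor Scheme.fpqcPrecoverage P)
  (hP' : NonAbH1.IsPseudoTorsorSch a')
  (q' : P ⟶ P') (hq' : a.act ≫ q' = lift (fst J P ≫ u) (snd J P ≫ q') ≫ a'.act)
  (q'' : P ⟶ P'') (hq'' : a.act ≫ q'' = lift (fst J P ≫ u ≫ v) (snd J P ≫ q'') ≫ a''.act)

include hq' in
theorem smul_q' {T : Over B} (j : T ⟶ J) (p : T ⟶ P) :
    smul a j p ≫ q' = smul a' (j ≫ u) (p ≫ q') := by
  unfold smul
  rw [Category.assoc, hq', ← Category.assoc, comp_lift, lift_fst_assoc, lift_snd_assoc]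

include hq'' in
theorem smul_q'' {T : Over B} (j : T ⟶ J) (p : T ⟶ P) :
    smul a j p ≫ q'' = smul a'' ((j ≫ u) ≫ v) (p ≫ q'') := by
  unfold smul
  rw [Category.assoc, hq'', ← Category.assoc, comp_lift, lift_fst_assoc, lift_snd_assoc,
    Category.assoc]

/-- `(j', p) ↦ j' • q'(p)`. -/
noncomputable def π : J' ⊗ P ⟶ P' := (J' ◁ q') ≫ a'.act

/-- `(j', p) ↦ v(j') • q''(p)`. -/
noncomputable def R : J' ⊗ P ⟶ P'' := lift (fst J' P ≫ v) (snd J' P ≫ q'') ≫ a''.act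

theorem lift_π {T : Over B} (j' : T ⟶ J') (p : T ⟶ P) :
    lift j' p ≫ π a' q' = smul a' j' (p ≫ q') := by
  unfold π smul
  rw [lift_whiskerLeft_assoc]

theorem lift_R {T : Over B} (j' : T ⟶ J') (p : T ⟶ P) :
    lift j' p ≫ R v a'' q'' = smul a'' (j' ≫ v) (p ≫ q'') := by
  unfold R smul
  rw [← Category.assoc, comp_lift, lift_fst_assoc, lift_snd_assoc]

theorem split {T A C : Over B} (p : T ⟶ A ⊗ C) : p = lift (p ≫ fst A C) (p ≫ snd A C) := by
  rw [← comp_lift, lift_fst_snd, Category.comp_id]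

include hP hP' hq' hq'' in
theorem R_const ⦃W : Over B⦄ (w₁ w₂ : W ⟶ J' ⊗ P) (h : w₁ ≫ π a' q' = w₂ ≫ π a' q') :
    w₁ ≫ R v a'' q'' = w₂ ≫ R v a'' q'' := by
  obtain ⟨j₁, hj₁⟩ : ∃ j : W ⟶ J', j = w₁ ≫ fst J' P := ⟨_, rfl⟩
  obtain ⟨p₁, hp₁⟩ : ∃ p : W ⟶ P, p = w₁ ≫ snd J' P := ⟨_, rfl⟩
  obtain ⟨j₂, hj₂⟩ : ∃ j : W ⟶ J', j = w₂ ≫ fst J' P := ⟨_, rfl⟩
  obtain ⟨p₂, hp₂⟩ : ∃ p : W ⟶ P, p = w₂ ≫ snd J' P := ⟨_, rfl⟩
  have e₁ : w₁ = lift j₁ p₁ := by rw [hj₁, hp₁]; exact split w₁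
  have e₂ : w₂ = lift j₂ p₂ := by rw [hj₂, hp₂]; exact split w₂
  rw [e₁, e₂, lift_π, lift_π] at h
  rw [e₁, e₂, lift_R, lift_R]
  obtain ⟨j, hj⟩ : ∃ j : W ⟶ J, smul a j p₂ = p₁ := ⟨_, diff_smul a hP p₁ p₂⟩
  rw [← hj, smul_q' u a a' q' hq', ← HomSp.mul_smul] at h
  have hjj : j₁ * (j ≫ u) = j₂ := by
    rw [eq_diff a' hP' _ _ _ h]
    exact (eq_diff a' hP' _ _ _ rfl).symm
  rw [← hj, smul_q'' u v a a'' q'' hq'', ← HomSp.mul_smul, ← MonObj.mul_comp, hjj]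

include hP' hPloc in
theorem isLocallyTrivialFor_π :
    NonAbH1.IsLocallyTrivialFor Scheme.fpqcPrecoverage
      (Over.mk (π a' q').left : Over P'.left) := by
  let θ : P' ⊗ P ⟶ J' ⊗ P :=
    lift (diff a' hP' (fst P' P) (snd P' P ≫ q')) (snd P' P)
  have hθ : θ ≫ π a' q' = fst P' P := by
    rw [lift_π, diff_smul]
  apply isLocallyTrivialFor_of_comp _ θ.left
  rw [← Over.comp_left, hθ]
  have hpb : IsPullback (pullback.snd P'.hom P.hom) (pullback.fst P'.hom P.hom) P.hom P'.hom :=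
    (IsPullback.of_hasPullback P'.hom P.hom).flip
  exact isLocallyTrivialFor_of_isPullback' _ hpb hPloc

include hP hPloc hP' hq' hq'' in
/-- **Uniqueness of the push forward of a torsor.** -/
theorem existsUnique_push :
    ∃! r : P' ⟶ P'', a'.act ≫ r = lift (fst J' P' ≫ v) (snd J' P' ≫ r) ≫ a''.act ∧
      q' ≫ r = q'' := by
  have hlocπ := isLocallyTrivialFor_π a' hPloc hP' q'
  obtain ⟨r, hr, hru⟩ := exists_unique_desc_over (π a' q') hlocπ (R v a'' q'')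
    (R_const u v a a' a'' hP hP' q' hq' q'' hq'')
  have hrpt : ∀ {T : Over B} (j' : T ⟶ J') (p : T ⟶ P),
      smul a' j' (p ≫ q') ≫ r = smul a'' (j' ≫ v) (p ≫ q'') := by
    intro T j' p
    rw [← lift_π, Category.assoc, hr, lift_R]
  have hequivpt : ∀ {r' : P' ⟶ P''} {T : Over B} (j' : T ⟶ J') (p' : T ⟶ P'),
      lift j' p' ≫ lift (fst J' P' ≫ v) (snd J' P' ≫ r') ≫ a''.act =
        smul a'' (j' ≫ v) (p' ≫ r') := by
    intro r' T j' p'
    unfold smul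
    rw [← Category.assoc, comp_lift, lift_fst_assoc, lift_snd_assoc]
  refine ⟨r, ⟨?_, ?_⟩, ?_⟩
  · apply whiskerLeft_cancel (π a' q') hlocπ J'
    apply AlgGrp.Action.hom_ext_lift₂
    intro T j₁ w
    obtain ⟨j₂, hj₂⟩ : ∃ j : T ⟶ J', j = w ≫ fst J' P := ⟨_, rfl⟩
    obtain ⟨p, hp⟩ : ∃ p : T ⟶ P, p = w ≫ snd J' P := ⟨_, rfl⟩
    have e : w = lift j₂ p := by rw [hj₂, hp]; exact split w
    rw [lift_whiskerLeft_assoc, lift_whiskerLeft_assoc, hequivpt, e, lift_π, ← Category.assoc]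
    change smul a' j₁ (smul a' j₂ (p ≫ q')) ≫ r = _
    rw [← HomSp.mul_smul a', hrpt, hrpt, MonObj.mul_comp, HomSp.mul_smul]
  · have : q' = lift (1 : P ⟶ J') (𝟙 P) ≫ π a' q' := by
      rw [lift_π, Category.id_comp, HomSp.one_smul]
    rw [this, Category.assoc, hr, lift_R, MonObj.one_comp, HomSp.one_smul, Category.id_comp]
  · rintro r' ⟨hr'1, hr'2⟩
    apply hru
    apply AlgGrp.Action.hom_ext_lift₂
    intro T j' p
    rw [← Category.assoc, lift_π, lift_R]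
    change (lift j' (p ≫ q') ≫ a'.act) ≫ r' = _
    rw [Category.assoc, hr'1, hequivpt, Category.assoc, hr'2]

end Groth.Agent.Lib.Helper10.PushUniq
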