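import Mathlib
import Groth.Prelude.Def_AlgGrp
import Groth.Agent.Lib.Helper10.QuotCov1

/-!
# Quotients of group schemes by fpqc coverings (SGA3 VI_B 9.2): group-specific parts
-/

set_option autoImplicit false
set_option backward.isDefEq.respectTransparency.types false
set_option maxHeartbeats 4000000
set_option synthInstance.maxHeartbeats 400000
universe u
open CategoryTheory CategoryTheory.Limits AlgebraicGeometry MonoidalCategory
  CartesianMonoidalCategory MonObj GrpObj

namespace Groth.Agent.Lib.Helper10.QuotCov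

open Groth.Agent.Lib.Helper10.HomSp Groth.Agent.Lib.Helper10.FlatPt

variable {S : Scheme.{u}} {G G' G'' : Over S} [GrpObj G] [GrpObj G'] (u : G' ⟶ G) [IsMonHom u]
  (p : G ⟶ G'')

theorem lift_whiskerLeft_mul {W : Over S} (a : W ⟶ G) (b : W ⟶ G') :
    lift a b ≫ (G ◁ u) ≫ μ[G] = a * (b ≫ u) := by
  rw [← Category.assoc, lift_whiskerLeft, lift_comp_mul]

theorem comp_whiskerLeft_mul {W : Over S} (m : W ⟶ G ⊗ G') :
    m ≫ (G ◁ u) ≫ μ[G] = (m ≫ fst G G') * (m ≫ snd G G' ≫ u) := by
  have h0 : m = lift (m ≫ fst G G') (m ≫ snd G G') := (lift_comp_fst_snd m).symm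
  conv_lhs => rw [h0]
  rw [lift_whiskerLeft_mul, Category.assoc]

/-- the kernel square: `G'` is the fibre of `p` over the image of the unit section. -/
theorem isPullback_kernel [Mono u] (hsq : IsPullback ((G ◁ u) ≫ μ[G]) (fst G G') p p) :
    IsPullback u (toUnit G') p (η[G] ≫ p) := by
  have hw : u ≫ p = toUnit G' ≫ η[G] ≫ p := by
    have e1 : lift (toUnit G' ≫ η[G]) (𝟙 G') ≫ (G ◁ u) ≫ μ[G] = u := by
      rw [lift_whiskerLeft_mul, ← Hom.one_def, Category.id_comp, _root_.one_mul]
    have e2 : lift (toUnit G' ≫ η[G]) (𝟙 G') ≫ fst G G' = toUnit G' ≫ η[G] := lift_fst _ _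
    calc u ≫ p = (lift (toUnit G' ≫ η[G]) (𝟙 G') ≫ (G ◁ u) ≫ μ[G]) ≫ p := by rw [e1]
      _ = lift (toUnit G' ≫ η[G]) (𝟙 G') ≫ ((G ◁ u) ≫ μ[G]) ≫ p := by
        simp only [Category.assoc]
      _ = lift (toUnit G' ≫ η[G]) (𝟙 G') ≫ fst G G' ≫ p := by rw [hsq.w]
      _ = toUnit G' ≫ η[G] ≫ p := by rw [← Category.assoc, e2, Category.assoc]
  refine isPullback_of_lift _ _ _ _ hw
    (fun {W} α β h => hsq.lift α (toUnit W ≫ η[G]) (by
      rw [h, toUnit_unique β (toUnit W), Category.assoc]) ≫ snd G G') ?_ ?_ ?_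
  · intro W α β h
    set m := hsq.lift α (toUnit W ≫ η[G]) _ with hm
    have h1 : m ≫ (G ◁ u) ≫ μ[G] = α := hsq.lift_fst _ _ _
    have h2 : m ≫ fst G G' = toUnit W ≫ η[G] := hsq.lift_snd _ _ _
    rw [comp_whiskerLeft_mul, h2, ← Hom.one_def, _root_.one_mul] at h1
    rw [Category.assoc]
    exact h1
  · intro W α β h
    exact toUnit_unique _ _
  · intro W m m' e1 _
    exact (cancel_mono u).mp e1

/-- the shear automorphism `(g, x) ↦ (g x, g)` of `G × G`. -/
noncomputable def shear : G ⊗ G ≅ G ⊗ G where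
  hom := lift μ[G] (fst G G)
  inv := lift (snd G G) ((snd G G)⁻¹ * fst G G)
  hom_inv_id := by
    have h1 : μ[G] = fst G G * snd G G := by
      rw [Hom.mul_def, lift_fst_snd, Category.id_comp]
    apply CartesianMonoidalCategory.hom_ext
    · rw [Category.assoc, lift_fst, lift_snd, Category.id_comp]
    · rw [Category.assoc, lift_snd, MonObj.comp_mul, GrpObj.comp_inv, lift_snd, lift_fst, h1,
        inv_mul_cancel_left, Category.id_comp]
  inv_hom_id := by
    apply CartesianMonoidalCategory.hom_ext
    · rw [Category.assoc, lift_fst, lift_comp_mul, mul_inv_cancel_left, Category.id_comp]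
    · rw [Category.assoc, lift_snd, lift_fst, Category.id_comp]

/-- the graph of the equivalence relation is a closed immersion when `u` is. -/
theorem isClosedImmersion_graph_of_closed (hsq : IsPullback ((G ◁ u) ≫ μ[G]) (fst G G') p p)
    [IsClosedImmersion u.left] :
    IsClosedImmersion (lift (pullback.fst p p) (pullback.snd p p)).left := by
  let e : G ⊗ G' ≅ pullback p p := hsq.isoPullback
  have he : e.hom ≫ lift (pullback.fst p p) (pullback.snd p p) = (G ◁ u) ≫ (shear (G := G)).hom := by
    apply CartesianMonoidalCategory.hom_ext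
    · rw [Category.assoc, lift_fst, hsq.isoPullback_hom_fst, Category.assoc]
      change _ = (G ◁ u) ≫ lift μ[G] (fst G G) ≫ fst G G
      rw [lift_fst]
    · rw [Category.assoc, lift_snd, hsq.isoPullback_hom_snd, Category.assoc]
      change _ = (G ◁ u) ≫ lift μ[G] (fst G G) ≫ snd G G
      rw [lift_snd, whiskerLeft_fst]
  haveI : IsIso e.hom.left := inferInstanceAs (IsIso ((Over.forget _).map e.hom))
  haveI : IsIso (shear (G := G)).hom.left :=
    inferInstanceAs (IsIso ((Over.forget _).map (shear (G := G)).hom))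
  have sqW : IsPullback (snd G G').left (G ◁ u).left u.left (snd G G).left :=
    ((isPullback_whiskerLeft_snd G u).flip).map (Over.forget _)
  haveI : IsClosedImmersion (G ◁ u).left :=
    MorphismProperty.of_isPullback (P := @IsClosedImmersion) sqW inferInstance
  rw [← MorphismProperty.cancel_left_of_respectsIso @IsClosedImmersion e.hom.left, ← Over.comp_left,
    he, Over.comp_left]
  infer_instance

theorem isPullback_unit_fst :
    IsPullback (lift (toUnit G' ≫ η[G]) (𝟙 G')) (toUnit G') (fst G G') η[G] := by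
  refine isPullback_of_lift _ _ _ _ (by rw [lift_fst])
    (fun {W} α _ _ => α ≫ snd G G') ?_ ?_ ?_
  · intro W α β h
    apply CartesianMonoidalCategory.hom_ext
    · rw [Category.assoc, lift_fst, h, ← Category.assoc, toUnit_unique ((α ≫ snd G G') ≫ toUnit G') β]
    · rw [Category.assoc, lift_snd, Category.comp_id]
  · intro W α β h
    exact toUnit_unique _ _
  · intro W m m' e1 _
    have := congrArg (fun φ => φ ≫ snd G G') e1
    simpa using this

section Main

variable {Z : Scheme.{u}} (q : Z ⟶ G''.left) (r : Z ⟶ G.left) (fac : r ≫ p.left = q)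

include fac in
/-- **SGA3 VI_B 9.2 (iv), (v), (x)**. -/
theorem kernel_immersion_separated [Mono u] [Flat q]
    (hqc : ∀ V : G''.left.Opens, IsAffineOpen V → ∃ W : Z.Opens, IsCompact (W : Set Z) ∧
      q '' (W : Set Z) = (V : Set G''.left))
    (hsq : IsPullback ((G ◁ u) ≫ μ[G]) (fst G G') p p) :
    IsPullback u (toUnit G') p (η[G] ≫ p) ∧ IsImmersion u.left ∧
    (IsSeparated G''.hom ↔ IsClosedImmersion u.left) ∧
    (IsClosedImmersion u.left ↔ IsClosedImmersion (η[G] ≫ p).left) := by
  have hker := isPullback_kernel u p hsq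
  have sqK : IsPullback (toUnit G').left u.left (η[G] ≫ p).left p.left :=
    (hker.map (Over.forget _)).flip
  have hsec : (η[G] ≫ p).left ≫ G''.hom = 𝟙 S := by
    rw [Over.w]
    rfl
  haveI : IsImmersion (η[G] ≫ p).left := by
    haveI : IsImmersion ((η[G] ≫ p).left ≫ G''.hom) := by
      rw [hsec]
      exact MorphismProperty.id_mem @IsImmersion S
    exact IsImmersion.of_comp _ G''.hom
  have h1 : IsSeparated G''.hom → IsClosedImmersion (η[G] ≫ p).left := by
    intro hsep
    haveI : IsClosedImmersion ((η[G] ≫ p).left ≫ G''.hom) := by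
      rw [hsec]
      exact MorphismProperty.id_mem @IsClosedImmersion S
    exact IsClosedImmersion.of_comp _ G''.hom
  have h2 : IsClosedImmersion (η[G] ≫ p).left → IsClosedImmersion u.left := fun h =>
    MorphismProperty.of_isPullback (P := @IsClosedImmersion) sqK h
  have h3 : IsClosedImmersion u.left → IsSeparated G''.hom := by
    intro hu
    exact isSeparated_of_isClosedImmersion_graph p q r fac hqc
      (isClosedImmersion_graph_of_closed u p hsq)
  refine ⟨hker, MorphismProperty.of_isPullback (P := @IsImmersion) sqK inferInstance,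
    ⟨fun h => h2 (h1 h), h3⟩, ⟨fun h => h1 (h3 h), h2⟩⟩

include fac in
/-- **SGA3 VI_B 9.2 (ix), (xi)**. -/
theorem reduced_flat [Flat q] [Surjective q]
    (hsq : IsPullback ((G ◁ u) ≫ μ[G]) (fst G G') p p) :
    (IsReduced G.left → IsReduced G''.left) ∧
    (Flat G'.hom ↔ Flat p.left) ∧ (Flat p.left → (Flat G''.hom ↔ Flat G.hom)) := by
  have hsq' : IsPullback ((G ◁ u) ≫ μ[G]).left (fst G G').left p.left p.left :=
    hsq.map (Over.forget _)
  have hsurj : Surjective p.left := by
    refine ⟨fun y => ?_⟩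
    obtain ⟨z, rfl⟩ := q.surjective y
    exact ⟨r z, by rw [← Scheme.Hom.comp_apply, fac]⟩
  refine ⟨fun hred => ?_, ⟨fun hfl => ?_, fun hfl => ?_⟩, fun hfl => ⟨fun h => ?_, fun h => ?_⟩⟩
  · haveI := hred
    exact isReduced_of_cover p.left q r fac
  · haveI := hfl
    have h1 : Flat (fst G G').left := by
      rw [Over.fst_left]
      infer_instance
    exact flat_of_flat_baseChange hsq'.flip q r fac h1
  · have h1 : Flat (fst G G').left :=
      MorphismProperty.of_isPullback (P := @Flat) hsq' hfl
    have sqU : IsPullback (lift (toUnit G' ≫ η[G]) (𝟙 G')).left (toUnit G').left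
        (fst G G').left η[G].left := (isPullback_unit_fst (G := G) (G' := G')).map (Over.forget _)
    have h2 : Flat (toUnit G').left := MorphismProperty.of_isPullback (P := @Flat) sqU h1
    exact h2
  · haveI := hfl
    haveI := h
    rw [← Over.w p]
    infer_instance
  · haveI := hfl
    haveI := hsurj
    apply flat_of_comp_surjective p.left G''.hom
    rw [Over.w p]
    exact h

end Main

end Groth.Agent.Lib.Helper10.QuotCov
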