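import Mathlib
import Groth.Agent.Lib.Helper10.QuotCov1
import Groth.Agent.Lib.Helper14.FppfDesc2
import Groth.Agent.Lib.Helper14.EtDesc1

/-!
# Descent along generalized fpqc coverings; more properties which are fppf local on the source
-/

set_option autoImplicit false
set_option backward.isDefEq.respectTransparency.types false
set_option maxHeartbeats 4000000
set_option synthInstance.maxHeartbeats 400000
universe u
open CategoryTheory CategoryTheory.Limits AlgebraicGeometry MonoidalCategory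
  CartesianMonoidalCategory

namespace Groth.Agent.Lib.Helper10.QuotCov

open Groth.Agent.Lib.Helper10.HomSp Groth.Agent.Lib.Helper10.FlatPt

variable {X Y Z X' Y' : Scheme.{u}} {p : X ⟶ Y} {a : X' ⟶ X} {p' : X' ⟶ Y'} {g : Y' ⟶ Y}

/-- **descent along a generalized fpqc covering**: if `P` is stable under base change, Zariski
local on the target and satisfies fpqc descent, then `P` descends along a covering `p` which is
dominated by a flat `q : Z ⟶ Y` such that every affine open of `Y` is the image of a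
quasi-compact open of `Z`. -/
theorem descends_of_cover (P : MorphismProperty Scheme.{u}) [P.IsStableUnderBaseChange]
    [IsZariskiLocalAtTarget P]
    [P.DescendsAlong (@Surjective ⊓ @Flat ⊓ @QuasiCompact : MorphismProperty Scheme.{u})]
    (sq : IsPullback a p' p g) (q : Z ⟶ Y) (r : Z ⟶ X)
    (fac : r ≫ p = q) [Flat q]
    (hqc : ∀ V : Y.Opens, IsAffineOpen V → ∃ W : Z.Opens, IsCompact (W : Set Z) ∧
      q '' (W : Set Z) = (V : Set Y)) (ha : P a) : P g := by
  rw [IsZariskiLocalAtTarget.iff_of_iSup_eq_top (P := P) _ (iSup_affineOpens_eq_top Y)]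
  rintro ⟨V, hV⟩
  obtain ⟨W, hWc, hWV⟩ := hqc V hV
  obtain ⟨h, hfac, hfl, hsurj, hqc'⟩ := exists_fpqc_lift q W hWc V hV hWV
  let gV : (g ⁻¹ᵁ V).toScheme ⟶ V.toScheme := g ∣_ V
  have sq1 : IsPullback (pullback.fst h gV) (pullback.snd h gV) h gV :=
    IsPullback.of_hasPullback _ _
  have sq2 : IsPullback gV (g ⁻¹ᵁ V).ι V.ι g := isPullback_morphismRestrict g V
  have sq3 : IsPullback (pullback.fst h gV) (pullback.snd h gV ≫ (g ⁻¹ᵁ V).ι) (h ≫ V.ι) g :=
    sq1.paste_vert sq2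
  have hcomm : (pullback.fst h gV ≫ W.ι ≫ r) ≫ p = (pullback.snd h gV ≫ (g ⁻¹ᵁ V).ι) ≫ g := by
    rw [Category.assoc, Category.assoc, fac, ← hfac]
    exact sq3.w
  let l : pullback h gV ⟶ X' :=
    sq.lift (pullback.fst h gV ≫ W.ι ≫ r) (pullback.snd h gV ≫ (g ⁻¹ᵁ V).ι) hcomm
  have hl1 : l ≫ a = pullback.fst h gV ≫ W.ι ≫ r := sq.lift_fst _ _ _
  have hl2 : l ≫ p' = pullback.snd h gV ≫ (g ⁻¹ᵁ V).ι := sq.lift_snd _ _ _
  have sq4 : IsPullback l (pullback.fst h gV) a (W.ι ≫ r) := by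
    have sq' : IsPullback (l ≫ p') (pullback.fst h gV) g ((W.ι ≫ r) ≫ p) := by
      rw [hl2, Category.assoc, fac, ← hfac]
      exact sq3.flip
    exact IsPullback.of_right sq' hl1 sq.flip
  have h5 : P (pullback.fst h gV) := MorphismProperty.of_isPullback (P := P) sq4 ha
  exact MorphismProperty.of_isPullback_of_descendsAlong (P := P)
    (Q := (@Surjective ⊓ @Flat ⊓ @QuasiCompact : MorphismProperty Scheme.{u})) sq1
    ⟨⟨hsurj, hfl⟩, hqc'⟩ h5

open Groth.Agent.Lib.Helper14.AS in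
theorem ringHom_formallyUnramified_of_faithfullyFlat {R A B : Type u} [CommRing R] [CommRing A]
    [CommRing B] (φ₁ : R →+* A) (φ₂ : A →+* B) (h : (φ₂.comp φ₁).FormallyUnramified)
    (hft : (φ₂.comp φ₁).FiniteType) (hff : φ₂.FaithfullyFlat) : φ₁.FormallyUnramified := by
  algebraize [φ₁, φ₂, φ₂.comp φ₁]
  haveI : Algebra.EssFiniteType R B := inferInstance
  exact (RingHom.formallyUnramified_algebraMap).2
    (Groth.Agent.Lib.Helper14.AS.formallyUnramified_of_faithfullyFlat R A B)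

/-- formal unramifiedness (for morphisms locally of finite type) is fppf local on the source -/
theorem formallyUnramified_of_fppf_comp {X Y S : Scheme.{u}} (f : X ⟶ Y) (q : Y ⟶ S)
    [Surjective f] [Flat f] [LocallyOfFinitePresentation f] [FormallyUnramified (f ≫ q)]
    [LocallyOfFiniteType (f ≫ q)] : FormallyUnramified q := by
  rw [HasRingHomProperty.iff_exists_appLE (P := @FormallyUnramified)
    (RingHom.FormallyUnramified.stableUnderComposition.stableUnderCompositionWithLocalizationAway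
      RingHom.FormallyUnramified.holdsForLocalizationAway).left]
  intro y
  obtain ⟨x, rfl⟩ := f.surjective y
  obtain ⟨W₀, hW₀, hxW₀⟩ : ∃ W₀ : S.Opens, IsAffineOpen W₀ ∧ q (f x) ∈ W₀ := by
    obtain ⟨_, ⟨W₀, hW₀ : IsAffineOpen W₀, rfl⟩, hx, -⟩ :=
      S.isBasis_affineOpens.exists_subset_of_mem_open (Set.mem_univ (q (f x))) isOpen_univ
    exact ⟨W₀, hW₀, hx⟩
  obtain ⟨V, hV, U, hU, e, hVW, hxV, hff, hfp⟩ :=
    Groth.Agent.Lib.Helper14.AS.exists_affine_fppf_chart f x (q ⁻¹ᵁ W₀) hxW₀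
  refine ⟨⟨W₀, hW₀⟩, ⟨V, hV⟩, hxV, hVW, ?_⟩
  refine ringHom_formallyUnramified_of_faithfullyFlat (q.appLE W₀ V hVW).hom
    (f.appLE V U e).hom ?_ ?_ hff
  · rw [← CommRingCat.hom_comp, Scheme.Hom.appLE_comp_appLE]
    exact HasRingHomProperty.appLE (P := @FormallyUnramified) (f ≫ q) inferInstance
      ⟨W₀, hW₀⟩ ⟨U, hU⟩ _
  · rw [← CommRingCat.hom_comp, Scheme.Hom.appLE_comp_appLE]
    exact HasRingHomProperty.appLE (P := @LocallyOfFiniteType) (f ≫ q) inferInstance
      ⟨W₀, hW₀⟩ ⟨U, hU⟩ _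

/-- local quasi-finiteness is fppf local on the source -/
theorem locallyQuasiFinite_of_fppf_comp {X Y S : Scheme.{u}} (f : X ⟶ Y) (q : Y ⟶ S)
    [Surjective f] [Flat f] [LocallyOfFinitePresentation f] [LocallyQuasiFinite (f ≫ q)]
    [LocallyOfFiniteType (f ≫ q)] : LocallyQuasiFinite q := by
  haveI : LocallyOfFiniteType q := Groth.Agent.Lib.Helper14.AS.lft_of_fppf_comp f q
  rw [locallyQuasiFinite_iff_isDiscrete_preimage_singleton]
  intro s
  rw [isDiscrete_iff_forall_mem_exists_isOpen]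
  intro y hy
  obtain ⟨x, rfl⟩ := f.surjective y
  have hx : x ∈ (f ≫ q) ⁻¹' {s} := by
    simpa using hy
  have hd := (f ≫ q).isDiscrete_preimage_singleton s
  rw [isDiscrete_iff_forall_mem_exists_isOpen] at hd
  obtain ⟨u, hu, hux⟩ := hd x hx
  refine ⟨f '' u, f.isOpenMap _ hu, ?_⟩
  ext z
  constructor
  · rintro ⟨⟨w, hw, rfl⟩, hz⟩
    have hw' : w ∈ u ∩ (f ≫ q) ⁻¹' {s} := ⟨hw, by simpa using hz⟩
    rw [hux] at hw'
    rw [Set.mem_singleton_iff] at hw' ⊢
    rw [hw']
  · intro hz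
    rw [Set.mem_singleton_iff] at hz
    rw [hz]
    have hx' : x ∈ u ∩ (f ≫ q) ⁻¹' {s} := by
      rw [hux]; exact rfl
    exact ⟨⟨x, hx'.1, rfl⟩, hy⟩

end Groth.Agent.Lib.Helper10.QuotCov
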