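import Mathlib
import Groth.Agent.Lib.Helper10.QuotShBr1

/-!
# Effectivity of equivalence relations for fppf quotient sheaves of schemes
-/

set_option autoImplicit false
set_option backward.isDefEq.respectTransparency.types false
set_option maxHeartbeats 4000000
set_option synthInstance.maxHeartbeats 400000
universe u
open CategoryTheory CategoryTheory.Limits AlgebraicGeometry Opposite

namespace Groth.Agent.Lib.Helper10.QuotShBr

open AlgSp QuotSh Groth.Agent.Lib.Helper14.AS Groth.Agent.Lib.Helper24.QuotBridge
  Groth.Agent.Lib.Helper24.DescBridge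

variable {S : Scheme.{u}} {R U : Over S} (s t : R ⟶ U)

/-- an internal equivalence relation of schemes gives an equivalence relation of sheaves -/
theorem isEqvRelSp_of_isEquivalenceRelation [IsEquivalenceRelation s t] :
    AlgSp.IsEqvRelSp ((yon S).map s) ((yon S).map t) := by
  obtain ⟨e⟩ := IsEquivalenceRelation.nonempty_equivalenceRelation (p₁ := s) (p₂ := t)
  constructor
  · intro T r r' h1 h2
    obtain ⟨r₀, rfl⟩ := (yon S).map_surjective r
    obtain ⟨r₀', rfl⟩ := (yon S).map_surjective r'
    rw [← Functor.map_comp, ← Functor.map_comp] at h1 h2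
    have h1' := (yon S).map_injective h1
    have h2' := (yon S).map_injective h2
    rw [e.toReflexiveRelation.toJointlyMono₂.right_cancellation r₀ r₀' h2' h1']
  · intro T
    refine ⟨fun a => ?_, fun {a b} => ?_, fun {a b c} => ?_⟩
    · obtain ⟨a₀, rfl⟩ := (yon S).map_surjective a
      refine ⟨(yon S).map (a₀ ≫ e.r), ?_, ?_⟩
      · rw [← Functor.map_comp, Category.assoc, e.reflexivity₂, Category.comp_id]
      · rw [← Functor.map_comp, Category.assoc, e.reflexivity₁, Category.comp_id]
    · rintro ⟨r, rfl, rfl⟩
      obtain ⟨r₀, rfl⟩ := (yon S).map_surjective r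
      refine ⟨(yon S).map (r₀ ≫ e.s), ?_, ?_⟩
      · rw [← Functor.map_comp, ← Functor.map_comp, Category.assoc, e.symmetry₂]
      · rw [← Functor.map_comp, ← Functor.map_comp, Category.assoc, e.symmetry₁]
    · rintro ⟨r₁, rfl, rfl⟩ ⟨r₂, h2, rfl⟩
      obtain ⟨x, rfl⟩ := (yon S).map_surjective r₁
      obtain ⟨y, rfl⟩ := (yon S).map_surjective r₂
      rw [← Functor.map_comp, ← Functor.map_comp] at h2
      have h2' : y ≫ t = x ≫ s := (yon S).map_injective h2
      let z : T ⟶ e.c.pt := PullbackCone.IsLimit.lift e.isLimit y x h2'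
      have hz1 : z ≫ e.c.fst = y := PullbackCone.IsLimit.lift_fst e.isLimit y x h2'
      have hz2 : z ≫ e.c.snd = x := PullbackCone.IsLimit.lift_snd e.isLimit y x h2'
      refine ⟨(yon S).map (z ≫ e.t), ?_, ?_⟩
      · rw [← Functor.map_comp, ← Functor.map_comp, Category.assoc, e.transitivity₂,
          ← Category.assoc, hz2]
      · rw [← Functor.map_comp, ← Functor.map_comp, Category.assoc, e.transitivity₁,
          ← Category.assoc, hz1]

variable {s t}

/-- the comparison between the two descriptions of the map from the quotient sheaf -/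
theorem quotSpDesc_eq {M : Over S} (q : U ⟶ M) (w : s ≫ q = t ≫ q) :
    quotSpDesc ((yon S).map q) (by rw [← Functor.map_comp, ← Functor.map_comp, w]) =
      (quotIso s t).hom ≫ QuotSh.quotDesc Scheme.fppfPrecoverage q w ≫
        (QuotSh.repIsoUliftYoneda Scheme.fppfPrecoverage M).hom := by
  apply coequalizer.hom_ext
  change quotSpπ _ _ ≫ _ = quotSpπ _ _ ≫ _
  rw [quotSpπ_desc, ← Category.assoc, quotSpπ_quotIso_hom, π', Category.assoc]
  have h1 : quotπ Scheme.fppfPrecoverage s t ≫ QuotSh.quotDesc Scheme.fppfPrecoverage q w =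
      QuotSh.repMap Scheme.fppfPrecoverage q := coequalizer.π_desc _ _
  rw [← Category.assoc (quotπ Scheme.fppfPrecoverage s t), h1, repIso_hom_naturality,
    Iso.inv_hom_id_assoc]

/-- if `q` exhibits `M` as the fppf quotient sheaf of an equivalence relation, then the relation
is the kernel pair of `q` and `q` is an epimorphism of sheaves -/
theorem isKernelPair_of_isQuotient [IsEquivalenceRelation s t] {M : Over S} (q : U ⟶ M)
    (h : QuotSh.IsQuotient Scheme.fppfPrecoverage s t q) :
    IsKernelPair q s t ∧ Epi ((yon S).map q) := by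
  obtain ⟨w, hiso⟩ := h
  have wY : (yon S).map s ≫ (yon S).map q = (yon S).map t ≫ (yon S).map q := by
    rw [← Functor.map_comp, ← Functor.map_comp, w]
  set d := quotSpDesc ((yon S).map q) wY with hd
  haveI : IsIso d := by
    rw [hd, quotSpDesc_eq q w]
    infer_instance
  have hπd : quotSpπ ((yon S).map s) ((yon S).map t) ≫ d = (yon S).map q := by
    rw [hd]; exact quotSpπ_desc _ _ ((yon S).map q) wY
  have hpb := Groth.Agent.Lib.Helper24.QuotFlat.isPullback_quotSpπ
    (isEqvRelSp_of_isEquivalenceRelation s t)
  have hpb' : IsPullback ((yon S).map t) ((yon S).map s) ((yon S).map q) ((yon S).map q) := by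
    refine IsPullback.of_iso hpb (Iso.refl _) (Iso.refl _) (Iso.refl _) (asIso d) ?_ ?_ ?_ ?_
    · simp
    · simp
    · simp [hπd]
    · simp [hπd]
  have hpb'' : IsPullback t s q q := IsPullback.of_map (yon S) w.symm hpb'
  refine ⟨hpb''.flip, ?_⟩
  rw [← hπd]
  haveI : Epi (quotSpπ ((yon S).map s) ((yon S).map t)) := by
    unfold quotSpπ
    exact coequalizer.π_epi
  exact epi_comp _ _

/-- a morphism which is an epimorphism of fppf sheaves inherits from a projection of its kernel
pair every property which is stable under base change and fppf local on the target -/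
theorem P_of_epi_of_isKernelPair (P : MorphismProperty Scheme.{u}) [P.IsStableUnderBaseChange]
    [P.IsLocalAtTarget Scheme.fppfPrecoverage] {M : Over S} (q : U ⟶ M)
    (hkp : IsKernelPair q s t) (hepi : Epi ((yon S).map q)) (hs : P s.left) : P q.left := by
  obtain ⟨Rc, hRc, hl⟩ := exists_cover_lift_of_epi q hepi
  refine P_of_cover q hRc (fun W w hw => ?_)
  obtain ⟨l, hl⟩ := hl w hw
  refine ⟨pullback s l, pullback.fst s l ≫ t, pullback.snd s l, ?_, ?_⟩
  · have sq1 := IsPullback.of_hasPullback s l
    have sq2 : IsPullback t s q q := hkp.flip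
    have := sq1.paste_horiz sq2
    rwa [hl] at this
  · have sq1 := (IsPullback.of_hasPullback s l).map (Over.forget S)
    exact MorphismProperty.of_isPullback (P := P) sq1 hs

/-- a morphism which is an epimorphism of fppf sheaves and whose kernel pair has flat, surjective,
locally finitely presented projections is itself flat, surjective and locally finitely presented -/
theorem fppf_of_epi_of_isKernelPair {M : Over S} (q : U ⟶ M) (hkp : IsKernelPair q s t)
    (hepi : Epi ((yon S).map q)) [Flat s.left] [Surjective s.left]
    [LocallyOfFinitePresentation s.left] :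
    Flat q.left ∧ Surjective q.left ∧ LocallyOfFinitePresentation q.left :=
  ⟨P_of_epi_of_isKernelPair @Flat q hkp hepi inferInstance,
    P_of_epi_of_isKernelPair @Surjective q hkp hepi inferInstance,
    P_of_epi_of_isKernelPair @LocallyOfFinitePresentation q hkp hepi inferInstance⟩

end Groth.Agent.Lib.Helper10.QuotShBr
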