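import Mathlib
import Groth.Agent.Lib.Helper10.QuotShBr2

/-!
# Descent of sections of fppf sheaves along fppf morphisms of schemes
-/

set_option autoImplicit false
set_option backward.isDefEq.respectTransparency.types false
set_option maxHeartbeats 4000000
set_option synthInstance.maxHeartbeats 400000
universe u
open CategoryTheory CategoryTheory.Limits AlgebraicGeometry Opposite

namespace Groth.Agent.Lib.Helper10.QuotShBr

open AlgSp QuotSh Groth.Agent.Lib.Helper14.AS Groth.Agent.Lib.Helper24.QuotBridge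
  Groth.Agent.Lib.Helper24.DescBridge

variable {S : Scheme.{u}}

/-- an epimorphism of representable fppf sheaves is effective: morphisms out of `h_Z` which
coequalize the kernel pair descend -/
theorem exists_desc_of_epi {Z T : Over S} (p : Z ⟶ T) (hepi : Epi ((yon S).map p))
    {F : Sp S} (e : (yon S).obj Z ⟶ F)
    (h : (yon S).map (pullback.fst p p) ≫ e = (yon S).map (pullback.snd p p) ≫ e) :
    ∃ d : (yon S).obj T ⟶ F, (yon S).map p ≫ d = e := by
  haveI : IsRegularEpi ((yon S).map p) := IsRegularEpiCategory.regularEpiOfEpi _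
  have hpb : IsPullback ((yon S).map (pullback.fst p p)) ((yon S).map (pullback.snd p p))
      ((yon S).map p) ((yon S).map p) := (IsPullback.of_hasPullback p p).map (yon S)
  have key : ∀ {W : Sp S} (g₁ g₂ : W ⟶ (yon S).obj Z),
      g₁ ≫ (yon S).map p = g₂ ≫ (yon S).map p → g₁ ≫ e = g₂ ≫ e := by
    intro W g₁ g₂ hg
    have h1 : hpb.lift g₁ g₂ hg ≫ (yon S).map (pullback.fst p p) = g₁ := hpb.lift_fst _ _ _
    have h2 : hpb.lift g₁ g₂ hg ≫ (yon S).map (pullback.snd p p) = g₂ := hpb.lift_snd _ _ _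
    calc g₁ ≫ e = (hpb.lift g₁ g₂ hg ≫ (yon S).map (pullback.fst p p)) ≫ e := by rw [h1]
      _ = (hpb.lift g₁ g₂ hg ≫ (yon S).map (pullback.snd p p)) ≫ e := by
        rw [Category.assoc, Category.assoc, h]
      _ = g₂ ≫ e := by rw [h2]
  exact ⟨EffectiveEpi.desc ((yon S).map p) e key, EffectiveEpi.fac _ _ key⟩

theorem exists_desc_of_fppf {Z T : Over S} (p : Z ⟶ T) [Flat p.left] [Surjective p.left]
    [LocallyOfFinitePresentation p.left] {F : Sp S} (e : (yon S).obj Z ⟶ F)
    (h : (yon S).map (pullback.fst p p) ≫ e = (yon S).map (pullback.snd p p) ≫ e) :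
    ∃ d : (yon S).obj T ⟶ F, (yon S).map p ≫ d = e :=
  exists_desc_of_epi p (epi_yon_map_of_fppf p) e h

/-- the same, for the prelude's sheafified representables -/
theorem exists_desc_rep_of_fppf {Z T : Over S} (p : Z ⟶ T) [Flat p.left] [Surjective p.left]
    [LocallyOfFinitePresentation p.left] {F : Sp S}
    (e : QuotSh.rep Scheme.fppfPrecoverage Z ⟶ F)
    (h : QuotSh.repMap Scheme.fppfPrecoverage (pullback.fst p p) ≫ e =
      QuotSh.repMap Scheme.fppfPrecoverage (pullback.snd p p) ≫ e) :
    ∃ d : QuotSh.rep Scheme.fppfPrecoverage T ⟶ F,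
      QuotSh.repMap Scheme.fppfPrecoverage p ≫ d = e := by
  obtain ⟨d, hd⟩ := exists_desc_of_fppf p
    ((QuotSh.repIsoUliftYoneda Scheme.fppfPrecoverage Z).inv ≫ e) (by
      rw [← Category.assoc, ← Category.assoc, repIso_inv_naturality, repIso_inv_naturality,
        Category.assoc, Category.assoc, h])
  refine ⟨(QuotSh.repIsoUliftYoneda Scheme.fppfPrecoverage T).hom ≫ d, ?_⟩
  rw [← Category.assoc, repIso_hom_naturality, Category.assoc, hd, Iso.hom_inv_id_assoc]

end Groth.Agent.Lib.Helper10.QuotShBr
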