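import Mathlib
import Groth.Prelude.Def_QuotSh

/-!
# Quotient sheaves `QuotSh.quot` for a general precoverage: sections description of
`QuotSh.IsQuotient`.
-/

set_option autoImplicit false
set_option backward.isDefEq.respectTransparency.types false
set_option maxHeartbeats 4000000
set_option synthInstance.maxHeartbeats 400000
universe u
open CategoryTheory CategoryTheory.Limits AlgebraicGeometry Opposite

namespace Groth.Agent.Lib.Helper10.QuotShEt

variable (K : Precoverage Scheme.{u}) {S : Scheme.{u}}

/-- maps out of the sheafified representable `h_V` are sections over `V` -/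
noncomputable def repEquiv (V : Over S) (G : QuotSh.Sh K S) :
    (QuotSh.rep K V ⟶ G) ≃ G.obj.obj (op V) :=
  ((sheafificationAdjunction (QuotSh.J K S) (Type (u + 1))).homEquiv
    (yoneda.obj V ⋙ uliftFunctor.{u + 1, u}) G).trans uliftYonedaEquiv.{u + 1}

theorem repEquiv_repMap_comp {V W : Over S} (g : V ⟶ W) {G : QuotSh.Sh K S}
    (f : QuotSh.rep K W ⟶ G) :
    repEquiv K V G (QuotSh.repMap K g ≫ f) = G.obj.map g.op (repEquiv K W G f) := by
  unfold repEquiv
  simp only [Equiv.trans_apply]
  rw [Adjunction.homEquiv_naturality_left]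
  exact (uliftYonedaEquiv_naturality _ g.op).symm

theorem repEquiv_comp {V : Over S} {G G' : QuotSh.Sh K S} (f : QuotSh.rep K V ⟶ G)
    (h : G ⟶ G') :
    repEquiv K V G' (f ≫ h) = h.hom.app (op V) (repEquiv K V G f) := by
  unfold repEquiv
  simp only [Equiv.trans_apply]
  rw [Adjunction.homEquiv_naturality_right]
  exact uliftYonedaEquiv_comp _ _

variable {R U M : Over S} (s t : R ⟶ U) (q : U ⟶ M)

/-- `q` exhibits `M` as the quotient sheaf iff every sheaf satisfies the equalizer condition for
`R ⇉ U ⟶ M` -/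
theorem isQuotient_iff :
    QuotSh.IsQuotient K s t q ↔ s ≫ q = t ≫ q ∧ ∀ (G : QuotSh.Sh K S) (x : G.obj.obj (op U)),
      G.obj.map s.op x = G.obj.map t.op x → ∃! y : G.obj.obj (op M), G.obj.map q.op y = x := by
  constructor
  · rintro ⟨w, hiso⟩
    refine ⟨w, fun G x hx => ?_⟩
    let e : QuotSh.rep K U ⟶ G := (repEquiv K U G).symm x
    have he : QuotSh.repMap K s ≫ e = QuotSh.repMap K t ≫ e := by
      apply (repEquiv K R G).injective
      rw [repEquiv_repMap_comp, repEquiv_repMap_comp]
      simp only [e, Equiv.apply_symm_apply]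
      exact hx
    let dd : QuotSh.quot K s t ⟶ G := coequalizer.desc e he
    have hπ : QuotSh.quotπ K s t ≫ QuotSh.quotDesc K q w = QuotSh.repMap K q :=
      coequalizer.π_desc _ _
    have hπ' : QuotSh.quotπ K s t ≫ dd = e := coequalizer.π_desc _ _
    refine ⟨repEquiv K M G (inv (QuotSh.quotDesc K q w) ≫ dd), ?_, ?_⟩
    · change G.obj.map q.op (repEquiv K M G (inv (QuotSh.quotDesc K q w) ≫ dd)) = x
      rw [← repEquiv_repMap_comp, ← hπ, Category.assoc, IsIso.hom_inv_id_assoc, hπ']
      exact Equiv.apply_symm_apply _ _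
    · intro y hy
      let f' : QuotSh.rep K M ⟶ G := (repEquiv K M G).symm y
      have h1 : QuotSh.repMap K q ≫ f' = e := by
        apply (repEquiv K U G).injective
        rw [repEquiv_repMap_comp]
        simp only [f', e, Equiv.apply_symm_apply]
        exact hy
      have h2 : QuotSh.quotDesc K q w ≫ f' = dd := by
        apply coequalizer.hom_ext
        change QuotSh.quotπ K s t ≫ _ = QuotSh.quotπ K s t ≫ _
        rw [← Category.assoc, hπ, h1, hπ']
      have h3 : f' = inv (QuotSh.quotDesc K q w) ≫ dd := by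
        rw [← h2, IsIso.inv_hom_id_assoc]
      rw [← h3]
      exact (Equiv.apply_symm_apply _ _).symm
  · rintro ⟨w, h⟩
    refine ⟨w, ?_⟩
    have hπ : QuotSh.quotπ K s t ≫ QuotSh.quotDesc K q w = QuotSh.repMap K q :=
      coequalizer.π_desc _ _
    -- the inverse
    obtain ⟨y, hy, -⟩ := h (QuotSh.quot K s t) (repEquiv K U _ (QuotSh.quotπ K s t)) (by
      rw [← repEquiv_repMap_comp, ← repEquiv_repMap_comp, QuotSh.quot_condition])
    let g : QuotSh.rep K M ⟶ QuotSh.quot K s t := (repEquiv K M _).symm y
    have hg : QuotSh.repMap K q ≫ g = QuotSh.quotπ K s t := by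
      apply (repEquiv K U _).injective
      rw [repEquiv_repMap_comp]
      simp only [g, Equiv.apply_symm_apply]
      exact hy
    refine ⟨g, ?_, ?_⟩
    · apply coequalizer.hom_ext
      change QuotSh.quotπ K s t ≫ _ = QuotSh.quotπ K s t ≫ _
      rw [← Category.assoc, hπ, hg, Category.comp_id]
    · obtain ⟨y', -, huniq⟩ := h (QuotSh.rep K M) (repEquiv K U _ (QuotSh.repMap K q)) (by
        rw [← repEquiv_repMap_comp, ← repEquiv_repMap_comp]
        congr 1
        change QuotSh.repMap K s ≫ QuotSh.repMap K q = QuotSh.repMap K t ≫ QuotSh.repMap K q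
        rw [← Functor.map_comp, ← Functor.map_comp, ← Functor.whiskerRight_comp,
          ← Functor.whiskerRight_comp, ← yoneda.map_comp, ← yoneda.map_comp, w])
      have e1 : repEquiv K M _ (g ≫ QuotSh.quotDesc K q w) = y' := by
        apply huniq
        rw [← repEquiv_repMap_comp, ← Category.assoc, hg, hπ]
      have e2 : repEquiv K M _ (𝟙 (QuotSh.rep K M)) = y' := by
        apply huniq
        rw [← repEquiv_repMap_comp, Category.comp_id]
      exact (repEquiv K M _).injective (e1.trans e2.symm)

/-- a quotient for a coarser topology is a quotient for a finer one -/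
theorem isQuotient_of_le {K' : Precoverage Scheme.{u}} (hle : QuotSh.J K S ≤ QuotSh.J K' S)
    (h : QuotSh.IsQuotient K s t q) : QuotSh.IsQuotient K' s t q := by
  rw [isQuotient_iff] at h ⊢
  refine ⟨h.1, fun G x hx => ?_⟩
  exact h.2 ⟨G.obj, Presheaf.IsSheaf.of_le hle G.property⟩ x hx

end Groth.Agent.Lib.Helper10.QuotShEt
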