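import Mathlib
import Groth.Agent.Lib.Helper10.QuotShEt1
import Groth.Agent.Lib.Helper10.QuotShBr2
import Groth.Agent.Lib.Helper24.EtSheaf

/-!
# Étale quotient sheaves of étale equivalence relations of schemes
-/

set_option autoImplicit false
set_option backward.isDefEq.respectTransparency.types false
set_option maxHeartbeats 4000000
set_option synthInstance.maxHeartbeats 400000
universe u
open CategoryTheory CategoryTheory.Limits AlgebraicGeometry Opposite

namespace Groth.Agent.Lib.Helper10.QuotShEt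

open Groth.Agent.Lib.Helper24.EtSheaf Groth.Agent.Lib.Helper14.AS

variable (K : Precoverage Scheme.{u}) {S : Scheme.{u}}
variable {R U M : Over S} (s t : R ⟶ U) (q : U ⟶ M)

/-- a covering morphism with kernel pair `R` is the quotient sheaf -/
theorem isQuotient_of_isKernelPair (hkp : IsKernelPair q s t)
    (hcov : Sieve.generate (Presieve.singleton q) ∈ QuotSh.J K S M) :
    QuotSh.IsQuotient K s t q := by
  rw [isQuotient_iff]
  refine ⟨hkp.w, fun G x hx => ?_⟩
  have hG : Presieve.IsSheafFor G.obj (Presieve.singleton q) := by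
    rw [Presieve.isSheafFor_iff_generate]
    exact ((isSheaf_iff_isSheaf_of_type _ _).1 G.property) _ hcov
  let fam : (Presieve.singleton q).FamilyOfElements G.obj :=
    (Presieve.FamilyOfElements.singletonEquiv G.obj q).symm x
  have hfam : fam q ⟨⟩ = x := Presieve.FamilyOfElements.singletonEquiv_symm_apply_self q x
  have hcomp : fam.Compatible := by
    rw [Presieve.FamilyOfElements.compatible_singleton_iff]
    intro Z p₁ p₂ hp
    rw [hfam]
    obtain ⟨r, hr1, hr2⟩ : ∃ r : Z ⟶ R, r ≫ s = p₁ ∧ r ≫ t = p₂ :=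
      ⟨hkp.lift p₁ p₂ hp, hkp.lift_fst _ _ _, hkp.lift_snd _ _ _⟩
    rw [← hr1, ← hr2, op_comp, op_comp, Functor.map_comp, Functor.map_comp]
    change G.obj.map r.op (G.obj.map s.op x) = G.obj.map r.op (G.obj.map t.op x)
    rw [hx]
  obtain ⟨y, hy, huniq⟩ := hG fam hcomp
  refine ⟨y, ?_, fun y' hy' => huniq y' ?_⟩
  · rw [Presieve.FamilyOfElements.isAmalgamation_singleton_iff] at hy
    rw [hy, hfam]
  · change fam.IsAmalgamation y'
    rw [Presieve.FamilyOfElements.isAmalgamation_singleton_iff, hfam]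
    exact hy'

section Subcanonical
variable [(QuotSh.J K S).Subcanonical]

theorem repIso_inv_naturality {V W : Over S} (g : V ⟶ W) :
    (QuotSh.J K S).uliftYoneda.{u + 1}.map g ≫ (QuotSh.repIsoUliftYoneda K W).inv =
      (QuotSh.repIsoUliftYoneda K V).inv ≫ QuotSh.repMap K g :=
  (sheafificationNatIso (QuotSh.J K S) (Type (u + 1))).hom.naturality
    ((QuotSh.J K S).uliftYoneda.{u + 1}.map g)

theorem repIso_hom_naturality {V W : Over S} (g : V ⟶ W) :
    QuotSh.repMap K g ≫ (QuotSh.repIsoUliftYoneda K W).hom =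
      (QuotSh.repIsoUliftYoneda K V).hom ≫ (QuotSh.J K S).uliftYoneda.{u + 1}.map g := by
  rw [← cancel_epi (QuotSh.repIsoUliftYoneda K V).inv, ← Category.assoc,
    ← repIso_inv_naturality, Category.assoc, Iso.inv_hom_id, Iso.inv_hom_id_assoc,
    Category.comp_id]

/-- Sections of a sheaf over `V` as maps out of `h_V`. -/
noncomputable abbrev yEq {V : Over S} {F : QuotSh.Sh K S} :
    ((QuotSh.J K S).uliftYoneda.{u + 1}.obj V ⟶ F) ≃ F.obj.obj (op V) :=
  (QuotSh.J K S).uliftYonedaEquiv

/-- if `q` exhibits `M` as the quotient sheaf then the identity of `M` lifts to `U` locally -/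
theorem exists_sieve_lift_of_isQuotient (h : QuotSh.IsQuotient K s t q) :
    ∃ T ∈ QuotSh.J K S M, ∀ ⦃W : Over S⦄ (w : W ⟶ M), T w → ∃ l : W ⟶ U, l ≫ q = w := by
  obtain ⟨w, hiso⟩ := h
  have hπ : QuotSh.quotπ K s t ≫ QuotSh.quotDesc K q w = QuotSh.repMap K q :=
    coequalizer.π_desc _ _
  haveI : Epi (QuotSh.quotπ K s t) := by
    unfold QuotSh.quotπ
    exact coequalizer.π_epi
  haveI : Epi (QuotSh.repMap K q) := by
    rw [← hπ]
    exact epi_comp _ _
  let yq := (QuotSh.J K S).uliftYoneda.{u + 1}.map q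
  have hyq : yq = (QuotSh.repIsoUliftYoneda K U).inv ≫ QuotSh.repMap K q ≫
      (QuotSh.repIsoUliftYoneda K M).hom := by
    rw [repIso_hom_naturality, Iso.inv_hom_id_assoc]
  haveI : Epi yq := by
    rw [hyq]
    infer_instance
  haveI : Sheaf.IsLocallySurjective yq := (Sheaf.isLocallySurjective_iff_epi _).2 inferInstance
  have hmem := Presheaf.imageSieve_mem (QuotSh.J K S) yq.hom (U := op M)
    (yEq K (𝟙 ((QuotSh.J K S).uliftYoneda.{u + 1}.obj M)))
  refine ⟨_, hmem, fun W w' hw' => ?_⟩
  obtain ⟨z, hz⟩ := hw'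
  let l' : (QuotSh.J K S).uliftYoneda.{u + 1}.obj W ⟶ (QuotSh.J K S).uliftYoneda.{u + 1}.obj U :=
    (yEq K).symm z
  obtain ⟨l, hl⟩ := ((QuotSh.J K S).uliftYoneda.{u + 1}).map_surjective l'
  refine ⟨l, ?_⟩
  apply ((QuotSh.J K S).uliftYoneda.{u + 1}).map_injective
  rw [Functor.map_comp, hl]
  apply (yEq K).injective
  have h1 := (QuotSh.J K S).uliftYonedaEquiv_comp l' yq
  have h2 := (QuotSh.J K S).uliftYonedaEquiv_naturality
    (𝟙 ((QuotSh.J K S).uliftYoneda.{u + 1}.obj M)) w'
  rw [Equiv.apply_symm_apply] at h1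
  rw [Category.comp_id] at h2
  exact h1.trans (hz.trans h2)

end Subcanonical

instance etale_subcanonical : (Scheme.etalePrecoverage.{u}).toGrothendieck.Subcanonical :=
  .of_le (Scheme.etaleTopology_le_proetaleTopology.trans Scheme.proetaleTopology_le_fpqcTopology)

instance etale_hasIsos : Precoverage.HasIsos (Scheme.etalePrecoverage.{u}) := by
  unfold Scheme.etalePrecoverage
  infer_instance

instance etale_comp : Precoverage.IsStableUnderComposition (Scheme.etalePrecoverage.{u}) := by
  unfold Scheme.etalePrecoverage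
  infer_instance

/-- A sieve on `U : Over S` is étale covering iff it contains an étale covering family. -/
theorem mem_Jet_iff {V : Over S} (T : Sieve V) :
    T ∈ Jet S V ↔ ∃ R' ∈ KSet S V, R' ≤ T.arrows := by
  rw [Jet_eq]
  exact Precoverage.mem_toGrothendieck_iff_of_isStableUnderComposition

variable {s t q}

/-- étale local lifts give properties of `q` from those of the projection of the kernel pair -/
theorem P_of_lifts_of_isKernelPair (P : MorphismProperty Scheme.{u}) [P.IsStableUnderBaseChange]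
    [P.IsLocalAtTarget Scheme.fppfPrecoverage] (hkp : IsKernelPair q s t)
    {T : Sieve M} (hT : T ∈ Jet S M)
    (hl : ∀ ⦃W : Over S⦄ (w : W ⟶ M), T w → ∃ l : W ⟶ U, l ≫ q = w)
    (hs : P s.left) : P q.left := by
  obtain ⟨R', hR', hle⟩ := (mem_Jet_iff T).1 hT
  have hR'' : R' ∈ KS S M := by
    rw [Precoverage.mem_comap_iff] at hR' ⊢
    exact etalePrecoverage_le _ hR'
  refine P_of_cover q hR'' (fun W w hw => ?_)
  obtain ⟨l, hl⟩ := hl w (hle _ _ hw)
  refine ⟨pullback s l, pullback.fst s l ≫ t, pullback.snd s l, ?_, ?_⟩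
  · have sq1 := IsPullback.of_hasPullback s l
    have sq2 : IsPullback t s q q := hkp.flip
    have := sq1.paste_horiz sq2
    rwa [hl] at this
  · have sq1 := (IsPullback.of_hasPullback s l).map (Over.forget S)
    exact MorphismProperty.of_isPullback (P := P) sq1 hs

/-- the étale quotient sheaf statement -/
theorem etale_effective_iff_isQuotient (s t : R ⟶ U)
    [IsEquivalenceRelation s t] [Etale s.left] [Surjective s.left] (q : U ⟶ M) :
    (IsKernelPair q s t ∧ Etale q.left ∧ Surjective q.left) ↔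
      QuotSh.IsQuotient Scheme.etalePrecoverage s t q := by
  constructor
  · rintro ⟨hkp, het, hsu⟩
    exact isQuotient_of_isKernelPair _ s t q hkp (generate_singleton_mem_Jet q)
  · intro h
    have hf : QuotSh.IsQuotient Scheme.fppfPrecoverage s t q :=
      isQuotient_of_le _ s t q (Jet_le S) h
    obtain ⟨hkp, -⟩ := Groth.Agent.Lib.Helper10.QuotShBr.isKernelPair_of_isQuotient q hf
    obtain ⟨T, hT, hl⟩ := exists_sieve_lift_of_isQuotient Scheme.etalePrecoverage s t q h
    exact ⟨hkp, P_of_lifts_of_isKernelPair @Etale hkp hT hl inferInstance,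
      P_of_lifts_of_isKernelPair @Surjective hkp hT hl inferInstance⟩

end Groth.Agent.Lib.Helper10.QuotShEt
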