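import Mathlib

/-!
# Quasi-compactness of the Zariski–Riemann space (finite subcover form)
-/

set_option autoImplicit false
set_option linter.unusedSectionVars false
set_option linter.style.haveILetI false
set_option maxHeartbeats 4000000
universe u

namespace Groth.Agent.Lib.Helper10.RZ

variable (K : Type u) [Field K]

/-- indicator functions of valuation subrings of `K`. -/
def valSet : Set (K → Bool) :=
  {χ | χ 0 = true ∧ χ 1 = true ∧ (∀ x y, χ x = true → χ y = true → χ (x + y) = true) ∧
    (∀ x, χ x = true → χ (-x) = true) ∧ (∀ x y, χ x = true → χ y = true → χ (x * y) = true) ∧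
    (∀ x, χ x = true ∨ χ x⁻¹ = true)}

variable {K}

theorem isClopen_eval (x : K) : IsClopen {χ : K → Bool | χ x = true} :=
  (isClopen_discrete ({true} : Set Bool)).preimage (continuous_apply x)

variable (K) in
theorem isClosed_valSet : IsClosed (valSet K) := by
  have h0 : IsClosed {χ : K → Bool | χ 0 = true} := (isClopen_eval 0).isClosed
  have h1 : IsClosed {χ : K → Bool | χ 1 = true} := (isClopen_eval 1).isClosed
  have h2 : IsClosed {χ : K → Bool | ∀ x y, χ x = true → χ y = true → χ (x + y) = true} := by
    simp only [Set.setOf_forall]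
    refine isClosed_iInter fun x => isClosed_iInter fun y => ?_
    exact isClosed_imp (isClopen_eval x).isOpen
      (isClosed_imp (isClopen_eval y).isOpen (isClopen_eval (x + y)).isClosed)
  have h3 : IsClosed {χ : K → Bool | ∀ x, χ x = true → χ (-x) = true} := by
    simp only [Set.setOf_forall]
    refine isClosed_iInter fun x => ?_
    exact isClosed_imp (isClopen_eval x).isOpen (isClopen_eval (-x)).isClosed
  have h4 : IsClosed {χ : K → Bool | ∀ x y, χ x = true → χ y = true → χ (x * y) = true} := by
    simp only [Set.setOf_forall]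
    refine isClosed_iInter fun x => isClosed_iInter fun y => ?_
    exact isClosed_imp (isClopen_eval x).isOpen
      (isClosed_imp (isClopen_eval y).isOpen (isClopen_eval (x * y)).isClosed)
  have h5 : IsClosed {χ : K → Bool | ∀ x, χ x = true ∨ χ x⁻¹ = true} := by
    simp only [Set.setOf_forall]
    refine isClosed_iInter fun x => ?_
    exact (isClopen_eval x).isClosed.union (isClopen_eval x⁻¹).isClosed
  exact h0.inter (h1.inter (h2.inter (h3.inter (h4.inter h5))))

/-- the valuation subring of an indicator function. -/
def toValuationSubring (χ : K → Bool) (hχ : χ ∈ valSet K) : ValuationSubring K where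
  carrier := {x | χ x = true}
  mul_mem' := fun {a b} ha hb => hχ.2.2.2.2.1 a b ha hb
  one_mem' := hχ.2.1
  add_mem' := fun {a b} ha hb => hχ.2.2.1 a b ha hb
  zero_mem' := hχ.1
  neg_mem' := fun {a} ha => hχ.2.2.2.1 a ha
  mem_or_inv_mem' := hχ.2.2.2.2.2

theorem mem_toValuationSubring (χ : K → Bool) (hχ : χ ∈ valSet K) (x : K) :
    x ∈ toValuationSubring χ hχ ↔ χ x = true := Iff.rfl

open Classical in
/-- the indicator function of a valuation subring. -/
noncomputable def ofValuationSubring (R : ValuationSubring K) : K → Bool := fun x => decide (x ∈ R)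

theorem ofValuationSubring_apply (R : ValuationSubring K) (x : K) :
    ofValuationSubring R x = true ↔ x ∈ R := by
  unfold ofValuationSubring
  simp

theorem ofValuationSubring_mem (R : ValuationSubring K) : ofValuationSubring R ∈ valSet K := by
  refine ⟨?_, ?_, ?_, ?_, ?_, ?_⟩
  · rw [ofValuationSubring_apply]; exact zero_mem R
  · rw [ofValuationSubring_apply]; exact one_mem R
  · intro x y hx hy
    rw [ofValuationSubring_apply] at hx hy ⊢
    exact add_mem hx hy
  · intro x hx
    rw [ofValuationSubring_apply] at hx ⊢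
    exact neg_mem hx
  · intro x y hx hy
    rw [ofValuationSubring_apply] at hx hy ⊢
    exact mul_mem hx hy
  · intro x
    rw [ofValuationSubring_apply, ofValuationSubring_apply]
    exact R.mem_or_inv_mem x

/-- **Quasi-compactness of the Zariski–Riemann space.** -/
theorem exists_finite_subcover {ι : Type*} (A0 : Set K) (S : ι → Finset K)
    (hcover : ∀ R : ValuationSubring K, A0 ⊆ R → ∃ i, (↑(S i) : Set K) ⊆ (R : Set K)) :
    ∃ F : Finset ι, ∀ R : ValuationSubring K, A0 ⊆ R →
      ∃ i ∈ F, (↑(S i) : Set K) ⊆ (R : Set K) := by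
  let C : Set (K → Bool) := valSet K ∩ {χ | ∀ a ∈ A0, χ a = true}
  have hCclosed : IsClosed C := by
    refine (isClosed_valSet K).inter ?_
    simp only [Set.setOf_forall]
    exact isClosed_iInter fun a => isClosed_iInter fun _ => (isClopen_eval a).isClosed
  have hCcompact : IsCompact C := hCclosed.isCompact
  let O : ι → Set (K → Bool) := fun i => {χ | ∀ s ∈ S i, χ s = true}
  have hOopen : ∀ i, IsOpen (O i) := by
    intro i
    have : O i = ⋂ s ∈ S i, {χ : K → Bool | χ s = true} := by
      ext χ; simp [O]
    rw [this]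
    exact isOpen_biInter_finset fun s _ => (isClopen_eval s).isOpen
  have hsub : C ⊆ ⋃ i, O i := by
    intro χ hχ
    obtain ⟨i, hi⟩ := hcover (toValuationSubring χ hχ.1) (fun a ha => hχ.2 a ha)
    exact Set.mem_iUnion.mpr ⟨i, fun s hs => hi hs⟩
  obtain ⟨F, hF⟩ := hCcompact.elim_finite_subcover O hOopen hsub
  refine ⟨F, fun R hR => ?_⟩
  have hmem : ofValuationSubring R ∈ C :=
    ⟨ofValuationSubring_mem R, fun a ha => (ofValuationSubring_apply R a).mpr (hR ha)⟩
  obtain ⟨i, hiF, hi⟩ := Set.mem_iUnion₂.mp (hF hmem)
  exact ⟨i, hiF, fun s hs => (ofValuationSubring_apply R s).mp (hi s hs)⟩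

end Groth.Agent.Lib.Helper10.RZ
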