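import Mathlib
import Groth.Agent.Lib.Helper18.MCMFree
import Groth.Agent.Lib.Helper18.SerreNormal
import Groth.Agent.Lib.Helper18.SerreReg2

/-!
# Regular local rings are integrally closed

Assembled from helper18's libraries: localizations of a regular local ring at primes are regular
(`SerreReg2`), regular local rings have depth equal to dimension (`MCMFree`), and Serre's criterion
`R₁ + S₂ ⇒ normal` (`SerreNormal`).
-/

universe u

namespace Groth.Agent.Lib.Helper10.RegularNormal

/-- A regular local ring is integrally closed (Serre's criterion `R₁ + S₂`). -/
theorem isIntegrallyClosed_of_isRegularLocalRing (R : Type u) [CommRing R] [IsRegularLocalRing R] :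
    IsIntegrallyClosed R := by
  have hdom : IsDomain R := Groth.Agent.Lib.Helper21.isDomain_of_isRegularLocalRing R
  have hreg : ∀ (p : Ideal R) [p.IsPrime], IsRegularLocalRing (Localization.AtPrime p) :=
    fun p _ => Groth.Agent.Lib.Helper18.SerreReg.isRegularLocalRing_localization_atPrime R p
  have hR1 : LocCoh.HasRk 1 R := fun p _ _ => hreg p
  have hS2 : LocCoh.HasSk 2 R R := by
    rw [Groth.Agent.Lib.Helper18.Serre.hasSk_self_iff]
    intro p _
    have := hreg p
    have h1 := Groth.Agent.Lib.Helper18.CM.ringKrullDim_le_depth_of_free (Localization.AtPrime p)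
      (Localization.AtPrime p)
    rw [IsLocalization.AtPrime.ringKrullDim_eq_height p (Localization.AtPrime p)] at h1
    exact (min_le_right _ _).trans h1
  exact Groth.Agent.Lib.Helper18.Serre.isIntegrallyClosed_of_isDomain_of_R1_S2 hR1 hS2

/-- An integral extension domain of a regular local ring satisfies going down. -/
theorem hasGoingDown_of_isRegularLocalRing (R S : Type u) [CommRing R] [CommRing S]
    [IsRegularLocalRing R] [IsDomain S] [Algebra R S] [Algebra.IsIntegral R S]
    (hinj : Function.Injective (algebraMap R S)) : Algebra.HasGoingDown R S := by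
  have hdomR : IsDomain R := Groth.Agent.Lib.Helper21.isDomain_of_isRegularLocalRing R
  have hic : IsIntegrallyClosed R := isIntegrallyClosed_of_isRegularLocalRing R
  have hfs : FaithfulSMul R S := (faithfulSMul_iff_algebraMap_injective R S).2 hinj
  infer_instance

end Groth.Agent.Lib.Helper10.RegularNormal
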