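import Mathlib
import Groth.Agent.Lib.Helper10.RelCartier

/-!
# The stalk of a principal closed subscheme

* `ker_stalkMap_subschemeι`: if `I(U) = (h₀)` on an affine open `U ∋ ι d` then the kernel of the
  (surjective) stalk map `𝒪_{X, ι d} → 𝒪_{D, d}` is generated by the germ of `h₀`.
-/

set_option autoImplicit false
universe u
open CategoryTheory CategoryTheory.Limits AlgebraicGeometry TopologicalSpace

namespace Groth.Agent.Lib.Helper10.RelCartier

variable {X : Scheme.{u}} (I : X.IdealSheafData)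

theorem ker_stalkMap_subschemeι (U : X.affineOpens) (h₀ : Γ(X, U.1))
    (hI : I.ideal U = Ideal.span {h₀}) (d : I.subscheme) (hd : I.subschemeι d ∈ U.1) :
    RingHom.ker (I.subschemeι.stalkMap d).hom =
      Ideal.span {X.presheaf.germ U.1 (I.subschemeι d) hd h₀} := by
  have hU : IsAffineOpen U.1 := U.2
  have hD' : IsAffineOpen (I.subschemeι ⁻¹ᵁ U.1) := hU.preimage I.subschemeι
  have hd' : d ∈ I.subschemeι ⁻¹ᵁ U.1 := hd
  have hker : RingHom.ker (I.subschemeι.app U.1).hom = Ideal.span {h₀} := by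
    rw [I.ker_subschemeι_app U, hI]
  have hgerm : ∀ s : Γ(X, U.1), (I.subschemeι.stalkMap d).hom
      (X.presheaf.germ U.1 (I.subschemeι d) hd s) =
      I.subscheme.presheaf.germ (I.subschemeι ⁻¹ᵁ U.1) d hd' ((I.subschemeι.app U.1).hom s) :=
    fun s => Scheme.Hom.germ_stalkMap_apply I.subschemeι U.1 d hd s
  apply le_antisymm
  · intro b hb
    rw [RingHom.mem_ker] at hb
    letI := X.presheaf.algebra_section_stalk ⟨I.subschemeι d, hd⟩
    haveI := hU.isLocalization_stalk ⟨I.subschemeι d, hd⟩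
    obtain ⟨s, t, rfl⟩ := IsLocalization.exists_mk'_eq
      (hU.primeIdealOf ⟨I.subschemeι d, hd⟩).asIdeal.primeCompl b
    rw [IsLocalization.mk'_mem_iff]
    have hs : (I.subschemeι.stalkMap d).hom
        (X.presheaf.germ U.1 (I.subschemeι d) hd s) = 0 := by
      have h1 : IsLocalization.mk' (X.presheaf.stalk (I.subschemeι d)) s t *
          (X.presheaf.germ U.1 (I.subschemeι d) hd) t.1 =
          (X.presheaf.germ U.1 (I.subschemeι d) hd) s :=
        IsLocalization.mk'_spec _ s t
      rw [← h1, map_mul, hb, zero_mul]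
    change (X.presheaf.germ U.1 (I.subschemeι d) hd) s ∈ _
    rw [hgerm] at hs
    letI := I.subscheme.presheaf.algebra_section_stalk ⟨d, hd'⟩
    haveI := hD'.isLocalization_stalk ⟨d, hd'⟩
    obtain ⟨t', ht'⟩ := (IsLocalization.map_eq_zero_iff
      (hD'.primeIdealOf ⟨d, hd'⟩).asIdeal.primeCompl
      (I.subscheme.presheaf.stalk d) ((I.subschemeι.app U.1).hom s)).mp hs
    obtain ⟨t₀, ht₀⟩ := I.subschemeι_app_surjective U t'.1
    have hts : t₀ * s ∈ Ideal.span {h₀} := by
      rw [← hker, RingHom.mem_ker, map_mul]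
      rw [← ht₀] at ht'
      exact ht'
    obtain ⟨c, hc⟩ := Ideal.mem_span_singleton'.mp hts
    have hunit' : IsUnit (I.subscheme.presheaf.germ (I.subschemeι ⁻¹ᵁ U.1) d hd' t'.1) :=
      IsLocalization.map_units (I.subscheme.presheaf.stalk d) t'
    have hunit : IsUnit (X.presheaf.germ U.1 (I.subschemeι d) hd t₀) := by
      apply isUnit_of_map_unit (I.subschemeι.stalkMap d).hom
      rw [hgerm]
      rw [← ht₀] at hunit'
      exact hunit'
    obtain ⟨u, hu⟩ := hunit
    refine Ideal.mem_span_singleton'.mpr ⟨↑u⁻¹ * X.presheaf.germ U.1 (I.subschemeι d) hd c, ?_⟩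
    rw [mul_assoc, ← map_mul, hc, map_mul, ← hu, Units.inv_mul_cancel_left]
  · rw [Ideal.span_le, Set.singleton_subset_iff, SetLike.mem_coe, RingHom.mem_ker, hgerm]
    have : (I.subschemeι.app U.1).hom h₀ = 0 := by
      rw [← RingHom.mem_ker, hker]
      exact Ideal.mem_span_singleton_self h₀
    rw [this, map_zero]


/-- The local ring of an effective Cartier divisor `D` at `d` is the quotient of the local ring of `X`
at `d` by a nonzerodivisor of the maximal ideal. -/
theorem exists_stalk_equiv (hI : BlowUp.IsEffCartierIdeal I) (d : I.subscheme) :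
    ∃ h : X.presheaf.stalk (I.subschemeι d), h ∈ nonZeroDivisors (X.presheaf.stalk (I.subschemeι d)) ∧
      h ∈ IsLocalRing.maximalIdeal (X.presheaf.stalk (I.subschemeι d)) ∧
      Nonempty ((X.presheaf.stalk (I.subschemeι d) ⧸ Ideal.span {h}) ≃+*
        I.subscheme.presheaf.stalk d) := by
  obtain ⟨U, h₀, hxU, -, hnzd, hIU⟩ :=
    Groth.Agent.Lib.Helper25.BlowUpUP.exists_affine_principal_le I hI (I.subschemeι d) ⊤ trivial
  have hψs : Function.Surjective (I.subschemeι.stalkMap d).hom :=
    I.subschemeι.stalkMap_surjective d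
  have hker := ker_stalkMap_subschemeι I U h₀ hIU d hxU
  have hh_nzd : X.presheaf.germ U.1 (I.subschemeι d) hxU h₀ ∈
      nonZeroDivisors (X.presheaf.stalk (I.subschemeι d)) :=
    Groth.Agent.Lib.Helper25.BlowUpUP.germ_mem_nonZeroDivisors_of_isAffineOpen U.2 h₀ hnzd
      (I.subschemeι d) hxU
  have hh0 : (I.subschemeι.stalkMap d).hom (X.presheaf.germ U.1 (I.subschemeι d) hxU h₀) = 0 := by
    rw [← RingHom.mem_ker, hker]
    exact Ideal.mem_span_singleton_self _
  have hh_max : X.presheaf.germ U.1 (I.subschemeι d) hxU h₀ ∈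
      IsLocalRing.maximalIdeal (X.presheaf.stalk (I.subschemeι d)) := by
    rw [IsLocalRing.mem_maximalIdeal, mem_nonunits_iff]
    intro hu
    have h1 : IsUnit ((I.subschemeι.stalkMap d).hom
        (X.presheaf.germ U.1 (I.subschemeι d) hxU h₀)) := hu.map _
    rw [hh0] at h1
    exact not_isUnit_zero h1
  exact ⟨_, hh_nzd, hh_max,
    ⟨(Ideal.quotEquivOfEq hker.symm).trans (RingHom.quotientKerEquivOfSurjective hψs)⟩⟩

end Groth.Agent.Lib.Helper10.RelCartier
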