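import Mathlib
import Groth.Agent.Lib.Helper10.RepAsm1
import Groth.Prelude.Def_AutFam

/-!
# Homomorphisms between quasi-isotrivial groups of multiplicative type: the theorem
-/

set_option autoImplicit false
set_option linter.unusedSectionVars false
set_option linter.style.haveILetI false
set_option backward.isDefEq.respectTransparency.types false
set_option maxHeartbeats 4000000
set_option synthInstance.maxHeartbeats 400000
universe u
open CategoryTheory CategoryTheory.Limits AlgebraicGeometry Opposite MonoidalCategory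
  CartesianMonoidalCategory MonObj GrpObj

namespace Groth.Agent.Lib.Helper10.RepAsm

open Groth.Agent.Lib.Helper10.HomFamBC Groth.Agent.Lib.Helper10.RepDesc
  Groth.Agent.Lib.Helper10.RepLoc Groth.Agent.Lib.Helper10.MultTypeHom

variable {S : Scheme.{u}} (H G : Over S) [GrpObj H] [GrpObj G]

theorem exists_local_rep
    (hH : TwC.Locally S TwC.Topology.etale (fun S' f => ∃ (M : Type) (_ : AddCommGroup M),
      Nonempty (Grp.mk (Red.bc f H) ≅ Grp.mk (Red.DS S' M))))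
    (hG : TwC.Locally S TwC.Topology.etale (fun S' f => ∃ (M : Type) (_ : AddCommGroup M),
      AddGroup.FG M ∧ Nonempty (Grp.mk (Red.bc f G) ≅ Grp.mk (Red.DS S' M)))) (s : S) :
    ∃ (Xs : Scheme.{u}) (c : Xs ⟶ S) (_ : Etale c) (_ : s ∈ Set.range c.base) (I : Type u)
      (Υ : H ⊗ (Over.map c).obj (TwC.const Xs I) ⟶ G), IsHomFam Υ ∧
      ∀ (T : Over Xs) (Φ : H ⊗ (Over.map c).obj T ⟶ G), IsHomFam Φ →
        ∃! a : T ⟶ TwC.const Xs I, (H ◁ (Over.map c).map a) ≫ Υ = Φ := by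
  obtain ⟨S₁, f₁, hf₁, hs₁, M, iM, ⟨φ₁⟩⟩ := hH s
  obtain ⟨S₂, f₂, hf₂, hs₂, N, iN, hN, ⟨φ₂⟩⟩ := hG s
  haveI := hf₁
  haveI := hf₂
  let c : pullback f₁ f₂ ⟶ S := pullback.fst f₁ f₂ ≫ f₁
  have hc : Etale c := inferInstance
  have hsc : s ∈ Set.range c.base := by
    obtain ⟨x₁, hx₁⟩ := hs₁
    obtain ⟨x₂, hx₂⟩ := hs₂
    obtain ⟨z, hz1, -⟩ := Scheme.Pullback.exists_preimage_pullback (f := f₁) (g := f₂) x₁ x₂
      (hx₁.trans hx₂.symm)
    refine ⟨z, ?_⟩
    change (pullback.fst f₁ f₂ ≫ f₁) z = s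
    rw [Scheme.Hom.comp_apply, hz1]
    exact hx₁
  let ψ₁ := trivIso H f₁ (pullback.fst f₁ f₂) c rfl M φ₁
  let ψ₂ := trivIso G f₂ (pullback.snd f₁ f₂) c pullback.condition N φ₂
  obtain ⟨e₁, he₁⟩ := exists_iso_isMonHom ψ₁.symm
  obtain ⟨e₂, he₂⟩ := exists_iso_isMonHom ψ₂.symm
  obtain ⟨υ', hυ', huniv'⟩ := represents_iso e₁ e₂ (υ₀ (pullback f₁ f₂) M N) isHomFam_υ₀
    (existsUnique_classify hN)
  obtain ⟨h1, h2⟩ := locData_of_represents c (A₀ (pullback f₁ f₂) M N) υ' hυ' huniv'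
  exact ⟨_, c, hc, hsc, Idx (pullback f₁ f₂) M N, toS c υ', h1, h2⟩

/-- **Representability of the functor of homomorphisms between quasi-isotrivial groups of
multiplicative type.** -/
theorem exists_rep_multType
    (hH : TwC.Locally S TwC.Topology.etale (fun S' f => ∃ (M : Type) (_ : AddCommGroup M),
      Nonempty (Grp.mk (Red.bc f H) ≅ Grp.mk (Red.DS S' M))))
    (hG : TwC.Locally S TwC.Topology.etale (fun S' f => ∃ (M : Type) (_ : AddCommGroup M),
      AddGroup.FG M ∧ Nonempty (Grp.mk (Red.bc f G) ≅ Grp.mk (Red.DS S' M)))) :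
    ∃ (A : Over S) (υ : H ⊗ A ⟶ G), AutFam.RepresentsHom H G A υ ∧
      TwC.IsTwConst TwC.Topology.etale A := by
  choose X c hc hs I Υ hΥ huniv using exists_local_rep H G hH hG
  let L : LocData H G c := ⟨fun s => TwC.const (X s) (I s), Υ, hΥ, huniv⟩
  obtain ⟨A, υ, hυ, hA, hiso⟩ := exists_rep L
    (etale_family_mem_fpqc c hc (fun s => ⟨s, hs s⟩)) (fun s => isIndQuasiAffineHom_const _ _)
  refine ⟨A, υ, ⟨hυ, hA⟩, ?_⟩
  intro s
  obtain ⟨ε, -⟩ := hiso s
  exact ⟨X s, c s, hc s, hs s, I s, ⟨ε⟩⟩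

end Groth.Agent.Lib.Helper10.RepAsm
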