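import Mathlib
import Groth.Agent.Lib.Helper10.RepGrp2
import Groth.Agent.Lib.Helper10.RepDesc5
import Groth.Prelude.Def_AutFam

/-!
# Characters of a quasi-isotrivial group of multiplicative type: the theorem
-/

set_option autoImplicit false
set_option linter.unusedSectionVars false
set_option linter.style.haveILetI false
set_option backward.isDefEq.respectTransparency.types false
set_option maxHeartbeats 4000000
set_option synthInstance.maxHeartbeats 400000
universe u
open CategoryTheory CategoryTheory.Limits AlgebraicGeometry Opposite MonoidalCategory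
  CartesianMonoidalCategory MonObj GrpObj

namespace Groth.Agent.Lib.Helper10.RepGrp

open Groth.Agent.Lib.Helper10.HomFamBC Groth.Agent.Lib.Helper21.GaPts
  Groth.Agent.Lib.Helper10.RepLoc Groth.Agent.Lib.Helper10.RepAsm
  Groth.Agent.Lib.Helper10.MultTypeHom Groth.Agent.Lib.Helper10.RepDesc

variable {S : Scheme.{u}}

/-- the multiplicative group structure on the index group -/
@[instance_reducible] noncomputable def LocTriv.grpI {H : Over S} [GrpObj H] {s : S} (τ : LocTriv H s) : Group τ.I :=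
  (inferInstance : Group (Multiplicative τ.I))

theorem LocTriv.grpI_mul {H : Over S} [GrpObj H] {s : S} (τ : LocTriv H s) (m n : τ.I) :
    @HMul.hMul τ.I τ.I τ.I (@instHMul τ.I (τ.grpI).toMul) m n = m + n := rfl

/-- **Representability of the character functor of a quasi-isotrivial group of multiplicative
type by a quasi-isotrivial twisted constant group.** -/
theorem exists_char_rep (H : Over S) [GrpObj H]
    (hH : TwC.Locally S TwC.Topology.etale (fun S' f => ∃ (M : Type) (_ : AddCommGroup M),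
      Nonempty (Grp.mk (Red.bc f H) ≅ Grp.mk (Red.DS S' M)))) :
    ∃ (D : Over S) (_ : GrpObj D) (υ : H ⊗ D ⟶ Red.Gm S),
      AutFam.RepresentsHom H (Red.Gm S) D υ ∧
      (∀ (X : Over S) (h : X ⟶ H) (a b : X ⟶ D),
        lift h (a * b) ≫ υ = (lift h a ≫ υ) * (lift h b ≫ υ)) ∧
      TwC.IsTwConstGrp TwC.Topology.etale D := by
  have hτ := nonempty_locTriv H hH
  let τ : ∀ s, LocTriv H s := fun s => (hτ s).some
  let L : LocData H (Red.Gm S) (fun s => (τ s).c) :=
    ⟨fun s => A₀ (τ s).Xs (τ s).M₀ ℤ, fun s => (τ s).Υ, fun s => (τ s).locData.1,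
      fun s => (τ s).locData.2⟩
  obtain ⟨D, υ, hυ, hD, hiso⟩ := exists_rep L
    (etale_family_mem_fpqc (fun s => (τ s).c) (fun s => (τ s).hc) (fun s => ⟨s, (τ s).hs⟩))
    (fun s => isIndQuasiAffineHom_const _ _)
  have hcomm : ∀ (X : Over S) (a b : X ⟶ Red.Gm S), a * b = b * a :=
    fun X a b => ds_comm (S := S) (M := ℤ) X a b
  letI instD : GrpObj D := grpObjRep hcomm D υ hυ hD
  refine ⟨D, instD, υ, ⟨hυ, hD⟩, fun X h a b => lift_mul hcomm D υ hυ hD h a b, ?_⟩
  intro s
  obtain ⟨ε, hε⟩ := hiso s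
  refine ⟨(τ s).Xs, (τ s).c, (τ s).hc, (τ s).hs, (τ s).I, (τ s).grpI, ε, ?_⟩
  intro m n
  apply tr_injective (τ s).c
  rw [tr_mul, tr_comp, tr_comp, tr_comp]
  have hx : ∀ k : (τ s).I, (H ◁ ((Over.map (τ s).c).map (TwC.pt (τ s).Xs (τ s).I k) ≫
      tr (τ s).c ε.inv)) ≫ υ = (τ s).Φ k := by
    intro k
    rw [MonoidalCategory.whiskerLeft_comp, Category.assoc, hε]
    rfl
  have hfam : IsHomFam ((τ s).Φ (m + n)) := ((τ s).locData.1).whisker _
  refine (hD _ _ hfam).unique ?_ ?_
  · rw [whisker_mul hcomm D υ hυ hD, hx, hx, (τ s).Φ_mul]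
  · rw [(τ s).grpI_mul]
    exact hx (m + n)

end Groth.Agent.Lib.Helper10.RepGrp
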