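import Mathlib
import Groth.Agent.Lib.Helper10.RigidAA8
import Groth.Agent.Lib.Helper10.ExtProps1

/-!
# Rigidity for actions on products (part 9)

* `connectedSpace_tensor_grp`: `V × G` is connected for `V` connected, `G` a connected group;
* `indep_of_rigid`: a morphism `p : G × (V × W) ⟶ Z` with `O(W) = k` such that `p(e, v, w)` does
  not depend on `w` does not depend on `w` at all.
-/

set_option autoImplicit false
set_option backward.isDefEq.respectTransparency.types false
set_option maxHeartbeats 4000000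
set_option synthInstance.maxHeartbeats 400000
universe u
open CategoryTheory CategoryTheory.Limits AlgebraicGeometry MonoidalCategory
  CartesianMonoidalCategory MonObj GrpObj

namespace Groth.Agent.Lib.Helper10.RigidAA

open Groth.Agent.Lib.Helper10.HomSp Groth.Agent.Lib.Helper10.FlatPt
  Groth.Agent.Lib.Helper10.Homog Groth.Agent.Lib.Helper10.ExtProps

variable {k : Type u} [Field k]

/-- the product of a connected scheme with a connected group scheme of finite type is connected -/
theorem connectedSpace_tensor_grp (V G : Over (Spec (CommRingCat.of k))) [GrpObj G]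
    [ConnectedSpace G.left] [LocallyOfFiniteType G.hom] [ConnectedSpace V.left] :
    ConnectedSpace (V ⊗ G).left := by
  haveI : LocallyOfFinitePresentation G.hom := by
    haveI : IsLocallyNoetherian (Spec (CommRingCat.of k)) := inferInstance
    infer_instance
  haveI : Surjective G.hom :=
    ⟨fun y => ⟨Classical.arbitrary _, Subsingleton.elim (α := PrimeSpectrum k) _ _⟩⟩
  have e0 : (fst V G).left = pullback.fst V.hom G.hom := Over.fst_left
  haveI : Flat (fst V G).left := by rw [e0]; infer_instance
  haveI : LocallyOfFinitePresentation (fst V G).left := by rw [e0]; infer_instance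
  haveI : Surjective (fst V G).left := by rw [e0]; infer_instance
  have hquot : Topology.IsQuotientMap (fst V G).left :=
    (fst V G).left.isOpenMap.isQuotientMap (fst V G).left.continuous (fst V G).left.surjective
  have hfib : ∀ v : V.left, _root_.IsConnected ((fst V G).left ⁻¹' {v}) := by
    intro v
    let vh : Spec (V.left.residueField v) ⟶ V.left := V.left.fromSpecResidueField v
    let T : Over (Spec (CommRingCat.of k)) := Over.mk (vh ≫ V.hom)
    let vT : T ⟶ V := Over.homMk vh rfl
    have hvT : ∀ t : T.left, vT.left t = v := fun t => Scheme.fromSpecResidueField_apply _ _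
    have sq2 : IsPullback (vT ▷ G).left (fst T G).left (fst V G).left vT.left :=
      (isPullback_whiskerRight_fst vT G).map (Over.forget _)
    have hrange : Set.range (vT ▷ G).left = (fst V G).left ⁻¹' {v} := by
      apply Set.Subset.antisymm
      · rintro _ ⟨z, rfl⟩
        show (fst V G).left ((vT ▷ G).left z) = v
        rw [apply_comp, whiskerRight_fst, ← apply_comp, hvT]
      · intro x hx
        obtain ⟨t₀⟩ : Nonempty T.left := inferInstanceAs (Nonempty (PrimeSpectrum _))
        have hx' : (fst V G).left x = vT.left t₀ := by rw [hvT]; exact hx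
        obtain ⟨z', hz'1, -⟩ := exists_preimage_of_isPullback sq2 x t₀ hx'
        exact ⟨z', hz'1⟩
    haveI : Subsingleton T.left := inferInstanceAs (Subsingleton (PrimeSpectrum _))
    haveI : Nonempty T.left := inferInstanceAs (Nonempty (PrimeSpectrum _))
    haveI := connectedSpace_bc G T.hom
    let e : (Red.bc T.hom G).left ⟶ (T ⊗ G).left := (pullbackSymmetry G.hom T.hom).hom
    haveI : ConnectedSpace (T ⊗ G).left := by
      have hs : Function.Surjective e := by
        intro y
        refine ⟨(pullbackSymmetry G.hom T.hom).inv y, ?_⟩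
        change ((pullbackSymmetry G.hom T.hom).inv ≫ (pullbackSymmetry G.hom T.hom).hom) y = y
        rw [Iso.inv_hom_id]
        rfl
      exact hs.connectedSpace e.continuous
    rw [← hrange]
    exact isConnected_range (vT ▷ G).left.continuous
  have := hquot.isCoinducing.isConnected_preimage_of_isClosed hfib isClosed_univ
    isConnected_univ
  rw [Set.preimage_univ] at this
  exact connectedSpace_iff_univ.mpr this

/-- `G × V` is connected as well -/
theorem connectedSpace_grp_tensor (G V : Over (Spec (CommRingCat.of k))) [GrpObj G]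
    [ConnectedSpace G.left] [LocallyOfFiniteType G.hom] [ConnectedSpace V.left] :
    ConnectedSpace (G ⊗ V).left := by
  haveI := connectedSpace_tensor_grp V G
  have hs : Function.Surjective (β_ V G).hom.left := by
    intro y
    refine ⟨(β_ V G).inv.left y, ?_⟩
    rw [apply_comp, Iso.inv_hom_id]
    rfl
  exact hs.connectedSpace (β_ V G).hom.left.continuous

/-- a morphism `p : G × (V × W) ⟶ Z` with `O(W) = k` such that `p(e, v, w)` does not depend on
`w` does not depend on `w` at all. -/
theorem indep_of_rigid (G V W Z : Over (Spec (CommRingCat.of k))) [GrpObj G]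
    [LocallyOfFiniteType G.hom] [ConnectedSpace G.left]
    [QuasiCompact W.hom] [QuasiSeparated W.hom]
    (hW : Function.Bijective ((Scheme.ΓSpecIso (CommRingCat.of k)).inv ≫ W.hom.appTop).hom)
    (w₀ : 𝟙_ (Over (Spec (CommRingCat.of k))) ⟶ W)
    [LocallyOfFiniteType V.hom] [ConnectedSpace V.left] [IsSeparated Z.hom]
    (p : G ⊗ (V ⊗ W) ⟶ Z) (q₀ : V ⟶ Z)
    (hp : (η[G] ▷ (V ⊗ W)) ≫ p = (λ_ (V ⊗ W)).hom ≫ fst V W ≫ q₀) :
    p = (G ◁ (fst V W ≫ lift (𝟙 V) (toUnit V ≫ w₀))) ≫ p := by
  haveI := connectedSpace_grp_tensor G V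
  haveI : LocallyOfFiniteType (G ⊗ V).hom := by
    rw [← Over.w (snd G V)]
    have e0 : (snd G V).left = pullback.snd G.hom V.hom := Over.snd_left
    rw [e0]
    infer_instance
  haveI : IsLocallyNoetherian (G ⊗ V).left :=
    LocallyOfFiniteType.isLocallyNoetherian (G ⊗ V).hom
  let r : W ⊗ (G ⊗ V) ⟶ G ⊗ (V ⊗ W) :=
    lift (snd W (G ⊗ V) ≫ fst G V) (lift (snd W (G ⊗ V) ≫ snd G V) (fst W (G ⊗ V)))
  let r' : G ⊗ (V ⊗ W) ⟶ W ⊗ (G ⊗ V) :=
    lift (snd G (V ⊗ W) ≫ snd V W) (lift (fst G (V ⊗ W)) (snd G (V ⊗ W) ≫ fst V W))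
  have hr'r : r' ≫ r = 𝟙 _ := by
    apply CartesianMonoidalCategory.hom_ext
    · simp [r, r']
    · apply CartesianMonoidalCategory.hom_ext <;> simp [r, r']
  let t : V ⟶ G ⊗ V := lift (toUnit V ≫ η[G]) (𝟙 V)
  have hgood : Good w₀ (r ≫ p) t := by
    apply good_of_factor w₀ (r ≫ p) t q₀
    have e1 : (W ◁ t) ≫ r = lift (snd W V) (fst W V) ≫ (λ_ (V ⊗ W)).inv ≫ (η[G] ▷ (V ⊗ W)) := by
      apply CartesianMonoidalCategory.hom_ext
      · simp [r, t]
      · apply CartesianMonoidalCategory.hom_ext <;> simp [r, t]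
    rw [← Category.assoc, e1, Category.assoc, Category.assoc, hp, Iso.inv_hom_id_assoc,
      lift_fst_assoc]
  have key := rigidity W (G ⊗ V) Z hW w₀ (r ≫ p) t hgood
  have e2 : r' ≫ snd W (G ⊗ V) = G ◁ fst V W := by
    apply CartesianMonoidalCategory.hom_ext <;> simp [r']
  have e3 : lift (toUnit (G ⊗ V) ≫ w₀) (𝟙 (G ⊗ V)) ≫ r = G ◁ lift (𝟙 V) (toUnit V ≫ w₀) := by
    apply CartesianMonoidalCategory.hom_ext
    · simp [r]
    · apply CartesianMonoidalCategory.hom_ext
      · simp [r]
      · simp [r]
  calc p = r' ≫ r ≫ p := by rw [← Category.assoc, hr'r, Category.id_comp]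
    _ = r' ≫ snd W (G ⊗ V) ≫ lift (toUnit (G ⊗ V) ≫ w₀) (𝟙 (G ⊗ V)) ≫ r ≫ p := by rw [← key]
    _ = (G ◁ (fst V W ≫ lift (𝟙 V) (toUnit V ≫ w₀))) ≫ p := by
      rw [← Category.assoc, e2, ← Category.assoc (lift _ _), e3, ← Category.assoc,
        ← MonoidalCategory.whiskerLeft_comp]

end Groth.Agent.Lib.Helper10.RigidAA
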