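import Mathlib
import Groth.Prelude.Def_AlgGrp
import Groth.Agent.Lib.Helper10.RigidAA9
import Groth.Agent.Lib.Helper10.KPts1

/-!
# Actions of connected groups on products of complete varieties (part 10)
-/

set_option autoImplicit false
set_option backward.isDefEq.respectTransparency.types false
set_option maxHeartbeats 4000000
set_option synthInstance.maxHeartbeats 400000
universe u
open CategoryTheory CategoryTheory.Limits AlgebraicGeometry MonoidalCategory
  CartesianMonoidalCategory MonObj GrpObj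

namespace Groth.Agent.Lib.Helper10.RigidAA

section General

variable {C : Type*} [Category C] [CartesianMonoidalCategory C]

end General

section Act

variable {S : Scheme.{u}} {G P X : Over S} [GrpObj G]

theorem action_ext {b b' : AlgGrp.Action G X} (h : b.act = b'.act) : b = b' := by
  cases b; cases b'
  congr

/-- an action descends along an equivariant split epimorphism -/
noncomputable def actionOfEquivariant (a : AlgGrp.Action G P) (π : P ⟶ X) (s : X ⟶ P)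
    (hs : s ≫ π = 𝟙 X) (b₀ : G ⊗ X ⟶ X) (hb : a.act ≫ π = (G ◁ π) ≫ b₀) :
    AlgGrp.Action G X where
  act := b₀
  one_act := by
    have h1 : b₀ = (G ◁ s) ≫ a.act ≫ π := by
      rw [hb, ← Category.assoc, ← MonoidalCategory.whiskerLeft_comp, hs,
        MonoidalCategory.whiskerLeft_id, Category.id_comp]
    rw [h1, ← Category.assoc, ← whisker_exchange, Category.assoc, reassoc_of% a.one_act,
      ← Category.assoc, leftUnitor_naturality, Category.assoc, hs, Category.comp_id]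
  mul_act := by
    have hepi : ((G ⊗ G) ◁ s) ≫ ((G ⊗ G) ◁ π) = 𝟙 _ := by
      rw [← MonoidalCategory.whiskerLeft_comp, hs, MonoidalCategory.whiskerLeft_id]
    have key : ((G ⊗ G) ◁ π) ≫ (μ[G] ▷ X) ≫ b₀ =
        ((G ⊗ G) ◁ π) ≫ (α_ G G X).hom ≫ (G ◁ b₀) ≫ b₀ := by
      calc ((G ⊗ G) ◁ π) ≫ (μ[G] ▷ X) ≫ b₀
          = (μ[G] ▷ P) ≫ (G ◁ π) ≫ b₀ := by
            rw [← Category.assoc, whisker_exchange, Category.assoc]
        _ = (μ[G] ▷ P) ≫ a.act ≫ π := by rw [hb]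
        _ = (α_ G G P).hom ≫ (G ◁ a.act) ≫ a.act ≫ π := by
            rw [reassoc_of% a.mul_act]
        _ = (α_ G G P).hom ≫ (G ◁ a.act) ≫ (G ◁ π) ≫ b₀ := by rw [hb]
        _ = (α_ G G P).hom ≫ (G ◁ (a.act ≫ π)) ≫ b₀ := by
            rw [MonoidalCategory.whiskerLeft_comp, Category.assoc]
        _ = (α_ G G P).hom ≫ (G ◁ ((G ◁ π) ≫ b₀)) ≫ b₀ := by rw [hb]
        _ = (α_ G G P).hom ≫ (G ◁ (G ◁ π)) ≫ (G ◁ b₀) ≫ b₀ := by
            rw [MonoidalCategory.whiskerLeft_comp, Category.assoc]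
        _ = ((G ⊗ G) ◁ π) ≫ (α_ G G X).hom ≫ (G ◁ b₀) ≫ b₀ := by
            rw [← Category.assoc, ← associator_naturality_right, Category.assoc]
    have := congrArg (fun m => ((G ⊗ G) ◁ s) ≫ m) key
    simp only [reassoc_of% hepi] at this
    exact this

@[simp] theorem actionOfEquivariant_act (a : AlgGrp.Action G P) (π : P ⟶ X) (s : X ⟶ P)
    (hs : s ≫ π = 𝟙 X) (b₀ : G ⊗ X ⟶ X) (hb : a.act ≫ π = (G ◁ π) ≫ b₀) :
    (actionOfEquivariant a π s hs b₀ hb).act = b₀ := rfl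

end Act

section Prod

variable {k : Type u} [Field k]

/-- an action of a connected group on a product `X × Y` with `O(X) = k = O(Y)` (and rational
points) is a product action. -/
theorem exists_product_actions (G X Y : Over (Spec (CommRingCat.of k))) [GrpObj G]
    [LocallyOfFiniteType G.hom] [ConnectedSpace G.left]
    [LocallyOfFiniteType X.hom] [QuasiCompact X.hom] [IsSeparated X.hom] [ConnectedSpace X.left]
    [LocallyOfFiniteType Y.hom] [QuasiCompact Y.hom] [IsSeparated Y.hom] [ConnectedSpace Y.left]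
    (hX : Function.Bijective ((Scheme.ΓSpecIso (CommRingCat.of k)).inv ≫ X.hom.appTop).hom)
    (hY : Function.Bijective ((Scheme.ΓSpecIso (CommRingCat.of k)).inv ≫ Y.hom.appTop).hom)
    (x₀ : 𝟙_ (Over (Spec (CommRingCat.of k))) ⟶ X) (y₀ : 𝟙_ (Over (Spec (CommRingCat.of k))) ⟶ Y)
    (a : AlgGrp.Action G (X ⊗ Y)) :
    ∃ (b : AlgGrp.Action G X) (c : AlgGrp.Action G Y),
      a.act = lift ((G ◁ fst X Y) ≫ b.act) ((G ◁ snd X Y) ≫ c.act) ∧
      ∀ (b' : AlgGrp.Action G X) (c' : AlgGrp.Action G Y),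
        a.act = lift ((G ◁ fst X Y) ≫ b'.act) ((G ◁ snd X Y) ≫ c'.act) → b' = b ∧ c' = c := by
  let sX : X ⟶ X ⊗ Y := lift (𝟙 X) (toUnit X ≫ y₀)
  let sY : Y ⟶ X ⊗ Y := lift (toUnit Y ≫ x₀) (𝟙 Y)
  have hsX : sX ≫ fst X Y = 𝟙 X := lift_fst _ _
  have hsY : sY ≫ snd X Y = 𝟙 Y := lift_snd _ _
  -- first projection
  let p₁ : G ⊗ (X ⊗ Y) ⟶ X := a.act ≫ fst X Y
  have hp₁ : (η[G] ▷ (X ⊗ Y)) ≫ p₁ = (λ_ (X ⊗ Y)).hom ≫ fst X Y ≫ 𝟙 X := by
    show (η[G] ▷ (X ⊗ Y)) ≫ a.act ≫ fst X Y = _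
    rw [reassoc_of% a.one_act, Category.comp_id]
  have h1 := indep_of_rigid G X Y X hY y₀ p₁ (𝟙 X) hp₁
  let b₀ : G ⊗ X ⟶ X := (G ◁ sX) ≫ p₁
  have hb₀ : a.act ≫ fst X Y = (G ◁ fst X Y) ≫ b₀ := by
    show p₁ = (G ◁ fst X Y) ≫ (G ◁ sX) ≫ p₁
    rw [← Category.assoc, ← MonoidalCategory.whiskerLeft_comp]
    exact h1
  -- second projection
  let p₂ : G ⊗ (Y ⊗ X) ⟶ Y := (G ◁ (β_ Y X).hom) ≫ a.act ≫ snd X Y
  have hp₂ : (η[G] ▷ (Y ⊗ X)) ≫ p₂ = (λ_ (Y ⊗ X)).hom ≫ fst Y X ≫ 𝟙 Y := by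
    show (η[G] ▷ (Y ⊗ X)) ≫ (G ◁ (β_ Y X).hom) ≫ a.act ≫ snd X Y = _
    rw [← Category.assoc, ← whisker_exchange, Category.assoc, reassoc_of% a.one_act,
      ← Category.assoc, leftUnitor_naturality, Category.assoc, Category.comp_id]
    congr 1
    simp
  have h2 := indep_of_rigid G Y X Y hX x₀ p₂ (𝟙 Y) hp₂
  let sY' : Y ⟶ Y ⊗ X := lift (𝟙 Y) (toUnit Y ≫ x₀)
  let c₀ : G ⊗ Y ⟶ Y := (G ◁ sY') ≫ p₂
  have hc₀ : a.act ≫ snd X Y = (G ◁ snd X Y) ≫ c₀ := by
    have e1 : a.act ≫ snd X Y = (G ◁ (β_ X Y).hom) ≫ p₂ := by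
      show _ = (G ◁ (β_ X Y).hom) ≫ (G ◁ (β_ Y X).hom) ≫ a.act ≫ snd X Y
      rw [← Category.assoc, ← MonoidalCategory.whiskerLeft_comp]
      have : (β_ X Y).hom ≫ (β_ Y X).hom = 𝟙 _ := by simp
      rw [this, MonoidalCategory.whiskerLeft_id, Category.id_comp]
    rw [e1, h2]
    show (G ◁ (β_ X Y).hom) ≫ (G ◁ (fst Y X ≫ sY')) ≫ p₂ = (G ◁ snd X Y) ≫ (G ◁ sY') ≫ p₂
    rw [← Category.assoc, ← MonoidalCategory.whiskerLeft_comp, ← Category.assoc (G ◁ snd X Y),
      ← MonoidalCategory.whiskerLeft_comp]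
    congr 2
    rw [← Category.assoc]
    congr 1
    simp
  let b : AlgGrp.Action G X := actionOfEquivariant a (fst X Y) sX hsX b₀ hb₀
  let c : AlgGrp.Action G Y := actionOfEquivariant a (snd X Y) sY hsY c₀ hc₀
  refine ⟨b, c, ?_, ?_⟩
  · apply CartesianMonoidalCategory.hom_ext
    · rw [lift_fst]
      exact hb₀
    · rw [lift_snd]
      exact hc₀
  · intro b' c' h'
    constructor
    · apply action_ext
      show b'.act = b₀
      have e1 : (G ◁ fst X Y) ≫ b'.act = (G ◁ fst X Y) ≫ b₀ := by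
        rw [← hb₀, h', lift_fst]
      have := congrArg (fun m => (G ◁ sX) ≫ m) e1
      simp only [← Category.assoc, ← MonoidalCategory.whiskerLeft_comp, hsX,
        MonoidalCategory.whiskerLeft_id, Category.id_comp] at this
      exact this
    · apply action_ext
      show c'.act = c₀
      have e1 : (G ◁ snd X Y) ≫ c'.act = (G ◁ snd X Y) ≫ c₀ := by
        rw [← hc₀, h', lift_snd]
      have := congrArg (fun m => (G ◁ sY) ≫ m) e1
      simp only [← Category.assoc, ← MonoidalCategory.whiskerLeft_comp, hsY,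
        MonoidalCategory.whiskerLeft_id, Category.id_comp] at this
      exact this

end Prod

end Groth.Agent.Lib.Helper10.RigidAA
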