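import Mathlib
import Groth.Agent.Lib.Helper10.RigidAA1

/-!
# Morphisms from a scheme with `O(X) = k` to an affine scheme are constant (part 12)
-/

set_option autoImplicit false
set_option backward.isDefEq.respectTransparency.types false
set_option maxHeartbeats 4000000
set_option synthInstance.maxHeartbeats 400000
universe u
open CategoryTheory CategoryTheory.Limits AlgebraicGeometry MonoidalCategory
  CartesianMonoidalCategory MonObj GrpObj

namespace Groth.Agent.Lib.Helper10.RigidAA

variable {k : Type u} [Field k]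

theorem eq_toUnit_comp_of_affine (X N : Over (Spec (CommRingCat.of k)))
    (hX : Function.Bijective ((Scheme.ΓSpecIso (CommRingCat.of k)).inv ≫ X.hom.appTop).hom)
    (x₀ : 𝟙_ (Over (Spec (CommRingCat.of k))) ⟶ X) [IsAffine N.left] (ψ : X ⟶ N) :
    ψ = toUnit X ≫ x₀ ≫ ψ := by
  haveI : IsIso X.hom.appTop := by
    have h2 : IsIso ((Scheme.ΓSpecIso (CommRingCat.of k)).inv ≫ X.hom.appTop) := by
      rw [ConcreteCategory.isIso_iff_bijective]
      exact hX
    exact (isIso_comp_left_iff _ _).mp h2
  obtain ⟨g, hg⟩ := exists_factor_of_isIso_appTop X.hom ψ.left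
  have hx₀ : x₀.left ≫ X.hom = 𝟙 _ := Over.w x₀
  ext1
  rw [Over.comp_left, Over.comp_left, Over.toUnit_left, hg, reassoc_of% hx₀]

end Groth.Agent.Lib.Helper10.RigidAA
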