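import Mathlib
import Groth.Agent.Lib.Helper10.RigidAA4
import Groth.Agent.Lib.Helper25.ClosedDescent

/-!
# Permanence of `O(X) = k` (part 5)

* `bijective_of_injective`: if `p : X ⟶ Y` is injective on global functions and `O(X) = k` then
  `O(Y) = k`;
* `isIso_snd_appTop'`: Künneth for a quasi-compact quasi-separated second factor;
* `bijective_tensor`: `O(X) = k`, `O(Y) = k` imply `O(X × Y) = k`.
-/

set_option autoImplicit false
set_option backward.isDefEq.respectTransparency.types false
set_option maxHeartbeats 4000000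
set_option synthInstance.maxHeartbeats 400000
universe u
open CategoryTheory CategoryTheory.Limits AlgebraicGeometry MonoidalCategory
  CartesianMonoidalCategory MonObj GrpObj

namespace Groth.Agent.Lib.Helper10.RigidAA

variable {k : Type u} [Field k]

theorem bijective_of_injective {X Y : Over (Spec (CommRingCat.of k))} (p : X ⟶ Y)
    (hinj : Function.Injective p.left.appTop.hom)
    (hX : Function.Bijective ((Scheme.ΓSpecIso (CommRingCat.of k)).inv ≫ X.hom.appTop).hom) :
    Function.Bijective ((Scheme.ΓSpecIso (CommRingCat.of k)).inv ≫ Y.hom.appTop).hom := by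
  have h1 : (Scheme.ΓSpecIso (CommRingCat.of k)).inv ≫ X.hom.appTop =
      ((Scheme.ΓSpecIso (CommRingCat.of k)).inv ≫ Y.hom.appTop) ≫ p.left.appTop := by
    rw [Category.assoc, ← Scheme.Hom.comp_appTop, Over.w p]
  rw [h1] at hX
  constructor
  · intro a b hab
    apply hX.injective
    simp only [CommRingCat.hom_comp, RingHom.coe_comp, Function.comp_apply] at hab ⊢
    rw [hab]
  · intro y
    obtain ⟨c, hc⟩ := hX.surjective (p.left.appTop.hom y)
    refine ⟨c, hinj ?_⟩
    rw [← hc]
    rfl

theorem bijective_of_dominant {X Y : Over (Spec (CommRingCat.of k))} (p : X ⟶ Y)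
    [IsSchemeTheoreticallyDominant p.left] [QuasiCompact p.left]
    (hX : Function.Bijective ((Scheme.ΓSpecIso (CommRingCat.of k)).inv ≫ X.hom.appTop).hom) :
    Function.Bijective ((Scheme.ΓSpecIso (CommRingCat.of k)).inv ≫ Y.hom.appTop).hom :=
  bijective_of_injective p (p.left.app_injective ⊤) hX

/-- **Künneth** for `O(X) = k` and a quasi-compact quasi-separated second factor. -/
theorem isIso_snd_appTop' (X T : Over (Spec (CommRingCat.of k))) [QuasiCompact X.hom]
    [QuasiSeparated X.hom]
    (hX : Function.Bijective ((Scheme.ΓSpecIso (CommRingCat.of k)).inv ≫ X.hom.appTop).hom)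
    [QuasiCompact T.hom] [QuasiSeparated T.hom] : IsIso (snd X T).left.appTop := by
  have H := IsPullback.of_hasPullback X.hom T.hom
  haveI : CompactSpace ↥X.left := QuasiCompact.compactSpace_of_compactSpace X.hom
  haveI : QuasiSeparatedSpace ↥X.left := quasiSeparatedSpace_of_quasiSeparated X.hom
  haveI : CompactSpace ↥T.left := QuasiCompact.compactSpace_of_compactSpace T.hom
  haveI : QuasiSeparatedSpace ↥T.left := quasiSeparatedSpace_of_quasiSeparated T.hom
  haveI : IsIso X.hom.appTop := by
    have h2 : IsIso ((Scheme.ΓSpecIso (CommRingCat.of k)).inv ≫ X.hom.appTop) := by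
      rw [ConcreteCategory.isIso_iff_bijective]
      exact hX
    exact (isIso_comp_left_iff _ _).mp h2
  haveI hiso : IsIso (X.hom.appLE ⊤ ⊤ le_top) := by
    show IsIso (X.hom.appLE ⊤ (X.hom ⁻¹ᵁ ⊤) le_rfl)
    rw [← Scheme.Hom.app_eq_appLE]
    exact ‹IsIso X.hom.appTop›
  have hflat : (X.hom.appLE ⊤ ⊤ le_top).hom.Flat :=
    RingHom.Flat.of_bijective ((ConcreteCategory.isIso_iff_bijective _).mp hiso)
  have h1 := isIso_pushoutSection_of_isCompact_of_flat_right_of_ringHomFlat H
    (US := ⊤) (UT := ⊤) (UX := ⊤) (UY := ⊤) le_top le_top (by simp)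
    (isAffineOpen_top _) isCompact_univ isQuasiSeparated_univ isCompact_univ
    isQuasiSeparated_univ hflat
  rw [isIso_pushoutSection_iff] at h1
  have h3 := h1.isIso_inr_of_isIso
  have h4 : (snd X T).left.appTop = (pullback.snd X.hom T.hom).appLE ⊤ ⊤ (by simp) := by
    show (pullback.snd X.hom T.hom).app ⊤ =
      (pullback.snd X.hom T.hom).appLE ⊤ ((pullback.snd X.hom T.hom) ⁻¹ᵁ ⊤) le_rfl
    rw [← Scheme.Hom.app_eq_appLE]
  rw [h4]
  exact h3

theorem bijective_tensor (X T : Over (Spec (CommRingCat.of k))) [QuasiCompact X.hom]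
    [QuasiSeparated X.hom]
    (hX : Function.Bijective ((Scheme.ΓSpecIso (CommRingCat.of k)).inv ≫ X.hom.appTop).hom)
    [QuasiCompact T.hom] [QuasiSeparated T.hom]
    (hT : Function.Bijective ((Scheme.ΓSpecIso (CommRingCat.of k)).inv ≫ T.hom.appTop).hom) :
    Function.Bijective ((Scheme.ΓSpecIso (CommRingCat.of k)).inv ≫ (X ⊗ T).hom.appTop).hom := by
  haveI := isIso_snd_appTop' X T hX
  have h1 : (Scheme.ΓSpecIso (CommRingCat.of k)).inv ≫ (X ⊗ T).hom.appTop =
      ((Scheme.ΓSpecIso (CommRingCat.of k)).inv ≫ T.hom.appTop) ≫ (snd X T).left.appTop := by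
    rw [Category.assoc, ← Scheme.Hom.comp_appTop, Over.w (snd X T)]
  rw [h1]
  have h2 : Function.Bijective (snd X T).left.appTop.hom :=
    (ConcreteCategory.isIso_iff_bijective _).mp inferInstance
  simp only [CommRingCat.hom_comp, RingHom.coe_comp]
  exact h2.comp hT

end Groth.Agent.Lib.Helper10.RigidAA

namespace Groth.Agent.Lib.Helper10.RigidAA

variable {k : Type u} [Field k]

theorem bijective_of_section {X Y : Over (Spec (CommRingCat.of k))} (p : X ⟶ Y) (s : Y ⟶ X)
    (hs : s ≫ p = 𝟙 Y)
    (hX : Function.Bijective ((Scheme.ΓSpecIso (CommRingCat.of k)).inv ≫ X.hom.appTop).hom) :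
    Function.Bijective ((Scheme.ΓSpecIso (CommRingCat.of k)).inv ≫ Y.hom.appTop).hom := by
  refine bijective_of_injective p ?_ hX
  have h1 : p.left.appTop ≫ s.left.appTop = 𝟙 _ := by
    rw [← Scheme.Hom.comp_appTop, ← Over.comp_left, hs, Over.id_left, Scheme.Hom.id_appTop]
  intro a b hab
  have := congrArg s.left.appTop.hom hab
  rw [← CommRingCat.comp_apply, ← CommRingCat.comp_apply, h1] at this
  exact this

end Groth.Agent.Lib.Helper10.RigidAA
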