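import Mathlib
import Groth.Agent.Lib.Helper10.RigidAA5
import Groth.Agent.Lib.Helper10.FppfQuot1

/-!
# Extensions of anti-affine groups (part 6)
-/

set_option autoImplicit false
set_option backward.isDefEq.respectTransparency.types false
set_option maxHeartbeats 4000000
set_option synthInstance.maxHeartbeats 400000
universe u
open CategoryTheory CategoryTheory.Limits AlgebraicGeometry MonoidalCategory
  CartesianMonoidalCategory MonObj GrpObj

namespace Groth.Agent.Lib.Helper10.RigidAA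

/-- if the two projections of the kernel pair of an effective epimorphism `q` agree on global
functions, then `q` is surjective on global functions. -/
theorem appTop_surjective_of_effectiveEpi {P X Y : Scheme.{u}} (a b : P ⟶ X) (q : X ⟶ Y)
    (sq : IsPullback a b q q) [EffectiveEpi q] (h : a.appTop = b.appTop) :
    Function.Surjective q.appTop.hom := by
  have hd : ∀ {Z : Scheme.{u}} (g₁ g₂ : Z ⟶ X), g₁ ≫ q = g₂ ≫ q →
      g₁ ≫ X.toSpecΓ = g₂ ≫ X.toSpecΓ := by
    intro Z g₁ g₂ hg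
    have e1 : sq.lift g₁ g₂ hg ≫ a = g₁ := sq.lift_fst _ _ _
    have e2 : sq.lift g₁ g₂ hg ≫ b = g₂ := sq.lift_snd _ _ _
    calc g₁ ≫ X.toSpecΓ = (sq.lift g₁ g₂ hg ≫ a) ≫ X.toSpecΓ := by rw [e1]
      _ = (sq.lift g₁ g₂ hg ≫ b) ≫ X.toSpecΓ := by
        rw [Category.assoc, Category.assoc, Scheme.toSpecΓ_naturality,
          Scheme.toSpecΓ_naturality, h]
      _ = g₂ ≫ X.toSpecΓ := by rw [e2]
  let d' := EffectiveEpi.desc q X.toSpecΓ hd
  have hd' : q ≫ d' = X.toSpecΓ := EffectiveEpi.fac q X.toSpecΓ hd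
  have h1 : d'.appTop ≫ q.appTop = (Scheme.ΓSpecIso Γ(X, ⊤)).hom := by
    rw [← Scheme.Hom.comp_appTop, hd', Scheme.toSpecΓ_appTop]
  intro φ
  refine ⟨d'.appTop.hom ((Scheme.ΓSpecIso Γ(X, ⊤)).inv.hom φ), ?_⟩
  rw [← CommRingCat.comp_apply, h1, ← CommRingCat.comp_apply, Iso.inv_hom_id]
  rfl

variable {k : Type u} [Field k]

/-- an extension of anti-affine groups is anti-affine. -/
theorem bijective_of_extension (G₁ G G₂ : Over (Spec (CommRingCat.of k))) [GrpObj G₁]
    [QuasiCompact G₁.hom] [QuasiSeparated G₁.hom]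
    [GrpObj G] [QuasiCompact G.hom] [QuasiSeparated G.hom] [GrpObj G₂] [QuasiSeparated G₂.hom]
    (i : G₁ ⟶ G) [IsMonHom i] (q : G ⟶ G₂) [IsMonHom q] [Surjective q.left] [Flat q.left]
    (hex : IsPullback i (toUnit G₁) q η[G₂])
    (h1 : Function.Bijective ((Scheme.ΓSpecIso (CommRingCat.of k)).inv ≫ G₁.hom.appTop).hom)
    (h2 : Function.Bijective ((Scheme.ΓSpecIso (CommRingCat.of k)).inv ≫ G₂.hom.appTop).hom) :
    Function.Bijective ((Scheme.ΓSpecIso (CommRingCat.of k)).inv ≫ G.hom.appTop).hom := by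
  have sq : IsPullback (fst G G₁) ((G ◁ i) ≫ μ[G]) q q := FppfQuot.isPullback_of_kernel i q hex
  have sq' : IsPullback (fst G G₁).left ((G ◁ i) ≫ μ[G]).left q.left q.left :=
    sq.map (Over.forget _)
  haveI : QuasiCompact q.left := by
    haveI : QuasiCompact (q.left ≫ G₂.hom) := by rw [Over.w]; infer_instance
    exact QuasiCompact.of_comp q.left G₂.hom
  haveI : EffectiveEpi q.left := inferInstance
  -- Künneth: functions on `G × G₁` are functions on `G`
  haveI hiso : IsIso (fst G G₁).left.appTop := by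
    have e : fst G G₁ = (β_ G G₁).hom ≫ snd G₁ G := by simp
    haveI := isIso_snd_appTop' G₁ G h1
    haveI : IsIso (β_ G G₁).hom.left :=
      inferInstanceAs (IsIso ((Over.forget _).map (β_ G G₁).hom))
    haveI : IsIso (β_ G G₁).hom.left.appTop := by
      show IsIso ((β_ G G₁).hom.left.app ⊤)
      infer_instance
    rw [e, Over.comp_left, Scheme.Hom.comp_appTop]
    exact IsIso.comp_isIso
  let σ : G ⟶ G ⊗ G₁ := lift (𝟙 G) (toUnit G ≫ η[G₁])
  have hσ1 : σ ≫ fst G G₁ = 𝟙 G := lift_fst _ _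
  have hσ2 : σ ≫ (G ◁ i) ≫ μ[G] = 𝟙 G := by
    show lift (𝟙 G) (toUnit G ≫ η[G₁]) ≫ (G ◁ i) ≫ μ[G] = 𝟙 G
    rw [← Category.assoc]
    have : lift (𝟙 G) (toUnit G ≫ η[G₁]) ≫ (G ◁ i) = lift (𝟙 G) (toUnit G ≫ η[G]) := by
      apply CartesianMonoidalCategory.hom_ext
      · rw [Category.assoc, whiskerLeft_fst, lift_fst, lift_fst]
      · rw [Category.assoc, whiskerLeft_snd, lift_snd_assoc, lift_snd, Category.assoc,
          IsMonHom.one_hom]
    rw [this, MonObj.lift_comp_one_right]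
  have e1 : (fst G G₁).left.appTop ≫ σ.left.appTop = 𝟙 _ := by
    rw [← Scheme.Hom.comp_appTop, ← Over.comp_left, hσ1, Over.id_left, Scheme.Hom.id_appTop]
  have e2 : ((G ◁ i) ≫ μ[G]).left.appTop ≫ σ.left.appTop = 𝟙 _ := by
    rw [← Scheme.Hom.comp_appTop, ← Over.comp_left, hσ2, Over.id_left, Scheme.Hom.id_appTop]
  have e3 : σ.left.appTop = inv (fst G G₁).left.appTop := by
    rw [← cancel_epi (fst G G₁).left.appTop, e1, IsIso.hom_inv_id]
  have e4 : (fst G G₁).left.appTop = ((G ◁ i) ≫ μ[G]).left.appTop := by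
    rw [e3] at e2
    rw [← cancel_mono (inv (fst G G₁).left.appTop), e2, IsIso.hom_inv_id]
  have hsurj := appTop_surjective_of_effectiveEpi _ _ _ sq' e4
  have hcomp : (Scheme.ΓSpecIso (CommRingCat.of k)).inv ≫ G.hom.appTop =
      ((Scheme.ΓSpecIso (CommRingCat.of k)).inv ≫ G₂.hom.appTop) ≫ q.left.appTop := by
    rw [Category.assoc, ← Scheme.Hom.comp_appTop, Over.w q]
  constructor
  · rw [hcomp]
    simp only [CommRingCat.hom_comp, RingHom.coe_comp]
    exact (Groth.Agent.Lib.Helper25.ClosedDescent.app_injective_of_flat_of_surjective q.left ⊤).comp h2.injective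
  · rw [hcomp]
    simp only [CommRingCat.hom_comp, RingHom.coe_comp]
    exact hsurj.comp h2.surjective

end Groth.Agent.Lib.Helper10.RigidAA
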