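import Mathlib
import Groth.Prelude.Def_SGA3x
import Groth.Prelude.Def_AlgGrp
import Groth.Agent.Lib.Helper10.Rigidity

/-!
# Consequences of rigidity: groups of multiplicative type are commutative; extensions of a group
with connected fibres by a group of multiplicative type are central
-/

set_option autoImplicit false
set_option backward.isDefEq.respectTransparency.types false
set_option maxHeartbeats 4000000
set_option synthInstance.maxHeartbeats 400000
universe u
open CategoryTheory CategoryTheory.Limits AlgebraicGeometry MonoidalCategory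
  CartesianMonoidalCategory MonObj GrpObj

namespace Groth.Agent.Lib.Helper10.RigidityExt

open Groth.Agent.Lib.Helper21.GaPts Groth.Agent.Lib.Helper10.GroupLikeIdem
  Groth.Agent.Lib.Helper10.DiagHom Groth.Agent.Lib.Helper10.HomFamBC
  Groth.Agent.Lib.Helper10.FpqcLocus Groth.Agent.Lib.Helper10.MultTypeHom
  Groth.Agent.Lib.Helper10.MultTypeLocus Groth.Agent.Lib.Helper10.TrivAct
  Groth.Agent.Lib.Helper10.DiagAdditive Groth.Agent.Lib.Helper10.DiagHomProps
  Groth.Agent.Lib.Helper10.Rigidity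

/-- **the points of a group of multiplicative type commute.** -/
theorem comm_of_isMultTypeFT {S : Scheme.{u}} (H : Over S) [GrpObj H] (hH : SGA3x.IsMultTypeFT H)
    (X : Over S) (a b : X ⟶ H) : a * b = b * a := by
  obtain ⟨S', cov, hfl, hsurj, hfpqc, hloc⟩ := hH
  haveI := hfl
  have hL := isLocalBC_eqOn (μ[H]) (lift (snd H H) (fst H H) ≫ μ[H])
  suffices h : EqOn (μ[H]) (lift (snd H H) (fst H H) ≫ μ[H]) (𝟙 S) by
    have h1 := h X X.hom (Category.comp_id _) (lift a b)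
    rw [← Category.assoc, comp_lift, lift_snd, lift_fst] at h1
    rw [Hom.mul_def, Hom.mul_def]
    exact h1
  refine of_fpqc_cover hL cov hfpqc (fun t => ?_)
  obtain ⟨U, htU, M, _, -, ⟨φ'⟩⟩ := hloc t
  refine ⟨U, htU, ?_⟩
  obtain ⟨e, he1, he2⟩ := exists_iso_isMonHom' φ'
  haveI := he1
  haveI := he2
  intro Y₁
  obtain ⟨Yl, ⟨⟨⟩⟩, Yh⟩ := Y₁
  intro (q : Yl ⟶ U.toScheme) (hq : q ≫ U.ι ≫ cov = Yh) x
  subst hq
  let g := U.ι ≫ cov
  let Y' : Over U.toScheme := Over.mk q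
  let a' : (Over.map g).obj Y' ⟶ H := x ≫ fst _ _
  let b' : (Over.map g).obj Y' ⟶ H := x ≫ snd _ _
  have hab : a' * b' = b' * a' := by
    have h1 : trInv g a' * trInv g b' = trInv g b' * trInv g a' := by
      rw [← cancel_mono e.hom, MonObj.mul_comp _ _ e.hom, MonObj.mul_comp _ _ e.hom]
      apply dsFn_injective
      intro m
      rw [dsFn_mul, dsFn_mul, mul_comm]
    have h2 := congrArg (tr g) h1
    rw [tr_mul, tr_mul, tr_trInv, tr_trInv] at h2
    exact h2
  calc x ≫ μ[H] = lift a' b' ≫ μ[H] := by rw [lift_comp_fst_snd]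
    _ = a' * b' := (Hom.mul_def _ _).symm
    _ = b' * a' := hab
    _ = lift b' a' ≫ μ[H] := Hom.mul_def _ _
    _ = x ≫ lift (snd H H) (fst H H) ≫ μ[H] := by rw [← Category.assoc, comp_lift]

/-- the scheme-theoretic fibre is preconnected if the topological fibre is. -/
theorem preconnected_fibre {X S : Scheme.{u}} (f : X ⟶ S) (s : S)
    (h : _root_.IsPreconnected (f.base ⁻¹' {s})) :
    PreconnectedSpace ↥(pullback f (S.fromSpecResidueField s)) := by
  haveI : PreconnectedSpace ↥(f.base ⁻¹' {s}) := isPreconnected_iff_preconnectedSpace.mp h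
  exact (f.fiberHomeo s).symm.surjective.denseRange.preconnectedSpace
    (f.fiberHomeo s).symm.continuous

/-- **an extension of a group with connected fibres by a group of multiplicative type is
central.** -/
theorem central_of_extension {S : Scheme.{u}} (E H U : Over S) [GrpObj E] [GrpObj H] [GrpObj U]
    (p : E ⟶ U) [IsMonHom p] [Surjective p.left] [Flat p.left] [QuasiCompact p.left]
    (i : H ⟶ E) [IsMonHom i] (hker : AlgGrp.IsKernel i p) (hH : SGA3x.IsMultTypeFT H)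
    (hU : ∀ s : S, PreconnectedSpace ↥(pullback U.hom (S.fromSpecResidueField s))) :
    ∀ (X : Over S) (h : X ⟶ H) (e : X ⟶ E), (h ≫ i) * e = e * (h ≫ i) := by
  have hcomm := comm_of_isMultTypeFT H hH
  haveI : Mono i := by
    refine ⟨fun a b hab => ?_⟩
    exact hker.hom_ext hab (toUnit_unique _ _)
  have hlift : ∀ (X : Over S) (n : X ⟶ E), n ≫ p = 1 → ∃ n' : X ⟶ H, n' ≫ i = n := by
    intro X n hn
    exact ⟨hker.lift n (toUnit X) (by rw [hn, Hom.one_def]), hker.lift_fst _ _ _⟩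
  have hip : ∀ (X : Over S) (h : X ⟶ H), (h ≫ i) ≫ p = 1 := by
    intro X h
    rw [Category.assoc, hker.w, ← Category.assoc, Hom.one_def]
    congr 1
    exact toUnit_unique _ _
  have hnorm : ∀ (X : Over S) (e : X ⟶ E) (h : X ⟶ H),
      ∃ h' : X ⟶ H, h' ≫ i = e * (h ≫ i) * e⁻¹ := by
    intro X e h
    apply hlift
    rw [MonObj.mul_comp, MonObj.mul_comp, GrpObj.inv_comp, hip]
    group
  obtain ⟨ΦE, hΦE⟩ := hnorm (H ⊗ E) (snd H E) (fst H E)
  have keyE : ∀ (X : Over S) (h : X ⟶ H) (e : X ⟶ E),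
      (lift h e ≫ ΦE) ≫ i = e * (h ≫ i) * e⁻¹ := by
    intro X h e
    rw [Category.assoc, hΦE, MonObj.comp_mul, MonObj.comp_mul, GrpObj.comp_inv, lift_snd,
      ← Category.assoc, lift_fst]
  -- descent of `ΦE` to `H ⊗ U`
  let π : H ⊗ E ⟶ H ⊗ U := H ◁ p
  have hπl : π.left = pullback.map H.hom E.hom H.hom U.hom (𝟙 _) p.left (𝟙 _)
      (by simp) (by simp) := rfl
  haveI : Flat π.left := by
    rw [hπl]
    exact MorphismProperty.pullbackMap (P := @Flat) (inferInstance : Flat (𝟙 H.left))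
      (inferInstance : Flat p.left) (Category.id_comp _).symm (Over.w p).symm
  haveI : Surjective π.left := by
    rw [hπl]
    exact MorphismProperty.pullbackMap (P := @Surjective)
      (inferInstance : Surjective (𝟙 H.left))
      (inferInstance : Surjective p.left) (Category.id_comp _).symm (Over.w p).symm
  haveI : QuasiCompact π.left := by
    rw [hπl]
    exact MorphismProperty.pullbackMap (P := @QuasiCompact)
      (inferInstance : QuasiCompact (𝟙 H.left))
      (inferInstance : QuasiCompact p.left) (Category.id_comp _).symm (Over.w p).symm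
  have hdesc : ∀ {Z : Scheme.{u}} (g₁ g₂ : Z ⟶ (H ⊗ E).left),
      g₁ ≫ π.left = g₂ ≫ π.left → g₁ ≫ ΦE.left = g₂ ≫ ΦE.left := by
    intro Z g₁ g₂ hg
    let Z' : Over S := Over.mk (g₁ ≫ (H ⊗ E).hom)
    let g₁' : Z' ⟶ H ⊗ E := Over.homMk g₁ rfl
    have hg₂ : g₂ ≫ (H ⊗ E).hom = g₁ ≫ (H ⊗ E).hom := by
      have hw : π.left ≫ (H ⊗ U).hom = (H ⊗ E).hom := Over.w π
      rw [← hw, ← Category.assoc, ← hg, Category.assoc]
    let g₂' : Z' ⟶ H ⊗ E := Over.homMk g₂ hg₂
    have hg' : g₁' ≫ π = g₂' ≫ π := Over.OverMorphism.ext hg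
    obtain ⟨h₁, hh₁⟩ : ∃ h₁ : Z' ⟶ H, h₁ = g₁' ≫ fst H E := ⟨_, rfl⟩
    obtain ⟨e₁, he₁⟩ : ∃ e₁ : Z' ⟶ E, e₁ = g₁' ≫ snd H E := ⟨_, rfl⟩
    obtain ⟨e₂, he₂⟩ : ∃ e₂ : Z' ⟶ E, e₂ = g₂' ≫ snd H E := ⟨_, rfl⟩
    have hfst : h₁ = g₂' ≫ fst H E := by
      have h1 := congrArg (fun f => f ≫ fst H U) hg'
      simp only [π, Category.assoc, whiskerLeft_fst] at h1
      rw [hh₁, h1]
    have hsnd : e₁ ≫ p = e₂ ≫ p := by
      have h1 := congrArg (fun f => f ≫ snd H U) hg'
      simp only [π, Category.assoc, whiskerLeft_snd] at h1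
      rw [he₁, he₂, Category.assoc, Category.assoc, h1]
    have a1 : g₁' = lift h₁ e₁ := by rw [hh₁, he₁, lift_comp_fst_snd]
    have a2 : g₂' = lift h₁ e₂ := by rw [hfst, he₂, lift_comp_fst_snd]
    obtain ⟨n', hn'⟩ := hlift Z' (e₁⁻¹ * e₂) (by
      rw [MonObj.mul_comp, GrpObj.inv_comp, hsnd]
      group)
    have he₂' : e₂ = e₁ * (n' ≫ i) := by
      rw [hn']
      group
    have h3 : g₁' ≫ ΦE = g₂' ≫ ΦE := by
      rw [← cancel_mono i, a1, a2, keyE, keyE, he₂']
      have hc : (n' ≫ i) * (h₁ ≫ i) = (h₁ ≫ i) * (n' ≫ i) := by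
        rw [← MonObj.mul_comp, ← MonObj.mul_comp, hcomm]
      calc e₁ * (h₁ ≫ i) * e₁⁻¹
          = e₁ * ((h₁ ≫ i) * (n' ≫ i)) * (n' ≫ i)⁻¹ * e₁⁻¹ := by group
        _ = e₁ * ((n' ≫ i) * (h₁ ≫ i)) * (n' ≫ i)⁻¹ * e₁⁻¹ := by rw [hc]
        _ = e₁ * (n' ≫ i) * (h₁ ≫ i) * (e₁ * (n' ≫ i))⁻¹ := by group
    exact congrArg (fun f => f.left) h3
  let ΦUl : (H ⊗ U).left ⟶ H.left := EffectiveEpi.desc π.left ΦE.left hdesc
  have hfac : π.left ≫ ΦUl = ΦE.left := EffectiveEpi.fac π.left ΦE.left hdesc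
  haveI : Epi π.left := Flat.epi_of_flat_of_surjective π.left
  have hw : ΦUl ≫ H.hom = (H ⊗ U).hom := by
    rw [← cancel_epi π.left, ← Category.assoc, hfac, Over.w ΦE, Over.w π]
  let ΦU : H ⊗ U ⟶ H := Over.homMk ΦUl hw
  have hπΦ : π ≫ ΦU = ΦE := Over.OverMorphism.ext hfac
  have hcover : ∀ (X : Over S) (t : X ⟶ U), ∃ (X' : Over S) (pr : X' ⟶ X) (t' : X' ⟶ E),
      Epi pr ∧ pr ≫ t = t' ≫ p := by
    intro X t
    let prl := pullback.fst t.left p.left
    haveI : Epi prl := Flat.epi_of_flat_of_surjective prl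
    let X' : Over S := Over.mk (prl ≫ X.hom)
    let pr : X' ⟶ X := Over.homMk prl rfl
    have hw' : pullback.snd t.left p.left ≫ E.hom = prl ≫ X.hom := by
      rw [← Over.w p, ← Category.assoc, ← pullback.condition, Category.assoc, Over.w t]
    let t' : X' ⟶ E := Over.homMk (pullback.snd t.left p.left) hw'
    haveI : Epi pr.left := inferInstanceAs (Epi prl)
    exact ⟨X', pr, t', Over.epi_of_epi_left pr, Over.OverMorphism.ext pullback.condition⟩
  have keyU : ∀ (X : Over S) (h : X ⟶ H) (e : X ⟶ E),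
      lift h (e ≫ p) ≫ ΦU = lift h e ≫ ΦE := by
    intro X h e
    rw [← hπΦ, ← Category.assoc, lift_whiskerLeft]
  have hhom : IsHomFam ΦU := by
    intro X a b t
    obtain ⟨X', pr, t', hpr, ht'⟩ := hcover X t
    rw [← cancel_epi pr, MonObj.comp_mul, ← Category.assoc, ← Category.assoc, ← Category.assoc,
      comp_lift, comp_lift, comp_lift, ht', MonObj.comp_mul, keyU, keyU, keyU]
    rw [← cancel_mono i, keyE, MonObj.mul_comp (pr ≫ a) (pr ≫ b) i,
      MonObj.mul_comp (lift (pr ≫ a) t' ≫ ΦE) (lift (pr ≫ b) t' ≫ ΦE) i, keyE, keyE]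
    group
  have hunit : ∀ (X : Over S) (h : X ⟶ H), lift h (toUnit X ≫ η[U]) ≫ ΦU = h := by
    intro X h
    have h1 : toUnit X ≫ η[U] = (1 : X ⟶ E) ≫ p := by
      rw [Hom.one_def, Category.assoc, IsMonHom.one_hom]
    rw [h1, keyU, ← cancel_mono i, keyE]
    group
  have hfstU := rigidity U H hH ΦU hhom η[U] hunit hU
  have hfstE : ΦE = fst H E := by
    rw [← hπΦ, hfstU]
    exact whiskerLeft_fst _ _
  intro X h e
  have h1 := keyE X h e
  rw [hfstE, lift_fst] at h1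
  calc (h ≫ i) * e = (e * (h ≫ i) * e⁻¹) * e := by rw [← h1]
    _ = e * (h ≫ i) := by group

end Groth.Agent.Lib.Helper10.RigidityExt
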