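import Mathlib

/-!
# Schematically dominant morphisms are epimorphisms towards separated targets
-/

set_option autoImplicit false
set_option backward.isDefEq.respectTransparency.types false
set_option maxHeartbeats 4000000
set_option synthInstance.maxHeartbeats 400000
universe u
open CategoryTheory CategoryTheory.Limits AlgebraicGeometry

namespace Groth.Agent.Lib.Helper10.SchDomEpi

theorem ker_eq_bot_of_app_injective {X Y : Scheme.{u}} (f : X ⟶ Y)
    (h : ∀ U : Y.Opens, Function.Injective (f.app U).hom) : f.ker = ⊥ := by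
  rw [eq_bot_iff]
  intro U
  refine (f.ideal_ker_le U).trans ?_
  rw [(RingHom.injective_iff_ker_eq_bot _).mp (h U.1)]
  exact bot_le

theorem eq_of_comp_eq_of_ker_eq_bot {S : Scheme.{u}} {X Y B : Over S} [IsSeparated B.hom]
    (r : X ⟶ Y) (hr : r.left.ker = ⊥) (a b : Y ⟶ B) (h : r ≫ a = r ≫ b) : a = b := by
  have hfac : equalizer.lift r h ≫ equalizer.ι a b = r := equalizer.lift_ι r h
  have hle : (equalizer.ι a b).left.ker ≤ r.left.ker := by
    rw [← hfac, Over.comp_left]
    exact Scheme.Hom.le_ker_comp _ _
  rw [hr, le_bot_iff] at hle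
  haveI : IsIso (equalizer.ι a b).left := IsClosedImmersion.isIso_iff_ker_eq_bot.mpr hle
  haveI : IsIso (equalizer.ι a b) := by
    have : IsIso ((Over.forget _).map (equalizer.ι a b)) := ‹IsIso (equalizer.ι a b).left›
    exact isIso_of_reflects_iso (equalizer.ι a b) (Over.forget _)
  rw [← cancel_epi (equalizer.ι a b)]
  exact equalizer.condition a b

end Groth.Agent.Lib.Helper10.SchDomEpi
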