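import Mathlib
import Groth.Prelude.Def_SekSuwa2

/-!
# The coordinate ring of `G_{λ,N}` is `R[X]/(P_{λ,N})`, free of rank `N`
-/

set_option autoImplicit false
set_option maxHeartbeats 1000000
set_option linter.unusedSectionVars false
set_option linter.style.haveILetI false
universe u
open Polynomial SekSuwa

namespace Groth.Agent.Lib.Helper10.SekSuwaFin

variable {R : Type u} [CommRing R] {lam : R} {N : ℕ} (h : DivCond lam N)

theorem coeff_Q (k : ℕ) (hk : 0 < k) :
    ((1 + C lam * X) ^ N - 1 : R[X]).coeff k = (N.choose k : R) * lam ^ k := by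
  have e : (1 + C lam * X : R[X]) ^ N = ((1 + X) ^ N : R[X]).comp (C lam * X) := by
    simp
  rw [coeff_sub, e, comp_C_mul_X_coeff, coeff_one_add_X_pow, coeff_one, if_neg hk.ne', sub_zero]

include h in
theorem psiPoly_monic (hN : 0 < N) : (psiPoly lam N h).Monic := by
  have hnzd := h.pow_nzd
  have hc : ∀ k, 0 < k → lam ^ N * (psiPoly lam N h).coeff k = (N.choose k : R) * lam ^ k := by
    intro k hk
    rw [← coeff_C_mul, psiPoly_spec h, coeff_Q k hk]
  apply monic_of_natDegree_le_of_coeff_eq_one N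
  · rw [natDegree_le_iff_coeff_eq_zero]
    intro k hk
    have := hc k (lt_trans hN hk)
    rw [Nat.choose_eq_zero_of_lt hk, Nat.cast_zero, zero_mul] at this
    exact cancel_nzd hnzd (this.trans (mul_zero _).symm)
  · have := hc N hN
    rw [Nat.choose_self, Nat.cast_one, one_mul] at this
    exact cancel_nzd hnzd (this.trans (mul_one _).symm)

include h in
theorem psiPoly_natDegree (hN : 0 < N) [Nontrivial R] : (psiPoly lam N h).natDegree = N := by
  have hnzd := h.pow_nzd
  apply le_antisymm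
  · rw [natDegree_le_iff_coeff_eq_zero]
    intro k hk
    have : lam ^ N * (psiPoly lam N h).coeff k = (N.choose k : R) * lam ^ k := by
      rw [← coeff_C_mul, psiPoly_spec h, coeff_Q k (lt_trans hN hk)]
    rw [Nat.choose_eq_zero_of_lt hk, Nat.cast_zero, zero_mul] at this
    exact cancel_nzd hnzd (this.trans (mul_zero _).symm)
  · apply le_natDegree_of_ne_zero
    have : lam ^ N * (psiPoly lam N h).coeff N = (N.choose N : R) * lam ^ N := by
      rw [← coeff_C_mul, psiPoly_spec h, coeff_Q N hN]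
    rw [Nat.choose_self, Nat.cast_one, one_mul] at this
    have h1 : (psiPoly lam N h).coeff N = 1 := cancel_nzd hnzd (this.trans (mul_one _).symm)
    rw [h1]
    exact one_ne_zero

/-- `R[X]/(P) → AK`, `X ↦ t`. -/
noncomputable def toAK : AdjoinRoot (psiPoly lam N h) →ₐ[R] AK R lam N h :=
  AdjoinRoot.liftAlgHom (psiPoly lam N h) (Algebra.ofId R _) AK.t (AK.aeval_t)

theorem toAK_root : toAK h (AdjoinRoot.root _) = AK.t := AdjoinRoot.liftAlgHom_root _ _ _ _

theorem root_rel (hN : 0 < N) :
    (1 + lam • AdjoinRoot.root (psiPoly lam N h)) *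
      (1 + lam • AdjoinRoot.root (psiPoly lam N h)) ^ (N - 1) = 1 := by
  rw [← pow_succ', Nat.sub_add_cancel hN]
  have e := aeval_psiPoly h (AdjoinRoot.root (psiPoly lam N h))
  rw [AdjoinRoot.aeval_eq, AdjoinRoot.mk_self, mul_zero] at e
  rw [Algebra.smul_def]
  exact (sub_eq_zero.mp e.symm)

/-- `AK → R[X]/(P)`, `t ↦ X`. -/
noncomputable def fromAK (hN : 0 < N) : AK R lam N h →ₐ[R] AdjoinRoot (psiPoly lam N h) :=
  Ideal.Quotient.liftₐ (kerIdeal lam N h)
    (A.lift R lam (AdjoinRoot.root (psiPoly lam N h))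
      ((1 + lam • AdjoinRoot.root (psiPoly lam N h)) ^ (N - 1)) (root_rel h hN))
    (by
      intro z hz
      obtain ⟨c, rfl⟩ := Ideal.mem_span_singleton'.mp hz
      rw [map_mul, kerGen, ← Polynomial.aeval_algHom_apply, A.lift_t, AdjoinRoot.aeval_eq,
        AdjoinRoot.mk_self, mul_zero])

theorem fromAK_t (hN : 0 < N) : fromAK h hN AK.t = AdjoinRoot.root _ := by
  exact A.lift_t _ _ (root_rel h hN)

theorem fromAK_inv (hN : 0 < N) :
    fromAK h hN AK.inv = (1 + lam • AdjoinRoot.root (psiPoly lam N h)) ^ (N - 1) := by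
  exact A.lift_inv _ _ (root_rel h hN)

theorem AK_inv_eq (hN : 0 < N) :
    (AK.inv : AK R lam N h) = (1 + lam • (AK.t : AK R lam N h)) ^ (N - 1) := by
  have e1 : (1 + lam • (AK.t : AK R lam N h)) * AK.inv = 1 := by
    have := congrArg (AK.mkHom R lam N h) (A.u_mul_inv (R := R) (lam := lam))
    rw [map_mul, map_one, A.u, map_add, map_one, map_smul] at this
    exact this
  have e2 : (1 + lam • (AK.t : AK R lam N h)) * (1 + lam • (AK.t : AK R lam N h)) ^ (N - 1) = 1 := by
    rw [← pow_succ', Nat.sub_add_cancel hN, AK.u_pow]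
  calc (AK.inv : AK R lam N h) = AK.inv * ((1 + lam • AK.t) * (1 + lam • AK.t) ^ (N - 1)) := by
        rw [e2, mul_one]
    _ = ((1 + lam • AK.t) * AK.inv) * (1 + lam • AK.t) ^ (N - 1) := by ring
    _ = _ := by rw [e1, one_mul]

/-- `AK ≃ R[X]/(P)`. -/
noncomputable def equivAdjoinRoot (hN : 0 < N) :
    AK R lam N h ≃ₐ[R] AdjoinRoot (psiPoly lam N h) :=
  AlgEquiv.ofAlgHom (fromAK h hN) (toAK h)
    (by
      apply AdjoinRoot.algHom_ext
      rw [AlgHom.comp_apply, toAK_root, fromAK_t, AlgHom.id_apply])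
    (by
      apply AK.algHom_ext
      · rw [AlgHom.comp_apply, fromAK_t, toAK_root, AlgHom.id_apply]
      · rw [AlgHom.comp_apply, fromAK_inv, map_pow, map_add, map_one, map_smul, toAK_root,
          AlgHom.id_apply, AK_inv_eq h hN])

include h in
theorem free_AK (hN : 0 < N) : Module.Free R (AK R lam N h) :=
  haveI := (psiPoly_monic h hN).free_adjoinRoot
  Module.Free.of_equiv (equivAdjoinRoot h hN).symm.toLinearEquiv

include h in
theorem finite_AK (hN : 0 < N) : Module.Finite R (AK R lam N h) :=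
  haveI := (psiPoly_monic h hN).finite_adjoinRoot
  Module.Finite.equiv (equivAdjoinRoot h hN).symm.toLinearEquiv

include h in
theorem finrank_AK (hN : 0 < N) [Nontrivial R] : Module.finrank R (AK R lam N h) = N := by
  rw [(equivAdjoinRoot h hN).toLinearEquiv.finrank_eq,
    (AdjoinRoot.powerBasis' (psiPoly_monic h hN)).finrank, AdjoinRoot.powerBasis'_dim,
    psiPoly_natDegree h hN]

end Groth.Agent.Lib.Helper10.SekSuwaFin
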