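import Mathlib
import Groth.Agent.Lib.Helper10.SekSuwaFin1

/-!
# `α^{λ,N}` is an isomorphism after base change to a field in which `λ` is invertible
-/

set_option autoImplicit false
set_option maxHeartbeats 1000000
set_option linter.unusedSectionVars false
set_option linter.style.haveILetI false
universe u
open Polynomial SekSuwa TensorProduct

namespace Groth.Agent.Lib.Helper10.SekSuwaFin

variable {R : Type u} [CommRing R] {lam : R} {N : ℕ} (h : DivCond lam N)

theorem adjoin_t (hN : 0 < N) : Algebra.adjoin R {(AK.t : AK R lam N h)} = ⊤ := by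
  have e := congrArg (Subalgebra.map (toAK h)) (AdjoinRoot.adjoinRoot_eq_top (f := psiPoly lam N h))
  rw [AlgHom.map_adjoin, Set.image_singleton, toAK_root, Algebra.map_top] at e
  rw [e, AlgHom.range_eq_top]
  exact (equivAdjoinRoot h hN).symm.surjective

/-- the comorphism of `α^{λ,N}` as an algebra map. -/
noncomputable def φ : MonoidAlgebra R (Multiplicative (ZMod N)) →ₐ[R] AK R lam N h :=
  (alphaNHom R lam N h : MonoidAlgebra R (Multiplicative (ZMod N)) →ₐ[R] AK R lam N h)

theorem φ_single : φ h (MonoidAlgebra.single (Multiplicative.ofAdd (1 : ZMod N)) 1) =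
    1 + lam • AK.t := alphaNHom_single_one R lam N h

variable (L : Type u) [Field L] [Algebra R L]

/-- `L ⊗ φ`. -/
noncomputable def ψL : L ⊗[R] MonoidAlgebra R (Multiplicative (ZMod N)) →ₐ[L] L ⊗[R] AK R lam N h :=
  Algebra.TensorProduct.map (AlgHom.id L L) (φ h)

theorem one_tmul_mem (hN : 0 < N) (hlam : algebraMap R L lam ≠ 0) (a : AK R lam N h) :
    (1 : L) ⊗ₜ[R] a ∈ (ψL h L).range := by
  have hu : (1 : L) ⊗ₜ[R] (1 + lam • (AK.t : AK R lam N h)) ∈ (ψL h L).range :=
    ⟨1 ⊗ₜ MonoidAlgebra.single (Multiplicative.ofAdd (1 : ZMod N)) 1, by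
      change Algebra.TensorProduct.map (AlgHom.id L L) (φ h) _ = _
      rw [Algebra.TensorProduct.map_tmul, φ_single, AlgHom.id_apply]⟩
  have ht : (1 : L) ⊗ₜ[R] (AK.t : AK R lam N h) ∈ (ψL h L).range := by
    have h1 : (algebraMap R L lam) • ((1 : L) ⊗ₜ[R] (AK.t : AK R lam N h)) ∈ (ψL h L).range := by
      have : (algebraMap R L lam) • ((1 : L) ⊗ₜ[R] (AK.t : AK R lam N h)) =
          (1 : L) ⊗ₜ[R] (1 + lam • (AK.t : AK R lam N h)) - 1 := by
        rw [TensorProduct.tmul_add, TensorProduct.tmul_smul, algebraMap_smul,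
          Algebra.TensorProduct.one_def]
        ring
      rw [this]
      exact Subalgebra.sub_mem _ hu (Subalgebra.one_mem _)
    have h2 := Subalgebra.smul_mem (ψL h L).range h1 (algebraMap R L lam)⁻¹
    rwa [smul_smul, inv_mul_cancel₀ hlam, one_smul] at h2
  have ha : a ∈ Algebra.adjoin R {(AK.t : AK R lam N h)} := by
    rw [adjoin_t h hN]; trivial
  induction ha using Algebra.adjoin_induction with
  | mem x hx =>
    rw [Set.mem_singleton_iff.mp hx]
    exact ht
  | algebraMap r =>
    have : (1 : L) ⊗ₜ[R] (algebraMap R (AK R lam N h) r) =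
        algebraMap R L r • (1 : L ⊗[R] AK R lam N h) := by
      rw [Algebra.algebraMap_eq_smul_one, TensorProduct.tmul_smul, algebraMap_smul,
        Algebra.TensorProduct.one_def]
    rw [this]
    exact Subalgebra.smul_mem _ (Subalgebra.one_mem _) _
  | add x y _ _ hx hy =>
    rw [TensorProduct.tmul_add]
    exact Subalgebra.add_mem _ hx hy
  | mul x y _ _ hx hy =>
    have : (1 : L) ⊗ₜ[R] (x * y) = ((1 : L) ⊗ₜ[R] x) * ((1 : L) ⊗ₜ[R] y) := by
      rw [Algebra.TensorProduct.tmul_mul_tmul, one_mul]
    rw [this]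
    exact Subalgebra.mul_mem _ hx hy

theorem surjective_ψL (hN : 0 < N) (hlam : algebraMap R L lam ≠ 0) :
    Function.Surjective (ψL h L) := by
  rw [← AlgHom.range_eq_top, Algebra.eq_top_iff]
  intro x
  induction x using TensorProduct.induction_on with
  | zero => exact Subalgebra.zero_mem _
  | tmul l a =>
    have : l ⊗ₜ[R] a = l • ((1 : L) ⊗ₜ[R] a) := by
      rw [TensorProduct.smul_tmul', smul_eq_mul, mul_one]
    rw [this]
    exact Subalgebra.smul_mem _ (one_tmul_mem h L hN hlam a) l
  | add x y hx hy => exact Subalgebra.add_mem _ hx hy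

theorem bijective_ψL (hN : 0 < N) (hlam : algebraMap R L lam ≠ 0) :
    Function.Bijective (ψL h L) := by
  haveI : Nontrivial R := (algebraMap R L).domain_nontrivial
  haveI : NeZero N := ⟨hN.ne'⟩
  haveI : Module.Free R (AK R lam N h) := free_AK h hN
  haveI : Module.Finite R (AK R lam N h) := finite_AK h hN
  haveI : Module.Free R (MonoidAlgebra R (Multiplicative (ZMod N))) :=
    Module.Free.of_equiv (MonoidAlgebra.coeffLinearEquiv R).symm
  haveI : Module.Finite R (MonoidAlgebra R (Multiplicative (ZMod N))) :=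
    Module.Finite.equiv (MonoidAlgebra.coeffLinearEquiv R).symm
  have h1 : Module.finrank L (L ⊗[R] MonoidAlgebra R (Multiplicative (ZMod N))) = N := by
    rw [Module.finrank_baseChange, (MonoidAlgebra.coeffLinearEquiv R).finrank_eq,
      Module.finrank_finsupp_self]
    rw [Fintype.card_multiplicative]
    exact ZMod.card N
  have h2 : Module.finrank L (L ⊗[R] AK R lam N h) = N := by
    rw [Module.finrank_baseChange, finrank_AK h hN]
  have hs := surjective_ψL h L hN hlam
  have hi : Function.Injective (ψL h L).toLinearMap :=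
    (LinearMap.injective_iff_surjective_of_finrank_eq_finrank (h1.trans h2.symm)).mpr hs
  exact ⟨hi, hs⟩

end Groth.Agent.Lib.Helper10.SekSuwaFin
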