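import Mathlib
import Groth.Agent.Lib.Helper10.SekSuwaFin2

/-!
# Points of `G_{λ,N}` in a field with enough roots of unity
-/

set_option autoImplicit false
set_option maxHeartbeats 1000000
set_option linter.unusedSectionVars false
set_option linter.style.haveILetI false
universe u
open Polynomial SekSuwa TensorProduct

namespace Groth.Agent.Lib.Helper10.SekSuwaAct

open Groth.Agent.Lib.Helper10.SekSuwaFin

variable {R : Type u} [CommRing R] {lam : R} {N : ℕ} (h : DivCond lam N)

theorem algHom_ext_t (hN : 0 < N) {B : Type u} [CommRing B] [Algebra R B]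
    {f g : AK R lam N h →ₐ[R] B} (ht : f AK.t = g AK.t) : f = g := by
  apply AK.algHom_ext ht
  rw [AK_inv_eq h hN, map_pow, map_pow, map_add, map_add, map_one, map_one, map_smul, map_smul, ht]

variable (L : Type u) [Field L] [Algebra R L]

theorem pow_eq_one (f : AK R lam N h →ₐ[R] L) :
    (1 + algebraMap R L lam * f AK.t) ^ N = 1 := by
  have := congrArg f (AK.u_pow (R := R) (lam := lam) (N := N) (h := h))
  rw [map_pow, map_add, map_one, map_smul, Algebra.smul_def] at this
  exact this

/-- the point with `1 + λ t ↦ ζ`. -/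
noncomputable def ptOfRoot (hN : 0 < N) (hlam : algebraMap R L lam ≠ 0) (ζ : L) (hζ : ζ ^ N = 1) :
    AK R lam N h →ₐ[R] L :=
  (AdjoinRoot.liftAlgHom (psiPoly lam N h) (Algebra.ofId R L) ((ζ - 1) / algebraMap R L lam) (by
    change Polynomial.aeval ((ζ - 1) / algebraMap R L lam) (psiPoly lam N h) = 0
    have e := aeval_psiPoly h ((ζ - 1) / algebraMap R L lam)
    rw [mul_div_cancel₀ _ hlam, add_sub_cancel, hζ, sub_self] at e
    have h0 : algebraMap R L (lam ^ N) ≠ 0 := by
      rw [map_pow]; exact pow_ne_zero _ hlam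
    exact (mul_eq_zero.mp e).resolve_left h0)).comp (equivAdjoinRoot h hN).toAlgHom

theorem ptOfRoot_t (hN : 0 < N) (hlam : algebraMap R L lam ≠ 0) (ζ : L) (hζ : ζ ^ N = 1) :
    ptOfRoot h L hN hlam ζ hζ AK.t = (ζ - 1) / algebraMap R L lam := by
  unfold ptOfRoot
  rw [AlgHom.comp_apply]
  change AdjoinRoot.liftAlgHom _ _ _ _ (fromAK h hN AK.t) = _
  rw [fromAK_t, AdjoinRoot.liftAlgHom_root]

theorem natCard_points (hN : 0 < N) (hlam : algebraMap R L lam ≠ 0) [NeZero N]
    [HasEnoughRootsOfUnity L N] : Nat.card (AK R lam N h →ₐ[R] L) = N := by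
  refine Eq.trans ?_ (HasEnoughRootsOfUnity.natCard_rootsOfUnity L N)
  let e : (AK R lam N h →ₐ[R] L) → rootsOfUnity N L := fun f =>
    rootsOfUnity.mkOfPowEq (1 + algebraMap R L lam * f AK.t) (pow_eq_one h L f)
  apply Nat.card_eq_of_bijective e
  constructor
  · intro f g hfg
    have h1 := congrArg (fun z : rootsOfUnity N L => ((z : Lˣ) : L)) hfg
    simp only [e, rootsOfUnity.coe_mkOfPowEq] at h1
    have h2 : f AK.t = g AK.t := mul_left_cancel₀ hlam (add_left_cancel h1)
    exact algHom_ext_t h hN h2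
  · intro z
    have hz : ((z : Lˣ) : L) ^ N = 1 := by
      have := z.2
      rw [mem_rootsOfUnity] at this
      rw [← Units.val_pow_eq_pow_val, this, Units.val_one]
    refine ⟨ptOfRoot h L hN hlam _ hz, ?_⟩
    apply Subtype.ext
    apply Units.ext
    simp only [e, rootsOfUnity.coe_mkOfPowEq]
    rw [ptOfRoot_t, mul_div_cancel₀ _ hlam, add_sub_cancel]

end Groth.Agent.Lib.Helper10.SekSuwaAct
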