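import Mathlib

/-!
# Two abstract lemmas: actions of groups of order `p` on groups of order `p`; separation of points
-/

set_option autoImplicit false
set_option maxHeartbeats 1000000
set_option linter.unusedSectionVars false
set_option linter.style.haveILetI false
universe u

namespace Groth.Agent.Lib.Helper10.SekSuwaAct

/-- a group of order `p` acting on a group of order `p` by group automorphisms acts trivially. -/
theorem act_trivial {Γ X : Type*} [Group Γ] [Group X] (p : ℕ) (hp : p.Prime)
    (hΓ : Nat.card Γ = p) (hX : Nat.card X = p)
    (act : Γ → X → X) (one_act : ∀ x, act 1 x = x)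
    (mul_act : ∀ g g' x, act (g * g') x = act g (act g' x))
    (act_mul : ∀ g x y, act g (x * y) = act g x * act g y) (g : Γ) (x : X) : act g x = x := by
  haveI : Finite X := Nat.finite_of_card_ne_zero (hX ▸ hp.ne_zero)
  have hgp : g ^ p = 1 := hΓ ▸ pow_card_eq_one'
  have hiter : ∀ k : ℕ, (act g)^[k] = act (g ^ k) := by
    intro k
    induction k with
    | zero => funext y; simp [one_act]
    | succ k ih =>
      funext y
      rw [Function.iterate_succ', Function.comp_apply, ih, pow_succ', mul_act]
  have hone : act g 1 = 1 := by
    have := act_mul g 1 1
    rw [mul_one] at this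
    exact (mul_eq_left (a := act g 1)).mp this.symm |>.symm ▸ rfl
  have hper : Function.IsPeriodicPt (act g) p x := by
    change (act g)^[p] x = x
    rw [hiter, hgp, one_act]
  have hdvd := hper.minimalPeriod_dvd
  rcases (Nat.dvd_prime hp).mp hdvd with h1 | hpp
  · exact Function.minimalPeriod_eq_one_iff_isFixedPt.mp h1
  · exfalso
    -- the orbit has `p` elements, none equal to `1`
    have hinj : Set.InjOn (fun k => (act g)^[k] x) (Set.Iio p) := by
      rw [← hpp]
      exact Function.iterate_injOn_Iio_minimalPeriod
    have hx1 : ∀ k, (act g)^[k] x ≠ 1 := by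
      intro k hk
      have hone' : ∀ j : ℕ, (act g)^[j] 1 = 1 := by
        intro j
        induction j with
        | zero => rfl
        | succ j ih => rw [Function.iterate_succ', Function.comp_apply, ih, hone]
      -- x = 1
      have hx : x = 1 := by
        have h2 : (act g)^[p - k % p + k % p] x = x := by
          have hlt : k % p < p := Nat.mod_lt _ hp.pos
          rw [Nat.sub_add_cancel hlt.le]
          exact hper
        have hk' : (act g)^[k % p] x = 1 := by
          have hkk : (act g)^[k] x = (act g)^[k % p] x := by
            conv_lhs => rw [← Nat.mod_add_div k p]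
            rw [Function.iterate_add_apply]
            congr 1
            exact (hper.mul_const _).eq
          rw [← hkk, hk]
        rw [Function.iterate_add_apply, hk', hone'] at h2
        exact h2.symm
      have : Function.minimalPeriod (act g) x = 1 := by
        rw [Function.minimalPeriod_eq_one_iff_isFixedPt, hx]
        exact hone
      rw [this] at hpp
      exact hp.one_lt.ne hpp
    let φ : Option (Fin p) → X := fun o => match o with
      | none => 1
      | some k => (act g)^[k.1] x
    have hφ : Function.Injective φ := by
      intro a b hab
      match a, b with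
      | none, none => rfl
      | none, some k => exact absurd hab.symm (hx1 k.1)
      | some k, none => exact absurd hab (hx1 k.1)
      | some k, some l =>
        have := hinj (Set.mem_Iio.mpr k.2) (Set.mem_Iio.mpr l.2) hab
        exact congrArg some (Fin.ext this)
    have hcard := Nat.card_le_card_of_injective φ hφ
    rw [hX, Nat.card_eq_fintype_card, Fintype.card_option, Fintype.card_fin] at hcard
    omega

/-- if a finite free algebra `C` of rank `n` over `R ⊆ L` has at least `n` points in the field `L`,
these points separate the elements of `C`. -/
theorem eq_zero_of_forall_algHom {R : Type u} [CommRing R] {L : Type u} [Field L] [Algebra R L]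
    (hinj : Function.Injective (algebraMap R L)) {C : Type u} [CommRing C] [Algebra R C]
    [Module.Free R C] [Module.Finite R C] [Finite (C →ₐ[R] L)]
    (hcard : Module.finrank R C ≤ Nat.card (C →ₐ[R] L)) (c : C)
    (hc : ∀ χ : C →ₐ[R] L, χ c = 0) : c = 0 := by
  classical
  haveI : Nontrivial R := (algebraMap R L).domain_nontrivial
  haveI : Fintype (C →ₐ[R] L) := Fintype.ofFinite _
  let b := Module.Free.chooseBasis R C
  have hli := linearIndependent_algHom_toLinearMap R C L
  -- `C →ₗ[R] L` has `L`-dimension `finrank R C`
  let e : (Module.Free.ChooseBasisIndex R C → L) ≃ₗ[L] (C →ₗ[R] L) := b.constr L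
  have hfin : Module.finrank L (C →ₗ[R] L) = Module.finrank R C := by
    rw [← e.finrank_eq, Module.finrank_pi, Module.finrank_eq_card_chooseBasisIndex]
  haveI : FiniteDimensional L (C →ₗ[R] L) := Module.Finite.equiv e
  have hle : Fintype.card (C →ₐ[R] L) ≤ Module.finrank L (C →ₗ[R] L) :=
    hli.fintype_card_le_finrank
  have hcard' : Fintype.card (C →ₐ[R] L) = Module.finrank L (C →ₗ[R] L) := by
    apply le_antisymm hle
    rw [hfin, ← Nat.card_eq_fintype_card]
    exact hcard
  have hspan := hli.span_eq_top_of_card_eq_finrank' hcard'
  -- every linear functional kills `c`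
  have hall : ∀ ℓ : C →ₗ[R] L, ℓ c = 0 := by
    intro ℓ
    have hℓ : ℓ ∈ Submodule.span L (Set.range (AlgHom.toLinearMap : (C →ₐ[R] L) → C →ₗ[R] L)) := by
      rw [hspan]; trivial
    induction hℓ using Submodule.span_induction with
    | mem y hy =>
      obtain ⟨χ, rfl⟩ := hy
      exact hc χ
    | zero => rfl
    | add y z _ _ hy hz => rw [LinearMap.add_apply, hy, hz, add_zero]
    | smul a y _ hy => rw [LinearMap.smul_apply, hy, smul_zero]
  apply b.repr.injective
  ext i
  have := hall ((Algebra.linearMap R L).comp (b.coord i))
  rw [LinearMap.comp_apply, Algebra.linearMap_apply, Module.Basis.coord_apply] at this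
  rw [map_zero, Finsupp.zero_apply]
  exact hinj (this.trans (map_zero _).symm)

end Groth.Agent.Lib.Helper10.SekSuwaAct
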