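import Mathlib
import Groth.Prelude.Def_AlgGrp
import Groth.Prelude.Def_SekSuwa2
import Groth.Agent.Lib.Helper10.SekSuwaAct1
import Groth.Agent.Lib.Helper10.SekSuwaAct2
import Groth.Agent.Lib.Helper10.HomSp1

/-!
# Points of affine schemes over `Spec R` attached to algebra maps; separation by field points
-/

set_option autoImplicit false
set_option backward.isDefEq.respectTransparency.types false
set_option maxHeartbeats 4000000
set_option synthInstance.maxHeartbeats 400000
set_option linter.unusedSectionVars false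
set_option linter.style.haveILetI false
universe u
open CategoryTheory CategoryTheory.Limits AlgebraicGeometry MonoidalCategory
  CartesianMonoidalCategory MonObj GrpObj TensorProduct

namespace Groth.Agent.Lib.Helper10.SekSuwaAct

section pts
variable {R : Type u} [CommRing R]

/-- the point of `Spec S` with values in `T'` attached to an algebra map. -/
noncomputable def ptOf {S T' : Type u} [CommRing S] [CommRing T'] [Algebra R S] [Algebra R T']
    (f : S →ₐ[R] T') :
    (Spec (.of T')).asOver (Spec (.of R)) ⟶ (Spec (.of S)).asOver (Spec (.of R)) :=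
  (Spec.map (CommRingCat.ofHom f.toRingHom)).asOver _

theorem ptOf_left {S T' : Type u} [CommRing S] [CommRing T'] [Algebra R S] [Algebra R T']
    (f : S →ₐ[R] T') : (ptOf f).left = Spec.map (CommRingCat.ofHom f.toRingHom) := rfl

theorem ptOf_comp {S T' U : Type u} [CommRing S] [CommRing T'] [CommRing U] [Algebra R S]
    [Algebra R T'] [Algebra R U] (f : S →ₐ[R] T') (g : T' →ₐ[R] U) :
    ptOf g ≫ ptOf f = ptOf (g.comp f) := by
  ext1
  change Spec.map (CommRingCat.ofHom g.toRingHom) ≫ Spec.map (CommRingCat.ofHom f.toRingHom) =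
    Spec.map (CommRingCat.ofHom (g.comp f).toRingHom)
  rw [← Spec.map_comp]
  rfl

theorem ptOf_injective {S T' : Type u} [CommRing S] [CommRing T'] [Algebra R S] [Algebra R T'] :
    Function.Injective (ptOf : (S →ₐ[R] T') → _) := by
  intro f g hfg
  have h1 := congrArg (fun k => k.left) hfg
  simp only [ptOf_left] at h1
  have h2 := Spec.map_injective h1
  have h3 : f.toRingHom = g.toRingHom := congrArg CommRingCat.Hom.hom h2
  exact AlgHom.coe_ringHom_injective h3

theorem ptOf_surjective {S T' : Type u} [CommRing S] [CommRing T'] [Bialgebra R S] [Algebra R T'] :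
    Function.Surjective (ptOf : (S →ₐ[R] T') → _) := fun f =>
  ⟨(Spec.mapMulEquiv.symm f).ofConv, Spec.mapMulEquiv.apply_symm_apply f⟩

theorem natCard_hom {S T' : Type u} [CommRing S] [CommRing T'] [Bialgebra R S] [Algebra R T'] :
    Nat.card ((Spec (.of T')).asOver (Spec (.of R)) ⟶ (Spec (.of S)).asOver (Spec (.of R))) =
      Nat.card (S →ₐ[R] T') :=
  (Nat.card_congr (Equiv.ofBijective _ ⟨ptOf_injective, ptOf_surjective⟩)).symm

end pts

section sep
variable {R : Type u} [CommRing R] {L : Type u} [Field L] [Algebra R L]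

/-- algebra maps out of a tensor product are pairs of algebra maps. -/
noncomputable def tensorHomEquiv (A B : Type u) [CommRing A] [CommRing B] [Algebra R A] [Algebra R B] :
    (A ⊗[R] B →ₐ[R] L) ≃ (A →ₐ[R] L) × (B →ₐ[R] L) where
  toFun χ := (χ.comp Algebra.TensorProduct.includeLeft, χ.comp Algebra.TensorProduct.includeRight)
  invFun fg := Algebra.TensorProduct.productMap fg.1 fg.2
  left_inv χ := by
    apply Algebra.TensorProduct.ext
    · exact Algebra.TensorProduct.productMap_left _ _
    · exact Algebra.TensorProduct.productMap_right _ _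
  right_inv fg := by
    apply Prod.ext
    · exact Algebra.TensorProduct.productMap_left _ _
    · exact Algebra.TensorProduct.productMap_right _ _

/-- two algebra maps into a finite free algebra with enough `L`-points agree if they agree after
every `L`-point. -/
theorem algHom_eq_of_forall (hinj : Function.Injective (algebraMap R L))
    {A C : Type u} [CommRing A] [Algebra R A] [CommRing C] [Algebra R C]
    [Module.Free R C] [Module.Finite R C] [Finite (C →ₐ[R] L)]
    (hcard : Module.finrank R C ≤ Nat.card (C →ₐ[R] L)) (ρ₁ ρ₂ : A →ₐ[R] C)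
    (hρ : ∀ χ : C →ₐ[R] L, χ.comp ρ₁ = χ.comp ρ₂) : ρ₁ = ρ₂ := by
  ext a
  rw [← sub_eq_zero]
  apply eq_zero_of_forall_algHom hinj hcard
  intro χ
  rw [map_sub, sub_eq_zero]
  exact DFunLike.congr_fun (hρ χ) a

/-- scheme form. -/
theorem hom_eq_of_forall (hinj : Function.Injective (algebraMap R L))
    {A C : Type u} [CommRing A] [Bialgebra R A] [CommRing C] [Algebra R C]
    [Module.Free R C] [Module.Finite R C] [Finite (C →ₐ[R] L)]
    (hcard : Module.finrank R C ≤ Nat.card (C →ₐ[R] L))
    (f₁ f₂ : (Spec (.of C)).asOver (Spec (.of R)) ⟶ (Spec (.of A)).asOver (Spec (.of R)))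
    (hf : ∀ t : (Spec (.of L)).asOver (Spec (.of R)) ⟶ (Spec (.of C)).asOver (Spec (.of R)),
      t ≫ f₁ = t ≫ f₂) : f₁ = f₂ := by
  obtain ⟨ρ₁, rfl⟩ := ptOf_surjective f₁
  obtain ⟨ρ₂, rfl⟩ := ptOf_surjective f₂
  congr 1
  apply algHom_eq_of_forall hinj hcard
  intro χ
  apply ptOf_injective
  rw [← ptOf_comp, ← ptOf_comp]
  exact hf (ptOf χ)

end sep

section univ
variable (R : Type u) [CommRing R] (A B : Type u) [CommRing A] [CommRing B] [Algebra R A] [Algebra R B]

/-- the universal point of the product of two affine schemes. -/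
noncomputable def θ : (Spec (.of (A ⊗[R] B))).asOver (Spec (.of R)) ⟶
    (Spec (.of A)).asOver (Spec (.of R)) ⊗ (Spec (.of B)).asOver (Spec (.of R)) :=
  lift (ptOf Algebra.TensorProduct.includeLeft) (ptOf Algebra.TensorProduct.includeRight)

theorem θ_fst : θ R A B ≫ fst _ _ = ptOf Algebra.TensorProduct.includeLeft := lift_fst _ _
theorem θ_snd : θ R A B ≫ snd _ _ = ptOf Algebra.TensorProduct.includeRight := lift_snd _ _

theorem θ_left : (θ R A B).left = (pullbackSpecIso R A B).inv := by
  apply pullback.hom_ext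
  · exact (congrArg (fun k => k.left) (θ_fst R A B)).trans (pullbackSpecIso_inv_fst R A B).symm
  · exact (congrArg (fun k => k.left) (θ_snd R A B)).trans (pullbackSpecIso_inv_snd R A B).symm

instance : IsIso (θ R A B) := by
  haveI : IsIso ((Over.forget _).map (θ R A B)) := by
    change IsIso (θ R A B).left
    rw [θ_left]
    infer_instance
  exact isIso_of_reflects_iso (θ R A B) (Over.forget _)

end univ

section main
open SekSuwa Groth.Agent.Lib.Helper10.SekSuwaFin

theorem act_eq_snd {R : Type u} [CommRing R] {L : Type u} [Field L] [Algebra R L]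
    (hinj : Function.Injective (algebraMap R L)) (p : ℕ) (hp : p.Prime) [NeZero p]
    [HasEnoughRootsOfUnity L p]
    {lam mu : R} (h₁ : DivCond lam p) (h₂ : DivCond mu p)
    (a : AlgGrp.Action (GK R mu p h₂) (GK R lam p h₁))
    (hmul : ∀ (T : Over (Spec (CommRingCat.of R))) (g : T ⟶ GK R mu p h₂)
      (x y : T ⟶ GK R lam p h₁),
      lift g (x * y) ≫ a.act = (lift g x ≫ a.act) * (lift g y ≫ a.act)) :
    a.act = snd _ _ := by
  have hp0 : 0 < p := hp.pos
  haveI : Nontrivial R := (algebraMap R L).domain_nontrivial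
  have hlam : algebraMap R L lam ≠ 0 := by
    intro h0
    have : lam = 0 := hinj (h0.trans (map_zero _).symm)
    exact nonZeroDivisors.ne_zero h₁.nzd this
  have hmu : algebraMap R L mu ≠ 0 := by
    intro h0
    have : mu = 0 := hinj (h0.trans (map_zero _).symm)
    exact nonZeroDivisors.ne_zero h₂.nzd this
  let TL : Over (Spec (CommRingCat.of R)) := (Spec (.of L)).asOver (Spec (.of R))
  have cardl : Nat.card (TL ⟶ GK R lam p h₁) = p :=
    natCard_hom.trans (natCard_points h₁ L hp0 hlam)
  have cardm : Nat.card (TL ⟶ GK R mu p h₂) = p :=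
    natCard_hom.trans (natCard_points h₂ L hp0 hmu)
  have key : ∀ (g : TL ⟶ GK R mu p h₂) (x : TL ⟶ GK R lam p h₁), lift g x ≫ a.act = x := by
    intro g x
    exact act_trivial p hp cardm cardl (fun g x => lift g x ≫ a.act)
      (fun x => Groth.Agent.Lib.Helper10.HomSp.one_smul a x)
      (fun g g' x => Groth.Agent.Lib.Helper10.HomSp.mul_smul a g g' x)
      (fun g x y => hmul TL g x y) g x
  haveI := free_AK h₁ hp0
  haveI := finite_AK h₁ hp0
  haveI := free_AK h₂ hp0
  haveI := finite_AK h₂ hp0
  haveI finl : Finite (AK R lam p h₁ →ₐ[R] L) :=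
    Nat.finite_of_card_ne_zero (by rw [natCard_points h₁ L hp0 hlam]; exact hp.ne_zero)
  haveI finm : Finite (AK R mu p h₂ →ₐ[R] L) :=
    Nat.finite_of_card_ne_zero (by rw [natCard_points h₂ L hp0 hmu]; exact hp.ne_zero)
  haveI : Finite (AK R mu p h₂ ⊗[R] AK R lam p h₁ →ₐ[R] L) :=
    Finite.of_equiv _ (tensorHomEquiv (AK R mu p h₂) (AK R lam p h₁)).symm
  have hcard : Module.finrank R (AK R mu p h₂ ⊗[R] AK R lam p h₁) ≤
      Nat.card (AK R mu p h₂ ⊗[R] AK R lam p h₁ →ₐ[R] L) := by
    rw [Module.finrank_tensorProduct, finrank_AK h₂ hp0, finrank_AK h₁ hp0,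
      Nat.card_congr (tensorHomEquiv (AK R mu p h₂) (AK R lam p h₁)), Nat.card_prod,
      natCard_points h₁ L hp0 hlam, natCard_points h₂ L hp0 hmu]
  have h3 : θ R (AK R mu p h₂) (AK R lam p h₁) ≫ a.act =
      θ R (AK R mu p h₂) (AK R lam p h₁) ≫ snd _ _ := by
    apply hom_eq_of_forall hinj hcard
    intro t
    have hk := key (t ≫ θ R (AK R mu p h₂) (AK R lam p h₁) ≫ fst _ _)
      (t ≫ θ R (AK R mu p h₂) (AK R lam p h₁) ≫ snd _ _)
    have hl : lift (t ≫ θ R (AK R mu p h₂) (AK R lam p h₁) ≫ fst _ _)
        (t ≫ θ R (AK R mu p h₂) (AK R lam p h₁) ≫ snd _ _) =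
        t ≫ θ R (AK R mu p h₂) (AK R lam p h₁) := by
      apply CartesianMonoidalCategory.hom_ext
      · rw [lift_fst, Category.assoc]
      · rw [lift_snd, Category.assoc]
    rw [hl, Category.assoc] at hk
    exact hk
  exact (cancel_epi (θ R (AK R mu p h₂) (AK R lam p h₁))).mp h3

end main

end Groth.Agent.Lib.Helper10.SekSuwaAct
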