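import Mathlib
import Groth.Agent.Lib.Helper10.SekSuwaFin2
import Groth.Agent.Lib.Helper12.GrpLim4

/-!
# Geometry of `α^{λ,N}`: finiteness, flatness and generic isomorphy
-/

set_option autoImplicit false
set_option maxHeartbeats 1000000
set_option linter.unusedSectionVars false
set_option linter.style.haveILetI false
universe u
open CategoryTheory CategoryTheory.Limits AlgebraicGeometry TensorProduct SekSuwa

namespace Groth.Agent.Lib.Helper10.SekSuwaFin

open Groth.Agent.Lib.Helper12.H12GrpLim

section General

variable (R : Type u) [CommRing R] (B₁ B₂ L : Type u) [CommRing B₁] [CommRing B₂] [CommRing L]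
  [Algebra R B₁] [Algebra R B₂] [Algebra R L]

/-- base change of a morphism of affine schemes over `Spec R` along `Spec L → Spec R` is an
isomorphism when the tensored ring map is bijective. -/
theorem isIso_pullback_of_bijective (φ : B₁ →ₐ[R] B₂)
    (g : (Spec (.of B₂)).asOver (Spec (.of R)) ⟶ (Spec (.of B₁)).asOver (Spec (.of R)))
    (hg : g.left = Spec.map (CommRingCat.ofHom (φ : B₁ →+* B₂)))
    (hb : Function.Bijective (Algebra.TensorProduct.map φ (AlgHom.id R L))) :
    IsIso ((Over.pullback (Spec.map (CommRingCat.ofHom (algebraMap R L)))).map g) := by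
  let e : B₁ ⊗[R] L ≃+* B₂ ⊗[R] L :=
    RingEquiv.ofBijective (Algebra.TensorProduct.map φ (AlgHom.id R L) : B₁ ⊗[R] L →+* B₂ ⊗[R] L) hb
  let m : pullback (Spec.map (CommRingCat.ofHom (algebraMap R B₂)))
        (Spec.map (CommRingCat.ofHom (algebraMap R L))) ⟶
      pullback (Spec.map (CommRingCat.ofHom (algebraMap R B₁)))
        (Spec.map (CommRingCat.ofHom (algebraMap R L))) :=
    ((Over.pullback (Spec.map (CommRingCat.ofHom (algebraMap R L)))).map g).left
  have hm1 : m ≫ pullback.fst (Spec.map (CommRingCat.ofHom (algebraMap R B₁)))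
        (Spec.map (CommRingCat.ofHom (algebraMap R L))) =
      pullback.fst (Spec.map (CommRingCat.ofHom (algebraMap R B₂)))
        (Spec.map (CommRingCat.ofHom (algebraMap R L))) ≫
        Spec.map (CommRingCat.ofHom (φ : B₁ →+* B₂)) := by
    rw [← hg]
    exact pullback_map_left_fst (Spec.map (CommRingCat.ofHom (algebraMap R L))) g
  have hm2 : m ≫ pullback.snd (Spec.map (CommRingCat.ofHom (algebraMap R B₁)))
        (Spec.map (CommRingCat.ofHom (algebraMap R L))) =
      pullback.snd (Spec.map (CommRingCat.ofHom (algebraMap R B₂)))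
        (Spec.map (CommRingCat.ofHom (algebraMap R L))) :=
    pullback_map_left_snd (Spec.map (CommRingCat.ofHom (algebraMap R L))) g
  have hcl : (pullbackSpecIso R B₂ L).inv ≫ m =
      Spec.map (CommRingCat.ofHom (e : B₁ ⊗[R] L →+* B₂ ⊗[R] L)) ≫ (pullbackSpecIso R B₁ L).inv := by
    apply pullback.hom_ext
    · rw [Category.assoc, Category.assoc, hm1, pullbackSpecIso_inv_fst_assoc, pullbackSpecIso_inv_fst,
        ← Spec.map_comp, ← Spec.map_comp, ← CommRingCat.ofHom_comp, ← CommRingCat.ofHom_comp]
      congr 2
      all_goals (ext x; simp [e])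
    · rw [Category.assoc, Category.assoc, hm2, pullbackSpecIso_inv_snd, pullbackSpecIso_inv_snd,
        ← Spec.map_comp, ← CommRingCat.ofHom_comp]
      congr 2
      all_goals (ext x; simp [e])
  haveI : IsIso (Spec.map (CommRingCat.ofHom (e : B₁ ⊗[R] L →+* B₂ ⊗[R] L))) := by
    have : IsIso (CommRingCat.ofHom (e : B₁ ⊗[R] L →+* B₂ ⊗[R] L)) :=
      (e.toCommRingCatIso).isIso_hom
    infer_instance
  have hmiso : IsIso m := by
    have : m = (pullbackSpecIso R B₂ L).hom ≫
        Spec.map (CommRingCat.ofHom (e : B₁ ⊗[R] L →+* B₂ ⊗[R] L)) ≫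
          (pullbackSpecIso R B₁ L).inv := by
      rw [← hcl, Iso.hom_inv_id_assoc]
    rw [this]
    infer_instance
  haveI : IsIso ((Over.forget _).map
      ((Over.pullback (Spec.map (CommRingCat.ofHom (algebraMap R L)))).map g)) := hmiso
  exact isIso_of_reflects_iso _ (Over.forget _)

end General


section Main

variable (R : Type u) [CommRing R] (lam : R) (N : ℕ) (h : DivCond lam N)

theorem bijective_map_right (hN : 0 < N) (L : Type u) [Field L] [Algebra R L]
    (hlam : algebraMap R L lam ≠ 0) :
    Function.Bijective (Algebra.TensorProduct.map (φ h) (AlgHom.id R L)) := by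
  have hb := bijective_ψL h L hN hlam
  have : ⇑(Algebra.TensorProduct.map (φ h) (AlgHom.id R L)) =
      ⇑(Algebra.TensorProduct.comm R L (AK R lam N h)) ∘ ⇑(ψL h L) ∘
        ⇑(Algebra.TensorProduct.comm R (MonoidAlgebra R (Multiplicative (ZMod N))) L) := by
    funext x
    induction x using TensorProduct.induction_on with
    | zero => simp
    | tmul a l => simp [ψL]
    | add x y hx hy => simp only [map_add, Function.comp_apply] at hx hy ⊢; rw [hx, hy]
  rw [this]
  exact (Algebra.TensorProduct.comm R L (AK R lam N h)).bijective.comp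
    (hb.comp (Algebra.TensorProduct.comm R (MonoidAlgebra R (Multiplicative (ZMod N))) L).bijective)

theorem isIso_alphaN_field (hN : 0 < N) (L : Type u) [Field L] [Algebra R L]
    (hlam : algebraMap R L lam ≠ 0) :
    IsIso ((Over.pullback (Spec.map (CommRingCat.ofHom (algebraMap R L)))).map
      (alphaN R lam N h)) :=
  isIso_pullback_of_bijective R (MonoidAlgebra R (Multiplicative (ZMod N))) (AK R lam N h) L
    (φ h) (alphaN R lam N h) rfl (bijective_map_right R lam N h hN L hlam)

end Main

end Groth.Agent.Lib.Helper10.SekSuwaFin
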