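import Mathlib
import Groth.Agent.Lib.Helper10.SekSuwaFin3
import Groth.Agent.S14695

/-!
# `H¹(X, G_{λ,n}) → H¹(X, μ_{p^n})` has trivial kernel
-/

set_option autoImplicit false
set_option maxHeartbeats 1000000
set_option linter.unusedSectionVars false
set_option linter.style.haveILetI false
universe u
open CategoryTheory CategoryTheory.Limits AlgebraicGeometry TensorProduct SekSuwa

namespace Groth.Agent.Lib.Helper10.SekSuwaFin

open Groth.Agent.Lib.Helper12.H12GrpLim

variable (R : Type u) [CommRing R] [IsDomain R] (lam : R) (N : ℕ) (h : DivCond lam N)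

theorem isIso_generic (hN : 0 < N) {X : Scheme.{u}} [IsIntegral X]
    (f : X ⟶ Spec (CommRingCat.of R)) [Surjective f] :
    IsIso ((Over.pullback (X.fromSpecStalk (genericPoint X))).map
      ((Over.pullback f).map (alphaN R lam N h))) := by
  let L : Type u := X.functionField
  let j : Spec (CommRingCat.of L) ⟶ X := X.fromSpecStalk (genericPoint X)
  let ρ' : CommRingCat.of R ⟶ CommRingCat.of L := Spec.preimage (j ≫ f)
  have hρ : Spec.map ρ' = j ≫ f := Spec.map_preimage _
  letI : Algebra R L := ρ'.hom.toAlgebra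
  have hτ : j ≫ f = Spec.map (CommRingCat.ofHom (algebraMap R L)) := hρ.symm
  have hlam : algebraMap R L lam ≠ 0 := by
    intro h0
    have hne : lam ≠ 0 := nonZeroDivisors.ne_zero h.nzd
    apply hne
    obtain ⟨x, hx⟩ := f.surjective (show ↥(Spec (CommRingCat.of R)) from ⟨⊥, Ideal.isPrime_bot⟩)
    have h1 : f (genericPoint X) ⤳ f x := (genericPoint_specializes x).map f.continuous
    rw [hx] at h1
    have h2 : (f (genericPoint X)).asIdeal ≤ ⊥ := (PrimeSpectrum.le_iff_specializes _ _).mpr h1
    have h3 : (j ≫ f) (IsLocalRing.closedPoint L) = f (genericPoint X) := by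
      rw [Scheme.Hom.comp_apply]
      congr 1
      exact Scheme.fromSpecStalk_closedPoint
    have h4 : lam ∈ ((j ≫ f) (IsLocalRing.closedPoint L)).asIdeal := by
      rw [← hρ, Spec.map_apply]
      change ρ'.hom lam ∈ (IsLocalRing.closedPoint L).asIdeal
      have : ρ'.hom lam = 0 := h0
      rw [this]
      exact Ideal.zero_mem _
    rw [h3] at h4
    exact (Submodule.mem_bot R).mp (h2 h4)
  haveI := isIso_alphaN_field R lam N h hN L hlam
  have hnat := ψ_naturality j f _ hτ (alphaN R lam N h)
  have : (Over.pullback j).map ((Over.pullback f).map (alphaN R lam N h)) =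
      (ψ j f _ hτ _).hom ≫ (Over.pullback (Spec.map (CommRingCat.ofHom (algebraMap R L)))).map
        (alphaN R lam N h) ≫ (ψ j f _ hτ _).inv := by
    rw [← Category.assoc, ← hnat, Category.assoc, Iso.hom_inv_id, Category.comp_id]
  change IsIso ((Over.pullback j).map ((Over.pullback f).map (alphaN R lam N h)))
  rw [this]
  infer_instance


section Props

variable (R : Type u) [CommRing R] (B : Type u) [CommRing B] [Algebra R B]

theorem isFinite_asOver [Module.Finite R B] :
    IsFinite ((Spec (.of B)).asOver (Spec (.of R))).hom := by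
  change IsFinite (Spec.map (CommRingCat.ofHom (algebraMap R B)))
  rw [IsFinite.SpecMap_iff]
  exact RingHom.finite_algebraMap.mpr inferInstance

theorem flat_asOver [Module.Flat R B] :
    Flat ((Spec (.of B)).asOver (Spec (.of R))).hom := by
  change Flat (Spec.map (CommRingCat.ofHom (algebraMap R B)))
  rw [HasRingHomProperty.Spec_iff (P := @Flat)]
  exact RingHom.flat_algebraMap_iff.mpr inferInstance

end Props

theorem props_GK (hN : 0 < N) :
    IsFinite (GK R lam N h).hom ∧ Flat (GK R lam N h).hom := by
  haveI : Module.Free R (AK R lam N h) := free_AK h hN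
  haveI : Module.Finite R (AK R lam N h) := finite_AK h hN
  exact ⟨isFinite_asOver R _, flat_asOver R _⟩

theorem props_diag (hN : 0 < N) :
    IsFinite (Red.diag R (ZMod N)).hom ∧ Flat (Red.diag R (ZMod N)).hom := by
  haveI : NeZero N := ⟨hN.ne'⟩
  haveI : Module.Free R (MonoidAlgebra R (Multiplicative (ZMod N))) :=
    Module.Free.of_equiv (MonoidAlgebra.coeffLinearEquiv R).symm
  haveI : Module.Finite R (MonoidAlgebra R (Multiplicative (ZMod N))) :=
    Module.Finite.equiv (MonoidAlgebra.coeffLinearEquiv R).symm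
  exact ⟨isFinite_asOver R _, flat_asOver R _⟩

/-- **Trivial kernel of `H¹(X, G_{λ,N}) → H¹(X, μ_N)`** over a normal integral `X`, faithfully
flat over `Spec R`. -/
theorem hasSection_of_push (hN : 0 < N) {X : Scheme.{u}} [IsIntegral X]
    (hX : Pi1.IsNormalScheme X) (f : X ⟶ Spec (CommRingCat.of R)) [Surjective f]
    (P : Over X) (a : AlgGrp.Action (Red.bc f (GK R lam N h)) P)
    (hP : NonAbH1.IsTorsorFor Scheme.fppfPrecoverage a)
    (P' : Over X) (a' : AlgGrp.Action (Red.bc f (Red.diag R (ZMod N))) P')
    (hP' : NonAbH1.IsTorsorFor Scheme.fppfPrecoverage a')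
    (hpush : NonAbH1.IsPushforwardAlongSch ((Over.pullback f).map (alphaN R lam N h)) a a')
    (htriv : NonAbH1.HasSectionOver P' (𝟙 X)) :
    NonAbH1.HasSectionOver P (𝟙 X) := by
  obtain ⟨h1, h2⟩ := props_GK R lam N h hN
  obtain ⟨h3, h4⟩ := props_diag R N hN
  haveI : IsFinite (Red.bc f (GK R lam N h)).hom :=
    inferInstanceAs (IsFinite (pullback.snd (GK R lam N h).hom f))
  haveI : Flat (Red.bc f (GK R lam N h)).hom :=
    inferInstanceAs (Flat (pullback.snd (GK R lam N h).hom f))
  haveI : IsFinite (Red.bc f (Red.diag R (ZMod N))).hom :=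
    inferInstanceAs (IsFinite (pullback.snd (Red.diag R (ZMod N)).hom f))
  haveI : Flat (Red.bc f (Red.diag R (ZMod N))).hom :=
    inferInstanceAs (Flat (pullback.snd (Red.diag R (ZMod N)).hom f))
  exact Groth.Agent.S14695.result hX _ _ ((Over.pullback f).map (alphaN R lam N h))
    (isIso_generic R lam N h hN f) P a hP P' a' hP' hpush htriv

end Groth.Agent.Lib.Helper10.SekSuwaFin
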