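import Mathlib
import Groth.Prelude.Def_GLinSh
import Groth.Prelude.Def_ChGrp

/-!
# The stabilizer of a point is a group scheme

For an action `a` of `G` on `X` over `S` and a `T`-point `x : T ⟶ X`, the stabilizer
`GLinSh.stab a x → T` represents the functor of points of `G` fixing `x`, hence is a group object of
`Over T.left`.
-/

set_option autoImplicit false
set_option backward.isDefEq.respectTransparency.types false
set_option maxHeartbeats 4000000
set_option synthInstance.maxHeartbeats 400000

universe u

open CategoryTheory CategoryTheory.Limits AlgebraicGeometry MonoidalCategory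
  CartesianMonoidalCategory MonObj GrpObj Opposite

noncomputable section

namespace Groth.Agent.Lib.Helper10.StabGrp

variable {S : Scheme.{u}} {G X : Over S} [GrpObj G] (a : AlgGrp.Action G X) {T : Over S}
  (x : T ⟶ X)

/-- An object over `T` viewed over `S`. -/
abbrev tilde (W : Over T.left) : Over S := Over.mk (W.hom ≫ T.hom)

/-- The structure map, over `S`. -/
def toT (W : Over T.left) : tilde W ⟶ T := Over.homMk W.hom rfl

@[simp] theorem toT_left (W : Over T.left) : (toT W).left = W.hom := rfl

/-- A morphism over `T` viewed over `S`. -/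
def tildeMap {W' W : Over T.left} (φ : W' ⟶ W) : tilde W' ⟶ tilde W :=
  Over.homMk φ.left (by
    show φ.left ≫ W.hom ≫ T.hom = W'.hom ≫ T.hom
    rw [← Category.assoc, Over.w φ])

@[simp] theorem tildeMap_left {W' W : Over T.left} (φ : W' ⟶ W) : (tildeMap φ).left = φ.left :=
  rfl

theorem tildeMap_toT {W' W : Over T.left} (φ : W' ⟶ W) : tildeMap φ ≫ toT W = toT W' := by
  apply Over.OverMorphism.ext
  exact Over.w φ

theorem tildeMap_id (W : Over T.left) : tildeMap (𝟙 W) = 𝟙 (tilde W) := by
  apply Over.OverMorphism.ext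
  rfl

theorem tildeMap_comp {W'' W' W : Over T.left} (φ : W'' ⟶ W') (ψ : W' ⟶ W) :
    tildeMap (φ ≫ ψ) = tildeMap φ ≫ tildeMap ψ := by
  apply Over.OverMorphism.ext
  rfl

/-- The subgroup of points of `G` over `W` fixing (the pullback of) `x`. -/
def stabSubgroup (W : Over T.left) : Subgroup (tilde W ⟶ G) where
  carrier := {g | lift g (toT W ≫ x) ≫ a.act = toT W ≫ x}
  mul_mem' := by
    intro g h hg hh
    simp only [Set.mem_setOf_eq] at hg hh ⊢
    rw [AlgGrp.Action.lift_mul_act, hh, hg]
  one_mem' := AlgGrp.Action.lift_one_act a _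
  inv_mem' := by
    intro g hg
    simp only [Set.mem_setOf_eq] at hg ⊢
    calc lift g⁻¹ (toT W ≫ x) ≫ a.act
        = lift g⁻¹ (lift g (toT W ≫ x) ≫ a.act) ≫ a.act := by rw [hg]
      _ = lift (g⁻¹ * g) (toT W ≫ x) ≫ a.act := (AlgGrp.Action.lift_mul_act a _ _ _).symm
      _ = toT W ≫ x := by rw [inv_mul_cancel, AlgGrp.Action.lift_one_act]

theorem mem_stabSubgroup {W : Over T.left} (g : tilde W ⟶ G) :
    g ∈ stabSubgroup a x W ↔ lift g (toT W ≫ x) ≫ a.act = toT W ≫ x := Iff.rfl

/-- Restriction of stabilizing points. -/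
def restrictHom {W' W : Over T.left} (φ : W' ⟶ W) :
    stabSubgroup a x W →* stabSubgroup a x W' where
  toFun g := ⟨tildeMap φ ≫ g.1, by
    rw [mem_stabSubgroup, ← tildeMap_toT φ, Category.assoc, ← comp_lift, Category.assoc,
      (mem_stabSubgroup a x g.1).mp g.2]⟩
  map_one' := by
    apply Subtype.ext
    exact MonObj.comp_one _
  map_mul' := by
    intro g h
    apply Subtype.ext
    exact MonObj.comp_mul _ _ _

/-- The stabilizer functor. -/
def stabFunctor : (Over T.left)ᵒᵖ ⥤ GrpCat.{u} where
  obj W := GrpCat.of (stabSubgroup a x W.unop)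
  map φ := GrpCat.ofHom (restrictHom a x φ.unop)
  map_id W := by
    apply GrpCat.hom_ext
    apply MonoidHom.ext
    intro g
    apply Subtype.ext
    show tildeMap (𝟙 W.unop) ≫ g.1 = g.1
    rw [tildeMap_id, Category.id_comp]
  map_comp φ ψ := by
    apply GrpCat.hom_ext
    apply MonoidHom.ext
    intro g
    apply Subtype.ext
    show tildeMap (ψ.unop ≫ φ.unop) ≫ g.1 = tildeMap ψ.unop ≫ tildeMap φ.unop ≫ g.1
    rw [tildeMap_comp, Category.assoc]

/-- The stabilizer as an object over `T`. -/
abbrev stabOver : Over T.left := Over.mk (GLinSh.stabTo a x)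

theorem psi_fst {W : Over S} (g : W ⟶ G) (t : W ⟶ T) :
    lift g t ≫ GIT.psi a x = lift (lift g (t ≫ x) ≫ a.act) t := by
  unfold GIT.psi
  rw [comp_lift, lift_snd, ← Category.assoc]
  congr 2
  apply CartesianMonoidalCategory.hom_ext <;> simp

/-- The underlying morphism of a point of the stabilizer, to the fibre product. -/
def pointLeft {W : Over T.left} (m : W ⟶ stabOver a x) :
    W.left ⟶ pullback (GIT.psi a x).left (lift x (𝟙 T)).left := m.left

theorem pointLeft_snd {W : Over T.left} (m : W ⟶ stabOver a x) :
    pointLeft a x m ≫ pullback.snd (GIT.psi a x).left (lift x (𝟙 T)).left = W.hom := Over.w m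

/-- The morphism `W ⟶ G ⊗ T` underlying a point of the stabilizer. -/
def pointHom {W : Over T.left} (m : W ⟶ stabOver a x) : tilde W ⟶ G ⊗ T :=
  Over.homMk (pointLeft a x m ≫ pullback.fst (GIT.psi a x).left (lift x (𝟙 T)).left) (by
    have h1 : (G ⊗ T).hom = (GIT.psi a x).left ≫ (X ⊗ T).hom := (Over.w (GIT.psi a x)).symm
    have h2 : (lift x (𝟙 T)).left ≫ (X ⊗ T).hom = T.hom := Over.w (lift x (𝟙 T))
    show (pointLeft a x m ≫ pullback.fst (GIT.psi a x).left (lift x (𝟙 T)).left) ≫ (G ⊗ T).hom =
      W.hom ≫ T.hom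
    rw [h1, Category.assoc, pullback.condition_assoc, h2, ← pointLeft_snd a x m, Category.assoc])

theorem pointHom_left {W : Over T.left} (m : W ⟶ stabOver a x) :
    (pointHom a x m).left =
      pointLeft a x m ≫ pullback.fst (GIT.psi a x).left (lift x (𝟙 T)).left := rfl

theorem pointHom_psi {W : Over T.left} (m : W ⟶ stabOver a x) :
    pointHom a x m ≫ GIT.psi a x = toT W ≫ lift x (𝟙 T) := by
  apply Over.OverMorphism.ext
  show (pointLeft a x m ≫ pullback.fst (GIT.psi a x).left (lift x (𝟙 T)).left) ≫
    (GIT.psi a x).left = W.hom ≫ (lift x (𝟙 T)).left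
  rw [Category.assoc, pullback.condition, ← pointLeft_snd a x m, Category.assoc]

theorem pointHom_snd {W : Over T.left} (m : W ⟶ stabOver a x) :
    pointHom a x m ≫ snd G T = toT W := by
  have h := congrArg (fun t => t ≫ snd X T) (pointHom_psi a x m)
  simp only [Category.assoc, lift_snd, Category.comp_id] at h
  unfold GIT.psi at h
  rw [lift_snd] at h
  exact h

theorem pointHom_eq {W : Over T.left} (m : W ⟶ stabOver a x) :
    pointHom a x m = lift (pointHom a x m ≫ fst G T) (toT W) := by
  apply CartesianMonoidalCategory.hom_ext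
  · rw [lift_fst]
  · rw [lift_snd, pointHom_snd]

theorem pointHom_mem {W : Over T.left} (m : W ⟶ stabOver a x) :
    pointHom a x m ≫ fst G T ∈ stabSubgroup a x W := by
  rw [mem_stabSubgroup]
  have e1 : pointHom a x m ≫ GIT.psi a x =
      lift (lift (pointHom a x m ≫ fst G T) (toT W ≫ x) ≫ a.act) (toT W) := by
    conv_lhs => rw [pointHom_eq a x m]
    exact psi_fst a x _ _
  have h := congrArg (fun t => t ≫ fst X T) (e1.symm.trans (pointHom_psi a x m))
  simpa using h

theorem lift_psi_of_mem {W : Over T.left} (g : tilde W ⟶ G) (hg : g ∈ stabSubgroup a x W) :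
    lift g (toT W) ≫ GIT.psi a x = toT W ≫ lift x (𝟙 T) := by
  rw [psi_fst, (mem_stabSubgroup a x g).mp hg, comp_lift, Category.comp_id]

/-- The point of the stabilizer defined by a stabilizing point of `G`. -/
def ofMem {W : Over T.left} (g : tilde W ⟶ G) (hg : g ∈ stabSubgroup a x W) :
    W ⟶ stabOver a x :=
  Over.homMk (pullback.lift (lift g (toT W)).left W.hom (by
    have := congrArg (fun t => t.left) (lift_psi_of_mem a x g hg)
    exact this)) (pullback.lift_snd _ _ _)

theorem pointHom_ofMem {W : Over T.left} (g : tilde W ⟶ G) (hg : g ∈ stabSubgroup a x W) :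
    pointHom a x (ofMem a x g hg) = lift g (toT W) := by
  apply Over.OverMorphism.ext
  exact pullback.lift_fst _ _ _

/-- The stabilizer represents the stabilizer functor. -/
def representableBy :
    (stabFunctor a x ⋙ forget GrpCat).RepresentableBy (stabOver a x) where
  homEquiv {W} :=
    { toFun := fun m => ⟨pointHom a x m ≫ fst G T, pointHom_mem a x m⟩
      invFun := fun g => ofMem a x g.1 g.2
      left_inv := by
        intro m
        apply Over.OverMorphism.ext
        apply pullback.hom_ext
        · have h1 := congrArg (fun t => t.left) (pointHom_eq a x m)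
          exact (pullback.lift_fst _ _ _).trans h1.symm
        · exact (pullback.lift_snd _ _ _).trans (Over.w m).symm
      right_inv := by
        intro g
        apply Subtype.ext
        show pointHom a x (ofMem a x g.1 g.2) ≫ fst G T = g.1
        rw [pointHom_ofMem, lift_fst] }
  homEquiv_comp {W W'} f m := by
    apply Subtype.ext
    show pointHom a x (f ≫ m) ≫ fst G T = tildeMap f ≫ pointHom a x m ≫ fst G T
    rw [← Category.assoc]
    congr 1

/-- The group scheme structure on the stabilizer. -/
@[instance_reducible]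
def grpObj : GrpObj (stabOver a x) :=
  GrpObj.ofRepresentableBy (stabOver a x) (stabFunctor a x) (representableBy a x)

end Groth.Agent.Lib.Helper10.StabGrp
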