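import Mathlib
import Groth.Agent.Lib.Helper10.StabGrp1
import Groth.Agent.Lib.Helper10.HomSp1

/-!
# Stabilizers: base change, unit section, finiteness conditions
-/

set_option autoImplicit false
set_option backward.isDefEq.respectTransparency.types false
set_option maxHeartbeats 4000000
set_option synthInstance.maxHeartbeats 400000

universe u

open CategoryTheory CategoryTheory.Limits AlgebraicGeometry MonoidalCategory
  CartesianMonoidalCategory MonObj GrpObj Opposite

noncomputable section

namespace Groth.Agent.Lib.Helper10.StabGrp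

variable {S : Scheme.{u}} {G X : Over S} [GrpObj G] (a : AlgGrp.Action G X) {T : Over S}
  (x : T ⟶ X)

theorem psi_id_fst {W : Over S} (g : W ⟶ G) (y : W ⟶ X) :
    lift g y ≫ GIT.psi a (𝟙 X) = lift (lift g y ≫ a.act) y := by
  rw [psi_fst, Category.comp_id]

theorem whiskerLeft_psi : (G ◁ x) ≫ GIT.psi a (𝟙 X) = GIT.psi a x ≫ (X ◁ x) := by
  unfold GIT.psi
  apply CartesianMonoidalCategory.hom_ext
  · simp
  · simp

/-- The orbit map of `x` is the base change of the universal one. -/
theorem isPullback_whiskerLeft_psi :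
    IsPullback (G ◁ x) (GIT.psi a x) (GIT.psi a (𝟙 X)) (X ◁ x) := by
  refine HomSp.isPullback_of_lift _ _ _ _ (whiskerLeft_psi a x)
    (fun α β _ => lift (α ≫ fst G X) (β ≫ snd X T)) ?_ ?_ ?_
  · intro W α β h
    have h2 := congrArg (fun t => t ≫ snd X X) h
    simp only [Category.assoc, whiskerLeft_snd] at h2
    unfold GIT.psi at h2
    rw [lift_snd] at h2
    apply CartesianMonoidalCategory.hom_ext
    · simp
    · rw [Category.assoc, whiskerLeft_snd, lift_snd_assoc, h2, Category.assoc]
  · intro W α β h
    have h1 := congrArg (fun t => t ≫ fst X X) h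
    have h2 := congrArg (fun t => t ≫ snd X X) h
    simp only [Category.assoc, whiskerLeft_snd, whiskerLeft_fst] at h1 h2
    unfold GIT.psi at h1 h2
    rw [lift_snd] at h2
    rw [lift_fst, MonoidalCategory.whiskerLeft_id, Category.id_comp] at h1
    rw [psi_fst]
    apply CartesianMonoidalCategory.hom_ext
    · rw [lift_fst, ← h1, Category.assoc, ← h2]
      congr 1
      apply CartesianMonoidalCategory.hom_ext <;> simp
    · rw [lift_snd]
  · intro W m m' e1 e2
    apply CartesianMonoidalCategory.hom_ext
    · have := congrArg (fun t => t ≫ fst G X) e1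
      simpa using this
    · have := congrArg (fun t => t ≫ snd X T) e2
      unfold GIT.psi at this
      simpa using this

theorem lift_whiskerLeft : lift x (𝟙 T) ≫ (X ◁ x) = x ≫ lift (𝟙 X) (𝟙 X) := by
  apply CartesianMonoidalCategory.hom_ext <;> simp

/-- The graph of `x` is the base change of the diagonal. -/
theorem isPullback_graph :
    IsPullback x (lift x (𝟙 T)) (lift (𝟙 X) (𝟙 X)) (X ◁ x) := by
  refine HomSp.isPullback_of_lift _ _ _ _ (lift_whiskerLeft x).symm
    (fun α β _ => β ≫ snd X T) ?_ ?_ ?_
  · intro W α β h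
    have h2 := congrArg (fun t => t ≫ snd X X) h
    simp only [Category.assoc, whiskerLeft_snd, lift_snd, Category.comp_id] at h2
    rw [Category.assoc, ← h2]
  · intro W α β h
    have h1 := congrArg (fun t => t ≫ fst X X) h
    have h2 := congrArg (fun t => t ≫ snd X X) h
    simp only [Category.assoc, whiskerLeft_snd, whiskerLeft_fst, lift_snd, lift_fst,
      Category.comp_id] at h1 h2
    apply CartesianMonoidalCategory.hom_ext
    · rw [Category.assoc, lift_fst, Category.assoc, ← h2, h1]
    · rw [Category.assoc, lift_snd, Category.comp_id]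
  · intro W m m' _ e2
    have := congrArg (fun t => t ≫ snd X T) e2
    simpa using this

/-- The comparison from the stabilizer of `x` to the universal stabilizer. -/
def stabMap : pullback (GIT.psi a x).left (lift x (𝟙 T)).left ⟶
    pullback (GIT.psi a (𝟙 X)).left (lift (𝟙 X) (𝟙 X)).left :=
  pullback.lift
    (pullback.fst (GIT.psi a x).left (lift x (𝟙 T)).left ≫ (G ◁ x).left)
    (pullback.snd (GIT.psi a x).left (lift x (𝟙 T)).left ≫ x.left) (by
      have e1 : (G ◁ x).left ≫ (GIT.psi a (𝟙 X)).left = (GIT.psi a x).left ≫ (X ◁ x).left := by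
        rw [← Over.comp_left, ← Over.comp_left, whiskerLeft_psi]
      have e2 : (lift x (𝟙 T)).left ≫ (X ◁ x).left = x.left ≫ (lift (𝟙 X) (𝟙 X)).left := by
        rw [← Over.comp_left, ← Over.comp_left, lift_whiskerLeft]
      have hc := pullback.condition (f := (GIT.psi a x).left) (g := (lift x (𝟙 T)).left)
      rw [Category.assoc, e1, reassoc_of% hc, e2, Category.assoc])

theorem stabMap_fst : stabMap a x ≫ pullback.fst (GIT.psi a (𝟙 X)).left (lift (𝟙 X) (𝟙 X)).left =
    pullback.fst (GIT.psi a x).left (lift x (𝟙 T)).left ≫ (G ◁ x).left :=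
  pullback.lift_fst _ _ _

theorem stabMap_snd : stabMap a x ≫ GLinSh.stabTo a (𝟙 X) = GLinSh.stabTo a x ≫ x.left :=
  pullback.lift_snd _ _ _

/-- The stabilizer of `x` is the base change of the universal stabilizer. -/
theorem isPullback_stab :
    IsPullback (stabMap a x) (GLinSh.stabTo a x) (GLinSh.stabTo a (𝟙 X)) x.left := by
  have sqA : IsPullback (G ◁ x).left (GIT.psi a x).left (GIT.psi a (𝟙 X)).left (X ◁ x).left :=
    (isPullback_whiskerLeft_psi a x).map (Over.forget S)
  have sq0 : IsPullback (pullback.fst (GIT.psi a x).left (lift x (𝟙 T)).left)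
      (pullback.snd (GIT.psi a x).left (lift x (𝟙 T)).left) (GIT.psi a x).left
      (lift x (𝟙 T)).left := IsPullback.of_hasPullback _ _
  have big := sq0.paste_horiz sqA
  have e2 : (lift x (𝟙 T)).left ≫ (X ◁ x).left = x.left ≫ (lift (𝟙 X) (𝟙 X)).left := by
    rw [← Over.comp_left, ← Over.comp_left, lift_whiskerLeft]
  rw [e2] at big
  have right : IsPullback (pullback.fst (GIT.psi a (𝟙 X)).left (lift (𝟙 X) (𝟙 X)).left)
      (GLinSh.stabTo a (𝟙 X)) (GIT.psi a (𝟙 X)).left (lift (𝟙 X) (𝟙 X)).left :=
    IsPullback.of_hasPullback _ _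
  rw [← stabMap_fst a x] at big
  exact IsPullback.of_right big (stabMap_snd a x) right

/-- The unit section of the stabilizer. -/
def eStab : T.left ⟶ GLinSh.stab a x :=
  pullback.lift (lift (1 : T ⟶ G) (𝟙 T)).left (𝟙 T.left) (by
    have : lift (1 : T ⟶ G) (𝟙 T) ≫ GIT.psi a x = 𝟙 T ≫ lift x (𝟙 T) := by
      rw [psi_fst, Category.id_comp, AlgGrp.Action.lift_one_act, Category.id_comp]
    exact congrArg (fun t => t.left) this)

theorem eStab_stabTo : eStab a x ≫ GLinSh.stabTo a x = 𝟙 T.left := pullback.lift_snd _ _ _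

instance locallyOfFiniteType_psi [LocallyOfFiniteType G.hom] :
    LocallyOfFiniteType (GIT.psi a x).left := by
  have h1 : (GIT.psi a x).left ≫ (snd X T).left = (snd G T).left := by
    rw [← Over.comp_left]
    unfold GIT.psi
    rw [lift_snd]
  have h2 : LocallyOfFiniteType (snd G T).left := by
    rw [Over.snd_left]
    infer_instance
  rw [← h1] at h2
  exact locallyOfFiniteType_of_comp (GIT.psi a x).left (snd X T).left

instance locallyOfFiniteType_stabTo [LocallyOfFiniteType G.hom] :
    LocallyOfFiniteType (GLinSh.stabTo a x) := by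
  unfold GLinSh.stabTo
  haveI := locallyOfFiniteType_psi a x
  exact MorphismProperty.pullback_snd (P := @LocallyOfFiniteType) _ _ inferInstance

end Groth.Agent.Lib.Helper10.StabGrp
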