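import Mathlib
import Groth.Agent.Lib.Helper10.StabGrp2
import Groth.Agent.Lib.Helper14.ReducedEtale
import Groth.Agent.S0353

/-!
# Stabilizers of field-valued points in characteristic zero; free actions of étale groups
-/

set_option autoImplicit false
set_option backward.isDefEq.respectTransparency.types false
set_option maxHeartbeats 4000000
set_option synthInstance.maxHeartbeats 400000

universe u

open CategoryTheory CategoryTheory.Limits AlgebraicGeometry MonoidalCategory
  CartesianMonoidalCategory MonObj GrpObj Opposite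

noncomputable section

namespace Groth.Agent.Lib.Helper10.StabGrp

section CharZero

variable {k : Type u} [Field k] {G X : Over (Spec (CommRingCat.of k))} [GrpObj G]
  [LocallyOfFiniteType G.hom] (a : AlgGrp.Action G X)

/-- In characteristic zero, a universally injective stabilizer of a field-valued point is trivial. -/
theorem isIso_stabTo_of_charZero (K : Type u) [Field K] [CharZero K]
    (t : Spec (CommRingCat.of K) ⟶ X.left)
    (h : UniversallyInjective
      (GLinSh.stabTo a (Over.homMk t rfl : Over.mk (t ≫ X.hom) ⟶ X))) :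
    IsIso (GLinSh.stabTo a (Over.homMk t rfl : Over.mk (t ≫ X.hom) ⟶ X)) := by
  set x : Over.mk (t ≫ X.hom) ⟶ X := Over.homMk t rfl with hx
  letI : GrpObj (stabOver a x) := grpObj a x
  haveI : LocallyOfFiniteType (stabOver a x).hom := locallyOfFiniteType_stabTo a x
  have hsm : Smooth (stabOver a x).hom := Groth.Agent.S0353.result K (stabOver a x)
  have hsm' : Smooth (GLinSh.stabTo a x) := hsm
  haveI : IsReduced (Over.mk (t ≫ X.hom)).left :=
    (inferInstance : IsReduced (Spec (CommRingCat.of K)))
  haveI : IsReduced (GLinSh.stab a x) :=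
    Groth.Agent.Lib.Helper14.isReduced_of_smooth_scheme (GLinSh.stabTo a x)
  haveI : Subsingleton ↥(Over.mk (t ≫ X.hom)).left :=
    inferInstanceAs (Subsingleton (PrimeSpectrum K))
  haveI : IsClosedImmersion (eStab a x) :=
    isClosedImmersion_of_comp_eq_id (GLinSh.stabTo a x) (eStab a x) (eStab_stabTo a x)
  haveI : Surjective (eStab a x) := by
    refine ⟨fun p => ?_⟩
    obtain ⟨p0⟩ : Nonempty ↥(Over.mk (t ≫ X.hom)).left :=
      inferInstanceAs (Nonempty (PrimeSpectrum K))
    refine ⟨p0, ?_⟩
    apply (GLinSh.stabTo a x).injective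
    exact Subsingleton.elim _ _
  haveI : IsIso (eStab a x) := isIso_of_isClosedImmersion_of_surjective (eStab a x)
  have : GLinSh.stabTo a x = inv (eStab a x) := by
    rw [← cancel_epi (eStab a x), IsIso.hom_inv_id]
    exact eStab_stabTo a x
  rw [this]
  infer_instance

end CharZero

section General

variable {S : Scheme.{u}} {G X : Over S} [GrpObj G] (a : AlgGrp.Action G X)

/-- The fibre of the universal stabilizer over `x` is trivial as soon as the stabilizer of the
canonical point `Spec κ(x) → X` is. -/
theorem isIso_fiberToSpecResidueField (x : ↥X.left)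
    (h : IsIso (GLinSh.stabTo a
      (Over.homMk (X.left.fromSpecResidueField x) rfl :
        Over.mk (X.left.fromSpecResidueField x ≫ X.hom) ⟶ X))) :
    IsIso ((GLinSh.stabTo a (𝟙 X)).fiberToSpecResidueField x) := by
  set f : Over.mk (X.left.fromSpecResidueField x ≫ X.hom) ⟶ X :=
    Over.homMk (X.left.fromSpecResidueField x) rfl with hf
  have sq := isPullback_stab a f
  have e : sq.isoPullback.hom ≫ pullback.snd (GLinSh.stabTo a (𝟙 X)) f.left =
      GLinSh.stabTo a f := sq.isoPullback_hom_snd
  have e' : pullback.snd (GLinSh.stabTo a (𝟙 X)) f.left =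
      sq.isoPullback.inv ≫ GLinSh.stabTo a f := (Iso.eq_inv_comp _).mpr e
  show IsIso (pullback.snd (GLinSh.stabTo a (𝟙 X)) (X.left.fromSpecResidueField x))
  have : pullback.snd (GLinSh.stabTo a (𝟙 X)) (X.left.fromSpecResidueField x) =
      pullback.snd (GLinSh.stabTo a (𝟙 X)) f.left := rfl
  have hiso : IsIso (GLinSh.stabTo a f) := h
  rw [this, e']
  exact @IsIso.comp_isIso _ _ _ _ _ sq.isoPullback.inv (GLinSh.stabTo a f) inferInstance hiso

theorem universallyInjective_stabTo {T : Over S} (x : T ⟶ X)
    (h : UniversallyInjective (GLinSh.stabTo a (𝟙 X))) :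
    UniversallyInjective (GLinSh.stabTo a x) :=
  MorphismProperty.of_isPullback (P := @UniversallyInjective) (isPullback_stab a x) h

theorem stabTo_id_eq :
    GLinSh.stabTo a (𝟙 X) =
      pullback.fst (GIT.psi a (𝟙 X)).left (lift (𝟙 X) (𝟙 X)).left ≫ (snd G X).left := by
  have h1 : (GIT.psi a (𝟙 X)).left ≫ (snd X X).left = (snd G X).left := by
    rw [← Over.comp_left]
    unfold GIT.psi
    rw [lift_snd]
  have h2 : (lift (𝟙 X) (𝟙 X)).left ≫ (snd X X).left = 𝟙 X.left := by
    rw [← Over.comp_left, lift_snd]
    rfl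
  unfold GLinSh.stabTo
  rw [← h1, pullback.condition_assoc, h2, Category.comp_id]

/-- For an étale group acting on a separated scheme, a universally injective stabilizer is a
monomorphism. -/
theorem mono_stabTo_of_etale [Etale G.hom] [IsSeparated X.hom]
    (h : UniversallyInjective (GLinSh.stabTo a (𝟙 X))) : Mono (GLinSh.stabTo a (𝟙 X)) := by
  haveI : IsClosedImmersion (lift (𝟙 X) (𝟙 X)).left := by
    have : (lift (𝟙 X) (𝟙 X)).left = pullback.diagonal X.hom := by
      rw [Over.lift_left]
      rfl
    rw [this]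
    infer_instance
  haveI : Etale (snd G X).left := by
    rw [Over.snd_left]
    infer_instance
  haveI hfu1 : FormallyUnramified
      (pullback.fst (GIT.psi a (𝟙 X)).left (lift (𝟙 X) (𝟙 X)).left) := by
    haveI : IsIso (pullback.diagonal
        (pullback.fst (GIT.psi a (𝟙 X)).left (lift (𝟙 X) (𝟙 X)).left)) :=
      (pullback.isIso_diagonal_iff _).mpr inferInstance
    infer_instance
  haveI hfu2 : FormallyUnramified (snd G X).left := inferInstance
  haveI : FormallyUnramified (GLinSh.stabTo a (𝟙 X)) := by
    rw [stabTo_id_eq]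
    exact MorphismProperty.comp_mem _ _ _ hfu1 hfu2
  haveI : LocallyOfFiniteType (GLinSh.stabTo a (𝟙 X)) := by
    rw [stabTo_id_eq]
    haveI h1 : LocallyOfFiniteType
      (pullback.fst (GIT.psi a (𝟙 X)).left (lift (𝟙 X) (𝟙 X)).left) := inferInstance
    haveI h2 : LocallyOfFiniteType (snd G X).left := inferInstance
    exact MorphismProperty.comp_mem _ _ _ h1 h2
  haveI : IsOpenImmersion (pullback.diagonal (GLinSh.stabTo a (𝟙 X))) := inferInstance
  haveI : Surjective (pullback.diagonal (GLinSh.stabTo a (𝟙 X))) :=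
    (UniversallyInjective.iff_diagonal _).mp h
  haveI : IsIso (pullback.diagonal (GLinSh.stabTo a (𝟙 X))) := by
    apply (isIso_iff_isOpenImmersion_and_epi_base _).mpr
    exact ⟨inferInstance, (TopCat.epi_iff_surjective _).mpr
      (pullback.diagonal (GLinSh.stabTo a (𝟙 X))).surjective⟩
  exact (pullback.isIso_diagonal_iff _).mp inferInstance

/-- A monomorphic universal stabilizer is an isomorphism. -/
theorem isIso_stabTo_of_mono (h : Mono (GLinSh.stabTo a (𝟙 X))) :
    IsIso (GLinSh.stabTo a (𝟙 X)) := by
  have e := eStab_stabTo a (𝟙 X)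
  have e2 : GLinSh.stabTo a (𝟙 X) ≫ eStab a (𝟙 X) = 𝟙 _ := by
    rw [← cancel_mono (GLinSh.stabTo a (𝟙 X)), Category.assoc, e, Category.comp_id,
      Category.id_comp]
  exact ⟨⟨eStab a (𝟙 X), e2, e⟩⟩

end General

end Groth.Agent.Lib.Helper10.StabGrp
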