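import Mathlib

/-!
# Veronese subrings: the ring isomorphisms `B_(g) ≃ A_(φ g)`
-/

set_option autoImplicit false
set_option linter.unusedSectionVars false
set_option linter.style.haveILetI false
set_option backward.isDefEq.respectTransparency.types false
set_option maxHeartbeats 4000000
set_option synthInstance.maxHeartbeats 400000
universe u
open CategoryTheory CategoryTheory.Limits AlgebraicGeometry Opposite

namespace Groth.Agent.Lib.Helper10.Ver

open HomogeneousLocalization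

/-- lifting a ring hom through an injective ring hom whose range contains its image. -/
theorem exists_ringHom_lift {S S' T : Type*} [CommRing S] [CommRing S'] [CommRing T]
    (ι : S' →+* T) (hι : Function.Injective ι) (ψ : S →+* T) (h : ∀ s, ∃ s', ι s' = ψ s) :
    ∃ θ : S →+* S', ι.comp θ = ψ := by
  choose f hf using h
  refine ⟨{ toFun := f, map_one' := hι ?_, map_mul' := fun a b => hι ?_, map_zero' := hι ?_,
            map_add' := fun a b => hι ?_ }, RingHom.ext fun s => hf s⟩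
  · rw [hf, map_one, map_one]
  · rw [hf, map_mul, map_mul, hf, hf]
  · rw [hf, map_zero, map_zero]
  · rw [hf, map_add, map_add, hf, hf]

section
variable {R A : Type u} [CommRing R] [CommRing A] [Algebra R A] (𝒜 : ℕ → Submodule R A)
  [GradedAlgebra 𝒜]
  {B : Type u} [CommRing B] [Algebra R B] (ℬ : ℕ → Submodule R B) [GradedAlgebra ℬ]
  (d : ℕ) (φ : B →ₐ[R] A)
  (hdeg : ∀ n : ℕ, Submodule.map φ.toLinearMap (ℬ n) = 𝒜 (n * d))

include hdeg

theorem φ_mem {n : ℕ} {b : B} (hb : b ∈ ℬ n) : φ b ∈ 𝒜 (n * d) :=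
  (hdeg n).le (Submodule.mem_map_of_mem hb)

theorem φ_mem_smul {n k : ℕ} {b : B} (hb : b ∈ ℬ (k • n)) : φ b ∈ 𝒜 (k • (n * d)) := by
  have := φ_mem 𝒜 ℬ d φ hdeg hb
  rwa [smul_eq_mul, mul_assoc] at this

theorem exists_preimage {n : ℕ} {a : A} (ha : a ∈ 𝒜 (n * d)) : ∃ b ∈ ℬ n, φ b = a := by
  rw [← hdeg n] at ha
  obtain ⟨b, hb, rfl⟩ := ha
  exact ⟨b, hb, rfl⟩

theorem awayMap_val_mk {n : ℕ} {g : B} (hg : g ∈ ℬ n) (k : ℕ) (b : B) (hb : b ∈ ℬ (k • n)) :
    Localization.awayMap φ.toRingHom g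
      (algebraMap (Away ℬ g) (Localization.Away g) (Away.mk ℬ hg k b hb)) =
    algebraMap (Away 𝒜 (φ g)) (Localization.Away (φ g))
      (Away.mk 𝒜 (φ_mem 𝒜 ℬ d φ hdeg hg) k (φ b) (φ_mem_smul 𝒜 ℬ d φ hdeg hb)) := by
  rw [HomogeneousLocalization.algebraMap_apply, HomogeneousLocalization.algebraMap_apply,
    Away.val_mk, Away.val_mk, Localization.mk_eq_mk', Localization.mk_eq_mk']
  unfold Localization.awayMap IsLocalization.Away.map
  rw [IsLocalization.map_mk']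
  congr 1
  exact Subtype.ext (map_pow φ g k)

theorem exists_θ {n : ℕ} {g : B} (hg : g ∈ ℬ n) :
    ∃ θ : Away ℬ g →+* Away 𝒜 (φ g),
      (algebraMap (Away 𝒜 (φ g)) (Localization.Away (φ g))).comp θ =
        (Localization.awayMap φ.toRingHom g).comp
          (algebraMap (Away ℬ g) (Localization.Away g)) := by
  apply exists_ringHom_lift
  · exact HomogeneousLocalization.val_injective _
  · intro x
    obtain ⟨k, b, hb, rfl⟩ := Away.mk_surjective ℬ hg x
    exact ⟨_, (awayMap_val_mk 𝒜 ℬ d φ hdeg hg k b hb).symm⟩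

/-- the ring homomorphism `B_(g) → A_(φ g)`. -/
noncomputable def θ {n : ℕ} {g : B} (hg : g ∈ ℬ n) : Away ℬ g →+* Away 𝒜 (φ g) :=
  (exists_θ 𝒜 ℬ d φ hdeg hg).choose

theorem val_θ {n : ℕ} {g : B} (hg : g ∈ ℬ n) :
    (algebraMap (Away 𝒜 (φ g)) (Localization.Away (φ g))).comp (θ 𝒜 ℬ d φ hdeg hg) =
      (Localization.awayMap φ.toRingHom g).comp
        (algebraMap (Away ℬ g) (Localization.Away g)) :=
  (exists_θ 𝒜 ℬ d φ hdeg hg).choose_spec

theorem θ_unique {n : ℕ} {g : B} (hg : g ∈ ℬ n) (θ' : Away ℬ g →+* Away 𝒜 (φ g))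
    (h : (algebraMap (Away 𝒜 (φ g)) (Localization.Away (φ g))).comp θ' =
      (Localization.awayMap φ.toRingHom g).comp
        (algebraMap (Away ℬ g) (Localization.Away g))) :
    θ' = θ 𝒜 ℬ d φ hdeg hg := by
  ext x
  have h1 := congrArg (fun ψ => ψ x) h
  have h2 := congrArg (fun ψ => ψ x) (val_θ 𝒜 ℬ d φ hdeg hg)
  exact h1.trans h2.symm

theorem θ_mk {n : ℕ} {g : B} (hg : g ∈ ℬ n) (k : ℕ) (b : B) (hb : b ∈ ℬ (k • n)) :
    θ 𝒜 ℬ d φ hdeg hg (Away.mk ℬ hg k b hb) =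
      Away.mk 𝒜 (φ_mem 𝒜 ℬ d φ hdeg hg) k (φ b) (φ_mem_smul 𝒜 ℬ d φ hdeg hb) := by
  apply HomogeneousLocalization.val_injective
  have h2 := congrArg (fun ψ => ψ (Away.mk ℬ hg k b hb)) (val_θ 𝒜 ℬ d φ hdeg hg)
  exact h2.trans (awayMap_val_mk 𝒜 ℬ d φ hdeg hg k b hb)

theorem θ_surjective {n : ℕ} {g : B} (hg : g ∈ ℬ n) :
    Function.Surjective (θ 𝒜 ℬ d φ hdeg hg) := by
  intro y
  obtain ⟨k, a, ha, rfl⟩ := Away.mk_surjective 𝒜 (φ_mem 𝒜 ℬ d φ hdeg hg) y
  have ha' : a ∈ 𝒜 ((k • n) * d) := by rwa [smul_eq_mul, mul_assoc]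
  obtain ⟨b, hb, rfl⟩ := exists_preimage 𝒜 ℬ d φ hdeg ha'
  exact ⟨Away.mk ℬ hg k b hb, θ_mk 𝒜 ℬ d φ hdeg hg k b hb⟩

theorem θ_injective (hφ : Function.Injective φ) {n : ℕ} {g : B} (hg : g ∈ ℬ n) :
    Function.Injective (θ 𝒜 ℬ d φ hdeg hg) := by
  have h1 : Function.Injective ((Localization.awayMap φ.toRingHom g).comp
        (algebraMap (Away ℬ g) (Localization.Away g))) := by
    rw [RingHom.coe_comp]
    refine Function.Injective.comp ?_ (HomogeneousLocalization.val_injective _)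
    rw [Localization.awayMap_injective_iff]
    intro a ha
    have : a = 0 := hφ (by rw [map_zero]; exact ha)
    exact ⟨0, by rw [this, mul_zero]⟩
  rw [← val_θ 𝒜 ℬ d φ hdeg hg, RingHom.coe_comp] at h1
  exact Function.Injective.of_comp h1

/-- the ring isomorphism `B_(g) ≃ A_(φ g)`. -/
noncomputable def θe (hφ : Function.Injective φ) {n : ℕ} {g : B} (hg : g ∈ ℬ n) :
    Away ℬ g ≃+* Away 𝒜 (φ g) :=
  RingEquiv.ofBijective (θ 𝒜 ℬ d φ hdeg hg)
    ⟨θ_injective 𝒜 ℬ d φ hdeg hφ hg, θ_surjective 𝒜 ℬ d φ hdeg hg⟩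

/-- naturality of `θ` with respect to the transition maps. -/
theorem θ_comp_awayMap {n n' : ℕ} {g g' x : B} (hg : g ∈ ℬ n) (hg' : g' ∈ ℬ n')
    (hx : x = g * g') (hx' : φ x = φ g * φ g') (hxm : x ∈ ℬ (n + n')) :
    (θ 𝒜 ℬ d φ hdeg hxm).comp (awayMap ℬ hg' hx) =
      (awayMap 𝒜 (φ_mem 𝒜 ℬ d φ hdeg hg') hx').comp (θ 𝒜 ℬ d φ hdeg hg) := by
  ext y
  obtain ⟨k, b, hb, rfl⟩ := Away.mk_surjective ℬ hg y
  rw [RingHom.comp_apply, RingHom.comp_apply, awayMap_mk, θ_mk, θ_mk, awayMap_mk]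
  rw [Away.val_mk, Away.val_mk]
  congr 1
  rw [map_mul, map_pow]

/-- `φ` is compatible with the decompositions. -/
theorem decompose_φ (hd : 0 < d) (b : B) (k : ℕ) :
    (DirectSum.decompose 𝒜 (φ b) (k * d) : A) = φ (DirectSum.decompose ℬ b k) := by
  induction b using DirectSum.Decomposition.inductionOn ℬ with
  | zero => simp
  | @homogeneous i m =>
    have hm : φ m ∈ 𝒜 (i * d) := φ_mem 𝒜 ℬ d φ hdeg m.2
    by_cases hik : i = k
    · subst hik
      rw [DirectSum.decompose_of_mem_same 𝒜 hm, DirectSum.decompose_of_mem_same ℬ m.2]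
    · have hne : i * d ≠ k * d := fun h => hik (Nat.eq_of_mul_eq_mul_right hd h)
      rw [DirectSum.decompose_of_mem_ne 𝒜 hm hne, DirectSum.decompose_of_mem_ne ℬ m.2 hik,
        map_zero]
  | add a b iha ihb =>
    rw [map_add, DirectSum.decompose_add, DirectSum.decompose_add, DirectSum.add_apply,
      DirectSum.add_apply, Submodule.coe_add, Submodule.coe_add, map_add, iha, ihb]

end

end Groth.Agent.Lib.Helper10.Ver
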