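import Mathlib
import Groth.Agent.Lib.Helper10.VerAlg

/-!
# Composite valuation rings and domination (algebra for the refined valuative criterion)
-/

set_option autoImplicit false
set_option linter.unusedSectionVars false
set_option linter.style.haveILetI false
set_option backward.isDefEq.respectTransparency.types false
set_option maxHeartbeats 4000000
set_option synthInstance.maxHeartbeats 400000
universe u

namespace Groth.Agent.Lib.Helper10.ValCrit

open IsLocalRing

section Composite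
variable {L : Type u} [Field L] (B : ValuationSubring L) (R₁ : ValuationSubring (ResidueField B))

theorem aux_mem_or_inv_mem (x : L) (hx : x ∈ B) :
    (∃ hb : x ∈ B, residue B ⟨x, hb⟩ ∈ R₁) ∨ (∃ hb : x⁻¹ ∈ B, residue B ⟨x⁻¹, hb⟩ ∈ R₁) := by
  by_cases hu : IsUnit (⟨x, hx⟩ : B)
  · obtain ⟨u, hu'⟩ := hu
    have h1 : ((u⁻¹ : Bˣ) : B) * ⟨x, hx⟩ = 1 := by rw [← hu']; exact u.inv_mul
    have h2 : (((u⁻¹ : Bˣ) : B) : L) = x⁻¹ := by
      have := congrArg (fun b : B => (b : L)) h1
      simp only [MulMemClass.coe_mul, OneMemClass.coe_one] at this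
      exact eq_inv_of_mul_eq_one_left this
    have h3 : residue B ((u⁻¹ : Bˣ) : B) * residue B ⟨x, hx⟩ = 1 := by
      rw [← map_mul, h1, map_one]
    rcases R₁.mem_or_inv_mem (residue B ⟨x, hx⟩) with h | h
    · exact Or.inl ⟨hx, h⟩
    · refine Or.inr ⟨h2 ▸ ((u⁻¹ : Bˣ) : B).2, ?_⟩
      have h4 : (residue B ⟨x, hx⟩)⁻¹ = residue B ((u⁻¹ : Bˣ) : B) :=
        (eq_inv_of_mul_eq_one_left h3).symm
      rw [h4] at h
      convert h using 2
      exact Subtype.ext h2.symm
  · refine Or.inl ⟨hx, ?_⟩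
    have : residue B ⟨x, hx⟩ = 0 := (residue_eq_zero_iff _).mpr hu
    rw [this]
    exact R₁.zero_mem

/-- the composite valuation ring: elements of `B` whose residue lies in `R₁`. -/
noncomputable def comp : ValuationSubring L where
  carrier := {x | ∃ hb : x ∈ B, residue B ⟨x, hb⟩ ∈ R₁}
  mul_mem' := by
    rintro a b ⟨ha, ha'⟩ ⟨hb, hb'⟩
    refine ⟨mul_mem ha hb, ?_⟩
    have : (⟨a * b, mul_mem ha hb⟩ : B) = ⟨a, ha⟩ * ⟨b, hb⟩ := rfl
    rw [this, map_mul]
    exact mul_mem ha' hb'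
  one_mem' := by
    refine ⟨B.one_mem, ?_⟩
    have : (⟨1, B.one_mem⟩ : B) = 1 := rfl
    rw [this, map_one]
    exact R₁.one_mem
  add_mem' := by
    rintro a b ⟨ha, ha'⟩ ⟨hb, hb'⟩
    refine ⟨add_mem ha hb, ?_⟩
    have : (⟨a + b, add_mem ha hb⟩ : B) = ⟨a, ha⟩ + ⟨b, hb⟩ := rfl
    rw [this, map_add]
    exact add_mem ha' hb'
  zero_mem' := by
    refine ⟨B.zero_mem, ?_⟩
    have : (⟨0, B.zero_mem⟩ : B) = 0 := rfl
    rw [this, map_zero]
    exact R₁.zero_mem
  neg_mem' := by
    rintro a ⟨ha, ha'⟩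
    refine ⟨neg_mem ha, ?_⟩
    have : (⟨-a, neg_mem ha⟩ : B) = -⟨a, ha⟩ := rfl
    rw [this, map_neg]
    exact neg_mem ha'
  mem_or_inv_mem' := by
    intro x
    rcases B.mem_or_inv_mem x with hx | hx
    · exact aux_mem_or_inv_mem B R₁ x hx
    · rcases aux_mem_or_inv_mem B R₁ x⁻¹ hx with h | h
      · exact Or.inr h
      · rw [inv_inv] at h
        exact Or.inl h

theorem mem_comp_iff (x : L) : x ∈ comp B R₁ ↔ ∃ hb : x ∈ B, residue B ⟨x, hb⟩ ∈ R₁ := Iff.rfl

theorem comp_le : comp B R₁ ≤ B := fun _ hx => hx.fst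

/-- the inclusion `C → B`. -/
noncomputable def inclCB : comp B R₁ →+* B := Subring.inclusion (comp_le B R₁)

@[simp] theorem coe_inclCB (c : comp B R₁) : ((inclCB B R₁ c : B) : L) = c := rfl

theorem subtype_comp_inclCB : B.subtype.comp (inclCB B R₁) = (comp B R₁).subtype := rfl

/-- the reduction map `C → R₁`. -/
noncomputable def ρ : comp B R₁ →+* R₁ :=
  ((residue B).comp (inclCB B R₁)).codRestrict R₁.toSubring (fun c => c.2.snd)

theorem subtype_comp_ρ : R₁.subtype.comp (ρ B R₁) = (residue B).comp (inclCB B R₁) := rfl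

end Composite

/-- domination: a valuation ring of `F₁` dominating `R₀` meets `F₀` in `R₀`. -/
theorem mem_of_map_mem {F₀ F₁ : Type u} [Field F₀] [Field F₁] (j : F₀ →+* F₁)
    (R₀ : ValuationSubring F₀) (R₁ : ValuationSubring F₁) (h01 : ∀ r : R₀, j r ∈ R₁)
    (hloc : IsLocalHom ((j.comp R₀.subtype).codRestrict R₁.toSubring h01))
    (t : F₀) (ht : j t ∈ R₁) : t ∈ R₀ := by
  by_contra hne
  have hs : t⁻¹ ∈ R₀ := (R₀.mem_or_inv_mem t).resolve_left hne
  have ht0 : t ≠ 0 := fun h => hne (h ▸ R₀.zero_mem)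
  have hunit : IsUnit ((j.comp R₀.subtype).codRestrict R₁.toSubring h01 ⟨t⁻¹, hs⟩) := by
    refine IsUnit.of_mul_eq_one ⟨j t, ht⟩ ?_
    apply Subtype.ext
    change j t⁻¹ * j t = 1
    rw [← map_mul, inv_mul_cancel₀ ht0, map_one]
  have hu2 : IsUnit (⟨t⁻¹, hs⟩ : R₀) := hloc.map_nonunit _ hunit
  obtain ⟨u, hu⟩ := hu2
  apply hne
  have h1 : ((u⁻¹ : R₀ˣ) : R₀) * ⟨t⁻¹, hs⟩ = 1 := by rw [← hu]; exact u.inv_mul
  have h2 : (((u⁻¹ : R₀ˣ) : R₀) : F₀) = t := by
    have := congrArg (fun b : R₀ => (b : F₀)) h1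
    simp only [MulMemClass.coe_mul, OneMemClass.coe_one] at this
    have h3 := eq_inv_of_mul_eq_one_left this
    rwa [inv_inv] at h3
  exact h2 ▸ ((u⁻¹ : R₀ˣ) : R₀).2

section FromValuationRing
variable (R K : Type u) [CommRing R] [IsDomain R] [ValuationRing R] [Field K] [Algebra R K]
  [IsFractionRing R K]

/-- the valuation subring of `K` attached to a valuation ring `R` with fraction field `K`. -/
noncomputable def subringOf : ValuationSubring K := (ValuationRing.valuation R K).valuationSubring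

theorem mem_subringOf_iff (x : K) : x ∈ subringOf R K ↔ ∃ r : R, algebraMap R K r = x := by
  unfold subringOf
  rw [Valuation.mem_valuationSubring_iff]
  exact ValuationRing.mem_integer_iff R K x

variable {F : Type u} [Field F] (ι : F →+* K)

/-- the ring homomorphism `R ∩ F → R`. -/
theorem exists_toR : ∃ r₀ : ((subringOf R K).comap ι) →+* R,
    (algebraMap R K).comp r₀ = ι.comp ((subringOf R K).comap ι).subtype := by
  apply Groth.Agent.Lib.Helper10.Ver.exists_ringHom_lift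
  · exact IsFractionRing.injective R K
  · intro s
    obtain ⟨r, hr⟩ := (mem_subringOf_iff R K _).mp s.2
    exact ⟨r, hr⟩

end FromValuationRing

end Groth.Agent.Lib.Helper10.ValCrit
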