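import Mathlib
import Groth.Agent.Lib.Helper10.ValCritAlg
import Groth.Prelude.Def_W4c2submetdescSubtr

/-!
# A valuation ring through a chain of three points of a scheme
-/

set_option autoImplicit false
set_option linter.unusedSectionVars false
set_option linter.style.haveILetI false
set_option backward.isDefEq.respectTransparency.types false
set_option maxHeartbeats 4000000
set_option synthInstance.maxHeartbeats 400000
universe u

open CategoryTheory CategoryTheory.Limits AlgebraicGeometry Opposite

namespace Groth.Agent.Lib.Helper10.SubtrLib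

open IsLocalRing ValCrit

/-- For a chain `y' ⤳ y ⤳ y0` of points of a scheme there is a valuation ring `V` and a morphism
`Spec V ⟶ S` sending the generic point to `y'`, and points `t ⤳ t0` to `y` and `y0`. -/
theorem exists_valuationRing_chain {S : Scheme.{u}} {y' y y0 : S} (h1 : y' ⤳ y) (h2 : y ⤳ y0) :
    ∃ (V : Type u) (_ : CommRing V) (_ : IsDomain V) (_ : ValuationRing V)
      (g : Spec (CommRingCat.of V) ⟶ S) (t t0 : Spec (CommRingCat.of V)),
      t ⤳ t0 ∧ g (⟨⊥, Ideal.isPrime_bot⟩ : PrimeSpectrum V) = y' ∧ g t = y ∧ g t0 = y0 := by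
  -- first valuation ring
  let f1 : S.presheaf.stalk y ⟶ S.residueField y' :=
    S.presheaf.stalkSpecializes h1 ≫ S.residue y'
  obtain ⟨V1, hV1, hV1loc⟩ := exists_factor_valuationRing f1.hom
  let a1 : S.presheaf.stalk y →+* V1 := f1.hom.codRestrict _ hV1
  have : IsLocalHom a1 := hV1loc
  -- second valuation ring
  let f2 : S.presheaf.stalk y0 →+* ResidueField V1 :=
    ((residue V1).comp a1).comp (S.presheaf.stalkSpecializes h2).hom
  obtain ⟨V2, hV2, hV2loc⟩ := exists_factor_valuationRing f2
  let a2 : S.presheaf.stalk y0 →+* V2 := f2.codRestrict _ hV2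
  have : IsLocalHom a2 := hV2loc
  -- the composite
  let V := comp V1 V2
  have hmem : ∀ σ : S.presheaf.stalk y0,
      f1.hom ((S.presheaf.stalkSpecializes h2).hom σ) ∈ comp V1 V2 := by
    intro σ
    refine (mem_comp_iff V1 V2 _).mpr ⟨hV1 _, ?_⟩
    exact hV2 σ
  let ψ : S.presheaf.stalk y0 →+* V :=
    (f1.hom.comp (S.presheaf.stalkSpecializes h2).hom).codRestrict (comp V1 V2).toSubring hmem
  have e1 : (inclCB V1 V2).comp ψ = a1.comp (S.presheaf.stalkSpecializes h2).hom := rfl
  have e2 : (ρ V1 V2).comp ψ = a2 := rfl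
  have e0 : (comp V1 V2).subtype.comp ψ = f1.hom.comp (S.presheaf.stalkSpecializes h2).hom := rfl
  let g : Spec (CommRingCat.of V) ⟶ S := Spec.map (CommRingCat.ofHom ψ) ≫ S.fromSpecStalk y0
  let t : Spec (CommRingCat.of V) := Spec.map (CommRingCat.ofHom (inclCB V1 V2)) (closedPoint V1)
  let t0 : Spec (CommRingCat.of V) := Spec.map (CommRingCat.ofHom (ρ V1 V2)) (closedPoint V2)
  refine ⟨V, inferInstance, inferInstance, inferInstance, g, t, t0, ?_, ?_, ?_, ?_⟩
  · -- t ⤳ t0
    refine (PrimeSpectrum.le_iff_specializes (R := V) t t0).mp ?_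
    intro x hx
    change inclCB V1 V2 x ∈ maximalIdeal V1 at hx
    change ρ V1 V2 x ∈ maximalIdeal V2
    have h0 : residue V1 (inclCB V1 V2 x) = 0 := (residue_eq_zero_iff _).mpr hx
    have h3 : (V2.subtype.comp (ρ V1 V2)) x = 0 := by
      rw [subtype_comp_ρ]; exact h0
    have h4 : ρ V1 V2 x = 0 := Subtype.ext h3
    rw [h4]; exact zero_mem _
  · -- generic point
    have hK : Spec.map (CommRingCat.ofHom (comp V1 V2).subtype) ≫ g = S.fromSpecResidueField y' := by
      rw [Scheme.fromSpecResidueField, ← Scheme.SpecMap_stalkSpecializes_fromSpecStalk h1,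
        ← Scheme.SpecMap_stalkSpecializes_fromSpecStalk h2]
      simp only [g, ← Spec.map_comp_assoc]
      rfl
    have hpt : (Spec.map (CommRingCat.ofHom (comp V1 V2).subtype))
        (closedPoint (S.residueField y')) = (⟨⊥, Ideal.isPrime_bot⟩ : PrimeSpectrum V) := by
      apply PrimeSpectrum.ext
      ext x
      change (comp V1 V2).subtype x ∈ maximalIdeal (S.residueField y') ↔ x ∈ (⊥ : Ideal V)
      rw [IsLocalRing.maximalIdeal_eq_bot]
      simp only [Ideal.mem_bot]
      exact ⟨fun h => Subtype.ext h, fun h => by rw [h]; rfl⟩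
    rw [← hpt, ← Scheme.Hom.comp_apply, hK, Scheme.fromSpecResidueField_apply]
  · -- middle point
    have hm : Spec.map (CommRingCat.ofHom (inclCB V1 V2)) ≫ g =
        Spec.map (CommRingCat.ofHom a1) ≫ S.fromSpecStalk y := by
      rw [← Scheme.SpecMap_stalkSpecializes_fromSpecStalk h2]
      simp only [g, ← Spec.map_comp_assoc]
      rfl
    change (Spec.map (CommRingCat.ofHom (inclCB V1 V2)) ≫ g) (closedPoint V1) = y
    rw [hm, Scheme.Hom.comp_apply]
    have : Spec.map (CommRingCat.ofHom a1) (closedPoint V1) = closedPoint (S.presheaf.stalk y) :=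
      comap_closedPoint (S := V1) a1
    rw [this, S.fromSpecStalk_closedPoint]
  · -- closed point
    have hm : Spec.map (CommRingCat.ofHom (ρ V1 V2)) ≫ g =
        Spec.map (CommRingCat.ofHom a2) ≫ S.fromSpecStalk y0 := by
      simp only [g, ← Spec.map_comp_assoc]
      rfl
    change (Spec.map (CommRingCat.ofHom (ρ V1 V2)) ≫ g) (closedPoint V2) = y0
    rw [hm, Scheme.Hom.comp_apply]
    have : Spec.map (CommRingCat.ofHom a2) (closedPoint V2) = closedPoint (S.presheaf.stalk y0) :=
      comap_closedPoint (S := V2) a2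
    rw [this, S.fromSpecStalk_closedPoint]

end Groth.Agent.Lib.Helper10.SubtrLib
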