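import Mathlib
import Groth.Agent.Lib.Helper10.Subtr1

/-!
# Chain lifting for universally S-subtrusive morphisms
-/

set_option autoImplicit false
set_option linter.unusedSectionVars false
set_option linter.style.haveILetI false
set_option backward.isDefEq.respectTransparency.types false
set_option maxHeartbeats 4000000
set_option synthInstance.maxHeartbeats 400000
universe u

open CategoryTheory CategoryTheory.Limits AlgebraicGeometry Opposite

namespace Groth.Agent.Lib.Helper10.SubtrLib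

/-- Going down over a valuation ring: between a prime lying over `0` and a larger prime there is
a prime over any given prime below the contraction of the larger one. -/
theorem exists_prime_between {V C : Type u} [CommRing V] [IsDomain V] [ValuationRing V]
    [CommRing C] (φ : V →+* C) (P' P0 : Ideal C) [P'.IsPrime] [P0.IsPrime] (hle : P' ≤ P0)
    (hgen : P'.comap φ = ⊥) (q : Ideal V) [q.IsPrime] (hq : q ≤ P0.comap φ) :
    ∃ Q : Ideal C, Q.IsPrime ∧ P' ≤ Q ∧ Q ≤ P0 ∧ Q.comap φ = q := by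
  let D := C ⧸ P'
  let ψ : V →+* D := (Ideal.Quotient.mk P').comp φ
  letI : Algebra V D := ψ.toAlgebra
  have hinj : Function.Injective ψ := by
    rw [injective_iff_map_eq_zero]
    intro v hv
    have : v ∈ P'.comap φ := by
      rw [Ideal.mem_comap]; exact Ideal.Quotient.eq_zero_iff_mem.mp hv
    rw [hgen] at this; exact this
  have htors : Submodule.torsion V D = ⊥ := by
    rw [eq_bot_iff]
    rintro d ⟨⟨v, hv⟩, hvd⟩
    have hv0 : v ≠ 0 := nonZeroDivisors.ne_zero hv
    have h3 : ψ v * d = 0 := by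
      have : v • d = 0 := hvd
      rwa [Algebra.smul_def] at this
    rcases mul_eq_zero.mp h3 with h | h
    · exact absurd (hinj (by rw [h, map_zero])) hv0
    · exact h
  haveI : Module.Flat V D := Module.Flat.flat_iff_torsion_eq_bot_of_isBezout.mpr htors
  let Q0 : Ideal D := P0.map (Ideal.Quotient.mk P')
  haveI hQ0 : Q0.IsPrime :=
    Ideal.map_isPrime_of_surjective Ideal.Quotient.mk_surjective (by rwa [Ideal.mk_ker])
  have hcomapQ0 : Q0.comap (Ideal.Quotient.mk P') = P0 := by
    rw [Ideal.comap_map_of_surjective _ Ideal.Quotient.mk_surjective, ← RingHom.ker_eq_comap_bot,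
      Ideal.mk_ker, sup_eq_left.mpr hle]
  have hq' : q ≤ Q0.under V := by
    intro v hv
    have := hq hv
    rw [Ideal.mem_comap] at this
    change ψ v ∈ Q0
    exact Ideal.mem_map_of_mem _ this
  obtain ⟨P, hPQ0, hPprime, hPover⟩ :=
    Ideal.exists_ideal_le_liesOver_of_le (p := q) (q := Q0.under V) Q0 hq'
  refine ⟨P.comap (Ideal.Quotient.mk P'), inferInstance, ?_, ?_, ?_⟩
  · intro x hx
    rw [Ideal.mem_comap, Ideal.Quotient.eq_zero_iff_mem.mpr hx]
    exact zero_mem _
  · rw [← hcomapQ0]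
    exact Ideal.comap_mono hPQ0
  · have := hPover.over
    rw [this]
    rfl

/-- Chains of three points lift along universally S-subtrusive morphisms. -/
theorem chain_lift {X Y : Scheme.{u}} (f : X ⟶ Y) (hf : Subtr.UnivSSubtrusive f) {y' y y0 : Y}
    (h1 : y' ⤳ y) (h2 : y ⤳ y0) :
    ∃ w' w w0 : X, w' ⤳ w ∧ w ⤳ w0 ∧ f w' = y' ∧ f w = y ∧ f w0 = y0 := by
  obtain ⟨V, _, _, _, g, t, t0, ht, hg', hg, hg0⟩ := exists_valuationRing_chain h1 h2
  have hsub : Subtr.IsSSubtrusive (pullback.snd f g) :=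
    hf _ _ _ (IsPullback.of_hasPullback f g).flip
  set t' : Spec (CommRingCat.of V) := (⟨⊥, Ideal.isPrime_bot⟩ : PrimeSpectrum V) with ht'def
  have ht't0 : t' ⤳ t0 := (PrimeSpectrum.le_iff_specializes (R := V) t' t0).mp bot_le
  obtain ⟨x0, x', hx, hx0, hx'⟩ := hsub ht't0
  obtain ⟨U, hU, hx0U, -⟩ := (TopologicalSpace.Opens.isBasis_iff_nbhd.mp (pullback f g).isBasis_affineOpens)
    (show x0 ∈ (⊤ : (pullback f g).Opens) from trivial)
  have hx'U : x' ∈ U := hx.mem_open U.isOpen hx0U
  let φ : CommRingCat.of V ⟶ Γ(pullback f g, U) := Spec.preimage (hU.fromSpec ≫ pullback.snd f g)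
  have hφ : Spec.map φ = hU.fromSpec ≫ pullback.snd f g := Spec.map_preimage _
  obtain ⟨p0, hp0⟩ : ∃ p0 : Spec Γ(pullback f g, U), hU.fromSpec p0 = x0 := by
    have : x0 ∈ Set.range hU.fromSpec := by rw [hU.range_fromSpec]; exact hx0U
    exact this
  obtain ⟨p', hp'⟩ : ∃ p' : Spec Γ(pullback f g, U), hU.fromSpec p' = x' := by
    have : x' ∈ Set.range hU.fromSpec := by rw [hU.range_fromSpec]; exact hx'U
    exact this
  have hsp : p' ⤳ p0 := by
    rw [← hU.fromSpec.isOpenEmbedding.isInducing.specializes_iff, hp', hp0]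
    exact hx
  have hle : p'.asIdeal ≤ p0.asIdeal :=
    (PrimeSpectrum.le_iff_specializes (R := Γ(pullback f g, U)) p' p0).mpr hsp
  have hφ0 : (Spec.map φ) p0 = t0 := by
    rw [hφ, Scheme.Hom.comp_apply, hp0, hx0]
  have hφ' : (Spec.map φ) p' = t' := by
    rw [hφ, Scheme.Hom.comp_apply, hp', hx']
  have hgen : p'.asIdeal.comap φ.hom = ⊥ := congrArg PrimeSpectrum.asIdeal hφ'
  have hq : t.asIdeal ≤ p0.asIdeal.comap φ.hom := by
    have h3 : t.asIdeal ≤ t0.asIdeal := (PrimeSpectrum.le_iff_specializes (R := V) t t0).mpr ht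
    have h4 : p0.asIdeal.comap φ.hom = t0.asIdeal := congrArg PrimeSpectrum.asIdeal hφ0
    rw [h4]; exact h3
  haveI : t.asIdeal.IsPrime := t.isPrime
  obtain ⟨Q, hQ, hQ1, hQ2, hQ3⟩ :=
    exists_prime_between φ.hom p'.asIdeal p0.asIdeal hle hgen t.asIdeal hq
  let pQ : Spec Γ(pullback f g, U) := (⟨Q, hQ⟩ : PrimeSpectrum Γ(pullback f g, U))
  have hsp1 : p' ⤳ pQ := (PrimeSpectrum.le_iff_specializes (R := Γ(pullback f g, U)) p' pQ).mp hQ1
  have hsp2 : pQ ⤳ p0 := (PrimeSpectrum.le_iff_specializes (R := Γ(pullback f g, U)) pQ p0).mp hQ2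
  have hφQ : (Spec.map φ) pQ = t := PrimeSpectrum.ext hQ3
  let x : ↥(pullback f g) := hU.fromSpec pQ
  have hxt : pullback.snd f g x = t := by
    rw [← hφQ, hφ, Scheme.Hom.comp_apply]
  have hx1 : x' ⤳ x := by
    rw [← hp']; exact hsp1.map hU.fromSpec.continuous
  have hx2 : x ⤳ x0 := by
    rw [← hp0]; exact hsp2.map hU.fromSpec.continuous
  have key : ∀ z : ↥(pullback f g), f (pullback.fst f g z) = g (pullback.snd f g z) := by
    intro z
    rw [← Scheme.Hom.comp_apply, ← Scheme.Hom.comp_apply, pullback.condition]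
  refine ⟨pullback.fst f g x', pullback.fst f g x, pullback.fst f g x0,
    hx1.map (pullback.fst f g).continuous, hx2.map (pullback.fst f g).continuous, ?_, ?_, ?_⟩
  · rw [key, hx', hg']
  · rw [key, hxt, hg]
  · rw [key, hx0, hg0]

end Groth.Agent.Lib.Helper10.SubtrLib
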