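import Mathlib
import Groth.Agent.Lib.Helper10.Subtr2

/-!
# Closure of images and the affine-target case of descent of local closedness
-/

set_option autoImplicit false
set_option linter.unusedSectionVars false
set_option linter.style.haveILetI false
set_option backward.isDefEq.respectTransparency.types false
set_option maxHeartbeats 4000000
set_option synthInstance.maxHeartbeats 400000
universe u

open CategoryTheory CategoryTheory.Limits AlgebraicGeometry Opposite

namespace Groth.Agent.Lib.Helper10.SubtrLib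

/-- Over an affine target, with quasi-compact source: every point of the closure of the image of
a closed set is a specialization of a point of the image. -/
theorem exists_specializes_of_mem_closure_image {X : Scheme.{u}} {A : CommRingCat.{u}}
    (f : X ⟶ Spec A) [CompactSpace X] {Z : Set X} (hZ : IsClosed Z) {p : Spec A}
    (hp : p ∈ closure (f '' Z)) : ∃ z ∈ Z, f z ⤳ p := by
  obtain ⟨R, g, hg⟩ := compactSpace_iff_exists.mp ‹CompactSpace X›
  obtain ⟨φ, hφ⟩ : ∃ φ : A ⟶ R, Spec.map φ = g ≫ f :=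
    ⟨Spec.preimage (g ≫ f), Spec.map_preimage _⟩
  have hZ' : IsClosed (g ⁻¹' Z) := hZ.preimage g.continuous
  obtain ⟨I, hI⟩ := (PrimeSpectrum.isClosed_iff_zeroLocus_ideal _).mp hZ'
  have hval : ∀ r : Spec R, f (g r) = PrimeSpectrum.comap φ.hom r := by
    intro r
    rw [← Scheme.Hom.comp_apply, ← hφ]
    rfl
  have himg : f '' Z = PrimeSpectrum.comap φ.hom '' (PrimeSpectrum.zeroLocus (I : Set R)) := by
    rw [← hI]
    ext q; constructor
    · rintro ⟨z, hz, rfl⟩
      obtain ⟨r, rfl⟩ := hg z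
      exact ⟨r, hz, (hval r).symm⟩
    · rintro ⟨r, hr, rfl⟩
      exact ⟨g r, hr, hval r⟩
  rw [himg] at hp
  have hp2 : (p : PrimeSpectrum A) ∈
      closure (PrimeSpectrum.comap φ.hom '' PrimeSpectrum.zeroLocus (I : Set R)) := hp
  rw [PrimeSpectrum.closure_image_comap_zeroLocus] at hp2
  have hp' : I.comap φ.hom ≤ p.asIdeal := hp2
  haveI : p.asIdeal.IsPrime := p.isPrime
  obtain ⟨Q, hQI, hQ, hQle⟩ := Ideal.exists_ideal_comap_le_prime p.asIdeal I hp'
  let r : Spec R := (⟨Q, hQ⟩ : PrimeSpectrum R)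
  have hr : r ∈ g ⁻¹' Z := by
    rw [hI]; exact hQI
  refine ⟨g r, hr, ?_⟩
  rw [hval r]
  exact (PrimeSpectrum.le_iff_specializes (R := A) _ p).mp hQle

/-- Version for compact locally closed subsets of an arbitrary scheme over an affine target. -/
theorem exists_specializes_of_mem_closure_image' {X : Scheme.{u}} {A : CommRingCat.{u}}
    (f : X ⟶ Spec A) {W : Set X} (hW : IsLocallyClosed W) (hWc : IsCompact W) {p : Spec A}
    (hp : p ∈ closure (f '' W)) : ∃ w ∈ W, f w ⤳ p := by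
  obtain ⟨O, K, hO, hK, rfl⟩ := hW
  -- a compact open O' with O ∩ K ⊆ O' ⊆ O
  have hcov : ∀ x : ↥(O ∩ K), ∃ V : X.Opens, IsAffineOpen V ∧ (x : X) ∈ V ∧ (V : Set X) ⊆ O := by
    intro x
    obtain ⟨V, hV, hxV, hVO⟩ := TopologicalSpace.Opens.isBasis_iff_nbhd.mp X.isBasis_affineOpens
      (show (x : X) ∈ (⟨O, hO⟩ : X.Opens) from x.2.1)
    exact ⟨V, hV, hxV, hVO⟩
  choose V hV hxV hVO using hcov
  obtain ⟨s, hs⟩ := hWc.elim_finite_subcover (fun x : ↥(O ∩ K) => (V x : Set X))
    (fun x => (V x).isOpen) (fun x hx => Set.mem_iUnion.mpr ⟨⟨x, hx⟩, hxV _⟩)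
  let O' : X.Opens := ⨆ x ∈ s, V x
  have hO'c : IsCompact (O' : Set X) := by
    have : (O' : Set X) = ⋃ x ∈ s, (V x : Set X) := by
      simp [O']
    rw [this]
    exact s.finite_toSet.isCompact_biUnion (fun x _ => (hV x).isCompact)
  have hO'O : (O' : Set X) ⊆ O := by
    intro z hz
    have : z ∈ ⋃ x ∈ s, (V x : Set X) := by simpa [O'] using hz
    obtain ⟨x, hx⟩ := Set.mem_iUnion.mp this
    obtain ⟨_, hx'⟩ := Set.mem_iUnion.mp hx
    exact hVO x hx'
  have hWO' : O ∩ K ⊆ (O' : Set X) := by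
    intro z hz
    have := hs hz
    simpa [O'] using this
  haveI : CompactSpace (O' : Scheme.{u}) := isCompact_iff_compactSpace.mp hO'c
  have hZ : IsClosed (O'.ι ⁻¹' K) := hK.preimage O'.ι.continuous
  have himg : (O'.ι ≫ f) '' (O'.ι ⁻¹' K) = f '' (O ∩ K) := by
    ext q; constructor
    · rintro ⟨z, hz, rfl⟩
      exact ⟨O'.ι z, ⟨hO'O z.2, hz⟩, by rw [Scheme.Hom.comp_apply]⟩
    · rintro ⟨z, hz, rfl⟩
      exact ⟨⟨z, hWO' hz⟩, hz.2, by rw [Scheme.Hom.comp_apply]; rfl⟩
  rw [← himg] at hp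
  obtain ⟨z, hz, hzp⟩ := exists_specializes_of_mem_closure_image (O'.ι ≫ f) hZ hp
  refine ⟨O'.ι z, ⟨hO'O z.2, hz⟩, ?_⟩
  rwa [Scheme.Hom.comp_apply] at hzp

/-- Affine-target case: if the preimage of `E` under a universally S-subtrusive morphism is
locally closed and compact, then `E` is locally closed. -/
theorem isLocallyClosed_of_preimage {X : Scheme.{u}} {A : CommRingCat.{u}}
    (f : X ⟶ Spec A) [CompactSpace X] (hf : Subtr.UnivSSubtrusive f) (E : Set (Spec A))
    (hW : IsLocallyClosed (f ⁻¹' E)) (hWc : IsCompact (f ⁻¹' E)) : IsLocallyClosed E := by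
  have hpair : Subtr.IsSSubtrusive f := MorphismProperty.universally_le _ _ hf
  have hsurj : Function.Surjective f := by
    intro y
    obtain ⟨x, _, _, hx, _⟩ := hpair (specializes_rfl : y ⤳ y)
    exact ⟨x, hx⟩
  have hE : f '' (f ⁻¹' E) = E := Set.image_preimage_eq E hsurj
  have hW' := hW
  obtain ⟨O, K, hO, hK, hOK⟩ := hW'
  -- (★★) for W
  have star : ∀ p ∈ closure E, ∃ w ∈ f ⁻¹' E, f w ⤳ p := by
    intro p hp
    rw [← hE] at hp
    exact exists_specializes_of_mem_closure_image' f hW hWc hp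
  -- Claim 1
  have claim1 : ∀ y ∈ E, ∀ y1 ∈ closure E, y1 ⤳ y → y1 ∈ E := by
    intro y hy y1 hy1 hsp
    obtain ⟨w2, hw2, hw2sp⟩ := star y1 hy1
    obtain ⟨x2, x1, x0, hx21, hx10, hx2, hx1, hx0⟩ := chain_lift f hf hw2sp hsp
    have hx2W : x2 ∈ O ∩ K := by
      rw [← hOK]; change f x2 ∈ E; rw [hx2]; exact hw2
    have hx0W : x0 ∈ O ∩ K := by
      rw [← hOK]; change f x0 ∈ E; rw [hx0]; exact hy
    have hx1W : x1 ∈ O ∩ K :=
      ⟨hx10.mem_open hO hx0W.1, hx21.mem_closed hK hx2W.2⟩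
    rw [← hOK] at hx1W
    rw [← hx1]; exact hx1W
  -- the closed set T
  let T : Set X := f ⁻¹' closure E ∩ Oᶜ
  have hT : IsClosed T := (isClosed_closure.preimage f.continuous).inter hO.isClosed_compl
  refine ((isLocallyClosed_tfae E).out 0 3).mpr ?_
  intro y hy
  refine ⟨(closure (f '' T))ᶜ, ?_, isClosed_closure.isOpen_compl, ?_⟩
  · intro hyT
    obtain ⟨t, ht, htsp⟩ := exists_specializes_of_mem_closure_image f hT hyT
    have : f t ∈ E := claim1 y hy (f t) ht.1 htsp
    have htW : t ∈ O ∩ K := by rw [← hOK]; exact this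
    exact ht.2 htW.1
  · rintro p ⟨hpN, hpE⟩
    obtain ⟨w, hw, hwsp⟩ := star p hpE
    obtain ⟨x, x', hxx', hx, hx'⟩ := hpair hwsp
    have hx'W : x' ∈ O ∩ K := by
      rw [← hOK]; change f x' ∈ E; rw [hx']; exact hw
    have hxK : x ∈ K := hxx'.mem_closed hK hx'W.2
    by_cases hxO : x ∈ O
    · have : x ∈ f ⁻¹' E := by rw [hOK]; exact ⟨hxO, hxK⟩
      rw [← hx]; exact this
    · exfalso
      apply hpN
      apply subset_closure
      refine ⟨x, ⟨?_, hxO⟩, hx⟩
      change f x ∈ closure E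
      rw [hx]; exact hpE

end Groth.Agent.Lib.Helper10.SubtrLib
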