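import Mathlib
import Groth.Agent.Lib.Helper10.Subtr3

/-!
# Locally closed retrocompact subsets descend along quasi-compact universally S-subtrusive maps
-/

set_option autoImplicit false
set_option linter.unusedSectionVars false
set_option linter.style.haveILetI false
set_option backward.isDefEq.respectTransparency.types false
set_option maxHeartbeats 4000000
set_option synthInstance.maxHeartbeats 400000
universe u

open CategoryTheory CategoryTheory.Limits AlgebraicGeometry Opposite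

namespace Groth.Agent.Lib.Helper10.SubtrLib

/-- A compact set `O ∩ K` (`O` open) in a scheme lies in a compact open contained in `O`. -/
theorem exists_isCompact_isOpen_between {X : Scheme.{u}} {O K : Set X} (hO : IsOpen O)
    (hc : IsCompact (O ∩ K)) :
    ∃ O' : X.Opens, IsCompact (O' : Set X) ∧ O ∩ K ⊆ (O' : Set X) ∧ (O' : Set X) ⊆ O := by
  have hcov : ∀ x : ↥(O ∩ K), ∃ V : X.Opens, IsAffineOpen V ∧ (x : X) ∈ V ∧ (V : Set X) ⊆ O := by
    intro x
    obtain ⟨V, hV, hxV, hVO⟩ := TopologicalSpace.Opens.isBasis_iff_nbhd.mp X.isBasis_affineOpens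
      (show (x : X) ∈ (⟨O, hO⟩ : X.Opens) from x.2.1)
    exact ⟨V, hV, hxV, hVO⟩
  choose V hV hxV hVO using hcov
  obtain ⟨s, hs⟩ := hc.elim_finite_subcover (fun x : ↥(O ∩ K) => (V x : Set X))
    (fun x => (V x).isOpen) (fun x hx => Set.mem_iUnion.mpr ⟨⟨x, hx⟩, hxV _⟩)
  refine ⟨⨆ x ∈ s, V x, ?_, ?_, ?_⟩
  · have : ((⨆ x ∈ s, V x : X.Opens) : Set X) = ⋃ x ∈ s, (V x : Set X) := by simp
    rw [this]
    exact s.finite_toSet.isCompact_biUnion (fun x _ => (hV x).isCompact)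
  · intro z hz
    have := hs hz
    simpa using this
  · intro z hz
    have : z ∈ ⋃ x ∈ s, (V x : Set X) := by simpa using hz
    obtain ⟨x, hx⟩ := Set.mem_iUnion.mp this
    obtain ⟨_, hx'⟩ := Set.mem_iUnion.mp hx
    exact hVO x hx'

/-- Preimages of compact locally closed sets under quasi-compact morphisms are compact. -/
theorem isCompact_preimage_of_isLocallyClosed {X Y : Scheme.{u}} (g : X ⟶ Y) [QuasiCompact g]
    {T : Set Y} (hT : IsLocallyClosed T) (hTc : IsCompact T) : IsCompact (g ⁻¹' T) := by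
  obtain ⟨O, K, hO, hK, rfl⟩ := hT
  obtain ⟨O', hO'c, h1, h2⟩ := exists_isCompact_isOpen_between hO hTc
  have : g ⁻¹' (O ∩ K) = g ⁻¹' (O' : Set Y) ∩ g ⁻¹' K := by
    ext x
    constructor
    · intro hx; exact ⟨h1 hx, hx.2⟩
    · rintro ⟨hx1, hx2⟩; exact ⟨h2 hx1, hx2⟩
  rw [this]
  exact (QuasiCompact.isCompact_preimage (f := g) _ O'.isOpen hO'c).inter_right
    (hK.preimage g.continuous)

/-- Affine-local piece of retrocompactness of a preimage. -/
theorem isCompact_preimage_inter_affine {X Y : Scheme.{u}} (f : X ⟶ Y) {E : Set Y}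
    (hE : IsLocallyClosed E) (V : X.Opens) (hV : IsAffineOpen V) (U : Y.Opens)
    (hU : IsAffineOpen U) (hVU : V ≤ f ⁻¹ᵁ U) (hEU : IsCompact (E ∩ U)) :
    IsCompact (f ⁻¹' E ∩ V) := by
  haveI : IsAffine (V : Scheme.{u}) := hV
  haveI : IsAffine (U : Scheme.{u}) := hU
  let g : (V : Scheme.{u}) ⟶ (U : Scheme.{u}) := f.resLE U V hVU
  haveI : QuasiCompact g := HasAffineProperty.iff_of_isAffine.mpr (by infer_instance)
  have hg : ∀ x, U.ι (g x) = f (V.ι x) := by
    intro x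
    rw [← Scheme.Hom.comp_apply, ← Scheme.Hom.comp_apply, Scheme.Hom.resLE_comp_ι]
  let T : Set (U : Scheme.{u}) := U.ι ⁻¹' E
  have hT : IsLocallyClosed T := hE.preimage U.ι.continuous
  have hTc : IsCompact T := by
    have h1 : T = U.ι ⁻¹' (E ∩ U) := by
      ext x
      constructor
      · intro hx; exact ⟨hx, x.2⟩
      · intro hx; exact hx.1
    rw [h1]
    refine (U.ι.isOpenEmbedding.isInducing.isCompact_preimage_iff ?_).mpr hEU
    intro z hz
    rw [Scheme.Opens.range_ι]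
    exact hz.2
  have hc := isCompact_preimage_of_isLocallyClosed g hT hTc
  have : f ⁻¹' E ∩ V = V.ι '' (g ⁻¹' T) := by
    ext x
    constructor
    · rintro ⟨hx1, hx2⟩
      refine ⟨⟨x, hx2⟩, ?_, rfl⟩
      change U.ι (g ⟨x, hx2⟩) ∈ E
      rw [hg]
      exact hx1
    · rintro ⟨z, hz, rfl⟩
      refine ⟨?_, z.2⟩
      change f (V.ι z) ∈ E
      rw [← hg]
      exact hz
  rw [this]
  exact hc.image V.ι.continuous

/-- The forward direction. -/
theorem isRetrocompact_preimage {X Y : Scheme.{u}} (f : X ⟶ Y) {E : Set Y}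
    (hE : IsLocallyClosed E) (hEr : IsRetrocompact E) : IsRetrocompact (f ⁻¹' E) := by
  intro U' hU'c hU'o
  -- cover U' by affine opens mapping into affine opens
  have hcov : ∀ x : ↥U', ∃ (V : X.Opens) (U : Y.Opens), IsAffineOpen V ∧ IsAffineOpen U ∧
      (x : X) ∈ V ∧ (V : Set X) ⊆ U' ∧ V ≤ f ⁻¹ᵁ U := by
    intro x
    obtain ⟨U, hU, hxU, -⟩ := TopologicalSpace.Opens.isBasis_iff_nbhd.mp Y.isBasis_affineOpens
      (show f (x : X) ∈ (⊤ : Y.Opens) from trivial)
    obtain ⟨V, hV, hxV, hVle⟩ := TopologicalSpace.Opens.isBasis_iff_nbhd.mp X.isBasis_affineOpens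
      (show (x : X) ∈ ((⟨U', hU'o⟩ : X.Opens) ⊓ f ⁻¹ᵁ U) from ⟨x.2, hxU⟩)
    exact ⟨V, U, hV, hU, hxV, fun z hz => (hVle hz).1, fun z hz => (hVle hz).2⟩
  choose V U hV hU hxV hVU' hVU using hcov
  obtain ⟨s, hs⟩ := hU'c.elim_finite_subcover (fun x : ↥U' => (V x : Set X))
    (fun x => (V x).isOpen) (fun x hx => Set.mem_iUnion.mpr ⟨⟨x, hx⟩, hxV _⟩)
  have : f ⁻¹' E ∩ U' = ⋃ x ∈ s, (f ⁻¹' E ∩ (V x : Set X)) := by
    ext z
    constructor
    · rintro ⟨hz1, hz2⟩
      obtain ⟨x, hx⟩ := Set.mem_iUnion.mp (hs hz2)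
      obtain ⟨hxs, hx'⟩ := Set.mem_iUnion.mp hx
      exact Set.mem_iUnion.mpr ⟨x, Set.mem_iUnion.mpr ⟨hxs, hz1, hx'⟩⟩
    · intro hz
      obtain ⟨x, hx⟩ := Set.mem_iUnion.mp hz
      obtain ⟨_, hx'⟩ := Set.mem_iUnion.mp hx
      exact ⟨hx'.1, hVU' x hx'.2⟩
  rw [this]
  refine s.finite_toSet.isCompact_biUnion (fun x _ => ?_)
  exact isCompact_preimage_inter_affine f hE (V x) (hV x) (U x) (hU x) (hVU x)
    (hEr (hU x).isCompact (U x).isOpen)

/-- The backward direction, local closedness. -/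
theorem isLocallyClosed_of_preimage_global {S' S : Scheme.{u}} (f : S' ⟶ S) [QuasiCompact f]
    (hf : Subtr.UnivSSubtrusive f) (E : Set S) (hW : IsLocallyClosed (f ⁻¹' E))
    (hWr : IsRetrocompact (f ⁻¹' E)) : IsLocallyClosed E := by
  refine ((isLocallyClosed_tfae E).out 0 3).mpr ?_
  intro y hy
  obtain ⟨S0, hS0, hyS0, -⟩ := TopologicalSpace.Opens.isBasis_iff_nbhd.mp S.isBasis_affineOpens
    (show y ∈ (⊤ : S.Opens) from trivial)
  let j : Spec Γ(S, S0) ⟶ S := hS0.fromSpec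
  have hj : Set.range j = (S0 : Set S) := hS0.range_fromSpec
  let f' : pullback f j ⟶ Spec Γ(S, S0) := pullback.snd f j
  haveI : (Subtr.UnivSSubtrusive.{u}).IsStableUnderBaseChange := by
    unfold Subtr.UnivSSubtrusive; infer_instance
  have hf' : Subtr.UnivSSubtrusive f' :=
    MorphismProperty.of_isPullback (P := Subtr.UnivSSubtrusive) (IsPullback.of_hasPullback f j) hf
  have key : ∀ z : ↥(pullback f j), f (pullback.fst f j z) = j (f' z) := by
    intro z
    rw [← Scheme.Hom.comp_apply, ← Scheme.Hom.comp_apply, pullback.condition]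
  have hpre : f' ⁻¹' (j ⁻¹' E) = pullback.fst f j ⁻¹' (f ⁻¹' E) := by
    ext z
    change j (f' z) ∈ E ↔ f (pullback.fst f j z) ∈ E
    rw [key]
  have h1 : IsLocallyClosed (f' ⁻¹' (j ⁻¹' E)) := by
    rw [hpre]; exact hW.preimage (pullback.fst f j).continuous
  have h2 : IsCompact (f' ⁻¹' (j ⁻¹' E)) := by
    rw [hpre]
    have hrange : Set.range (pullback.fst f j) = f ⁻¹' (S0 : Set S) := by
      rw [Scheme.Pullback.range_fst, hj]
    have h3 : pullback.fst f j ⁻¹' (f ⁻¹' E) =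
        pullback.fst f j ⁻¹' (f ⁻¹' E ∩ f ⁻¹' (S0 : Set S)) := by
      ext z
      constructor
      · intro hz
        refine ⟨hz, ?_⟩
        rw [← hrange]; exact ⟨z, rfl⟩
      · intro hz; exact hz.1
    rw [h3]
    refine ((pullback.fst f j).isOpenEmbedding.isInducing.isCompact_preimage_iff ?_).mpr ?_
    · rw [hrange]; exact Set.inter_subset_right
    · exact hWr (QuasiCompact.isCompact_preimage (f := f) _ S0.isOpen hS0.isCompact)
        (S0.isOpen.preimage f.continuous)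
  have h4 : IsLocallyClosed (j ⁻¹' E) := isLocallyClosed_of_preimage f' hf' _ h1 h2
  have h5 : IsLocallyClosed (j '' (j ⁻¹' E)) :=
    h4.image j.isOpenEmbedding.isInducing (hj ▸ S0.isOpen.isLocallyClosed)
  have h6 : j '' (j ⁻¹' E) = E ∩ S0 := by
    rw [Set.image_preimage_eq_inter_range, hj]
  rw [h6] at h5
  have h7 : ∀ x ∈ E ∩ (S0 : Set S), ∃ U, x ∈ U ∧ IsOpen U ∧
      U ∩ closure (E ∩ (S0 : Set S)) ⊆ E ∩ (S0 : Set S) :=
    ((isLocallyClosed_tfae (E ∩ (S0 : Set S))).out 0 3).mp h5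
  obtain ⟨U, hyU, hUo, hU⟩ := h7 y ⟨hy, hyS0⟩
  refine ⟨U ∩ S0, ⟨hyU, hyS0⟩, hUo.inter S0.isOpen, ?_⟩
  rintro z ⟨⟨hzU, hzS0⟩, hzE⟩
  have : z ∈ closure (E ∩ S0) := by
    have := S0.isOpen.inter_closure (t := E) ⟨hzS0, hzE⟩
    rwa [Set.inter_comm] at this
  exact (hU ⟨hzU, this⟩).1

/-- The main theorem. -/
theorem isLocallyClosed_and_isRetrocompact_iff_preimage {S' S : Scheme.{u}} (f : S' ⟶ S)
    [QuasiCompact f] (hf : Subtr.UnivSSubtrusive f) (E : Set S) :
    (IsLocallyClosed E ∧ IsRetrocompact E) ↔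
      (IsLocallyClosed (f ⁻¹' E) ∧ IsRetrocompact (f ⁻¹' E)) := by
  constructor
  · rintro ⟨h1, h2⟩
    exact ⟨h1.preimage f.continuous, isRetrocompact_preimage f h1 h2⟩
  · rintro ⟨h1, h2⟩
    refine ⟨isLocallyClosed_of_preimage_global f hf E h1 h2, ?_⟩
    have hpair : Subtr.IsSSubtrusive f := MorphismProperty.universally_le _ _ hf
    have hsurj : Function.Surjective f := by
      intro y
      obtain ⟨x, _, _, hx, _⟩ := hpair (specializes_rfl : y ⤳ y)
      exact ⟨x, hx⟩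
    intro U hUc hUo
    have h3 : IsCompact (f ⁻¹' E ∩ f ⁻¹' U) :=
      h2 (QuasiCompact.isCompact_preimage (f := f) _ hUo hUc) (hUo.preimage f.continuous)
    have h4 : f '' (f ⁻¹' E ∩ f ⁻¹' U) = E ∩ U := by
      rw [← Set.preimage_inter, Set.image_preimage_eq _ hsurj]
    rw [← h4]
    exact h3.image f.continuous

end Groth.Agent.Lib.Helper10.SubtrLib
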