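import Mathlib

/-!
# Tensor products with a directed union of finitely generated subalgebras
-/

set_option autoImplicit false
set_option linter.unusedSectionVars false
set_option linter.style.haveILetI false
set_option backward.isDefEq.respectTransparency.types false
set_option maxHeartbeats 4000000
set_option synthInstance.maxHeartbeats 400000
universe u

namespace Groth.Agent.Lib.Helper10.SubtrFS

open TensorProduct Module

variable (A B V : Type u) [CommRing A] [CommRing B] [CommRing V] [Algebra A B] [Algebra A V]

/-- the subalgebra generated by a finite set. -/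
abbrev Ast (s : Finset V) : Subalgebra A V := Algebra.adjoin A (s : Set V)

theorem Ast_mono {s s' : Finset V} (h : s ≤ s') : Ast A V s ≤ Ast A V s' :=
  Algebra.adjoin_mono (Finset.coe_subset.mpr h)

/-- transition maps (algebra homs). -/
noncomputable abbrev incl {s s' : Finset V} (h : s ≤ s') : Ast A V s →ₐ[A] Ast A V s' :=
  Subalgebra.inclusion (Ast_mono A V h)

/-- transition maps (linear). -/
noncomputable abbrev trans (s s' : Finset V) (h : s ≤ s') : Ast A V s →ₗ[A] Ast A V s' :=
  (incl A V h).toLinearMap

instance : DirectedSystem (fun s : Finset V => Ast A V s) (fun s s' h => trans A V s s' h) where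
  map_self := fun _ _ => rfl
  map_map := fun _ _ _ _ _ _ => rfl

instance : DirectedSystem (fun s : Finset V => B ⊗[A] Ast A V s)
    (fun s s' h => LinearMap.lTensor B (trans A V s s' h)) where
  map_self := fun s x => by
    have : trans A V s s le_rfl = LinearMap.id := rfl
    rw [this, LinearMap.lTensor_id]; rfl
  map_map := fun _ _ _ h h' x => by
    rw [← LinearMap.comp_apply, ← LinearMap.lTensor_comp]; rfl

open Classical in
/-- the direct limit of the `Ast s` maps isomorphically onto `V`. -/
noncomputable def Φ : Module.DirectLimit (fun s : Finset V => Ast A V s) (trans A V) →ₗ[A] V :=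
  Module.DirectLimit.lift A (Finset V) _ _ (fun s => (Ast A V s).val.toLinearMap) (fun _ _ _ _ => rfl)

open Classical in
theorem Φ_bijective : Function.Bijective (Φ A V) := by
  constructor
  · apply Module.DirectLimit.lift_injective
    intro s
    exact Subtype.val_injective
  · intro v
    refine ⟨Module.DirectLimit.of A (Finset V) _ _ {v} ⟨v, Algebra.subset_adjoin (by simp)⟩, ?_⟩
    simp [Φ]

variable {A B V}

open Classical in
theorem directLimitRight_lTensor_of (s : Finset V) (x : B ⊗[A] Ast A V s) :
    TensorProduct.directLimitRight (trans A V) B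
      (LinearMap.lTensor B (Module.DirectLimit.of A (Finset V) (fun s => Ast A V s) (trans A V) s) x) =
    Module.DirectLimit.of A (Finset V) (fun s => B ⊗[A] Ast A V s)
      (fun s s' h => LinearMap.lTensor B (trans A V s s' h)) s x := by
  induction x with
  | zero => simp
  | tmul b a => simp
  | add x y hx hy => simp only [map_add, hx, hy]

/-- Kernel lemma: an element of `B ⊗ A_s` dying in `B ⊗ V` dies at a finite stage. -/
theorem exists_stage_eq_zero (s : Finset V) (x : B ⊗[A] Ast A V s)
    (hx : LinearMap.lTensor B (Ast A V s).val.toLinearMap x = 0) :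
    ∃ (s' : Finset V) (h : s ≤ s'), LinearMap.lTensor B (trans A V s s' h) x = 0 := by
  classical
  let e : Module.DirectLimit (fun s : Finset V => Ast A V s) (trans A V) ≃ₗ[A] V :=
    LinearEquiv.ofBijective (Φ A V) (Φ_bijective A V)
  have h0 : (Φ A V).comp (Module.DirectLimit.of A (Finset V) (fun s => Ast A V s) (trans A V) s) =
      (Ast A V s).val.toLinearMap := by
    ext a
    simp [Φ]
  have h1 : LinearMap.lTensor B (Φ A V)
      (LinearMap.lTensor B (Module.DirectLimit.of A (Finset V) (fun s => Ast A V s) (trans A V) s) x) = 0 := by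
    rw [← LinearMap.comp_apply, ← LinearMap.lTensor_comp, h0]
    exact hx
  have h2 : LinearMap.lTensor B (Module.DirectLimit.of A (Finset V) (fun s => Ast A V s) (trans A V) s) x
      = 0 := by
    have hinj : Function.Injective (LinearMap.lTensor B (Φ A V)) :=
      (LinearEquiv.lTensor B e).injective
    exact hinj (by rw [h1, map_zero])
  have h3 := directLimitRight_lTensor_of s x
  rw [h2, map_zero] at h3
  exact Module.DirectLimit.of.zero_exact h3.symm

/-- Lifting lemma: every element of `B ⊗ V` comes from a finite stage. -/
theorem exists_stage_lift (c : B ⊗[A] V) :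
    ∃ (s : Finset V) (x : B ⊗[A] Ast A V s),
      LinearMap.lTensor B (Ast A V s).val.toLinearMap x = c := by
  classical
  induction c with
  | zero => exact ⟨∅, 0, map_zero _⟩
  | tmul b v =>
    exact ⟨{v}, b ⊗ₜ ⟨v, Algebra.subset_adjoin (by simp)⟩, by simp⟩
  | add c d hc hd =>
    obtain ⟨s, x, rfl⟩ := hc
    obtain ⟨t, y, rfl⟩ := hd
    refine ⟨s ∪ t, LinearMap.lTensor B (trans A V s (s ∪ t) Finset.subset_union_left) x +
      LinearMap.lTensor B (trans A V t (s ∪ t) Finset.subset_union_right) y, ?_⟩
    rw [map_add, ← LinearMap.comp_apply, ← LinearMap.comp_apply, ← LinearMap.lTensor_comp,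
      ← LinearMap.lTensor_comp]
    rfl

end Groth.Agent.Lib.Helper10.SubtrFS
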