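import Mathlib
import Groth.Agent.Lib.Helper10.SubtrFS1

/-!
# Finite stage lemma (algebra): non-liftability of the pair (generic, closed) over a valuation
ring is witnessed over a finitely generated subalgebra
-/

set_option autoImplicit false
set_option linter.unusedSectionVars false
set_option linter.style.haveILetI false
set_option backward.isDefEq.respectTransparency.types false
set_option maxHeartbeats 4000000
set_option synthInstance.maxHeartbeats 400000
universe u

namespace Groth.Agent.Lib.Helper10.SubtrFS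

open TensorProduct Module

section GoingDown

/-- Over a valuation ring `V`: a prime of a `V`-algebra `C` containing all `V`-torsion elements
contains a prime lying over `0`. -/
theorem exists_prime_le_comap_eq_bot {V C : Type u} [CommRing V] [IsDomain V] [ValuationRing V]
    [CommRing C] (φ : V →+* C) (x : Ideal C) [x.IsPrime]
    (hT : ∀ c : C, (∃ v : V, v ≠ 0 ∧ φ v * c = 0) → c ∈ x) :
    ∃ x' : Ideal C, x'.IsPrime ∧ x' ≤ x ∧ x'.comap φ = ⊥ := by
  -- the torsion ideal
  let T : Ideal C :=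
    { carrier := {c | ∃ v : V, v ≠ 0 ∧ φ v * c = 0}
      add_mem' := by
        rintro a b ⟨v, hv, hva⟩ ⟨w, hw, hwb⟩
        refine ⟨v * w, mul_ne_zero hv hw, ?_⟩
        rw [map_mul, mul_add]
        have h1 : φ v * φ w * a = φ w * (φ v * a) := by ring
        have h2 : φ v * φ w * b = φ v * (φ w * b) := by ring
        rw [h1, h2, hva, hwb]; simp
      zero_mem' := ⟨1, one_ne_zero, by simp⟩
      smul_mem' := by
        rintro c a ⟨v, hv, hva⟩
        refine ⟨v, hv, ?_⟩
        have : φ v * (c • a) = c * (φ v * a) := by rw [smul_eq_mul]; ring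
        rw [this, hva, mul_zero] }
  have hTx : T ≤ x := fun c hc => hT c hc
  let D := C ⧸ T
  let ψ : V →+* D := (Ideal.Quotient.mk T).comp φ
  letI : Algebra V D := ψ.toAlgebra
  have htors : Submodule.torsion V D = ⊥ := by
    rw [eq_bot_iff]
    rintro d ⟨⟨v, hv⟩, hvd⟩
    have hv0 : v ≠ 0 := nonZeroDivisors.ne_zero hv
    obtain ⟨c, rfl⟩ := Ideal.Quotient.mk_surjective d
    have h3 : ψ v * Ideal.Quotient.mk T c = 0 := by
      have : v • (Ideal.Quotient.mk T c) = 0 := hvd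
      rwa [Algebra.smul_def] at this
    have h4 : φ v * c ∈ T := by
      rw [← Ideal.Quotient.eq_zero_iff_mem, map_mul]; exact h3
    obtain ⟨w, hw, hwc⟩ := h4
    have : c ∈ T := ⟨w * v, mul_ne_zero hw hv0, by rw [map_mul, mul_assoc]; exact hwc⟩
    exact Ideal.Quotient.eq_zero_iff_mem.mpr this
  haveI : Module.Flat V D := Module.Flat.flat_iff_torsion_eq_bot_of_isBezout.mpr htors
  let Q0 : Ideal D := x.map (Ideal.Quotient.mk T)
  haveI hQ0 : Q0.IsPrime :=
    Ideal.map_isPrime_of_surjective Ideal.Quotient.mk_surjective (by rwa [Ideal.mk_ker])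
  have hcomapQ0 : Q0.comap (Ideal.Quotient.mk T) = x := by
    rw [Ideal.comap_map_of_surjective _ Ideal.Quotient.mk_surjective, ← RingHom.ker_eq_comap_bot,
      Ideal.mk_ker, sup_eq_left.mpr hTx]
  obtain ⟨P, hPQ0, hPprime, hPover⟩ :=
    Ideal.exists_ideal_le_liesOver_of_le (p := (⊥ : Ideal V)) (q := Q0.under V) Q0 bot_le
  refine ⟨P.comap (Ideal.Quotient.mk T), inferInstance, ?_, ?_⟩
  · rw [← hcomapQ0]
    exact Ideal.comap_mono hPQ0
  · have := hPover.over
    rw [this]
    rfl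

end GoingDown

variable {A B V : Type u} [CommRing A] [CommRing B] [CommRing V] [Algebra A B] [Algebra A V]

/-- `V → B ⊗ V`. -/
noncomputable abbrev iR : V →+* B ⊗[A] V :=
  (Algebra.TensorProduct.includeRight : V →ₐ[A] B ⊗[A] V).toRingHom

/-- `A_s → B ⊗ A_s`. -/
noncomputable abbrev iRs (s : Finset V) : Ast A V s →+* B ⊗[A] Ast A V s :=
  (Algebra.TensorProduct.includeRight : Ast A V s →ₐ[A] B ⊗[A] Ast A V s).toRingHom

/-- `B ⊗ A_s → B ⊗ V`. -/
noncomputable abbrev πs (s : Finset V) : B ⊗[A] Ast A V s →ₐ[A] B ⊗[A] V :=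
  Algebra.TensorProduct.map (AlgHom.id A B) (Ast A V s).val

/-- `B ⊗ A_s → B ⊗ A_s'`. -/
noncomputable abbrev τ {s s' : Finset V} (h : s ≤ s') : B ⊗[A] Ast A V s →ₐ[A] B ⊗[A] Ast A V s' :=
  Algebra.TensorProduct.map (AlgHom.id A B) (incl A V h)

theorem πs_apply (s : Finset V) (x : B ⊗[A] Ast A V s) :
    πs s x = LinearMap.lTensor B (Ast A V s).val.toLinearMap x := by
  induction x with
  | zero => simp
  | tmul b a => simp
  | add x y hx hy => simp only [map_add, hx, hy]

theorem τ_apply {s s' : Finset V} (h : s ≤ s') (x : B ⊗[A] Ast A V s) :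
    τ h x = LinearMap.lTensor B (trans A V s s' h) x := by
  induction x with
  | zero => simp
  | tmul b a => simp
  | add x y hx hy => simp only [map_add, hx, hy]

theorem πs_iRs (s : Finset V) (a : Ast A V s) : πs (B := B) s (iRs s a) = iR (a : V) := by
  simp [iRs, iR]

theorem τ_iRs {s s' : Finset V} (h : s ≤ s') (a : Ast A V s) :
    τ (B := B) h (iRs s a) = iRs s' (incl A V h a) := by
  simp [iRs]

theorem πs_τ {s s' : Finset V} (h : s ≤ s') (x : B ⊗[A] Ast A V s) :
    πs s' (τ h x) = πs s x := by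
  induction x with
  | zero => simp
  | tmul b a => simp
  | add x y hx hy => simp only [map_add, hx, hy]

theorem τ_τ {s s' s'' : Finset V} (h : s ≤ s') (h' : s' ≤ s'') (x : B ⊗[A] Ast A V s) :
    τ h' (τ h x) = τ (h.trans h') x := by
  induction x with
  | zero => simp
  | tmul b a => simp
  | add x y hx hy => simp only [map_add, hx, hy]

/-- Kernel lemma in ring form. -/
theorem exists_stage_τ_eq_zero (s : Finset V) (x : B ⊗[A] Ast A V s) (hx : πs s x = 0) :
    ∃ (s' : Finset V) (h : s ≤ s'), τ h x = 0 := by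
  rw [πs_apply] at hx
  obtain ⟨s', h, hs'⟩ := exists_stage_eq_zero s x hx
  exact ⟨s', h, by rw [τ_apply]; exact hs'⟩

/-- Lifting lemma in ring form, above a given stage. -/
theorem exists_stage_πs_eq (s0 : Finset V) (c : B ⊗[A] V) :
    ∃ (s : Finset V) (_ : s0 ≤ s) (x : B ⊗[A] Ast A V s), πs s x = c := by
  classical
  obtain ⟨s, x, hx⟩ := exists_stage_lift c
  refine ⟨s0 ∪ s, Finset.subset_union_left,
    τ (A := A) (B := B) (V := V) (s := s) (s' := s0 ∪ s) Finset.subset_union_right x, ?_⟩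
  rw [πs_τ, πs_apply]; exact hx

section Local
variable [IsLocalRing V]

/-- the trace of the maximal ideal on `A_s`. -/
noncomputable abbrev ps (s : Finset V) : Ideal (Ast A V s) :=
  (IsLocalRing.maximalIdeal V).comap (Ast A V s).val

theorem map_ps_le {s s' : Finset V} (h : s ≤ s') :
    (Ideal.map (iRs (A := A) (B := B) s) (ps (A := A) s)).map (τ (A := A) (B := B) h) ≤
      Ideal.map (iRs (A := A) (B := B) s') (ps (A := A) s') := by
  rw [Ideal.map_le_iff_le_comap, Ideal.map_le_iff_le_comap]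
  intro a ha
  rw [Ideal.mem_comap, Ideal.mem_comap]
  rw [τ_iRs]
  apply Ideal.mem_map_of_mem
  exact ha

/-- Lemma M: elements of `𝔪 (B ⊗ V)` come from `𝔭_s (B ⊗ A_s)` at a finite stage. -/
theorem exists_stage_mem_map (z : B ⊗[A] V)
    (hz : z ∈ Ideal.map (iR (A := A) (B := B)) (IsLocalRing.maximalIdeal V)) :
    ∃ (s : Finset V) (x : B ⊗[A] Ast A V s), πs s x = z ∧ x ∈ Ideal.map (iRs s) (ps s) := by
  classical
  rw [Ideal.map] at hz
  induction hz using Submodule.span_induction with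
  | mem z hz =>
    obtain ⟨w, hw, rfl⟩ := hz
    refine ⟨{w}, iRs _ ⟨w, Algebra.subset_adjoin (by simp)⟩, ?_, ?_⟩
    · rw [πs_iRs]
    · apply Ideal.mem_map_of_mem
      exact hw
  | zero => exact ⟨∅, 0, map_zero _, zero_mem _⟩
  | add z w _ _ hz hw =>
    obtain ⟨s, x, rfl, hx⟩ := hz
    obtain ⟨t, y, rfl, hy⟩ := hw
    refine ⟨s ∪ t, τ (A := A) (B := B) (V := V) (s := s) (s' := s ∪ t) Finset.subset_union_left x +
      τ (A := A) (B := B) (V := V) (s := t) (s' := s ∪ t) Finset.subset_union_right y, ?_, ?_⟩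
    · rw [map_add, πs_τ, πs_τ]
    · exact add_mem (map_ps_le _ (Ideal.mem_map_of_mem _ hx))
        (map_ps_le _ (Ideal.mem_map_of_mem _ hy))
  | smul c z _ hz =>
    obtain ⟨s, x, rfl, hx⟩ := hz
    obtain ⟨t, hst, y, rfl⟩ := exists_stage_πs_eq s c
    refine ⟨t, y * τ hst x, ?_, ?_⟩
    · rw [map_mul, πs_τ, smul_eq_mul]
    · exact Ideal.mul_mem_left _ _ (map_ps_le _ (Ideal.mem_map_of_mem _ hx))

end Local

/-- **Finite stage lemma.** -/
theorem finite_stage [IsDomain V] [ValuationRing V]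
    (hno : ¬ ∃ x' x : Ideal (B ⊗[A] V), x'.IsPrime ∧ x.IsPrime ∧ x' ≤ x ∧
        x'.comap (iR (A := A) (B := B)) = ⊥ ∧
        x.comap (iR (A := A) (B := B)) = IsLocalRing.maximalIdeal V) :
    ∃ s : Finset V, ¬ ∃ x' x : Ideal (B ⊗[A] Ast A V s), x'.IsPrime ∧ x.IsPrime ∧ x' ≤ x ∧
        x'.comap (iRs s) = ⊥ ∧ ps s ≤ x.comap (iRs s) := by
  classical
  -- Step 1: T + 𝔪 C = ⊤
  have step1 : ∃ (t z : B ⊗[A] V) (v : V), v ≠ 0 ∧ iR v * t = 0 ∧
      z ∈ Ideal.map (iR (A := A) (B := B)) (IsLocalRing.maximalIdeal V) ∧ t + z = 1 := by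
    by_contra hcon
    -- the ideal generated by torsion and 𝔪
    let T : Ideal (B ⊗[A] V) :=
      { carrier := {c | ∃ v : V, v ≠ 0 ∧ iR v * c = 0}
        add_mem' := by
          rintro a b ⟨v, hv, hva⟩ ⟨w, hw, hwb⟩
          refine ⟨v * w, mul_ne_zero hv hw, ?_⟩
          rw [map_mul, mul_add]
          have h1 : iR v * iR w * a = iR (A := A) (B := B) w * (iR v * a) := by ring
          have h2 : iR v * iR w * b = iR (A := A) (B := B) v * (iR w * b) := by ring
          rw [h1, h2, hva, hwb]; simp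
        zero_mem' := ⟨1, one_ne_zero, by simp⟩
        smul_mem' := by
          rintro c a ⟨v, hv, hva⟩
          refine ⟨v, hv, ?_⟩
          have : iR v * (c • a) = c * (iR (A := A) (B := B) v * a) := by rw [smul_eq_mul]; ring
          rw [this, hva, mul_zero] }
    have hne : T ⊔ Ideal.map (iR (A := A) (B := B)) (IsLocalRing.maximalIdeal V) ≠ ⊤ := by
      intro htop
      have h1 : (1 : B ⊗[A] V) ∈ T ⊔ Ideal.map (iR (A := A) (B := B))
          (IsLocalRing.maximalIdeal V) := by rw [htop]; trivial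
      obtain ⟨t, ht, z, hz, htz⟩ := Submodule.mem_sup.mp h1
      obtain ⟨v, hv, hvt⟩ := ht
      exact hcon ⟨t, z, v, hv, hvt, hz, htz⟩
    obtain ⟨x, hxmax, hx⟩ := Ideal.exists_le_maximal _ hne
    haveI : x.IsPrime := hxmax.isPrime
    have hxm : x.comap (iR (A := A) (B := B)) = IsLocalRing.maximalIdeal V := by
      have h1 : IsLocalRing.maximalIdeal V ≤ x.comap (iR (A := A) (B := B)) :=
        Ideal.map_le_iff_le_comap.mp (le_sup_right.trans hx)
      have h2 : x.comap (iR (A := A) (B := B)) ≠ ⊤ := Ideal.comap_ne_top _ hxmax.ne_top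
      exact ((IsLocalRing.maximalIdeal.isMaximal V).eq_of_le h2 h1).symm
    obtain ⟨x', hx'p, hx'x, hx'0⟩ := exists_prime_le_comap_eq_bot (iR (A := A) (B := B)) x
      (fun c hc => hx (Ideal.mem_sup_left hc))
    exact hno ⟨x', x, hx'p, inferInstance, hx'x, hx'0, hxm⟩
  obtain ⟨t, z, v, hv, hvt, hz, htz⟩ := step1
  -- Step 2: descend to a finite stage
  obtain ⟨s1, z1, hz1, hz1m⟩ := exists_stage_mem_map z hz
  obtain ⟨s2, h12, t2, ht2⟩ := exists_stage_πs_eq (s1 ∪ {v}) t
  have h1s2 : s1 ≤ s2 := Finset.subset_union_left.trans h12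
  have hvs2 : v ∈ Ast A V s2 :=
    Algebra.subset_adjoin (Finset.mem_coe.mpr (h12 (Finset.mem_union_right _ (by simp))))
  let v2 : Ast A V s2 := ⟨v, hvs2⟩
  let z2 : B ⊗[A] Ast A V s2 := τ h1s2 z1
  -- δ1 = 1 - t2 - z2, δ2 = v2 t2
  have hδ1 : πs s2 (1 - t2 - z2) = 0 := by
    rw [map_sub, map_sub, map_one, ht2, πs_τ, hz1, ← htz]; ring
  obtain ⟨s3, h23, hδ1'⟩ := exists_stage_τ_eq_zero s2 _ hδ1
  have hδ2 : πs s3 (τ h23 (iRs s2 v2 * t2)) = 0 := by
    rw [πs_τ, map_mul, πs_iRs, ht2]; exact hvt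
  obtain ⟨s4, h34, hδ2'⟩ := exists_stage_τ_eq_zero s3 _ hδ2
  -- final stage s4
  have h24 : s2 ≤ s4 := h23.trans h34
  let t4 : B ⊗[A] Ast A V s4 := τ h24 t2
  let z4 : B ⊗[A] Ast A V s4 := τ h24 z2
  let v4 : Ast A V s4 := incl A V h24 v2
  have e1 : t4 + z4 = 1 := by
    have : τ h34 (τ h23 (1 - t2 - z2)) = 0 := by rw [hδ1', map_zero]
    rw [τ_τ, map_sub, map_sub, map_one] at this
    have h5 : (1 : B ⊗[A] Ast A V s4) - t4 - z4 = 0 := this
    linear_combination -h5
  have e2 : iRs s4 v4 * t4 = 0 := by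
    have : τ h34 (τ h23 (iRs s2 v2 * t2)) = 0 := hδ2'
    rw [τ_τ, map_mul, τ_iRs] at this
    exact this
  have e3 : z4 ∈ Ideal.map (iRs (B := B) s4) (ps s4) := by
    have : z4 = τ (h1s2.trans h24) z1 := τ_τ _ _ _
    rw [this]
    exact map_ps_le _ (Ideal.mem_map_of_mem _ hz1m)
  have hv4 : v4 ≠ 0 := by
    intro h0
    apply hv
    have := congrArg (fun a : Ast A V s4 => (a : V)) h0
    exact this
  -- Step 3
  refine ⟨s4, ?_⟩
  rintro ⟨x', x, hx'p, hxp, hx'x, hx'0, hxm⟩
  have ht4 : t4 ∈ x' := by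
    have h0 : iRs s4 v4 * t4 ∈ x' := by rw [e2]; exact zero_mem _
    rcases hx'p.mem_or_mem h0 with h | h
    · exfalso
      have : v4 ∈ x'.comap (iRs s4) := h
      rw [hx'0] at this
      exact hv4 this
    · exact h
  have hz4 : z4 ∈ x := (Ideal.map_le_iff_le_comap.mpr hxm) e3
  have : (1 : B ⊗[A] Ast A V s4) ∈ x := by
    rw [← e1]; exact add_mem (hx'x ht4) hz4
  exact hxp.ne_top ((Ideal.eq_top_iff_one _).mpr this)

end Groth.Agent.Lib.Helper10.SubtrFS
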