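import Mathlib
import Groth.Agent.Lib.Helper10.SubtrFS2
import Groth.Prelude.Def_W4c2submetdescSubtr

/-!
# Affine charts of a base change `X ×_Y Spec R`
-/

set_option autoImplicit false
set_option linter.unusedSectionVars false
set_option linter.style.haveILetI false
set_option backward.isDefEq.respectTransparency.types false
set_option maxHeartbeats 4000000
set_option synthInstance.maxHeartbeats 400000
universe u

open CategoryTheory CategoryTheory.Limits AlgebraicGeometry Opposite TensorProduct

namespace Groth.Agent.Lib.Helper10.SubtrFS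

section Chart

variable {A B : Type u} (R : Type u) [CommRing A] [CommRing B] [CommRing R] [Algebra A B]
  [Algebra A R]
variable {X Y : Scheme.{u}} (f : X ⟶ Y) (jY : Spec (CommRingCat.of A) ⟶ Y) [IsOpenImmersion jY]
  (jX : Spec (CommRingCat.of B) ⟶ X) [IsOpenImmersion jX]
  (hcomm : jX ≫ f = Spec.map (CommRingCat.ofHom (algebraMap A B)) ≫ jY)

/-- the base morphism `Spec R ⟶ Y`. -/
noncomputable abbrev gR : Spec (CommRingCat.of R) ⟶ Y :=
  Spec.map (CommRingCat.ofHom (algebraMap A R)) ≫ jY

/-- the chart `Spec (B ⊗ R) ⟶ X ×_Y Spec R`. -/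
noncomputable def chart : Spec (CommRingCat.of (B ⊗[A] R)) ⟶ pullback f (gR R jY) :=
  (pullbackSpecIso A B R).inv ≫
    pullback.map (Spec.map (CommRingCat.ofHom (algebraMap A B)))
      (Spec.map (CommRingCat.ofHom (algebraMap A R))) f (gR R jY) jX (𝟙 _) jY hcomm.symm
      (by simp)

instance : IsOpenImmersion (chart R f jY jX hcomm) := by
  unfold chart; infer_instance

theorem chart_snd : chart R f jY jX hcomm ≫ pullback.snd f (gR R jY) =
    Spec.map (CommRingCat.ofHom (iR (A := A) (B := B) (V := R))) := by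
  unfold chart
  rw [Category.assoc, pullback.lift_snd, Category.comp_id]
  exact pullbackSpecIso_inv_snd A B R

theorem chart_fst : chart R f jY jX hcomm ≫ pullback.fst f (gR R jY) =
    Spec.map (CommRingCat.ofHom Algebra.TensorProduct.includeLeftRingHom) ≫ jX := by
  unfold chart
  rw [Category.assoc, pullback.lift_fst, ← Category.assoc, pullbackSpecIso_inv_fst]

theorem range_chart : Set.range (chart R f jY jX hcomm) =
    pullback.fst f (gR R jY) ⁻¹' Set.range jX := by
  unfold chart
  rw [Scheme.Hom.comp_base, TopCat.coe_comp, Set.range_comp]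
  have : Set.range (pullbackSpecIso A B R).inv = Set.univ :=
    Set.range_eq_univ.mpr (pullbackSpecIso A B R).inv.surjective
  rw [this, Set.image_univ, Scheme.Pullback.range_map]
  simp

/-- points of the chart: the second projection is the contraction. -/
theorem snd_chart_apply (p : Spec (CommRingCat.of (B ⊗[A] R))) :
    ((pullback.snd f (gR R jY)) (chart R f jY jX hcomm p)).asIdeal =
      p.asIdeal.comap (iR (A := A) (B := B) (V := R)) := by
  rw [← Scheme.Hom.comp_apply, chart_snd]
  rfl

include jX hcomm in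
/-- W1: a pair of primes of `B ⊗ R` gives a pair of points of the base change. -/
theorem exists_pair_of_primes (x' x : Ideal (B ⊗[A] R)) [hx' : x'.IsPrime] [hx : x.IsPrime]
    (hle : x' ≤ x) :
    ∃ z' z : ↥(pullback f (gR R jY)), z' ⤳ z ∧
      ((pullback.snd f (gR R jY)) z').asIdeal = x'.comap (iR (A := A) (B := B) (V := R)) ∧
      ((pullback.snd f (gR R jY)) z).asIdeal = x.comap (iR (A := A) (B := B) (V := R)) := by
  let p' : Spec (CommRingCat.of (B ⊗[A] R)) := (⟨x', hx'⟩ : PrimeSpectrum (B ⊗[A] R))
  let p : Spec (CommRingCat.of (B ⊗[A] R)) := (⟨x, hx⟩ : PrimeSpectrum (B ⊗[A] R))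
  have hsp : p' ⤳ p := (PrimeSpectrum.le_iff_specializes (R := B ⊗[A] R) p' p).mp hle
  exact ⟨chart R f jY jX hcomm p', chart R f jY jX hcomm p,
    hsp.map (chart R f jY jX hcomm).continuous, snd_chart_apply R f jY jX hcomm p',
    snd_chart_apply R f jY jX hcomm p⟩

include hcomm in
/-- W2: a pair of points of the base change whose special member lies over the chart comes from a
pair of primes. -/
theorem exists_primes_of_pair (z' z : ↥(pullback f (gR R jY))) (hsp : z' ⤳ z)
    (hz : pullback.fst f (gR R jY) z ∈ Set.range jX) :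
    ∃ x' x : Ideal (B ⊗[A] R), x'.IsPrime ∧ x.IsPrime ∧ x' ≤ x ∧
      x'.comap (iR (A := A) (B := B) (V := R)) = ((pullback.snd f (gR R jY)) z').asIdeal ∧
      x.comap (iR (A := A) (B := B) (V := R)) = ((pullback.snd f (gR R jY)) z).asIdeal := by
  have hzr : z ∈ Set.range (chart R f jY jX hcomm) := by
    rw [range_chart]; exact hz
  have hz'r : z' ∈ Set.range (chart R f jY jX hcomm) :=
    hsp.mem_open (chart R f jY jX hcomm).isOpenEmbedding.isOpen_range hzr
  obtain ⟨p, rfl⟩ := hzr
  obtain ⟨p', rfl⟩ := hz'r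
  have hsp' : p' ⤳ p :=
    (chart R f jY jX hcomm).isOpenEmbedding.isInducing.specializes_iff.mp hsp
  have hle : p'.asIdeal ≤ p.asIdeal :=
    (PrimeSpectrum.le_iff_specializes (R := B ⊗[A] R) p' p).mpr hsp'
  exact ⟨p'.asIdeal, p.asIdeal, p'.isPrime, p.isPrime, hle,
    (snd_chart_apply R f jY jX hcomm p').symm, (snd_chart_apply R f jY jX hcomm p).symm⟩

end Chart

end Groth.Agent.Lib.Helper10.SubtrFS
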