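import Mathlib
import Groth.Agent.Lib.Helper10.SubtrFS3

/-!
# Finite stage lemma (schemes)
-/

set_option autoImplicit false
set_option linter.unusedSectionVars false
set_option linter.style.haveILetI false
set_option backward.isDefEq.respectTransparency.types false
set_option maxHeartbeats 4000000
set_option synthInstance.maxHeartbeats 400000
universe u

open CategoryTheory CategoryTheory.Limits AlgebraicGeometry Opposite TensorProduct

namespace Groth.Agent.Lib.Helper10.SubtrFS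

variable {X Y : Scheme.{u}} (f : X ⟶ Y)
  {A V : Type u} [CommRing A] [CommRing V] [IsDomain V] [ValuationRing V] [Algebra A V]
  (jY : Spec (CommRingCat.of A) ⟶ Y) [IsOpenImmersion jY]

/-- monotonicity of prime pairs in the stage. -/
theorem pair_mono {B : Type u} [CommRing B] [Algebra A B] {s s' : Finset V} (h : s ≤ s')
    (H : ∃ x' x : Ideal (B ⊗[A] Ast A V s'), x'.IsPrime ∧ x.IsPrime ∧ x' ≤ x ∧
        x'.comap (iRs s') = ⊥ ∧ ps s' ≤ x.comap (iRs s')) :
    ∃ x' x : Ideal (B ⊗[A] Ast A V s), x'.IsPrime ∧ x.IsPrime ∧ x' ≤ x ∧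
        x'.comap (iRs s) = ⊥ ∧ ps s ≤ x.comap (iRs s) := by
  obtain ⟨x', x, hx'p, hxp, hle, h0, hm⟩ := H
  refine ⟨x'.comap (τ (A := A) (B := B) h), x.comap (τ (A := A) (B := B) h),
    inferInstance, inferInstance, Ideal.comap_mono hle, ?_, ?_⟩
  · rw [eq_bot_iff]
    intro a ha
    rw [Ideal.mem_comap, Ideal.mem_comap, τ_iRs] at ha
    have h1 : incl A V h a ∈ x'.comap (iRs s') := ha
    rw [h0] at h1
    have h2 : incl A V h a = 0 := h1
    have h3 : (a : V) = 0 := congrArg (fun b : Ast A V s' => (b : V)) h2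
    exact Subtype.ext h3
  · intro a ha
    rw [Ideal.mem_comap, Ideal.mem_comap, τ_iRs]
    have h1 : incl A V h a ∈ ps (A := A) s' := ha
    exact hm h1

/-- Lemma N: if the pair (generic, closed) does not lift over `V`, then over each affine open of
`X` above the chart of `Y` it does not lift at sufficiently large finite stages. -/
theorem exists_stage_no_pair
    (hno : ¬ ∃ x x' : ↥(pullback f (gR V jY)), x' ⤳ x ∧
      (pullback.snd f (gR V jY)) x = IsLocalRing.closedPoint V ∧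
      (pullback.snd f (gR V jY)) x' = (⟨⊥, Ideal.isPrime_bot⟩ : PrimeSpectrum V))
    (U : X.Opens) (hU : IsAffineOpen U) (hUO : (U : Set X) ⊆ f ⁻¹' Set.range jY) :
    ∃ sU : Finset V, ∀ s, sU ≤ s →
      ¬ ∃ z' z : ↥(pullback f (gR (Ast A V s) jY)), z' ⤳ z ∧
        ((pullback.snd f (gR (Ast A V s) jY)) z').asIdeal = ⊥ ∧
        ps s ≤ ((pullback.snd f (gR (Ast A V s) jY)) z).asIdeal ∧
        pullback.fst f (gR (Ast A V s) jY) z ∈ U := by
  let jX : Spec (CommRingCat.of Γ(X, U)) ⟶ X := hU.fromSpec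
  haveI : IsOpenImmersion jX := inferInstanceAs (IsOpenImmersion hU.fromSpec)
  have hrjX : Set.range jX = (U : Set X) := hU.range_fromSpec
  have hrange : Set.range (jX ≫ f) ⊆ Set.range jY := by
    rintro _ ⟨p, rfl⟩
    rw [Scheme.Hom.comp_apply]
    apply hUO
    rw [← hrjX]
    exact ⟨p, rfl⟩
  let l : Spec (CommRingCat.of Γ(X, U)) ⟶ Spec (CommRingCat.of A) :=
    IsOpenImmersion.lift jY (jX ≫ f) hrange
  have hl : l ≫ jY = jX ≫ f := IsOpenImmersion.lift_fac _ _ _
  let α : CommRingCat.of A ⟶ CommRingCat.of Γ(X, U) := Spec.preimage l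
  have hα : Spec.map α = l := Spec.map_preimage l
  letI : Algebra A Γ(X, U) := α.hom.toAlgebra
  have hcomm : jX ≫ f = Spec.map (CommRingCat.ofHom (algebraMap A Γ(X, U))) ≫ jY := by
    rw [← hl, ← hα]
    rfl
  have hnoV : ¬ ∃ x' x : Ideal (Γ(X, U) ⊗[A] V), x'.IsPrime ∧ x.IsPrime ∧ x' ≤ x ∧
        x'.comap (iR (A := A) (B := Γ(X, U))) = ⊥ ∧
        x.comap (iR (A := A) (B := Γ(X, U))) = IsLocalRing.maximalIdeal V := by
    rintro ⟨x', x, hx'p, hxp, hle, h0, hm⟩
    obtain ⟨z', z, hsp, hz', hz⟩ := exists_pair_of_primes V f jY jX hcomm x' x hle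
    apply hno
    refine ⟨z, z', hsp, ?_, ?_⟩
    · apply PrimeSpectrum.ext
      rw [hz, hm]
      rfl
    · apply PrimeSpectrum.ext
      rw [hz', h0]
  obtain ⟨sU, hsU⟩ := finite_stage hnoV
  refine ⟨sU, fun s hs => ?_⟩
  rintro ⟨z', z, hsp, hz', hz, hzU⟩
  apply hsU
  apply pair_mono hs
  obtain ⟨x', x, hx'p, hxp, hle, h0, hm⟩ :=
    exists_primes_of_pair (Ast A V s) f jY jX hcomm z' z hsp (by rw [hrjX]; exact hzU)
  exact ⟨x', x, hx'p, hxp, hle, by rw [← hz']; exact h0, by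
    have : x.comap (iRs s) = ((pullback.snd f (gR (Ast A V s) jY)) z).asIdeal := hm
    rw [this]; exact hz⟩

/-- **Finite stage lemma, scheme form.** -/
theorem exists_pair_of_finite_stages [QuasiCompact f]
    (H : ∀ s : Finset V, ∃ z' z : ↥(pullback f (gR (Ast A V s) jY)), z' ⤳ z ∧
        ((pullback.snd f (gR (Ast A V s) jY)) z').asIdeal = ⊥ ∧
        ps s ≤ ((pullback.snd f (gR (Ast A V s) jY)) z).asIdeal) :
    ∃ x x' : ↥(pullback f (gR V jY)), x' ⤳ x ∧
      (pullback.snd f (gR V jY)) x = IsLocalRing.closedPoint V ∧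
      (pullback.snd f (gR V jY)) x' = (⟨⊥, Ideal.isPrime_bot⟩ : PrimeSpectrum V) := by
  classical
  by_contra hno
  have hOc : IsCompact (f ⁻¹' (Set.range jY)) :=
    QuasiCompact.isCompact_preimage (f := f) _ jY.isOpenEmbedding.isOpen_range
      (isCompact_range jY.continuous)
  have hOo : IsOpen (f ⁻¹' (Set.range jY)) :=
    jY.isOpenEmbedding.isOpen_range.preimage f.continuous
  have hcov : ∀ x : ↥(f ⁻¹' (Set.range jY)), ∃ U : X.Opens, IsAffineOpen U ∧ (x : X) ∈ U ∧
      (U : Set X) ⊆ f ⁻¹' (Set.range jY) := by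
    intro x
    obtain ⟨U, hU, hxU, hUO⟩ := TopologicalSpace.Opens.isBasis_iff_nbhd.mp X.isBasis_affineOpens
      (show (x : X) ∈ (⟨f ⁻¹' (Set.range jY), hOo⟩ : X.Opens) from x.2)
    exact ⟨U, hU, hxU, hUO⟩
  choose U hU hxU hUO using hcov
  obtain ⟨t, ht⟩ := hOc.elim_finite_subcover (fun x => (U x : Set X))
    (fun x => (U x).isOpen) (fun x hx => Set.mem_iUnion.mpr ⟨⟨x, hx⟩, hxU _⟩)
  have hN := fun x => exists_stage_no_pair f jY hno (U x) (hU x) (hUO x)
  choose sU hsU using hN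
  let s : Finset V := t.sup sU
  obtain ⟨z', z, hsp, hz', hz⟩ := H s
  have hzO : pullback.fst f (gR (Ast A V s) jY) z ∈ f ⁻¹' (Set.range jY) := by
    change f (pullback.fst f (gR (Ast A V s) jY) z) ∈ Set.range jY
    rw [← Scheme.Hom.comp_apply, pullback.condition, Scheme.Hom.comp_apply,
      Scheme.Hom.comp_apply]
    exact ⟨_, rfl⟩
  obtain ⟨x, hx⟩ := Set.mem_iUnion.mp (ht hzO)
  obtain ⟨hxt, hzx⟩ := Set.mem_iUnion.mp hx
  exact hsU x s (Finset.le_sup hxt) ⟨z', z, hsp, hz', hz, hzx⟩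

end Groth.Agent.Lib.Helper10.SubtrFS
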