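import Mathlib.AlgebraicGeometry.ValuativeCriterion
import Groth.Prelude.Def_HTop

set_option autoImplicit false
universe w u
open CategoryTheory CategoryTheory.Limits AlgebraicGeometry Opposite IsLocalRing

namespace Groth.Agent.Lib.Helper10.ValSpec

/-- The generic point of the spectrum of a domain. -/
def genericPt (A : CommRingCat.{u}) [IsDomain A] : ↥(Spec A) :=
  (⟨⊥, Ideal.isPrime_bot⟩ : PrimeSpectrum A)

lemma genericPt_specializes (A : CommRingCat.{u}) [IsDomain A] (p : ↥(Spec A)) :
    genericPt A ⤳ p := by
  exact (PrimeSpectrum.le_iff_specializes (⟨⊥, Ideal.isPrime_bot⟩ : PrimeSpectrum A) p).mp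
    (bot_le (a := (show PrimeSpectrum A from p).asIdeal))

lemma SpecMap_genericPt {A B : CommRingCat.{u}} [IsDomain A] [IsDomain B] (φ : A ⟶ B)
    (hφ : Function.Injective φ.hom) : Spec.map φ (genericPt B) = genericPt A := by
  change PrimeSpectrum.comap φ.hom ⟨⊥, Ideal.isPrime_bot⟩ = ⟨⊥, Ideal.isPrime_bot⟩
  apply PrimeSpectrum.ext
  change Ideal.comap φ.hom ⊥ = ⊥
  rw [← RingHom.ker_eq_comap_bot]
  exact (RingHom.injective_iff_ker_eq_bot _).mp hφ

/-- A specialization of points of a scheme is realized by a morphism from the spectrum of a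
valuation ring. -/
theorem exists_valuationRing_of_specializes {Z : Scheme.{u}} {z' z : Z} (h : z' ⤳ z) :
    ∃ (A : CommRingCat.{u}) (_ : IsDomain A) (_ : ValuationRing A) (a : Spec A ⟶ Z),
      a (genericPt A) = z' ∧ a (closedPoint A) = z := by
  let ψ : Z.presheaf.stalk z ⟶ Z.residueField z' := Z.presheaf.stalkSpecializes h ≫ Z.residue z'
  obtain ⟨A, hA, hA_local⟩ := exists_factor_valuationRing ψ.hom
  let ψA : Z.presheaf.stalk z ⟶ CommRingCat.of A :=
    CommRingCat.ofHom (ψ.hom.codRestrict _ hA)
  refine ⟨CommRingCat.of A, inferInstance, inferInstance, Spec.map ψA ≫ Z.fromSpecStalk z, ?_, ?_⟩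
  · have hw : Z.fromSpecResidueField z' =
        Spec.map (CommRingCat.ofHom (algebraMap A (Z.residueField z'))) ≫
          Spec.map ψA ≫ Z.fromSpecStalk z := by
      rw [Scheme.fromSpecResidueField, ← Scheme.SpecMap_stalkSpecializes_fromSpecStalk h]
      simp_rw [← Spec.map_comp_assoc]
      rfl
    have hgen : Spec.map (CommRingCat.ofHom (algebraMap A (Z.residueField z')))
        (closedPoint (Z.residueField z')) = genericPt (CommRingCat.of A) := by
      change PrimeSpectrum.comap (algebraMap A (Z.residueField z')) _ = _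
      apply PrimeSpectrum.ext
      change Ideal.comap (algebraMap A (Z.residueField z')) (maximalIdeal _) = ⊥
      rw [IsLocalRing.maximalIdeal_eq_bot, ← RingHom.ker_eq_comap_bot]
      exact (RingHom.injective_iff_ker_eq_bot _).mp (FaithfulSMul.algebraMap_injective _ _)
    have e1 : Z.fromSpecResidueField z' (closedPoint (Z.residueField z')) = z' :=
      Scheme.fromSpecResidueField_apply z' _
    have e2 : Z.fromSpecResidueField z' (closedPoint (Z.residueField z')) =
        (Spec.map ψA ≫ Z.fromSpecStalk z)
          (Spec.map (CommRingCat.ofHom (algebraMap A (Z.residueField z')))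
            (closedPoint (Z.residueField z'))) := by
      rw [hw]
      rfl
    rw [← hgen, ← e2, e1]
  · have : Spec.map ψA (closedPoint A) = closedPoint (Z.presheaf.stalk z) :=
      comap_closedPoint (S := A) (ψ.hom.codRestrict A.toSubring hA)
    calc (Spec.map ψA ≫ Z.fromSpecStalk z) (closedPoint A)
        = Z.fromSpecStalk z (Spec.map ψA (closedPoint A)) := rfl
      _ = Z.fromSpecStalk z (closedPoint (Z.presheaf.stalk z)) := by rw [this]
      _ = z := Z.fromSpecStalk_closedPoint

end Groth.Agent.Lib.Helper10.ValSpec
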