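import Mathlib
import Groth.Agent.Lib.Helper10.SubtrFS4
import Groth.Agent.Lib.Helper10.Subtr3
import Groth.Agent.S14765
import Groth.Agent.S14768
import Groth.Prelude.Def_SGA1

/-!
# Universally S-subtrusive vs universally submersive: general tools
-/

set_option autoImplicit false
set_option linter.unusedSectionVars false
set_option linter.style.haveILetI false
set_option backward.isDefEq.respectTransparency.types false
set_option maxHeartbeats 4000000
set_option synthInstance.maxHeartbeats 400000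
universe u

open CategoryTheory CategoryTheory.Limits AlgebraicGeometry Opposite TensorProduct

namespace Groth.Agent.Lib.Helper10.SubtrFS

open Groth.Agent.Lib.Helper10.SubtrLib

instance : (Subtr.UnivSSubtrusive.{u}).IsStableUnderBaseChange := by
  unfold Subtr.UnivSSubtrusive; infer_instance

/-- A quasi-compact universally S-subtrusive morphism is submersive. -/
theorem isQuotientMap_of_univSSubtrusive {X Y : Scheme.{u}} (f : X ⟶ Y) [QuasiCompact f]
    (hf : Subtr.UnivSSubtrusive f) : Topology.IsQuotientMap f := by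
  have hpair : Subtr.IsSSubtrusive f := MorphismProperty.universally_le _ _ hf
  have hsurj : Function.Surjective f := by
    intro y
    obtain ⟨x, _, _, hx, _⟩ := hpair (specializes_rfl : y ⤳ y)
    exact ⟨x, hx⟩
  rw [Topology.isQuotientMap_iff_isClosed]
  refine ⟨hsurj, fun F => ⟨fun hF => hF.preimage f.continuous, fun hF => ?_⟩⟩
  rw [← closure_subset_iff_isClosed]
  intro y hy
  obtain ⟨Y0, hY0, hyY0, -⟩ := TopologicalSpace.Opens.isBasis_iff_nbhd.mp Y.isBasis_affineOpens
    (show y ∈ (⊤ : Y.Opens) from trivial)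
  let jY : Spec Γ(Y, Y0) ⟶ Y := hY0.fromSpec
  have hj : Set.range jY = (Y0 : Set Y) := hY0.range_fromSpec
  let fA : pullback f jY ⟶ Spec Γ(Y, Y0) := pullback.snd f jY
  have hfA : Subtr.UnivSSubtrusive fA :=
    MorphismProperty.of_isPullback (P := Subtr.UnivSSubtrusive) (IsPullback.of_hasPullback f jY) hf
  have hpairA : Subtr.IsSSubtrusive fA := MorphismProperty.universally_le _ _ hfA
  have hsurjA : Function.Surjective fA := by
    intro y
    obtain ⟨x, _, _, hx, _⟩ := hpairA (specializes_rfl : y ⤳ y)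
    exact ⟨x, hx⟩
  have key : ∀ z : ↥(pullback f jY), f (pullback.fst f jY z) = jY (fA z) := by
    intro z
    rw [← Scheme.Hom.comp_apply, ← Scheme.Hom.comp_apply, pullback.condition]
  have hpre : fA ⁻¹' (jY ⁻¹' F) = pullback.fst f jY ⁻¹' (f ⁻¹' F) := by
    ext z
    change jY (fA z) ∈ F ↔ f (pullback.fst f jY z) ∈ F
    rw [key]
  have hcl : IsClosed (fA ⁻¹' (jY ⁻¹' F)) := by
    rw [hpre]; exact hF.preimage (pullback.fst f jY).continuous
  have hFA : IsClosed (jY ⁻¹' F) := by
    rw [← closure_subset_iff_isClosed]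
    intro p hp
    have hE : fA '' (fA ⁻¹' (jY ⁻¹' F)) = jY ⁻¹' F := Set.image_preimage_eq _ hsurjA
    rw [← hE] at hp
    obtain ⟨z, hz, hzp⟩ := exists_specializes_of_mem_closure_image fA hcl hp
    obtain ⟨x, x', hxx', hx, hx'⟩ := hpairA hzp
    have hx'F : x' ∈ fA ⁻¹' (jY ⁻¹' F) := by
      change fA x' ∈ jY ⁻¹' F
      rw [hx']; exact hz
    have hxF : x ∈ fA ⁻¹' (jY ⁻¹' F) := hxx'.mem_closed hcl hx'F
    rw [← hx]; exact hxF
  obtain ⟨a, rfl⟩ : y ∈ Set.range jY := by rw [hj]; exact hyY0
  have h1 : a ∈ jY ⁻¹' closure F := hy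
  rw [jY.isOpenEmbedding.isOpenMap.preimage_closure_eq_closure_preimage jY.continuous,
    hFA.closure_eq] at h1
  exact h1

/-- A quasi-compact universally S-subtrusive morphism is universally submersive. -/
theorem univSubmersive_of_univSSubtrusive {X Y : Scheme.{u}} (f : X ⟶ Y) [QuasiCompact f]
    (hf : Subtr.UnivSSubtrusive f) : SGA1.UnivSubmersive f := by
  intro X' Y' i₁ i₂ f' h
  haveI : QuasiCompact f' := MorphismProperty.of_isPullback (P := @QuasiCompact) h.flip ‹_›
  have hf' : Subtr.UnivSSubtrusive f' :=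
    MorphismProperty.of_isPullback (P := Subtr.UnivSSubtrusive) h.flip hf
  exact isQuotientMap_of_univSSubtrusive f' hf'

/-- every morphism from the spectrum of a local ring factors through an affine chart. -/
theorem exists_chart {Y : Scheme.{u}} {V : Type u} [CommRing V] [IsLocalRing V]
    (g : Spec (CommRingCat.of V) ⟶ Y) :
    ∃ (Y0 : Y.Opens) (hY0 : IsAffineOpen Y0) (φ : Γ(Y, Y0) →+* V),
      g = Spec.map (CommRingCat.ofHom φ) ≫ hY0.fromSpec := by
  obtain ⟨Y0, hY0, hyY0, -⟩ := TopologicalSpace.Opens.isBasis_iff_nbhd.mp Y.isBasis_affineOpens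
    (show g (IsLocalRing.closedPoint V) ∈ (⊤ : Y.Opens) from trivial)
  have hrange : Set.range g ⊆ Set.range hY0.fromSpec := by
    rw [hY0.range_fromSpec]
    rintro _ ⟨p, rfl⟩
    have hsp : p ⤳ IsLocalRing.closedPoint V := IsLocalRing.specializes_closedPoint p
    exact (hsp.map g.continuous).mem_open Y0.isOpen hyY0
  let l : Spec (CommRingCat.of V) ⟶ Spec Γ(Y, Y0) := IsOpenImmersion.lift hY0.fromSpec g hrange
  have hl : l ≫ hY0.fromSpec = g := IsOpenImmersion.lift_fac _ _ _
  refine ⟨Y0, hY0, (Spec.preimage l).hom, ?_⟩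
  rw [← hl]
  congr 1
  exact (Spec.map_preimage l).symm

/-- Criterion: universal S-subtrusiveness from lifting of pairs at all finite stages of all
valuation rings over all affine charts. -/
theorem univSSubtrusive_of_stage_pairs {X Y : Scheme.{u}} (f : X ⟶ Y) [QuasiCompact f]
    (H : ∀ (V : Type u) [CommRing V] [IsDomain V] [ValuationRing V] (Y0 : Y.Opens)
      (hY0 : IsAffineOpen Y0) [Algebra Γ(Y, Y0) V] (s : Finset V),
      ∃ z' z : ↥(pullback f (gR (Ast Γ(Y, Y0) V s) hY0.fromSpec)), z' ⤳ z ∧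
        ((pullback.snd f (gR (Ast Γ(Y, Y0) V s) hY0.fromSpec)) z').asIdeal = ⊥ ∧
        ps s ≤ ((pullback.snd f (gR (Ast Γ(Y, Y0) V s) hY0.fromSpec)) z).asIdeal) :
    Subtr.UnivSSubtrusive f := by
  rw [Groth.Agent.S14768.result]
  intro V _ _ _ g
  obtain ⟨Y0, hY0, φ, rfl⟩ := exists_chart g
  letI : Algebra Γ(Y, Y0) V := φ.toAlgebra
  refine ((Groth.Agent.S14765.result V (pullback.snd f
    (Spec.map (CommRingCat.ofHom φ) ≫ hY0.fromSpec))).out 3 1).mp ?_
  exact exists_pair_of_finite_stages f hY0.fromSpec (fun s => H V Y0 hY0 s)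

end Groth.Agent.Lib.Helper10.SubtrFS
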