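import Mathlib
import Groth.Agent.Lib.Helper10.SubtrSub1
import Groth.Agent.Lib.Helper21.DVRExt3

/-!
# Stage pairs from discrete valuation rings (Noetherian base)
-/

set_option autoImplicit false
set_option linter.unusedSectionVars false
set_option linter.style.haveILetI false
set_option backward.isDefEq.respectTransparency.types false
set_option maxHeartbeats 4000000
set_option synthInstance.maxHeartbeats 400000
universe u

open CategoryTheory CategoryTheory.Limits AlgebraicGeometry Opposite TensorProduct

namespace Groth.Agent.Lib.Helper10.SubtrFS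

/-- Over a Noetherian chart, pairs at every finite stage lift as soon as `f` is surjective and
the pair (generic, closed) lifts over every discrete valuation ring. -/
theorem stage_pair_of_dvr {X Y : Scheme.{u}} (f : X ⟶ Y) [Surjective f]
    {A V : Type u} [CommRing A] [IsNoetherianRing A] [CommRing V] [IsDomain V] [ValuationRing V]
    [Algebra A V] (jY : Spec (CommRingCat.of A) ⟶ Y)
    (hdvr : ∀ (R : Type u) [CommRing R] [IsDomain R] [IsDiscreteValuationRing R]
      (h : Spec (CommRingCat.of R) ⟶ Y), ∃ x x' : ↥(pullback f h), x' ⤳ x ∧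
        (pullback.snd f h) x = IsLocalRing.closedPoint R ∧
        (pullback.snd f h) x' = (⟨⊥, Ideal.isPrime_bot⟩ : PrimeSpectrum R))
    (s : Finset V) :
    ∃ z' z : ↥(pullback f (gR (Ast A V s) jY)), z' ⤳ z ∧
      ((pullback.snd f (gR (Ast A V s) jY)) z').asIdeal = ⊥ ∧
      ps s ≤ ((pullback.snd f (gR (Ast A V s) jY)) z).asIdeal := by
  haveI : Algebra.FiniteType A (Ast A V s) :=
    (Subalgebra.fg_iff_finiteType _).mp (Subalgebra.fg_adjoin_finset s)
  haveI : IsNoetherianRing (Ast A V s) := Algebra.FiniteType.isNoetherianRing A _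
  haveI hprime : (ps (A := A) s).IsPrime := Ideal.comap_isPrime _ _
  let t1 : Spec (CommRingCat.of (Ast A V s)) := (⟨⊥, Ideal.isPrime_bot⟩ : PrimeSpectrum (Ast A V s))
  let t0 : Spec (CommRingCat.of (Ast A V s)) := (⟨ps s, hprime⟩ : PrimeSpectrum (Ast A V s))
  by_cases hbot : ps (A := A) s = ⊥
  · obtain ⟨z, hz⟩ := (inferInstance : Surjective (pullback.snd f (gR (Ast A V s) jY))).surj t1
    refine ⟨z, z, specializes_rfl, ?_, ?_⟩
    · rw [hz]
    · rw [hz, hbot]
  · have hsp : t1 ⤳ t0 := (PrimeSpectrum.le_iff_specializes (R := Ast A V s) t1 t0).mp bot_le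
    have hne : t1 ≠ t0 := by
      intro h
      apply hbot
      have := congrArg PrimeSpectrum.asIdeal h
      exact this.symm
    obtain ⟨R, _, _, _, u, hu0, hu1⟩ :=
      Groth.Agent.Lib.Helper21.DVRExt.exists_dvr_of_specializes t1 t0 hsp hne
    obtain ⟨x, x', hxx', hx, hx'⟩ := hdvr R (u ≫ gR (Ast A V s) jY)
    let m : pullback f (u ≫ gR (Ast A V s) jY) ⟶ pullback f (gR (Ast A V s) jY) :=
      pullback.lift (pullback.fst _ _) (pullback.snd _ _ ≫ u)
        (by rw [Category.assoc, pullback.condition])
    have hm : ∀ w, (pullback.snd f (gR (Ast A V s) jY)) (m w) =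
        u ((pullback.snd f (u ≫ gR (Ast A V s) jY)) w) := by
      intro w
      rw [← Scheme.Hom.comp_apply, ← Scheme.Hom.comp_apply, pullback.lift_snd]
    refine ⟨m x', m x, hxx'.map m.continuous, ?_, ?_⟩
    · rw [hm, hx', hu1]
    · rw [hm, hx, hu0]

end Groth.Agent.Lib.Helper10.SubtrFS
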