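import Mathlib
import Groth.Agent.S14769
import Groth.Agent.S14770
import Groth.Agent.Lib.Helper24.FinSigma
import Groth.Prelude.Def_HTop

/-!
# Universally submersive finite families over a Noetherian scheme are h-coverings
-/

set_option autoImplicit false
set_option linter.unusedSectionVars false
set_option linter.style.haveILetI false
set_option backward.isDefEq.respectTransparency.types false
set_option maxHeartbeats 4000000
set_option synthInstance.maxHeartbeats 400000
universe u

open CategoryTheory CategoryTheory.Limits AlgebraicGeometry Opposite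

namespace Groth.Agent.Lib.Helper10.SubtrH

theorem lfp_of_lft_of_isLocallyNoetherian {X Y : Scheme.{u}} (g : X ⟶ Y) [LocallyOfFiniteType g]
    [IsLocallyNoetherian Y] : LocallyOfFinitePresentation g := by
  constructor
  intro U hU V hV e
  have : IsNoetherianRing Γ(Y, U) := IsLocallyNoetherian.component_noetherian ⟨U, hU⟩
  exact RingHom.FinitePresentation.of_finiteType.1 (g.finiteType_appLE hU hV e)

/-- a surjective map of spectra of local domains comes from an injective local homomorphism. -/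
theorem isExtVal_of_surjective {V W : CommRingCat.{u}} [IsDomain V] [ValuationRing V] [IsDomain W]
    [ValuationRing W] (φ : V ⟶ W) (hφ : Function.Surjective (Spec.map φ)) :
    HTop.IsExtVal V W φ := by
  constructor
  · rw [injective_iff_map_eq_zero]
    intro v hv
    obtain ⟨q, hq⟩ := hφ (⟨⊥, Ideal.isPrime_bot⟩ : PrimeSpectrum V)
    have h1 : q.asIdeal.comap φ.hom = ⊥ := congrArg PrimeSpectrum.asIdeal hq
    have h2 : v ∈ q.asIdeal.comap φ.hom := by
      rw [Ideal.mem_comap, hv]; exact zero_mem _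
    rw [h1] at h2
    exact h2
  · obtain ⟨q, hq⟩ := hφ (IsLocalRing.closedPoint V)
    have h1 : q.asIdeal.comap φ.hom = IsLocalRing.maximalIdeal V :=
      congrArg PrimeSpectrum.asIdeal hq
    constructor
    intro v hv
    by_contra hnu
    have h2 : v ∈ IsLocalRing.maximalIdeal V := (IsLocalRing.mem_maximalIdeal v).mpr hnu
    rw [← h1, Ideal.mem_comap] at h2
    exact q.isPrime.ne_top (Ideal.eq_top_of_isUnit_mem _ h2 hv)

variable {X : Scheme.{u}}

/-- the V-covering property. -/
theorem isVCover_of_univSSubtrusive (E : PreZeroHypercover.{u} X) [Finite E.I₀]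
    [∀ i, QuasiCompact (E.f i)] (hF : Subtr.UnivSSubtrusive (Sigma.desc E.f)) :
    HTop.IsVCover E := by
  classical
  intro U
  have hU : IsAffineOpen (U : X.Opens) := U.2
  let F := Sigma.desc E.f
  haveI : QuasiCompact F :=
    Groth.Agent.Lib.Helper24.FinSigma.quasiCompact_sigmaDesc E.f (fun i => inferInstance)
  have hZc : IsCompact (F ⁻¹' ((U : X.Opens) : Set X)) :=
    QuasiCompact.isCompact_preimage (f := F) _ (U : X.Opens).isOpen hU.isCompact
  -- local data at points of Z
  have hdata : ∀ z : ↥(F ⁻¹' ((U : X.Opens) : Set X)), ∃ (i : E.I₀) (W : (E.X i).Opens),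
      IsAffineOpen W ∧ W ≤ (E.f i) ⁻¹ᵁ (U : X.Opens) ∧
      (z : ↥(∐ E.X)) ∈ Set.range (W.ι ≫ Sigma.ι E.X i) := by
    intro z
    obtain ⟨⟨i, y⟩, hy⟩ := (sigmaMk E.X).surjective (z : ↥(∐ E.X))
    rw [sigmaMk_mk] at hy
    have hyU : y ∈ (E.f i) ⁻¹ᵁ (U : X.Opens) := by
      change E.f i y ∈ (U : X.Opens)
      have h3 : F ((Sigma.ι E.X i) y) ∈ ((U : X.Opens) : Set X) := by
        have := z.2
        rw [← hy] at this
        exact this
      rwa [← Scheme.Hom.comp_apply, Sigma.ι_desc] at h3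
    obtain ⟨W, hW, hyW, hWle⟩ :=
      TopologicalSpace.Opens.isBasis_iff_nbhd.mp (E.X i).isBasis_affineOpens hyU
    refine ⟨i, W, hW, hWle, ⟨⟨y, hyW⟩, ?_⟩⟩
    rw [Scheme.Hom.comp_apply]
    exact hy
  choose ix W hW hWle hzW using hdata
  obtain ⟨t, ht⟩ := hZc.elim_finite_subcover
    (fun z => Set.range ((W z).ι ≫ Sigma.ι E.X (ix z)))
    (fun z => ((W z).ι ≫ Sigma.ι E.X (ix z)).isOpenEmbedding.isOpen_range)
    (fun z hz => Set.mem_iUnion.mpr ⟨⟨z, hz⟩, hzW _⟩)
  let idx : Fin t.card → ↥(F ⁻¹' ((U : X.Opens) : Set X)) := fun k => (t.equivFin.symm k).1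
  let Fc : PreZeroHypercover.{0} ((U : X.Opens) : Scheme.{u}) :=
    { I₀ := Fin t.card
      X := fun k => ((W (idx k) : (E.X (ix (idx k))).Opens) : Scheme.{u})
      f := fun k => (E.f (ix (idx k))).resLE (U : X.Opens) (W (idx k)) (hWle (idx k)) }
  refine ⟨Fc, ⟨hU, inferInstanceAs (Finite (Fin t.card)), fun k => hW (idx k), ?_⟩, ?_⟩
  · -- HasValLift
    intro V _ _ g
    obtain ⟨V', _, _, _, a, b, hb, hab⟩ :=
      (Groth.Agent.S14769.result F).mp hF V (g ≫ (U : X.Opens).ι)
    let φ : V ⟶ CommRingCat.of V' := Spec.preimage b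
    have hφ : Spec.map φ = b := Spec.map_preimage b
    refine ⟨CommRingCat.of V', inferInstance, inferInstance, φ,
      isExtVal_of_surjective φ (by rw [hφ]; exact hb.surj), ?_⟩
    -- the closed point
    let c : Spec (CommRingCat.of V') := IsLocalRing.closedPoint V'
    have hacZ : a c ∈ F ⁻¹' ((U : X.Opens) : Set X) := by
      change F (a c) ∈ ((U : X.Opens) : Set X)
      rw [← Scheme.Hom.comp_apply, hab, Scheme.Hom.comp_apply, Scheme.Hom.comp_apply]
      exact ((g (b c)) : ↥(U : X.Opens)).2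
    obtain ⟨z, hz⟩ := Set.mem_iUnion.mp (ht hacZ)
    obtain ⟨hzt, hzr⟩ := Set.mem_iUnion.mp hz
    let k : Fin t.card := t.equivFin ⟨z, hzt⟩
    have hk : idx k = z := by
      simp [idx, k]
    have hrange : Set.range a ⊆ Set.range ((W z).ι ≫ Sigma.ι E.X (ix z)) := by
      rintro _ ⟨p, rfl⟩
      have hsp : p ⤳ c := IsLocalRing.specializes_closedPoint p
      exact (hsp.map a.continuous).mem_open
        ((W z).ι ≫ Sigma.ι E.X (ix z)).isOpenEmbedding.isOpen_range hzr
    let g'' : Spec (CommRingCat.of V') ⟶ ((W z : (E.X (ix z)).Opens) : Scheme.{u}) :=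
      IsOpenImmersion.lift ((W z).ι ≫ Sigma.ι E.X (ix z)) a hrange
    have hg'' : g'' ≫ (W z).ι ≫ Sigma.ι E.X (ix z) = a := IsOpenImmersion.lift_fac _ _ _
    have key : g'' ≫ (E.f (ix z)).resLE (U : X.Opens) (W z) (hWle z) = Spec.map φ ≫ g := by
      rw [← cancel_mono (U : X.Opens).ι, Category.assoc, Scheme.Hom.resLE_comp_ι, hφ,
        Category.assoc, ← hab, ← hg'']
      simp only [Category.assoc, F, Sigma.ι_desc]
    -- transport along idx k = z
    have : ∃ (j : Fc.I₀) (g' : Spec (CommRingCat.of V') ⟶ Fc.X j),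
        g' ≫ Fc.f j = Spec.map φ ≫ g := by
      refine ⟨k, ?_⟩
      change ∃ g' : Spec (CommRingCat.of V') ⟶
        ((W (idx k) : (E.X (ix (idx k))).Opens) : Scheme.{u}),
        g' ≫ (E.f (ix (idx k))).resLE (U : X.Opens) (W (idx k)) (hWle (idx k)) = Spec.map φ ≫ g
      rw [hk]
      exact ⟨g'', key⟩
    exact this
  · -- RefinesOver
    intro k
    exact ⟨ix (idx k), (W (idx k)).ι, by
      change (W (idx k)).ι ≫ E.f (ix (idx k)) =
        (E.f (ix (idx k))).resLE (U : X.Opens) (W (idx k)) (hWle (idx k)) ≫ (U : X.Opens).ι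
      rw [Scheme.Hom.resLE_comp_ι]⟩

end Groth.Agent.Lib.Helper10.SubtrH
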