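import Mathlib
import Groth.Agent.Lib.Helper10.SubtrSub2

/-!
# The DVR criterion for universally S-subtrusive morphisms of finite type over a Noetherian base
-/

set_option autoImplicit false
set_option linter.unusedSectionVars false
set_option linter.style.haveILetI false
set_option backward.isDefEq.respectTransparency.types false
set_option maxHeartbeats 4000000
set_option synthInstance.maxHeartbeats 400000
universe u

open CategoryTheory CategoryTheory.Limits AlgebraicGeometry Opposite TensorProduct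

namespace Groth.Agent.Lib.Helper10.SubtrFS

/-- the two points of the spectrum of a DVR. -/
theorem dvr_point_cases (R : Type u) [CommRing R] [IsDomain R] [IsDiscreteValuationRing R]
    (p : Spec (CommRingCat.of R)) :
    p = (⟨⊥, Ideal.isPrime_bot⟩ : PrimeSpectrum R) ∨ p = IsLocalRing.closedPoint R := by
  by_cases h : p.asIdeal = ⊥
  · left; exact PrimeSpectrum.ext h
  · right
    have hmax : p.asIdeal.IsMaximal := Ideal.IsPrime.isMaximal p.isPrime h
    apply PrimeSpectrum.ext
    exact IsLocalRing.eq_maximalIdeal hmax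

theorem dvr_bot_ne_closedPoint (R : Type u) [CommRing R] [IsDomain R] [IsDiscreteValuationRing R] :
    (⟨⊥, Ideal.isPrime_bot⟩ : PrimeSpectrum R) ≠ IsLocalRing.closedPoint R := by
  intro h
  have h1 : (⊥ : Ideal R) = IsLocalRing.maximalIdeal R := congrArg PrimeSpectrum.asIdeal h
  exact IsDiscreteValuationRing.not_a_field R h1.symm

/-- a surjective map between spectra of DVRs preserves generic and closed points. -/
theorem dvr_surjective_points (R R' : Type u) [CommRing R] [IsDomain R]
    [IsDiscreteValuationRing R] [CommRing R'] [IsDomain R'] [IsDiscreteValuationRing R']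
    (b : Spec (CommRingCat.of R') ⟶ Spec (CommRingCat.of R)) (hb : Function.Surjective b) :
    b (⟨⊥, Ideal.isPrime_bot⟩ : PrimeSpectrum R') = (⟨⊥, Ideal.isPrime_bot⟩ : PrimeSpectrum R) ∧
      b (IsLocalRing.closedPoint R') = IsLocalRing.closedPoint R := by
  have hsp : b (⟨⊥, Ideal.isPrime_bot⟩ : PrimeSpectrum R') ⤳ b (IsLocalRing.closedPoint R') :=
    (IsLocalRing.specializes_closedPoint (R := R') _).map b.continuous
  have hclosed : ∀ q : Spec (CommRingCat.of R), IsLocalRing.closedPoint R ⤳ q →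
      q = IsLocalRing.closedPoint R := by
    intro q hq
    have h1 := (PrimeSpectrum.le_iff_specializes (R := R) _ _).mpr hq
    have h2 : (IsLocalRing.closedPoint R).asIdeal = IsLocalRing.maximalIdeal R := rfl
    have hmax : (IsLocalRing.maximalIdeal R).IsMaximal := inferInstance
    apply PrimeSpectrum.ext
    exact (hmax.eq_of_le q.isPrime.ne_top h1).symm
  have h1 : b (⟨⊥, Ideal.isPrime_bot⟩ : PrimeSpectrum R') =
      (⟨⊥, Ideal.isPrime_bot⟩ : PrimeSpectrum R) := by
    rcases dvr_point_cases R (b (⟨⊥, Ideal.isPrime_bot⟩ : PrimeSpectrum R')) with h | h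
    · exact h
    · exfalso
      have h2 : b (IsLocalRing.closedPoint R') = IsLocalRing.closedPoint R :=
        hclosed _ (h ▸ hsp)
      obtain ⟨p, hp⟩ := hb (⟨⊥, Ideal.isPrime_bot⟩ : PrimeSpectrum R)
      rcases dvr_point_cases R' p with hp' | hp'
      · rw [hp', h] at hp; exact dvr_bot_ne_closedPoint R hp.symm
      · rw [hp', h2] at hp; exact dvr_bot_ne_closedPoint R hp.symm
  refine ⟨h1, ?_⟩
  obtain ⟨p, hp⟩ := hb (IsLocalRing.closedPoint R)
  rcases dvr_point_cases R' p with hp' | hp'
  · rw [hp', h1] at hp; exact absurd hp (dvr_bot_ne_closedPoint R)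
  · rw [hp'] at hp; exact hp

section
variable {X Y : Scheme.{u}} (f : X ⟶ Y)

/-- condition (iii). -/
def DvrLift : Prop :=
  ∀ (D : Type u) [CommRing D] [IsDomain D] [IsDiscreteValuationRing D]
    (g : Spec (CommRingCat.of D) ⟶ Y),
    ∃ (D' : Type u) (_ : CommRing D') (_ : IsDomain D') (_ : IsDiscreteValuationRing D')
      (a : Spec (CommRingCat.of D') ⟶ X) (b : Spec (CommRingCat.of D') ⟶ Spec (CommRingCat.of D)),
      Surjective b ∧ a ≫ f = b ≫ g

theorem hdvr_of_dvrLift (H : DvrLift f) (R : Type u) [CommRing R] [IsDomain R]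
    [IsDiscreteValuationRing R] (h : Spec (CommRingCat.of R) ⟶ Y) :
    ∃ x x' : ↥(pullback f h), x' ⤳ x ∧
      (pullback.snd f h) x = IsLocalRing.closedPoint R ∧
      (pullback.snd f h) x' = (⟨⊥, Ideal.isPrime_bot⟩ : PrimeSpectrum R) := by
  obtain ⟨D', _, _, _, a, b, hb, hab⟩ := H R h
  let c : Spec (CommRingCat.of D') ⟶ pullback f h := pullback.lift a b hab
  have hc : ∀ p, (pullback.snd f h) (c p) = b p := by
    intro p
    rw [← Scheme.Hom.comp_apply, pullback.lift_snd]
  obtain ⟨h1, h2⟩ := dvr_surjective_points R D' b hb.surj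
  refine ⟨c (IsLocalRing.closedPoint D'), c (⟨⊥, Ideal.isPrime_bot⟩ : PrimeSpectrum D'),
    (IsLocalRing.specializes_closedPoint (R := D') _).map c.continuous, ?_, ?_⟩
  · rw [hc, h2]
  · rw [hc, h1]

theorem surjective_of_dvrLift (H : DvrLift f) : Surjective f := by
  refine ⟨fun y => ?_⟩
  let k := Y.residueField y
  let g : Spec (CommRingCat.of (PowerSeries k)) ⟶ Y :=
    Spec.map (CommRingCat.ofHom (PowerSeries.C (R := k))) ≫ Y.fromSpecResidueField y
  obtain ⟨D', _, _, _, a, b, hb, hab⟩ := H (PowerSeries k) g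
  refine ⟨a (IsLocalRing.closedPoint D'), ?_⟩
  rw [← Scheme.Hom.comp_apply, hab, Scheme.Hom.comp_apply]
  change (Spec.map (CommRingCat.ofHom (PowerSeries.C (R := k))) ≫ Y.fromSpecResidueField y) _ = y
  rw [Scheme.Hom.comp_apply, Scheme.fromSpecResidueField_apply]

theorem dvrLift_of_univSSubtrusive [IsLocallyNoetherian Y] [LocallyOfFiniteType f]
    (hf : Subtr.UnivSSubtrusive f) : DvrLift f := by
  intro D _ _ _ g
  have hsub : Subtr.IsSSubtrusive (pullback.snd f g) :=
    hf _ _ _ (IsPullback.of_hasPullback f g).flip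
  obtain ⟨x, x', hxx', hx, hx'⟩ := hsub (IsLocalRing.specializes_closedPoint (R := D)
    (⟨⊥, Ideal.isPrime_bot⟩ : PrimeSpectrum D))
  haveI : IsLocallyNoetherian (pullback f g) :=
    LocallyOfFiniteType.isLocallyNoetherian (pullback.snd f g)
  have hne : x' ≠ x := by
    intro h
    rw [h, hx] at hx'
    exact dvr_bot_ne_closedPoint D hx'.symm
  obtain ⟨R, _, _, _, u, hu0, hu1⟩ :=
    Groth.Agent.Lib.Helper21.DVRExt.exists_dvr_of_specializes x' x hxx' hne
  refine ⟨R, inferInstance, inferInstance, inferInstance, u ≫ pullback.fst f g,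
    u ≫ pullback.snd f g, ⟨?_⟩, ?_⟩
  · intro q
    rcases dvr_point_cases D q with hq | hq
    · exact ⟨(⟨⊥, Ideal.isPrime_bot⟩ : PrimeSpectrum R), by
        rw [Scheme.Hom.comp_apply, hu1, hx', hq]⟩
    · exact ⟨IsLocalRing.closedPoint R, by rw [Scheme.Hom.comp_apply, hu0, hx, hq]⟩
  · rw [Category.assoc, Category.assoc, pullback.condition]

theorem univSSubtrusive_of_dvrLift [IsLocallyNoetherian Y] [QuasiCompact f] (H : DvrLift f) :
    Subtr.UnivSSubtrusive f := by
  haveI : Surjective f := surjective_of_dvrLift f H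
  apply univSSubtrusive_of_stage_pairs
  intro V _ _ _ Y0 hY0 _ s
  haveI : IsNoetherianRing Γ(Y, Y0) := IsLocallyNoetherian.component_noetherian ⟨Y0, hY0⟩
  apply stage_pair_of_dvr f hY0.fromSpec
  intro R _ _ _ h
  exact hdvr_of_dvrLift f H R h

end

end Groth.Agent.Lib.Helper10.SubtrFS
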