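import Mathlib
import Groth.Agent.Lib.Helper10.SubtrSub1

/-!
# Affine spaces detect universally S-subtrusive quasi-compact morphisms
-/

set_option autoImplicit false
set_option linter.unusedSectionVars false
set_option linter.style.haveILetI false
set_option backward.isDefEq.respectTransparency.types false
set_option maxHeartbeats 4000000
set_option synthInstance.maxHeartbeats 400000
universe u

open CategoryTheory CategoryTheory.Limits AlgebraicGeometry Opposite TensorProduct

namespace Groth.Agent.Lib.Helper10.SubtrFS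

/-- Transfer of pair lifting along a preimmersion into the base. -/
theorem pair_of_preimmersion {X Y W Z : Scheme.{u}} (f : X ⟶ Y) (w : W ⟶ Y) (h : Z ⟶ W)
    [IsPreimmersion h] (hW : Subtr.IsSSubtrusive (pullback.snd f w)) {z1 z0 : Z} (hz : z1 ⤳ z0) :
    ∃ q1 q0 : ↥(pullback f (h ≫ w)), q1 ⤳ q0 ∧ (pullback.snd f (h ≫ w)) q1 = z1 ∧
      (pullback.snd f (h ≫ w)) q0 = z0 := by
  obtain ⟨x0, x1, hx, hx0, hx1⟩ := hW (hz.map h.continuous)
  obtain ⟨p1, hp1f, hp1s⟩ := Scheme.Pullback.exists_preimage_pullback x1 z1 hx1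
  obtain ⟨p0, hp0f, hp0s⟩ := Scheme.Pullback.exists_preimage_pullback x0 z0 hx0
  have hp : p1 ⤳ p0 := by
    rw [← (pullback.fst (pullback.snd f w) h).isEmbedding.isInducing.specializes_iff,
      hp1f, hp0f]
    exact hx
  let e := pullbackLeftPullbackSndIso f w h
  have hsnd : ∀ p, (pullback.snd f (h ≫ w)) (e.hom p) = (pullback.snd (pullback.snd f w) h) p := by
    intro p
    rw [← Scheme.Hom.comp_apply, pullbackLeftPullbackSndIso_hom_snd]
  exact ⟨e.hom p1, e.hom p0, hp.map e.hom.continuous, by rw [hsnd, hp1s], by rw [hsnd, hp0s]⟩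

section Gens

variable {A V : Type u} [CommRing A] [CommRing V] [Algebra A V]

/-- generators of `A_s` indexed by `Fin (s.card + 1)`. -/
noncomputable def gens (s : Finset V) : ULift.{u} (Fin (s.card + 1)) → Ast A V s := fun i =>
  if h : i.down.val < s.card then
    ⟨(s.equivFin.symm ⟨i.down.val, h⟩ : V),
      Algebra.subset_adjoin (Finset.mem_coe.mpr (s.equivFin.symm ⟨i.down.val, h⟩).2)⟩
  else 0

theorem aeval_gens_surjective (s : Finset V) :
    Function.Surjective (MvPolynomial.aeval (R := A) (gens (A := A) s)) := by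
  intro a
  have hle : Ast A V s ≤ ((MvPolynomial.aeval (R := A) (gens (A := A) s)).range).map
      (Ast A V s).val := by
    apply Algebra.adjoin_le
    intro w hw
    have hw' : w ∈ s := Finset.mem_coe.mp hw
    let k : Fin s.card := s.equivFin ⟨w, hw'⟩
    let i : ULift.{u} (Fin (s.card + 1)) := ⟨⟨k.val, Nat.lt_succ_of_lt k.isLt⟩⟩
    refine ⟨gens (A := A) s i, ⟨MvPolynomial.X i, by simp⟩, ?_⟩
    have hi : i.down.val < s.card := k.isLt
    simp only [gens, hi, dite_true]
    have h2 : s.equivFin.symm ⟨i.down.val, hi⟩ = ⟨w, hw'⟩ := by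
      rw [Equiv.symm_apply_eq]
    change ((s.equivFin.symm ⟨i.down.val, hi⟩ : s) : V) = w
    rw [h2]
  obtain ⟨b, ⟨P, rfl⟩, hb⟩ := hle a.2
  exact ⟨P, Subtype.ext hb⟩

end Gens

/-- the stage `Spec A_s` embeds into an affine space over `Y`. -/
theorem exists_preimmersion_affineSpace {Y : Scheme.{u}} {A V : Type u} [CommRing A] [CommRing V]
    [Algebra A V] (jY : Spec (CommRingCat.of A) ⟶ Y) [IsOpenImmersion jY] (s : Finset V) :
    ∃ (n : ℕ) (_ : 0 < n) (h : Spec (CommRingCat.of (Ast A V s)) ⟶ AffineSpace (ULift.{u} (Fin n)) Y),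
      IsPreimmersion h ∧ h ≫ (AffineSpace (ULift.{u} (Fin n)) Y ↘ Y) = gR (Ast A V s) jY := by
  let n := s.card + 1
  let θ : MvPolynomial (ULift.{u} (Fin n)) A →+* Ast A V s :=
    (MvPolynomial.aeval (R := A) (gens (A := A) s)).toRingHom
  have hθ : Function.Surjective θ := aeval_gens_surjective s
  let c : Spec (CommRingCat.of (Ast A V s)) ⟶ AffineSpace (ULift.{u} (Fin n)) (Spec (CommRingCat.of A)) :=
    Spec.map (CommRingCat.ofHom θ) ≫ (AffineSpace.SpecIso (ULift.{u} (Fin n)) (CommRingCat.of A)).inv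
  haveI : IsClosedImmersion (Spec.map (CommRingCat.ofHom θ)) :=
    IsClosedImmersion.spec_of_surjective _ hθ
  haveI : IsClosedImmersion c := by dsimp only [c]; infer_instance
  haveI : IsOpenImmersion (AffineSpace.map (ULift.{u} (Fin n)) jY) :=
    MorphismProperty.of_isPullback (P := @IsOpenImmersion)
      (AffineSpace.isPullback_map (n := ULift.{u} (Fin n)) jY).flip inferInstance
  refine ⟨n, Nat.succ_pos _, c ≫ AffineSpace.map (ULift.{u} (Fin n)) jY, inferInstance, ?_⟩
  rw [Category.assoc, AffineSpace.map_over]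
  dsimp only [c]
  rw [Category.assoc, ← Category.assoc (AffineSpace.SpecIso _ _).inv, AffineSpace.SpecIso_inv_over,
    ← Category.assoc, ← Spec.map_comp]
  congr 2
  ext a
  simp [θ]

/-- the affine space criterion. -/
theorem univSSubtrusive_of_affineSpace {X Y : Scheme.{u}} (f : X ⟶ Y) [QuasiCompact f]
    (H : ∀ n : ℕ, 0 < n →
      Subtr.IsSSubtrusive (pullback.snd f (AffineSpace (ULift.{u} (Fin n)) Y ↘ Y))) :
    Subtr.UnivSSubtrusive f := by
  apply univSSubtrusive_of_stage_pairs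
  intro V _ _ _ Y0 hY0 _ s
  obtain ⟨n, hn, h, hpre, he⟩ := exists_preimmersion_affineSpace (A := Γ(Y, Y0)) (V := V)
    hY0.fromSpec s
  haveI hprime : (ps (A := Γ(Y, Y0)) s).IsPrime := Ideal.comap_isPrime _ _
  let t1 : Spec (CommRingCat.of (Ast Γ(Y, Y0) V s)) :=
    (⟨⊥, Ideal.isPrime_bot⟩ : PrimeSpectrum (Ast Γ(Y, Y0) V s))
  let t0 : Spec (CommRingCat.of (Ast Γ(Y, Y0) V s)) :=
    (⟨ps s, hprime⟩ : PrimeSpectrum (Ast Γ(Y, Y0) V s))
  have hsp : t1 ⤳ t0 :=
    (PrimeSpectrum.le_iff_specializes (R := Ast Γ(Y, Y0) V s) t1 t0).mp bot_le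
  have key := pair_of_preimmersion f _ h (H n hn) hsp
  rw [he] at key
  obtain ⟨q1, q0, hq, hq1, hq0⟩ := key
  exact ⟨q1, q0, hq, by rw [hq1], by rw [hq0]⟩

end Groth.Agent.Lib.Helper10.SubtrFS
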