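import Mathlib.RingTheory.TensorProduct.Free
import Mathlib.RingTheory.Flat.Tensor
import Mathlib.RingTheory.Flat.Stability
import Mathlib.LinearAlgebra.Basis.VectorSpace
import Mathlib.RingTheory.SimpleModule.Basic
import Mathlib.RingTheory.Finiteness.Basic
import Mathlib.RingTheory.Ideal.Quotient.Operations
set_option autoImplicit false
universe u v
open TensorProduct

namespace Groth.Agent.Lib.Helper10.TensorRegular

section Coord

variable {k : Type*} [Field k] {A : Type*} [CommRing A] [Algebra k A]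
variable {ι : Type*} (b : Module.Basis ι k A)

/-- The `S`-basis `1 ⊗ b i` of `S ⊗[k] A`. -/
noncomputable abbrev cb (S : Type*) [CommRing S] [Algebra k S] : Module.Basis ι S (S ⊗[k] A) :=
  Algebra.TensorProduct.basis S b

theorem cb_repr_tmul [DecidableEq ι] (S : Type*) [CommRing S] [Algebra k S] (s : S) (i j : ι) :
    (cb b S).repr (s ⊗ₜ[k] b i) j = if i = j then s else 0 := by
  rw [Algebra.TensorProduct.basis_repr_tmul, Module.Basis.repr_self, Finsupp.mapRange_single,
    map_one, Finsupp.smul_single, smul_eq_mul, mul_one, Finsupp.single_apply]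

/-- Coordinates are natural in the base ring. -/
theorem cb_repr_map {S S' : Type*} [CommRing S] [Algebra k S] [CommRing S'] [Algebra k S']
    (φ : S →ₐ[k] S') (x : S ⊗[k] A) (i : ι) :
    (cb b S').repr (Algebra.TensorProduct.map φ (AlgHom.id k A) x) i = φ ((cb b S).repr x i) := by
  induction x using TensorProduct.induction_on with
  | zero => simp
  | tmul s a =>
    simp only [Algebra.TensorProduct.map_tmul, AlgHom.id_apply,
      Algebra.TensorProduct.basis_repr_tmul, Finsupp.smul_apply, Finsupp.mapRange_apply,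
      smul_eq_mul, map_mul, AlgHom.commutes]
  | add x y hx hy => simp only [map_add, Finsupp.add_apply, hx, hy]

theorem eq_sum_repr (S : Type*) [CommRing S] [Algebra k S] (x : S ⊗[k] A) :
    x = ∑ i ∈ ((cb b S).repr x).support, ((cb b S).repr x i) ⊗ₜ[k] b i := by
  conv_lhs => rw [← (cb b S).linearCombination_repr x]
  rw [Finsupp.linearCombination_apply, Finsupp.sum]
  refine Finset.sum_congr rfl fun i _ => ?_
  rw [Algebra.TensorProduct.basis_repr_symm_apply']

end Coord

section KeyClaim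

variable {k : Type*} [Field k] {A : Type*} [CommRing A] [Algebra k A]
variable {S : Type*} [CommRing S] [Algebra k S]

/-- Semilinearity of `λ ⊗ id` with respect to multiplication. -/
theorem exists_mul_lift (c : Ideal S) (𝔮 : Ideal S) (lam : c →ₗ[S] S ⧸ 𝔮)
    (x : S ⊗[k] A) (y : c ⊗[k] A) :
    ∃ z : c ⊗[k] A,
      LinearMap.rTensor A (c.subtype.restrictScalars k) z
        = x * LinearMap.rTensor A (c.subtype.restrictScalars k) y ∧
      LinearMap.rTensor A (lam.restrictScalars k) z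
        = Algebra.TensorProduct.map (Ideal.Quotient.mkₐ k 𝔮) (AlgHom.id k A) x *
          LinearMap.rTensor A (lam.restrictScalars k) y := by
  induction x using TensorProduct.induction_on with
  | zero => exact ⟨0, by simp, by simp⟩
  | tmul s a =>
    induction y using TensorProduct.induction_on with
    | zero => exact ⟨0, by simp, by simp⟩
    | tmul t a' =>
      refine ⟨(s • t) ⊗ₜ[k] (a * a'), ?_, ?_⟩
      · simp [Algebra.TensorProduct.tmul_mul_tmul]
      · simp only [LinearMap.rTensor_tmul, LinearMap.coe_restrictScalars, map_smul,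
          Algebra.TensorProduct.map_tmul, Ideal.Quotient.mkₐ_eq_mk, AlgHom.id_apply,
          Algebra.TensorProduct.tmul_mul_tmul]
        rw [Algebra.smul_def]
        rfl
    | add y₁ y₂ h₁ h₂ =>
      obtain ⟨z₁, h11, h12⟩ := h₁
      obtain ⟨z₂, h21, h22⟩ := h₂
      exact ⟨z₁ + z₂, by rw [map_add, map_add, mul_add, h11, h21],
        by rw [map_add, map_add, mul_add, h12, h22]⟩
  | add x₁ x₂ h₁ h₂ =>
    obtain ⟨z₁, h11, h12⟩ := h₁
    obtain ⟨z₂, h21, h22⟩ := h₂
    exact ⟨z₁ + z₂, by rw [map_add, add_mul, h11, h21],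
      by rw [map_add, map_add, add_mul, h12, h22]⟩

/-- **Key claim**: an element of `S ⊗[k] A` with a unit coordinate is a non-zero-divisor, provided
all the fibres `(S ⧸ 𝔮) ⊗[k] A` over maximal ideals have no zero divisors. -/
theorem eq_zero_of_mul_eq_zero {ι : Type*} (b : Module.Basis ι k A)
    (hdom : ∀ 𝔮 : Ideal S, 𝔮.IsMaximal → NoZeroDivisors ((S ⧸ 𝔮) ⊗[k] A))
    (f g : S ⊗[k] A) (hf : ∃ i, IsUnit ((cb b S).repr f i)) (hfg : f * g = 0) : g = 0 := by
  classical
  by_contra hg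
  obtain ⟨G, hG⟩ : ∃ G, G = (cb b S).repr g := ⟨_, rfl⟩
  let c : Ideal S := Ideal.span (Set.range G)
  have hGc : ∀ i, G i ∈ c := fun i => Ideal.subset_span ⟨i, rfl⟩
  have hfin : Module.Finite S c := Module.Finite.iff_fg.mpr (Submodule.fg_span G.finite_range)
  have hG0 : G ≠ 0 := fun h => hg (by rw [hG] at h; simpa using h)
  obtain ⟨i₁, hi₁⟩ := Finsupp.ne_iff.mp hG0
  have hnt : Nontrivial c :=
    ⟨⟨⟨G i₁, hGc i₁⟩, 0, fun h => hi₁ (congrArg Subtype.val h)⟩⟩
  obtain ⟨c', hc', -⟩ : ∃ c' : Submodule S c, IsCoatom c' ∧ ⊥ ≤ c' := by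
    rcases eq_top_or_exists_le_coatom (⊥ : Submodule S c) with h | h
    · exact absurd h bot_ne_top
    · exact h
  have hsimple : IsSimpleModule S (c ⧸ c') := isSimpleModule_iff_isCoatom.mpr hc'
  obtain ⟨𝔮, h𝔮, ⟨e⟩⟩ := isSimpleModule_iff_quot_maximal.mp hsimple
  let lam : c →ₗ[S] S ⧸ 𝔮 := e.toLinearMap ∘ₗ c'.mkQ
  have hex : ∃ i₀, lam ⟨G i₀, hGc i₀⟩ ≠ 0 := by
    by_contra hall
    push Not at hall
    apply hc'.1
    rw [eq_top_iff]
    intro x _
    have hmem : ∀ i, (⟨G i, hGc i⟩ : c) ∈ c' := by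
      intro i
      have := hall i
      simpa only [lam, LinearMap.comp_apply, LinearEquiv.coe_coe, EmbeddingLike.map_eq_zero_iff,
        Submodule.mkQ_apply, Submodule.Quotient.mk_eq_zero] using this
    have hle : c ≤ Submodule.map c.subtype c' := by
      rw [Ideal.span_le]
      rintro _ ⟨i, rfl⟩
      exact ⟨⟨G i, hGc i⟩, hmem i, rfl⟩
    obtain ⟨y, hy, hyx⟩ := hle x.2
    have : y = x := Subtype.ext hyx
    exact this ▸ hy
  obtain ⟨i₀, hi₀⟩ := hex
  have := hdom 𝔮 h𝔮
  have hincl : Function.Injective (LinearMap.rTensor A (c.subtype.restrictScalars k)) :=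
    Module.Flat.rTensor_preserves_injective_linearMap _ Subtype.val_injective
  let gt : c ⊗[k] A := ∑ i ∈ G.support, (⟨G i, hGc i⟩ : c) ⊗ₜ[k] b i
  have hgt : LinearMap.rTensor A (c.subtype.restrictScalars k) gt = g := by
    conv_rhs => rw [eq_sum_repr b S g, ← hG]
    simp [gt, map_sum]
  obtain ⟨z, hz1, hz2⟩ := exists_mul_lift (k := k) (A := A) c 𝔮 lam f gt
  rw [hgt, hfg] at hz1
  have hz : z = 0 := hincl (by rw [hz1, map_zero])
  rw [hz, map_zero] at hz2
  obtain ⟨i₂, hi₂⟩ := hf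
  have hΦf : Algebra.TensorProduct.map (Ideal.Quotient.mkₐ k 𝔮) (AlgHom.id k A) f ≠ 0 := by
    intro h
    have h1 := cb_repr_map b (Ideal.Quotient.mkₐ k 𝔮) f i₂
    rw [h] at h1
    simp only [map_zero, Finsupp.coe_zero, Pi.zero_apply, Ideal.Quotient.mkₐ_eq_mk] at h1
    exact h𝔮.ne_top (Ideal.eq_top_of_isUnit_mem _ (Ideal.Quotient.eq_zero_iff_mem.mp h1.symm) hi₂)
  have hΛ : LinearMap.rTensor A (lam.restrictScalars k) gt ≠ 0 := by
    intro h
    have h1 : (cb b (S ⧸ 𝔮)).repr (LinearMap.rTensor A (lam.restrictScalars k) gt) i₀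
        = lam ⟨G i₀, hGc i₀⟩ := by
      simp only [gt, map_sum, LinearMap.rTensor_tmul, LinearMap.coe_restrictScalars,
        Finsupp.coe_finsetSum, Finset.sum_apply, cb_repr_tmul]
      rw [Finset.sum_ite_eq']
      split_ifs with hmem
      · rfl
      · have h0 : G i₀ = 0 := Finsupp.notMem_support_iff.mp hmem
        have : (⟨G i₀, hGc i₀⟩ : c) = 0 := Subtype.ext h0
        rw [this, map_zero]
    rw [h] at h1
    simp only [map_zero, Finsupp.coe_zero, Pi.zero_apply] at h1
    exact hi₀ h1.symm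
  exact (mul_ne_zero hΦf hΛ) hz2.symm

end KeyClaim

section Flat

variable {k : Type*} [Field k] {A : Type*} [CommRing A] [Algebra k A]
variable {R' : Type*} [CommRing R'] [Algebra k R']

/-- An element of `R' ⊗[k] A` with a unit coordinate is a non-zero-divisor and the quotient by it
is flat over `R'`, provided all the fibres have no zero divisors. -/
theorem flat_quotient_span_singleton {ι : Type*} (b : Module.Basis ι k A)
    (hdom : ∀ (I : Ideal R') (𝔮 : Ideal (R' ⧸ I)), 𝔮.IsMaximal →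
      NoZeroDivisors (((R' ⧸ I) ⧸ 𝔮) ⊗[k] A))
    (f : R' ⊗[k] A) (hf : ∃ i, IsUnit ((cb b R').repr f i)) :
    Module.Flat R' ((R' ⊗[k] A) ⧸ Ideal.span {f}) := by
  classical
  rw [Module.Flat.iff_lift_lsmul_comp_subtype_injective]
  intro I _
  -- notation
  obtain ⟨p, hpdef⟩ : ∃ p : (R' ⊗[k] A) →ₗ[R'] (R' ⊗[k] A) ⧸ Ideal.span {f},
      p = (Ideal.Quotient.mkₐ R' (Ideal.span {f})).toLinearMap := ⟨_, rfl⟩
  have hp : Function.Surjective p := by rw [hpdef]; exact Ideal.Quotient.mk_surjective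
  have hpmk : ∀ n, p n = Ideal.Quotient.mk (Ideal.span {f}) n := by
    intro n; rw [hpdef]; rfl
  obtain ⟨ψN, hψNdef⟩ : ∃ ψN : I ⊗[R'] (R' ⊗[k] A) →ₗ[R'] (R' ⊗[k] A),
      ψN = TensorProduct.lift ((LinearMap.lsmul R' (R' ⊗[k] A)).comp I.subtype) := ⟨_, rfl⟩
  have hψNt : ∀ (i : I) (n : R' ⊗[k] A), ψN (i ⊗ₜ n) = (i : R') • n := by
    intro i n; rw [hψNdef]; rfl
  obtain ⟨ψQ, hψQdef⟩ : ∃ ψQ : I ⊗[R'] ((R' ⊗[k] A) ⧸ Ideal.span {f}) →ₗ[R']
        (R' ⊗[k] A) ⧸ Ideal.span {f},
      ψQ = TensorProduct.lift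
        ((LinearMap.lsmul R' ((R' ⊗[k] A) ⧸ Ideal.span {f})).comp I.subtype) := ⟨_, rfl⟩
  have hψQt : ∀ (i : I) (n : (R' ⊗[k] A) ⧸ Ideal.span {f}), ψQ (i ⊗ₜ n) = (i : R') • n := by
    intro i n; rw [hψQdef]; rfl
  have hψN : Function.Injective ψN := by
    rw [hψNdef]
    exact Module.Flat.iff_lift_lsmul_comp_subtype_injective.mp inferInstance ‹I.FG›
  obtain ⟨mulf, hmulfdef⟩ : ∃ mulf : (R' ⊗[k] A) →ₗ[R'] (R' ⊗[k] A),
      mulf = LinearMap.mulLeft R' f := ⟨_, rfl⟩
  have hmulf : ∀ n, mulf n = f * n := by intro n; rw [hmulfdef]; rfl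
  have hnat : ∀ t, ψQ (LinearMap.lTensor I p t) = p (ψN t) := by
    intro t
    induction t using TensorProduct.induction_on with
    | zero => simp
    | tmul i n => rw [LinearMap.lTensor_tmul, hψQt, hψNt, map_smul]
    | add x y hx hy => simp only [map_add, hx, hy]
  have hmul : ∀ t, ψN (LinearMap.lTensor I mulf t) = f * ψN t := by
    intro t
    induction t using TensorProduct.induction_on with
    | zero => simp
    | tmul i n => rw [LinearMap.lTensor_tmul, hψNt, hψNt, hmulf, mul_smul_comm]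
    | add x y hx hy => simp only [map_add, hx, hy, mul_add]
  have hpmul : p ∘ₗ mulf = 0 := by
    refine LinearMap.ext fun n => ?_
    rw [LinearMap.comp_apply, hmulf, hpmk, LinearMap.zero_apply]
    exact Ideal.Quotient.eq_zero_iff_mem.mpr
      (Ideal.mul_mem_right _ _ (Ideal.subset_span rfl))
  -- the quotient map to `(R' ⧸ I) ⊗ A`
  obtain ⟨q, hqdef⟩ : ∃ q : (R' ⊗[k] A) →ₐ[k] (R' ⧸ I) ⊗[k] A,
      q = Algebra.TensorProduct.map (Ideal.Quotient.mkₐ k I) (AlgHom.id k A) := ⟨_, rfl⟩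
  have hq1 : ∀ t, q (ψN t) = 0 := by
    intro t
    induction t using TensorProduct.induction_on with
    | zero => simp
    | tmul i n =>
      have : ψN (i ⊗ₜ n) = ((i : R') ⊗ₜ[k] (1 : A)) * n := by
        rw [hψNt, Algebra.smul_def]
        rfl
      rw [this, map_mul]
      have : q ((i : R') ⊗ₜ[k] (1 : A)) = 0 := by
        rw [hqdef, Algebra.TensorProduct.map_tmul, Ideal.Quotient.mkₐ_eq_mk,
          Ideal.Quotient.eq_zero_iff_mem.mpr i.2, TensorProduct.zero_tmul]
      rw [this, zero_mul]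
    | add x y hx hy => simp only [map_add, hx, hy, add_zero]
  have hq2 : ∀ x : R' ⊗[k] A, q x = 0 → ∃ t, ψN t = x := by
    intro x hx
    have hmem : ∀ i, (cb b R').repr x i ∈ I := by
      intro i
      have h1 := cb_repr_map b (Ideal.Quotient.mkₐ k I) x i
      rw [← hqdef, hx] at h1
      simp only [map_zero, Finsupp.coe_zero, Pi.zero_apply, Ideal.Quotient.mkₐ_eq_mk] at h1
      exact Ideal.Quotient.eq_zero_iff_mem.mp h1.symm
    refine ⟨∑ i ∈ ((cb b R').repr x).support,
      (⟨(cb b R').repr x i, hmem i⟩ : I) ⊗ₜ[R'] ((1 : R') ⊗ₜ[k] b i), ?_⟩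
    conv_rhs => rw [eq_sum_repr b R' x]
    rw [map_sum]
    refine Finset.sum_congr rfl fun i _ => ?_
    rw [hψNt, TensorProduct.smul_tmul', smul_eq_mul, mul_one]
  -- key step
  have hkey : ∀ n' : R' ⊗[k] A, (∃ t, ψN t = f * n') → ∃ z, ψN z = n' := by
    rintro n' ⟨t, ht⟩
    apply hq2
    have h0 : q f * q n' = 0 := by rw [← map_mul, ← ht, hq1]
    refine eq_zero_of_mul_eq_zero b (hdom I) (q f) (q n') ?_ h0
    obtain ⟨i, hi⟩ := hf
    refine ⟨i, ?_⟩
    have := cb_repr_map b (Ideal.Quotient.mkₐ k I) f i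
    rw [← hqdef] at this
    rw [this]
    exact hi.map _
  -- the chase
  rw [injective_iff_map_eq_zero]
  intro y hy
  obtain ⟨yt, rfl⟩ := LinearMap.lTensor_surjective I hp y
  have h1 : p (ψN yt) = 0 := by rw [← hnat, hψQdef]; exact hy
  have h2 : ψN yt ∈ Ideal.span {f} := by
    rw [hpmk] at h1
    exact Ideal.Quotient.eq_zero_iff_mem.mp h1
  obtain ⟨n', hn'⟩ := Ideal.mem_span_singleton'.mp h2
  obtain ⟨z, hz⟩ := hkey n' ⟨yt, by rw [← hn', mul_comm]⟩
  have h3 : yt = LinearMap.lTensor I mulf z := by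
    apply hψN
    rw [hmul, hz, ← hn', mul_comm]
  rw [h3, ← LinearMap.comp_apply, ← LinearMap.lTensor_comp, hpmul, LinearMap.lTensor_zero,
    LinearMap.zero_apply]

end Flat

end Groth.Agent.Lib.Helper10.TensorRegular
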