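import Mathlib
import Groth.Agent.Lib.Helper10.Thick2
import Groth.Agent.Lib.Helper1.AffThick

/-!
# Monomorphisms and cartesian squares over a thickening (helper10)
-/

set_option autoImplicit false

universe u

open AlgebraicGeometry CategoryTheory CategoryTheory.Limits TopologicalSpace Opposite

namespace Groth.Agent.Lib.Helper10.Thick

section Ring

variable {B' B C' C : Type u} [CommRing B'] [CommRing B] [CommRing C'] [CommRing C]
  (φ : B' →+* B) (ψ : B' →+* C') (α : B →+* C) (β : C' →+* C)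

/-- In a pushout square over a surjection `φ` with `α` surjective, a retraction `σ` of `ψ` is
injective when `ker φ` is nilpotent, or nil with `ψ` of finite type. -/
theorem injective_retraction_of_isPushout
    (hpo : IsPushout (CommRingCat.ofHom φ) (CommRingCat.ofHom ψ) (CommRingCat.ofHom α)
      (CommRingCat.ofHom β)) (hφ : Function.Surjective φ)
    (σ : C' →+* B') (hσ : ∀ b, σ (ψ b) = b) (hα : Function.Surjective α)
    (hcase : IsNilpotent (RingHom.ker φ) ∨ (RingHom.ker φ ≤ nilradical B' ∧ ψ.FiniteType)) :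
    Function.Injective σ := by
  letI : Algebra B' C' := ψ.toAlgebra
  have hdiff : ∀ c : C', ∃ b' : B', c - ψ b' ∈ (RingHom.ker φ).map ψ := by
    intro c
    obtain ⟨b, hb⟩ := hα (β c)
    obtain ⟨b', rfl⟩ := hφ b
    exact ⟨b', sub_mem_of_isPushout φ ψ α β hpo hφ c b' hb.symm⟩
  rcases hcase with hnil | ⟨hnil, hft⟩
  · -- ψ is surjective by nilpotent Nakayama
    let N : Submodule B' C' := LinearMap.range (Algebra.linearMap B' C')
    have hN : N = ⊤ := by
      apply eq_top_of_sup_smul_top (RingHom.ker φ) hnil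
      intro c _
      obtain ⟨b', hb'⟩ := hdiff c
      have hJ : c - ψ b' ∈ (RingHom.ker φ) • (⊤ : Submodule B' C') :=
        mem_smul_top_of_mem_map ψ _ _ hb'
      have : c = ψ b' + (c - ψ b') := by ring
      rw [this]
      exact Submodule.add_mem_sup ⟨b', rfl⟩ hJ
    have hψ : Function.Surjective ψ := by
      intro c
      have : c ∈ N := by rw [hN]; trivial
      obtain ⟨b', hb'⟩ := this
      exact ⟨b', hb'⟩
    intro c₁ c₂ h
    obtain ⟨b₁, rfl⟩ := hψ c₁
    obtain ⟨b₂, rfl⟩ := hψ c₂
    rw [hσ, hσ] at h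
    rw [h]
  · -- K = ker σ is finitely generated and K = J K with J nil
    have hσsurj : Function.Surjective σ := fun b => ⟨ψ b, hσ b⟩
    have hσfp : σ.FinitePresentation := by
      apply RingHom.FinitePresentation.of_comp_finiteType ψ _ hft
      have : σ.comp ψ = RingHom.id B' := RingHom.ext hσ
      rw [this]
      exact RingHom.FinitePresentation.id B'
    have hKfg : (RingHom.ker σ).FG := by
      letI : Algebra C' B' := σ.toAlgebra
      haveI : Algebra.FinitePresentation C' B' := hσfp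
      have := Algebra.FinitePresentation.ker_fG_of_surjective (Algebra.ofId C' B') hσsurj
      exact this
    let J : Ideal C' := (RingHom.ker φ).map ψ
    let π : C' →+ C' := AddMonoidHom.id C' - (ψ.comp σ).toAddMonoidHom
    have hπ : ∀ c, π c = c - ψ (σ c) := fun c => rfl
    have hπK : ∀ c, π c ∈ RingHom.ker σ := by
      intro c
      rw [RingHom.mem_ker, hπ, map_sub, hσ, sub_self]
    have hπJ : ∀ x ∈ (RingHom.ker φ) • (⊤ : Submodule B' C'), π x ∈ J * RingHom.ker σ := by
      intro x hx
      refine Submodule.smul_induction_on hx (fun r hr c _ => ?_) (fun x y hx hy => ?_)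
      · have h1 : π (r • c) = ψ r * π c := by
          rw [hπ, hπ, Algebra.smul_def]
          change ψ r * c - ψ (σ (ψ r * c)) = _
          rw [map_mul, hσ, map_mul]
          ring
        rw [h1]
        exact Ideal.mul_mem_mul (Ideal.mem_map_of_mem ψ hr) (hπK c)
      · rw [map_add]
        exact Ideal.add_mem _ hx hy
    have hKle : RingHom.ker σ ≤ J • RingHom.ker σ := by
      intro c hc
      rw [RingHom.mem_ker] at hc
      obtain ⟨b', hb'⟩ := hdiff c
      have hJ : c - ψ b' ∈ (RingHom.ker φ) • (⊤ : Submodule B' C') :=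
        mem_smul_top_of_mem_map ψ _ _ hb'
      have h1 : π (c - ψ b') = c := by
        rw [hπ, map_sub, hσ, hc, map_sub, map_zero]
        ring
      have h2 := hπJ _ hJ
      rw [h1] at h2
      exact h2
    have hjac : J ≤ Ideal.jacobson (⊥ : Ideal C') :=
      (map_le_nilradical ψ hnil).trans (nilradical_le_jacobson_bot C')
    have hK : RingHom.ker σ = ⊥ :=
      Submodule.eq_bot_of_le_smul_of_le_jacobson_bot J (RingHom.ker σ) hKfg hKle hjac
    exact (RingHom.injective_iff_ker_eq_bot σ).mpr hK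

end Ring

section Scheme

theorem appLE_surjective_of_isIso_of_eq {X Y : Scheme.{u}} (g : X ⟶ Y) [IsIso g]
    {U : Y.Opens} {V : X.Opens} (hV : V = g ⁻¹ᵁ U) (e : V ≤ g ⁻¹ᵁ U) :
    Function.Surjective (g.appLE U V e).hom := by
  subst hV
  rw [Scheme.Hom.appLE_eq_app]
  exact (ConcreteCategory.bijective_of_isIso (g.app U)).2

theorem app_injective_of_eq {X Y : Scheme.{u}} (g : X ⟶ Y) {U₁ U₂ : Y.Opens} (h : U₁ = U₂)
    (h1 : Function.Injective (g.app U₁).hom) : Function.Injective (g.app U₂).hom := by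
  subst h
  exact h1

theorem morphismRestrict_appTop_injective {X Y : Scheme.{u}} (g : X ⟶ Y) (U : Y.Opens)
    (h : Function.Injective (g.app U).hom) : Function.Injective (g ∣_ U).appTop.hom := by
  rw [morphismRestrict_appTop]
  have h1 : Function.Injective (g.app (U.ι ''ᵁ ⊤)).hom :=
    app_injective_of_eq g (Scheme.Opens.ι_image_top U).symm h
  have h2 : Function.Injective
      (X.presheaf.map (eqToHom (image_morphismRestrict_preimage g U ⊤)).op).hom :=
    (ConcreteCategory.bijective_of_isIso _).1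
  exact h2.comp h1

variable {X X' P P' : Scheme.{u}} {iX : X ⟶ X'} {p' : P' ⟶ X'} {j : P ⟶ P'} {p : P ⟶ X}

/-- Main local statement: injectivity of the section on sections over `p'⁻¹ V'`. -/
theorem app_injective_of_section (hP : IsPullback j p p' iX) [IsClosedImmersion iX] [IsIso p]
    (s' : X' ⟶ P') (hs : s' ≫ p' = 𝟙 X') [IsClosedImmersion s'] (hsurj : Function.Surjective s')
    (V' : X'.Opens) (hV' : IsAffineOpen V')
    (hcase : IsNilpotent (RingHom.ker (iX.appLE V' (iX ⁻¹ᵁ V') le_rfl).hom) ∨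
      (RingHom.ker (iX.appLE V' (iX ⁻¹ᵁ V') le_rfl).hom ≤ nilradical Γ(X', V') ∧
        (p'.appLE V' (p' ⁻¹ᵁ V') le_rfl).hom.FiniteType)) :
    Function.Injective (s'.app (p' ⁻¹ᵁ V')).hom := by
  have hpre : s' ⁻¹ᵁ (p' ⁻¹ᵁ V') = V' := by
    rw [← Scheme.Hom.comp_preimage, hs]
    rfl
  have hW' : IsAffineOpen (p' ⁻¹ᵁ V') := by
    apply Groth.Agent.Lib.Helper1.AffThick.isAffineOpen_of_preimage s' hsurj
    rw [hpre]
    exact hV'
  haveI : IsClosedImmersion j := MorphismProperty.of_isPullback (P := @IsClosedImmersion) hP.flip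
    inferInstance
  have hpo := isPushout_sections hP hV' hW' le_rfl
  have hφ := appLE_surjective (iY := iX) hV'
  have hα : Function.Surjective (p.appLE (iX ⁻¹ᵁ V') (j ⁻¹ᵁ (p' ⁻¹ᵁ V'))
      (preimage_le hP le_rfl)).hom := by
    apply appLE_surjective_of_isIso_of_eq
    rw [← Scheme.Hom.comp_preimage, ← Scheme.Hom.comp_preimage, hP.w]
  have hle : V' ≤ s' ⁻¹ᵁ (p' ⁻¹ᵁ V') := hpre.ge
  have hσ : ∀ b, (s'.appLE (p' ⁻¹ᵁ V') V' hle).hom ((p'.appLE V' (p' ⁻¹ᵁ V') le_rfl).hom b) = b := by
    intro b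
    have h1 := Scheme.Hom.appLE_comp_appLE s' p' V' (p' ⁻¹ᵁ V') V' le_rfl hle
    have h2 : (s' ≫ p').appLE V' V' (hle.trans ((Opens.map s'.base).map (homOfLE le_rfl)).le) =
        𝟙 _ := by
      have : ∀ (q : X' ⟶ X') (hq : q = 𝟙 X') (e : V' ≤ q ⁻¹ᵁ V'), q.appLE V' V' e = 𝟙 _ := by
        intro q hq e
        subst hq
        simp only [Scheme.Hom.appLE, Scheme.Hom.id_app]
        exact (Category.id_comp _).trans (X'.presheaf.map_id _)
      exact this _ hs _
    rw [h2] at h1
    exact congrArg (fun m => m.hom b) h1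
  have hinj := injective_retraction_of_isPushout _ _ _ _ hpo hφ
    (s'.appLE (p' ⁻¹ᵁ V') V' hle).hom hσ hα hcase
  -- transfer to app
  have h3 : s'.appLE (p' ⁻¹ᵁ V') V' hle =
      s'.app (p' ⁻¹ᵁ V') ≫ X'.presheaf.map (homOfLE hle).op := rfl
  rw [h3] at hinj
  exact Function.Injective.of_comp hinj

end Scheme

end Groth.Agent.Lib.Helper10.Thick
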