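import Mathlib
import Groth.Agent.Lib.Helper10.ThickMono

/-!
# Monomorphisms lift along a thickening of the base (helper10)
-/

set_option autoImplicit false

universe u

open AlgebraicGeometry CategoryTheory CategoryTheory.Limits TopologicalSpace Opposite

namespace Groth.Agent.Lib.Helper10.Thick

variable {X X' Y Y' : Scheme.{u}} {iX : X ⟶ X'} {iY : Y ⟶ Y'} {f : X ⟶ Y} {f' : X' ⟶ Y'}

/-- If `f` is the base change of `f'` along a surjective closed immersion and `f` is a
monomorphism, then so is `f'`, provided `X'` is covered by "good" affine opens. -/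
theorem mono_of_isPullback (hc : IsPullback iX f f' iY) [IsClosedImmersion iY] [Surjective iY]
    [Mono f]
    (hgood : ∀ x' : X', ∃ V' : X'.Opens, IsAffineOpen V' ∧ x' ∈ V' ∧
      (IsNilpotent (RingHom.ker (iX.appLE V' (iX ⁻¹ᵁ V') le_rfl).hom) ∨
      (RingHom.ker (iX.appLE V' (iX ⁻¹ᵁ V') le_rfl).hom ≤ nilradical Γ(X', V') ∧
        LocallyOfFiniteType f'))) :
    Mono f' := by
  haveI : IsClosedImmersion iX :=
    MorphismProperty.of_isPullback (P := @IsClosedImmersion) hc.flip inferInstance
  haveI : Surjective iX := MorphismProperty.of_isPullback (P := @Surjective) hc.flip inferInstance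
  let p' := pullback.fst f' f'
  let q' := pullback.snd f' f'
  let s' := pullback.diagonal f'
  have hs : s' ≫ p' = 𝟙 X' := pullback.diagonal_fst f'
  let j := pullback.fst p' iX
  let p := pullback.snd p' iX
  have hP : IsPullback j p p' iX := IsPullback.of_hasPullback p' iX
  -- p is an isomorphism
  have hbig : IsPullback (j ≫ q') p f' (iX ≫ f') :=
    hP.paste_horiz (IsPullback.of_hasPullback f' f').flip
  have hbigw : (j ≫ q') ≫ f' = (p ≫ f) ≫ iY := by
    rw [hbig.w, Category.assoc, hc.w]
  let t := hc.lift (j ≫ q') (p ≫ f) hbigw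
  have ht1 : t ≫ iX = j ≫ q' := hc.lift_fst _ _ _
  have ht2 : t ≫ f = p ≫ f := hc.lift_snd _ _ _
  have hleft : IsPullback t p f f := by
    refine IsPullback.of_right ?_ ht2 hc
    rw [ht1, ← hc.w]
    exact hbig
  haveI : IsIso p := hleft.isIso_snd_iso_of_mono
  -- s' is surjective
  have hsw : (iX ≫ s') ≫ p' = 𝟙 X ≫ iX := by
    rw [Category.assoc, hs, Category.comp_id, Category.id_comp]
  let s := hP.lift (iX ≫ s') (𝟙 X) hsw
  have hs1 : s ≫ j = iX ≫ s' := hP.lift_fst _ _ _
  have hs2 : s ≫ p = 𝟙 X := hP.lift_snd _ _ _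
  have hps : p ≫ s = 𝟙 (pullback p' iX) := by
    rw [← cancel_mono p, Category.assoc, hs2, Category.comp_id, Category.id_comp]
  haveI : Surjective j := MorphismProperty.of_isPullback (P := @Surjective) hP.flip inferInstance
  have hsurj : Function.Surjective s' := by
    intro z'
    obtain ⟨z, rfl⟩ := j.surjective z'
    refine ⟨iX (p z), ?_⟩
    have h1 : s (p z) = z := by
      rw [← Scheme.Hom.comp_apply, hps]
      rfl
    rw [← Scheme.Hom.comp_apply, ← hs1, Scheme.Hom.comp_apply, h1]
  haveI : IsClosedImmersion s' := by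
    apply IsClosedImmersion.of_isPreimmersion
    rw [Set.range_eq_univ.mpr hsurj]
    exact isClosed_univ
  -- s' is an isomorphism, locally
  choose V' hV'aff hV'mem hV'case using hgood
  have hcover : (⨆ x', p' ⁻¹ᵁ (V' x')) = ⊤ := by
    rw [eq_top_iff]
    intro z' _
    rw [Opens.mem_iSup]
    exact ⟨p' z', hV'mem (p' z')⟩
  haveI : IsIso s' := by
    rw [← MorphismProperty.isomorphisms.iff,
      IsZariskiLocalAtTarget.iff_of_iSup_eq_top (P := MorphismProperty.isomorphisms Scheme) _ hcover]
    intro x'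
    rw [MorphismProperty.isomorphisms.iff]
    have hpre : s' ⁻¹ᵁ (p' ⁻¹ᵁ (V' x')) = V' x' := by
      rw [← Scheme.Hom.comp_preimage, hs]
      rfl
    have hW' : IsAffineOpen (p' ⁻¹ᵁ (V' x')) := by
      apply Groth.Agent.Lib.Helper1.AffThick.isAffineOpen_of_preimage s' hsurj
      rw [hpre]
      exact hV'aff x'
    haveI : IsAffine (p' ⁻¹ᵁ (V' x')).toScheme := hW'
    apply IsClosedImmersion.isIso_of_injective_of_isAffine
    apply morphismRestrict_appTop_injective
    refine app_injective_of_section hP s' hs hsurj (V' x') (hV'aff x') ?_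
    rcases hV'case x' with h | ⟨h1, h2⟩
    · exact Or.inl h
    · refine Or.inr ⟨h1, ?_⟩
      haveI : LocallyOfFiniteType f' := h2
      exact HasRingHomProperty.appLE (P := @LocallyOfFiniteType) p' inferInstance
        ⟨V' x', hV'aff x'⟩ ⟨_, hW'⟩ le_rfl
  rw [← pullback.isIso_diagonal_iff]
  infer_instance

end Groth.Agent.Lib.Helper10.Thick
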