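import Mathlib
import Groth.Agent.Lib.Helper12.RegularSeqQuot
import Groth.Agent.Lib.Helper9.FlatHartogs
import Groth.Agent.S14271
import Groth.Agent.S14272

/-!
# Extension of morphisms of flat schemes across closed subsets of depth ≥ 2 (helper10)

* `exists_weaklyRegular_pair`: a regular local ring of dimension ≥ 2 has a regular sequence of
  length two in its maximal ideal.
* `depth2_of_flat`, `depth1_of_flat`: transfer along flat morphisms.
* `over_hom_ext_of_restrict`: two morphisms `Y ⟶ Z` over `X` with `Y` flat and `Z` separated which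
  agree over `U` are equal (uses S14271).
* `exists_over_hom_of_restrict`: morphisms over `U` extend when `Z` is affine of finite presentation
  (uses S14272).
-/

set_option autoImplicit false
universe u
open CategoryTheory CategoryTheory.Limits AlgebraicGeometry IsLocalRing

namespace Groth.Agent.Lib.Helper10.TorsHart

theorem exists_weaklyRegular_pair (R : Type u) [CommRing R] [IsRegularLocalRing R]
    (hdim : (2 : WithBot ℕ∞) ≤ ringKrullDim R) :
    ∃ a b : R, a ∈ maximalIdeal R ∧ b ∈ maximalIdeal R ∧
      RingTheory.Sequence.IsWeaklyRegular R [a, b] := by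
  have hfin : (Module.finrank (ResidueField R) (CotangentSpace R) : WithBot ℕ∞) = ringKrullDim R :=
    (IsRegularLocalRing.iff_finrank_cotangentSpace R).mp inferInstance
  have h2 : 2 ≤ Module.finrank (ResidueField R) (CotangentSpace R) := by
    rw [← hfin] at hdim
    exact_mod_cast hdim
  let b := Module.finBasis (ResidueField R) (CotangentSpace R)
  let v : Fin 2 → CotangentSpace R := fun i => b (Fin.castLE h2 i)
  have hv : LinearIndependent (ResidueField R) v :=
    b.linearIndependent.comp _ (Fin.castLE_injective h2)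
  have hlift : ∀ i, ∃ f : maximalIdeal R, (maximalIdeal R).toCotangent f = v i :=
    fun i => Ideal.toCotangent_surjective _ (v i)
  choose f hf using hlift
  have hind : ∀ a : Fin 2 → R, ∑ j, a j * (f j : R) ∈ maximalIdeal R ^ 2 →
      ∀ j, a j ∈ maximalIdeal R := by
    intro a ha
    have hx : (maximalIdeal R).toCotangent (∑ j, a j • f j) = 0 := by
      rw [Ideal.toCotangent_eq_zero]
      simpa [Submodule.coe_sum] using ha
    rw [map_sum] at hx
    have hx' : ∑ j, (residue R (a j)) • v j = 0 := by
      rw [← hx]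
      refine Finset.sum_congr rfl fun j _ => ?_
      rw [map_smul, hf]
      exact (algebraMap_smul (ResidueField R) (a j) (v j))
    intro j
    have := Fintype.linearIndependent_iff.mp hv (fun j => residue R (a j)) hx' j
    exact (residue_eq_zero_iff _).mp this
  have hreg := (Groth.Agent.Lib.Helper12.isRegularLocalRing_quotient_and_isRegular_of_indep 2 R
    (fun j => (f j : R)) (fun j => (f j).2) hind).2
  refine ⟨f 0, f 1, (f 0).2, (f 1).2, ?_⟩
  have : List.ofFn (fun j : Fin 2 => (f j : R)) = [(f 0 : R), (f 1 : R)] := by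
    simp [List.ofFn_succ]
  rw [this] at hreg
  exact hreg.toIsWeaklyRegular

theorem depth2_of_flat {X Y : Scheme.{u}} (π : Y ⟶ X) [Flat π] (y : Y)
    (h : ∃ a b : X.presheaf.stalk (π y), a ∈ maximalIdeal (X.presheaf.stalk (π y)) ∧
      b ∈ maximalIdeal (X.presheaf.stalk (π y)) ∧
      RingTheory.Sequence.IsWeaklyRegular (X.presheaf.stalk (π y)) [a, b]) :
    ∃ a b : Y.presheaf.stalk y, a ∈ maximalIdeal (Y.presheaf.stalk y) ∧
      b ∈ maximalIdeal (Y.presheaf.stalk y) ∧
      RingTheory.Sequence.IsWeaklyRegular (Y.presheaf.stalk y) [a, b] := by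
  obtain ⟨a, b, ha, hb, hab⟩ := h
  have hflat := Flat.stalkMap π y
  algebraize [(π.stalkMap y).hom]
  have hloc : IsLocalHom (π.stalkMap y).hom := inferInstance
  refine ⟨(π.stalkMap y).hom a, (π.stalkMap y).hom b, ?_, ?_, ?_⟩
  · exact (mem_maximalIdeal _).mpr (fun hu => (mem_maximalIdeal _).mp ha (hloc.map_nonunit a hu))
  · exact (mem_maximalIdeal _).mpr (fun hu => (mem_maximalIdeal _).mp hb (hloc.map_nonunit b hu))
  · have h1 : RingTheory.Sequence.IsWeaklyRegular (Y.presheaf.stalk y) [a, b] :=
      Groth.Agent.Lib.Helper9.FlatHartogs.isWeaklyRegular_of_flat (Y.presheaf.stalk y) [a, b] hab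
    have h2 := (RingTheory.Sequence.isWeaklyRegular_map_algebraMap_iff
      (R := X.presheaf.stalk (π y)) (S := Y.presheaf.stalk y) (M := Y.presheaf.stalk y) [a, b]).mpr h1
    simpa [RingHom.algebraMap_toAlgebra] using h2

theorem depth1_of_flat {X Y : Scheme.{u}} (π : Y ⟶ X) [Flat π] (y : Y)
    (h : ∃ a ∈ maximalIdeal (X.presheaf.stalk (π y)), IsSMulRegular (X.presheaf.stalk (π y)) a) :
    ∃ a ∈ maximalIdeal (Y.presheaf.stalk y), IsSMulRegular (Y.presheaf.stalk y) a := by
  obtain ⟨a, ha, hreg⟩ := h
  have hflat := Flat.stalkMap π y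
  algebraize [(π.stalkMap y).hom]
  have hloc : IsLocalHom (π.stalkMap y).hom := inferInstance
  refine ⟨(π.stalkMap y).hom a, ?_, ?_⟩
  · exact (mem_maximalIdeal _).mpr (fun hu => (mem_maximalIdeal _).mp ha (hloc.map_nonunit a hu))
  · have h1 : IsSMulRegular (Y.presheaf.stalk y) a := by
      have := (LinearEquiv.isSMulRegular_congr' (TensorProduct.rid (X.presheaf.stalk (π y))
        (Y.presheaf.stalk y)) a).mp (hreg.lTensor (Y.presheaf.stalk y))
      exact this
    intro x₁ x₂ hx
    apply h1
    simpa [Algebra.smul_def, RingHom.algebraMap_toAlgebra] using hx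

end Groth.Agent.Lib.Helper10.TorsHart
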