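import Mathlib
import Groth.Agent.Lib.Helper10.TorsHart1

/-!
# Extension of `Over X` morphisms across closed subsets of depth ≥ 2 (helper10)
-/

set_option autoImplicit false
universe u
open CategoryTheory CategoryTheory.Limits AlgebraicGeometry IsLocalRing

namespace Groth.Agent.Lib.Helper10.TorsHart

variable {X : Scheme.{u}} (U : X.Opens)

theorem quasiCompact_preimage_ι [QuasiCompact U.ι] {Y : Scheme.{u}} (f : Y ⟶ X) :
    QuasiCompact (f ⁻¹ᵁ U).ι :=
  MorphismProperty.of_isPullback (P := @QuasiCompact) (isPullback_morphismRestrict f U)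
    inferInstance

theorem fst_comp_left_eq {Y Z : Over X} (φ : Y ⟶ Z) :
    pullback.fst Y.hom U.ι ≫ φ.left =
      ((Over.pullback U.ι).map φ).left ≫ pullback.fst Z.hom U.ι := by
  simp only [Over.pullback_map_left]
  exact (pullback.lift_fst _ _ _).symm

theorem over_hom_ext_of_restrict [QuasiCompact U.ι]
    (hZ : ∀ z : X, z ∉ U → ∃ a ∈ maximalIdeal (X.presheaf.stalk z),
      IsSMulRegular (X.presheaf.stalk z) a)
    {Y Z : Over X} [Flat Y.hom] [IsSeparated Z.hom] (φ ψ : Y ⟶ Z)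
    (h : (Over.pullback U.ι).map φ = (Over.pullback U.ι).map ψ) : φ = ψ := by
  have hZ' : ∀ y : Y.left, y ∉ Y.hom ⁻¹ᵁ U → ∃ a ∈ maximalIdeal (Y.left.presheaf.stalk y),
      IsSMulRegular (Y.left.presheaf.stalk y) a := fun y hy =>
    depth1_of_flat Y.hom y (hZ (Y.hom y) hy)
  haveI := quasiCompact_preimage_ι U Y.hom
  haveI : IsSeparated (pullback.fst Y.hom Z.hom) :=
    MorphismProperty.pullback_fst (P := @IsSeparated) _ _ ‹_›
  let s₁ : Y.left ⟶ pullback Y.hom Z.hom := pullback.lift (𝟙 _) φ.left (by simp)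
  let s₂ : Y.left ⟶ pullback Y.hom Z.hom := pullback.lift (𝟙 _) ψ.left (by simp)
  have hs₁f : s₁ ≫ pullback.fst Y.hom Z.hom = 𝟙 _ := pullback.lift_fst _ _ _
  have hs₂f : s₂ ≫ pullback.fst Y.hom Z.hom = 𝟙 _ := pullback.lift_fst _ _ _
  have hs₁s : s₁ ≫ pullback.snd Y.hom Z.hom = φ.left := pullback.lift_snd _ _ _
  have hs₂s : s₂ ≫ pullback.snd Y.hom Z.hom = ψ.left := pullback.lift_snd _ _ _
  have hfst : pullback.fst Y.hom U.ι ≫ φ.left = pullback.fst Y.hom U.ι ≫ ψ.left := by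
    rw [fst_comp_left_eq, fst_comp_left_eq, h]
  have hι : (Y.hom ⁻¹ᵁ U).ι ≫ φ.left = (Y.hom ⁻¹ᵁ U).ι ≫ ψ.left := by
    rw [← pullbackRestrictIsoRestrict_inv_fst, Category.assoc, Category.assoc, hfst]
  have hs : s₁ = s₂ := by
    refine Groth.Agent.S14271.result Y.left (Y.hom ⁻¹ᵁ U) hZ' (pullback Y.hom Z.hom)
      (pullback.fst _ _) s₁ s₂ hs₁f hs₂f ?_
    apply pullback.hom_ext
    · rw [Category.assoc, Category.assoc, hs₁f, hs₂f]
    · rw [Category.assoc, Category.assoc, hs₁s, hs₂s, hι]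
  ext
  rw [← hs₁s, ← hs₂s, hs]

theorem exists_over_hom_of_restrict [QuasiCompact U.ι]
    (hZ : ∀ z : X, z ∉ U → ∃ a b : X.presheaf.stalk z,
      a ∈ maximalIdeal (X.presheaf.stalk z) ∧ b ∈ maximalIdeal (X.presheaf.stalk z) ∧
      RingTheory.Sequence.IsWeaklyRegular (X.presheaf.stalk z) [a, b])
    {Y Z : Over X} [Flat Y.hom] [IsAffineHom Z.hom] [LocallyOfFinitePresentation Z.hom]
    (h' : (Over.pullback U.ι).obj Y ⟶ (Over.pullback U.ι).obj Z) :
    ∃ h : Y ⟶ Z, (Over.pullback U.ι).map h = h' := by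
  have hZ' : ∀ y : Y.left, y ∉ Y.hom ⁻¹ᵁ U → ∃ a b : Y.left.presheaf.stalk y,
      a ∈ maximalIdeal (Y.left.presheaf.stalk y) ∧ b ∈ maximalIdeal (Y.left.presheaf.stalk y) ∧
      RingTheory.Sequence.IsWeaklyRegular (Y.left.presheaf.stalk y) [a, b] := fun y hy =>
    depth2_of_flat Y.hom y (hZ (Y.hom y) hy)
  haveI := quasiCompact_preimage_ι U Y.hom
  haveI : IsAffineHom (pullback.fst Y.hom Z.hom) :=
    MorphismProperty.pullback_fst (P := @IsAffineHom) _ _ ‹_›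
  haveI : LocallyOfFinitePresentation (pullback.fst Y.hom Z.hom) :=
    MorphismProperty.pullback_fst (P := @LocallyOfFinitePresentation) _ _ ‹_›
  have hw : h'.left ≫ pullback.snd Z.hom U.ι = pullback.snd Y.hom U.ι := Over.w h'
  have hcond : pullback.fst Y.hom U.ι ≫ Y.hom = (h'.left ≫ pullback.fst Z.hom U.ι) ≫ Z.hom := by
    rw [Category.assoc, pullback.condition (f := Z.hom), ← Category.assoc, hw, pullback.condition]
  let t₀ : pullback Y.hom U.ι ⟶ pullback Y.hom Z.hom :=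
    pullback.lift (pullback.fst _ _) (h'.left ≫ pullback.fst _ _) hcond
  have ht₀f : t₀ ≫ pullback.fst Y.hom Z.hom = pullback.fst _ _ := pullback.lift_fst _ _ _
  have ht₀s : t₀ ≫ pullback.snd Y.hom Z.hom = h'.left ≫ pullback.fst _ _ := pullback.lift_snd _ _ _
  let t : ((Y.hom ⁻¹ᵁ U : Y.left.Opens) : Scheme.{u}) ⟶ pullback Y.hom Z.hom :=
    (pullbackRestrictIsoRestrict Y.hom U).inv ≫ t₀
  have ht : t ≫ pullback.fst Y.hom Z.hom = (Y.hom ⁻¹ᵁ U).ι := by
    rw [Category.assoc, ht₀f, pullbackRestrictIsoRestrict_inv_fst]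
  obtain ⟨s, ⟨hs1, hs2⟩, -⟩ := Groth.Agent.S14272.result Y.left (Y.hom ⁻¹ᵁ U) hZ'
    (pullback Y.hom Z.hom) (pullback.fst _ _) t ht
  have hsw : (s ≫ pullback.snd Y.hom Z.hom) ≫ Z.hom = Y.hom := by
    rw [Category.assoc, ← pullback.condition, ← Category.assoc, hs1, Category.id_comp]
  refine ⟨Over.homMk (s ≫ pullback.snd _ _) hsw, ?_⟩
  ext
  apply pullback.hom_ext
  · rw [← fst_comp_left_eq]
    have h1 : pullback.fst Y.hom U.ι ≫ s = t₀ := by
      rw [← pullbackRestrictIsoRestrict_hom_ι, Category.assoc, hs2, Iso.hom_inv_id_assoc]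
    change pullback.fst Y.hom U.ι ≫ (s ≫ pullback.snd _ _) = _
    rw [← Category.assoc, h1, ht₀s]
  · rw [hw]
    exact Over.w ((Over.pullback U.ι).map (Over.homMk (s ≫ pullback.snd _ _) hsw))

end Groth.Agent.Lib.Helper10.TorsHart
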