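import Mathlib
import Groth.Agent.Lib.Helper10.NormalExt

/-!
# Extension of generic sections of proper schemes over integral schemes with valuation-ring stalks
-/

set_option autoImplicit false
set_option linter.unusedSectionVars false
set_option linter.style.haveILetI false
set_option maxHeartbeats 1000000
universe u
open CategoryTheory CategoryTheory.Limits AlgebraicGeometry Opposite TopologicalSpace

namespace Groth.Agent.Lib.Helper10.ValExt

open Groth.Agent.Lib.Helper10.NormalExt

variable {X Y : Scheme.{u}} [IsIntegral X]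

/-- the valuative square at a point. -/
noncomputable def mkSq (x : X) (hval : ValuationRing (X.presheaf.stalk x))
    (q : Y ⟶ X)
    (g : Spec X.functionField ⟶ Y) (hg : g ≫ q = X.fromSpecStalk (genericPoint X)) :
    ValuativeCommSq q :=
  { R := X.presheaf.stalk x
    commRing := inferInstance
    domain := inferInstance
    valuationRing := hval
    K := X.functionField
    field := inferInstance
    algebra := inferInstance
    isFractionRing := inferInstance
    i₁ := g
    i₂ := X.fromSpecStalk x
    commSq := ⟨by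
      rw [hg]
      exact (Scheme.SpecMap_stalkSpecializes_fromSpecStalk
        ((genericPoint_spec X).specializes trivial)).symm⟩ }

theorem exists_lift_at (x : X) (hval : ValuationRing (X.presheaf.stalk x))
    (q : Y ⟶ X) (hex : ValuativeCriterion.Existence q)
    (g : Spec X.functionField ⟶ Y) (hg : g ≫ q = X.fromSpecStalk (genericPoint X)) :
    ∃ l : Spec (X.presheaf.stalk x) ⟶ Y, l ≫ q = X.fromSpecStalk x ∧
      Spec.map (X.presheaf.stalkSpecializes ((genericPoint_spec X).specializes trivial)) ≫ l =
        g := by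
  obtain ⟨⟨l⟩⟩ := hex (mkSq x hval q g hg)
  exact ⟨l.l, l.fac_right, l.fac_left⟩

theorem specMap_stalkSpecializes_fromSpecStalkOfMem (U : X.Opens) {x y : X} (h : x ⤳ y)
    (hy : y ∈ U) (hx : x ∈ U) :
    Spec.map (X.presheaf.stalkSpecializes h) ≫ U.fromSpecStalkOfMem y hy =
      U.fromSpecStalkOfMem x hx := by
  rw [← cancel_mono U.ι, Category.assoc, Scheme.Opens.fromSpecStalkOfMem_ι,
    Scheme.Opens.fromSpecStalkOfMem_ι, Scheme.SpecMap_stalkSpecializes_fromSpecStalk]

/-- **Generic sections of proper schemes extend** over an integral scheme all of whose local rings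
are valuation rings (e.g. a Dedekind scheme, or the spectrum of a valuation ring). -/
theorem exists_section_of_generic (hval : ∀ x : X, ValuationRing (X.presheaf.stalk x))
    (q : Y ⟶ X) [IsProper q]
    (g : Spec X.functionField ⟶ Y) (hg : g ≫ q = X.fromSpecStalk (genericPoint X)) :
    ∃ g' : X ⟶ Y, g' ≫ q = 𝟙 X ∧ X.fromSpecStalk (genericPoint X) ≫ g' = g := by
  have hex : ValuativeCriterion.Existence q := by
    have h : (ValuativeCriterion.Existence ⊓ @QuasiCompact) q := by
      rw [← UniversallyClosed.eq_valuativeCriterion]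
      infer_instance
    exact h.1
  have hsp : ∀ x : X, genericPoint X ⤳ x := fun x => (genericPoint_spec X).specializes trivial
  have hl : ∀ x : X, ∃ l : Spec (X.presheaf.stalk x) ⟶ Y, l ≫ q = X.fromSpecStalk x ∧
      Spec.map (X.presheaf.stalkSpecializes (hsp x)) ≫ l = g := fun x =>
    exists_lift_at x (hval x) q hex g hg
  choose l hl1 hl2 using hl
  have hs : ∀ x : X, ∃ (U : X.Opens) (hxU : x ∈ U) (f : U.toScheme ⟶ Y),
      l x = U.fromSpecStalkOfMem x hxU ≫ f ∧ f ≫ q = U.ι ≫ 𝟙 X := fun x =>
    spread_out_of_isGermInjective' (𝟙 X) q (l x) (by rw [hl1, Category.comp_id])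
  choose U hxU f hf1 hf2 using hs
  have hηU : ∀ x : X, genericPoint X ∈ U x := fun x => genericPoint_mem_of_mem (U x) x (hxU x)
  have hfg : ∀ x : X, (U x).fromSpecStalkOfMem (genericPoint X) (hηU x) ≫ f x = g := by
    intro x
    rw [← hl2 x, hf1 x, ← Category.assoc,
      specMap_stalkSpecializes_fromSpecStalkOfMem (U x) (hsp x) (hxU x) (hηU x)]
  have hU : IsOpenCover U := by
    refine eq_top_iff.mpr ?_
    intro t _
    exact Opens.mem_iSup.mpr ⟨t, hxU t⟩
  let 𝒰 : X.OpenCover := X.openCoverOfIsOpenCover U hU
  have hcompat : ∀ x y : 𝒰.I₀, pullback.fst (𝒰.f x) (𝒰.f y) ≫ f x = pullback.snd _ _ ≫ f y := by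
    intro x y
    change pullback.fst (U x).ι (U y).ι ≫ f x = pullback.snd (U x).ι (U y).ι ≫ f y
    haveI : IsReduced (pullback (U x).ι (U y).ι) :=
      isReduced_of_isOpenImmersion (pullback.fst (U x).ι (U y).ι ≫ (U x).ι)
    refine hom_ext_of_generic (𝟙 X) q (pullback.fst (U x).ι (U y).ι ≫ (U x).ι)
      (by rw [Category.comp_id]; exact Scheme.Hom.isOpenMap _) _ _ ?_ ?_
    · rw [Category.assoc, Category.assoc, hf2 x, hf2 y, Category.comp_id, Category.comp_id,
        pullback.condition]
    · -- both sides factor through `g`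
      have key : ∀ (z : X) (c : pullback (pullback.fst (𝟙 X) (X.fromSpecStalk (genericPoint X)))
          (pullback.fst (U x).ι (U y).ι ≫ (U x).ι) ⟶ (U z).toScheme)
          (hc : c ≫ (U z).ι = pullback.snd _ _ ≫ pullback.fst (U x).ι (U y).ι ≫ (U x).ι),
          c ≫ f z = (pullback.fst _ _ ≫ pullback.snd (𝟙 X) (X.fromSpecStalk (genericPoint X))) ≫
            g := by
        intro z c hc
        have : c = (pullback.fst _ _ ≫ pullback.snd (𝟙 X) (X.fromSpecStalk (genericPoint X))) ≫
            (U z).fromSpecStalkOfMem (genericPoint X) (hηU z) := by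
          have e0 := pullback.condition (f := 𝟙 X) (g := X.fromSpecStalk (genericPoint X))
          rw [Category.comp_id] at e0
          rw [← cancel_mono (U z).ι, hc, Category.assoc, Category.assoc,
            Scheme.Opens.fromSpecStalkOfMem_ι, ← pullback.condition, ← e0]
        rw [this, Category.assoc, hfg z]
      rw [← Category.assoc, ← Category.assoc,
        key x (pullback.snd _ _ ≫ pullback.fst (U x).ι (U y).ι) (by rw [Category.assoc]),
        key y (pullback.snd _ _ ≫ pullback.snd (U x).ι (U y).ι) (by
          rw [Category.assoc, ← pullback.condition])]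
  let g' : X ⟶ Y := 𝒰.glueMorphisms f hcompat
  have hg'f : ∀ x : X, (U x).ι ≫ g' = f x := fun x => 𝒰.ι_glueMorphisms f hcompat x
  refine ⟨g', ?_, ?_⟩
  · apply Scheme.Cover.hom_ext 𝒰
    intro x
    change (U x).ι ≫ g' ≫ q = (U x).ι ≫ 𝟙 X
    rw [← Category.assoc, hg'f x, hf2 x]
  · rw [← Scheme.Opens.fromSpecStalkOfMem_ι (U (genericPoint X)) (genericPoint X)
      (hηU (genericPoint X)), Category.assoc, hg'f, hfg]

end Groth.Agent.Lib.Helper10.ValExt
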