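import Mathlib
import Groth.Agent.Lib.Helper10.ValExt1

/-!
# Sections from local lifts

Over an integral scheme `X`, a generic section of a separated morphism locally of finite type
`q : Y ⟶ X` which extends over every local ring of `X` extends to a global section.
-/

set_option autoImplicit false
set_option linter.unusedSectionVars false
set_option linter.style.haveILetI false
set_option maxHeartbeats 1000000
universe u
open CategoryTheory CategoryTheory.Limits AlgebraicGeometry Opposite TopologicalSpace

namespace Groth.Agent.Lib.Helper10.TorsNorm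

open Groth.Agent.Lib.Helper10.NormalExt Groth.Agent.Lib.Helper10.ValExt

variable {X Y : Scheme.{u}} [IsIntegral X]

theorem exists_section_of_local_lifts (q : Y ⟶ X) [IsSeparated q] [LocallyOfFiniteType q]
    (g : Spec X.functionField ⟶ Y) (hg : g ≫ q = X.fromSpecStalk (genericPoint X))
    (hl : ∀ x : X, ∃ l : Spec (X.presheaf.stalk x) ⟶ Y, l ≫ q = X.fromSpecStalk x ∧
      Spec.map (X.presheaf.stalkSpecializes ((genericPoint_spec X).specializes trivial)) ≫ l = g) :
    ∃ g' : X ⟶ Y, g' ≫ q = 𝟙 X ∧ X.fromSpecStalk (genericPoint X) ≫ g' = g := by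
  have hsp : ∀ x : X, genericPoint X ⤳ x := fun x => (genericPoint_spec X).specializes trivial
  choose l hl1 hl2 using hl
  have hs : ∀ x : X, ∃ (U : X.Opens) (hxU : x ∈ U) (f : U.toScheme ⟶ Y),
      l x = U.fromSpecStalkOfMem x hxU ≫ f ∧ f ≫ q = U.ι ≫ 𝟙 X := fun x =>
    spread_out_of_isGermInjective' (𝟙 X) q (l x) (by rw [hl1, Category.comp_id])
  choose U hxU f hf1 hf2 using hs
  have hηU : ∀ x : X, genericPoint X ∈ U x := fun x => genericPoint_mem_of_mem (U x) x (hxU x)
  have hfg : ∀ x : X, (U x).fromSpecStalkOfMem (genericPoint X) (hηU x) ≫ f x = g := by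
    intro x
    rw [← hl2 x, hf1 x, ← Category.assoc,
      specMap_stalkSpecializes_fromSpecStalkOfMem (U x) (hsp x) (hxU x) (hηU x)]
  have hU : IsOpenCover U := by
    refine eq_top_iff.mpr ?_
    intro t _
    exact Opens.mem_iSup.mpr ⟨t, hxU t⟩
  let 𝒰 : X.OpenCover := X.openCoverOfIsOpenCover U hU
  have hcompat : ∀ x y : 𝒰.I₀, pullback.fst (𝒰.f x) (𝒰.f y) ≫ f x = pullback.snd _ _ ≫ f y := by
    intro x y
    change pullback.fst (U x).ι (U y).ι ≫ f x = pullback.snd (U x).ι (U y).ι ≫ f y
    haveI : IsReduced (pullback (U x).ι (U y).ι) :=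
      isReduced_of_isOpenImmersion (pullback.fst (U x).ι (U y).ι ≫ (U x).ι)
    refine hom_ext_of_generic (𝟙 X) q (pullback.fst (U x).ι (U y).ι ≫ (U x).ι)
      (by rw [Category.comp_id]; exact Scheme.Hom.isOpenMap _) _ _ ?_ ?_
    · rw [Category.assoc, Category.assoc, hf2 x, hf2 y, Category.comp_id, Category.comp_id,
        pullback.condition]
    · have key : ∀ (z : X) (c : pullback (pullback.fst (𝟙 X) (X.fromSpecStalk (genericPoint X)))
          (pullback.fst (U x).ι (U y).ι ≫ (U x).ι) ⟶ (U z).toScheme)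
          (hc : c ≫ (U z).ι = pullback.snd _ _ ≫ pullback.fst (U x).ι (U y).ι ≫ (U x).ι),
          c ≫ f z = (pullback.fst _ _ ≫ pullback.snd (𝟙 X) (X.fromSpecStalk (genericPoint X))) ≫
            g := by
        intro z c hc
        have : c = (pullback.fst _ _ ≫ pullback.snd (𝟙 X) (X.fromSpecStalk (genericPoint X))) ≫
            (U z).fromSpecStalkOfMem (genericPoint X) (hηU z) := by
          have e0 := pullback.condition (f := 𝟙 X) (g := X.fromSpecStalk (genericPoint X))
          rw [Category.comp_id] at e0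
          rw [← cancel_mono (U z).ι, hc, Category.assoc, Category.assoc,
            Scheme.Opens.fromSpecStalkOfMem_ι, ← pullback.condition, ← e0]
        rw [this, Category.assoc, hfg z]
      rw [← Category.assoc, ← Category.assoc,
        key x (pullback.snd _ _ ≫ pullback.fst (U x).ι (U y).ι) (by rw [Category.assoc]),
        key y (pullback.snd _ _ ≫ pullback.snd (U x).ι (U y).ι) (by
          rw [Category.assoc, ← pullback.condition])]
  let g' : X ⟶ Y := 𝒰.glueMorphisms f hcompat
  have hg'f : ∀ x : X, (U x).ι ≫ g' = f x := fun x => 𝒰.ι_glueMorphisms f hcompat x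
  refine ⟨g', ?_, ?_⟩
  · apply Scheme.Cover.hom_ext 𝒰
    intro x
    change (U x).ι ≫ g' ≫ q = (U x).ι ≫ 𝟙 X
    rw [← Category.assoc, hg'f x, hf2 x]
  · rw [← Scheme.Opens.fromSpecStalkOfMem_ι (U (genericPoint X)) (genericPoint X)
      (hηU (genericPoint X)), Category.assoc, hg'f, hfg]

end Groth.Agent.Lib.Helper10.TorsNorm
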