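import Mathlib
import Groth.Agent.Lib.Helper10.TorsNorm1
import Groth.Agent.Lib.Helper14.SepVal4
import Groth.Agent.Lib.Helper14.GenExt1
import Groth.Agent.Lib.Helper14.SchemeFieldStalk

/-!
# Local lifts by faithfully flat descent along the local ring of a point of the covering
-/

set_option autoImplicit false
set_option linter.unusedSectionVars false
set_option linter.style.haveILetI false
set_option maxHeartbeats 1000000
universe u
open CategoryTheory CategoryTheory.Limits AlgebraicGeometry Opposite TopologicalSpace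

namespace Groth.Agent.Lib.Helper10.TorsNorm

variable {S E : Scheme.{u}}

/-- extension property over normal domains: a point with values in the fraction field of a
normal domain `A` lying under a given `A`-valued point of the base (lifted to `E`) extends. -/
def ExtProp (π : E ⟶ S) : Prop :=
  ∀ (A : CommRingCat.{u}) [IsDomain A] [IsIntegrallyClosed A]
    (τ : Spec A ⟶ E) (y : Spec (CommRingCat.of (FractionRing A)) ⟶ E),
    y ≫ π = Spec.map (CommRingCat.ofHom (algebraMap A (FractionRing A))) ≫ τ ≫ π →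
    ∃ σ' : Spec A ⟶ E, σ' ≫ π = τ ≫ π ∧
      Spec.map (CommRingCat.ofHom (algebraMap A (FractionRing A))) ≫ σ' = y

theorem epi_spec_field {K L : Type u} [Field K] [Field L] (κ : K →+* L) :
    Epi (Spec.map (CommRingCat.ofHom κ)) := by
  haveI : Flat (Spec.map (CommRingCat.ofHom κ)) := by
    rw [HasRingHomProperty.Spec_iff (P := @Flat)]
    exact Groth.Agent.Lib.Helper14.AS.ringHom_flat_of_isField (Field.toIsField K) _
  haveI : Surjective (Spec.map (CommRingCat.ofHom κ)) := by
    rw [surjective_iff]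
    intro x
    exact ⟨default, Subsingleton.elim _ _⟩
  exact Flat.epi_of_flat_of_surjective _

theorem faithfullyFlat_of_flat_of_isLocalHom {A B : Type u} [CommRing A] [CommRing B]
    [IsLocalRing A] [IsLocalRing B] (f : A →+* B) (hf : f.Flat) [IsLocalHom f] :
    f.FaithfullyFlat := by
  algebraize [f]
  haveI : IsLocalHom (algebraMap A B) := ‹IsLocalHom f›
  have : Module.FaithfullyFlat A B := Module.FaithfullyFlat.of_flat_of_isLocalHom
  exact this

variable [IsIntegral S]

theorem exists_local_lift (π : E ⟶ S) [Flat π] [IsSeparated π]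
    (hE : ∀ e : E, IsDomain (E.presheaf.stalk e) ∧ IsIntegrallyClosed (E.presheaf.stalk e))
    (H : ExtProp π)
    (g : Spec S.functionField ⟶ E) (hg : g ≫ π = S.fromSpecStalk (genericPoint S)) (e₀ : E) :
    ∃ l : Spec (S.presheaf.stalk (π e₀)) ⟶ E, l ≫ π = S.fromSpecStalk (π e₀) ∧
      Spec.map (S.presheaf.stalkSpecializes ((genericPoint_spec S).specializes trivial)) ≫ l =
        g := by
  obtain ⟨hdom, hic⟩ := hE e₀
  haveI := hdom
  haveI := hic
  have hsp : genericPoint S ⤳ π e₀ := (genericPoint_spec S).specializes trivial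
  let φ : S.presheaf.stalk (π e₀) ⟶ E.presheaf.stalk e₀ := π.stalkMap e₀
  have hff : φ.hom.FaithfullyFlat :=
    faithfullyFlat_of_flat_of_isLocalHom (π.stalkMap e₀).hom (Flat.stalkMap π e₀)
  have hφinj : Function.Injective φ.hom := hff.injective
  haveI hφflat : Flat (Spec.map φ) := by
    rw [HasRingHomProperty.Spec_iff (P := @Flat)]
    exact hff.flat
  haveI hφsurj : Surjective (Spec.map φ) := by
    rw [surjective_iff]
    exact (RingHom.FaithfullyFlat.iff_flat_and_comap_surjective.mp hff).2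
  let L := FractionRing (E.presheaf.stalk e₀)
  let ρ : E.presheaf.stalk e₀ →+* L := algebraMap _ L
  have hρinj : Function.Injective ρ := IsFractionRing.injective _ _
  let κ : S.functionField →+* L := IsFractionRing.lift (g := ρ.comp φ.hom) (hρinj.comp hφinj)
  have hκ' : S.presheaf.stalkSpecializes hsp ≫ CommRingCat.ofHom κ = φ ≫ CommRingCat.ofHom ρ := by
    have halg : algebraMap (S.presheaf.stalk (π e₀)) S.functionField =
        (S.presheaf.stalkSpecializes hsp).hom := rfl
    ext x
    change κ ((S.presheaf.stalkSpecializes hsp).hom x) = ρ (φ.hom x)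
    rw [← halg]
    exact IsFractionRing.lift_algebraMap (g := ρ.comp φ.hom) (hρinj.comp hφinj) x
  let jL : Spec (CommRingCat.of L) ⟶ Spec (E.presheaf.stalk e₀) := Spec.map (CommRingCat.ofHom ρ)
  let τ : Spec (E.presheaf.stalk e₀) ⟶ E := E.fromSpecStalk e₀
  let y : Spec (CommRingCat.of L) ⟶ E := Spec.map (CommRingCat.ofHom κ) ≫ g
  have hτπ : τ ≫ π = Spec.map φ ≫ S.fromSpecStalk (π e₀) :=
    (Scheme.SpecMap_stalkMap_fromSpecStalk π).symm
  have hh : Spec.map (CommRingCat.ofHom κ) ≫ Spec.map (S.presheaf.stalkSpecializes hsp) =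
      jL ≫ Spec.map φ := by
    have h1 := congrArg Spec.map hκ'
    rw [Spec.map_comp, Spec.map_comp] at h1
    exact h1
  have hy : y ≫ π = jL ≫ τ ≫ π := by
    rw [hτπ]
    change (Spec.map (CommRingCat.ofHom κ) ≫ g) ≫ π = _
    rw [Category.assoc, hg, ← Scheme.SpecMap_stalkSpecializes_fromSpecStalk hsp, ← Category.assoc,
      hh, Category.assoc]
  obtain ⟨σ', hσ1, hσ2'⟩ := H (E.presheaf.stalk e₀) τ y hy
  have hσ2 : jL ≫ σ' = Spec.map (CommRingCat.ofHom κ) ≫ g := hσ2'
  have hkey : pullback.fst (Spec.map φ) (Spec.map φ) ≫ σ' =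
      pullback.snd (Spec.map φ) (Spec.map φ) ≫ σ' := by
    let p₁ := pullback.fst (Spec.map φ) (Spec.map φ)
    let p₂ := pullback.snd (Spec.map φ) (Spec.map φ)
    haveI : Flat jL := Groth.Agent.Lib.Helper14.AS.flat_spec_fractionRing
      (A := E.presheaf.stalk e₀) (K := L)
    haveI : IsSchemeTheoreticallyDominant jL :=
      Groth.Agent.Lib.Helper14.AS.isSchemeTheoreticallyDominant_spec_fractionRing
        (A := E.presheaf.stalk e₀) (K := L)
    let a₁ := pullback.fst p₁ jL
    let b₁ := pullback.snd p₁ jL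
    haveI : IsSchemeTheoreticallyDominant a₁ := inferInstance
    let a₂ := pullback.fst (a₁ ≫ p₂) jL
    let b₂ := pullback.snd (a₁ ≫ p₂) jL
    haveI : IsSchemeTheoreticallyDominant a₂ := inferInstance
    haveI : IsSchemeTheoreticallyDominant (a₂ ≫ a₁) := inferInstance
    have c₁ : a₁ ≫ p₁ = b₁ ≫ jL := pullback.condition
    have c₂ : a₂ ≫ a₁ ≫ p₂ = b₂ ≫ jL := pullback.condition
    refine Groth.Agent.Lib.Helper14.GenExt.ext_of_schDominant π ?_ (a₂ ≫ a₁) ?_
    · rw [Category.assoc, Category.assoc, hσ1, hτπ, ← Category.assoc, ← Category.assoc]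
      exact congrArg (· ≫ S.fromSpecStalk (π e₀)) pullback.condition
    · have e1 : (a₂ ≫ a₁) ≫ p₁ ≫ σ' = (a₂ ≫ b₁) ≫ Spec.map (CommRingCat.ofHom κ) ≫ g := by
        rw [Category.assoc, ← Category.assoc a₁, c₁, Category.assoc, hσ2, Category.assoc]
      have e2 : (a₂ ≫ a₁) ≫ p₂ ≫ σ' = b₂ ≫ Spec.map (CommRingCat.ofHom κ) ≫ g := by
        rw [Category.assoc, ← Category.assoc a₁, ← Category.assoc a₂, c₂, Category.assoc, hσ2]
      have e3 : (a₂ ≫ b₁) ≫ Spec.map (CommRingCat.ofHom κ) =
          b₂ ≫ Spec.map (CommRingCat.ofHom κ) := by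
        haveI : Mono (Spec.map (S.presheaf.stalkSpecializes hsp)) :=
          Groth.Agent.Lib.Helper14.AS.mono_spec_fractionRing
            (A := S.presheaf.stalk (π e₀)) (K := S.functionField)
        rw [← cancel_mono (Spec.map (S.presheaf.stalkSpecializes hsp))]
        calc ((a₂ ≫ b₁) ≫ Spec.map (CommRingCat.ofHom κ)) ≫
              Spec.map (S.presheaf.stalkSpecializes hsp)
            = a₂ ≫ (b₁ ≫ jL) ≫ Spec.map φ := by simp only [Category.assoc, hh]
          _ = a₂ ≫ (a₁ ≫ p₁) ≫ Spec.map φ := by rw [c₁]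
          _ = a₂ ≫ a₁ ≫ p₂ ≫ Spec.map φ := by
                simp only [Category.assoc]
                exact congrArg (fun t => a₂ ≫ a₁ ≫ t) pullback.condition
          _ = (a₂ ≫ a₁ ≫ p₂) ≫ Spec.map φ := by simp only [Category.assoc]
          _ = (b₂ ≫ jL) ≫ Spec.map φ := by rw [c₂]
          _ = (b₂ ≫ Spec.map (CommRingCat.ofHom κ)) ≫
              Spec.map (S.presheaf.stalkSpecializes hsp) := by simp only [Category.assoc, hh]
      rw [e1, e2, ← Category.assoc, e3, Category.assoc]
  let l : Spec (S.presheaf.stalk (π e₀)) ⟶ E := EffectiveEpi.desc (Spec.map φ) σ'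
    (fun g₁ g₂ h => by
      have h1 := congrArg (pullback.lift g₁ g₂ h ≫ ·) hkey
      simp only [← Category.assoc, pullback.lift_fst, pullback.lift_snd] at h1
      exact h1)
  have hl : Spec.map φ ≫ l = σ' := EffectiveEpi.fac _ _ _
  haveI : Epi (Spec.map φ) := Flat.epi_of_flat_of_surjective _
  refine ⟨l, ?_, ?_⟩
  · rw [← cancel_epi (Spec.map φ), ← Category.assoc, hl, hσ1, hτπ]
  · haveI : Epi (Spec.map (CommRingCat.ofHom κ)) := epi_spec_field κ
    rw [← cancel_epi (Spec.map (CommRingCat.ofHom κ)), ← Category.assoc, hh, Category.assoc, hl,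
      hσ2]

end Groth.Agent.Lib.Helper10.TorsNorm
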