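import Mathlib
import Groth.Agent.Lib.Helper20.UnramifiedOverField

/-!
# Points of an unramified scheme over a field with values in the fraction field of a normal
domain extend to the domain
-/

set_option autoImplicit false
set_option linter.unusedSectionVars false
set_option linter.style.haveILetI false
set_option maxHeartbeats 1000000
universe u
open CategoryTheory CategoryTheory.Limits AlgebraicGeometry Opposite TopologicalSpace

namespace Groth.Agent.Lib.Helper10.TorsNorm

open Groth.Agent.Lib.Helper20

/-- ring-theoretic core: a ring map from a finite `k`-algebra `F` to the fraction field of a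
normal domain `A`, compatible with a map `k → A`, factors through `A`. -/
theorem exists_ringHom_factor {k F A L : Type u} [CommRing k] [CommRing F] [CommRing A] [IsDomain A]
    [IsIntegrallyClosed A] [Field L] [Algebra A L] [IsFractionRing A L]
    (sm : k →+* F) (hsm : sm.IsIntegral) (θ : F →+* L) (ψ : k →+* A)
    (hcomp : θ.comp sm = (algebraMap A L).comp ψ) :
    ∃ θ' : F →+* A, (algebraMap A L).comp θ' = θ ∧ θ'.comp sm = ψ := by
  have hinj : Function.Injective (algebraMap A L) := IsFractionRing.injective A L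
  have hmem : ∀ z : F, θ z ∈ (algebraMap A L).range := by
    intro z
    obtain ⟨p, hp, hpz⟩ := hsm z
    have h1 : IsIntegral A (θ z) := by
      refine ⟨p.map ψ, hp.map ψ, ?_⟩
      rw [Polynomial.eval₂_map, ← hcomp, ← Polynomial.hom_eval₂, hpz, map_zero]
    obtain ⟨y, hy⟩ := IsIntegrallyClosed.isIntegral_iff.mp h1
    exact ⟨y, hy⟩
  let eA : A ≃+* (algebraMap A L).range :=
    RingEquiv.ofBijective (algebraMap A L).rangeRestrict
      ⟨fun a b hab => hinj (congrArg Subtype.val hab), (algebraMap A L).rangeRestrict_surjective⟩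
  let θ₁ : F →+* (algebraMap A L).range := θ.codRestrict _ hmem
  let θ' : F →+* A := (eA.symm : (algebraMap A L).range →+* A).comp θ₁
  have hθ' : ∀ z, algebraMap A L (θ' z) = θ z := by
    intro z
    have h2 : eA (θ' z) = θ₁ z := eA.apply_symm_apply (θ₁ z)
    have h3 := congrArg Subtype.val h2
    exact h3
  refine ⟨θ', RingHom.ext hθ', ?_⟩
  ext c
  apply hinj
  rw [RingHom.comp_apply, hθ']
  exact RingHom.congr_fun hcomp c

theorem exists_extend_to_unramified (k : Type u) [Field k] {G : Scheme.{u}}
    (p : G ⟶ Spec (CommRingCat.of k)) [FormallyUnramified p] [LocallyOfFiniteType p]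
    (A : CommRingCat.{u}) [IsDomain A] [IsIntegrallyClosed A]
    (γ₀ : Spec (CommRingCat.of (FractionRing A)) ⟶ G) (t : Spec A ⟶ Spec (CommRingCat.of k))
    (h : γ₀ ≫ p = Spec.map (CommRingCat.ofHom (algebraMap A (FractionRing A))) ≫ t) :
    ∃ γ' : Spec A ⟶ G,
      Spec.map (CommRingCat.ofHom (algebraMap A (FractionRing A))) ≫ γ' = γ₀ ∧ γ' ≫ p = t := by
  haveI := discreteTopology_of_unramified k p
  let L := FractionRing A
  let x₀ : Spec (CommRingCat.of L) := default
  let U : G.Opens := pointOpen (γ₀ x₀)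
  have hU : IsAffineOpen U := isAffineOpen_pointOpen _
  -- factor through `U`
  have hrange : Set.range γ₀ ⊆ Set.range U.ι := by
    rw [Scheme.Opens.range_ι]
    rintro _ ⟨z, rfl⟩
    have : z = x₀ := Subsingleton.elim _ _
    rw [this]
    exact Set.mem_singleton _
  let γ₁ : Spec (CommRingCat.of L) ⟶ U.toScheme := IsOpenImmersion.lift U.ι γ₀ hrange
  have hγ₁ : γ₁ ≫ U.ι = γ₀ := IsOpenImmersion.lift_fac _ _ _
  let θc : Γ(G, U) ⟶ CommRingCat.of L := Spec.preimage (γ₁ ≫ hU.isoSpec.hom)
  have hθc : Spec.map θc ≫ hU.fromSpec = γ₀ := by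
    rw [Spec.map_preimage, Category.assoc, ← hU.isoSpec_inv_ι, Iso.hom_inv_id_assoc, hγ₁]
  let ψc : CommRingCat.of k ⟶ A := Spec.preimage t
  have hψc : Spec.map ψc = t := Spec.map_preimage _
  have hcompc : sectionMap k p hU ≫ θc = ψc ≫ CommRingCat.ofHom (algebraMap A L) := by
    apply Spec.map_injective
    rw [Spec.map_comp, Spec.map_comp, Spec_map_sectionMap, ← Category.assoc, hθc, h, hψc]
  -- integrality of `k → Γ(G, U)`
  have hint : (sectionMap k p hU).hom.IsIntegral := by
    letI := (sectionMap k p hU).hom.toAlgebra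
    haveI := (finite_of_sectionMap k p hU).1
    intro z
    exact Algebra.IsIntegral.isIntegral (R := k) z
  obtain ⟨θ', hθ'1, hθ'2⟩ := exists_ringHom_factor (sectionMap k p hU).hom hint θc.hom ψc.hom
    (congrArg CommRingCat.Hom.hom hcompc)
  refine ⟨Spec.map (CommRingCat.ofHom θ') ≫ hU.fromSpec, ?_, ?_⟩
  · rw [← Category.assoc, ← Spec.map_comp, ← hθc]
    congr 2
    ext z
    exact RingHom.congr_fun hθ'1 z
  · rw [Category.assoc, ← Spec_map_sectionMap, ← Spec.map_comp, ← hψc]
    congr 1
    ext c
    exact RingHom.congr_fun hθ'2 c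

end Groth.Agent.Lib.Helper10.TorsNorm
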