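import Mathlib
import Groth.Prelude.Def_ActBC
import Groth.Agent.Lib.Helper10.TorsNorm2
import Groth.Agent.Lib.Helper10.TorsNorm3

/-!
# Pseudo-torsors under (the base change of) an unramified group over a field have the extension
property over normal domains
-/

set_option autoImplicit false
set_option linter.unusedSectionVars false
set_option linter.style.haveILetI false
set_option maxHeartbeats 1000000
universe u
open CategoryTheory CategoryTheory.Limits AlgebraicGeometry Opposite TopologicalSpace
open MonoidalCategory CartesianMonoidalCategory MonObj GrpObj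

namespace Groth.Agent.Lib.Helper10.TorsNorm

theorem extProp_of_pseudoTorsor (k : Type u) [Field k] (G : Over (Spec (CommRingCat.of k)))
    [GrpObj G] [FormallyUnramified G.hom] [LocallyOfFiniteType G.hom]
    {S : Scheme.{u}} (s : S ⟶ Spec (CommRingCat.of k)) (X : Over S)
    (a : AlgGrp.Action (Red.bc s G) X) (hpt : NonAbH1.IsPseudoTorsorSch a) : ExtProp X.hom := by
  intro A _ _ τ y hy
  let L := FractionRing A
  let jL : Spec (CommRingCat.of L) ⟶ Spec A := Spec.map (CommRingCat.ofHom (algebraMap A L))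
  let T : Over S := Over.mk (τ ≫ X.hom)
  let TL : Over S := Over.mk (jL ≫ τ ≫ X.hom)
  let τo : T ⟶ X := Over.homMk τ rfl
  let jo : TL ⟶ T := Over.homMk jL rfl
  let yo : TL ⟶ X := Over.homMk y hy
  haveI : IsIso (lift a.act (snd (Red.bc s G) X)) := hpt
  let w : TL ⟶ Red.bc s G ⊗ X := lift yo (jo ≫ τo) ≫ inv (lift a.act (snd (Red.bc s G) X))
  have hw : w ≫ lift a.act (snd (Red.bc s G) X) = lift yo (jo ≫ τo) := by
    simp only [w, Category.assoc, IsIso.inv_hom_id, Category.comp_id]
  have hw1 : w ≫ a.act = yo := by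
    have h1 := congrArg (· ≫ fst X X) hw
    simpa only [Category.assoc, lift_fst] using h1
  have hw2 : w ≫ snd (Red.bc s G) X = jo ≫ τo := by
    have h1 := congrArg (· ≫ snd X X) hw
    simpa only [Category.assoc, lift_snd] using h1
  let gm : TL ⟶ Red.bc s G := w ≫ fst (Red.bc s G) X
  have hwgm : w = lift gm (jo ≫ τo) := by
    apply CartesianMonoidalCategory.hom_ext
    · rw [lift_fst]
    · rw [lift_snd, hw2]
  let gm0 : Spec (CommRingCat.of L) ⟶ G.left := gm.left ≫ pullback.fst G.hom s
  have hgm0 : gm0 ≫ G.hom = jL ≫ (τ ≫ X.hom ≫ s) := by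
    have h1 : gm.left ≫ pullback.snd G.hom s = jL ≫ τ ≫ X.hom := Over.w gm
    change (gm.left ≫ pullback.fst G.hom s) ≫ G.hom = _
    rw [Category.assoc, pullback.condition, ← Category.assoc, h1]
    simp only [Category.assoc]
  obtain ⟨gm', hgm'1, hgm'2⟩ := exists_extend_to_unramified k G.hom A gm0 (τ ≫ X.hom ≫ s) hgm0
  let gmo : T ⟶ Red.bc s G := Over.homMk (pullback.lift gm' (τ ≫ X.hom)
    (by rw [hgm'2, Category.assoc])) (pullback.lift_snd _ _ _)
  have hjgm : jo ≫ gmo = gm := by
    ext1
    apply pullback.hom_ext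
    · change (jL ≫ pullback.lift gm' (τ ≫ X.hom) _) ≫ pullback.fst G.hom s = gm0
      rw [Category.assoc, pullback.lift_fst, hgm'1]
    · change (jL ≫ pullback.lift gm' (τ ≫ X.hom) _) ≫ pullback.snd G.hom s =
        gm.left ≫ pullback.snd G.hom s
      rw [Category.assoc, pullback.lift_snd]
      exact (Over.w gm).symm
  let σo : T ⟶ X := lift gmo τo ≫ a.act
  refine ⟨σo.left, Over.w σo, ?_⟩
  have h2 : jo ≫ σo = yo := by
    change jo ≫ lift gmo τo ≫ a.act = yo
    rw [← Category.assoc, comp_lift, hjgm, ← hwgm, hw1]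
  exact congrArg (fun t => t.left) h2

end Groth.Agent.Lib.Helper10.TorsNorm
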