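import Mathlib
import Groth.Prelude.Def_Pi1
import Groth.Agent.Lib.Helper10.TorsNorm4
import Groth.Agent.Lib.Helper10.PreLocus
import Groth.Agent.Lib.Helper6.TorsorProps
import Groth.Agent.Lib.Helper14.FppfLocalInst2
import Groth.Agent.Lib.Helper24.EtaleNormal

/-!
# Torsors under an étale group over a field, over a normal integral base: generic points extend
uniquely to sections
-/

set_option autoImplicit false
set_option linter.unusedSectionVars false
set_option linter.style.haveILetI false
set_option maxHeartbeats 1000000
universe u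
open CategoryTheory CategoryTheory.Limits AlgebraicGeometry Opposite TopologicalSpace
open MonoidalCategory CartesianMonoidalCategory MonObj GrpObj

namespace Groth.Agent.Lib.Helper10.TorsNorm

theorem isTorsorFor_fpqc_of_fppf {S : Scheme.{u}} {G X : Over S} [GrpObj G]
    {a : AlgGrp.Action G X} (h : NonAbH1.IsTorsorFor Scheme.fppfPrecoverage a) :
    NonAbH1.IsTorsorFor Scheme.fpqcPrecoverage a := by
  obtain ⟨h1, R, hR, hs⟩ := h
  exact ⟨h1, R, Scheme.fppfPrecoverage_le_fpqcPrecoverage _ hR, hs⟩

section Generic

variable {S : Scheme.{u}} [IsIntegral S]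

theorem isDominant_fromSpecResidueField_genericPoint :
    IsDominant (S.fromSpecResidueField (genericPoint S)) := by
  constructor
  show Dense (Set.range (S.fromSpecResidueField (genericPoint S)))
  rw [Scheme.range_fromSpecResidueField, dense_iff_closure_eq]
  exact (genericPoint_spec S).def

theorem bijective_residue_genericPoint :
    Function.Bijective (S.residue (genericPoint S)).hom := by
  constructor
  · rw [injective_iff_map_eq_zero]
    intro z hz
    by_contra hne
    have hu : IsUnit z := by
      have : IsUnit (z : S.functionField) := (isUnit_iff_ne_zero).mpr hne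
      exact this
    have hu' := hu.map (S.residue (genericPoint S)).hom
    rw [hz] at hu'
    exact not_isUnit_zero hu'
  · exact IsLocalRing.residue_surjective

/-- the residue map at the generic point as an isomorphism -/
noncomputable def residueIso :
    S.presheaf.stalk (genericPoint S) ≅ S.residueField (genericPoint S) :=
  (RingEquiv.ofBijective (S.residue (genericPoint S)).hom
    bijective_residue_genericPoint).toCommRingCatIso

theorem residueIso_hom : (residueIso (S := S)).hom = S.residue (genericPoint S) := by
  ext z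
  rfl

end Generic

theorem main (k : Type u) [Field k]
    (G : Over (Spec (CommRingCat.of k))) [GrpObj G] [Etale G.hom]
    (S : Scheme.{u}) [IsIntegral S] (hS : Pi1.IsNormalScheme S) (s : S ⟶ Spec (CommRingCat.of k))
    (E : NonAbH1.TorsorSch (Red.bc s G) Scheme.fppfPrecoverage) :
    (∀ σ₁ σ₂ : S ⟶ E.X.left, σ₁ ≫ E.X.hom = 𝟙 S → σ₂ ≫ E.X.hom = 𝟙 S →
        S.fromSpecResidueField (genericPoint S) ≫ σ₁ =
          S.fromSpecResidueField (genericPoint S) ≫ σ₂ → σ₁ = σ₂) ∧
    (∀ x : Spec (S.residueField (genericPoint S)) ⟶ E.X.left,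
        x ≫ E.X.hom = S.fromSpecResidueField (genericPoint S) →
        ∃ σ : S ⟶ E.X.left, σ ≫ E.X.hom = 𝟙 S ∧
          S.fromSpecResidueField (genericPoint S) ≫ σ = x) := by
  have hfpqc := isTorsorFor_fpqc_of_fppf E.isTorsor
  haveI : IsSeparated G.hom := Groth.Agent.Lib.Helper10.PreLocus.isSeparated_of_grpObj G
  haveI : Etale (Red.bc s G).hom := by
    change Etale (pullback.snd G.hom s)
    infer_instance
  haveI : IsSeparated (Red.bc s G).hom := by
    change IsSeparated (pullback.snd G.hom s)
    infer_instance
  haveI : Surjective (Red.bc s G).hom := Groth.Agent.Lib.Helper6.Torsor.surjective_hom_of_grpObj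
  haveI hEt : Etale E.X.hom := Groth.Agent.Lib.Helper6.Torsor.etale_of_isTorsorFor_fpqc E.act hfpqc
  haveI hSep : IsSeparated E.X.hom :=
    Groth.Agent.Lib.Helper6.Torsor.of_isTorsorFor_fpqc (P := @IsSeparated) E.act hfpqc inferInstance
  haveI hSurj : Surjective E.X.hom :=
    Groth.Agent.Lib.Helper6.Torsor.surjective_of_isTorsorFor_fpqc E.act hfpqc
  constructor
  · intro σ₁ σ₂ h1 h2 h
    haveI := isDominant_fromSpecResidueField_genericPoint (S := S)
    exact ext_of_isDominant_of_isSeparated E.X.hom (by rw [h1, h2])
      (S.fromSpecResidueField (genericPoint S)) h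
  · intro x hx
    have hE : ∀ e : E.X.left, IsDomain (E.X.left.presheaf.stalk e) ∧
        IsIntegrallyClosed (E.X.left.presheaf.stalk e) := fun e =>
      Groth.Agent.Lib.Helper24.ENorm.stalk_of_etale (fun z => (hS z).2) E.X.hom e
    haveI : FormallyUnramified G.hom := inferInstance
    haveI : LocallyOfFiniteType G.hom := inferInstance
    have H : ExtProp E.X.hom := extProp_of_pseudoTorsor k G s E.X E.act E.isTorsor.1
    let g : Spec S.functionField ⟶ E.X.left := Spec.map (residueIso (S := S)).inv ≫ x
    have hg : g ≫ E.X.hom = S.fromSpecStalk (genericPoint S) := by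
      change (Spec.map (residueIso (S := S)).inv ≫ x) ≫ E.X.hom = _
      rw [Category.assoc, hx, Scheme.fromSpecResidueField, ← residueIso_hom, ← Category.assoc,
        ← Spec.map_comp, Iso.hom_inv_id, Spec.map_id, Category.id_comp]
    have hl : ∀ z : S, ∃ l : Spec (S.presheaf.stalk z) ⟶ E.X.left,
        l ≫ E.X.hom = S.fromSpecStalk z ∧
        Spec.map (S.presheaf.stalkSpecializes ((genericPoint_spec S).specializes trivial)) ≫ l =
          g := by
      intro z
      obtain ⟨e₀, rfl⟩ := hSurj.surj z
      exact exists_local_lift E.X.hom hE H g hg e₀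
    obtain ⟨σ, hσ1, hσ2⟩ := exists_section_of_local_lifts E.X.hom g hg hl
    refine ⟨σ, hσ1, ?_⟩
    rw [Scheme.fromSpecResidueField, Category.assoc, hσ2, ← residueIso_hom]
    change Spec.map (residueIso (S := S)).hom ≫ Spec.map (residueIso (S := S)).inv ≫ x = x
    rw [← Category.assoc, ← Spec.map_comp, Iso.inv_hom_id, Spec.map_id, Category.id_comp]

end Groth.Agent.Lib.Helper10.TorsNorm
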