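import Mathlib
import Groth.Agent.Lib.Helper10.TorsorIso2
import Groth.Prelude.Def_ActBC

/-!
# fpqc descent of the torsor property along a faithfully flat quasi-compact base change
-/

set_option autoImplicit false
set_option backward.isDefEq.respectTransparency.types false
set_option maxHeartbeats 4000000
set_option synthInstance.maxHeartbeats 400000
universe u
open CategoryTheory CategoryTheory.Limits AlgebraicGeometry MonoidalCategory
  CartesianMonoidalCategory MonObj GrpObj

namespace Groth.Agent.Lib.Helper10.TorsorIso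

variable {X X' : Scheme.{u}} (f : X' ⟶ X)

/-- the base change functor along an fpqc morphism reflects isomorphisms. -/
theorem isIso_of_isIso_pullback_map [Flat f] [Surjective f] [QuasiCompact f] {A B : Over X}
    (φ : A ⟶ B) [IsIso ((Over.pullback f).map φ)] : IsIso φ := by
  haveI : IsIso ((Over.pullback f).map φ).left :=
    inferInstanceAs (IsIso ((Over.forget X').map ((Over.pullback f).map φ)))
  have hw : φ.left ≫ B.hom = A.hom := Over.w φ
  have sq : IsPullback ((Over.pullback f).map φ).left (pullback.fst A.hom f)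
      (pullback.fst B.hom f) φ.left := by
    refine IsPullback.of_right (h₁₂ := pullback.snd B.hom f) (v₁₃ := f) (h₂₂ := B.hom) ?_ ?_
      (IsPullback.of_hasPullback B.hom f).flip
    · have e1 : ((Over.pullback f).map φ).left ≫ pullback.snd B.hom f = pullback.snd A.hom f :=
        pullback.lift_snd _ _ _
      rw [e1, hw]
      exact (IsPullback.of_hasPullback A.hom f).flip
    · exact pullback.lift_fst _ _ _
  have hQ : (@Surjective ⊓ @Flat ⊓ @QuasiCompact : MorphismProperty Scheme.{u})
      (pullback.fst B.hom f) :=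
    ⟨⟨inferInstance, inferInstance⟩, inferInstance⟩
  have key : MorphismProperty.isomorphisms Scheme.{u} φ.left :=
    MorphismProperty.of_isPullback_of_descendsAlong
      (P := MorphismProperty.isomorphisms Scheme.{u})
      (Q := (@Surjective ⊓ @Flat ⊓ @QuasiCompact : MorphismProperty Scheme.{u})) sq hQ
      (by change IsIso _; infer_instance)
  haveI : IsIso ((Over.forget X).map φ) := key
  exact isIso_of_reflects_iso φ (Over.forget X)

variable {J P : Over X} [GrpObj J] (a : AlgGrp.Action J P)

theorem isPseudoTorsorSch_of_bc [Flat f] [Surjective f] [QuasiCompact f]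
    (h : NonAbH1.IsPseudoTorsorSch (a.bc f)) : NonAbH1.IsPseudoTorsorSch a := by
  have key : lift (a.bc f).act (snd _ _) ≫ Functor.LaxMonoidal.μ (Over.pullback f) P P =
      Functor.LaxMonoidal.μ (Over.pullback f) J P ≫ (Over.pullback f).map (lift a.act (snd J P)) := by
    rw [← Functor.Monoidal.lift_μ, comp_lift_assoc, Functor.Monoidal.μ_snd, AlgGrp.Action.bc_act]
  haveI : IsIso (lift (a.bc f).act (snd (Red.bc f J) (Red.bc f P))) := h
  haveI : IsIso ((Over.pullback f).map (lift a.act (snd J P))) := by
    have e : (Over.pullback f).map (lift a.act (snd J P)) =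
        inv (Functor.LaxMonoidal.μ (Over.pullback f) J P) ≫
          lift (a.bc f).act (snd _ _) ≫ Functor.LaxMonoidal.μ (Over.pullback f) P P := by
      rw [IsIso.eq_inv_comp, key]
    rw [e]
    infer_instance
  exact isIso_of_isIso_pullback_map f (lift a.act (snd J P))

omit [GrpObj J] in
theorem isLocallyTrivialFor_of_bc [Flat f] [Surjective f] [QuasiCompact f]
    (h : NonAbH1.IsLocallyTrivialFor Scheme.fpqcPrecoverage (Red.bc f P)) :
    NonAbH1.IsLocallyTrivialFor Scheme.fpqcPrecoverage P := by
  obtain ⟨R, hR, hsec⟩ := h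
  obtain ⟨E, rfl⟩ := R.exists_eq_preZeroHypercover
  have h1 : Presieve.ofArrows (fun _ : PUnit.{u + 2} => X') (fun _ => f) ∈
      Scheme.fpqcPrecoverage X := by
    rw [Presieve.ofArrows_pUnit]
    exact f.singleton_mem_fpqcPrecoverage
  have h2 := Precoverage.comp_mem_coverings (J := Scheme.fpqcPrecoverage)
    (fun _ : PUnit.{u + 2} => f) h1 (σ := fun _ => E.I₀) (Y := fun _ i => E.X i)
    (fun _ i => E.f i) (fun _ => hR)
  refine ⟨_, h2, ?_⟩
  rintro S' g ⟨p⟩
  obtain ⟨s, hs⟩ := hsec (E.f p.2) ⟨p.2⟩
  refine ⟨s ≫ pullback.fst P.hom f, ?_⟩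
  have hs' : s ≫ pullback.snd P.hom f = E.f p.2 := hs
  rw [Category.assoc, pullback.condition, ← Category.assoc, hs']

theorem isTorsorFor_iff_bc [Flat f] [Surjective f] [QuasiCompact f]
    (a' : AlgGrp.Action (Red.bc f J) (Red.bc f P))
    (ha' : Functor.LaxMonoidal.μ (Over.pullback f) J P ≫ (Over.pullback f).map a.act = a'.act) :
    NonAbH1.IsTorsorFor Scheme.fpqcPrecoverage a ↔
      NonAbH1.IsTorsorFor Scheme.fpqcPrecoverage a' := by
  have e : a' = a.bc f := AlgGrp.Action.ext' (by rw [AlgGrp.Action.bc_act, ha'])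
  subst e
  constructor
  · intro h
    exact NonAbH1.isTorsorFor_bc f Scheme.fpqcPrecoverage h
  · rintro ⟨h1, h2⟩
    exact ⟨isPseudoTorsorSch_of_bc f a h1, isLocallyTrivialFor_of_bc f h2⟩

end Groth.Agent.Lib.Helper10.TorsorIso
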