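import Mathlib
import Groth.Agent.Lib.Helper10.TorsorLoc1
import Groth.Agent.Lib.Helper10.TorsorComp1

/-!
# Torsors over the base: local properties of the structure morphism
-/

set_option autoImplicit false
set_option backward.isDefEq.respectTransparency.types false
set_option maxHeartbeats 4000000
set_option synthInstance.maxHeartbeats 400000

universe u

open CategoryTheory CategoryTheory.Limits AlgebraicGeometry MonoidalCategory
  CartesianMonoidalCategory MonObj GrpObj TopologicalSpace

namespace Groth.Agent.Lib.Helper10.TorsorLoc

variable {S : Scheme.{u}} {G P : Over S} [GrpObj G] (a : AlgGrp.Action G P)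

/-- A pseudo-torsor over the base gives a cartesian action square over the terminal object. -/
theorem isPullback_of_isPseudoTorsor (h : IsIso (lift a.act (snd G P))) :
    IsPullback a.act (snd G P) (toUnit P) (toUnit P) := by
  refine TorsorComp.isPullback_of_exists_unique a (toUnit P) (toUnit_unique _ _) ?_
  intro T x x' _
  have hΦ : ∀ g : T ⟶ G, lift g x' ≫ lift a.act (snd G P) = lift (lift g x' ≫ a.act) x' := by
    intro g
    rw [comp_lift, lift_snd]
  set m : T ⟶ G ⊗ P := lift x x' ≫ inv (lift a.act (snd G P)) with hm
  have hm1 : m ≫ lift a.act (snd G P) = lift x x' := by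
    rw [hm, Category.assoc, IsIso.inv_hom_id, Category.comp_id]
  have hm2 : m ≫ snd G P = x' := by
    have := congrArg (fun t => t ≫ snd P P) hm1
    simpa using this
  have hm3 : m ≫ a.act = x := by
    have := congrArg (fun t => t ≫ fst P P) hm1
    simpa using this
  have hm4 : m = lift (m ≫ fst G P) x' := by
    apply CartesianMonoidalCategory.hom_ext
    · rw [lift_fst]
    · rw [lift_snd, hm2]
  refine ⟨m ≫ fst G P, ?_, ?_⟩
  · show lift (m ≫ fst G P) x' ≫ a.act = x
    rw [← hm4, hm3]
  · intro g hg
    have e : lift g x' = m := by
      rw [← cancel_mono (lift a.act (snd G P)), hΦ, hg, hm1]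
    rw [← e, lift_fst]

/-- A property of morphisms which is Zariski-local on the target, stable under base change and
descends along fpqc morphisms holds for a torsor over the base as soon as it holds for the group. -/
theorem prop_of_isTorsorFor (Q : MorphismProperty Scheme.{u}) [IsZariskiLocalAtTarget Q]
    [Q.IsStableUnderBaseChange]
    [Q.DescendsAlong (@Surjective ⊓ @Flat ⊓ @QuasiCompact : MorphismProperty Scheme.{u})]
    (K : Precoverage Scheme.{u}) (hK : K ≤ Scheme.fpqcPrecoverage)
    (h : NonAbH1.IsTorsorFor K a) (hQ : Q G.hom) : Q P.hom := by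
  obtain ⟨hps, R, hR, hsec⟩ := h
  have hcart := isPullback_of_isPseudoTorsor a hps
  have hloc : NonAbH1.IsLocallyTrivialFor Scheme.fpqcPrecoverage
      (Over.mk (toUnit P).left : Over (𝟙_ (Over S)).left) :=
    ⟨R, hK _ hR, hsec⟩
  exact prop_of_locallyTrivial a (toUnit P) Q hcart hloc hQ

end Groth.Agent.Lib.Helper10.TorsorLoc
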