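import Mathlib
import Groth.Agent.Lib.Helper10.MultTypeLocus

/-!
# A monomorphism of tori of the same rank is an isomorphism
-/

set_option autoImplicit false
set_option backward.isDefEq.respectTransparency.types false
set_option maxHeartbeats 4000000
set_option synthInstance.maxHeartbeats 400000
universe u
open CategoryTheory CategoryTheory.Limits AlgebraicGeometry MonoidalCategory
  CartesianMonoidalCategory MonObj GrpObj

namespace Groth.Agent.Lib.Helper10.MultTypeLocus

open Groth.Agent.Lib.Helper10.FpqcLocus Groth.Agent.Lib.Helper10.BCProps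

variable {S : Scheme.{u}}

theorem fg_fin_int (r : ℕ) : AddGroup.FG (Fin r → ℤ) :=
  Module.Finite.iff_addGroup_fg.mp inferInstance

theorem isMultTypeFT_of_isTorus {T : Over S} [GrpObj T] (hT : Red.IsTorus T) :
    SGA3x.IsMultTypeFT T := by
  obtain ⟨S', f, hfl, hsj, hq, hloc⟩ := hT
  refine ⟨S', f, hfl, hsj, hq, fun s' => ?_⟩
  obtain ⟨U, hU, r, h⟩ := hloc s'
  exact ⟨U, hU, Fin r → ℤ, inferInstance, fg_fin_int r, h⟩

/-- `P` over the identity means `P`. -/
theorem of_pbc_id {H G : Over S} (u : H ⟶ G) (h : Pbc u (MorphismProperty.isomorphisms Scheme.{u})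
    (𝟙 S)) : IsIso u := by
  have hR := MultTypeMono.isPullback_bc_map_left u (𝟙 S)
  haveI : IsIso ((Over.pullback (𝟙 S)).map u).left := h
  have h1 : u.left = inv (pullback.fst H.hom (𝟙 S)) ≫ ((Over.pullback (𝟙 S)).map u).left ≫
      pullback.fst G.hom (𝟙 S) := by
    rw [hR.w, IsIso.inv_hom_id_assoc]
  haveI : IsIso u.left := by
    rw [h1]
    infer_instance
  haveI : IsIso ((Over.forget S).map u) := ‹IsIso u.left›
  exact isIso_of_reflects_iso u (Over.forget S)

theorem isIso_of_mono_of_rank {T T' : Over S} [GrpObj T] [GrpObj T']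
    (hT : Red.IsTorus T) (hT' : Red.IsTorus T') (f : T ⟶ T') [IsMonHom f] [Mono f]
    (hrk : ∀ s : ↥S, ∃ r : ℕ, Red.IsSplitTorusWith (Fin r → ℤ) (Red.geomFibre s T) ∧
      Red.IsSplitTorusWith (Fin r → ℤ) (Red.geomFibre s T')) : IsIso f := by
  have hT1 := isMultTypeFT_of_isTorus hT
  have hT2 := isMultTypeFT_of_isTorus hT'
  obtain ⟨U, -, hU, hUiso⟩ := clopen_iso f hT1 hT2
  have hall : ∀ s, s ∈ U := by
    intro s
    rw [hU]
    obtain ⟨r, ⟨ψ₁⟩, ⟨ψ₂⟩⟩ := hrk s
    let t : Spec (CommRingCat.of (AlgebraicClosure (S.residueField s))) :=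
      IsLocalRing.closedPoint (AlgebraicClosure (S.residueField s))
    obtain ⟨W, f₁, htW, hW⟩ := local_model_aux f (Red.geomPt s) (Fin r → ℤ) (Fin r → ℤ)
      (fg_fin_int r) ψ₁ ψ₂ t
    obtain ⟨-, hmono⟩ := hW (MorphismProperty.monomorphisms Scheme.{u}) _ compat_mono
    obtain ⟨hiso, -⟩ := hW (MorphismProperty.isomorphisms Scheme.{u}) _ compat_iso
    have hs : ∀ z, (Red.geomPt s) z = s := by
      intro z
      change (S.fromSpecResidueField s) _ = s
      exact Scheme.fromSpecResidueField_apply _ _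
    have h1 : Function.Surjective f₁ := by
      refine hmono t htW ?_
      haveI : Mono f.left := inferInstance
      exact MorphismProperty.overPullbackMap (P := MorphismProperty.monomorphisms Scheme.{u}) _ f
        (MorphismProperty.monomorphisms.infer_property f.left)
    have h2 : Function.Bijective f₁ := by
      refine ⟨?_, h1⟩
      exact OrzechProperty.injective_of_surjective_endomorphism f₁.toIntLinearMap h1
    have h3 := hiso h2
    have h4 := (isLocalBC_pbc f (MorphismProperty.isomorphisms Scheme.{u})).at_point _ h3 ⟨t, htW⟩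
    have h5 : (W.ι ≫ Red.geomPt s) ⟨t, htW⟩ = s := hs _
    rw [h5] at h4
    exact h4
  have hUtop : U = ⊤ := by
    ext s
    simp [hall s]
  subst hUtop
  have h6 : Pbc f (MorphismProperty.isomorphisms Scheme.{u}) (⊤ : S.Opens).ι := hUiso
  have h7 := pbc_comp f (MorphismProperty.isomorphisms Scheme.{u}) S.topIso.inv _ h6
  rw [Scheme.toIso_inv_ι] at h7
  exact of_pbc_id f h7

end Groth.Agent.Lib.Helper10.MultTypeLocus
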