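import Mathlib
import Groth.Agent.Lib.Helper10.DiagHomProps
import Groth.Agent.Lib.Helper10.MultTypeHom
import Groth.Agent.Lib.Helper21.DSMap

/-!
# Homomorphisms between diagonalisable groups over a field, and kernels of `D(f)`
-/

set_option autoImplicit false
set_option backward.isDefEq.respectTransparency.types false
set_option maxHeartbeats 4000000
set_option synthInstance.maxHeartbeats 400000
universe u
open CategoryTheory CategoryTheory.Limits AlgebraicGeometry MonoidalCategory
  CartesianMonoidalCategory MonObj GrpObj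

namespace Groth.Agent.Lib.Helper10.TorusSplit

open Groth.Agent.Lib.Helper21.GaPts Groth.Agent.Lib.Helper10.DiagHom
  Groth.Agent.Lib.Helper10.DiagHomProps

variable {M N : Type} [AddCommGroup M] [AddCommGroup N]

section Field

variable (k : Type u) [Field k]

/-- over a field every homomorphism `D(M) ⟶ D(N)` (with `N` finitely generated) is `D(f)`. -/
theorem exists_eq_DSmap (hN : AddGroup.FG N)
    (ψ : Red.DS (Spec (CommRingCat.of k)) M ⟶ Red.DS (Spec (CommRingCat.of k)) N) [IsMonHom ψ] :
    ∃ f : N →+ M, ψ = Red.DSmap (Spec (CommRingCat.of k)) f := by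
  haveI : Subsingleton ↥(Spec (CommRingCat.of k)) :=
    inferInstanceAs (Subsingleton (PrimeSpectrum k))
  let T : Over (Spec (CommRingCat.of k)) := 𝟙_ (Over (Spec (CommRingCat.of k)))
  haveI : IsAffine T.left := (inferInstance : IsAffine (Spec (CommRingCat.of k)))
  obtain ⟨t⟩ : Nonempty T.left := (inferInstance : Nonempty (Spec (CommRingCat.of k)))
  obtain ⟨c, f, htc, hcf⟩ := locally_DSmap_affine T hN
    (fst _ _ ≫ ψ) (by
      intro X a b t
      simp only [← Category.assoc, lift_fst]
      exact MonObj.mul_comp a b ψ) t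
  refine ⟨f, ?_⟩
  let W : Over (Spec (CommRingCat.of k)) := Over.mk ((T.left.basicOpen c).ι ≫ T.hom)
  have h1 : fst (Red.DS (Spec (CommRingCat.of k)) M) W ≫ ψ =
      fst _ _ ≫ Red.DSmap (Spec (CommRingCat.of k)) f := by
    rw [← hcf, ← Category.assoc, whiskerLeft_fst]
  have htop : T.left.basicOpen c = ⊤ := by
    rw [eq_top_iff]
    intro x _
    have : x = t := Subsingleton.elim (α := ↥(Spec (CommRingCat.of k))) x t
    rw [this]
    exact htc
  haveI : IsIso (T.left.basicOpen c).ι :=
    isIso_of_isOpenImmersion_of_opensRange_eq_top _ (by rw [Scheme.Opens.opensRange_ι, htop])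
  haveI : IsIso W.hom := by
    change IsIso ((T.left.basicOpen c).ι ≫ 𝟙 _)
    infer_instance
  haveI : IsIso (fst (Red.DS (Spec (CommRingCat.of k)) M) W).left := by
    rw [Over.fst_left]
    infer_instance
  haveI : IsIso (fst (Red.DS (Spec (CommRingCat.of k)) M) W) := by
    haveI : IsIso ((Over.forget (Spec (CommRingCat.of k))).map
        (fst (Red.DS (Spec (CommRingCat.of k)) M) W)) :=
      ‹IsIso (fst (Red.DS (Spec (CommRingCat.of k)) M) W).left›
    exact isIso_of_reflects_iso _ (Over.forget _)
  exact (cancel_epi (fst (Red.DS (Spec (CommRingCat.of k)) M) W)).mp h1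

theorem DSmap_injective (f f' : N →+ M)
    (h : Red.DSmap (Spec (CommRingCat.of k)) f = Red.DSmap (Spec (CommRingCat.of k)) f') :
    f = f' := by
  let T : Over (Spec (CommRingCat.of k)) := 𝟙_ (Over (Spec (CommRingCat.of k)))
  haveI : IsAffine T.left := (inferInstance : IsAffine (Spec (CommRingCat.of k)))
  obtain ⟨t⟩ : Nonempty T.left := (inferInstance : Nonempty (Spec (CommRingCat.of k)))
  exact eq_of_fst_DSmap_eq T t f f' (by rw [h])

end Field

section Kernel

variable (S : Scheme.{u})

/-- the kernel of `D(f)` is `D(coker f)`. -/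
theorem isKernel_DSmap (f : N →+ M) :
    AlgGrp.IsKernel (Red.DSmap S (QuotientAddGroup.mk' f.range)) (Red.DSmap S f) := by
  let q : M →+ M ⧸ f.range := QuotientAddGroup.mk' f.range
  have hq : ∀ n, q (f n) = 0 := fun n => (QuotientAddGroup.eq_zero_iff _).mpr ⟨n, rfl⟩
  haveI : Mono (Red.DSmap S q) := by
    haveI := mono_of_surjective (W := S) q (QuotientAddGroup.mk'_surjective _)
    exact (Over.forget _).mono_of_mono_map ‹_›
  have hcomm : Red.DSmap S q ≫ Red.DSmap S f = toUnit _ ≫ η[Red.DS S N] := by
    rw [← Hom.one_def]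
    apply dsFn_injective
    intro n
    rw [dsFn_DSmap, dsFn_one]
    have h2 := dsFn_DSmap q (f n) (𝟙 (Red.DS S (M ⧸ f.range)))
    rw [Category.id_comp] at h2
    rw [h2, hq, dsFn_zero]
  refine ⟨⟨hcomm⟩, ⟨PullbackCone.IsLimit.mk _ (fun s => ?_) (fun s => ?_) (fun s => ?_)
    (fun s m h1 _ => ?_)⟩⟩
  · -- the lift
    have hs : s.fst ≫ Red.DSmap S f = 1 := by
      rw [s.condition, Hom.one_def]
      congr 1
      exact toUnit_unique _ _
    have hker : ∀ n, dsFn (f n) s.fst = 1 := by
      intro n
      rw [← dsFn_DSmap, hs, dsFn_one]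
    let χ₀ : M →+ Additive (Γ(s.pt.left, ⊤))ˣ :=
      { toFun := fun m => Additive.ofMul (isUnit_dsFn m s.fst).unit
        map_zero' := by
          apply Additive.toMul.injective
          apply Units.ext
          change dsFn 0 s.fst = 1
          exact dsFn_zero _
        map_add' := by
          intro m m'
          apply Additive.toMul.injective
          apply Units.ext
          change dsFn (m + m') s.fst = dsFn m s.fst * dsFn m' s.fst
          exact dsFn_add _ _ _ }
    have hχ₀ : f.range ≤ χ₀.ker := by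
      rintro _ ⟨n, rfl⟩
      rw [AddMonoidHom.mem_ker]
      apply Additive.toMul.injective
      apply Units.ext
      change dsFn (f n) s.fst = 1
      exact hker n
    let χ₁ : (M ⧸ f.range) →+ Additive (Γ(s.pt.left, ⊤))ˣ := QuotientAddGroup.lift f.range χ₀ hχ₀
    let χ : Multiplicative (M ⧸ f.range) →* Γ(s.pt.left, ⊤) :=
      (Units.coeHom _).comp (AddMonoidHom.toMultiplicativeLeft χ₁)
    exact dsPt χ
  · -- fst
    apply dsFn_injective
    intro m
    rw [dsFn_DSmap, dsFn_dsPt]
    rfl
  · exact toUnit_unique _ _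
  · rw [← cancel_mono (Red.DSmap S q), h1]
    apply dsFn_injective
    intro m
    rw [dsFn_DSmap, dsFn_dsPt]
    rfl

end Kernel

end Groth.Agent.Lib.Helper10.TorusSplit
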