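import Mathlib
import Groth.Agent.Lib.Helper10.TorusSplit1

/-!
# Exact sequences of diagonalisable groups with free kernel character group split (over a field)
-/

set_option autoImplicit false
set_option backward.isDefEq.respectTransparency.types false
set_option maxHeartbeats 4000000
set_option synthInstance.maxHeartbeats 400000
universe u
open CategoryTheory CategoryTheory.Limits AlgebraicGeometry MonoidalCategory
  CartesianMonoidalCategory MonObj GrpObj

namespace Groth.Agent.Lib.Helper10.TorusSplit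

open Groth.Agent.Lib.Helper21.GaPts Groth.Agent.Lib.Helper10.DiagHom
  Groth.Agent.Lib.Helper10.DiagHomProps Groth.Agent.Lib.Helper10.MultTypeHom

section General

variable {C : Type*} [Category C] [CartesianMonoidalCategory C]

theorem isMonHom_of_comp_mono {A B D : C} [MonObj A] [MonObj B] [MonObj D] (θ : A ⟶ B)
    (j : B ⟶ D) [IsMonHom j] [Mono j] [IsMonHom (θ ≫ j)] : IsMonHom θ where
  one_hom := by
    rw [← cancel_mono j, Category.assoc, IsMonHom.one_hom (θ ≫ j), IsMonHom.one_hom j]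
  mul_hom := by
    rw [← cancel_mono j, Category.assoc, IsMonHom.mul_hom (θ ≫ j), Category.assoc,
      IsMonHom.mul_hom j, ← Category.assoc, ← MonoidalCategory.tensorHom_comp_tensorHom]

end General

variable {MK MG MQ : Type} [AddCommGroup MK] [AddCommGroup MG] [AddCommGroup MQ]

variable (k : Type u) [Field k]

theorem injective_of_epi_field (f : MQ →+ MG)
    (h : Epi (Red.DSmap (Spec (CommRingCat.of k)) f)) : Function.Injective f := by
  let i : f.ker →+ MQ := f.ker.subtype
  have hi : f.comp i = f.comp (0 : f.ker →+ MQ) := by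
    ext x
    change f x.1 = f 0
    rw [map_zero]
    exact x.2
  have h1 : Red.DSmap (Spec (CommRingCat.of k)) f ≫ Red.DSmap (Spec (CommRingCat.of k)) i =
      Red.DSmap (Spec (CommRingCat.of k)) f ≫
        Red.DSmap (Spec (CommRingCat.of k)) (0 : f.ker →+ MQ) := by
    rw [DSmap_comp, DSmap_comp, hi]
  have h2 : i = 0 := DSmap_injective k _ _ ((cancel_epi _).mp h1)
  rw [injective_iff_map_eq_zero]
  intro n hn
  have h3 : i ⟨n, hn⟩ = 0 := by rw [h2]; rfl
  exact h3

theorem exists_section_of_exact (hMK : AddGroup.FG MK) (hMG : AddGroup.FG MG)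
    (hMQ : AddGroup.FG MQ) [Module.Free ℤ MK]
    (K G Q : Over (Spec (CommRingCat.of k))) [GrpObj K] [GrpObj G] [GrpObj Q]
    (hK : Red.IsSplitTorusWith MK K) (hG : Red.IsSplitTorusWith MG G)
    (hQ : Red.IsSplitTorusWith MQ Q)
    (i : K ⟶ G) [IsMonHom i]
    (π : G ⟶ Q) [IsMonHom π] [Flat π.left] [Surjective π.left] (hker : AlgGrp.IsKernel i π) :
    ∃ s : Q ⟶ G, IsMonHom s ∧ s ≫ π = 𝟙 Q := by
  obtain ⟨φK⟩ := hK
  obtain ⟨φG⟩ := hG
  obtain ⟨φQ⟩ := hQ
  obtain ⟨eK, heK⟩ := exists_iso_isMonHom φK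
  obtain ⟨eG, heG⟩ := exists_iso_isMonHom φG
  obtain ⟨eQ, heQ⟩ := exists_iso_isMonHom φQ
  let Sk : Scheme.{u} := Spec (CommRingCat.of k)
  -- step 2
  let π' : Red.DS Sk MG ⟶ Red.DS Sk MQ := eG.inv ≫ π ≫ eQ.hom
  obtain ⟨f, hf⟩ := exists_eq_DSmap k hMQ π'
  -- step 3
  have hfinj : Function.Injective f := by
    apply injective_of_epi_field k
    rw [← hf]
    haveI : Epi π.left := Flat.epi_of_flat_of_surjective π.left
    haveI : Epi π := (Over.forget _).epi_of_epi_map ‹Epi π.left›
    infer_instance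
  -- step 4
  let i' : Red.DS Sk MK ⟶ Red.DS Sk MG := eK.inv ≫ i ≫ eG.hom
  have hk1 : AlgGrp.IsKernel i' π' := by
    refine IsPullback.of_iso hker eK eG (Iso.refl _) eQ ?_ ?_ ?_ ?_
    · simp only [i', Iso.hom_inv_id_assoc]
    · exact toUnit_unique _ _
    · simp only [π', Iso.hom_inv_id_assoc]
    · rw [heQ.one_hom, Iso.refl_hom, Category.id_comp]
  rw [hf] at hk1
  let q : MG →+ MG ⧸ f.range := QuotientAddGroup.mk' f.range
  have hk2 := isKernel_DSmap Sk f
  let θ : Red.DS Sk MK ≅ Red.DS Sk (MG ⧸ f.range) := IsPullback.isoIsPullback _ _ hk1 hk2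
  have hθ : θ.hom ≫ Red.DSmap Sk q = i' := IsPullback.isoIsPullback_hom_fst _ _ hk1 hk2
  haveI : Mono (Red.DSmap Sk q) := by
    haveI := mono_of_surjective (W := Sk) q (QuotientAddGroup.mk'_surjective _)
    exact (Over.forget _).mono_of_mono_map ‹_›
  haveI : IsMonHom (θ.hom ≫ Red.DSmap Sk q) := by
    rw [hθ]
    infer_instance
  haveI : IsMonHom θ.hom := isMonHom_of_comp_mono θ.hom (Red.DSmap Sk q)
  -- step 5
  have hC : AddGroup.FG (MG ⧸ f.range) :=
    AddGroup.fg_of_surjective (QuotientAddGroup.mk'_surjective f.range)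
  obtain ⟨g, hg⟩ := exists_eq_DSmap k hC θ.hom
  obtain ⟨g', hg'⟩ := exists_eq_DSmap k hMK θ.inv
  have h1 : g.comp g' = AddMonoidHom.id MK := by
    apply DSmap_injective k
    rw [← DSmap_comp, ← hg, ← hg', DSmap_id]
    exact θ.hom_inv_id
  have h2 : g'.comp g = AddMonoidHom.id _ := by
    apply DSmap_injective k
    rw [← DSmap_comp, ← hg, ← hg', DSmap_id]
    exact θ.inv_hom_id
  let eC : MK ≃+ (MG ⧸ f.range) :=
    { toFun := g'
      invFun := g
      left_inv := fun x => DFunLike.congr_fun h1 x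
      right_inv := fun x => DFunLike.congr_fun h2 x
      map_add' := g'.map_add }
  haveI : Module.Free ℤ (MG ⧸ f.range) := Module.Free.of_equiv eC.toIntLinearEquiv
  -- section of q
  obtain ⟨σ, hσ⟩ := Module.projective_lifting_property q.toIntLinearMap
    (LinearMap.id : (MG ⧸ f.range) →ₗ[ℤ] (MG ⧸ f.range)) (QuotientAddGroup.mk'_surjective f.range)
  -- step 6: retraction
  have hex : Function.Exact f.toIntLinearMap q.toIntLinearMap := by
    intro m
    change ((m : MG ⧸ f.range) = 0) ↔ m ∈ f.range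
    exact QuotientAddGroup.eq_zero_iff m
  obtain ⟨_, r, hr⟩ := (hex.split_tfae'.out 0 1 rfl rfl).mp ⟨hfinj, σ, hσ⟩
  let r' : MG →+ MQ := r.toAddMonoidHom
  have hr' : r'.comp f = AddMonoidHom.id MQ := by
    ext n
    exact LinearMap.congr_fun hr n
  refine ⟨eQ.hom ≫ Red.DSmap Sk r' ≫ eG.inv, inferInstance, ?_⟩
  have h3 : eG.inv ≫ π = Red.DSmap Sk f ≫ eQ.inv := by
    rw [← hf]
    simp only [π', Category.assoc, Iso.hom_inv_id, Category.comp_id]
  rw [Category.assoc, Category.assoc, h3, ← Category.assoc (Red.DSmap Sk r'), DSmap_comp, hr',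
    DSmap_id, Category.id_comp, Iso.hom_inv_id]

end Groth.Agent.Lib.Helper10.TorusSplit
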