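import Mathlib.LinearAlgebra.Trace
import Mathlib.LinearAlgebra.Pi

/-!
# Trace of an endomorphism of a finite product of finite free modules as the sum of the traces of
its diagonal blocks.
-/

set_option autoImplicit false
universe u v w

namespace Groth.Agent.Lib.Helper10

variable {R : Type u} [CommRing R] {ι : Type v} [Fintype ι] [DecidableEq ι]
  (M : ι → Type w) [∀ i, AddCommGroup (M i)] [∀ i, Module R (M i)]
  [∀ i, Module.Free R (M i)] [∀ i, Module.Finite R (M i)]

/-- The trace of an endomorphism of `Π k, M k` is the sum of the traces of its diagonal blocks. -/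
lemma trace_pi (f : (Π k, M k) →ₗ[R] (Π k, M k)) :
    LinearMap.trace R (Π k, M k) f =
      ∑ i : ι, LinearMap.trace R (M i) ((LinearMap.proj i) ∘ₗ f ∘ₗ (LinearMap.single R M i)) := by
  have h1 : f = ∑ i : ι, (f ∘ₗ LinearMap.single R M i) ∘ₗ
      (LinearMap.proj i : (Π k, M k) →ₗ[R] M i) := by
    refine LinearMap.ext fun x => ?_
    simp only [LinearMap.sum_apply, LinearMap.comp_apply, LinearMap.proj_apply,
      LinearMap.single_apply]
    rw [← map_sum, Finset.univ_sum_single]
  conv_lhs => rw [h1, map_sum]
  refine Finset.sum_congr rfl fun i _ => ?_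
  rw [LinearMap.trace_comp_comm']

end Groth.Agent.Lib.Helper10
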