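import Mathlib
import Groth.Prelude.Def_Red2
import Groth.Agent.Lib.Helper10.PreLocus
import Groth.Agent.Lib.Helper10.GrpTranslate
import Groth.Agent.Lib.Lead.GrpQuot3

/-!
# Transporters and normalizers in group schemes over a field (SGA3 VI_B 6.2)
-/

set_option autoImplicit false
set_option backward.isDefEq.respectTransparency.types false
set_option maxHeartbeats 4000000
set_option synthInstance.maxHeartbeats 400000

universe u

open CategoryTheory CategoryTheory.Limits AlgebraicGeometry MonoidalCategory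
  CartesianMonoidalCategory MonObj GrpObj

namespace Groth.Agent.Lib.Helper10.Transp

open Groth.Agent.Lib.Helper10.PreLocus Groth.Agent.Lib.Lead.GrpQuot

variable {k : Type u} [Field k] {G Y Y' : Over (Spec (CommRingCat.of k))} [GrpObj G]

/-- the transporter of `Y'` into a closed `Y` is closed. -/
theorem transporter_closed (y : Y ⟶ G) [IsClosedImmersion y.left] (y' : Y' ⟶ G) :
    ∃ (T : Over (Spec (CommRingCat.of k))) (t : T ⟶ G), IsClosedImmersion t.left ∧
      ∀ (S' : Over (Spec (CommRingCat.of k))) (g : S' ⟶ G), (∃ z : S' ⟶ T, z ≫ t = g) ↔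
        ∀ (S'' : Over (Spec (CommRingCat.of k))) (s : S'' ⟶ S') (x : S'' ⟶ Y'),
          ∃ x' : S'' ⟶ Y, (s ≫ g) * (x ≫ y') * (s ≫ g)⁻¹ = x' ≫ y := by
  let m : Y' ⊗ G ⟶ G := (snd Y' G) * (fst Y' G ≫ y') * (snd Y' G)⁻¹
  obtain ⟨T, t, ht, h⟩ := exists_closed_pre m y
  refine ⟨T, t, ht, fun S' g => (h S' g).trans ?_⟩
  have key : ∀ (S'' : Over (Spec (CommRingCat.of k))) (s : S'' ⟶ S') (x : S'' ⟶ Y'),
      lift x (s ≫ g) ≫ m = (s ≫ g) * (x ≫ y') * (s ≫ g)⁻¹ := by
    intro S'' s x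
    simp only [m, MonObj.comp_mul, GrpObj.comp_inv]
    rw [lift_snd, ← Category.assoc, lift_fst]
  constructor
  · intro H S'' s x
    obtain ⟨c, hc⟩ := H S'' s x
    exact ⟨c, (key S'' s x).symm.trans hc⟩
  · intro H S'' s x
    obtain ⟨c, hc⟩ := H S'' s x
    exact ⟨c, (key S'' s x).trans hc⟩

/-- the transporter by the inverse. -/
theorem transporter_inv_closed (y : Y ⟶ G) [IsClosedImmersion y.left] (y' : Y' ⟶ G) :
    ∃ (T : Over (Spec (CommRingCat.of k))) (t : T ⟶ G), IsClosedImmersion t.left ∧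
      ∀ (S' : Over (Spec (CommRingCat.of k))) (g : S' ⟶ G), (∃ z : S' ⟶ T, z ≫ t = g) ↔
        ∀ (S'' : Over (Spec (CommRingCat.of k))) (s : S'' ⟶ S') (x : S'' ⟶ Y'),
          ∃ x' : S'' ⟶ Y, (s ≫ g)⁻¹ * (x ≫ y') * (s ≫ g) = x' ≫ y := by
  let m : Y' ⊗ G ⟶ G := (snd Y' G)⁻¹ * (fst Y' G ≫ y') * (snd Y' G)
  obtain ⟨T, t, ht, h⟩ := exists_closed_pre m y
  refine ⟨T, t, ht, fun S' g => (h S' g).trans ?_⟩
  have key : ∀ (S'' : Over (Spec (CommRingCat.of k))) (s : S'' ⟶ S') (x : S'' ⟶ Y'),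
      lift x (s ≫ g) ≫ m = (s ≫ g)⁻¹ * (x ≫ y') * (s ≫ g) := by
    intro S'' s x
    simp only [m, MonObj.comp_mul, GrpObj.comp_inv]
    rw [lift_snd, ← Category.assoc, lift_fst]
  constructor
  · intro H S'' s x
    obtain ⟨c, hc⟩ := H S'' s x
    exact ⟨c, (key S'' s x).symm.trans hc⟩
  · intro H S'' s x
    obtain ⟨c, hc⟩ := H S'' s x
    exact ⟨c, (key S'' s x).trans hc⟩

omit [GrpObj G] in
/-- intersection of two closed subschemes. -/
theorem exists_closed_inter {T₁ T₂ : Over (Spec (CommRingCat.of k))} (t₁ : T₁ ⟶ G)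
    (t₂ : T₂ ⟶ G) [IsClosedImmersion t₁.left] [IsClosedImmersion t₂.left] :
    ∃ (T : Over (Spec (CommRingCat.of k))) (t : T ⟶ G), IsClosedImmersion t.left ∧
      ∀ (S' : Over (Spec (CommRingCat.of k))) (g : S' ⟶ G), (∃ z : S' ⟶ T, z ≫ t = g) ↔
        ((∃ z : S' ⟶ T₁, z ≫ t₁ = g) ∧ (∃ z : S' ⟶ T₂, z ≫ t₂ = g)) := by
  have sq : IsPullback (pullback.fst t₁ t₂) (pullback.snd t₁ t₂) t₁ t₂ :=
    IsPullback.of_hasPullback t₁ t₂
  have sq' := sq.map (Over.forget _)
  haveI : IsClosedImmersion (pullback.fst t₁ t₂).left :=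
    MorphismProperty.of_isPullback (P := @IsClosedImmersion) sq'.flip ‹IsClosedImmersion t₂.left›
  refine ⟨pullback t₁ t₂, pullback.fst t₁ t₂ ≫ t₁, ?_, ?_⟩
  · rw [Over.comp_left]; infer_instance
  · intro S' g
    constructor
    · rintro ⟨z, rfl⟩
      refine ⟨⟨z ≫ pullback.fst t₁ t₂, Category.assoc _ _ _⟩, ⟨z ≫ pullback.snd t₁ t₂, ?_⟩⟩
      rw [Category.assoc, ← pullback.condition]
    · rintro ⟨⟨z₁, rfl⟩, ⟨z₂, h₂⟩⟩
      exact ⟨pullback.lift z₁ z₂ h₂.symm, by rw [← Category.assoc, pullback.lift_fst]⟩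

/-- an immersion with closed range is a closed immersion. -/
theorem isClosedImmersion_of_isClosed_range {X Z : Scheme.{u}} (f : X ⟶ Z) [IsImmersion f]
    (h : IsClosed (Set.range f)) : IsClosedImmersion f := by
  have hco : f.coborderRange = ⊤ := by
    ext x
    simp only [TopologicalSpace.Opens.coe_top, Set.mem_univ, iff_true]
    show x ∈ coborder (Set.range f)
    rw [h.coborder_eq]
    trivial
  have hι : IsIso f.coborderRange.ι := by
    rw [hco]; exact inferInstanceAs (IsIso (Scheme.topIso Z).hom)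
  rw [← f.liftCoborder_ι]
  infer_instance

end Groth.Agent.Lib.Helper10.Transp
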