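import Mathlib
import Groth.Agent.Lib.Helper10.Transp1
import Groth.Agent.Lib.Helper10.GenSub1

/-!
# Normalizers of subgroup schemes over a field are closed subgroup schemes
-/

set_option autoImplicit false
set_option backward.isDefEq.respectTransparency.types false
set_option maxHeartbeats 4000000
set_option synthInstance.maxHeartbeats 400000

universe u

open CategoryTheory CategoryTheory.Limits AlgebraicGeometry MonoidalCategory
  CartesianMonoidalCategory MonObj GrpObj

namespace Groth.Agent.Lib.Helper10.Transp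

open Groth.Agent.Lib.Helper10.PreLocus Groth.Agent.Lib.Lead.GrpQuot

variable {k : Type u} [Field k] {G H : Over (Spec (CommRingCat.of k))} [GrpObj G] [GrpObj H]
  (h : H ⟶ G) [IsMonHom h]

/-- the point `g` normalizes `H`. -/
def Normalizes {X : Over (Spec (CommRingCat.of k))} (g : X ⟶ G) : Prop :=
  ∀ (X' : Over (Spec (CommRingCat.of k))) (x : X' ⟶ X) (a : X' ⟶ H),
    (∃ a' : X' ⟶ H, (x ≫ g) * (a ≫ h) * (x ≫ g)⁻¹ = a' ≫ h) ∧
    (∃ a' : X' ⟶ H, (x ≫ g)⁻¹ * (a ≫ h) * (x ≫ g) = a' ≫ h)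

omit [IsMonHom h] in
theorem normalizes_one (X : Over (Spec (CommRingCat.of k))) : Normalizes h (1 : X ⟶ G) := by
  intro X' x a
  rw [MonObj.comp_one]
  exact ⟨⟨a, by group⟩, ⟨a, by group⟩⟩

omit [IsMonHom h] in
theorem normalizes_mul {X : Over (Spec (CommRingCat.of k))} (g₁ g₂ : X ⟶ G)
    (h₁ : Normalizes h g₁) (h₂ : Normalizes h g₂) : Normalizes h (g₁ * g₂) := by
  intro X' x a
  rw [MonObj.comp_mul]
  constructor
  · obtain ⟨a₂, ha₂⟩ := (h₂ X' x a).1
    obtain ⟨a₁, ha₁⟩ := (h₁ X' x a₂).1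
    refine ⟨a₁, ?_⟩
    have e : (x ≫ g₁) * (x ≫ g₂) * (a ≫ h) * ((x ≫ g₁) * (x ≫ g₂))⁻¹ =
        (x ≫ g₁) * ((x ≫ g₂) * (a ≫ h) * (x ≫ g₂)⁻¹) * (x ≫ g₁)⁻¹ := by group
    rw [e, ha₂, ha₁]
  · obtain ⟨a₁, ha₁⟩ := (h₁ X' x a).2
    obtain ⟨a₂, ha₂⟩ := (h₂ X' x a₁).2
    refine ⟨a₂, ?_⟩
    have e : ((x ≫ g₁) * (x ≫ g₂))⁻¹ * (a ≫ h) * ((x ≫ g₁) * (x ≫ g₂)) =
        (x ≫ g₂)⁻¹ * ((x ≫ g₁)⁻¹ * (a ≫ h) * (x ≫ g₁)) * (x ≫ g₂) := by group
    rw [e, ha₁, ha₂]

omit [IsMonHom h] in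
theorem normalizes_inv {X : Over (Spec (CommRingCat.of k))} (g : X ⟶ G)
    (hg : Normalizes h g) : Normalizes h g⁻¹ := by
  intro X' x a
  rw [GrpObj.comp_inv, _root_.inv_inv]
  exact ⟨(hg X' x a).2, (hg X' x a).1⟩

omit [IsMonHom h] in
/-- the normalizer of a closed subgroup scheme is a closed subgroup scheme. -/
theorem exists_normalizer_of_closed [IsClosedImmersion h.left] :
    ∃ (N : Over (Spec (CommRingCat.of k))) (_ : GrpObj N) (n : N ⟶ G),
      IsClosedImmersion n.left ∧ Red.IsNormalizerOf h n := by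
  obtain ⟨T₁, t₁, ht₁, h1⟩ := transporter_closed h h
  obtain ⟨T₂, t₂, ht₂, h2⟩ := transporter_inv_closed h h
  obtain ⟨N, n, hn, hN⟩ := exists_closed_inter t₁ t₂
  have hiff : ∀ (X : Over (Spec (CommRingCat.of k))) (g : X ⟶ G),
      Fac n g ↔ Normalizes h g := by
    intro X g
    refine (hN X g).trans ?_
    rw [h1 X g, h2 X g]
    constructor
    · rintro ⟨H1, H2⟩ X' x a
      exact ⟨H1 X' x a, H2 X' x a⟩
    · intro H
      exact ⟨fun X' x a => (H X' x a).1, fun X' x a => (H X' x a).2⟩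
  haveI : Mono n := GenSub.mono_of_closedImmersion n
  have hc : Closed n :=
    { one := fun Y => (hiff _ _).mpr (normalizes_one h Y)
      mul := fun a b ha hb => (hiff _ _).mpr (normalizes_mul h a b ((hiff _ _).mp ha)
        ((hiff _ _).mp hb))
      inv := fun a ha => (hiff _ _).mpr (normalizes_inv h a ((hiff _ _).mp ha)) }
  obtain ⟨str, hstr⟩ := exists_grpObj_of_closed n hc
  exact ⟨N, str, n, hn, hstr, inferInstance, fun X g => hiff X g⟩

/-- a subgroup scheme (immersion) of a group scheme over a field is closed. -/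
theorem isClosedImmersion_of_isImmersion [IsImmersion h.left] : IsClosedImmersion h.left := by
  apply isClosedImmersion_of_isClosed_range
  exact GrpTranslate.isClosed_range_of_isLocallyClosed h h.left.isLocallyClosed_range

/-- the normalizer of a subgroup scheme is a closed subgroup scheme. -/
theorem exists_normalizer [IsImmersion h.left] :
    ∃ (N : Over (Spec (CommRingCat.of k))) (_ : GrpObj N) (n : N ⟶ G),
      IsClosedImmersion n.left ∧ Red.IsNormalizerOf h n := by
  haveI := isClosedImmersion_of_isImmersion h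
  exact exists_normalizer_of_closed h

end Groth.Agent.Lib.Helper10.Transp
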