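import Mathlib
import Groth.Agent.Lib.Helper10.TrivActAlg

/-!
# A coaction of a group algebra on a finitely generated algebra which is trivial on all fibres is
trivial
-/

set_option autoImplicit false
set_option maxHeartbeats 4000000
universe u

open MonoidAlgebra

namespace Groth.Agent.Lib.Helper10.TrivFib

open Groth.Agent.Lib.Helper10.GroupLikeIdem

variable {A : Type u} [CommRing A] {G : Type} [CommGroup G] {R₀ : Type u} [CommRing R₀]
  (α : A →+* MonoidAlgebra A G) (ρ : R₀ →+* A)

/-- the ideal of the fixed locus. -/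
def fixIdeal : Ideal A := Ideal.span {y | ∃ z g, g ≠ 1 ∧ (α z).coeff g = y}

theorem coeff_mem_fixIdeal (z : A) {g : G} (hg : g ≠ 1) : (α z).coeff g ∈ fixIdeal α :=
  Ideal.subset_span ⟨z, g, hg, rfl⟩

/-- the fixed ideal is finitely generated. -/
theorem fixIdeal_fg (h1 : ∀ z, aug A G (α z) = z) (h3 : ∀ r, α (ρ r) = single 1 (ρ r))
    (hft : ρ.FiniteType) : (fixIdeal α).FG := by
  classical
  letI := ρ.toAlgebra
  obtain ⟨s, hs⟩ := (hft : Algebra.FiniteType R₀ A).out
  let c : Finset A := s.biUnion (fun x => ((α x).coeff.support.erase 1).image (α x).coeff)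
  let b₀ : Ideal A := Ideal.span (c : Set A)
  have hc : ∀ x ∈ s, ∀ g, g ≠ 1 → (α x).coeff g ∈ b₀ := by
    intro x hx g hg
    by_cases h0 : (α x).coeff g = 0
    · rw [h0]
      exact zero_mem _
    · refine Ideal.subset_span (Finset.mem_biUnion.mpr ⟨x, hx, Finset.mem_image.mpr ⟨g, ?_, rfl⟩⟩)
      exact Finset.mem_erase.mpr ⟨hg, Finsupp.mem_support_iff.mpr h0⟩
  have hle : b₀ ≤ fixIdeal α := by
    rw [Ideal.span_le]
    intro a ha
    obtain ⟨x, -, ha'⟩ := Finset.mem_biUnion.mp ha
    obtain ⟨g, hg, rfl⟩ := Finset.mem_image.mp ha'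
    exact coeff_mem_fixIdeal α x (Finset.mem_erase.mp hg).1
  let mk : A →+* A ⧸ b₀ := Ideal.Quotient.mk b₀
  let θ : A →+* MonoidAlgebra (A ⧸ b₀) G := (MonoidAlgebra.mapRingHom G mk).comp α
  let θ' : A →+* MonoidAlgebra (A ⧸ b₀) G := (singleOneRingHom (R := A ⧸ b₀) (M := G)).comp mk
  have hθ : ∀ z, θ z = θ' z ↔ (∀ g, g ≠ 1 → (α z).coeff g ∈ b₀) ∧ z - (α z).coeff 1 ∈ b₀ := by
    intro z
    constructor
    · intro h
      have hco : ∀ g, mk ((α z).coeff g) = (θ' z).coeff g := by
        intro g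
        rw [← h]
        change _ = (MonoidAlgebra.mapRingHom G mk (α z)).coeff g
        rw [MonoidAlgebra.coeff_mapRingHom]
      have hθ' : ∀ g, (θ' z).coeff g = if 1 = g then mk z else 0 := by
        intro g
        change (single (1 : G) (mk z)).coeff g = _
        rw [coeff_single, Finsupp.single_apply]
      refine ⟨fun g hg => ?_, ?_⟩
      · have := hco g
        rw [hθ', if_neg (Ne.symm hg)] at this
        exact Ideal.Quotient.eq_zero_iff_mem.mp this
      · have := hco 1
        rw [hθ', if_pos rfl] at this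
        rw [← Ideal.Quotient.eq_zero_iff_mem, map_sub, this, sub_self]
    · rintro ⟨hg, h1'⟩
      apply coeff_injective
      ext g
      change (MonoidAlgebra.mapRingHom G mk (α z)).coeff g = (single (1 : G) (mk z)).coeff g
      rw [MonoidAlgebra.coeff_mapRingHom, coeff_single, Finsupp.single_apply]
      by_cases h : 1 = g
      · subst h
        rw [if_pos rfl]
        have := Ideal.Quotient.eq_zero_iff_mem.mpr h1'
        rw [map_sub, sub_eq_zero] at this
        exact this.symm
      · rw [if_neg h]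
        exact Ideal.Quotient.eq_zero_iff_mem.mpr (hg g (Ne.symm h))
  -- the equaliser contains the generators
  let E : Subalgebra R₀ A :=
    { (RingHom.eqLocus θ θ') with
      algebraMap_mem' := fun r => by
        change θ (ρ r) = θ' (ρ r)
        change MonoidAlgebra.mapRingHom G mk (α (ρ r)) = single (1 : G) (mk (ρ r))
        rw [h3, MonoidAlgebra.mapRingHom_single] }
  have hsE : (s : Set A) ⊆ E := by
    intro x hx
    change θ x = θ' x
    rw [hθ]
    refine ⟨hc x hx, ?_⟩
    have hx1 := h1 x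
    rw [aug_eq_sum] at hx1
    have h2 : x - (α x).coeff 1 = ∑ g ∈ (α x).coeff.support.erase 1, (α x).coeff g := by
      by_cases h1s : (1 : G) ∈ (α x).coeff.support
      · rw [← Finset.add_sum_erase _ _ h1s] at hx1
        rw [sub_eq_iff_eq_add']
        exact hx1.symm
      · rw [Finset.erase_eq_of_notMem h1s, hx1, Finsupp.notMem_support_iff.mp h1s, sub_zero]
    rw [h2]
    exact Ideal.sum_mem _ (fun g hg => hc x hx g (Finset.mem_erase.mp hg).1)
  have hE : ∀ z : A, z ∈ E := by
    intro z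
    have h1' : Algebra.adjoin R₀ (s : Set A) ≤ E := Algebra.adjoin_le hsE
    rw [hs] at h1'
    exact h1' trivial
  have hge : fixIdeal α ≤ b₀ := by
    rw [fixIdeal, Ideal.span_le]
    rintro _ ⟨z, g, hg, rfl⟩
    exact ((hθ z).mp (hE z)).1 g hg
  have : fixIdeal α = b₀ := le_antisymm hge hle
  rw [this]
  exact ⟨c, rfl⟩

/-- **the fibrewise criterion.** -/
theorem coaction_trivial_fib
    (h1 : ∀ z, aug A G (α z) = z)
    (h2 : ∀ z g, (α ((α z).coeff g)).coeff g = (α z).coeff g)
    (h3 : ∀ r, α (ρ r) = single 1 (ρ r))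
    (hft : ρ.FiniteType)
    (h4 : ∀ (p : Ideal R₀), p.IsPrime → ∀ z g, g ≠ 1 →
      ∃ s : R₀, s ∉ p ∧ ρ s * (α z).coeff g ∈ p.map ρ)
    (z : A) : α z = single 1 z := by
  classical
  let b : Ideal A := fixIdeal α
  have hfg : b.FG := fixIdeal_fg α ρ h1 h3 hft
  -- the key containment
  have hstep : ∀ (p : Ideal R₀) (g : G), g ≠ 1 → ∀ w ∈ p.map ρ, (α w).coeff g ∈ p.map ρ * b := by
    intro p g hg w hw
    suffices h : ∀ c : A, (α (c * w)).coeff g ∈ p.map ρ * b by simpa using h 1
    have hw' : w ∈ Ideal.span (ρ '' (p : Set R₀)) := hw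
    refine Submodule.span_induction (p := fun w _ => ∀ c : A, (α (c * w)).coeff g ∈ p.map ρ * b)
      ?_ ?_ ?_ ?_ hw'
    · rintro _ ⟨r, hr, rfl⟩ c
      rw [map_mul, h3, coeff_mul_single_one]
      exact Ideal.mul_mem_mul_rev (Ideal.mem_map_of_mem ρ hr) (coeff_mem_fixIdeal α c hg)
    · intro c
      rw [mul_zero, map_zero]
      exact Ideal.zero_mem _
    · intro y₁ y₂ _ _ h₁ h₂ c
      rw [mul_add, map_add, MonoidAlgebra.coeff_add, Finsupp.add_apply]
      exact Ideal.add_mem _ (h₁ c) (h₂ c)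
    · intro a y₁ _ h₁ c
      rw [smul_eq_mul, ← mul_assoc]
      exact h₁ (c * a)
  have hgen : ∀ (p : Ideal R₀), p.IsPrime → ∀ y ∈ {y | ∃ z g, g ≠ 1 ∧ (α z).coeff g = y},
      ∃ s : R₀, s ∉ p ∧ ρ s * y ∈ p.map ρ * b := by
    rintro p hp _ ⟨z, g, hg, rfl⟩
    obtain ⟨s, hsp, hs⟩ := h4 p hp z g hg
    refine ⟨s, hsp, ?_⟩
    have e1 : ρ s * (α z).coeff g = (α (ρ s * (α z).coeff g)).coeff g := by
      rw [map_mul, h3, coeff_single_one_mul, h2]
    rw [e1]
    exact hstep p g hg _ hs
  -- a uniform multiplier for the whole ideal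
  have hunif : ∀ (p : Ideal R₀), p.IsPrime → ∃ s : R₀, s ∉ p ∧ ∀ y ∈ b, ρ s * y ∈ p.map ρ * b := by
    intro p hp
    obtain ⟨t, ht⟩ := hfg
    -- generators can be taken among the coefficients: use the defining span instead
    have hb : b = Ideal.span {y | ∃ z g, g ≠ 1 ∧ (α z).coeff g = y} := rfl
    -- each element of the finite set `t` lies in the span of finitely many coefficients
    have hfin : ∀ y ∈ t, ∃ s : R₀, s ∉ p ∧ ρ s * y ∈ p.map ρ * b := by
      intro y hy
      have hyb : y ∈ b := by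
        rw [← ht]
        exact Ideal.subset_span hy
      rw [hb] at hyb
      refine Submodule.span_induction
        (p := fun y _ => ∃ s : R₀, s ∉ p ∧ ρ s * y ∈ p.map ρ * b) ?_ ?_ ?_ ?_ hyb
      · intro y hy
        exact hgen p hp y hy
      · exact ⟨1, fun h => hp.ne_top ((Ideal.eq_top_iff_one _).mpr h), by
          rw [mul_zero]; exact zero_mem _⟩
      · rintro y₁ y₂ _ _ ⟨s₁, hs₁, h₁⟩ ⟨s₂, hs₂, h₂⟩
        refine ⟨s₁ * s₂, fun h => (hp.mem_or_mem h).elim hs₁ hs₂, ?_⟩
        have e : ρ (s₁ * s₂) * (y₁ + y₂) = ρ s₂ * (ρ s₁ * y₁) + ρ s₁ * (ρ s₂ * y₂) := by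
          rw [map_mul]; ring
        rw [e]
        exact Ideal.add_mem _ (Ideal.mul_mem_left _ _ h₁) (Ideal.mul_mem_left _ _ h₂)
      · rintro a y₁ _ ⟨s₁, hs₁, h₁⟩
        refine ⟨s₁, hs₁, ?_⟩
        have e : ρ s₁ * (a • y₁) = a * (ρ s₁ * y₁) := by
          rw [smul_eq_mul]; ring
        rw [e]
        exact Ideal.mul_mem_left _ _ h₁
    choose! sf hsf1 hsf2 using hfin
    refine ⟨∏ y ∈ t, sf y, ?_, ?_⟩
    · intro h
      obtain ⟨y, hy, hy'⟩ := (hp.prod_mem_iff).mp h
      exact hsf1 y hy hy'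
    · intro y hy
      rw [← ht] at hy
      refine Submodule.span_induction
        (p := fun y _ => ρ (∏ y ∈ t, sf y) * y ∈ p.map ρ * b) ?_ ?_ ?_ ?_ hy
      · intro y hy
        rw [← Finset.mul_prod_erase t sf hy, map_mul, mul_comm (ρ (sf y)), mul_assoc]
        exact Ideal.mul_mem_left _ _ (hsf2 y hy)
      · rw [mul_zero]; exact zero_mem _
      · intro y₁ y₂ _ _ h₁ h₂
        rw [mul_add]
        exact Ideal.add_mem _ h₁ h₂
      · intro a y₁ _ h₁
        have e : ρ (∏ y ∈ t, sf y) * (a • y₁) = a * (ρ (∏ y ∈ t, sf y) * y₁) := by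
          rw [smul_eq_mul]; ring
        rw [e]
        exact Ideal.mul_mem_left _ _ h₁
  -- the annihilator is everything
  have hann : ∀ y ∈ b, y = 0 := by
    by_contra hne
    push Not at hne
    obtain ⟨y₀, hy₀b, hy₀⟩ := hne
    let ann : Ideal A := Module.annihilator A b
    have hann_ne : ann ≠ ⊤ := by
      intro h
      have h1' : (1 : A) ∈ ann := by rw [h]; trivial
      rw [Module.mem_annihilator] at h1'
      have := h1' ⟨y₀, hy₀b⟩
      rw [one_smul] at this
      exact hy₀ (congrArg Subtype.val this)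
    obtain ⟨q, hq, hannq⟩ := Ideal.exists_le_maximal ann hann_ne
    haveI : q.IsPrime := hq.isPrime
    let p : Ideal R₀ := q.comap ρ
    haveI hp : p.IsPrime := Ideal.IsPrime.comap ρ
    obtain ⟨s, hsp, hs⟩ := hunif p hp
    haveI : Module.Finite A b := Module.Finite.iff_fg.mpr hfg
    let f : Module.End A b := algebraMap A (Module.End A b) (ρ s)
    have hmap : ((p.map ρ) • (⊤ : Submodule A b)).map b.subtype = (p.map ρ) • b := by
      rw [Submodule.map_smul'', Submodule.map_subtype_top]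
    have hrange : LinearMap.range f ≤ (p.map ρ) • (⊤ : Submodule A b) := by
      rintro _ ⟨y, rfl⟩
      have h5 : ρ s * (y : A) ∈ (p.map ρ) • b := hs y y.2
      rw [← hmap] at h5
      obtain ⟨x', hx', hxx'⟩ := h5
      have e : x' = f y := by
        apply Subtype.ext
        rw [show ((x' : b) : A) = b.subtype x' from rfl, hxx']
        rfl
      rw [← e]
      exact hx'
    obtain ⟨P, hPm, -, hPc, hPa⟩ :=
      LinearMap.exists_monic_and_natDegree_eq_and_coeff_mem_pow_and_aeval_eq_zero A f (p.map ρ)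
        hrange
    rw [Polynomial.aeval_algebraMap_apply] at hPa
    let d : A := Polynomial.aeval (ρ s) P
    have hd_ann : d ∈ ann := by
      rw [Module.mem_annihilator]
      intro y
      have := LinearMap.congr_fun hPa y
      rw [Module.algebraMap_end_apply] at this
      exact this
    have hdq : d ∈ q := hannq hd_ann
    have hIq : p.map ρ ≤ q := Ideal.map_comap_le
    have hd : d = ∑ i ∈ Finset.range P.natDegree, P.coeff i * (ρ s) ^ i + (ρ s) ^ P.natDegree := by
      change Polynomial.aeval (ρ s) P = _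
      rw [Polynomial.coe_aeval_eq_eval, Polynomial.eval_eq_sum_range, Finset.sum_range_succ,
        hPm.coeff_natDegree, one_mul]
    have hrest : ∑ i ∈ Finset.range P.natDegree, P.coeff i * (ρ s) ^ i ∈ q := by
      refine Ideal.sum_mem _ (fun i hi => ?_)
      have hi' : P.natDegree - i ≠ 0 := by
        have := Finset.mem_range.mp hi
        omega
      exact Ideal.mul_mem_right _ _ (hIq (Ideal.pow_le_self hi' (hPc i)))
    have hpow : (ρ s) ^ P.natDegree ∈ q := by
      have := q.sub_mem hdq hrest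
      rw [hd, add_sub_cancel_left] at this
      exact this
    exact hsp (‹q.IsPrime›.mem_of_pow_mem _ hpow)
  have h0 : ∀ g : G, g ≠ 1 → (α z).coeff g = 0 := fun g hg =>
    hann _ (coeff_mem_fixIdeal α z hg)
  have hz : (α z).coeff 1 = z := by
    have h := h1 z
    rw [aug_eq_sum] at h
    have h' : ∑ g ∈ (α z).coeff.support, (α z).coeff g = (α z).coeff 1 := by
      refine Finset.sum_eq_single 1 (fun g _ hg => h0 g hg) (fun h1' => ?_)
      exact Finsupp.notMem_support_iff.1 h1'
    rw [← h', h]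
  apply coeff_injective
  ext g
  rw [coeff_single, Finsupp.single_apply]
  by_cases hg : 1 = g
  · subst hg
    rw [if_pos rfl, hz]
  · rw [if_neg hg, h0 g (Ne.symm hg)]

/-- a ring over the residue field of `p` detecting the saturation of `p A`. -/
theorem exists_sat_ring (p : Ideal R₀) [hp : p.IsPrime] :
    ∃ (L : Type u) (_ : CommRing L) (q : A →+* L) (γ₀ : p.ResidueField →+* L),
      q.comp ρ = γ₀.comp (algebraMap R₀ p.ResidueField) ∧
      ∀ y, q y = 0 → ∃ s : R₀, s ∉ p ∧ ρ s * y ∈ p.map ρ := by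
  let Kp : Ideal A := p.map ρ
  let mk : A →+* A ⧸ Kp := Ideal.Quotient.mk Kp
  let Sm : Submonoid (A ⧸ Kp) := Submonoid.map (mk.comp ρ) p.primeCompl
  let L := Localization Sm
  let q : A →+* L := (algebraMap (A ⧸ Kp) L).comp mk
  let f₀ : R₀ →+* L := q.comp ρ
  have hunits : ∀ y : p.primeCompl, IsUnit (f₀ y) := by
    intro y
    exact IsLocalization.map_units L (⟨mk (ρ y), ⟨y, y.2, rfl⟩⟩ : Sm)
  let l₁ : Localization.AtPrime p →+* L := IsLocalization.lift (M := p.primeCompl) hunits
  have hl₁ : ∀ r, l₁ (algebraMap R₀ (Localization.AtPrime p) r) = f₀ r := fun r =>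
    IsLocalization.lift_eq hunits r
  have hkill : ∀ a ∈ IsLocalRing.maximalIdeal (Localization.AtPrime p), l₁ a = 0 := by
    intro a ha
    rw [← Localization.AtPrime.map_eq_maximalIdeal] at ha
    have hle : Ideal.map (algebraMap R₀ (Localization.AtPrime p)) p ≤ RingHom.ker l₁ := by
      rw [Ideal.map_le_iff_le_comap]
      intro r hr
      rw [Ideal.mem_comap, RingHom.mem_ker, hl₁]
      change algebraMap (A ⧸ Kp) L (mk (ρ r)) = 0
      rw [Ideal.Quotient.eq_zero_iff_mem.mpr (Ideal.mem_map_of_mem ρ hr), map_zero]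
    exact hle ha
  let γ₀ : p.ResidueField →+* L :=
    Ideal.Quotient.lift (IsLocalRing.maximalIdeal (Localization.AtPrime p)) l₁ hkill
  refine ⟨L, inferInstance, q, γ₀, ?_, ?_⟩
  · refine RingHom.ext (fun r => ?_)
    change f₀ r = γ₀ (Ideal.Quotient.mk _ (algebraMap R₀ (Localization.AtPrime p) r))
    have h1 : γ₀ (Ideal.Quotient.mk _ (algebraMap R₀ (Localization.AtPrime p) r)) =
        l₁ (algebraMap R₀ (Localization.AtPrime p) r) :=
      Ideal.Quotient.lift_mk _ l₁ hkill
    rw [h1, hl₁]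
  · intro y hy
    have hy' : algebraMap (A ⧸ Kp) L (mk y) = 0 := hy
    obtain ⟨m, hm⟩ := (IsLocalization.map_eq_zero_iff Sm L (mk y)).mp hy'
    obtain ⟨s, hs, hsm⟩ := m.2
    refine ⟨s, hs, ?_⟩
    rw [← hsm] at hm
    have : mk (ρ s * y) = 0 := by
      rw [map_mul]
      exact hm
    exact Ideal.Quotient.eq_zero_iff_mem.mp this

end Groth.Agent.Lib.Helper10.TrivFib
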