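import Mathlib
import Groth.Agent.Lib.Helper10.TrivFib1
import Groth.Agent.Lib.Helper10.TrivActDiag

/-!
# An action of a diagonalisable group on an affine scheme of finite type which is trivial on the
fibres is trivial
-/

set_option autoImplicit false
set_option backward.isDefEq.respectTransparency.types false
set_option maxHeartbeats 4000000
set_option synthInstance.maxHeartbeats 400000
universe u
open CategoryTheory CategoryTheory.Limits AlgebraicGeometry MonoidalCategory
  CartesianMonoidalCategory MonObj GrpObj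

namespace Groth.Agent.Lib.Helper10.TrivFib

open Groth.Agent.Lib.Helper21.GaPts Groth.Agent.Lib.Helper10.GroupLikeIdem
  Groth.Agent.Lib.Helper10.DiagHom Groth.Agent.Lib.Helper10.TrivAct

variable {T : Scheme.{u}} {M : Type} [AddCommGroup M] {W : Over T} [IsAffine W.left]
  (act : Red.DS T M ⊗ W ⟶ W)

/-- triviality on the fibre at `p`. -/
theorem coact_coeff_mem_fib {R₀ : Type u} [CommRing R₀] (ρ₀ : R₀ →+* Γ(T, ⊤))
    (p : Ideal R₀) [p.IsPrime]
    (htriv : ∀ (C : CommRingCat.{u}) (β : Γ(W.left, ⊤) ⟶ C) (gam : p.ResidueField →+* C),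
      β.hom.comp (W.hom.appTop.hom.comp ρ₀) = gam.comp (algebraMap R₀ p.ResidueField) →
      ∀ δ : specOver W β ⟶ Red.DS T M, lift δ (specOverT W β) ≫ act = specOverT W β)
    (z : Γ(W.left, ⊤)) (g : Multiplicative M) (hg : g ≠ 1) :
    ∃ s : R₀, s ∉ p ∧ (W.hom.appTop.hom.comp ρ₀) s * (coact M W act z).coeff g ∈
      p.map (W.hom.appTop.hom.comp ρ₀) := by
  classical
  let A := Γ(W.left, ⊤)
  let G := Multiplicative M
  obtain ⟨L, _, q, gam₀, hqgam, hsat⟩ := exists_sat_ring (W.hom.appTop.hom.comp ρ₀) p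
  refine hsat _ ?_
  let C : CommRingCat.{u} := CommRingCat.of (MonoidAlgebra L G)
  let β : Γ(W.left, ⊤) ⟶ C :=
    CommRingCat.ofHom ((algebraMap L (MonoidAlgebra L G)).comp q)
  let gam : p.ResidueField →+* C := (algebraMap L (MonoidAlgebra L G)).comp gam₀
  have hβgam : β.hom.comp (W.hom.appTop.hom.comp ρ₀) = gam.comp (algebraMap R₀ p.ResidueField) := by
    change ((algebraMap L (MonoidAlgebra L G)).comp q).comp (W.hom.appTop.hom.comp ρ₀) =
      ((algebraMap L (MonoidAlgebra L G)).comp gam₀).comp (algebraMap R₀ p.ResidueField)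
    rw [RingHom.comp_assoc, hqgam, RingHom.comp_assoc]
  have key := htriv C β gam hβgam (dsPt (S := T) (X := specOver W β) (chr (MonoidAlgebra.of L G)))
  have key2 := congrArg (fun f => (Scheme.ΓSpecIso C).hom (f.left.appTop z)) key
  beta_reduce at key2
  rw [spec_lift_act_appTop, specOverT_comp, specOverT_appTop] at key2
  change MonoidAlgebra.liftNCRingHom ((algebraMap L (MonoidAlgebra L G)).comp q)
    (MonoidAlgebra.of L G) _ _ = algebraMap L (MonoidAlgebra L G) (q z) at key2
  rw [liftNC_mapRingHom] at key2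
  have key3 := congrArg (fun y : MonoidAlgebra L G => y.coeff g) key2
  beta_reduce at key3
  rw [MonoidAlgebra.coeff_mapRingHom, MonoidAlgebra.coe_algebraMap] at key3
  have h0 : (MonoidAlgebra.single (1 : G) (q z) : MonoidAlgebra L G).coeff g = 0 := by
    rw [MonoidAlgebra.coeff_single, Finsupp.single_apply, if_neg (Ne.symm hg)]
  exact key3.trans h0

/-- **an action of a diagonalisable group on an affine scheme of finite type over the base which is
trivial on the fibres is trivial.** -/
theorem act_eq_snd_fib {R₀ : Type u} [CommRing R₀] (ρ₀ : R₀ →+* Γ(T, ⊤))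
    (hft : (W.hom.appTop.hom.comp ρ₀).FiniteType)
    (hunit : lift (1 : W ⟶ Red.DS T M) (𝟙 W) ≫ act = 𝟙 W)
    (hassoc : ∀ (Y : Over T) (a b : Y ⟶ Red.DS T M) (t : Y ⟶ W),
      lift (a * b) t ≫ act = lift a (lift b t ≫ act) ≫ act)
    (htriv : ∀ (p : Ideal R₀) [p.IsPrime] (C : CommRingCat.{u}) (β : Γ(W.left, ⊤) ⟶ C)
      (gam : p.ResidueField →+* C),
      β.hom.comp (W.hom.appTop.hom.comp ρ₀) = gam.comp (algebraMap R₀ p.ResidueField) →
      ∀ δ : specOver W β ⟶ Red.DS T M, lift δ (specOverT W β) ≫ act = specOverT W β) :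
    act = snd _ _ := by
  have hα : ∀ z, coact M W act z = MonoidAlgebra.single 1 z :=
    coaction_trivial_fib (coact M W act) (W.hom.appTop.hom.comp ρ₀) (aug_coact act hunit)
      (coact_coassoc act hassoc) (fun r => coact_hom act (ρ₀ r)) hft
      (fun p hp z g hg => by
        haveI := hp
        exact coact_coeff_mem_fib act ρ₀ p (htriv p) z g hg)
  apply eq_of_univPt_comp_eq
  rw [univPt_snd]
  apply Over.OverMorphism.ext
  apply ext_of_isAffine
  ext z
  have h1 : (Scheme.ΓSpecIso (BG M W)).hom ((univPt M W ≫ act).left.appTop z) =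
      (Scheme.ΓSpecIso (BG M W)).hom ((specOverT W (algB M W)).left.appTop z) := by
    rw [← coact_apply, hα, specOverT_appTop]
    change _ = algebraMap _ _ z
    rw [MonoidAlgebra.coe_algebraMap]
    rfl
  exact (ConcreteCategory.bijective_of_isIso (Scheme.ΓSpecIso (BG M W)).hom).1 h1

end Groth.Agent.Lib.Helper10.TrivFib
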