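import Mathlib
import Groth.Agent.Lib.Helper10.TrivFib2
import Groth.Agent.Lib.Helper10.TrivActGlobal
import Groth.Agent.Lib.Helper10.ConjAction

/-!
# An action of a group of multiplicative type on a scheme locally of finite type which is trivial
on all fibres is trivial; application: a homomorphism which is central on the fibres is central
-/

set_option autoImplicit false
set_option backward.isDefEq.respectTransparency.types false
set_option maxHeartbeats 4000000
set_option synthInstance.maxHeartbeats 400000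
universe u
open CategoryTheory CategoryTheory.Limits AlgebraicGeometry MonoidalCategory
  CartesianMonoidalCategory MonObj GrpObj

namespace Groth.Agent.Lib.Helper10.TrivFib

open Groth.Agent.Lib.Helper21.GaPts Groth.Agent.Lib.Helper10.DiagHom
  Groth.Agent.Lib.Helper10.HomFamBC Groth.Agent.Lib.Helper10.FpqcLocus
  Groth.Agent.Lib.Helper10.MultTypeHom Groth.Agent.Lib.Helper10.MultTypeLocus
  Groth.Agent.Lib.Helper10.TrivAct

section Local

variable {S T : Scheme.{u}} {G X : Over S} [GrpObj G] (a : AlgGrp.Action G X)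
  (g : T ⟶ S) {M : Type} [AddCommGroup M] (e : Red.bc g G ≅ Red.DS T M) [IsMonHom e.inv]

/-- the fibrewise hypothesis. -/
def FibTriv : Prop :=
  ∀ (t : T) (Y : Over T) (q : Y.left ⟶ Spec (T.residueField t)),
    q ≫ T.fromSpecResidueField t = Y.hom → ∀ (δ : Y ⟶ Red.DS T M) (x : Y ⟶ Red.bc g X),
      lift δ x ≫ actD g a e = x

variable {a g e}

/-- the action is trivial on the underlying spaces. -/
theorem actD_pt_fib (hfib : FibTriv a g e) {Y : Over T} (δ : Y ⟶ Red.DS T M)
    (x : Y ⟶ Red.bc g X) (y : Y.left) : (lift δ x ≫ actD g a e).left y = x.left y := by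
  let t : T := Y.hom y
  let pr : pullback Y.hom (T.fromSpecResidueField t) ⟶ Y.left := pullback.fst _ _
  obtain ⟨s₀⟩ : Nonempty (Spec (T.residueField t)) := inferInstance
  obtain ⟨y₀, hy₀, -⟩ := Scheme.Pullback.exists_preimage_pullback
    (f := Y.hom) (g := T.fromSpecResidueField t) y s₀
    (by rw [Scheme.fromSpecResidueField_apply])
  let Y₀ : Over T := Over.mk (pr ≫ Y.hom)
  let j : Y₀ ⟶ Y := Over.homMk pr rfl
  have h := hfib t Y₀ (pullback.snd _ _) (by
    change pullback.snd Y.hom (T.fromSpecResidueField t) ≫ T.fromSpecResidueField t = pr ≫ Y.hom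
    rw [← pullback.condition]) (j ≫ δ) (j ≫ x)
  rw [← comp_lift, Category.assoc] at h
  have h' := congrArg (fun f => f.left y₀) h
  change (lift δ x ≫ actD g a e).left (pr y₀) = x.left (pr y₀) at h'
  rw [hy₀] at h'
  exact h'

variable [IsAffine T] [LocallyOfFiniteType X.hom]

/-- on an affine open of the base change, the action is trivial. -/
theorem actW_eq_snd_fib (hfib : FibTriv a g e) (O : (Red.bc g X).left.Opens)
    (hO : IsAffineOpen O) :
    actW g a e O (actD_pt_fib hfib) = snd _ _ := by
  haveI : IsAffine (WO g X O).left := hO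
  have hpt := @actD_pt_fib _ _ _ _ _ a g _ _ e _ hfib
  refine act_eq_snd_fib (actW g a e O hpt) (RingHom.id Γ(T, ⊤)) ?_ ?_ ?_ ?_
  · rw [RingHom.comp_id]
    haveI : LocallyOfFiniteType (Red.bc g X).hom :=
      inferInstanceAs (LocallyOfFiniteType (pullback.snd X.hom g))
    haveI : LocallyOfFiniteType (WO g X O).hom :=
      inferInstanceAs (LocallyOfFiniteType (O.ι ≫ (Red.bc g X).hom))
    exact (HasRingHomProperty.iff_of_isAffine (P := @LocallyOfFiniteType)).mp inferInstance
  · rw [← cancel_mono (ιO g X O), lift_actW, actD_one]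
  · intro Y c d t
    rw [← cancel_mono (ιO g X O), lift_actW, actD_mul, Category.assoc, actW_ι, ← Category.assoc,
      lift_whiskerLeft, lift_actW]
  · intro p hp C β gam hβ δ
    rw [← cancel_mono (ιO g X O), lift_actW]
    let W := WO g X O
    let κ : CommRingCat.{u} := CommRingCat.of p.ResidueField
    let f₀ : Spec κ ⟶ T :=
      Spec.map (CommRingCat.ofHom (algebraMap Γ(T, ⊤) p.ResidueField)) ≫ T.isoSpec.inv
    have h1 := Scheme.descResidueField_stalkClosedPointTo_fromSpecResidueField p.ResidueField T f₀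
    have hβ' : W.hom.appTop ≫ β =
        CommRingCat.ofHom (algebraMap Γ(T, ⊤) p.ResidueField) ≫ CommRingCat.ofHom gam := by
      refine CommRingCat.hom_ext ?_
      rw [RingHom.comp_id] at hβ
      exact hβ
    have hhom : (specOver W β).hom = Spec.map (CommRingCat.ofHom gam) ≫ f₀ := by
      change Spec.map β ≫ W.left.isoSpec.inv ≫ W.hom = _
      rw [← Scheme.isoSpec_inv_naturality, ← Category.assoc, ← Spec.map_comp, hβ', Spec.map_comp,
        Category.assoc]
    refine hfib (f₀ (IsLocalRing.closedPoint p.ResidueField)) (specOver W β)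
      (Spec.map (CommRingCat.ofHom gam) ≫
        Spec.map (Scheme.descResidueField (Scheme.stalkClosedPointTo f₀))) ?_ δ _
    rw [Category.assoc, h1]
    exact hhom.symm

/-- **the local statement**: over an affine base where the group is diagonalisable, an action on a
scheme locally of finite type which is trivial on the fibres is trivial. -/
theorem trivial_of_diag_fib (hfib : FibTriv a g e) (Y' : Over T) (c : (Over.map g).obj Y' ⟶ G)
    (x : (Over.map g).obj Y' ⟶ X) : lift c x ≫ a.act = x := by
  have hpt := @actD_pt_fib _ _ _ _ _ a g _ _ e _ hfib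
  let x' : Y' ⟶ Red.bc g X := trInv g x
  let δ : Y' ⟶ Red.DS T M := trInv g c ≫ e.hom
  suffices hD : lift δ x' ≫ actD g a e = x' by
    have h1 := congrArg (tr g) hD
    rw [tr_lift_actD] at h1
    have h2 : δ ≫ e.inv = trInv g c := by
      simp only [δ, Category.assoc, e.hom_inv_id, Category.comp_id]
    rw [h2, tr_trInv, tr_trInv] at h1
    exact h1
  apply Over.OverMorphism.ext
  refine Scheme.hom_ext_of_forall _ _ (fun y => ?_)
  obtain ⟨(O : (Red.bc g X).left.Opens), hO, hyO, -⟩ :=
    TopologicalSpace.Opens.isBasis_iff_nbhd.mp (Red.bc g X).left.isBasis_affineOpens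
      (TopologicalSpace.Opens.mem_top (x'.left y))
  let U : Y'.left.Opens := x'.left ⁻¹ᵁ O
  refine ⟨U, hyO, ?_⟩
  let Y'' : Over T := Over.mk (U.ι ≫ Y'.hom)
  let j : Y'' ⟶ Y' := Over.homMk U.ι rfl
  have hr : Set.range (U.ι ≫ x'.left) ⊆ Set.range O.ι := by
    rintro _ ⟨z, rfl⟩
    rw [Scheme.Opens.range_ι]
    exact z.2
  let wl : U.toScheme ⟶ O.toScheme := IsOpenImmersion.lift O.ι (U.ι ≫ x'.left) hr
  have hwl : wl ≫ O.ι = U.ι ≫ x'.left := IsOpenImmersion.lift_fac _ _ _
  let w : Y'' ⟶ WO g X O := Over.homMk wl (by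
    change wl ≫ O.ι ≫ (Red.bc g X).hom = U.ι ≫ Y'.hom
    rw [← Category.assoc, hwl, Category.assoc, Over.w x'])
  have hw : w ≫ ιO g X O = j ≫ x' := Over.OverMorphism.ext hwl
  have hact := actW_eq_snd_fib hfib O hO
  have key : j ≫ (lift δ x' ≫ actD g a e) = j ≫ x' := by
    rw [← Category.assoc, comp_lift, ← hw, ← lift_actW g a e O hpt, hact, lift_snd]
  exact congrArg (fun f => f.left) key

end Local

end Groth.Agent.Lib.Helper10.TrivFib
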