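import Mathlib
import Groth.Prelude.Def_SGA3x
import Groth.Agent.Lib.Helper10.TrivFib3
import Groth.Agent.Lib.Helper10.KerTriv

/-!
# SGA 3 IX: a homomorphism from a group of multiplicative type which is central on the fibres is
central
-/

set_option autoImplicit false
set_option backward.isDefEq.respectTransparency.types false
set_option maxHeartbeats 4000000
set_option synthInstance.maxHeartbeats 400000
universe u
open CategoryTheory CategoryTheory.Limits AlgebraicGeometry MonoidalCategory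
  CartesianMonoidalCategory MonObj GrpObj

namespace Groth.Agent.Lib.Helper10.TrivFib

open Groth.Agent.Lib.Helper21.GaPts Groth.Agent.Lib.Helper10.DiagHom
  Groth.Agent.Lib.Helper10.HomFamBC Groth.Agent.Lib.Helper10.FpqcLocus
  Groth.Agent.Lib.Helper10.MultTypeHom Groth.Agent.Lib.Helper10.MultTypeLocus
  Groth.Agent.Lib.Helper10.TrivAct Groth.Agent.Lib.Helper10.ConjAction
  Groth.Agent.Lib.Helper10.KerTriv

variable {S : Scheme.{u}} (H G : Over S) [GrpObj H] [GrpObj G] (u : H ⟶ G) [IsMonHom u]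

/-- the fibre hypothesis, on points lying over the spectrum of a residue field. -/
theorem central_pt_of_fib
    (hfib : ∀ (s : S) (X : Over (Spec (S.residueField s)))
      (g : X ⟶ Red.bc (S.fromSpecResidueField s) G) (h : X ⟶ Red.bc (S.fromSpecResidueField s) H),
      g * (h ≫ (Over.pullback (S.fromSpecResidueField s)).map u) =
        (h ≫ (Over.pullback (S.fromSpecResidueField s)).map u) * g)
    (s : S) (Ys : Over S) (q' : Ys.left ⟶ Spec (S.residueField s))
    (hq' : q' ≫ S.fromSpecResidueField s = Ys.hom) (gS : Ys ⟶ G) (hS : Ys ⟶ H) :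
    gS * (hS ≫ u) = (hS ≫ u) * gS := by
  obtain ⟨Yl, ⟨⟨⟩⟩, Yh⟩ := Ys
  change Yl ⟶ Spec (S.residueField s) at q'
  change q' ≫ S.fromSpecResidueField s = Yh at hq'
  subst hq'
  let fs := S.fromSpecResidueField s
  let X : Over (Spec (S.residueField s)) := Over.mk q'
  let gS' : (Over.map fs).obj X ⟶ G := gS
  let hS' : (Over.map fs).obj X ⟶ H := hS
  have h1 := hfib s X (trInv fs gS') (trInv fs hS')
  have h2 := congrArg (tr fs) h1
  rw [tr_mul, tr_mul, tr_comp_map, tr_trInv, tr_trInv] at h2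
  exact h2

/-- **SGA 3 IX**: central on the fibres implies central. -/
theorem central_of_fibres (hH : SGA3x.IsMultTypeFT H) [LocallyOfFiniteType G.hom]
    (hfib : ∀ (s : S) (X : Over (Spec (S.residueField s)))
      (g : X ⟶ Red.bc (S.fromSpecResidueField s) G) (h : X ⟶ Red.bc (S.fromSpecResidueField s) H),
      g * (h ≫ (Over.pullback (S.fromSpecResidueField s)).map u) =
        (h ≫ (Over.pullback (S.fromSpecResidueField s)).map u) * g)
    (X : Over S) (g : X ⟶ G) (h : X ⟶ H) : g * (h ≫ u) = (h ≫ u) * g := by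
  let a : AlgGrp.Action H G := conjAction u
  have hact : ∀ {Y : Over S} (c : Y ⟶ H) (x : Y ⟶ G),
      lift c x ≫ a.act = (c ≫ u) * x * (c ≫ u)⁻¹ := fun c x => lift_conjAct u c x
  obtain ⟨S', cov, hfl, hsurj, hfpqc, hloc⟩ := hH
  haveI := hfl
  have hL := isLocalBC_trivOn a
  suffices hT : TrivOn a (𝟙 S) by
    have h1 := hT X X.hom (Category.comp_id _) h g
    rw [hact] at h1
    exact (mul_inv_eq_iff_eq_mul.mp h1).symm
  refine of_fpqc_cover hL cov hfpqc (fun t => ?_)
  obtain ⟨U₀, htU₀, M, _, -, ⟨ψ⟩⟩ := hloc t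
  refine ⟨U₀, htU₀, ?_⟩
  refine hL.loc (U₀.ι ≫ cov) (fun z => ?_)
  obtain ⟨(Z : U₀.toScheme.Opens), hZ, hzZ, -⟩ :=
    TopologicalSpace.Opens.isBasis_iff_nbhd.mp U₀.toScheme.isBasis_affineOpens
      (TopologicalSpace.Opens.mem_top z)
  refine ⟨Z.toScheme, Z.ι, inferInstance, ⟨⟨z, hzZ⟩, rfl⟩, ?_⟩
  let g₁ : Z.toScheme ⟶ S := Z.ι ≫ U₀.ι ≫ cov
  let ψ' := trivIso H (U₀.ι ≫ cov) Z.ι g₁ rfl M ψ
  obtain ⟨e, -, he2⟩ := exists_iso_isMonHom' ψ'
  haveI := he2
  haveI : IsAffine Z.toScheme := hZ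
  have hfibT : FibTriv a g₁ e := by
    intro t₁ Y q hq δ x
    apply tr_injective g₁
    rw [tr_lift_actD, hact]
    have hc := central_pt_of_fib H G u hfib (g₁ t₁) ((Over.map g₁).obj Y)
      (q ≫ Spec.map (g₁.residueFieldMap t₁)) (by
        change (q ≫ Spec.map (g₁.residueFieldMap t₁)) ≫ S.fromSpecResidueField (g₁ t₁) =
          Y.hom ≫ g₁
        rw [Category.assoc, Scheme.Hom.SpecMap_residueFieldMap_fromSpecResidueField,
          ← Category.assoc, hq]) (tr g₁ x) (tr g₁ (δ ≫ e.inv))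
    rw [← hc, mul_inv_cancel_right]
  intro Y₁
  obtain ⟨Yl, ⟨⟨⟩⟩, Yh⟩ := Y₁
  intro (q : Yl ⟶ Z.toScheme) (hq : q ≫ g₁ = Yh) c₁ x₁
  subst hq
  exact trivial_of_diag_fib hfibT (Over.mk q) c₁ x₁

end Groth.Agent.Lib.Helper10.TrivFib
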