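import Mathlib
import Groth.Agent.Lib.Helper10.TrivLoc2
import Groth.Agent.Lib.Helper10.TrivActGlobal

/-!
# The ideal representing triviality of `u : D_T(M) ⟶ G` is idempotent
-/

set_option autoImplicit false
set_option backward.isDefEq.respectTransparency.types false
set_option maxHeartbeats 4000000
set_option synthInstance.maxHeartbeats 400000
universe u
open CategoryTheory CategoryTheory.Limits AlgebraicGeometry MonoidalCategory
  CartesianMonoidalCategory MonObj GrpObj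

namespace Groth.Agent.Lib.Helper10.TrivLoc

open Groth.Agent.Lib.Helper21.GaPts Groth.Agent.Lib.Helper10.DiagHom
  Groth.Agent.Lib.Helper10.TrivAct Groth.Agent.Lib.Helper10.KerIdeal
  Groth.Agent.Lib.Helper10.KerTriv Groth.Agent.Lib.Helper10.KerLocal
  Groth.Agent.Lib.Helper10.HomFamBC Groth.Agent.Lib.Helper10.DiagAdditive
  Groth.Agent.Lib.Helper10.MultTypeHom Groth.Agent.Lib.Helper10.MultTypeLocus

variable {T : Scheme.{u}} [IsAffine T] (M : Type) [AddCommGroup M]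
  {G : Over T} [GrpObj G] (u : Red.DS T M ⟶ G) [IsMonHom u]

set_option maxHeartbeats 16000000 in
/-- **rigidity**: the ideal representing triviality is idempotent. -/
theorem rep_idem (K : Ideal Γ(T, ⊤))
    (hrep : ∀ (C : CommRingCat.{u}) (β : Γ(T, ⊤) ⟶ C),
      EqOn u 1 (Spec.map β ≫ T.isoSpec.inv) ↔ ∀ a ∈ K, β a = 0) : K ≤ K * K := by
  let A : CommRingCat.{u} := Γ(T, ⊤)
  let A₂ : CommRingCat.{u} := CommRingCat.of (A ⧸ (K * K))
  let A₁ : CommRingCat.{u} := CommRingCat.of (A ⧸ K)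
  let q₂ : A ⟶ A₂ := CommRingCat.ofHom (Ideal.Quotient.mk (K * K))
  let q₁ : A ⟶ A₁ := CommRingCat.ofHom (Ideal.Quotient.mk K)
  have hle : K * K ≤ K := Ideal.mul_le_left
  let ψ : A₂ ⟶ A₁ := CommRingCat.ofHom (Ideal.Quotient.factor hle)
  have hψ : q₂ ≫ ψ = q₁ := by
    refine CommRingCat.hom_ext (RingHom.ext fun a => ?_)
    rfl
  let S₂ : Scheme.{u} := Spec A₂
  let b₂ : S₂ ⟶ T := Spec.map q₂ ≫ T.isoSpec.inv
  let i₀ : Spec A₁ ⟶ S₂ := Spec.map ψ
  haveI : IsClosedImmersion i₀ :=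
    IsClosedImmersion.spec_of_surjective ψ (Ideal.Quotient.factor_surjective hle)
  -- the ideal of `i₀` has square zero
  have hnil : ∀ x : S₂, ∃ U : S₂.affineOpens, x ∈ (U : S₂.Opens) ∧
      IsNilpotent (i₀.ker.ideal U) := by
    intro x
    refine ⟨⟨⊤, isAffineOpen_top S₂⟩, trivial, 2, ?_⟩
    rw [Scheme.Hom.ker_apply, pow_two, Ideal.zero_eq_bot, eq_bot_iff, Ideal.mul_le]
    have key : ∀ r : Γ(S₂, ⊤), r ∈ RingHom.ker (i₀.app ⊤).hom →
        ∃ a ∈ K, (Scheme.ΓSpecIso A₂).hom r = Ideal.Quotient.mk (K * K) a := by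
      intro r hr
      obtain ⟨a, ha⟩ := Ideal.Quotient.mk_surjective ((Scheme.ΓSpecIso A₂).hom r)
      refine ⟨a, ?_, ha.symm⟩
      have h1 := congrArg (fun f => f.hom r) (Scheme.ΓSpecIso_naturality ψ)
      simp only [CommRingCat.hom_comp, RingHom.comp_apply] at h1
      rw [RingHom.mem_ker] at hr
      have hr' : (Spec.map ψ).appTop r = 0 := hr
      have hz0 : (Scheme.ΓSpecIso A₁).hom (0 : Γ(Spec A₁, ⊤)) = 0 :=
        map_zero (Scheme.ΓSpecIso A₁).hom.hom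
      have h2 : ψ ((Scheme.ΓSpecIso A₂).hom r) = 0 := by
        refine h1.symm.trans ?_
        exact (congrArg (fun y => (Scheme.ΓSpecIso A₁).hom y) hr').trans hz0
      rw [← ha] at h2
      have h3 : Ideal.Quotient.mk K a = 0 := h2
      exact Ideal.Quotient.eq_zero_iff_mem.mp h3
    intro r hr r' hr'
    rw [Ideal.mem_bot]
    obtain ⟨a, ha, hra⟩ := key r hr
    obtain ⟨a', ha', hra'⟩ := key r' hr'
    apply ΓSpecIso_hom_injective A₂
    have hz0 : (Scheme.ΓSpecIso A₂).hom (0 : Γ(Spec A₂, ⊤)) = 0 :=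
      map_zero (Scheme.ΓSpecIso A₂).hom.hom
    have hm : (Scheme.ΓSpecIso A₂).hom (r * r') =
        (Scheme.ΓSpecIso A₂).hom r * (Scheme.ΓSpecIso A₂).hom r' :=
      map_mul (Scheme.ΓSpecIso A₂).hom.hom r r'
    rw [hm, hra, hra', hz0, ← map_mul]
    exact Ideal.Quotient.eq_zero_iff_mem.mpr (Ideal.mul_mem_mul ha ha')
  -- the group and the action over `S₂`
  obtain ⟨e₂, he₂h, he₂i⟩ := exists_iso_isMonHom' (bcDSIso b₂ M)
  let X : Over S₂ := Red.bc b₂ G
  let u₀ : Red.bc b₂ (Red.DS T M) ⟶ X := (Over.pullback b₂).map u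
  haveI : IsMonHom u₀ := Functor.map.instIsMonHom (F := Over.pullback b₂) (Red.DS T M) G u
  let u₂ : Red.DS S₂ M ⟶ X := e₂.inv ≫ u₀
  have hu₂ : IsMonHom u₂ := inferInstance
  let a : AlgGrp.Action (Red.DS S₂ M) X := @translAction _ _ _ _ _ u₂ hu₂
  have hG : TwC.Locally S₂ TwC.Topology.fpqc (fun S' f => ∃ (M' : Type) (_ : AddCommGroup M'),
      Nonempty (Grp.mk (Red.bc f (Red.DS S₂ M)) ≅ Grp.mk (Red.DS S' M'))) := by
    refine ⟨S₂, 𝟙 S₂, inferInstance, inferInstance, ?_, ?_⟩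
    · intro V hV
      refine ⟨V, hV.isCompact, ?_⟩
      simp
    · intro s'
      exact ⟨⊤, trivial, M, inferInstance, ⟨bcDSIso ((⊤ : S₂.Opens).ι ≫ 𝟙 S₂) M⟩⟩
  have h0 : ∀ (Y : Over S₂) (_ : Y ⟶ Over.mk i₀) (c : Y ⟶ Red.DS S₂ M) (x : Y ⟶ X),
      lift c x ≫ a.act = x := by
    intro Y p c x
    change lift c x ≫ translAct u₂ = x
    rw [@lift_translAct _ _ _ _ _ u₂ hu₂]
    suffices h : c ≫ u₂ = 1 by rw [h, _root_.one_mul]
    apply tr_injective b₂
    rw [tr_one']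
    change tr b₂ (c ≫ e₂.inv ≫ (Over.pullback b₂).map u) = 1
    rw [← Category.assoc, tr_comp_map]
    have hE := (hrep A₁ q₁).mpr (fun a ha => Ideal.Quotient.eq_zero_iff_mem.mpr ha)
    rw [eqOn_one_iff] at hE
    refine hE ((Over.map b₂).obj Y) p.left ?_ _
    have hp : p.left ≫ i₀ = Y.hom := Over.w p
    change p.left ≫ Spec.map q₁ ≫ T.isoSpec.inv = Y.hom ≫ b₂
    rw [← hp, ← hψ, Spec.map_comp, Category.assoc, Category.assoc]
  have hall : ∀ (Y : Over S₂) (c : Y ⟶ Red.DS S₂ M) (x : Y ⟶ X), lift c x ≫ a.act = x :=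
    fun Y c x => action_trivial i₀ hnil (Red.DS S₂ M) X hG a h0 Y c x
  have hE₂ : EqOn u 1 b₂ := by
    rw [eqOn_one_iff]
    intro Y₁
    obtain ⟨Yl, ⟨⟨⟩⟩, Yh⟩ := Y₁
    intro (q : Yl ⟶ S₂) (hq : q ≫ b₂ = Yh) x
    subst hq
    let x' : (Over.map b₂).obj (Over.mk q) ⟶ Red.DS T M := x
    let c : Over.mk q ⟶ Red.DS S₂ M := trInv b₂ x' ≫ e₂.hom
    have h1 := hall (Over.mk q) c 1
    change lift c 1 ≫ translAct u₂ = 1 at h1
    rw [@lift_translAct _ _ _ _ _ u₂ hu₂, _root_.mul_one] at h1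
    have h2 : c ≫ u₂ = trInv b₂ x' ≫ (Over.pullback b₂).map u := by
      simp only [c, u₂, u₀, Category.assoc, Iso.hom_inv_id_assoc]
    rw [h2] at h1
    have h3 := congrArg (tr b₂) h1
    rw [tr_comp_map, tr_trInv, tr_one'] at h3
    exact h3
  have hfin := (hrep A₂ q₂).mp hE₂
  intro a ha
  exact Ideal.Quotient.eq_zero_iff_mem.mp (hfin a ha)

end Groth.Agent.Lib.Helper10.TrivLoc
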