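import Mathlib
import Groth.Agent.Lib.Helper10.TrivLoc3
import Groth.Agent.Lib.Helper10.KerGlobal

/-!
# SGA 3 IX 5.? : the locus where a homomorphism from a group of multiplicative type to a separated
group is trivial is open and closed
-/

set_option autoImplicit false
set_option backward.isDefEq.respectTransparency.types false
set_option maxHeartbeats 4000000
set_option synthInstance.maxHeartbeats 400000
universe u
open CategoryTheory CategoryTheory.Limits AlgebraicGeometry MonoidalCategory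
  CartesianMonoidalCategory MonObj GrpObj

namespace Groth.Agent.Lib.Helper10.TrivLoc

open Groth.Agent.Lib.Helper21.GaPts Groth.Agent.Lib.Helper10.DiagHom
  Groth.Agent.Lib.Helper10.TrivAct Groth.Agent.Lib.Helper10.KerIdeal
  Groth.Agent.Lib.Helper10.KerTriv Groth.Agent.Lib.Helper10.KerLocal
  Groth.Agent.Lib.Helper10.HomFamBC Groth.Agent.Lib.Helper10.DiagAdditive
  Groth.Agent.Lib.Helper10.MultTypeHom Groth.Agent.Lib.Helper10.MultTypeLocus
  Groth.Agent.Lib.Helper10.FpqcLocus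

section Affine

variable {S T : Scheme.{u}} [IsAffine T] (g₁ : T ⟶ S)

/-- in the locally noetherian case the representing ideal is finitely generated, by flat descent. -/
theorem fg_of_noetherian [Flat g₁] (V₀ : S.Opens) (hV₀ : IsAffineOpen V₀)
    [IsNoetherianRing Γ(S, V₀)] (hr : Set.range g₁ ⊆ (V₀ : Set S))
    (Pr : ∀ ⦃T' : Scheme.{u}⦄, (T' ⟶ S) → Prop) (K : Ideal Γ(T, ⊤))
    (hrepS : ∀ (C : CommRingCat.{u}) (β : Γ(T, ⊤) ⟶ C),
      Pr ((Spec.map β ≫ T.isoSpec.inv) ≫ g₁) ↔ ∀ a ∈ K, β a = 0) : K.FG := by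
  let R : CommRingCat.{u} := Γ(S, V₀)
  let fs : Spec R ⟶ S := hV₀.fromSpec
  have hr' : Set.range g₁ ⊆ Set.range fs := by
    rw [hV₀.range_fromSpec]
    exact hr
  obtain ⟨l, hl⟩ : ∃ l : T ⟶ Spec R, l ≫ fs = g₁ :=
    ⟨IsOpenImmersion.lift fs g₁ hr', IsOpenImmersion.lift_fac _ _ _⟩
  haveI : Flat l := by
    have h1 : Flat (l ≫ fs) := by
      rw [hl]
      infer_instance
    exact MorphismProperty.of_postcomp (W := @Flat) (W' := @IsOpenImmersion) l fs inferInstance h1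
  let φ : R ⟶ Γ(T, ⊤) := (Scheme.ΓSpecIso R).inv ≫ l.appTop
  have hφ : T.isoSpec.inv ≫ l = Spec.map φ := by
    rw [Spec.map_comp, ← Scheme.isoSpec_Spec_inv, Scheme.isoSpec_inv_naturality]
  have hflat : φ.hom.Flat := by
    have h1 : l.appTop.hom.Flat :=
      (HasRingHomProperty.iff_of_isAffine (P := @Flat)).mp inferInstance
    have h2 : (Scheme.ΓSpecIso R).inv.hom.Flat :=
      RingHom.Flat.of_bijective (ConcreteCategory.bijective_of_isIso (Scheme.ΓSpecIso R).inv)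
    exact RingHom.Flat.comp h2 h1
  have hdesc := eq_map_comap_of_flat φ.hom hflat K (by
    intro C _ β₁ β₂ h12
    have e : ∀ β : Γ(T, ⊤) ⟶ CommRingCat.of C,
        (Spec.map β ≫ T.isoSpec.inv) ≫ g₁ = Spec.map (φ ≫ β) ≫ fs := by
      intro β
      calc (Spec.map β ≫ T.isoSpec.inv) ≫ g₁
          = (Spec.map β ≫ T.isoSpec.inv) ≫ l ≫ fs := by rw [hl]
        _ = Spec.map β ≫ (T.isoSpec.inv ≫ l) ≫ fs := by simp only [Category.assoc]
        _ = Spec.map β ≫ Spec.map φ ≫ fs := by rw [hφ]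
        _ = Spec.map (φ ≫ β) ≫ fs := by rw [Spec.map_comp φ β, Category.assoc]
    have h1 := hrepS (CommRingCat.of C) (CommRingCat.ofHom β₁)
    have h2 := hrepS (CommRingCat.of C) (CommRingCat.ofHom β₂)
    rw [e] at h1 h2
    have e12 : φ ≫ CommRingCat.ofHom β₁ = φ ≫ CommRingCat.ofHom β₂ := CommRingCat.hom_ext h12
    rw [e12] at h1
    exact h1.symm.trans h2)
  rw [hdesc]
  exact Ideal.FG.map (IsNoetherian.noetherian _) _

theorem ι_eq_of_affine (W₁ : T.Opens) [IsAffine W₁.toScheme] :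
    W₁.ι = W₁.toScheme.isoSpec.hom ≫ Spec.map W₁.ι.appTop ≫ T.isoSpec.inv := by
  rw [← Category.assoc, Scheme.isoSpec_hom_naturality, Category.assoc, Iso.hom_inv_id,
    Category.comp_id]

/-- the point of `T` corresponding to a prime, as a morphism from the spectrum of its residue
field. -/
theorem residue_point (w : T) :
    (Spec.map (CommRingCat.ofHom (algebraMap Γ(T, ⊤) (T.isoSpec.hom w).asIdeal.ResidueField)) ≫
      T.isoSpec.inv) (IsLocalRing.closedPoint (T.isoSpec.hom w).asIdeal.ResidueField) = w := by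
  let p : Ideal Γ(T, ⊤) := (T.isoSpec.hom w).asIdeal
  have h1 : Spec.map (CommRingCat.ofHom (algebraMap Γ(T, ⊤) p.ResidueField))
      (IsLocalRing.closedPoint p.ResidueField) = T.isoSpec.hom w := by
    apply PrimeSpectrum.ext
    change Ideal.comap (algebraMap Γ(T, ⊤) p.ResidueField)
      (IsLocalRing.maximalIdeal p.ResidueField) = p
    rw [IsLocalRing.maximalIdeal_eq_bot, ← RingHom.ker_eq_comap_bot,
      Ideal.ker_algebraMap_residueField]
  change T.isoSpec.inv (Spec.map _ _) = w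
  rw [h1, ← Scheme.Hom.comp_apply, Iso.hom_inv_id]
  rfl

end Affine

section Chart

variable {S : Scheme.{u}} (H G : Over S) [GrpObj H] [GrpObj G] [IsSeparated G.hom]
  (u : H ⟶ G) [IsMonHom u]

open scoped Obj in
set_option maxHeartbeats 16000000 in
/-- the local statement on a chart of the fpqc covering. -/
theorem chart_local (hG : IsLocallyNoetherian S ∨ LocallyOfFinitePresentation G.hom)
    {U₀ : Scheme.{u}} (a : U₀ ⟶ S) [Flat a] (M : Type) [AddCommGroup M]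
    (ψ : Grp.mk (Red.bc a H) ≅ Grp.mk (Red.DS U₀ M)) (t₀ : U₀) :
    ∃ W : U₀.Opens, t₀ ∈ W ∧ (EqOn u 1 (W.ι ≫ a) ∨
      ∀ w ∈ W, ¬ EqOn u 1 (S.fromSpecResidueField (a w))) := by
  have hL := isLocalBC_eqOn u (1 : H ⟶ G)
  obtain ⟨(V₀ : S.Opens), hV₀, htV₀, -⟩ :=
    TopologicalSpace.Opens.isBasis_iff_nbhd.mp S.isBasis_affineOpens
      (TopologicalSpace.Opens.mem_top (a t₀))
  obtain ⟨(V : U₀.Opens), hV, htV, hVV₀⟩ :=
    TopologicalSpace.Opens.isBasis_iff_nbhd.mp U₀.isBasis_affineOpens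
      (show t₀ ∈ a ⁻¹ᵁ V₀ from htV₀)
  haveI : IsAffine V.toScheme := hV
  let g₁ : V.toScheme ⟶ S := V.ι ≫ a
  haveI : Flat g₁ := inferInstanceAs (Flat (V.ι ≫ a))
  let ψ' : Grp.mk (Red.bc g₁ H) ≅ Grp.mk (Red.DS V.toScheme M) := trivIso H a V.ι g₁ rfl M ψ
  obtain ⟨e, he, he'⟩ := exists_iso_isMonHom' ψ'
  let u₀ : Red.bc g₁ H ⟶ Red.bc g₁ G := (Over.pullback g₁).map u
  haveI : IsMonHom u₀ := Functor.map.instIsMonHom (F := Over.pullback g₁) H G u
  haveI : IsSeparated (Red.bc g₁ G).hom :=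
    inferInstanceAs (IsSeparated (pullback.snd G.hom g₁))
  let u' : Red.DS V.toScheme M ⟶ Red.bc g₁ G := e.inv ≫ u₀
  have hu' : IsMonHom u' := inferInstance
  obtain ⟨K, hKfg, hrep⟩ := @exists_rep _ _ M _ _ _ _ u' hu'
  have hidem : K ≤ K * K := @rep_idem _ _ M _ _ _ u' hu' K hrep
  have hrepS : ∀ (C : CommRingCat.{u}) (β : Γ(V.toScheme, ⊤) ⟶ C),
      EqOn u 1 ((Spec.map β ≫ V.toScheme.isoSpec.inv) ≫ g₁) ↔ ∀ a ∈ K, β a = 0 :=
    fun C β => (eqOn_chart_iff u g₁ e _).trans (hrep C β)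
  -- finite generation
  have hfg : K.FG := by
    rcases hG with hN | hfp
    · haveI := hN
      haveI : IsNoetherianRing Γ(S, V₀) :=
        IsLocallyNoetherian.component_noetherian (⟨V₀, hV₀⟩ : S.affineOpens)
      refine fg_of_noetherian g₁ V₀ hV₀ ?_ (fun ⦃T'⦄ g => EqOn u 1 g) K hrepS
      rintro _ ⟨z, rfl⟩
      exact hVV₀ z.2
    · haveI := hfp
      exact hKfg (inferInstanceAs (LocallyOfFinitePresentation (pullback.snd G.hom g₁)))
  -- the point
  let t₁ : V.toScheme := ⟨t₀, htV⟩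
  let p : Ideal Γ(V.toScheme, ⊤) := (V.toScheme.isoSpec.hom t₁).asIdeal
  haveI : p.IsPrime := (V.toScheme.isoSpec.hom t₁).isPrime
  have hmem : ∀ (r : Γ(V.toScheme, ⊤)) (w : V.toScheme),
      w ∈ V.toScheme.basicOpen r ↔ r ∉ (V.toScheme.isoSpec.hom w).asIdeal := by
    intro r w
    have h1 := Scheme.map_PrimeSpectrum_basicOpen_of_affine V.toScheme r
    rw [← h1]
    rfl
  -- transport of an open of the chart
  have htrans : ∀ W₁ : V.toScheme.Opens, t₁ ∈ W₁ →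
      (EqOn u 1 (W₁.ι ≫ g₁) ∨ ∀ w ∈ W₁, ¬ EqOn u 1 (S.fromSpecResidueField (g₁ w))) →
      ∃ W : U₀.Opens, t₀ ∈ W ∧ (EqOn u 1 (W.ι ≫ a) ∨
        ∀ w ∈ W, ¬ EqOn u 1 (S.fromSpecResidueField (a w))) := by
    intro W₁ ht₁ h
    refine ⟨V.ι ''ᵁ W₁, ⟨t₁, ht₁, rfl⟩, ?_⟩
    rcases h with h | h
    · left
      have hr : Set.range (V.ι ''ᵁ W₁).ι ⊆ Set.range (W₁.ι ≫ V.ι) := by
        rintro _ ⟨z, rfl⟩
        obtain ⟨w, hw, hwz⟩ := z.2
        exact ⟨⟨w, hw⟩, hwz⟩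
      have hb : IsOpenImmersion.lift (W₁.ι ≫ V.ι) (V.ι ''ᵁ W₁).ι hr ≫ (W₁.ι ≫ V.ι) =
          (V.ι ''ᵁ W₁).ι := IsOpenImmersion.lift_fac _ _ _
      rw [← hb, Category.assoc, Category.assoc]
      exact hL.comp _ _ h
    · right
      rintro _ ⟨w, hw, rfl⟩
      exact h w hw
  by_cases hKp : K ≤ p
  · -- trivial near `t₁`
    obtain ⟨r, hrp, hrK⟩ := exists_annihilator_of_idem K hfg hidem p hKp
    let W₁ : V.toScheme.Opens := V.toScheme.basicOpen r
    refine htrans W₁ ((hmem r t₁).mpr hrp) (Or.inl ?_)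
    haveI : IsAffine W₁.toScheme := (isAffineOpen_top V.toScheme).basicOpen r
    have hE : EqOn u 1 ((Spec.map W₁.ι.appTop ≫ V.toScheme.isoSpec.inv) ≫ g₁) := by
      rw [hrepS]
      intro a' ha'
      have h1 : W₁.ι.appTop r * W₁.ι.appTop a' = 0 := by
        rw [← map_mul, hrK a' ha', map_zero]
      have h2 : IsUnit (W₁.ι.appTop r) := isUnit_ι_appTop_basicOpen r
      exact (h2.mul_right_eq_zero).mp h1
    have hcomp := hL.comp W₁.toScheme.isoSpec.hom _ hE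
    have e' : W₁.toScheme.isoSpec.hom ≫ (Spec.map W₁.ι.appTop ≫ V.toScheme.isoSpec.inv) ≫ g₁ =
        W₁.ι ≫ g₁ := by
      conv_rhs => rw [ι_eq_of_affine W₁]
      simp only [Category.assoc]
    rw [← e']
    exact hcomp
  · -- nowhere trivial near `t₁`
    obtain ⟨a', ha'K, ha'p⟩ := Set.not_subset.mp hKp
    let W₁ : V.toScheme.Opens := V.toScheme.basicOpen a'
    refine htrans W₁ ((hmem a' t₁).mpr ha'p) (Or.inr ?_)
    intro w hw hE
    let pw : Ideal Γ(V.toScheme, ⊤) := (V.toScheme.isoSpec.hom w).asIdeal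
    haveI : pw.IsPrime := (V.toScheme.isoSpec.hom w).isPrime
    let β : Γ(V.toScheme, ⊤) ⟶ CommRingCat.of pw.ResidueField :=
      CommRingCat.ofHom (algebraMap Γ(V.toScheme, ⊤) pw.ResidueField)
    let f₀ : Spec (CommRingCat.of pw.ResidueField) ⟶ V.toScheme :=
      Spec.map β ≫ V.toScheme.isoSpec.inv
    have hf₀ : f₀ (IsLocalRing.closedPoint pw.ResidueField) = w := residue_point w
    have h1 := Scheme.descResidueField_stalkClosedPointTo_fromSpecResidueField pw.ResidueField S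
      (f₀ ≫ g₁)
    have h2 : (f₀ ≫ g₁) (IsLocalRing.closedPoint pw.ResidueField) = g₁ w := by
      rw [Scheme.Hom.comp_apply, hf₀]
    have h3 : EqOn u 1 (f₀ ≫ g₁) := by
      rw [← h1]
      refine hL.comp _ _ ?_
      rw [h2]
      exact hE
    have h4 := (hrepS _ β).mp h3 a' ha'K
    have h5 : a' ∈ pw := by
      have : a' ∈ RingHom.ker (algebraMap Γ(V.toScheme, ⊤) pw.ResidueField) := h4
      rwa [Ideal.ker_algebraMap_residueField] at this
    exact ((hmem a' w).mp hw) h5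

end Chart

section Global

variable {S : Scheme.{u}} (H G : Over S) [GrpObj H] [GrpObj G] [IsSeparated G.hom]
  (u : H ⟶ G) [IsMonHom u]

/-- **the locus where `u` is trivial is open and closed.** -/
theorem clopen_triv_locus (hH : SGA3x.IsMultTypeFT H)
    (hG : IsLocallyNoetherian S ∨ LocallyOfFinitePresentation G.hom) :
    ∃ U : S.Opens, IsClosed (U : Set S) ∧
      (∀ s : S, s ∈ U ↔ EqOn u 1 (S.fromSpecResidueField s)) ∧ EqOn u 1 U.ι := by
  obtain ⟨S', cov, hfl, -, hfpqc, hloc⟩ := hH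
  haveI := hfl
  have hL := isLocalBC_eqOn u (1 : H ⟶ G)
  refine clopen_locus hL cov hfpqc (fun t => ?_)
  obtain ⟨U₀, htU₀, M, _, -, ⟨ψ⟩⟩ := hloc t
  obtain ⟨W, htW, hW⟩ := chart_local H G u hG (U₀.ι ≫ cov) M ψ ⟨t, htU₀⟩
  refine ⟨U₀.ι ''ᵁ W, ⟨⟨t, htU₀⟩, htW, rfl⟩, ?_⟩
  rcases hW with hW | hW
  · left
    have hr : Set.range (U₀.ι ''ᵁ W).ι ⊆ Set.range (W.ι ≫ U₀.ι) := by
      rintro _ ⟨z, rfl⟩
      obtain ⟨w, hw, hwz⟩ := z.2
      exact ⟨⟨w, hw⟩, hwz⟩
    have hb : IsOpenImmersion.lift (W.ι ≫ U₀.ι) (U₀.ι ''ᵁ W).ι hr ≫ (W.ι ≫ U₀.ι) =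
        (U₀.ι ''ᵁ W).ι := IsOpenImmersion.lift_fac _ _ _
    rw [← hb, Category.assoc, Category.assoc]
    exact hL.comp _ _ hW
  · right
    rintro _ ⟨w, hw, rfl⟩
    exact hW w hw

/-- **SGA 3 IX**, in the form of the statement. -/
theorem clopen_triv_locus' (hH : SGA3x.IsMultTypeFT H)
    (hG : IsLocallyNoetherian S ∨ LocallyOfFinitePresentation G.hom) :
    ∃ U : S.Opens, IsClosed (U : Set S) ∧
      (∀ s : S, s ∈ U ↔ (Over.pullback (S.fromSpecResidueField s)).map u = 1) ∧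
      (Over.pullback U.ι).map u = 1 := by
  obtain ⟨U, hUc, hU1, hU2⟩ := clopen_triv_locus H G u hH hG
  exact ⟨U, hUc, fun s => (hU1 s).trans (pullback_map_eq_one_iff u _).symm,
    (pullback_map_eq_one_iff u _).mpr hU2⟩

end Global

end Groth.Agent.Lib.Helper10.TrivLoc
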