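import Mathlib
import Groth.Agent.Lib.Helper12.FinSigma

set_option autoImplicit false
set_option linter.unusedSectionVars false
set_option linter.style.haveILetI false
set_option backward.isDefEq.respectTransparency.types false
set_option maxHeartbeats 4000000
set_option synthInstance.maxHeartbeats 400000

universe u

open CategoryTheory CategoryTheory.Limits AlgebraicGeometry Opposite

namespace Groth.Agent.Lib.Helper10.TwCFin

section Chart

variable {S S' Zs Pl : Scheme.{u}} (pP : Pl ⟶ S) (z : Zs ⟶ Pl) [IsOpenImmersion z]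
  [IsClosedImmersion z] (f : S' ⟶ S) {I : Type u}
  (ε : pullback pP f ≅ ∐ fun _ : I => S')
  (hε : ε.hom ≫ Sigma.desc (fun _ : I => 𝟙 S') = pullback.snd pP f)
  (W : S'.Opens) (hW : _root_.IsPreconnected (W : Set S'))

/-- the `i`-th section of `P ×_S S' ≅ ∐_I S'`, composed to `P` -/
noncomputable def tau (i : I) : S' ⟶ Pl :=
  Sigma.ι (fun _ : I => S') i ≫ ε.inv ≫ pullback.fst pP f

include hε in
theorem tau_comp (i : I) : tau pP f ε i ≫ pP = f := by
  have h1 : ε.inv ≫ pullback.snd pP f = Sigma.desc (fun _ : I => 𝟙 S') := by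
    rw [← hε, Iso.inv_hom_id_assoc]
  unfold tau
  rw [Category.assoc, Category.assoc, pullback.condition, reassoc_of% h1, Sigma.ι_desc_assoc,
    Category.id_comp]

/-- the clopen locus where the `i`-th section lands in `Z` -/
noncomputable def locus (i : I) : S'.Opens := tau pP f ε i ⁻¹ᵁ z.opensRange

theorem isClopen_locus (i : I) : IsClopen (locus pP z f ε i : Set S') := by
  refine ⟨?_, (locus pP z f ε i).isOpen⟩
  have : IsClosed (z.opensRange : Set Pl) := z.isClosedEmbedding.isClosed_range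
  exact this.preimage (tau pP f ε i).continuous

/-- the index set of sections meeting `Z` over `W` -/
def Idx : Type u := {i : I // ((W : Set S') ∩ (locus pP z f ε i : Set S')).Nonempty}

include hW in
theorem le_locus (j : Idx pP z f ε W) : W ≤ locus pP z f ε j.1 :=
  hW.subset_isClopen (isClopen_locus pP z f ε j.1) j.2

/-- the lift of the `j`-th section over `W` to `Z` -/
noncomputable def beta (j : Idx pP z f ε W) : (W : Scheme.{u}) ⟶ Zs :=
  IsOpenImmersion.lift z (W.ι ≫ tau pP f ε j.1) (by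
    rintro _ ⟨w, rfl⟩
    have := le_locus pP z f ε W hW j w.2
    exact this)

theorem beta_fac (j : Idx pP z f ε W) : beta pP z f ε W hW j ≫ z = W.ι ≫ tau pP f ε j.1 :=
  IsOpenImmersion.lift_fac _ _ _

include hε in
theorem beta_comp (j : Idx pP z f ε W) : beta pP z f ε W hW j ≫ z ≫ pP = 𝟙 _ ≫ W.ι ≫ f := by
  rw [← Category.assoc, beta_fac, Category.assoc, tau_comp pP f ε hε, Category.id_comp]

/-- the `j`-th section of `Z ×_S W → W` -/
noncomputable def alpha (j : Idx pP z f ε W) : (W : Scheme.{u}) ⟶ pullback (z ≫ pP) (W.ι ≫ f) :=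
  pullback.lift (beta pP z f ε W hW j) (𝟙 _) (beta_comp pP z f ε hε W hW j)

theorem alpha_snd (j : Idx pP z f ε W) :
    alpha pP z f ε hε W hW j ≫ pullback.snd (z ≫ pP) (W.ι ≫ f) = 𝟙 _ :=
  pullback.lift_snd _ _ _

theorem alpha_fst (j : Idx pP z f ε W) :
    alpha pP z f ε hε W hW j ≫ pullback.fst (z ≫ pP) (W.ι ≫ f) = beta pP z f ε W hW j :=
  pullback.lift_fst _ _ _

/-- the open immersion `Z ×_S W → P ×_S S'` -/
noncomputable def nu : pullback (z ≫ pP) (W.ι ≫ f) ⟶ pullback pP f :=
  pullback.map (z ≫ pP) (W.ι ≫ f) pP f z W.ι (𝟙 S) (by simp) (by simp)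

instance : IsOpenImmersion (nu pP z f W) := by
  unfold nu; infer_instance

/-- the open immersion `Z ×_S W → ∐_I S'` -/
noncomputable def omega : pullback (z ≫ pP) (W.ι ≫ f) ⟶ ∐ fun _ : I => S' :=
  nu pP z f W ≫ ε.hom

instance : IsOpenImmersion (omega pP z f ε W) := by
  unfold omega; infer_instance

theorem alpha_omega (j : Idx pP z f ε W) :
    alpha pP z f ε hε W hW j ≫ omega pP z f ε W = W.ι ≫ Sigma.ι (fun _ : I => S') j.1 := by
  have h1 : ε.inv ≫ pullback.snd pP f = Sigma.desc (fun _ : I => 𝟙 S') := by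
    rw [← hε, Iso.inv_hom_id_assoc]
  have h2 : alpha pP z f ε hε W hW j ≫ nu pP z f W =
      W.ι ≫ Sigma.ι (fun _ : I => S') j.1 ≫ ε.inv := by
    apply pullback.hom_ext
    · unfold nu
      rw [Category.assoc, pullback.lift_fst, ← Category.assoc, alpha_fst, beta_fac]
      simp only [tau, Category.assoc]
    · unfold nu
      rw [Category.assoc, pullback.lift_snd, ← Category.assoc, alpha_snd, Category.id_comp]
      simp only [Category.assoc]
      rw [h1, Sigma.ι_desc, Category.comp_id]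
  unfold omega
  rw [← Category.assoc, h2]
  simp

include hε in
theorem omega_snd :
    omega pP z f ε W ≫ Sigma.desc (fun _ : I => 𝟙 S') =
      pullback.snd (z ≫ pP) (W.ι ≫ f) ≫ W.ι := by
  unfold omega nu
  rw [Category.assoc, hε, pullback.lift_snd]

theorem omega_fst :
    omega pP z f ε W ≫ ε.inv ≫ pullback.fst pP f =
      pullback.fst (z ≫ pP) (W.ι ≫ f) ≫ z := by
  unfold omega nu
  rw [Category.assoc, Iso.hom_inv_id_assoc, pullback.lift_fst]

instance (j : Idx pP z f ε W) : IsOpenImmersion (alpha pP z f ε hε W hW j) := by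
  haveI : IsOpenImmersion (alpha pP z f ε hε W hW j ≫ omega pP z f ε W) := by
    rw [alpha_omega]; infer_instance
  exact IsOpenImmersion.of_comp _ (omega pP z f ε W)

include hW hε in
/-- every point of `Z ×_S W` lies on one of the sections -/
theorem exists_alpha_eq (q : ↥(pullback (z ≫ pP) (W.ι ≫ f))) :
    ∃ j : Idx pP z f ε W, alpha pP z f ε hε W hW j (pullback.snd (z ≫ pP) (W.ι ≫ f) q) = q := by
  obtain ⟨i, s₁, hs₁⟩ := (sigmaOpenCover (fun _ : I => S')).exists_eq (omega pP z f ε W q)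
  change Sigma.ι (fun _ : I => S') i s₁ = omega pP z f ε W q at hs₁
  set w := pullback.snd (z ≫ pP) (W.ι ≫ f) q with hw
  have hs₁w : s₁ = W.ι w := by
    have h1 := congrArg (fun φ : pullback (z ≫ pP) (W.ι ≫ f) ⟶ S' => φ q) (omega_snd pP z f ε hε W)
    simp only [Scheme.Hom.comp_apply] at h1
    rw [← hs₁, ← Scheme.Hom.comp_apply, Sigma.ι_desc] at h1
    exact h1
  have hmem : W.ι w ∈ locus pP z f ε i := by
    change tau pP f ε i (W.ι w) ∈ z.opensRange
    have h1 := congrArg (fun φ : pullback (z ≫ pP) (W.ι ≫ f) ⟶ Pl => φ q) (omega_fst pP z f ε W)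
    simp only [Scheme.Hom.comp_apply] at h1
    unfold tau
    simp only [Scheme.Hom.comp_apply]
    rw [← hs₁w, hs₁, h1]
    exact ⟨_, rfl⟩
  let j : Idx pP z f ε W := ⟨i, ⟨W.ι w, w.2, hmem⟩⟩
  refine ⟨j, ?_⟩
  apply (omega pP z f ε W).isOpenEmbedding.injective
  rw [← Scheme.Hom.comp_apply, alpha_omega, Scheme.Hom.comp_apply, ← hs₁w, hs₁]

theorem alpha_injective (w : ↥(W : Scheme.{u})) :
    Function.Injective (fun j : Idx pP z f ε W => alpha pP z f ε hε W hW j w) := by
  intro j j' hjj
  have h1 := congrArg (omega pP z f ε W) hjj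
  simp only [← Scheme.Hom.comp_apply, alpha_omega] at h1
  simp only [Scheme.Hom.comp_apply] at h1
  have := (sigmaι_eq_iff _ _ _ _ _).mp h1
  exact Subtype.ext (congrArg Sigma.fst this)

include hW hε in
theorem isIso_sigmaDesc_alpha :
    IsIso (Sigma.desc (fun j : Idx pP z f ε W => alpha pP z f ε hε W hW j)) := by
  have hcov : ⨆ j : Idx pP z f ε W, (alpha pP z f ε hε W hW j).opensRange = ⊤ := by
    rw [eq_top_iff]
    rintro q -
    obtain ⟨j, hj⟩ := exists_alpha_eq pP z f ε hε W hW q
    exact TopologicalSpace.Opens.mem_iSup.2 ⟨j, _, hj⟩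
  have hdisj : Pairwise (Function.onFun Disjoint
      fun j : Idx pP z f ε W => (alpha pP z f ε hε W hW j).opensRange) := by
    intro j j' hjj
    rw [Function.onFun, disjoint_iff]
    ext q
    simp only [TopologicalSpace.Opens.coe_inf, Set.mem_inter_iff, TopologicalSpace.Opens.coe_bot,
      Set.mem_empty_iff_false, iff_false, not_and]
    rintro ⟨w, hw⟩ ⟨w', hw'⟩
    have h1 : w = w' := by
      have e1 := congrArg (pullback.snd (z ≫ pP) (W.ι ≫ f)) hw
      have e2 := congrArg (pullback.snd (z ≫ pP) (W.ι ≫ f)) hw'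
      rw [← Scheme.Hom.comp_apply, alpha_snd] at e1 e2
      exact e1.trans e2.symm
    subst h1
    exact hjj (alpha_injective pP z f ε hε W hW w (hw.trans hw'.symm))
  have := nonempty_isColimit_cofanMk_of
    (fun j : Idx pP z f ε W => alpha pP z f ε hε W hW j) hcov hdisj
  rw [Cofan.nonempty_isColimit_iff_isIso_sigmaDesc] at this
  exact this

include hW hε in
theorem isFinite_snd [Finite (Idx pP z f ε W)] :
    IsFinite (pullback.snd (z ≫ pP) (W.ι ≫ f)) := by
  haveI := isIso_sigmaDesc_alpha pP z f ε hε W hW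
  have h1 : Sigma.desc (fun j : Idx pP z f ε W => alpha pP z f ε hε W hW j) ≫
      pullback.snd (z ≫ pP) (W.ι ≫ f) =
      Sigma.desc (fun _ : Idx pP z f ε W => 𝟙 (W : Scheme.{u})) := by
    apply Sigma.hom_ext
    intro j
    rw [Sigma.ι_desc_assoc, alpha_snd, Sigma.ι_desc]
  have h2 : pullback.snd (z ≫ pP) (W.ι ≫ f) =
      inv (Sigma.desc (fun j : Idx pP z f ε W => alpha pP z f ε hε W hW j)) ≫
      Sigma.desc (fun _ : Idx pP z f ε W => 𝟙 (W : Scheme.{u})) := by
    rw [← h1, IsIso.inv_hom_id_assoc]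
  rw [h2]
  haveI : IsFinite (Sigma.desc (fun _ : Idx pP z f ε W => 𝟙 (W : Scheme.{u}))) :=
    H12FinSigma.isFinite_sigmaDesc _ (fun _ => inferInstance)
  infer_instance

include hW hε in
theorem snd_preimage_eq (w : ↥(W : Scheme.{u})) :
    (pullback.snd (z ≫ pP) (W.ι ≫ f)) ⁻¹' {w} =
      Set.range (fun j : Idx pP z f ε W => alpha pP z f ε hε W hW j w) := by
  ext q
  simp only [Set.mem_preimage, Set.mem_singleton_iff, Set.mem_range]
  constructor
  · intro hq
    obtain ⟨j, hj⟩ := exists_alpha_eq pP z f ε hε W hW q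
    exact ⟨j, by rw [← hq]; exact hj⟩
  · rintro ⟨j, rfl⟩
    rw [← Scheme.Hom.comp_apply, alpha_snd]
    rfl

include hW hε in
theorem snd_preimage_finite_iff (w : ↥(W : Scheme.{u})) :
    ((pullback.snd (z ≫ pP) (W.ι ≫ f)) ⁻¹' {w}).Finite ↔ Finite (Idx pP z f ε W) := by
  rw [snd_preimage_eq pP z f ε hε W hW w]
  constructor
  · intro h
    haveI : Finite (Set.range (fun j : Idx pP z f ε W => alpha pP z f ε hε W hW j w)) := h
    exact Finite.of_injective
      (fun j => (⟨_, j, rfl⟩ : Set.range (fun j : Idx pP z f ε W => alpha pP z f ε hε W hW j w)))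
      (fun j j' hjj => alpha_injective pP z f ε hε W hW w (congrArg Subtype.val hjj))
  · intro h
    exact Set.finite_range _

end Chart

end Groth.Agent.Lib.Helper10.TwCFin
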