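import Mathlib
import Groth.Agent.Lib.Helper10.TwCFin1
import Groth.Agent.Lib.Helper10.FinLocFreeDescent
import Groth.Agent.Lib.Helper24.Filt5a

set_option autoImplicit false
set_option linter.unusedSectionVars false
set_option linter.style.haveILetI false
set_option backward.isDefEq.respectTransparency.types false
set_option maxHeartbeats 4000000
set_option synthInstance.maxHeartbeats 400000

universe u

open CategoryTheory CategoryTheory.Limits AlgebraicGeometry Opposite

namespace Groth.Agent.Lib.Helper10.TwCFin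

section Chart

variable {S S' Zs Pl : Scheme.{u}} (pP : Pl ⟶ S) (z : Zs ⟶ Pl) [IsOpenImmersion z]
  [IsClosedImmersion z] (f : S' ⟶ S) {I : Type u}
  (ε : pullback pP f ≅ ∐ fun _ : I => S')
  (hε : ε.hom ≫ Sigma.desc (fun _ : I => 𝟙 S') = pullback.snd pP f)
  (W : S'.Opens) (hW : _root_.IsPreconnected (W : Set S'))

include hW hε in
theorem fiber_finite_iff [Etale f] [QuasiCompact (W.ι ≫ f)] (w : ↥(W : Scheme.{u})) :
    ((z ≫ pP) ⁻¹' {(W.ι ≫ f) w}).Finite ↔ Finite (Idx pP z f ε W) := by
  rw [← snd_preimage_finite_iff pP z f ε hε W hW w]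
  haveI : Etale (W.ι ≫ f) := inferInstance
  haveI : LocallyQuasiFinite (W.ι ≫ f) :=
    Groth.Agent.Lib.Helper24.Filt5a.locallyQuasiFinite_of_etale _
  constructor
  · intro h
    have hsub : (pullback.snd (z ≫ pP) (W.ι ≫ f)) ⁻¹' {w} ⊆
        (pullback.fst (z ≫ pP) (W.ι ≫ f)) ⁻¹' ((z ≫ pP) ⁻¹' {(W.ι ≫ f) w}) := by
      intro q hq
      simp only [Set.mem_preimage, Set.mem_singleton_iff] at hq ⊢
      rw [← Scheme.Hom.comp_apply, pullback.condition, Scheme.Hom.comp_apply, hq]
    exact ((pullback.fst (z ≫ pP) (W.ι ≫ f)).finite_preimage h).subset hsub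
  · intro h
    refine (h.image (pullback.fst (z ≫ pP) (W.ι ≫ f))).subset ?_
    intro y hy
    simp only [Set.mem_preimage, Set.mem_singleton_iff] at hy
    obtain ⟨q, hq1, hq2⟩ := Scheme.Pullback.exists_preimage_pullback (f := z ≫ pP)
      (g := W.ι ≫ f) y w hy
    exact ⟨q, hq2, hq1⟩

end Chart

end Groth.Agent.Lib.Helper10.TwCFin
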