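import Mathlib
import Groth.Agent.Lib.Helper10.TwCFin2

set_option autoImplicit false
set_option linter.unusedSectionVars false
set_option linter.style.haveILetI false
set_option backward.isDefEq.respectTransparency.types false
set_option maxHeartbeats 4000000
set_option synthInstance.maxHeartbeats 400000

universe u

open CategoryTheory CategoryTheory.Limits AlgebraicGeometry Opposite

namespace Groth.Agent.Lib.Helper10.TwCFin

/-- descent of finiteness along an étale morphism onto an open subscheme -/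
theorem isFinite_restrict_of_pullback {S Z W : Scheme.{u}} (h : Z ⟶ S) (g : W ⟶ S) [Etale g]
    (U : S.Opens) (hU : (U : Set S) = Set.range g)
    (hfin : IsFinite (pullback.snd h g)) : IsFinite (h ∣_ U) := by
  have hr : Set.range g ⊆ Set.range U.ι := by
    rw [Scheme.Opens.range_ι, hU]
  let g' : W ⟶ (U : Scheme.{u}) := IsOpenImmersion.lift U.ι g hr
  have hfac : g' ≫ U.ι = g := IsOpenImmersion.lift_fac _ _ _
  haveI : Etale (g' ≫ U.ι) := by rw [hfac]; infer_instance
  haveI : Etale g' := Etale.of_comp g' U.ι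
  haveI : Surjective g' := by
    refine ⟨fun u => ?_⟩
    have : U.ι u ∈ Set.range g := by rw [← hU]; exact u.2
    obtain ⟨w, hw⟩ := this
    refine ⟨w, ?_⟩
    apply U.ι.isOpenEmbedding.injective
    rw [← Scheme.Hom.comp_apply, hfac, hw]
  have s : IsPullback (pullback.fst h g) (pullback.snd h g) h (g' ≫ U.ι) := by
    rw [hfac]; exact IsPullback.of_hasPullback h g
  have t : IsPullback (h ⁻¹ᵁ U).ι (h ∣_ U) h U.ι := (isPullback_morphismRestrict h U).flip
  have key := (IsPullback.of_right' s t).flip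
  haveI := Groth.Agent.Lib.Helper10.FinLocFreeDescent.isFinite_descendsAlong.{u}
  exact MorphismProperty.of_isPullback_of_descendsAlong (P := @IsFinite)
    (Q := @Surjective ⊓ @Flat ⊓ @LocallyOfFinitePresentation) key
    ⟨⟨inferInstance, inferInstance⟩, inferInstance⟩ hfin

/-- **Main theorem** (abstract form): an open and closed subscheme `Z` of an `S`-scheme `P` which
is étale locally a disjoint union of copies of the base, with one finite fibre, is finite over a
connected base. -/
theorem isFinite_of_charts {S Zs Pl : Scheme.{u}} [ConnectedSpace S] (pP : Pl ⟶ S) (z : Zs ⟶ Pl)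
    [IsOpenImmersion z] [IsClosedImmersion z]
    (hchart : ∀ s : S, ∃ (S' : Scheme.{u}) (f : S' ⟶ S) (_ : Etale f) (I : Type u)
      (ε : pullback pP f ≅ ∐ fun _ : I => S')
      (_ : ε.hom ≫ Sigma.desc (fun _ : I => 𝟙 S') = pullback.snd pP f) (W : S'.Opens),
      _root_.IsPreconnected (W : Set S') ∧ QuasiCompact (W.ι ≫ f) ∧ s ∈ Set.range (W.ι ≫ f))
    (hs : ∃ s : S, Set.Finite ((z ≫ pP) ⁻¹' {s})) : IsFinite (z ≫ pP) := by
  choose S' f hf I ε hε W hW hqc hmem using hchart
  let F : Set S := {s | ((z ≫ pP) ⁻¹' {s}).Finite}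
  have hopen : ∀ s, IsOpen (Set.range ((W s).ι ≫ f s)) := fun s =>
    ((W s).ι ≫ f s).isOpenMap.isOpen_range
  -- the dichotomy
  have hdich : ∀ s t, t ∈ Set.range ((W s).ι ≫ f s) → t ∈ F →
      Finite (Idx pP z (f s) (ε s) (W s)) ∧ Set.range ((W s).ι ≫ f s) ⊆ F := by
    intro s t ht htF
    obtain ⟨w, rfl⟩ := ht
    haveI := hf s
    haveI := hqc s
    have h1 : Finite (Idx pP z (f s) (ε s) (W s)) :=
      (fiber_finite_iff pP z (f s) (ε s) (hε s) (W s) (hW s) w).mp htF
    refine ⟨h1, ?_⟩
    rintro _ ⟨w', rfl⟩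
    exact (fiber_finite_iff pP z (f s) (ε s) (hε s) (W s) (hW s) w').mpr h1
  have hFopen : IsOpen F := by
    rw [isOpen_iff_forall_mem_open]
    intro s hsF
    exact ⟨_, (hdich s s (hmem s) hsF).2, hopen s, hmem s⟩
  have hFcopen : IsOpen Fᶜ := by
    rw [isOpen_iff_forall_mem_open]
    intro s hsF
    refine ⟨_, ?_, hopen s, hmem s⟩
    intro t ht htF
    exact hsF ((hdich s t ht htF).2 (hmem s))
  have hFclopen : IsClopen F := ⟨isOpen_compl_iff.mp hFcopen, hFopen⟩
  have hFuniv : F = Set.univ := hFclopen.eq_univ hs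
  have hfinIdx : ∀ s, Finite (Idx pP z (f s) (ε s) (W s)) := fun s =>
    (hdich s s (hmem s) (by rw [hFuniv]; trivial)).1
  let U : S → S.Opens := fun s => ⟨Set.range ((W s).ι ≫ f s), hopen s⟩
  have hU : iSup U = ⊤ := by
    rw [eq_top_iff]
    intro s _
    exact TopologicalSpace.Opens.mem_iSup.2 ⟨s, hmem s⟩
  refine IsZariskiLocalAtTarget.of_iSup_eq_top (P := @IsFinite) U hU (fun s => ?_)
  haveI := hf s
  haveI := hfinIdx s
  exact isFinite_restrict_of_pullback (z ≫ pP) ((W s).ι ≫ f s) (U s) rfl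
    (isFinite_snd pP z (f s) (ε s) (hε s) (W s) (hW s))

end Groth.Agent.Lib.Helper10.TwCFin
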