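import Mathlib
import Groth.Agent.Lib.Helper10.TwCFin4
import Groth.Agent.S9782
import Groth.Agent.Lib.Helper16.LocNoeth
import Groth.Agent.Lib.Helper21.SCmp2
import Groth.Agent.Lib.Helper24.Filt5a

set_option autoImplicit false
set_option linter.unusedSectionVars false
set_option linter.style.haveILetI false
set_option backward.isDefEq.respectTransparency.types false
set_option maxHeartbeats 4000000
set_option synthInstance.maxHeartbeats 400000

universe u

open CategoryTheory CategoryTheory.Limits AlgebraicGeometry Opposite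

namespace Groth.Agent.Lib.Helper10.TwCFin

theorem exists_noetherian_nhds (X : Scheme.{u}) [IsLocallyNoetherian X] (x : X) :
    ∃ U ∈ nhds x, TopologicalSpace.NoetherianSpace U := by
  obtain ⟨_, ⟨U, hU, rfl⟩, hxU, -⟩ := X.isBasis_affineOpens.exists_subset_of_mem_open
    (Set.mem_univ x) isOpen_univ
  haveI : IsNoetherianRing Γ(X, U) := IsLocallyNoetherian.component_noetherian ⟨U, hU⟩
  exact ⟨U, U.2.mem_nhds hxU, noetherianSpace_of_isAffineOpen U hU⟩

/-- over a locally Noetherian base with geometrically unibranch local rings, the connected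
components of an étale scheme are irreducible -/
theorem isIrreducible_connectedComponent {S P : Scheme.{u}} [IsLocallyNoetherian S]
    (hS : ∀ s : S, CAlg2.IsGeomUnibranch (S.presheaf.stalk s)) (p : P ⟶ S) [Etale p] (x : P) :
    IsIrreducible (connectedComponent x) := by
  haveI : IsLocallyNoetherian P := LocallyOfFiniteType.isLocallyNoetherian p
  have htfae := Groth.Agent.Lib.Helper16.irreducibleComponents_tfae_of_locallyNoetherian P
    (exists_noetherian_nhds P)
  have h32 : (irreducibleComponents P).PairwiseDisjoint id →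
      ∀ x : P, IsIrreducible (connectedComponent x) := (htfae.out 3 2).mp
  refine h32 ?_ x
  intro Z hZ Z' hZ' hne
  change Disjoint Z Z'
  rw [Set.disjoint_left]
  intro y hyZ hyZ'
  have h1 := (Groth.Agent.S9782.result S (p y)).mp (hS _) P p y inferInstance rfl
  rw [Set.encard_eq_one] at h1
  obtain ⟨W, hW⟩ := h1
  have a : Z ∈ {Z : Set ↑P | Z ∈ irreducibleComponents ↑P ∧ y ∈ Z} := ⟨hZ, hyZ⟩
  have b : Z' ∈ {Z : Set ↑P | Z ∈ irreducibleComponents ↑P ∧ y ∈ Z} := ⟨hZ', hyZ'⟩
  rw [hW, Set.mem_singleton_iff] at a b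
  exact hne (a.trans b.symm)

/-- an irreducible closed subset meets the fibre through its generic point in one point, for a
morphism with discrete fibres -/
theorem exists_fibre_subsingleton {S P : Scheme.{u}} (p : P ⟶ S) [LocallyQuasiFinite p]
    (C : Set P) (hC : IsIrreducible C) (hCc : IsClosed C) :
    ∃ ξ ∈ C, ∀ c ∈ C, p c = p ξ → c = ξ := by
  obtain ⟨ξ, hξ⟩ := QuasiSober.sober hC hCc
  refine ⟨ξ, hξ.mem, ?_⟩
  intro c hc hpc
  have hd := (p.isDiscrete_preimage_singleton (p ξ)).to_subtype
  have hsp : ξ ⤳ c := hξ.specializes hc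
  have h2 : (⟨ξ, rfl⟩ : ↥(p ⁻¹' {p ξ})) ⤳ ⟨c, hpc⟩ :=
    (Topology.IsInducing.subtypeVal.specializes_iff).mp hsp
  exact (congrArg Subtype.val h2.eq).symm

/-- **Connected components of an étale-locally constant scheme over a geometrically unibranch
locally Noetherian base are open and finite over the base.** -/
theorem exists_opens_connectedComponent {S Pl : Scheme.{u}} [IsLocallyNoetherian S]
    (hS : ∀ s : S, CAlg2.IsGeomUnibranch (S.presheaf.stalk s)) (pP : Pl ⟶ S)
    (hchart : ∀ s : S, ∃ (S' : Scheme.{u}) (f : S' ⟶ S) (_ : Etale f) (I : Type u)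
      (ε : pullback pP f ≅ ∐ fun _ : I => S')
      (_ : ε.hom ≫ Sigma.desc (fun _ : I => 𝟙 S') = pullback.snd pP f),
      s ∈ Set.range f) (x : Pl) :
    ∃ U : Pl.Opens, (U : Set Pl) = connectedComponent x ∧ IsFinite (U.ι ≫ pP) := by
  haveI : Etale pP := etale_of_charts pP hchart
  haveI : IsLocallyNoetherian Pl := LocallyOfFiniteType.isLocallyNoetherian pP
  haveI : LocallyConnectedSpace Pl :=
    Groth.Agent.Lib.Helper21.SCmp.locallyConnectedSpace_of_isLocallyNoetherian Pl
  haveI : LocallyConnectedSpace S :=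
    Groth.Agent.Lib.Helper21.SCmp.locallyConnectedSpace_of_isLocallyNoetherian S
  let U : Pl.Opens := ⟨connectedComponent x, isOpen_connectedComponent⟩
  refine ⟨U, rfl, ?_⟩
  haveI : IsClosedImmersion U.ι := by
    refine IsClosedImmersion.of_isPreimmersion _ ?_
    rw [Scheme.Opens.range_ι]
    exact isClosed_connectedComponent
  haveI : LocallyQuasiFinite pP := Groth.Agent.Lib.Helper24.Filt5a.locallyQuasiFinite_of_etale pP
  -- the refined charts
  have hchart' : ∀ s : S, ∃ (S' : Scheme.{u}) (f : S' ⟶ S) (_ : Etale f) (I : Type u)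
      (ε : pullback pP f ≅ ∐ fun _ : I => S')
      (_ : ε.hom ≫ Sigma.desc (fun _ : I => 𝟙 S') = pullback.snd pP f) (W : S'.Opens),
      _root_.IsPreconnected (W : Set S') ∧ QuasiCompact (W.ι ≫ f) ∧ s ∈ Set.range (W.ι ≫ f) := by
    intro s
    obtain ⟨S', f, hf, I, ε, hε, ⟨s', hs'⟩⟩ := hchart s
    haveI := hf
    haveI : IsLocallyNoetherian S' := LocallyOfFiniteType.isLocallyNoetherian f
    haveI : LocallyConnectedSpace S' :=
      Groth.Agent.Lib.Helper21.SCmp.locallyConnectedSpace_of_isLocallyNoetherian S'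
    obtain ⟨_, ⟨V, hV, rfl⟩, hs'V, -⟩ := S'.isBasis_affineOpens.exists_subset_of_mem_open
      (Set.mem_univ s') isOpen_univ
    let W : S'.Opens := ⟨connectedComponentIn (V : Set S') s', V.isOpen.connectedComponentIn⟩
    have hWc : IsCompact (W : Set S') := by
      change IsCompact (connectedComponentIn (V : Set S') s')
      rw [connectedComponentIn_eq_image hs'V]
      haveI : CompactSpace ↥(V : Set S') := isCompact_iff_compactSpace.mp hV.isCompact
      exact (isClosed_connectedComponent.isCompact).image continuous_subtype_val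
    haveI : CompactSpace ↥(W : Scheme.{u}) := isCompact_iff_compactSpace.mp hWc
    refine ⟨S', f, hf, I, ε, hε, W, isPreconnected_connectedComponentIn, inferInstance, ?_⟩
    refine ⟨⟨s', mem_connectedComponentIn hs'V⟩, ?_⟩
    rw [Scheme.Hom.comp_apply]
    exact hs'
  -- one finite fibre
  have hirr : IsIrreducible (connectedComponent x) := isIrreducible_connectedComponent hS pP x
  obtain ⟨ξ, hξC, hξ⟩ := exists_fibre_subsingleton pP (connectedComponent x) hirr
    isClosed_connectedComponent
  have hclopen := isClopen_finiteFibre pP U.ι hchart'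
  have hfib : ∀ s : S, (U.ι ≫ pP) ⁻¹' {s} ≠ ∅ → s ∈ connectedComponent (pP ξ) := by
    intro s hne
    obtain ⟨u, hu⟩ := Set.nonempty_iff_ne_empty.mpr hne
    have hu' : pP (U.ι u) = s := by
      rw [← Scheme.Hom.comp_apply]; exact hu
    have himg : pP '' (connectedComponent x) ⊆ connectedComponent (pP ξ) :=
      (isPreconnected_connectedComponent.image _ pP.continuous.continuousOn).subset_connectedComponent
        ⟨ξ, hξC, rfl⟩
    rw [← hu']
    exact himg ⟨U.ι u, u.2, rfl⟩
  have hξF : pP ξ ∈ {s : S | ((U.ι ≫ pP) ⁻¹' {s}).Finite} := by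
    refine Set.Subsingleton.finite ?_
    intro a ha b hb
    have ha' : pP (U.ι a) = pP ξ := by rw [← Scheme.Hom.comp_apply]; exact ha
    have hb' : pP (U.ι b) = pP ξ := by rw [← Scheme.Hom.comp_apply]; exact hb
    apply U.ι.isOpenEmbedding.injective
    rw [hξ (U.ι a) a.2 ha', hξ (U.ι b) b.2 hb']
  refine isFinite_of_charts_of_forall pP U.ι hchart' (fun s => ?_)
  by_cases hs : (U.ι ≫ pP) ⁻¹' {s} = ∅
  · rw [hs]; exact Set.finite_empty
  · exact hclopen.connectedComponent_subset hξF (hfib s hs)

end Groth.Agent.Lib.Helper10.TwCFin
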