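import Mathlib
import Groth.Agent.Lib.Helper10.TwCQc1
import Groth.Agent.Lib.Helper10.FinLocFreeDescent

set_option autoImplicit false
set_option linter.unusedSectionVars false
set_option linter.style.haveILetI false
set_option backward.isDefEq.respectTransparency.types false
set_option maxHeartbeats 4000000
set_option synthInstance.maxHeartbeats 400000

universe u

open CategoryTheory CategoryTheory.Limits AlgebraicGeometry Opposite

namespace Groth.Agent.Lib.Helper10.TwCQc

/-- descent of finiteness along a flat morphism from a compact scheme onto an affine open -/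
theorem isFinite_restrict_of_pullback_fpqc {S Z W : Scheme.{u}} (h : Z ⟶ S) (g : W ⟶ S) [Flat g]
    [CompactSpace W] (U : S.Opens) (hUa : IsAffineOpen U) (hU : (U : Set S) = Set.range g)
    (hfin : IsFinite (pullback.snd h g)) : IsFinite (h ∣_ U) := by
  have hr : Set.range g ⊆ Set.range U.ι := by
    rw [Scheme.Opens.range_ι, hU]
  let g' : W ⟶ (U : Scheme.{u}) := IsOpenImmersion.lift U.ι g hr
  have hfac : g' ≫ U.ι = g := IsOpenImmersion.lift_fac _ _ _
  haveI : Flat (g' ≫ U.ι) := by rw [hfac]; infer_instance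
  haveI : Flat g' := MorphismProperty.of_postcomp (W := @Flat)
    (W' := MorphismProperty.monomorphisms Scheme.{u}) g' U.ι (inferInstance : Mono U.ι) ‹_›
  haveI : Surjective g' := by
    refine ⟨fun u => ?_⟩
    have : U.ι u ∈ Set.range g := by rw [← hU]; exact u.2
    obtain ⟨w, hw⟩ := this
    refine ⟨w, ?_⟩
    apply U.ι.isOpenEmbedding.injective
    rw [← Scheme.Hom.comp_apply, hfac, hw]
  haveI : IsAffine (U : Scheme.{u}) := hUa
  haveI : QuasiCompact g' := inferInstance
  have s : IsPullback (pullback.fst h g) (pullback.snd h g) h (g' ≫ U.ι) := by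
    rw [hfac]; exact IsPullback.of_hasPullback h g
  have t : IsPullback (h ⁻¹ᵁ U).ι (h ∣_ U) h U.ι := (isPullback_morphismRestrict h U).flip
  have key := (IsPullback.of_right' s t).flip
  haveI := Groth.Agent.Lib.Helper10.FinLocFreeDescent.isFinite_descendsAlong.{u}
  exact MorphismProperty.of_isPullback_of_descendsAlong (P := @IsFinite)
    (Q := @Surjective ⊓ @Flat ⊓ @QuasiCompact) key
    ⟨⟨inferInstance, inferInstance⟩, inferInstance⟩ hfin

/-- **Main theorem** (abstract form): a closed subscheme, quasi-compact over the base, of a scheme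
which is fpqc locally constant is finite over the base. -/
theorem isFinite_of_fpqc_charts {S Zs Pl : Scheme.{u}} (pP : Pl ⟶ S) (z : Zs ⟶ Pl)
    [IsClosedImmersion z] [QuasiCompact (z ≫ pP)] {S' : Scheme.{u}} (f : S' ⟶ S) [Flat f]
    (hqc : ∀ V : S.Opens, IsAffineOpen V → ∃ W : S'.Opens, IsCompact (W : Set S') ∧
      f.base '' (W : Set S') = (V : Set S))
    (hchart : ∀ s' : S', ∃ U : S'.Opens, s' ∈ U ∧ ∃ (I : Type u)
      (ε : pullback pP (U.ι ≫ f) ≅ ∐ fun _ : I => (U : Scheme.{u})),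
      ε.hom ≫ Sigma.desc (fun _ : I => 𝟙 (U : Scheme.{u})) = pullback.snd pP (U.ι ≫ f)) :
    IsFinite (z ≫ pP) := by
  refine IsZariskiLocalAtTarget.of_iSup_eq_top (P := @IsFinite) (fun V : S.affineOpens => V.1)
    (iSup_affineOpens_eq_top S) (fun V => ?_)
  obtain ⟨W, hWc, hWV⟩ := hqc V.1 V.2
  haveI : CompactSpace ↥(W : Scheme.{u}) := isCompact_iff_compactSpace.mp hWc
  refine isFinite_restrict_of_pullback_fpqc (z ≫ pP) (W.ι ≫ f) V.1 V.2 ?_ ?_
  · rw [← hWV]
    ext s
    constructor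
    · rintro ⟨w, hw, rfl⟩
      exact ⟨⟨w, hw⟩, by rw [Scheme.Hom.comp_apply]; rfl⟩
    · rintro ⟨w, rfl⟩
      exact ⟨W.ι w, w.2, by rw [Scheme.Hom.comp_apply]⟩
  · have key : ∀ w : ↥(W : Scheme.{u}), ∃ O : (W : Scheme.{u}).Opens, w ∈ O ∧
        IsFinite ((pullback.snd (z ≫ pP) (W.ι ≫ f)) ∣_ O) := by
      intro w
      obtain ⟨U, hwU, I, ε, hε⟩ := hchart (W.ι w)
      obtain ⟨_, ⟨(O : (W : Scheme.{u}).Opens), hO, rfl⟩, hwO, hOU⟩ :=
        (W : Scheme.{u}).isBasis_affineOpens.exists_subset_of_mem_open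
          (show w ∈ ((W.ι ⁻¹ᵁ U : (W : Scheme.{u}).Opens) : Set _) from hwU) (W.ι ⁻¹ᵁ U).isOpen
      refine ⟨O, hwO, ?_⟩
      have hr : Set.range (O.ι ≫ W.ι) ⊆ Set.range U.ι := by
        rw [Scheme.Opens.range_ι]
        rintro _ ⟨o, rfl⟩
        rw [Scheme.Hom.comp_apply]
        exact hOU o.2
      let j : (O : Scheme.{u}) ⟶ (U : Scheme.{u}) := IsOpenImmersion.lift U.ι (O.ι ≫ W.ι) hr
      have hj : j ≫ U.ι = O.ι ≫ W.ι := IsOpenImmersion.lift_fac _ _ _
      obtain ⟨ε', hε'⟩ := exists_triv_comp pP (U.ι ≫ f) ε hε j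
      haveI : IsAffine (O : Scheme.{u}) := hO
      have hk : j ≫ U.ι ≫ f = O.ι ≫ W.ι ≫ f := by
        rw [← Category.assoc, hj, Category.assoc]
      have h3 : IsFinite (pullback.snd (z ≫ pP) (j ≫ U.ι ≫ f)) :=
        isFinite_snd_of_triv pP z (j ≫ U.ι ≫ f) ε' hε'
      rw [hk] at h3
      have h4 : IsFinite (pullback.snd (pullback.snd (z ≫ pP) (W.ι ≫ f)) O.ι) := by
        rw [← pullbackLeftPullbackSndIso_hom_snd (z ≫ pP) (W.ι ≫ f) O.ι]
        infer_instance
      unfold morphismRestrict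
      infer_instance
    choose O hwO hO using key
    refine IsZariskiLocalAtTarget.of_iSup_eq_top (P := @IsFinite) O ?_ hO
    rw [eq_top_iff]
    intro w _
    exact TopologicalSpace.Opens.mem_iSup.2 ⟨w, hwO w⟩

end Groth.Agent.Lib.Helper10.TwCQc
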