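import Mathlib
import Groth.Agent.Lib.Helper10.TwCQc2
import Groth.Agent.Lib.Helper10.TwCFin1

set_option autoImplicit false
set_option linter.unusedSectionVars false
set_option linter.style.haveILetI false
set_option backward.isDefEq.respectTransparency.types false
set_option maxHeartbeats 4000000
set_option synthInstance.maxHeartbeats 400000

universe u

open CategoryTheory CategoryTheory.Limits AlgebraicGeometry Opposite

namespace Groth.Agent.Lib.Helper10.TwCQc

theorem isClosed_range_sigmaι {A : Scheme.{u}} {I : Type u} (i : I) :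
    IsClosed (Set.range (Sigma.ι (fun _ : I => A) i)) := by
  rw [← isOpen_compl_iff]
  have : (Set.range (Sigma.ι (fun _ : I => A) i))ᶜ =
      ⋃ j ∈ {j : I | j ≠ i}, Set.range (Sigma.ι (fun _ : I => A) j) := by
    ext x
    simp only [Set.mem_compl_iff, Set.mem_range, not_exists, Set.mem_ofPred_eq, ne_eq,
      Set.mem_iUnion, exists_prop]
    constructor
    · intro hx
      obtain ⟨j, a, ha⟩ := (sigmaOpenCover (fun _ : I => A)).exists_eq x
      change Sigma.ι (fun _ : I => A) j a = x at ha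
      refine ⟨j, ?_, a, ha⟩
      rintro rfl
      exact hx a ha
    · rintro ⟨j, hj, a, rfl⟩ a' ha'
      have := (sigmaι_eq_iff _ _ _ _ _).mp ha'
      exact hj (congrArg Sigma.fst this).symm
  rw [this]
  exact isOpen_biUnion fun j _ => (Sigma.ι (fun _ : I => A) j).isOpenEmbedding.isOpen_range

/-- if `t` is surjective and `t ≫ h` is quasi-compact then `h` is quasi-compact -/
theorem quasiCompact_of_surjective_comp {X Y Z : Scheme.{u}} (t : X ⟶ Y) (h : Y ⟶ Z)
    (ht : Function.Surjective t) [QuasiCompact (t ≫ h)] : QuasiCompact h := by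
  refine ⟨fun V hV hVc => ?_⟩
  have h1 : IsCompact ((t ≫ h) ⁻¹' V) := QuasiCompact.isCompact_preimage (f := t ≫ h) V hV hVc
  have h2 : h ⁻¹' V = t '' ((t ≫ h) ⁻¹' V) := by
    ext y
    constructor
    · intro hy
      obtain ⟨x, rfl⟩ := ht y
      exact ⟨x, by simpa [Scheme.Hom.comp_apply] using hy, rfl⟩
    · rintro ⟨x, hx, rfl⟩
      simpa [Scheme.Hom.comp_apply] using hx
  rw [h2]
  exact h1.image t.continuous

/-- **isotrivial twisted constant schemes are unions of clopen pieces finite over the base** -/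
theorem exists_clopen_finite {S Pl S' : Scheme.{u}} (pP : Pl ⟶ S) (f : S' ⟶ S) [IsFinite f]
    [Etale f] [Surjective f]
    (hchart : ∀ s' : S', ∃ U : S'.Opens, s' ∈ U ∧ IsClosed (U : Set S') ∧ ∃ (I : Type u)
      (ε : pullback pP (U.ι ≫ f) ≅ ∐ fun _ : I => (U : Scheme.{u})),
      ε.hom ≫ Sigma.desc (fun _ : I => 𝟙 (U : Scheme.{u})) = pullback.snd pP (U.ι ≫ f))
    (x : Pl) :
    ∃ N : Pl.Opens, x ∈ N ∧ IsClosed (N : Set Pl) ∧ IsFinite (N.ι ≫ pP) := by
  obtain ⟨s', hs'⟩ := ‹Surjective f›.surj (pP x)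
  obtain ⟨U, hs'U, hUc, I, ε, hε⟩ := hchart s'
  haveI : IsClosedImmersion U.ι := by
    refine IsClosedImmersion.of_isPreimmersion _ ?_
    rw [Scheme.Opens.range_ι]
    exact hUc
  -- the point of the chart over `x`
  obtain ⟨x'', hx''1, -⟩ := Scheme.Pullback.exists_preimage_pullback (f := pP) (g := U.ι ≫ f)
    x (⟨s', hs'U⟩ : ↥(U : Scheme.{u})) (by rw [Scheme.Hom.comp_apply]; exact hs'.symm)
  obtain ⟨m, u', hu'⟩ := (sigmaOpenCover (fun _ : I => (U : Scheme.{u}))).exists_eq (ε.hom x'')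
  change Sigma.ι (fun _ : I => (U : Scheme.{u})) m u' = ε.hom x'' at hu'
  let τ : (U : Scheme.{u}) ⟶ Pl := TwCFin.tau pP (U.ι ≫ f) ε m
  have hτ : τ ≫ pP = U.ι ≫ f := TwCFin.tau_comp pP (U.ι ≫ f) ε hε m
  have hτx : τ u' = x := by
    change (Sigma.ι (fun _ : I => (U : Scheme.{u})) m ≫ ε.inv ≫ pullback.fst pP (U.ι ≫ f)) u' = x
    simp only [Scheme.Hom.comp_apply]
    rw [hu', ← Scheme.Hom.comp_apply ε.hom ε.inv, Iso.hom_inv_id]
    exact hx''1
  haveI : Etale τ := by
    change Etale (Sigma.ι (fun _ : I => (U : Scheme.{u})) m ≫ ε.inv ≫ pullback.fst pP (U.ι ≫ f))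
    infer_instance
  have hopen : IsOpen (Set.range τ) := τ.isOpenMap.isOpen_range
  have hclosed : IsClosed (Set.range τ) := by
    have h1 : IsClosedMap (pullback.fst pP (U.ι ≫ f)) :=
      (pullback.fst pP (U.ι ≫ f)).isClosedMap
    have h2 : Set.range τ = (pullback.fst pP (U.ι ≫ f)) ''
        (ε.inv '' Set.range (Sigma.ι (fun _ : I => (U : Scheme.{u})) m)) := by
      ext y
      constructor
      · rintro ⟨u, rfl⟩
        exact ⟨_, ⟨_, ⟨u, rfl⟩, rfl⟩, by
          change _ = (Sigma.ι (fun _ : I => (U : Scheme.{u})) m ≫ ε.inv ≫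
            pullback.fst pP (U.ι ≫ f)) u
          simp only [Scheme.Hom.comp_apply]⟩
      · rintro ⟨_, ⟨_, ⟨u, rfl⟩, rfl⟩, rfl⟩
        exact ⟨u, by
          change (Sigma.ι (fun _ : I => (U : Scheme.{u})) m ≫ ε.inv ≫
            pullback.fst pP (U.ι ≫ f)) u = _
          simp only [Scheme.Hom.comp_apply]⟩
    rw [h2]
    apply h1
    exact (Scheme.homeoOfIso ε.symm).isClosedMap _ (isClosed_range_sigmaι m)
  let N : Pl.Opens := ⟨Set.range τ, hopen⟩
  refine ⟨N, ⟨u', hτx⟩, hclosed, ?_⟩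
  haveI : IsClosedImmersion N.ι := by
    refine IsClosedImmersion.of_isPreimmersion _ ?_
    rw [Scheme.Opens.range_ι]
    exact hclosed
  -- quasi-compactness
  have hr : Set.range τ ⊆ Set.range N.ι := by
    rw [Scheme.Opens.range_ι]
    exact subset_rfl
  let t' : (U : Scheme.{u}) ⟶ (N : Scheme.{u}) := IsOpenImmersion.lift N.ι τ hr
  have ht' : t' ≫ N.ι = τ := IsOpenImmersion.lift_fac _ _ _
  have ht's : Function.Surjective t' := by
    rintro ⟨y, u, rfl⟩
    refine ⟨u, ?_⟩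
    apply N.ι.isOpenEmbedding.injective
    rw [← Scheme.Hom.comp_apply, ht']
    rfl
  haveI : QuasiCompact (t' ≫ N.ι ≫ pP) := by
    rw [← Category.assoc, ht', hτ]
    infer_instance
  haveI : QuasiCompact (N.ι ≫ pP) := quasiCompact_of_surjective_comp t' (N.ι ≫ pP) ht's
  refine isFinite_of_fpqc_charts pP N.ι f ?_ ?_
  · intro V hV
    refine ⟨f ⁻¹ᵁ V, ?_, ?_⟩
    · exact (hV.preimage f).isCompact
    · change f '' (f ⁻¹' (V : Set S)) = V
      exact Set.image_preimage_eq _ ‹Surjective f›.surj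
  · intro s''
    obtain ⟨U₂, h1, -, I₂, ε₂, hε₂⟩ := hchart s''
    exact ⟨U₂, h1, I₂, ε₂, hε₂⟩

end Groth.Agent.Lib.Helper10.TwCQc
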