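import Mathlib
import Groth.Agent.Lib.Helper10.TwCQc3

set_option autoImplicit false
set_option linter.unusedSectionVars false
set_option linter.style.haveILetI false
set_option backward.isDefEq.respectTransparency.types false
set_option maxHeartbeats 4000000
set_option synthInstance.maxHeartbeats 400000

universe u

open CategoryTheory CategoryTheory.Limits AlgebraicGeometry Opposite

namespace Groth.Agent.Lib.Helper10.TwCFp

/-- a Noetherian space has finitely many connected components -/
theorem finite_connectedComponents_of_noetherian (Y : Type*) [TopologicalSpace Y]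
    [TopologicalSpace.NoetherianSpace Y] : Finite (ConnectedComponents Y) := by
  have hfin := TopologicalSpace.NoetherianSpace.finite_irreducibleComponents (α := Y)
  haveI : Finite ↥(irreducibleComponents Y) := hfin
  have hne : ∀ Z : ↥(irreducibleComponents Y), (Z : Set Y).Nonempty := fun Z => Z.2.1.nonempty
  let g : ↥(irreducibleComponents Y) → ConnectedComponents Y :=
    fun Z => ConnectedComponents.mk (hne Z).some
  refine Finite.of_surjective g ?_
  intro c
  obtain ⟨y, rfl⟩ := ConnectedComponents.surjective_coe c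
  refine ⟨⟨irreducibleComponent y, irreducibleComponent_mem_irreducibleComponents y⟩, ?_⟩
  change ConnectedComponents.mk _ = ConnectedComponents.mk y
  rw [ConnectedComponents.coe_eq_coe']
  have h1 : IsPreconnected (irreducibleComponent y) :=
    (isIrreducible_irreducibleComponent (x := y)).isPreirreducible.isPreconnected
  exact h1.subset_connectedComponent mem_irreducibleComponent
    (hne ⟨irreducibleComponent y, irreducibleComponent_mem_irreducibleComponents y⟩).some_mem

/-- a proper clopen piece has fewer connected components -/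
theorem card_connectedComponents_lt {A B : Type*} [TopologicalSpace A] [TopologicalSpace B]
    (j : A → B) (hj : Topology.IsOpenEmbedding j) (hc : IsClosed (Set.range j))
    (hns : ¬ Function.Surjective j) [Finite (ConnectedComponents B)] :
    Nat.card (ConnectedComponents A) < Nat.card (ConnectedComponents B) := by
  have hclopen : IsClopen (Set.range j) := ⟨hc, hj.isOpen_range⟩
  let φ : ConnectedComponents A → ConnectedComponents B := hj.continuous.connectedComponentsMap
  have hφ : ∀ a : A, φ (ConnectedComponents.mk a) = ConnectedComponents.mk (j a) := fun a =>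
    hj.continuous.connectedComponentsMap_mk a
  have hinj : Function.Injective φ := by
    intro c c' hcc
    obtain ⟨a, rfl⟩ := ConnectedComponents.surjective_coe c
    obtain ⟨a', rfl⟩ := ConnectedComponents.surjective_coe c'
    rw [hφ, hφ, ConnectedComponents.coe_eq_coe'] at hcc
    rw [ConnectedComponents.coe_eq_coe']
    have hsub : connectedComponent (j a') ⊆ Set.range j :=
      hclopen.connectedComponent_subset ⟨a', rfl⟩
    have hpre : IsPreconnected (j ⁻¹' connectedComponent (j a')) :=
      isPreconnected_connectedComponent.preimage_of_isOpenMap hj.injective hj.isOpenMap hsub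
    exact hpre.subset_connectedComponent (show a' ∈ j ⁻¹' _ from mem_connectedComponent)
      (show a ∈ j ⁻¹' _ from hcc)
  have hnsurj : ¬ Function.Surjective φ := by
    intro hs
    apply hns
    intro b
    obtain ⟨c, hcb⟩ := hs (ConnectedComponents.mk b)
    obtain ⟨a, rfl⟩ := ConnectedComponents.surjective_coe c
    rw [hφ, ConnectedComponents.coe_eq_coe'] at hcb
    have hsub : connectedComponent b ⊆ Set.range j := by
      have : connectedComponent b = connectedComponent (j a) :=
        connectedComponent_eq hcb
      rw [this]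
      exact hclopen.connectedComponent_subset ⟨a, rfl⟩
    exact hsub mem_connectedComponent
  haveI : Finite (ConnectedComponents A) := Finite.of_injective φ hinj
  haveI := Fintype.ofFinite (ConnectedComponents A)
  haveI := Fintype.ofFinite (ConnectedComponents B)
  rw [Nat.card_eq_fintype_card, Nat.card_eq_fintype_card]
  exact Fintype.card_lt_of_injective_not_surjective φ hinj hnsurj

section Sheets

variable {S Pl T : Scheme.{u}} (pP : Pl ⟶ S) (f : T ⟶ S) [IsFinite f] [Flat f]
  [LocallyOfFinitePresentation f] [Surjective f] {I : Type u}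
  (ε : pullback pP f ≅ ∐ fun _ : I => T)
  (hε : ε.hom ≫ Sigma.desc (fun _ : I => 𝟙 T) = pullback.snd pP f)

include hε in
theorem exists_sheet (x : Pl) : ∃ (i : I) (t : T), TwCFin.tau pP f ε i t = x := by
  obtain ⟨s', hs'⟩ := ‹Surjective f›.surj (pP x)
  obtain ⟨x'', hx''1, -⟩ := Scheme.Pullback.exists_preimage_pullback (f := pP) (g := f)
    x s' hs'.symm
  obtain ⟨m, u', hu'⟩ := (sigmaOpenCover (fun _ : I => T)).exists_eq (ε.hom x'')
  change Sigma.ι (fun _ : I => T) m u' = ε.hom x'' at hu'
  refine ⟨m, u', ?_⟩
  change (Sigma.ι (fun _ : I => T) m ≫ ε.inv ≫ pullback.fst pP f) u' = x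
  simp only [Scheme.Hom.comp_apply]
  rw [hu', ← Scheme.Hom.comp_apply ε.hom ε.inv, Iso.hom_inv_id]
  exact hx''1

instance tau_flat (i : I) : Flat (TwCFin.tau pP f ε i) := by
  unfold TwCFin.tau; infer_instance

instance tau_lfp (i : I) : LocallyOfFinitePresentation (TwCFin.tau pP f ε i) := by
  unfold TwCFin.tau; infer_instance

theorem isOpen_range_tau (i : I) : IsOpen (Set.range (TwCFin.tau pP f ε i)) :=
  (TwCFin.tau pP f ε i).isOpenMap.isOpen_range

theorem isClosed_range_tau (i : I) : IsClosed (Set.range (TwCFin.tau pP f ε i)) := by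
  have h1 : IsClosedMap (pullback.fst pP f) := (pullback.fst pP f).isClosedMap
  have h2 : Set.range (TwCFin.tau pP f ε i) = (pullback.fst pP f) ''
      (ε.inv '' Set.range (Sigma.ι (fun _ : I => T) i)) := by
    ext y
    constructor
    · rintro ⟨u, rfl⟩
      exact ⟨_, ⟨_, ⟨u, rfl⟩, rfl⟩, by
        change _ = (Sigma.ι (fun _ : I => T) i ≫ ε.inv ≫ pullback.fst pP f) u
        simp only [Scheme.Hom.comp_apply]⟩
    · rintro ⟨_, ⟨_, ⟨u, rfl⟩, rfl⟩, rfl⟩
      exact ⟨u, by
        change (Sigma.ι (fun _ : I => T) i ≫ ε.inv ≫ pullback.fst pP f) u = _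
        simp only [Scheme.Hom.comp_apply]⟩
  rw [h2]
  apply h1
  exact (Scheme.homeoOfIso ε.symm).isClosedMap _ (TwCQc.isClosed_range_sigmaι i)

/-- the `i`-th sheet as an open subscheme of the total space -/
noncomputable def sheet (i : I) : Pl.Opens := ⟨Set.range (TwCFin.tau pP f ε i), isOpen_range_tau pP f ε i⟩

theorem isClosed_sheet (i : I) : IsClosed (sheet pP f ε i : Set Pl) := isClosed_range_tau pP f ε i

instance (i : I) : IsClosedImmersion (sheet pP f ε i).ι := by
  refine IsClosedImmersion.of_isPreimmersion _ ?_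
  rw [Scheme.Opens.range_ι]
  exact isClosed_sheet pP f ε i

/-- the corestriction of the `i`-th section to its sheet -/
noncomputable def sig (i : I) : T ⟶ (sheet pP f ε i : Scheme.{u}) :=
  IsOpenImmersion.lift (sheet pP f ε i).ι (TwCFin.tau pP f ε i) (by
    rw [Scheme.Opens.range_ι]; exact subset_rfl)

@[reassoc]
theorem sig_ι (i : I) : sig pP f ε i ≫ (sheet pP f ε i).ι = TwCFin.tau pP f ε i :=
  IsOpenImmersion.lift_fac _ _ _

include hε in
@[reassoc]
theorem sig_comp (i : I) : sig pP f ε i ≫ (sheet pP f ε i).ι ≫ pP = f := by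
  rw [sig_ι_assoc, TwCFin.tau_comp pP f ε hε]

theorem sig_surjective (i : I) : Function.Surjective (sig pP f ε i) := by
  rintro ⟨y, u, rfl⟩
  refine ⟨u, ?_⟩
  apply (sheet pP f ε i).ι.isOpenEmbedding.injective
  rw [← Scheme.Hom.comp_apply, sig_ι]
  rfl

include hε in
theorem isFinite_sheet (i : I) : IsFinite ((sheet pP f ε i).ι ≫ pP) := by
  haveI : QuasiCompact (sig pP f ε i ≫ (sheet pP f ε i).ι ≫ pP) := by
    rw [sig_comp pP f ε hε]
    infer_instance
  haveI : QuasiCompact ((sheet pP f ε i).ι ≫ pP) :=
    TwCQc.quasiCompact_of_surjective_comp (sig pP f ε i) _ (sig_surjective pP f ε i)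
  refine TwCQc.isFinite_of_fpqc_charts pP (sheet pP f ε i).ι f ?_ ?_
  · intro V hV
    refine ⟨f ⁻¹ᵁ V, ?_, ?_⟩
    · exact (hV.preimage f).isCompact
    · change f '' (f ⁻¹' (V : Set S)) = V
      exact Set.image_preimage_eq _ ‹Surjective f›.surj
  · intro t
    obtain ⟨ε', hε'⟩ := TwCQc.exists_triv_comp pP f ε hε (⊤ : T.Opens).ι
    exact ⟨⊤, trivial, I, ε', hε'⟩

end Sheets

end Groth.Agent.Lib.Helper10.TwCFp
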