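import Mathlib
import Groth.Agent.Lib.Helper10.TwCFp1

set_option autoImplicit false
set_option linter.unusedSectionVars false
set_option linter.style.haveILetI false
set_option backward.isDefEq.respectTransparency.types false
set_option maxHeartbeats 4000000
set_option synthInstance.maxHeartbeats 400000

universe u

open CategoryTheory CategoryTheory.Limits AlgebraicGeometry Opposite

namespace Groth.Agent.Lib.Helper10.TwCFp

section Diag

variable {T P S : Scheme.{u}} (σ : T ⟶ P) (p : P ⟶ S)

/-- the comparison `T ×_P T → T ×_S T` -/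
noncomputable def cmp : pullback σ σ ⟶ pullback (σ ≫ p) (σ ≫ p) :=
  pullback.map σ σ (σ ≫ p) (σ ≫ p) (𝟙 T) (𝟙 T) p (Category.id_comp _).symm
    (Category.id_comp _).symm

theorem cmp_isPullback : IsPullback (pullback.fst σ σ ≫ σ) (cmp σ p) (pullback.diagonal p)
    (pullback.map (σ ≫ p) (σ ≫ p) p p σ σ (𝟙 _) (Category.comp_id _) (Category.comp_id _)) :=
  pullback_map_diagonal_isPullback σ σ p

instance [Etale p] : IsOpenImmersion (cmp σ p) :=
  MorphismProperty.of_isPullback (P := @IsOpenImmersion) (cmp_isPullback σ p) inferInstance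

instance [IsSeparated p] : IsClosedImmersion (cmp σ p) :=
  MorphismProperty.of_isPullback (P := @IsClosedImmersion) (cmp_isPullback σ p) inferInstance

theorem eq_of_surjective_cmp [Etale p] [Surjective σ] (σ' : T ⟶ P) (h : σ' ≫ p = σ ≫ p)
    (hj : Function.Surjective (cmp σ p)) : σ' = σ := by
  let m : pullback (σ ≫ p) (σ ≫ p) ⟶ pullback p p :=
    pullback.map (σ ≫ p) (σ ≫ p) p p σ σ (𝟙 _) (Category.comp_id _) (Category.comp_id _)
  haveI : Surjective m :=
    MorphismProperty.pullbackMap (P := @Surjective) (f := σ ≫ p) (g := σ ≫ p) (f' := p) (g' := p)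
      (i₁ := σ) (i₂ := σ) inferInstance inferInstance rfl rfl
  have hsq : (pullback.fst σ σ ≫ σ) ≫ pullback.diagonal p = cmp σ p ≫ m := (cmp_isPullback σ p).w
  haveI : Surjective (pullback.diagonal p) := by
    refine ⟨fun z => ?_⟩
    obtain ⟨y, rfl⟩ := ‹Surjective m›.surj z
    obtain ⟨w, rfl⟩ := hj y
    refine ⟨(pullback.fst σ σ ≫ σ) w, ?_⟩
    rw [← Scheme.Hom.comp_apply, hsq, Scheme.Hom.comp_apply]
  haveI : IsIso (pullback.diagonal p) :=
    (isIso_iff_isOpenImmersion_and_surjective _).mpr ⟨inferInstance, inferInstance⟩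
  have hfs : pullback.fst p p = pullback.snd p p := by
    rw [← cancel_epi (pullback.diagonal p)]
    simp
  have h1 : σ' = pullback.lift σ' σ h ≫ pullback.fst p p := (pullback.lift_fst _ _ _).symm
  have h2 : σ = pullback.lift σ' σ h ≫ pullback.snd p p := (pullback.lift_snd _ _ _).symm
  rw [h1, hfs, ← h2]

theorem card_connectedComponents_pullback_lt [Etale p] [IsSeparated p] [Surjective σ]
    (π : T ⟶ S) (hπ : σ ≫ p = π) (σ' : T ⟶ P) (h : σ' ≫ p = σ ≫ p) (hne : σ' ≠ σ)
    [Finite (_root_.ConnectedComponents ↥(pullback π π))] :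
    Nat.card (_root_.ConnectedComponents ↥(pullback σ σ)) <
      Nat.card (_root_.ConnectedComponents ↥(pullback π π)) := by
  let j : pullback σ σ ⟶ pullback π π := cmp σ p ≫ (pullback.congrHom hπ hπ).hom
  haveI : IsOpenImmersion j := by dsimp only [j]; infer_instance
  haveI : IsClosedImmersion j := by dsimp only [j]; infer_instance
  refine card_connectedComponents_lt j j.isOpenEmbedding j.isClosedEmbedding.isClosed_range ?_
  intro hs
  apply hne
  refine eq_of_surjective_cmp σ p σ' h ?_
  intro y
  obtain ⟨w, hw⟩ := hs ((pullback.congrHom hπ hπ).hom y)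
  refine ⟨w, ?_⟩
  have h3 : Function.Injective (pullback.congrHom hπ hπ).hom :=
    (Scheme.homeoOfIso (pullback.congrHom hπ hπ)).injective
  apply h3
  rw [← hw]
  rfl

end Diag

end Groth.Agent.Lib.Helper10.TwCFp
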