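import Mathlib
import Groth.Agent.Lib.Helper10.TwCFp2

set_option autoImplicit false
set_option linter.unusedSectionVars false
set_option linter.style.haveILetI false
set_option backward.isDefEq.respectTransparency.types false
set_option maxHeartbeats 4000000
set_option synthInstance.maxHeartbeats 400000

universe u

open CategoryTheory CategoryTheory.Limits AlgebraicGeometry Opposite

namespace Groth.Agent.Lib.Helper10.TwCFp

section Sheets2

variable {S Pl T : Scheme.{u}} (pP : Pl ⟶ S) (f : T ⟶ S) [IsFinite f] [Flat f]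
  [LocallyOfFinitePresentation f] [Surjective f] {I : Type u}
  (ε : pullback pP f ≅ ∐ fun _ : I => T)
  (hε : ε.hom ≫ Sigma.desc (fun _ : I => 𝟙 T) = pullback.snd pP f)

theorem isPreconnected_sheet [PreconnectedSpace T] (i : I) :
    _root_.IsPreconnected (sheet pP f ε i : Set Pl) :=
  isPreconnected_range (TwCFin.tau pP f ε i).continuous

theorem isClopen_sheet (i : I) : IsClopen (sheet pP f ε i : Set Pl) :=
  ⟨isClosed_sheet pP f ε i, (sheet pP f ε i).isOpen⟩

theorem sheet_eq_of_inter [PreconnectedSpace T] (i j : I)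
    (h : ((sheet pP f ε i : Set Pl) ∩ (sheet pP f ε j : Set Pl)).Nonempty) :
    sheet pP f ε i = sheet pP f ε j := by
  apply le_antisymm
  · exact (isPreconnected_sheet pP f ε i).subset_isClopen (isClopen_sheet pP f ε j) h
  · exact (isPreconnected_sheet pP f ε j).subset_isClopen (isClopen_sheet pP f ε i)
      (by rwa [Set.inter_comm])

include hε in
theorem isIso_sheet [PreconnectedSpace T] (i : I)
    (hi : ∀ j, sheet pP f ε j = sheet pP f ε i → j = i) :
    IsIso ((sheet pP f ε i).ι ≫ pP) := by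
  let ν : pullback ((sheet pP f ε i).ι ≫ pP) f ⟶ pullback pP f :=
    pullback.map ((sheet pP f ε i).ι ≫ pP) f pP f (sheet pP f ε i).ι (𝟙 T) (𝟙 S) (by simp)
      (by simp)
  haveI : IsOpenImmersion ν := by dsimp only [ν]; infer_instance
  have hνsnd : ν ≫ pullback.snd pP f = pullback.snd ((sheet pP f ε i).ι ≫ pP) f := by
    dsimp only [ν]; rw [pullback.lift_snd, Category.comp_id]
  have hνfst : ν ≫ pullback.fst pP f =
      pullback.fst ((sheet pP f ε i).ι ≫ pP) f ≫ (sheet pP f ε i).ι := by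
    dsimp only [ν]; rw [pullback.lift_fst]
  have hpb : IsPullback ν (pullback.fst ((sheet pP f ε i).ι ≫ pP) f) (pullback.fst pP f)
      (sheet pP f ε i).ι := by
    have big : IsPullback (ν ≫ pullback.snd pP f) (pullback.fst ((sheet pP f ε i).ι ≫ pP) f) f
        ((sheet pP f ε i).ι ≫ pP) := by
      rw [hνsnd]; exact (IsPullback.of_hasPullback ((sheet pP f ε i).ι ≫ pP) f).flip
    exact IsPullback.of_right big hνfst (IsPullback.of_hasPullback pP f).flip
  have hrange : Set.range (ν ≫ ε.hom) = Set.range (Sigma.ι (fun _ : I => T) i) := by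
    ext y
    constructor
    · rintro ⟨q, rfl⟩
      obtain ⟨j, t, ht⟩ := (sigmaOpenCover (fun _ : I => T)).exists_eq ((ν ≫ ε.hom) q)
      change Sigma.ι (fun _ : I => T) j t = _ at ht
      have h1 : TwCFin.tau pP f ε j t =
          (sheet pP f ε i).ι (pullback.fst ((sheet pP f ε i).ι ≫ pP) f q) := by
        change (Sigma.ι (fun _ : I => T) j ≫ ε.inv ≫ pullback.fst pP f) t = _
        rw [Scheme.Hom.comp_apply, ht, ← Scheme.Hom.comp_apply, ← Scheme.Hom.comp_apply]
        have : (ν ≫ ε.hom) ≫ ε.inv ≫ pullback.fst pP f =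
            pullback.fst ((sheet pP f ε i).ι ≫ pP) f ≫ (sheet pP f ε i).ι := by
          rw [Category.assoc, Iso.hom_inv_id_assoc, hνfst]
        rw [this]
      have h2 : sheet pP f ε j = sheet pP f ε i :=
        sheet_eq_of_inter pP f ε j i ⟨_, ⟨t, rfl⟩, by
          rw [h1]; exact (pullback.fst ((sheet pP f ε i).ι ≫ pP) f q).2⟩
      rw [← ht, hi j h2]
      exact ⟨t, rfl⟩
    · rintro ⟨t, rfl⟩
      have hx : pullback.fst pP f (ε.inv (Sigma.ι (fun _ : I => T) i t)) =
          (sheet pP f ε i).ι ⟨TwCFin.tau pP f ε i t, ⟨t, rfl⟩⟩ := by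
        change _ = (Sigma.ι (fun _ : I => T) i ≫ ε.inv ≫ pullback.fst pP f) t
        simp only [Scheme.Hom.comp_apply]
      obtain ⟨q, hq, -⟩ := TwCQc.exists_of_isPullback hpb
        (ε.inv (Sigma.ι (fun _ : I => T) i t)) ⟨_, ⟨t, rfl⟩⟩ hx
      refine ⟨q, ?_⟩
      rw [Scheme.Hom.comp_apply, hq, ← Scheme.Hom.comp_apply, Iso.inv_hom_id]
      rfl
  let θ : pullback ((sheet pP f ε i).ι ≫ pP) f ≅ T :=
    IsOpenImmersion.isoOfRangeEq (ν ≫ ε.hom) (Sigma.ι (fun _ : I => T) i) hrange
  have hθ : θ.hom ≫ Sigma.ι (fun _ : I => T) i = ν ≫ ε.hom :=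
    IsOpenImmersion.isoOfRangeEq_hom_fac _ _ _
  have hsnd : pullback.snd ((sheet pP f ε i).ι ≫ pP) f = θ.hom := by
    rw [← hνsnd, ← hε, ← Category.assoc, ← hθ, Category.assoc, Sigma.ι_desc, Category.comp_id]
  have hiso : IsIso (pullback.snd ((sheet pP f ε i).ι ≫ pP) f) := by
    rw [hsnd]; infer_instance
  exact MorphismProperty.of_isPullback_of_descendsAlong
    (P := MorphismProperty.isomorphisms Scheme.{u})
    (Q := @Surjective ⊓ @Flat ⊓ @QuasiCompact)
    (IsPullback.of_hasPullback ((sheet pP f ε i).ι ≫ pP) f).flip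
    ⟨⟨inferInstance, inferInstance⟩, inferInstance⟩ hiso

include hε in
/-- if the sheets are pairwise distinct then the scheme is constant over the base -/
theorem exists_iso_sigma_of_injective [PreconnectedSpace T]
    (hinj : ∀ i j, sheet pP f ε i = sheet pP f ε j → i = j) :
    ∃ ε₀ : Pl ≅ ∐ fun _ : I => S, ε₀.hom ≫ Sigma.desc (fun _ : I => 𝟙 S) = pP := by
  have hiso : ∀ i, IsIso ((sheet pP f ε i).ι ≫ pP) := fun i =>
    isIso_sheet pP f ε hε i (fun j hj => hinj j i hj)
  let s : ∀ i : I, S ⟶ Pl := fun i =>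
    haveI := hiso i
    inv ((sheet pP f ε i).ι ≫ pP) ≫ (sheet pP f ε i).ι
  have hs : ∀ i, s i ≫ pP = 𝟙 S := fun i => by
    haveI := hiso i
    dsimp only [s]
    rw [Category.assoc, IsIso.inv_hom_id]
  haveI : ∀ i, IsOpenImmersion (s i) := fun i => by
    haveI := hiso i
    dsimp only [s]; infer_instance
  have hrange : ∀ i, Set.range (s i) = (sheet pP f ε i : Set Pl) := by
    intro i
    haveI := hiso i
    ext x
    constructor
    · rintro ⟨a, rfl⟩
      change (inv ((sheet pP f ε i).ι ≫ pP) ≫ (sheet pP f ε i).ι) a ∈ _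
      rw [Scheme.Hom.comp_apply]
      exact (inv ((sheet pP f ε i).ι ≫ pP) a).2
    · intro hx
      refine ⟨((sheet pP f ε i).ι ≫ pP) ⟨x, hx⟩, ?_⟩
      change (inv ((sheet pP f ε i).ι ≫ pP) ≫ (sheet pP f ε i).ι)
        (((sheet pP f ε i).ι ≫ pP) ⟨x, hx⟩) = x
      rw [← Scheme.Hom.comp_apply, IsIso.hom_inv_id_assoc]
      rfl
  have hcov : ⨆ i, (s i).opensRange = ⊤ := by
    rw [eq_top_iff]
    rintro x -
    obtain ⟨i, t, ht⟩ := exists_sheet pP f ε hε x
    refine TopologicalSpace.Opens.mem_iSup.2 ⟨i, ?_⟩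
    change x ∈ Set.range (s i)
    rw [hrange]
    exact ⟨t, ht⟩
  have hdisj : Pairwise (Function.onFun Disjoint fun i => (s i).opensRange) := by
    intro i j hij
    rw [Function.onFun, disjoint_iff]
    ext x
    simp only [TopologicalSpace.Opens.coe_inf, Set.mem_inter_iff, TopologicalSpace.Opens.coe_bot,
      Set.mem_empty_iff_false, iff_false, not_and]
    intro hxi hxj
    change x ∈ Set.range (s i) at hxi
    change x ∈ Set.range (s j) at hxj
    rw [hrange] at hxi hxj
    exact hij (hinj i j (sheet_eq_of_inter pP f ε i j ⟨x, hxi, hxj⟩))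
  have hcol := nonempty_isColimit_cofanMk_of s hcov hdisj
  rw [Cofan.nonempty_isColimit_iff_isIso_sigmaDesc] at hcol
  haveI : IsIso (Sigma.desc s) := hcol
  refine ⟨(asIso (Sigma.desc s)).symm, ?_⟩
  have h1 : Sigma.desc s ≫ pP = Sigma.desc (fun _ : I => 𝟙 S) := by
    apply Sigma.hom_ext
    intro i
    rw [Sigma.ι_desc_assoc, hs, Sigma.ι_desc]
  rw [← h1]
  simp

end Sheets2

end Groth.Agent.Lib.Helper10.TwCFp
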