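import Mathlib
import Groth.Agent.Lib.Helper10.TwCFp3

set_option autoImplicit false
set_option linter.unusedSectionVars false
set_option linter.style.haveILetI false
set_option backward.isDefEq.respectTransparency.types false
set_option maxHeartbeats 4000000
set_option synthInstance.maxHeartbeats 400000

universe u

open CategoryTheory CategoryTheory.Limits AlgebraicGeometry Opposite

namespace Groth.Agent.Lib.Helper10.TwCFp

theorem congrHom_hom_snd {X Y Z : Scheme.{u}} {f₁ f₂ : X ⟶ Z} {g₁ g₂ : Y ⟶ Z} (h₁ : f₁ = f₂)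
    (h₂ : g₁ = g₂) : (pullback.congrHom h₁ h₂).hom ≫ pullback.snd f₂ g₂ = pullback.snd f₁ g₁ := by
  subst h₁ h₂
  simp

theorem tau_injective {S Pl T : Scheme.{u}} [Nonempty T] (pP : Pl ⟶ S) (f : T ⟶ S) {I : Type u}
    (ε : pullback pP f ≅ ∐ fun _ : I => T)
    (hε : ε.hom ≫ Sigma.desc (fun _ : I => 𝟙 T) = pullback.snd pP f) (i j : I)
    (h : TwCFin.tau pP f ε i = TwCFin.tau pP f ε j) : i = j := by
  have h1 : ε.inv ≫ pullback.snd pP f = Sigma.desc (fun _ : I => 𝟙 T) := by
    rw [← hε, Iso.inv_hom_id_assoc]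
  have h2 : Sigma.ι (fun _ : I => T) i ≫ ε.inv = Sigma.ι (fun _ : I => T) j ≫ ε.inv := by
    apply pullback.hom_ext
    · simpa [TwCFin.tau] using h
    · rw [Category.assoc, Category.assoc, h1, Sigma.ι_desc, Sigma.ι_desc]
  have h3 : Sigma.ι (fun _ : I => T) i = Sigma.ι (fun _ : I => T) j := by
    rwa [cancel_mono] at h2
  obtain ⟨t⟩ := ‹Nonempty T›
  have h4 := congrArg (fun φ : T ⟶ ∐ fun _ : I => T => φ t) h3
  simp only at h4
  have := (sigmaι_eq_iff _ _ _ _ _).mp h4
  exact congrArg Sigma.fst this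

theorem etale_of_triv {S Pl T : Scheme.{u}} (pP : Pl ⟶ S) (f : T ⟶ S) [IsFinite f] [Flat f]
    [Surjective f] {I : Type u} (ε : pullback pP f ≅ ∐ fun _ : I => T)
    (hε : ε.hom ≫ Sigma.desc (fun _ : I => 𝟙 T) = pullback.snd pP f) : Etale pP := by
  have h1 : Etale (pullback.snd pP f) := by
    rw [← hε]
    haveI : Etale (Sigma.desc (fun _ : I => 𝟙 T)) :=
      IsZariskiLocalAtSource.sigmaDesc (P := @Etale) (fun _ => inferInstance)
    infer_instance
  exact MorphismProperty.of_isPullback_of_descendsAlong (P := @Etale)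
    (Q := @Surjective ⊓ @Flat ⊓ @QuasiCompact) (IsPullback.of_hasPullback pP f).flip
    ⟨⟨inferInstance, inferInstance⟩, inferInstance⟩ h1

/-- **Key theorem**: a scheme which becomes constant over a connected finite locally free cover
of a connected Noetherian base becomes constant over an étale cover. -/
theorem exists_etale_triv {B X : Scheme.{u}} (pX : X ⟶ B) :
    ∀ (n : ℕ) (S T : Scheme.{u}) (k : S ⟶ B) (π : T ⟶ S) [IsLocallyNoetherian S] [CompactSpace S]
      [ConnectedSpace T] [IsFinite π] [Flat π] [LocallyOfFinitePresentation π] [Surjective π]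
      (I : Type u) (ε : pullback pX (π ≫ k) ≅ ∐ fun _ : I => T)
      (_ : ε.hom ≫ Sigma.desc (fun _ : I => 𝟙 T) = pullback.snd pX (π ≫ k)),
      Nat.card (_root_.ConnectedComponents ↥(pullback π π)) ≤ n →
      ∃ (S'' : Scheme.{u}) (q : S'' ⟶ S), Etale q ∧ Surjective q ∧ ∃ (J : Type u)
        (ε'' : pullback pX (q ≫ k) ≅ ∐ fun _ : J => S''),
        ε''.hom ≫ Sigma.desc (fun _ : J => 𝟙 S'') = pullback.snd pX (q ≫ k) := by
  intro n
  induction n using Nat.strong_induction_on with
  | _ n ih =>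
  intro S T k π _ _ _ _ _ _ _ I ε hε hn
  let pS : pullback pX k ⟶ S := pullback.snd pX k
  let εS : pullback pS π ≅ ∐ fun _ : I => T := pullbackLeftPullbackSndIso pX k π ≪≫ ε
  have hεS : εS.hom ≫ Sigma.desc (fun _ : I => 𝟙 T) = pullback.snd pS π := by
    simp only [εS, Iso.trans_hom, Category.assoc, hε]
    exact pullbackLeftPullbackSndIso_hom_snd pX k π
  by_cases hinj : ∀ i j, sheet pS π εS i = sheet pS π εS j → i = j
  · obtain ⟨ε₀, hε₀⟩ := exists_iso_sigma_of_injective pS π εS hεS hinj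
    refine ⟨S, 𝟙 S, inferInstance, inferInstance, I,
      pullback.congrHom rfl (Category.id_comp k) ≪≫ ε₀, ?_⟩
    simp only [Iso.trans_hom, Category.assoc, hε₀]
    exact congrHom_hom_snd rfl (Category.id_comp k)
  · push Not at hinj
    obtain ⟨i, j, hij, hne⟩ := hinj
    haveI : Etale pS := etale_of_triv pS π εS hεS
    haveI : IsFinite ((sheet pS π εS i).ι ≫ pS) := isFinite_sheet pS π εS hεS i
    have hσ : sig pS π εS i ≫ (sheet pS π εS i).ι ≫ pS = π := sig_comp pS π εS hεS i
    have hr : Set.range (TwCFin.tau pS π εS j) ⊆ Set.range (sheet pS π εS i).ι := by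
      rw [Scheme.Opens.range_ι, hij]
      exact subset_rfl
    let σ' : T ⟶ (sheet pS π εS i : Scheme.{u}) :=
      IsOpenImmersion.lift (sheet pS π εS i).ι (TwCFin.tau pS π εS j) hr
    have hσ'ι : σ' ≫ (sheet pS π εS i).ι = TwCFin.tau pS π εS j :=
      IsOpenImmersion.lift_fac _ _ _
    have hσ' : σ' ≫ (sheet pS π εS i).ι ≫ pS = sig pS π εS i ≫ (sheet pS π εS i).ι ≫ pS := by
      rw [hσ, ← Category.assoc, hσ'ι, TwCFin.tau_comp pS π εS hεS]
    have hσne : σ' ≠ sig pS π εS i := by
      intro h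
      apply hne
      refine (tau_injective pS π εS hεS j i ?_).symm
      rw [← hσ'ι, h, sig_ι]
    haveI : Surjective (sig pS π εS i) := ⟨sig_surjective pS π εS i⟩
    haveI : IsFinite (sig pS π εS i ≫ (sheet pS π εS i).ι ≫ pS) := by rw [hσ]; infer_instance
    haveI : IsFinite (sig pS π εS i) := IsFinite.of_comp (sig pS π εS i) ((sheet pS π εS i).ι ≫ pS)
    haveI : Flat (sig pS π εS i ≫ (sheet pS π εS i).ι) := by rw [sig_ι]; infer_instance
    haveI : Flat (sig pS π εS i) := MorphismProperty.of_postcomp (W := @Flat)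
      (W' := MorphismProperty.monomorphisms Scheme.{u}) (sig pS π εS i) (sheet pS π εS i).ι
      (inferInstance : Mono (sheet pS π εS i).ι) ‹_›
    haveI : LocallyOfFinitePresentation (sig pS π εS i ≫ (sheet pS π εS i).ι) := by
      rw [sig_ι]; infer_instance
    haveI : LocallyOfFinitePresentation (sig pS π εS i) :=
      MorphismProperty.of_postcomp (W := @LocallyOfFinitePresentation)
        (W' := MorphismProperty.monomorphisms Scheme.{u}) (sig pS π εS i) (sheet pS π εS i).ι
        (inferInstance : Mono (sheet pS π εS i).ι) ‹_›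
    haveI : IsLocallyNoetherian (sheet pS π εS i : Scheme.{u}) :=
      LocallyOfFiniteType.isLocallyNoetherian ((sheet pS π εS i).ι ≫ pS)
    haveI : CompactSpace ↥(sheet pS π εS i : Scheme.{u}) :=
      QuasiCompact.compactSpace_of_compactSpace ((sheet pS π εS i).ι ≫ pS)
    haveI : ConnectedSpace ↥(sheet pS π εS i : Scheme.{u}) :=
      (sig_surjective pS π εS i).connectedSpace (sig pS π εS i).continuous
    haveI : IsLocallyNoetherian (pullback π π) :=
      LocallyOfFiniteType.isLocallyNoetherian (pullback.fst π π ≫ π)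
    haveI : CompactSpace ↥(pullback π π) :=
      QuasiCompact.compactSpace_of_compactSpace (pullback.fst π π ≫ π)
    haveI : IsNoetherian (pullback π π) := {}
    haveI : Finite (_root_.ConnectedComponents ↥(pullback π π)) :=
      finite_connectedComponents_of_noetherian _
    have hlt := card_connectedComponents_pullback_lt (sig pS π εS i) ((sheet pS π εS i).ι ≫ pS) π
      hσ σ' hσ' hσne
    have hk : sig pS π εS i ≫ ((sheet pS π εS i).ι ≫ pS) ≫ k = π ≫ k := by
      rw [← Category.assoc, hσ]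
    let ε₁ : pullback pX (sig pS π εS i ≫ ((sheet pS π εS i).ι ≫ pS) ≫ k) ≅ ∐ fun _ : I => T :=
      pullback.congrHom rfl hk ≪≫ ε
    have hε₁ : ε₁.hom ≫ Sigma.desc (fun _ : I => 𝟙 T) =
        pullback.snd pX (sig pS π εS i ≫ ((sheet pS π εS i).ι ≫ pS) ≫ k) := by
      simp only [ε₁, Iso.trans_hom, Category.assoc, hε]
      exact congrHom_hom_snd rfl hk
    obtain ⟨S'', q, hq1, hq2, J, ε'', hε''⟩ := ih _ (lt_of_lt_of_le hlt hn)
      (sheet pS π εS i : Scheme.{u}) T (((sheet pS π εS i).ι ≫ pS) ≫ k) (sig pS π εS i) I ε₁ hε₁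
      le_rfl
    haveI := hq1
    haveI := hq2
    haveI : Surjective (sig pS π εS i ≫ (sheet pS π εS i).ι ≫ pS) := by rw [hσ]; infer_instance
    haveI : Surjective ((sheet pS π εS i).ι ≫ pS) :=
      Surjective.of_comp (sig pS π εS i) ((sheet pS π εS i).ι ≫ pS)
    refine ⟨S'', q ≫ (sheet pS π εS i).ι ≫ pS, inferInstance, inferInstance, J,
      pullback.congrHom rfl (Category.assoc q ((sheet pS π εS i).ι ≫ pS) k) ≪≫ ε'', ?_⟩
    simp only [Iso.trans_hom, Category.assoc, hε'']
    exact congrHom_hom_snd rfl (Category.assoc q ((sheet pS π εS i).ι ≫ pS) k)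

end Groth.Agent.Lib.Helper10.TwCFp
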