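import Mathlib
import Groth.Agent.Lib.Helper10.TwCFp4
import Groth.Agent.Lib.Helper23.FppfDom
import Groth.Agent.Lib.Helper21.SCmp2

set_option autoImplicit false
set_option linter.unusedSectionVars false
set_option linter.style.haveILetI false
set_option backward.isDefEq.respectTransparency.types false
set_option maxHeartbeats 4000000
set_option synthInstance.maxHeartbeats 400000

universe u

open CategoryTheory CategoryTheory.Limits AlgebraicGeometry Opposite

namespace Groth.Agent.Lib.Helper10.TwCFp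

/-- **fppf charts of a twisted constant scheme over a locally Noetherian base can be replaced
by étale charts** -/
theorem exists_etale_chart_of_fppf_chart {B X : Scheme.{u}} [IsLocallyNoetherian B] (pX : X ⟶ B)
    {S' : Scheme.{u}} (f : S' ⟶ B) [Flat f] [LocallyOfFinitePresentation f] (s : B)
    (hs : s ∈ Set.range f) {I : Type u} (ε : pullback pX f ≅ ∐ fun _ : I => S')
    (hε : ε.hom ≫ Sigma.desc (fun _ : I => 𝟙 S') = pullback.snd pX f) :
    ∃ (S'' : Scheme.{u}) (g : S'' ⟶ B), Etale g ∧ s ∈ Set.range g ∧ ∃ (J : Type u)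
      (ε'' : pullback pX g ≅ ∐ fun _ : J => S''),
      ε''.hom ≫ Sigma.desc (fun _ : J => 𝟙 S'') = pullback.snd pX g := by
  obtain ⟨S₁, V, e, π₁, u, r, he, heu, -, hπs, hπf, hπfl, hπlfp, hr⟩ :=
    Groth.Agent.Lib.Helper23.FppfDom.exists_etaleNbhd_finLocFree_of_mem_range f s hs
  haveI := he
  haveI := hπs
  haveI := hπf
  haveI := hπfl
  haveI := hπlfp
  haveI : IsLocallyNoetherian S₁ := LocallyOfFiniteType.isLocallyNoetherian e
  haveI : LocallyConnectedSpace S₁ :=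
    Groth.Agent.Lib.Helper21.SCmp.locallyConnectedSpace_of_isLocallyNoetherian S₁
  -- a connected compact open neighbourhood of `u`
  obtain ⟨_, ⟨A, hA, rfl⟩, huA, -⟩ := S₁.isBasis_affineOpens.exists_subset_of_mem_open
    (Set.mem_univ u) isOpen_univ
  let O : S₁.Opens := ⟨connectedComponentIn (A : Set S₁) u, A.isOpen.connectedComponentIn⟩
  have huO : u ∈ O := mem_connectedComponentIn huA
  have hOc : IsCompact (O : Set S₁) := by
    change IsCompact (connectedComponentIn (A : Set S₁) u)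
    rw [connectedComponentIn_eq_image huA]
    haveI : CompactSpace ↥(A : Set S₁) := isCompact_iff_compactSpace.mp hA.isCompact
    exact (isClosed_connectedComponent.isCompact).image continuous_subtype_val
  haveI : CompactSpace ↥(O : Scheme.{u}) := isCompact_iff_compactSpace.mp hOc
  haveI : ConnectedSpace ↥(O : Scheme.{u}) :=
    isConnected_iff_connectedSpace.mp (isConnected_connectedComponentIn_iff.mpr huA)
  haveI : IsLocallyNoetherian (O : Scheme.{u}) := LocallyOfFiniteType.isLocallyNoetherian O.ι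
  -- the restriction of `π₁` over `O`
  haveI : IsFinite (π₁ ∣_ O) := IsZariskiLocalAtTarget.restrict ‹IsFinite π₁› O
  haveI : Flat (π₁ ∣_ O) := IsZariskiLocalAtTarget.restrict ‹Flat π₁› O
  haveI : LocallyOfFinitePresentation (π₁ ∣_ O) :=
    IsZariskiLocalAtTarget.restrict ‹LocallyOfFinitePresentation π₁› O
  haveI : Surjective (π₁ ∣_ O) := IsZariskiLocalAtTarget.restrict ‹Surjective π₁› O
  haveI : IsLocallyNoetherian (π₁ ⁻¹ᵁ O : Scheme.{u}) :=
    LocallyOfFiniteType.isLocallyNoetherian (π₁ ∣_ O)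
  haveI : LocallyConnectedSpace ↥(π₁ ⁻¹ᵁ O : Scheme.{u}) :=
    Groth.Agent.Lib.Helper21.SCmp.locallyConnectedSpace_of_isLocallyNoetherian _
  obtain ⟨v₀, -⟩ := (π₁ ∣_ O).surjective ⟨u, huO⟩
  let T : (π₁ ⁻¹ᵁ O : Scheme.{u}).Opens := ⟨connectedComponent v₀, isOpen_connectedComponent⟩
  have hTc : IsClosed (T : Set ↥(π₁ ⁻¹ᵁ O : Scheme.{u})) := isClosed_connectedComponent
  haveI : IsClosedImmersion T.ι := by
    refine IsClosedImmersion.of_isPreimmersion _ ?_
    rw [Scheme.Opens.range_ι]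
    exact hTc
  haveI : ConnectedSpace ↥(T : Scheme.{u}) :=
    isConnected_iff_connectedSpace.mp isConnected_connectedComponent
  haveI : Surjective (T.ι ≫ π₁ ∣_ O) := by
    have hrange : Set.range (T.ι ≫ π₁ ∣_ O) = (π₁ ∣_ O) '' (T : Set ↥(π₁ ⁻¹ᵁ O : Scheme.{u})) := by
      rw [Scheme.Hom.comp_base, TopCat.coe_comp, Set.range_comp, Scheme.Opens.range_ι]
    have hclopen : IsClopen (Set.range (T.ι ≫ π₁ ∣_ O)) := by
      rw [hrange]
      exact ⟨(π₁ ∣_ O).isClosedMap _ hTc, (π₁ ∣_ O).isOpenMap _ T.isOpen⟩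
    have hne : (Set.range (T.ι ≫ π₁ ∣_ O)).Nonempty := ⟨_, ⟨⟨v₀, mem_connectedComponent⟩, rfl⟩⟩
    have := hclopen.eq_univ hne
    exact ⟨fun y => by rw [← Set.mem_range, this]; trivial⟩
  -- the trivialisation
  let ρ : (T : Scheme.{u}) ⟶ S' := T.ι ≫ (π₁ ⁻¹ᵁ O).ι ≫ r
  have hρ : (T.ι ≫ π₁ ∣_ O) ≫ O.ι ≫ e = ρ ≫ f := by
    simp only [ρ, Category.assoc]
    rw [hr, morphismRestrict_ι_assoc]
  obtain ⟨ε', hε'⟩ := TwCQc.exists_triv_comp pX f ε hε ρ
  let εT : pullback pX ((T.ι ≫ π₁ ∣_ O) ≫ O.ι ≫ e) ≅ ∐ fun _ : I => (T : Scheme.{u}) :=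
    pullback.congrHom rfl hρ ≪≫ ε'
  have hεT : εT.hom ≫ Sigma.desc (fun _ : I => 𝟙 (T : Scheme.{u})) =
      pullback.snd pX ((T.ι ≫ π₁ ∣_ O) ≫ O.ι ≫ e) := by
    simp only [εT, Iso.trans_hom, Category.assoc, hε']
    exact congrHom_hom_snd rfl hρ
  obtain ⟨S'', q, hq1, hq2, J, ε'', hε''⟩ := exists_etale_triv pX _ (O : Scheme.{u})
    (T : Scheme.{u}) (O.ι ≫ e) (T.ι ≫ π₁ ∣_ O) I εT hεT le_rfl
  haveI := hq1
  refine ⟨S'', q ≫ O.ι ≫ e, inferInstance, ?_, J, ε'', hε''⟩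
  obtain ⟨z, hz⟩ := hq2.surj ⟨u, huO⟩
  refine ⟨z, ?_⟩
  rw [Scheme.Hom.comp_apply, hz, Scheme.Hom.comp_apply]
  exact heu

end Groth.Agent.Lib.Helper10.TwCFp
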