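import Mathlib
import Groth.Agent.Lib.Helper10.HensFin3
import Groth.Agent.Lib.Helper24.Filt5a

set_option autoImplicit false
set_option linter.unusedSectionVars false
set_option linter.style.haveILetI false
set_option backward.isDefEq.respectTransparency.types false
set_option maxHeartbeats 4000000
set_option synthInstance.maxHeartbeats 400000

universe u

open CategoryTheory CategoryTheory.Limits AlgebraicGeometry Opposite

namespace Groth.Agent.Lib.Helper10.TwCHens

/-- A nonempty closed subset of the spectrum of a local ring contains the closed point. -/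
theorem closedPoint_mem_of_isClosed (A : Type u) [CommRing A] [IsLocalRing A]
    (C : Set (PrimeSpectrum A)) (hC : IsClosed C) (hne : C.Nonempty) :
    IsLocalRing.closedPoint A ∈ C := by
  by_contra h
  have h1 : IsLocalRing.closedPoint A ∈ (⟨Cᶜ, hC.isOpen_compl⟩ : TopologicalSpace.Opens _) := h
  rw [IsLocalRing.closedPoint_mem_iff] at h1
  obtain ⟨c, hc⟩ := hne
  have : c ∈ (⟨Cᶜ, hC.isOpen_compl⟩ : TopologicalSpace.Opens (PrimeSpectrum A)) := by
    rw [h1]; trivial
  exact this hc

/-- If a closed map to a local spectrum has a single point over the closed point, then every point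
specialises to it. -/
theorem specializes_of_unique_closedFibre (A : Type u) [CommRing A] [IsLocalRing A]
    {Z : Scheme.{u}} (g : Z ⟶ Spec (CommRingCat.of A)) (hg : IsClosedMap g)
    (z₀ : Z) (h : ∀ z : Z, g z = IsLocalRing.closedPoint A → z = z₀) (z : Z) : z ⤳ z₀ := by
  have hcl : IsClosed (g '' closure {z}) := hg _ isClosed_closure
  have hne : (g '' closure {z}).Nonempty := ⟨g z, z, subset_closure rfl, rfl⟩
  obtain ⟨z', hz', hz'cp⟩ := closedPoint_mem_of_isClosed A _ hcl hne
  have := h z' hz'cp
  rw [this] at hz'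
  exact specializes_iff_mem_closure.mpr hz'

theorem preconnectedSpace_of_forall_specializes {Z : Type*} [TopologicalSpace Z] (z₀ : Z)
    (h : ∀ z : Z, z ⤳ z₀) : PreconnectedSpace Z := by
  refine ⟨isPreconnected_of_forall z₀ fun z _ => ?_⟩
  exact ⟨closure {z}, Set.subset_univ _, specializes_iff_mem_closure.mp (h z), subset_closure rfl,
    isPreconnected_singleton.closure⟩

/-- Over a henselian local ring, every étale neighbourhood of the closed point is refined by a
finite étale surjective one with a unique point over the closed point. -/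
theorem exists_finite_etale_chart (A : Type u) [CommRing A] [HenselianLocalRing A]
    {S' : Scheme.{u}} (g : S' ⟶ Spec (CommRingCat.of A)) [Etale g]
    (s' : S') (hs' : g s' = IsLocalRing.closedPoint A) :
    ∃ (T : Scheme.{u}) (p : T ⟶ S'), IsFinite (p ≫ g) ∧ Etale (p ≫ g) ∧ Surjective (p ≫ g) ∧
      ∃ t₀ : T, (p ≫ g) t₀ = IsLocalRing.closedPoint A ∧
        ∀ t : T, (p ≫ g) t = IsLocalRing.closedPoint A → t = t₀ := by
  haveI : LocallyQuasiFinite g := Groth.Agent.Lib.Helper24.Filt5a.locallyQuasiFinite_of_etale g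
  -- isolate s' in its fibre
  have hdisc := g.isDiscrete_preimage_singleton (IsLocalRing.closedPoint A)
  rw [isDiscrete_iff_forall_mem_exists_isOpen] at hdisc
  obtain ⟨V, hVo, hV⟩ := hdisc s' hs'
  have hV' : ∀ t : S', (t ∈ V ∧ g t = IsLocalRing.closedPoint A) ↔ t = s' :=
    fun t => Set.ext_iff.mp hV t
  have hs'V : s' ∈ V := ((hV' s').mpr rfl).1
  obtain ⟨_, ⟨U, hU : IsAffineOpen U, rfl⟩, hsU, hUV⟩ :=
    S'.isBasis_affineOpens.exists_subset_of_mem_open hs'V hVo
  have hUfib : ∀ t : S', t ∈ U → g t = IsLocalRing.closedPoint A → t = s' := by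
    intro t htU ht
    exact (hV' t).mp ⟨hUV htU, ht⟩
  set B : CommRingCat.{u} := Γ(S', U) with hB
  let j : Spec B ⟶ S' := hU.fromSpec
  let φ : CommRingCat.of A ⟶ B := Spec.preimage (j ≫ g)
  have hφ : Spec.map φ = j ≫ g := Spec.map_preimage _
  haveI : Etale (Spec.map φ) := by rw [hφ]; infer_instance
  have het : φ.hom.Etale := (HasRingHomProperty.Spec_iff (P := @Etale)).mp inferInstance
  letI : Algebra A B := φ.hom.toAlgebra
  haveI : Algebra.Etale A B := het
  haveI : Algebra.FiniteType A B := inferInstance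
  have hcomap : ∀ q : Spec B, PrimeSpectrum.comap (algebraMap A B) q = g (j q) := by
    intro q
    rw [← Scheme.Hom.comp_apply, ← hφ]
    rfl
  have hjU : ∀ q : Spec B, j q ∈ U := by
    intro q
    have : j q ∈ Set.range j := ⟨q, rfl⟩
    rw [hU.range_fromSpec] at this
    exact this
  set qs := hU.primeIdealOf ⟨s', hsU⟩ with hqs
  have hjs : j qs = s' := hU.fromSpec_primeIdealOf ⟨s', hsU⟩
  have hfibB : ∀ q : Spec B, PrimeSpectrum.comap (algebraMap A B) q = IsLocalRing.closedPoint A →
      q = qs := by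
    intro q hq
    apply j.isOpenEmbedding.injective
    rw [hjs]
    exact hUfib _ (hjU q) (by rw [← hcomap]; exact hq)
  have hfinB : (PrimeSpectrum.comap (algebraMap A B) ⁻¹' {IsLocalRing.closedPoint A}).Finite := by
    apply (Set.finite_singleton qs).subset
    intro q hq
    exact hfibB q hq
  obtain ⟨e, he, hfinC, hnot⟩ := HensFin.exists_idempotent A B hfinB
  let C : CommRingCat.{u} := CommRingCat.of (B ⧸ Ideal.span {1 - e})
  let π : B ⟶ C := CommRingCat.ofHom (Ideal.Quotient.mk (Ideal.span {1 - e}))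
  haveI hloc : IsLocalization.Away e (B ⧸ Ideal.span {1 - e}) :=
    IsLocalization.Away.quotient_of_isIdempotentElem he
  haveI : IsOpenImmersion (Spec.map π) :=
    AlgebraicGeometry.IsOpenImmersion.of_isLocalization (R := B) (S := B ⧸ Ideal.span {1 - e}) e
  have hπinj : Function.Injective (Spec.map π) := (Spec.map π).isOpenEmbedding.injective
  have h1 : (Spec.map π ≫ j) ≫ g = Spec.map (φ ≫ π) := by
    rw [Category.assoc, ← hφ, Spec.map_comp]
  have hqs_cp : PrimeSpectrum.comap (algebraMap A B) qs = IsLocalRing.closedPoint A := by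
    rw [hcomap, hjs, hs']
  have hes : e ∉ qs.asIdeal := hnot qs hqs_cp
  haveI := qs.isPrime
  have h1e : 1 - e ∈ qs.asIdeal := HensFin.one_sub_mem_of_le he le_rfl hes
  have hrange : qs ∈ Set.range (PrimeSpectrum.comap (Ideal.Quotient.mk (Ideal.span {1 - e}))) := by
    rw [_root_.range_comap_of_surjective _ _ Ideal.Quotient.mk_surjective,
      Ideal.mk_ker, PrimeSpectrum.mem_zeroLocus]
    intro x hx
    obtain ⟨c, rfl⟩ := Ideal.mem_span_singleton'.mp hx
    exact Ideal.mul_mem_left _ _ h1e
  obtain ⟨c₀, hc₀⟩ := hrange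
  have hc₀' : (Spec.map π) c₀ = qs := hc₀
  have hpc₀ : ((Spec.map π ≫ j) ≫ g) c₀ = IsLocalRing.closedPoint A := by
    rw [Scheme.Hom.comp_apply, Scheme.Hom.comp_apply, hc₀', hjs, hs']
  haveI hfinite : IsFinite ((Spec.map π ≫ j) ≫ g) := by
    have h2 : (φ ≫ π).hom.Finite := by
      have : (algebraMap A (B ⧸ Ideal.span {1 - e})).Finite := RingHom.finite_algebraMap.mpr hfinC
      exact this
    rw [h1, IsFinite.SpecMap_iff]; exact h2
  haveI hetale : Etale ((Spec.map π ≫ j) ≫ g) := inferInstance
  refine ⟨Spec C, Spec.map π ≫ j, hfinite, hetale, ?_, c₀, hpc₀, ?_⟩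
  · -- surjective: open range containing the closed point
    have hopen : IsOpen (Set.range ((Spec.map π ≫ j) ≫ g)) :=
      ((Spec.map π ≫ j) ≫ g).isOpenMap.isOpen_range
    have hmem : IsLocalRing.closedPoint A ∈
        (⟨Set.range ((Spec.map π ≫ j) ≫ g), hopen⟩ : TopologicalSpace.Opens (PrimeSpectrum A)) :=
      ⟨c₀, hpc₀⟩
    rw [IsLocalRing.closedPoint_mem_iff] at hmem
    refine ⟨fun a => ?_⟩
    have : a ∈ (⟨Set.range ((Spec.map π ≫ j) ≫ g), hopen⟩ :
        TopologicalSpace.Opens (PrimeSpectrum A)) := by rw [hmem]; trivial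
    exact this
  · intro t ht
    apply hπinj
    rw [hc₀']
    apply hfibB
    rw [hcomap]
    rw [Scheme.Hom.comp_apply, Scheme.Hom.comp_apply] at ht
    exact ht

end Groth.Agent.Lib.Helper10.TwCHens
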