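import Mathlib
import Groth.Agent.Lib.Helper10.FEtGraph

set_option autoImplicit false
set_option linter.unusedSectionVars false
set_option linter.style.haveILetI false
set_option backward.isDefEq.respectTransparency.types false
set_option maxHeartbeats 4000000
set_option synthInstance.maxHeartbeats 400000

universe u

open CategoryTheory CategoryTheory.Limits AlgebraicGeometry Opposite

namespace Groth.Agent.Lib.Helper10.TwCSec

/-- A section of a separated étale morphism with connected source is an isomorphism. -/
theorem isIso_section {Z S : Scheme.{u}} (g : Z ⟶ S) [Etale g] [IsSeparated g]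
    [PreconnectedSpace Z] [Nonempty S] (σ : S ⟶ Z) (hσ : σ ≫ g = 𝟙 S) : IsIso σ := by
  haveI : IsOpenImmersion σ := FEtGraph.isOpenImmersion_of_section σ g hσ
  haveI : IsClosedImmersion σ := by
    haveI : IsClosedImmersion (σ ≫ g) := by rw [hσ]; infer_instance
    exact IsClosedImmersion.of_comp σ g
  have hclopen : IsClopen (Set.range σ) :=
    ⟨σ.isClosedEmbedding.isClosed_range, σ.isOpenEmbedding.isOpen_range⟩
  have hne : (Set.range σ).Nonempty := Set.range_nonempty _
  have huniv : Set.range σ = Set.univ := by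
    rcases isClopen_iff.mp hclopen with h | h
    · exact absurd h hne.ne_empty
    · exact h
  haveI : Surjective σ := ⟨Set.range_eq_univ.mp huniv⟩
  exact (isIso_iff_isOpenImmersion_and_surjective σ).mpr ⟨inferInstance, inferInstance⟩

theorem isIso_of_section {Z S : Scheme.{u}} (g : Z ⟶ S) [Etale g] [IsSeparated g]
    [PreconnectedSpace Z] [Nonempty S] (σ : S ⟶ Z) (hσ : σ ≫ g = 𝟙 S) : IsIso g := by
  haveI := isIso_section g σ hσ
  have : g = inv σ := by rw [← cancel_epi σ, hσ, IsIso.hom_inv_id]
  rw [this]; infer_instance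

/-- Two sections of a separated étale morphism with connected source coincide. -/
theorem section_unique {Z S : Scheme.{u}} (g : Z ⟶ S) [Etale g] [IsSeparated g]
    [PreconnectedSpace Z] [Nonempty S] (σ₁ σ₂ : S ⟶ Z) (h₁ : σ₁ ≫ g = 𝟙 S) (h₂ : σ₂ ≫ g = 𝟙 S) :
    σ₁ = σ₂ := by
  haveI := isIso_of_section g σ₁ h₁
  rw [← cancel_mono g, h₁, h₂]

/-- A finite étale morphism over a connected base whose fibre over a monomorphic field point is a
single rational point is an isomorphism. -/
theorem isIso_of_fieldPoint {Z S : Scheme.{u}} (g : Z ⟶ S) [IsFinite g] [Etale g]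
    [PreconnectedSpace S] {K : Type u} [Field K] (ρ : Spec (CommRingCat.of K) ⟶ S) [Mono ρ]
    (τ : Spec (CommRingCat.of K) ⟶ Z) (hτ : τ ≫ g = ρ)
    (hfib : ∀ z z' : Z, g z = g z' → g z ∈ Set.range ρ → z = z') : IsIso g := by
  -- the fibre
  let τ' : Spec (CommRingCat.of K) ⟶ pullback g ρ := pullback.lift τ (𝟙 _) (by rw [hτ, Category.id_comp])
  have hτ' : τ' ≫ pullback.snd g ρ = 𝟙 _ := pullback.lift_snd _ _ _
  haveI : Mono (pullback.fst g ρ) := inferInstance
  have hinj : Function.Injective (pullback.fst g ρ) := by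
    haveI : UniversallyInjective (pullback.fst g ρ) := inferInstance
    exact (pullback.fst g ρ).injective
  have hsub : ∀ a b : ↥(pullback g ρ), a = b := by
    intro a b
    apply hinj
    apply hfib
    · rw [← Scheme.Hom.comp_apply, ← Scheme.Hom.comp_apply, pullback.condition,
        Scheme.Hom.comp_apply, Scheme.Hom.comp_apply]
      congr 1
      exact Subsingleton.elim _ _
    · rw [← Scheme.Hom.comp_apply, pullback.condition, Scheme.Hom.comp_apply]
      exact ⟨_, rfl⟩
  haveI : Subsingleton ↥(pullback g ρ) := ⟨hsub⟩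
  haveI : PreconnectedSpace ↥(pullback g ρ) := inferInstance
  haveI : IsSeparated (pullback.snd g ρ) := inferInstance
  haveI hiso : IsIso (pullback.snd g ρ) := isIso_of_section (pullback.snd g ρ) τ' hτ'
  have hrank : (pullback.snd g ρ).finrank = 1 := Scheme.Hom.finrank_eq_one_of_isIso _
  obtain ⟨w⟩ : Nonempty (Spec (CommRingCat.of K)) := inferInstance
  have h1 : g.finrank (ρ w) = 1 := by
    rw [← Scheme.Hom.finrank_pullback_snd g ρ w, hrank]; rfl
  rw [Scheme.Hom.isIso_iff_finrank_eq]
  ext s
  have := (Scheme.Hom.isLocallyConstant_finrank g).apply_eq_of_preconnectedSpace s (ρ w)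
  rw [this, h1]; rfl

end Groth.Agent.Lib.Helper10.TwCSec
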