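import Mathlib
import Groth.Agent.Lib.Helper10.TwCHens1
import Groth.Agent.Lib.Helper10.TwCSec1
import Groth.Agent.Lib.Helper10.TwCFp4

set_option autoImplicit false
set_option linter.unusedSectionVars false
set_option linter.style.haveILetI false
set_option backward.isDefEq.respectTransparency.types false
set_option maxHeartbeats 4000000
set_option synthInstance.maxHeartbeats 400000

universe u

open CategoryTheory CategoryTheory.Limits AlgebraicGeometry Opposite

namespace Groth.Agent.Lib.Helper10.TwCHens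

/-- If every point of an affine open `U` specialises to `x ∈ U`, then `Γ(U) → O_{X,x}` is an
isomorphism. -/
theorem isIso_SpecMap_germ {X : Scheme.{u}} {U : X.Opens} (hU : IsAffineOpen U) (x : X)
    (hxU : x ∈ U) (hsp : ∀ y ∈ U, y ⤳ x) : IsIso (X.presheaf.germ U x hxU) := by
  letI := X.presheaf.algebra_section_stalk ⟨x, hxU⟩
  haveI hloc := hU.isLocalization_stalk ⟨x, hxU⟩
  set p := hU.primeIdealOf ⟨x, hxU⟩ with hp
  have hjp : hU.fromSpec p = x := hU.fromSpec_primeIdealOf ⟨x, hxU⟩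
  have H : p.asIdeal.primeCompl ≤ IsUnit.submonoid Γ(X, U) := by
    intro a ha
    by_contra hnu
    change ¬ IsUnit a at hnu
    obtain ⟨m, hm, ham⟩ := exists_max_ideal_of_mem_nonunits hnu
    let q : PrimeSpectrum Γ(X, U) := ⟨m, hm.isPrime⟩
    have hqU : hU.fromSpec q ∈ U := by
      have : hU.fromSpec q ∈ Set.range hU.fromSpec := ⟨q, rfl⟩
      rw [hU.range_fromSpec] at this
      exact this
    have h1 : hU.fromSpec q ⤳ hU.fromSpec p := by rw [hjp]; exact hsp _ hqU
    have h2 : (show Spec Γ(X, U) from q) ⤳ (show Spec Γ(X, U) from p) := by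
      rw [← hU.fromSpec.isOpenEmbedding.isInducing.specializes_iff]; exact h1
    have hle : q.asIdeal ≤ p.asIdeal := (PrimeSpectrum.le_iff_specializes q p).mpr h2
    exact ha (hle ham)
  have hbij : Function.Bijective (algebraMap Γ(X, U) (X.presheaf.stalk x)) :=
    (IsLocalization.atUnits Γ(X, U) p.asIdeal.primeCompl (S := X.presheaf.stalk x) H).bijective
  exact (ConcreteCategory.isIso_iff_bijective _).mpr hbij

/-- In the situation of `isIso_SpecMap_germ`, `Spec O_{X,x} ⟶ X` is an isomorphism onto `U`. -/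
theorem exists_iso_fromSpecStalk {X : Scheme.{u}} {U : X.Opens} (hU : IsAffineOpen U) (x : X)
    (hxU : x ∈ U) (hsp : ∀ y ∈ U, y ⤳ x) :
    ∃ e : Spec (X.presheaf.stalk x) ≅ (U : Scheme.{u}), X.fromSpecStalk x = e.hom ≫ U.ι := by
  haveI := isIso_SpecMap_germ hU x hxU hsp
  refine ⟨asIso (Spec.map (X.presheaf.germ U x hxU)) ≪≫ hU.isoSpec.symm, ?_⟩
  rw [← hU.fromSpecStalk_eq_fromSpecStalk hxU, IsAffineOpen.fromSpecStalk]
  simp only [Iso.trans_hom, asIso_hom, Iso.symm_hom, Category.assoc]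
  rfl

section HensBase

variable (A : Type u) [CommRing A] [HenselianLocalRing A] {Pl T : Scheme.{u}}
  (pP : Pl ⟶ Spec (CommRingCat.of A)) (f : T ⟶ Spec (CommRingCat.of A)) [IsFinite f] [Etale f]
  [Surjective f] {I : Type u} (ε : pullback pP f ≅ ∐ fun _ : I => T)
  (hε : ε.hom ≫ Sigma.desc (fun _ : I => 𝟙 T) = pullback.snd pP f)
  (t₀ : T) (ht₀ : f t₀ = IsLocalRing.closedPoint A)
  (huniq : ∀ t : T, f t = IsLocalRing.closedPoint A → t = t₀)

include huniq in
theorem specializes_t₀ (t : T) : t ⤳ t₀ :=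
  specializes_of_unique_closedFibre A f f.isClosedMap t₀ huniq t

include huniq in
theorem preconnectedSpace_T : PreconnectedSpace T :=
  preconnectedSpace_of_forall_specializes t₀ (specializes_t₀ A f t₀ huniq)

include hε ht₀ in
theorem pP_tau_t₀ (i : I) : pP (TwCFin.tau pP f ε i t₀) = IsLocalRing.closedPoint A := by
  rw [← Scheme.Hom.comp_apply, TwCFin.tau_comp pP f ε hε, ht₀]

include hε huniq in
theorem eq_tau_t₀_of_mem_sheet (i : I) (y : Pl) (hy : y ∈ TwCFp.sheet pP f ε i)
    (hcp : pP y = IsLocalRing.closedPoint A) : y = TwCFin.tau pP f ε i t₀ := by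
  obtain ⟨t, rfl⟩ := hy
  have : f t = IsLocalRing.closedPoint A := by
    rw [← TwCFin.tau_comp pP f ε hε i, Scheme.Hom.comp_apply]; exact hcp
  rw [huniq t this]

include huniq in
theorem specializes_tau_t₀ (i : I) (y : Pl) (hy : y ∈ TwCFp.sheet pP f ε i) :
    y ⤳ TwCFin.tau pP f ε i t₀ := by
  obtain ⟨t, rfl⟩ := hy
  exact (specializes_t₀ A f t₀ huniq t).map (TwCFin.tau pP f ε i).continuous

theorem tau_t₀_mem_sheet (i : I) : TwCFin.tau pP f ε i t₀ ∈ TwCFp.sheet pP f ε i := ⟨t₀, rfl⟩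

include hε huniq in
theorem exists_eq_tau_t₀ (x : Pl) (hx : pP x = IsLocalRing.closedPoint A) :
    ∃ i : I, x = TwCFin.tau pP f ε i t₀ := by
  obtain ⟨i, t, rfl⟩ := TwCFp.exists_sheet pP f ε hε x
  exact ⟨i, eq_tau_t₀_of_mem_sheet A pP f ε hε t₀ huniq i _ ⟨t, rfl⟩ hx⟩

include hε in
theorem isAffineOpen_sheet (i : I) : IsAffineOpen (TwCFp.sheet pP f ε i) := by
  haveI := TwCFp.isFinite_sheet pP f ε hε i
  exact isAffine_of_isAffineHom ((TwCFp.sheet pP f ε i).ι ≫ pP)

include hε in
theorem etale_sheet (i : I) : Etale ((TwCFp.sheet pP f ε i).ι ≫ pP) := by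
  haveI := TwCFp.etale_of_triv pP f ε hε
  infer_instance

include hε in
theorem surjective_sheet (i : I) : Surjective ((TwCFp.sheet pP f ε i).ι ≫ pP) := by
  have h := TwCFp.sig_comp pP f ε hε i
  haveI : Surjective (TwCFp.sig pP f ε i ≫ (TwCFp.sheet pP f ε i).ι ≫ pP) := by
    rw [h]; infer_instance
  exact Surjective.of_comp (TwCFp.sig pP f ε i) _

include huniq in
theorem preconnectedSpace_sheet (i : I) : PreconnectedSpace ↥(TwCFp.sheet pP f ε i) := by
  haveI := preconnectedSpace_T A f t₀ huniq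
  exact Subtype.preconnectedSpace (TwCFp.isPreconnected_sheet pP f ε i)

end HensBase

end Groth.Agent.Lib.Helper10.TwCHens
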