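import Mathlib
import Groth.Agent.Lib.Helper10.TwCHens2
import Groth.Agent.Lib.Helper10.TwCQc1

set_option autoImplicit false
set_option linter.unusedSectionVars false
set_option linter.style.haveILetI false
set_option backward.isDefEq.respectTransparency.types false
set_option maxHeartbeats 4000000
set_option synthInstance.maxHeartbeats 400000

universe u

open CategoryTheory CategoryTheory.Limits AlgebraicGeometry Opposite

namespace Groth.Agent.Lib.Helper10.TwCHens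

theorem residue_apply (A : Type u) [CommRing A] [IsLocalRing A]
    (w : Spec (CommRingCat.of (IsLocalRing.ResidueField A))) :
    (Spec.map (CommRingCat.ofHom (IsLocalRing.residue A))) w = IsLocalRing.closedPoint A :=
  IsLocalRing.PrimeSpectrum.comap_residue A w

theorem range_residue (A : Type u) [CommRing A] [IsLocalRing A] :
    Set.range (Spec.map (CommRingCat.ofHom (IsLocalRing.residue A))) = {IsLocalRing.closedPoint A} := by
  ext y
  constructor
  · rintro ⟨w, rfl⟩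
    exact residue_apply A w
  · intro hy
    obtain ⟨w⟩ : Nonempty (Spec (CommRingCat.of (IsLocalRing.ResidueField A))) := inferInstance
    exact ⟨w, (residue_apply A w).trans hy.symm⟩

instance (A : Type u) [CommRing A] [IsLocalRing A] :
    IsClosedImmersion (Spec.map (CommRingCat.ofHom (IsLocalRing.residue A))) :=
  IsClosedImmersion.spec_of_surjective _ Ideal.Quotient.mk_surjective

theorem preconnectedSpace_spec_local (A : Type u) [CommRing A] [IsLocalRing A] :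
    PreconnectedSpace ↥(Spec (CommRingCat.of A)) :=
  preconnectedSpace_of_forall_specializes (IsLocalRing.closedPoint A)
    (fun z => IsLocalRing.specializes_closedPoint z)

/-- A morphism from a local spectrum whose closed point lands in an open lands in that open. -/
theorem range_subset_of_closedPoint_mem (A : Type u) [CommRing A] [IsLocalRing A] {Pl : Scheme.{u}}
    (σ : Spec (CommRingCat.of A) ⟶ Pl) (U : Pl.Opens) (h : σ (IsLocalRing.closedPoint A) ∈ U) :
    Set.range σ ⊆ (U : Set Pl) := by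
  rintro _ ⟨z, rfl⟩
  have hz : z ⤳ IsLocalRing.closedPoint A := IsLocalRing.specializes_closedPoint z
  exact (hz.map σ.continuous).mem_open U.isOpen h

theorem main_aux (A : Type u) [CommRing A] [HenselianLocalRing A] {Pl T : Scheme.{u}}
    (pP : Pl ⟶ Spec (CommRingCat.of A)) (f : T ⟶ Spec (CommRingCat.of A)) [IsFinite f] [Etale f]
    [Surjective f] {I : Type u} (ε : pullback pP f ≅ ∐ fun _ : I => T)
    (hε : ε.hom ≫ Sigma.desc (fun _ : I => 𝟙 T) = pullback.snd pP f)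
    (t₀ : T) (ht₀ : f t₀ = IsLocalRing.closedPoint A)
    (huniq : ∀ t : T, f t = IsLocalRing.closedPoint A → t = t₀) :
    (∀ x : Pl, pP.base x = IsLocalRing.closedPoint A →
      IsOpenImmersion (Pl.fromSpecStalk x) ∧ IsClosedImmersion (Pl.fromSpecStalk x) ∧
        IsFinite (Pl.fromSpecStalk x ≫ pP) ∧ Etale (Pl.fromSpecStalk x ≫ pP) ∧
        Surjective (Pl.fromSpecStalk x ≫ pP)) ∧
    (∀ y : Pl, ∃! x : Pl, pP.base x = IsLocalRing.closedPoint A ∧
      y ∈ Set.range (Pl.fromSpecStalk x).base) ∧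
    (∀ σ₁ σ₂ : Spec (CommRingCat.of A) ⟶ Pl, σ₁ ≫ pP = 𝟙 _ → σ₂ ≫ pP = 𝟙 _ →
      Spec.map (CommRingCat.ofHom (IsLocalRing.residue A)) ≫ σ₁ =
        Spec.map (CommRingCat.ofHom (IsLocalRing.residue A)) ≫ σ₂ → σ₁ = σ₂) ∧
    (∀ τ : Spec (CommRingCat.of (IsLocalRing.ResidueField A)) ⟶ Pl,
      τ ≫ pP = Spec.map (CommRingCat.ofHom (IsLocalRing.residue A)) →
      ∃ σ : Spec (CommRingCat.of A) ⟶ Pl, σ ≫ pP = 𝟙 _ ∧
        Spec.map (CommRingCat.ofHom (IsLocalRing.residue A)) ≫ σ = τ) := by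
  -- abbreviations
  have hsp := specializes_tau_t₀ A pP f ε t₀ huniq
  have hcl := TwCFp.isClosed_sheet pP f ε
  haveI hpre : ∀ i, PreconnectedSpace ↥(TwCFp.sheet pP f ε i) :=
    preconnectedSpace_sheet A pP f ε t₀ huniq
  haveI hfinS : ∀ i, IsFinite ((TwCFp.sheet pP f ε i).ι ≫ pP) := TwCFp.isFinite_sheet pP f ε hε
  haveI hetS : ∀ i, Etale ((TwCFp.sheet pP f ε i).ι ≫ pP) := etale_sheet A pP f ε hε
  haveI hsurjS : ∀ i, Surjective ((TwCFp.sheet pP f ε i).ι ≫ pP) := surjective_sheet A pP f ε hε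
  haveI : PreconnectedSpace ↥(Spec (CommRingCat.of A)) := preconnectedSpace_spec_local A
  refine ⟨?_, ?_, ?_, ?_⟩
  · -- (a)
    intro x hx
    obtain ⟨i, rfl⟩ := exists_eq_tau_t₀ A pP f ε hε t₀ huniq x hx
    obtain ⟨e, he⟩ := exists_iso_fromSpecStalk (isAffineOpen_sheet A pP f ε hε i)
      (TwCFin.tau pP f ε i t₀) (tau_t₀_mem_sheet A pP f ε t₀ i) (hsp i)
    rw [he]
    refine ⟨inferInstance, inferInstance, ?_, ?_, ?_⟩
    · rw [Category.assoc]; infer_instance
    · rw [Category.assoc]; infer_instance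
    · rw [Category.assoc]; infer_instance
  · -- (b)
    intro y
    obtain ⟨i, t, rfl⟩ := TwCFp.exists_sheet pP f ε hε y
    refine ⟨TwCFin.tau pP f ε i t₀, ⟨pP_tau_t₀ A pP f ε hε t₀ ht₀ i, ?_⟩, ?_⟩
    · change _ ∈ Set.range (Pl.fromSpecStalk _)
      rw [Scheme.range_fromSpecStalk]
      exact hsp i _ ⟨t, rfl⟩
    · rintro x' ⟨hx'cp, hx'⟩
      change _ ∈ Set.range (Pl.fromSpecStalk _) at hx'
      rw [Scheme.range_fromSpecStalk] at hx'
      have hx'mem : x' ∈ TwCFp.sheet pP f ε i := by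
        have h1 : x' ∈ closure {TwCFin.tau pP f ε i t} := specializes_iff_mem_closure.mp hx'
        exact (hcl i).closure_subset_iff.mpr (Set.singleton_subset_iff.mpr ⟨t, rfl⟩) h1
      exact eq_tau_t₀_of_mem_sheet A pP f ε hε t₀ huniq i x' hx'mem hx'cp
  · -- (c)
    intro σ₁ σ₂ h₁ h₂ hres
    obtain ⟨w⟩ : Nonempty (Spec (CommRingCat.of (IsLocalRing.ResidueField A))) := inferInstance
    have hpt : σ₁ (IsLocalRing.closedPoint A) = σ₂ (IsLocalRing.closedPoint A) := by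
      have := congrArg (fun m => m w) hres
      simp only [Scheme.Hom.comp_apply, residue_apply] at this
      exact this
    obtain ⟨i, t, hit⟩ := TwCFp.exists_sheet pP f ε hε (σ₁ (IsLocalRing.closedPoint A))
    have hm1 : σ₁ (IsLocalRing.closedPoint A) ∈ TwCFp.sheet pP f ε i := ⟨t, hit⟩
    have hm2 : σ₂ (IsLocalRing.closedPoint A) ∈ TwCFp.sheet pP f ε i := hpt ▸ hm1
    have hr1 : Set.range σ₁ ⊆ Set.range (TwCFp.sheet pP f ε i).ι := by
      rw [Scheme.Opens.range_ι]; exact range_subset_of_closedPoint_mem A σ₁ _ hm1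
    have hr2 : Set.range σ₂ ⊆ Set.range (TwCFp.sheet pP f ε i).ι := by
      rw [Scheme.Opens.range_ι]; exact range_subset_of_closedPoint_mem A σ₂ _ hm2
    let σ₁' := IsOpenImmersion.lift (TwCFp.sheet pP f ε i).ι σ₁ hr1
    let σ₂' := IsOpenImmersion.lift (TwCFp.sheet pP f ε i).ι σ₂ hr2
    have e1 : σ₁' ≫ (TwCFp.sheet pP f ε i).ι = σ₁ := IsOpenImmersion.lift_fac _ _ _
    have e2 : σ₂' ≫ (TwCFp.sheet pP f ε i).ι = σ₂ := IsOpenImmersion.lift_fac _ _ _
    have hs1 : σ₁' ≫ (TwCFp.sheet pP f ε i).ι ≫ pP = 𝟙 _ := by rw [← Category.assoc, e1, h₁]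
    have hs2 : σ₂' ≫ (TwCFp.sheet pP f ε i).ι ≫ pP = 𝟙 _ := by rw [← Category.assoc, e2, h₂]
    haveI : IsSeparated ((TwCFp.sheet pP f ε i).ι ≫ pP) := inferInstance
    haveI : PreconnectedSpace ↥((TwCFp.sheet pP f ε i : Pl.Opens) : Scheme.{u}) := hpre i
    have := TwCSec.section_unique ((TwCFp.sheet pP f ε i).ι ≫ pP) σ₁' σ₂' hs1 hs2
    rw [← e1, ← e2, this]
  · -- (d)
    intro τ hτ
    obtain ⟨w⟩ : Nonempty (Spec (CommRingCat.of (IsLocalRing.ResidueField A))) := inferInstance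
    have hx : pP (τ w) = IsLocalRing.closedPoint A := by
      rw [← Scheme.Hom.comp_apply, hτ, residue_apply]
    obtain ⟨i, hi⟩ := exists_eq_tau_t₀ A pP f ε hε t₀ huniq (τ w) hx
    have hrτ : Set.range τ ⊆ Set.range (TwCFp.sheet pP f ε i).ι := by
      rw [Scheme.Opens.range_ι]
      rintro _ ⟨w', rfl⟩
      rw [Subsingleton.elim w' w, hi]
      exact tau_t₀_mem_sheet A pP f ε t₀ i
    let τ' := IsOpenImmersion.lift (TwCFp.sheet pP f ε i).ι τ hrτ
    have eτ : τ' ≫ (TwCFp.sheet pP f ε i).ι = τ := IsOpenImmersion.lift_fac _ _ _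
    have hτ' : τ' ≫ (TwCFp.sheet pP f ε i).ι ≫ pP =
        Spec.map (CommRingCat.ofHom (IsLocalRing.residue A)) := by
      rw [← Category.assoc, eτ, hτ]
    haveI : Mono (Spec.map (CommRingCat.ofHom (IsLocalRing.residue A))) := inferInstance
    haveI : PreconnectedSpace ↥((TwCFp.sheet pP f ε i : Pl.Opens) : Scheme.{u}) := hpre i
    haveI hiso : IsIso ((TwCFp.sheet pP f ε i).ι ≫ pP) := by
      refine TwCSec.isIso_of_fieldPoint ((TwCFp.sheet pP f ε i).ι ≫ pP)
        (Spec.map (CommRingCat.ofHom (IsLocalRing.residue A))) τ' hτ' ?_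
      intro z z' hzz' hz
      rw [range_residue] at hz
      have hz1 : pP ((TwCFp.sheet pP f ε i).ι z) = IsLocalRing.closedPoint A := by
        rw [← Scheme.Hom.comp_apply]; exact hz
      have hz2 : pP ((TwCFp.sheet pP f ε i).ι z') = IsLocalRing.closedPoint A := by
        rw [← Scheme.Hom.comp_apply, ← hzz']; exact hz
      apply (TwCFp.sheet pP f ε i).ι.isOpenEmbedding.injective
      have hm1 : (TwCFp.sheet pP f ε i).ι z ∈ TwCFp.sheet pP f ε i := z.2
      have hm2 : (TwCFp.sheet pP f ε i).ι z' ∈ TwCFp.sheet pP f ε i := z'.2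
      exact (eq_tau_t₀_of_mem_sheet A pP f ε hε t₀ huniq i _ hm1 hz1).trans
        (eq_tau_t₀_of_mem_sheet A pP f ε hε t₀ huniq i _ hm2 hz2).symm
    refine ⟨inv ((TwCFp.sheet pP f ε i).ι ≫ pP) ≫ (TwCFp.sheet pP f ε i).ι, ?_, ?_⟩
    · rw [Category.assoc, IsIso.inv_hom_id]
    · rw [← eτ, ← Category.assoc]
      congr 1
      rw [IsIso.comp_inv_eq, hτ']

theorem main (A : Type u) [CommRing A] [HenselianLocalRing A] {Pl : Scheme.{u}}
    (pP : Pl ⟶ Spec (CommRingCat.of A))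
    (hchart : ∃ (S' : Scheme.{u}) (g : S' ⟶ Spec (CommRingCat.of A)) (_ : Etale g) (I : Type u)
      (ε : pullback pP g ≅ ∐ fun _ : I => S')
      (_ : ε.hom ≫ Sigma.desc (fun _ : I => 𝟙 S') = pullback.snd pP g),
      IsLocalRing.closedPoint A ∈ Set.range g) :
    (∀ x : Pl, pP.base x = IsLocalRing.closedPoint A →
      IsOpenImmersion (Pl.fromSpecStalk x) ∧ IsClosedImmersion (Pl.fromSpecStalk x) ∧
        IsFinite (Pl.fromSpecStalk x ≫ pP) ∧ Etale (Pl.fromSpecStalk x ≫ pP) ∧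
        Surjective (Pl.fromSpecStalk x ≫ pP)) ∧
    (∀ y : Pl, ∃! x : Pl, pP.base x = IsLocalRing.closedPoint A ∧
      y ∈ Set.range (Pl.fromSpecStalk x).base) ∧
    (∀ σ₁ σ₂ : Spec (CommRingCat.of A) ⟶ Pl, σ₁ ≫ pP = 𝟙 _ → σ₂ ≫ pP = 𝟙 _ →
      Spec.map (CommRingCat.ofHom (IsLocalRing.residue A)) ≫ σ₁ =
        Spec.map (CommRingCat.ofHom (IsLocalRing.residue A)) ≫ σ₂ → σ₁ = σ₂) ∧
    (∀ τ : Spec (CommRingCat.of (IsLocalRing.ResidueField A)) ⟶ Pl,
      τ ≫ pP = Spec.map (CommRingCat.ofHom (IsLocalRing.residue A)) →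
      ∃ σ : Spec (CommRingCat.of A) ⟶ Pl, σ ≫ pP = 𝟙 _ ∧
        Spec.map (CommRingCat.ofHom (IsLocalRing.residue A)) ≫ σ = τ) := by
  obtain ⟨S', g, hg, I, ε₀, hε₀, s', hs'⟩ := hchart
  haveI := hg
  obtain ⟨T, p, hfin, het, hsurj, t₀, ht₀, huniq⟩ := exists_finite_etale_chart A g s' hs'
  haveI := hfin
  haveI := het
  haveI := hsurj
  obtain ⟨ε, hε⟩ := TwCQc.exists_triv_comp pP g ε₀ hε₀ p
  exact main_aux A pP (p ≫ g) ε hε t₀ ht₀ huniq

end Groth.Agent.Lib.Helper10.TwCHens
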