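import Mathlib
import Groth.Prelude.Def_CAlg2
import Groth.Agent.S9782
import Groth.Agent.Lib.Helper24.Filt5a

set_option autoImplicit false
set_option linter.unusedSectionVars false
set_option linter.style.haveILetI false
set_option backward.isDefEq.respectTransparency.types false
set_option maxHeartbeats 4000000
set_option synthInstance.maxHeartbeats 400000

universe u

open CategoryTheory CategoryTheory.Limits AlgebraicGeometry Opposite

namespace Groth.Agent.Lib.Helper10.TwCIrr

section

variable {S U : Scheme.{u}} [IrreducibleSpace S]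
  (hS : ∀ s : S, CAlg2.IsGeomUnibranch (S.presheaf.stalk s)) (g : U ⟶ S) [Etale g]

/-- Every point has a generisation over the generic point. -/
theorem exists_generic_generization (u : U) : ∃ l : U, g l = genericPoint S ∧ l ⤳ u := by
  have hgen : GeneralizingMap g := Flat.generalizingMap g
  obtain ⟨l, hl, hgl⟩ := hgen (genericPoint_specializes (g u))
  exact ⟨l, hgl, hl⟩

/-- There are no nontrivial specialisations inside a fibre of an étale morphism. -/
theorem eq_of_specializes_of_fibre {l m : U} (h : l ⤳ m) (hlm : g l = g m) : l = m := by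
  haveI : LocallyQuasiFinite g := Groth.Agent.Lib.Helper24.Filt5a.locallyQuasiFinite_of_etale g
  have hdisc := g.isDiscrete_preimage_singleton (g m)
  rw [isDiscrete_iff_forall_mem_exists_isOpen] at hdisc
  obtain ⟨V, hVo, hV⟩ := hdisc m rfl
  have hV' : ∀ t : U, (t ∈ V ∧ g t = g m) ↔ t = m := fun t => Set.ext_iff.mp hV t
  have hmV : m ∈ V := ((hV' m).mpr rfl).1
  exact (hV' l).mp ⟨h.mem_open hVo hmV, hlm⟩

theorem eq_genericPoint_of_specializes {s : S} (h : s ⤳ genericPoint S) : s = genericPoint S :=
  (h.antisymm (genericPoint_specializes s)).eq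

/-- The closure of a point over the generic point is an irreducible component. -/
theorem closure_mem_irreducibleComponents (l : U) (hl : g l = genericPoint S) :
    closure ({l} : Set U) ∈ irreducibleComponents U := by
  refine ⟨isIrreducible_singleton.closure, fun Z hZ hle => ?_⟩
  set z := hZ.genericPoint with hz
  have hzgen : IsGenericPoint z (closure Z) := hZ.isGenericPoint_genericPoint_closure
  have hlZ : l ∈ closure Z := subset_closure (hle (subset_closure rfl))
  have hzl : z ⤳ l := hzgen.specializes hlZ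
  have hgz : g z = genericPoint S := by
    apply eq_genericPoint_of_specializes
    rw [← hl]
    exact hzl.map g.continuous
  have hzl' : z = l := eq_of_specializes_of_fibre g hzl (hgz.trans hl.symm)
  have : closure Z = closure {l} := by rw [← hzl']; exact hzgen.def.symm
  exact subset_closure.trans this.le

include hS in
/-- The closures of distinct points over the generic point are disjoint. -/
theorem eq_of_mem_closure_inter (l m : U) (hl : g l = genericPoint S) (hm : g m = genericPoint S)
    (u : U) (hul : u ∈ closure ({l} : Set U)) (hum : u ∈ closure ({m} : Set U)) : l = m := by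
  have h1 := (Groth.Agent.S9782.result S (g u)).mp (hS (g u)) U g u inferInstance rfl
  obtain ⟨Z, hZ⟩ := Set.encard_eq_one.mp h1
  have hl' : closure ({l} : Set U) ∈ ({Z} : Set (Set U)) := by
    rw [← hZ]; exact ⟨closure_mem_irreducibleComponents g l hl, hul⟩
  have hm' : closure ({m} : Set U) ∈ ({Z} : Set (Set U)) := by
    rw [← hZ]; exact ⟨closure_mem_irreducibleComponents g m hm, hum⟩
  have heq : closure ({l} : Set U) = closure ({m} : Set U) := hl'.trans hm'.symm
  have hlm : l ⤳ m := by
    rw [specializes_iff_mem_closure, heq]; exact subset_closure rfl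
  exact eq_of_specializes_of_fibre g hlm (hl.trans hm.symm)

/-- The generic fibre of the closure of `l` is `{l}`. -/
theorem eq_of_mem_closure_of_generic (l m : U) (hl : g l = genericPoint S)
    (hm : g m = genericPoint S) (hml : m ∈ closure ({l} : Set U)) : m = l :=
  (eq_of_specializes_of_fibre g (specializes_iff_mem_closure.mpr hml) (hl.trans hm.symm)).symm

include hS in
/-- The closure of a point over the generic point is open. -/
theorem isOpen_closure (l : U) (hl : g l = genericPoint S) : IsOpen (closure ({l} : Set U)) := by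
  rw [isOpen_iff_forall_mem_open]
  intro x hx
  -- affine neighbourhoods
  obtain ⟨_, ⟨V0, hV0 : IsAffineOpen V0, rfl⟩, hxV0, -⟩ :=
    S.isBasis_affineOpens.exists_subset_of_mem_open (Set.mem_univ (g x)) isOpen_univ
  obtain ⟨V, hVeq⟩ : ∃ V : S.Opens, V = V0 := ⟨V0, rfl⟩
  have hV : IsAffineOpen V := hVeq ▸ hV0
  have hxV : g x ∈ V := hVeq ▸ hxV0
  obtain ⟨_, ⟨W0, hW0 : IsAffineOpen W0, rfl⟩, hxW0, hWV0⟩ :=
    U.isBasis_affineOpens.exists_subset_of_mem_open (show x ∈ ((g ⁻¹ᵁ V : U.Opens) : Set U) from hxV)
      (g ⁻¹ᵁ V).isOpen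
  obtain ⟨W, hWeq⟩ : ∃ W : U.Opens, W = W0 := ⟨W0, rfl⟩
  have hW : IsAffineOpen W := hWeq ▸ hW0
  have hxW : x ∈ W := hWeq ▸ hxW0
  have hWV : (W : Set U) ⊆ ((g ⁻¹ᵁ V : U.Opens) : Set U) := hWeq ▸ hWV0
  -- the morphism W → V
  have hr : Set.range (W.ι ≫ g) ⊆ Set.range V.ι := by
    rw [Scheme.Opens.range_ι]
    rintro _ ⟨w, rfl⟩
    exact hWV w.2
  let h : (W : Scheme.{u}) ⟶ (V : Scheme.{u}) := IsOpenImmersion.lift V.ι (W.ι ≫ g) hr
  have hfac : h ≫ V.ι = W.ι ≫ g := IsOpenImmersion.lift_fac _ _ _
  haveI : IsAffine (W : Scheme.{u}) := hW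
  haveI : IsAffine (V : Scheme.{u}) := hV
  haveI : Etale (h ≫ V.ι) := by rw [hfac]; infer_instance
  haveI : Etale h := MorphismProperty.of_postcomp (W := @Etale) (W' := @IsOpenImmersion) h V.ι
    inferInstance inferInstance
  haveI : LocallyQuasiFinite h := Groth.Agent.Lib.Helper24.Filt5a.locallyQuasiFinite_of_etale h
  haveI : QuasiCompact h := inferInstance
  -- the generic point lies in V
  have hηV : genericPoint S ∈ V := (genericPoint_specializes (g x)).mem_open V.isOpen hxV
  have hfin : (h ⁻¹' {⟨genericPoint S, hηV⟩}).Finite := h.finite_preimage_singleton _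
  -- generic points of W
  let F : Set U := W.ι '' (h ⁻¹' {⟨genericPoint S, hηV⟩})
  have hFfin : F.Finite := hfin.image _
  have hF : ∀ m : U, m ∈ F ↔ m ∈ W ∧ g m = genericPoint S := by
    intro m
    constructor
    · rintro ⟨w, hw, rfl⟩
      refine ⟨w.2, ?_⟩
      have h1 : V.ι (h w) = genericPoint S := by rw [hw]; rfl
      rw [← Scheme.Hom.comp_apply, hfac] at h1
      exact h1
    · rintro ⟨hmW, hgm⟩
      refine ⟨⟨m, hmW⟩, ?_, rfl⟩
      apply V.ι.isOpenEmbedding.injective
      change (h ≫ V.ι) ⟨m, hmW⟩ = genericPoint S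
      rw [hfac]; exact hgm
  -- the closed set
  let K : Set U := ⋃ m ∈ F \ {l}, closure ({m} : Set U)
  have hK : IsClosed K := (hFfin.subset Set.diff_subset).isClosed_biUnion fun m _ => isClosed_closure
  refine ⟨(W : Set U) ∩ Kᶜ, ?_, W.isOpen.inter hK.isOpen_compl, ⟨hxW, ?_⟩⟩
  · rintro w ⟨hwW, hwK⟩
    obtain ⟨m, hm, hmw⟩ := exists_generic_generization g w
    have hmW : m ∈ W := hmw.mem_open W.isOpen hwW
    have hmF : m ∈ F := (hF m).mpr ⟨hmW, hm⟩
    by_cases hml : m = l
    · rw [← hml]; exact specializes_iff_mem_closure.mp hmw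
    · exfalso
      apply hwK
      exact Set.mem_biUnion (show m ∈ F \ {l} from ⟨hmF, hml⟩) (specializes_iff_mem_closure.mp hmw)
  · intro hxK
    obtain ⟨m, ⟨hmF, hml⟩, hxm⟩ := Set.mem_iUnion₂.mp hxK
    exact hml (eq_of_mem_closure_inter hS g m l ((hF m).mp hmF).2 hl x hxm hx)

end

end Groth.Agent.Lib.Helper10.TwCIrr
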