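import Mathlib
import Groth.Agent.Lib.Helper10.TwCQc1
import Groth.Agent.Lib.Helper10.TwCFp4

set_option autoImplicit false
set_option linter.unusedSectionVars false
set_option linter.style.haveILetI false
set_option backward.isDefEq.respectTransparency.types false
set_option maxHeartbeats 4000000
set_option synthInstance.maxHeartbeats 400000

universe u

open CategoryTheory CategoryTheory.Limits AlgebraicGeometry Opposite

namespace Groth.Agent.Lib.Helper10.TwCIrr

/-- Trivialising charts are stable under base change. -/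
theorem chart_baseChange {S Pl S' B : Scheme.{u}} (pP : Pl ⟶ S) (f : S' ⟶ S) {I : Type u}
    (ε : pullback pP f ≅ ∐ fun _ : I => S')
    (hε : ε.hom ≫ Sigma.desc (fun _ : I => 𝟙 S') = pullback.snd pP f) (k : B ⟶ S) :
    ∃ ε' : pullback (pullback.snd pP k) (pullback.snd f k) ≅ ∐ fun _ : I => pullback f k,
      ε'.hom ≫ Sigma.desc (fun _ : I => 𝟙 (pullback f k)) =
        pullback.snd (pullback.snd pP k) (pullback.snd f k) := by
  obtain ⟨ε₁, hε₁⟩ := TwCQc.exists_triv_comp pP f ε hε (pullback.fst f k)
  have hc : pullback.fst f k ≫ f = pullback.snd f k ≫ k := pullback.condition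
  refine ⟨pullbackLeftPullbackSndIso pP k (pullback.snd f k) ≪≫
    pullback.congrHom rfl hc.symm ≪≫ ε₁, ?_⟩
  simp only [Iso.trans_hom, Category.assoc, hε₁]
  rw [TwCFp.congrHom_hom_snd, pullbackLeftPullbackSndIso_hom_snd]

theorem mem_range_snd {S S' B : Scheme.{u}} (f : S' ⟶ S) (k : B ⟶ S) (b : B)
    (hb : k b ∈ Set.range f) : b ∈ Set.range (pullback.snd f k) := by
  obtain ⟨s', hs'⟩ := hb
  obtain ⟨q, -, hq⟩ := Scheme.Pullback.exists_preimage_pullback (f := f) (g := k) s' b hs'
  exact ⟨q, hq⟩

end Groth.Agent.Lib.Helper10.TwCIrr
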