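import Mathlib
import Groth.Agent.Lib.Helper10.TwCIrr1
import Groth.Agent.Lib.Helper10.TwCIrr2
import Groth.Agent.Lib.Helper10.TwCFin4

set_option autoImplicit false
set_option linter.unusedSectionVars false
set_option linter.style.haveILetI false
set_option backward.isDefEq.respectTransparency.types false
set_option maxHeartbeats 4000000
set_option synthInstance.maxHeartbeats 400000

universe u

open CategoryTheory CategoryTheory.Limits AlgebraicGeometry Opposite

namespace Groth.Agent.Lib.Helper10.TwCIrr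

theorem isClosedImmersion_opens_ι {X : Scheme.{u}} (U : X.Opens) (hU : IsClosed (U : Set X)) :
    IsClosedImmersion U.ι := by
  refine IsClosedImmersion.of_isPreimmersion _ ?_
  rw [Scheme.Opens.range_ι]; exact hU

section

variable {S Pl B : Scheme.{u}} [IrreducibleSpace S]
  (hS : ∀ s : S, CAlg2.IsGeomUnibranch (S.presheaf.stalk s)) (pP : Pl ⟶ S)
  (hchart : ∀ s : S, ∃ (S' : Scheme.{u}) (f : S' ⟶ S) (_ : Etale f) (I : Type u)
    (ε : pullback pP f ≅ ∐ fun _ : I => S')
    (_ : ε.hom ≫ Sigma.desc (fun _ : I => 𝟙 S') = pullback.snd pP f), s ∈ Set.range f)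
  (l : Pl) (hl : pP l = genericPoint S) (Uo : Pl.Opens) (hUo : (Uo : Set Pl) = closure {l})
  (k : B ⟶ S) [IsOpenImmersion k] [IsAffine B]

include hS hchart in
/-- charts over an affine open of the base, with preconnected compact pieces -/
theorem exists_chart_affine (b : B) :
    ∃ (S'' : Scheme.{u}) (f' : S'' ⟶ B) (_ : Etale f') (I : Type u)
      (ε' : pullback (pullback.snd pP k) f' ≅ ∐ fun _ : I => S'')
      (_ : ε'.hom ≫ Sigma.desc (fun _ : I => 𝟙 S'') = pullback.snd (pullback.snd pP k) f')
      (W : S''.Opens),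
      _root_.IsPreconnected (W : Set S'') ∧ QuasiCompact (W.ι ≫ f') ∧ b ∈ Set.range (W.ι ≫ f') := by
  obtain ⟨S', f, hf, I, ε, hε, hmem⟩ := hchart (k b)
  haveI := hf
  obtain ⟨ε', hε'⟩ := chart_baseChange pP f ε hε k
  obtain ⟨q, hq⟩ := mem_range_snd f k b hmem
  haveI : Etale (pullback.snd f k ≫ k) := inferInstance
  obtain ⟨m, hm, hmq⟩ := exists_generic_generization (pullback.snd f k ≫ k) q
  have hopen := isOpen_closure hS (pullback.snd f k ≫ k) m hm
  obtain ⟨_, ⟨W0, hW0 : IsAffineOpen W0, rfl⟩, hqW0, -⟩ :=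
    (pullback f k).isBasis_affineOpens.exists_subset_of_mem_open (Set.mem_univ q) isOpen_univ
  let W : (pullback f k).Opens := ⟨closure {m} ∩ (W0 : Set ↥(pullback f k)), hopen.inter W0.isOpen⟩
  have hmW0 : m ∈ W0 := hmq.mem_open W0.isOpen hqW0
  have hqW : q ∈ W := ⟨specializes_iff_mem_closure.mp hmq, hqW0⟩
  refine ⟨pullback f k, pullback.snd f k, inferInstance, I, ε', hε', W, ?_, ?_, ?_⟩
  · refine isPreconnected_singleton.subset_closure (s := {m}) ?_ Set.inter_subset_left
    rintro _ rfl
    exact ⟨subset_closure rfl, hmW0⟩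
  · have hc : IsCompact (W : Set ↥(pullback f k)) := hW0.isCompact.inter_left isClosed_closure
    haveI : CompactSpace ↥W := isCompact_iff_compactSpace.mp hc
    exact (quasiCompact_iff_compactSpace (W.ι ≫ pullback.snd f k)).mpr this
  · exact ⟨⟨q, hqW⟩, hq⟩

include hS hchart hl hUo in
theorem isFinite_snd_closure : IsFinite (pullback.snd (Uo.ι ≫ pP) k) := by
  have hUcl : IsClosed (Uo : Set Pl) := by rw [hUo]; exact isClosed_closure
  haveI : IsClosedImmersion Uo.ι := isClosedImmersion_opens_ι Uo hUcl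
  let zB : pullback (Uo.ι ≫ pP) k ⟶ pullback pP k :=
    pullback.map (Uo.ι ≫ pP) k pP k Uo.ι (𝟙 B) (𝟙 S) (by simp) (by simp)
  have hzB : zB ≫ pullback.snd pP k = pullback.snd (Uo.ι ≫ pP) k := by
    dsimp only [zB, pullback.map]
    rw [pullback.lift_snd, Category.comp_id]
  haveI : IsOpenImmersion zB := by dsimp only [zB]; infer_instance
  haveI : IsClosedImmersion zB := by
    refine IsClosedImmersion.of_isPreimmersion _ ?_
    dsimp only [zB]
    rw [Scheme.Pullback.range_map]
    refine IsClosed.inter ?_ ?_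
    · refine IsClosed.preimage (pullback.fst pP k).continuous ?_
      rw [Scheme.Opens.range_ι]; exact hUcl
    · have : Set.range (𝟙 B : B ⟶ B) = Set.univ := Set.range_eq_univ.mpr (fun b => ⟨b, rfl⟩)
      rw [this, Set.preimage_univ]; exact isClosed_univ
  have hcharts := exists_chart_affine hS pP hchart k
  rw [← hzB]
  refine TwCFin.isFinite_of_charts_of_forall (pullback.snd pP k) zB hcharts ?_
  -- all fibres finite
  have hclopen := TwCFin.isClopen_finiteFibre (pullback.snd pP k) zB hcharts
  intro b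
  -- B is preconnected
  haveI : PreconnectedSpace B := by
    refine ⟨?_⟩
    rw [← k.isOpenEmbedding.toIsEmbedding.isInducing.isPreconnected_image, Set.image_univ]
    have h1 : IsPreirreducible (Set.univ : Set S) := (IrreducibleSpace.isIrreducible_univ S).2
    exact (h1.open_subset k.isOpenEmbedding.isOpen_range (Set.subset_univ _)).isPreconnected
  -- a point over the generic point
  have hη : genericPoint S ∈ Set.range k :=
    (genericPoint_specializes (k b)).mem_open k.isOpenEmbedding.isOpen_range ⟨b, rfl⟩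
  obtain ⟨b₀, hb₀⟩ := hη
  have hb₀F : b₀ ∈ {s : B | ((zB ≫ pullback.snd pP k) ⁻¹' {s}).Finite} := by
    change ((zB ≫ pullback.snd pP k) ⁻¹' {b₀}).Finite
    refine Set.Subsingleton.finite ?_
    intro q hq q' hq'
    rw [hzB] at hq hq'
    simp only [Set.mem_preimage, Set.mem_singleton_iff] at hq hq'
    have hinj : Function.Injective (pullback.fst (Uo.ι ≫ pP) k) :=
      (pullback.fst (Uo.ι ≫ pP) k).isOpenEmbedding.injective
    apply hinj
    apply Uo.ι.isOpenEmbedding.injective
    have key : ∀ r : ↥(pullback (Uo.ι ≫ pP) k), pullback.snd (Uo.ι ≫ pP) k r = b₀ →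
        Uo.ι (pullback.fst (Uo.ι ≫ pP) k r) = l := by
      intro r hr
      have h1 : pP (Uo.ι (pullback.fst (Uo.ι ≫ pP) k r)) = genericPoint S := by
        rw [← Scheme.Hom.comp_apply, ← Scheme.Hom.comp_apply, pullback.condition,
          Scheme.Hom.comp_apply, hr, hb₀]
      have h2 : Uo.ι (pullback.fst (Uo.ι ≫ pP) k r) ∈ closure ({l} : Set Pl) := by
        rw [← hUo]; exact (pullback.fst (Uo.ι ≫ pP) k r).2
      haveI : Etale pP := TwCFin.etale_of_charts pP hchart
      exact eq_of_mem_closure_of_generic pP l _ hl h1 h2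
    rw [key q hq, key q' hq']
  have huniv := hclopen.eq_univ ⟨b₀, hb₀F⟩
  have : b ∈ {s : B | ((zB ≫ pullback.snd pP k) ⁻¹' {s}).Finite} := by rw [huniv]; trivial
  exact this

include hS hchart hl hUo in
theorem isFinite_closure : IsFinite (Uo.ι ≫ pP) := by
  rw [IsZariskiLocalAtTarget.iff_of_openCover (P := @IsFinite) S.affineCover]
  intro i
  exact isFinite_snd_closure hS pP hchart l hl Uo hUo (S.affineCover.f i)

end

end Groth.Agent.Lib.Helper10.TwCIrr
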