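import Mathlib
import Groth.Agent.Lib.Helper10.TwCIrr3
import Groth.Agent.Lib.Helper10.TwCSec1

set_option autoImplicit false
set_option linter.unusedSectionVars false
set_option linter.style.haveILetI false
set_option backward.isDefEq.respectTransparency.types false
set_option maxHeartbeats 4000000
set_option synthInstance.maxHeartbeats 400000

universe u

open CategoryTheory CategoryTheory.Limits AlgebraicGeometry Opposite

namespace Groth.Agent.Lib.Helper10.TwCIrr

section

variable {S Pl : Scheme.{u}} [IrreducibleSpace S]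
  (hS : ∀ s : S, CAlg2.IsGeomUnibranch (S.presheaf.stalk s)) (pP : Pl ⟶ S)
  (hchart : ∀ s : S, ∃ (S' : Scheme.{u}) (f : S' ⟶ S) (_ : Etale f) (I : Type u)
    (ε : pullback pP f ≅ ∐ fun _ : I => S')
    (_ : ε.hom ≫ Sigma.desc (fun _ : I => 𝟙 S') = pullback.snd pP f), s ∈ Set.range f)

include hS hchart in
/-- the closure of a generic-fibre point as a clopen finite étale surjective piece -/
theorem exists_piece (l : Pl) (hl : pP l = genericPoint S) :
    ∃ U : Pl.Opens, (U : Set Pl) = closure ({l} : Set Pl) ∧ IsClosed (U : Set Pl) ∧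
      IsFinite (U.ι ≫ pP) ∧ Etale (U.ι ≫ pP) ∧ Surjective (U.ι ≫ pP) ∧
      PreconnectedSpace ↥(U : Scheme.{u}) := by
  haveI : Etale pP := TwCFin.etale_of_charts pP hchart
  let U : Pl.Opens := ⟨closure {l}, isOpen_closure hS pP l hl⟩
  have hfin : IsFinite (U.ι ≫ pP) := isFinite_closure hS pP hchart l hl U rfl
  refine ⟨U, rfl, isClosed_closure, hfin, inferInstance, ?_, ?_⟩
  · -- surjective: closed image containing the generic point
    refine ⟨fun s => ?_⟩
    have hcl : IsClosed (Set.range (U.ι ≫ pP)) := (U.ι ≫ pP).isClosedMap.isClosed_range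
    have hη : genericPoint S ∈ Set.range (U.ι ≫ pP) :=
      ⟨⟨l, subset_closure rfl⟩, hl⟩
    have : s ∈ closure ({genericPoint S} : Set S) :=
      specializes_iff_mem_closure.mp (genericPoint_specializes s)
    exact hcl.closure_subset_iff.mpr (Set.singleton_subset_iff.mpr hη) this
  · exact Subtype.preconnectedSpace (isPreconnected_singleton.closure)

include hS hchart in
theorem existsUnique_generic (x : Pl) :
    ∃! l : Pl, pP.base l = genericPoint S ∧ x ∈ closure ({l} : Set Pl) := by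
  haveI : Etale pP := TwCFin.etale_of_charts pP hchart
  obtain ⟨l, hl, hlx⟩ := exists_generic_generization pP x
  refine ⟨l, ⟨hl, specializes_iff_mem_closure.mp hlx⟩, ?_⟩
  rintro m ⟨hm, hxm⟩
  exact eq_of_mem_closure_inter hS pP m l hm hl x hxm (specializes_iff_mem_closure.mp hlx)

include hS hchart in
/-- sections are determined by their value at the generic point -/
theorem section_ext (σ₁ σ₂ : S ⟶ Pl) (h₁ : σ₁ ≫ pP = 𝟙 S) (h₂ : σ₂ ≫ pP = 𝟙 S)
    (hpt : σ₁ (genericPoint S) = σ₂ (genericPoint S)) : σ₁ = σ₂ := by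
  set l := σ₁ (genericPoint S) with hl
  have hpl : pP l = genericPoint S := by
    rw [hl, ← Scheme.Hom.comp_apply, h₁]; rfl
  obtain ⟨U, hU, hUcl, hfin, het, hsurj, hpre⟩ := exists_piece hS pP hchart l hpl
  have hr : ∀ σ : S ⟶ Pl, σ (genericPoint S) = l → Set.range σ ⊆ Set.range U.ι := by
    intro σ hσ
    rw [Scheme.Opens.range_ι, hU]
    rintro _ ⟨s, rfl⟩
    rw [← hσ]
    exact specializes_iff_mem_closure.mp ((genericPoint_specializes s).map σ.continuous)
  let σ₁' := IsOpenImmersion.lift U.ι σ₁ (hr σ₁ rfl)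
  let σ₂' := IsOpenImmersion.lift U.ι σ₂ (hr σ₂ hpt.symm)
  have e1 : σ₁' ≫ U.ι = σ₁ := IsOpenImmersion.lift_fac _ _ _
  have e2 : σ₂' ≫ U.ι = σ₂ := IsOpenImmersion.lift_fac _ _ _
  have hs1 : σ₁' ≫ U.ι ≫ pP = 𝟙 _ := by rw [← Category.assoc, e1, h₁]
  have hs2 : σ₂' ≫ U.ι ≫ pP = 𝟙 _ := by rw [← Category.assoc, e2, h₂]
  haveI := hfin
  haveI := het
  haveI := hpre
  haveI : IsSeparated (U.ι ≫ pP) := inferInstance
  have := TwCSec.section_unique (U.ι ≫ pP) σ₁' σ₂' hs1 hs2
  rw [← e1, ← e2, this]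

include hS hchart in
/-- a rational point of the generic fibre extends to a section -/
theorem exists_section_of_fieldPoint {K : Type u} [Field K] (ρ : Spec (CommRingCat.of K) ⟶ S)
    [Mono ρ] (hρ : ∀ w, ρ w = genericPoint S) (τ : Spec (CommRingCat.of K) ⟶ Pl)
    (hτ : τ ≫ pP = ρ) : ∃ σ : S ⟶ Pl, σ ≫ pP = 𝟙 S ∧ ρ ≫ σ = τ := by
  obtain ⟨w⟩ : Nonempty (Spec (CommRingCat.of K)) := inferInstance
  set l := τ w with hl
  have hpl : pP l = genericPoint S := by
    rw [hl, ← Scheme.Hom.comp_apply, hτ, hρ]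
  obtain ⟨U, hU, hUcl, hfin, het, hsurj, hpre⟩ := exists_piece hS pP hchart l hpl
  haveI := hfin
  haveI := het
  haveI := hpre
  have hrτ : Set.range τ ⊆ Set.range U.ι := by
    rw [Scheme.Opens.range_ι, hU]
    rintro _ ⟨w', rfl⟩
    rw [Subsingleton.elim w' w]
    exact subset_closure rfl
  let τ' := IsOpenImmersion.lift U.ι τ hrτ
  have eτ : τ' ≫ U.ι = τ := IsOpenImmersion.lift_fac _ _ _
  have hτ' : τ' ≫ U.ι ≫ pP = ρ := by rw [← Category.assoc, eτ, hτ]
  haveI : Etale pP := TwCFin.etale_of_charts pP hchart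
  haveI hiso : IsIso (U.ι ≫ pP) := by
    refine TwCSec.isIso_of_fieldPoint (U.ι ≫ pP) ρ τ' hτ' ?_
    intro z z' hzz' hz
    obtain ⟨w', hw'⟩ := hz
    rw [hρ] at hw'
    have hz1 : pP (U.ι z) = genericPoint S := by
      rw [← Scheme.Hom.comp_apply]; exact hw'.symm
    have hz2 : pP (U.ι z') = genericPoint S := by
      rw [← Scheme.Hom.comp_apply, ← hzz']; exact hw'.symm
    apply U.ι.isOpenEmbedding.injective
    have hm1 : U.ι z ∈ closure ({l} : Set Pl) := by rw [← hU]; exact z.2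
    have hm2 : U.ι z' ∈ closure ({l} : Set Pl) := by rw [← hU]; exact z'.2
    exact (eq_of_mem_closure_of_generic pP l _ hpl hz1 hm1).trans
      (eq_of_mem_closure_of_generic pP l _ hpl hz2 hm2).symm
  refine ⟨inv (U.ι ≫ pP) ≫ U.ι, ?_, ?_⟩
  · rw [Category.assoc, IsIso.inv_hom_id]
  · rw [← eτ, ← Category.assoc]
    congr 1
    rw [IsIso.comp_inv_eq, hτ']

include hS hchart in
theorem main :
    (∀ x : Pl, ∃! l : Pl, pP.base l = genericPoint S ∧ x ∈ closure ({l} : Set Pl)) ∧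
    (∀ l : Pl, pP.base l = genericPoint S →
      ∃ U : Pl.Opens, (U : Set Pl) = closure ({l} : Set Pl) ∧ IsClosed (U : Set Pl) ∧
        IsFinite (U.ι ≫ pP) ∧ Etale (U.ι ≫ pP) ∧ Surjective (U.ι ≫ pP)) ∧
    (∀ σ₁ σ₂ : S ⟶ Pl, σ₁ ≫ pP = 𝟙 S → σ₂ ≫ pP = 𝟙 S →
      S.fromSpecResidueField (genericPoint S) ≫ σ₁ =
        S.fromSpecResidueField (genericPoint S) ≫ σ₂ → σ₁ = σ₂) ∧
    (∀ τ : Spec (S.residueField (genericPoint S)) ⟶ Pl,
      τ ≫ pP = S.fromSpecResidueField (genericPoint S) →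
      ∃ σ : S ⟶ Pl, σ ≫ pP = 𝟙 S ∧ S.fromSpecResidueField (genericPoint S) ≫ σ = τ) := by
  refine ⟨existsUnique_generic hS pP hchart, ?_, ?_, ?_⟩
  · intro l hl
    obtain ⟨U, h1, h2, h3, h4, h5, -⟩ := exists_piece hS pP hchart l hl
    exact ⟨U, h1, h2, h3, h4, h5⟩
  · intro σ₁ σ₂ h₁ h₂ hres
    refine section_ext hS pP hchart σ₁ σ₂ h₁ h₂ ?_
    obtain ⟨w⟩ : Nonempty (Spec (S.residueField (genericPoint S))) := inferInstance
    have := congrArg (fun m => m w) hres
    simp only [Scheme.Hom.comp_apply, Scheme.fromSpecResidueField_apply] at this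
    exact this
  · intro τ hτ
    exact exists_section_of_fieldPoint hS pP hchart (K := S.residueField (genericPoint S))
      (S.fromSpecResidueField (genericPoint S))
      (fun w => Scheme.fromSpecResidueField_apply (genericPoint S) w) τ hτ

end

end Groth.Agent.Lib.Helper10.TwCIrr
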