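import Mathlib
import Groth.Agent.Lib.Helper10.TwCVal1
import Groth.Agent.Lib.Helper10.TwCIrr4
import Groth.Agent.S9812

set_option autoImplicit false
set_option linter.unusedSectionVars false
set_option linter.style.haveILetI false
set_option backward.isDefEq.respectTransparency.types false
set_option maxHeartbeats 4000000
set_option synthInstance.maxHeartbeats 400000

universe u

open CategoryTheory CategoryTheory.Limits AlgebraicGeometry Opposite

namespace Groth.Agent.Lib.Helper10.TwCVal

/-- The local rings of the spectrum of a valuation ring are geometrically unibranch. -/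
theorem isGeomUnibranch_stalk_of_valuationRing (R : Type u) [CommRing R] [IsDomain R]
    [ValuationRing R] (p : Spec (CommRingCat.of R)) :
    CAlg2.IsGeomUnibranch ((Spec (CommRingCat.of R)).presheaf.stalk p) := by
  let e : ((Spec (CommRingCat.of R)).presheaf.stalk p) ≃+* Localization.AtPrime p.asIdeal :=
    (Spec.stalkIso (CommRingCat.of R) p).commRingCatIsoToRingEquiv
  haveI : IsDomain (Localization.AtPrime p.asIdeal) :=
    IsLocalization.isDomain_localization (Ideal.primeCompl_le_nonZeroDivisors p.asIdeal)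
  haveI : IsIntegrallyClosed (Localization.AtPrime p.asIdeal) :=
    isIntegrallyClosed_of_isLocalization (R := R) (Localization.AtPrime p.asIdeal)
      p.asIdeal.primeCompl (Ideal.primeCompl_le_nonZeroDivisors p.asIdeal)
  haveI : IsDomain ((Spec (CommRingCat.of R)).presheaf.stalk p) := e.toMulEquiv.isDomain _
  haveI : IsIntegrallyClosed ((Spec (CommRingCat.of R)).presheaf.stalk p) :=
    IsIntegrallyClosed.of_equiv e.symm
  exact Groth.Agent.S9812.result _

/-- The generic point of the spectrum of a domain is the image of the point of the spectrum of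
its fraction field. -/
theorem fractionField_apply (R K : Type u) [CommRing R] [IsDomain R] [Field K] [Algebra R K]
    [IsFractionRing R K] (w : Spec (CommRingCat.of K)) :
    (Spec.map (CommRingCat.ofHom (algebraMap R K))) w = genericPoint (Spec (CommRingCat.of R)) := by
  set x := (Spec.map (CommRingCat.ofHom (algebraMap R K))) w with hx
  have hbot : x.asIdeal = ⊥ := by
    have h1 : x.asIdeal = Ideal.comap (algebraMap R K) w.asIdeal := rfl
    haveI := w.isPrime
    have hw : w.asIdeal = ⊥ := Ideal.eq_bot_of_prime w.asIdeal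
    rw [h1, hw, ← RingHom.ker_eq_comap_bot]
    exact (RingHom.injective_iff_ker_eq_bot _).mp (IsFractionRing.injective R K)
  have hsp : x ⤳ genericPoint (Spec (CommRingCat.of R)) := by
    have : (show PrimeSpectrum R from x) ≤ (show PrimeSpectrum R from genericPoint _) := by
      change x.asIdeal ≤ _
      rw [hbot]; exact bot_le
    exact (PrimeSpectrum.le_iff_specializes _ _).mp this
  exact (hsp.antisymm (genericPoint_specializes x)).eq

/-- Existence part of the valuative criterion for étale-locally constant schemes. -/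
theorem existence_of_charts {S Pl : Scheme.{u}} (pP : Pl ⟶ S)
    (hchart : ∀ s : S, ∃ (S' : Scheme.{u}) (f : S' ⟶ S) (_ : Etale f) (I : Type u)
      (ε : pullback pP f ≅ ∐ fun _ : I => S')
      (_ : ε.hom ≫ Sigma.desc (fun _ : I => 𝟙 S') = pullback.snd pP f),
      s ∈ Set.range f) : ValuativeCriterion.Existence pP := by
  intro Sq
  letI := Sq.commRing
  letI := Sq.domain
  letI := Sq.valuationRing
  letI := Sq.field
  letI := Sq.algebra
  letI := Sq.isFractionRing
  -- base change to Spec R
  have hchartB : ∀ b : Spec (CommRingCat.of Sq.R), ∃ (S'' : Scheme.{u})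
      (f' : S'' ⟶ Spec (CommRingCat.of Sq.R)) (_ : Etale f') (I : Type u)
      (ε' : pullback (pullback.snd pP Sq.i₂) f' ≅ ∐ fun _ : I => S'')
      (_ : ε'.hom ≫ Sigma.desc (fun _ : I => 𝟙 S'') = pullback.snd (pullback.snd pP Sq.i₂) f'),
      b ∈ Set.range f' := by
    intro b
    obtain ⟨S', f, hf, I, ε, hε, hmem⟩ := hchart (Sq.i₂ b)
    haveI := hf
    obtain ⟨ε', hε'⟩ := TwCIrr.chart_baseChange pP f ε hε Sq.i₂
    exact ⟨pullback f Sq.i₂, pullback.snd f Sq.i₂, inferInstance, I, ε', hε',
      TwCIrr.mem_range_snd f Sq.i₂ b hmem⟩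
  haveI : IrreducibleSpace ↥(Spec (CommRingCat.of Sq.R)) :=
    inferInstanceAs (IrreducibleSpace (PrimeSpectrum Sq.R))
  have hGU := isGeomUnibranch_stalk_of_valuationRing Sq.R
  let ρ : Spec (CommRingCat.of Sq.K) ⟶ Spec (CommRingCat.of Sq.R) :=
    Spec.map (CommRingCat.ofHom (algebraMap Sq.R Sq.K))
  haveI : IsPreimmersion ρ := IsPreimmersion.of_isLocalization (nonZeroDivisors Sq.R)
  haveI : Mono ρ := inferInstance
  let τ : Spec (CommRingCat.of Sq.K) ⟶ pullback pP Sq.i₂ := pullback.lift Sq.i₁ ρ Sq.commSq.w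
  have hτ : τ ≫ pullback.snd pP Sq.i₂ = ρ := pullback.lift_snd _ _ _
  obtain ⟨σ, hσ1, hσ2⟩ := TwCIrr.exists_section_of_fieldPoint hGU (pullback.snd pP Sq.i₂) hchartB ρ
    (fractionField_apply Sq.R Sq.K) τ hτ
  refine ⟨⟨⟨σ ≫ pullback.fst pP Sq.i₂, ?_, ?_⟩⟩⟩
  · rw [← Category.assoc]
    change (ρ ≫ σ) ≫ _ = _
    rw [hσ2]; exact pullback.lift_fst _ _ _
  · rw [Category.assoc, pullback.condition, ← Category.assoc, hσ1, Category.id_comp]

theorem valuativeCriterion_of_charts {S Pl : Scheme.{u}} (pP : Pl ⟶ S)
    (hchart : ∀ s : S, ∃ (S' : Scheme.{u}) (f : S' ⟶ S) (_ : Etale f) (I : Type u)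
      (ε : pullback pP f ≅ ∐ fun _ : I => S')
      (_ : ε.hom ≫ Sigma.desc (fun _ : I => 𝟙 S') = pullback.snd pP f),
      s ∈ Set.range f) : ValuativeCriterion pP := by
  haveI := isSeparated_of_charts pP hchart
  rw [ValuativeCriterion.iff]
  exact ⟨existence_of_charts pP hchart, IsSeparated.valuativeCriterion pP⟩

end Groth.Agent.Lib.Helper10.TwCVal
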