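import Mathlib
import Groth.Agent.Lib.Helper10.HomSp1

/-!
# The unit section and the diagonal of a group object are base changes of one another
-/

set_option autoImplicit false
set_option backward.isDefEq.respectTransparency.types false
set_option maxHeartbeats 4000000
set_option synthInstance.maxHeartbeats 400000

universe u

open CategoryTheory CategoryTheory.Limits MonoidalCategory CartesianMonoidalCategory MonObj GrpObj

namespace Groth.Agent.Lib.Helper10.UnitSec

variable {C : Type*} [Category C] [CartesianMonoidalCategory C] (G : C) [GrpObj G]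

/-- The diagonal is the base change of the unit section along `(g, h) ↦ g⁻¹ h`. -/
theorem isPullback_diag_unit :
    IsPullback (toUnit G) (lift (𝟙 G) (𝟙 G)) η[G] ((fst G G)⁻¹ * snd G G) := by
  refine HomSp.isPullback_of_lift _ _ _ _ ?_ (fun α β _ => β ≫ fst G G) ?_ ?_ ?_
  · rw [MonObj.comp_mul, GrpObj.comp_inv, lift_fst, lift_snd, inv_mul_cancel, Hom.one_def]
  · intro W α β h
    exact toUnit_unique _ _
  · intro W α β h
    have h1 : (β ≫ fst G G)⁻¹ * (β ≫ snd G G) = 1 := by
      rw [← GrpObj.comp_inv, ← MonObj.comp_mul, ← h, Hom.one_def]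
      congr 1
      exact toUnit_unique _ _
    have h2 : β ≫ fst G G = β ≫ snd G G := inv_mul_eq_one.mp h1
    apply CartesianMonoidalCategory.hom_ext
    · rw [Category.assoc, lift_fst, Category.comp_id]
    · rw [Category.assoc, lift_snd, Category.comp_id, h2]
  · intro W m m' _ e2
    have := congrArg (fun t => t ≫ fst G G) e2
    simpa using this

/-- The unit section is the base change of the diagonal along `g ↦ (1, g)`. -/
theorem isPullback_unit_diag :
    IsPullback η[G] η[G] (lift (toUnit G ≫ η[G]) (𝟙 G)) (lift (𝟙 G) (𝟙 G)) := by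
  refine HomSp.isPullback_of_lift _ _ _ _ ?_ (fun {W} _ _ _ => toUnit W) ?_ ?_ ?_
  · apply CartesianMonoidalCategory.hom_ext
    · rw [Category.assoc, lift_fst, Category.assoc, lift_fst, Category.comp_id,
        ← Category.assoc, toUnit_unique (η[G] ≫ toUnit G) (𝟙 _), Category.id_comp]
    · rw [Category.assoc, lift_snd, Category.assoc, lift_snd]
  · intro W α β h
    have h1 := congrArg (fun t => t ≫ fst G G) h
    have h2 := congrArg (fun t => t ≫ snd G G) h
    simp only [Category.assoc, lift_fst, lift_snd, Category.comp_id] at h1 h2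
    rw [h2, ← h1, ← Category.assoc, toUnit_unique (α ≫ toUnit G) (toUnit W)]
  · intro W α β h
    have h1 := congrArg (fun t => t ≫ fst G G) h
    simp only [Category.assoc, lift_fst, Category.comp_id] at h1
    rw [← h1, ← Category.assoc, toUnit_unique (α ≫ toUnit G) (toUnit W)]
  · intro W m m' _ _
    exact toUnit_unique _ _

end Groth.Agent.Lib.Helper10.UnitSec
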