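import Mathlib
import Groth.Agent.Lib.Helper10.UnivThick5

/-!
# Universal first order thickenings: the glued thickening is a first order thickening
-/

set_option autoImplicit false
universe u
open CategoryTheory CategoryTheory.Limits AlgebraicGeometry

namespace Groth.Agent.Lib.Helper10.UnivThick

/-- An ideal sheaf that pulls back to zero along a jointly surjective family of open immersions
is zero. -/
theorem idealSheaf_eq_bot_of_comap {Y : Scheme.{u}} {ι : Type*} (Y' : ι → Scheme.{u})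
    (f : ∀ k, Y' k ⟶ Y) [∀ k, IsOpenImmersion (f k)]
    (hsurj : ∀ y : Y, ∃ k, y ∈ Set.range (f k)) (K : Y.IdealSheafData)
    (hK : ∀ k, K.comap (f k) = ⊥) : K = ⊥ := by
  let idx := Σ k : ι, (Y' k).affineOpens
  let U : idx → Y.affineOpens := fun p =>
    ⟨(f p.1) ''ᵁ p.2.1, p.2.2.image_of_isOpenImmersion (f p.1)⟩
  have hU : ⨆ p, (U p : Y.Opens) = ⊤ := by
    rw [eq_top_iff]
    intro y _
    obtain ⟨k, y', rfl⟩ := hsurj y
    obtain ⟨W, hW, hyW, -⟩ := TopologicalSpace.Opens.isBasis_iff_nbhd.mp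
      (Y' k).isBasis_affineOpens (show y' ∈ (⊤ : (Y' k).Opens) from trivial)
    exact TopologicalSpace.Opens.mem_iSup.mpr ⟨⟨k, ⟨W, hW⟩⟩, ⟨y', hyW, rfl⟩⟩
  refine Scheme.IdealSheafData.ext_of_iSup_eq_top U hU ?_
  rintro ⟨k, W⟩
  have e : W.1 ≤ (f k) ⁻¹ᵁ ((f k) ''ᵁ W.1) := by
    rw [Scheme.Hom.preimage_image_eq]
  have h1 := Groth.Agent.Lib.Helper1.ideal_comap K (f k) W (U ⟨k, W⟩) e
  rw [hK k] at h1
  have hiso : Function.Injective ((f k).appLE ((f k) ''ᵁ W.1) W.1 e).hom := by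
    have : IsIso ((f k).appLE ((f k) ''ᵁ W.1) W.1 e) := by
      rw [← Scheme.Hom.appIso_hom']
      infer_instance
    exact (ConcreteCategory.bijective_of_isIso _).1
  change K.ideal (U ⟨k, W⟩) = ⊥
  rw [eq_bot_iff]
  intro x hx
  have hx' : ((f k).appLE ((f k) ''ᵁ W.1) W.1 e).hom x ∈
      (K.ideal (U ⟨k, W⟩)).map ((f k).appLE ((f k) ''ᵁ W.1) W.1 e).hom :=
    Ideal.mem_map_of_mem _ hx
  rw [← h1] at hx'
  have hx'' : ((f k).appLE ((f k) ''ᵁ W.1) W.1 e).hom x = 0 := hx'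
  rw [Ideal.mem_bot]
  exact hiso (hx''.trans (map_zero _).symm)

variable {Z X : Scheme.{u}} (h : Z ⟶ X)
variable (hcov : ∀ z : Z, ∃ V : Z.Opens, z ∈ V ∧ Good h V)
variable (i : Z ⟶ glued h) (hi : ∀ V : J h, V.1.ι ≫ i = inc h V ≫ ιV h V)

include hcov hi

theorem ginc_gstr : i ≫ gstr h = h := by
  have hc : TopologicalSpace.IsOpenCover (fun V : J h => (V.1 : Z.Opens)) := by
    refine top_le_iff.mp fun z _ => ?_
    obtain ⟨V, hzV, hV⟩ := hcov z
    exact TopologicalSpace.Opens.mem_iSup.mpr ⟨⟨V, hV⟩, hzV⟩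
  refine Scheme.Cover.hom_ext (Z.openCoverOfIsOpenCover _ hc) _ _ fun V => ?_
  change V.1.ι ≫ i ≫ gstr h = V.1.ι ≫ h
  rw [← Category.assoc, hi V, Category.assoc, ιV_gstr, (univ h V).2.1]

theorem ginc_apply (V : J h) (z : (V.1 : Scheme.{u})) : i (V.1.ι z) = ιV h V (inc h V z) := by
  rw [← Scheme.Hom.comp_apply, hi V, Scheme.Hom.comp_apply]

theorem preimage_opensRange (V : J h) : i ⁻¹ᵁ (ιV h V).opensRange = V.1 := by
  ext z
  constructor
  · rintro ⟨y, hy⟩
    obtain ⟨W, hzW, hW⟩ := hcov z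
    have h1 : i z = ιV h ⟨W, hW⟩ (inc h ⟨W, hW⟩ ⟨z, hzW⟩) :=
      ginc_apply h hcov i hi ⟨W, hW⟩ ⟨z, hzW⟩
    rw [h1] at hy
    obtain ⟨k, fi, fj, x, hx1, hx2⟩ := (Scheme.IsLocallyDirected.ι_eq_ι_iff (F h)).mp hy
    obtain ⟨z'', rfl⟩ := fot_surjective (univ h k).1 x
    change tr h (leOfHom fj) (inc h k z'') = inc h ⟨W, hW⟩ ⟨z, hzW⟩ at hx2
    rw [tr_inc_apply] at hx2
    have h2 := fot_injective (univ h ⟨W, hW⟩).1 hx2
    have hz : k.1.ι z'' = z := by
      have := congrArg (fun w => W.ι w) h2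
      simp only [← Scheme.Hom.comp_apply, Scheme.homOfLE_ι] at this
      exact this
    rw [← hz]
    exact leOfHom fi z''.2
  · intro hz
    exact ⟨inc h V ⟨z, hz⟩, (ginc_apply h hcov i hi V ⟨z, hz⟩).symm⟩

theorem isPullback_ginc (V : J h) : IsPullback (inc h V) V.1.ι (ιV h V) i := by
  refine IsOpenImmersion.isPullback _ _ _ _ (hi V) ?_
  rw [Scheme.Opens.opensRange_ι]
  exact preimage_opensRange h hcov i hi V

theorem ginc_surjective : Function.Surjective i := by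
  intro y
  obtain ⟨V, x, rfl⟩ := Scheme.IsLocallyDirected.ι_jointly_surjective (F h) y
  obtain ⟨z, rfl⟩ := fot_surjective (univ h V).1 x
  exact ⟨V.1.ι z, ginc_apply h hcov i hi V z⟩

theorem isClosedImmersion_ginc : IsClosedImmersion i := by
  refine IsZariskiLocalAtTarget.of_openCover (P := @IsClosedImmersion)
    (Scheme.IsLocallyDirected.openCover (F h)) fun V => ?_
  change IsClosedImmersion (pullback.snd i (ιV h V))
  have hpb := (isPullback_ginc h hcov i hi V).flip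
  have e : pullback.snd i (ιV h V) = hpb.isoPullback.inv ≫ inc h V := by
    rw [Iso.eq_inv_comp, IsPullback.isoPullback_hom_snd]
  rw [e]
  have := (univ h V).1.1.1
  infer_instance

theorem fot_ginc : MoreMor.IsFirstOrderThickening i := by
  have hci := isClosedImmersion_ginc h hcov i hi
  refine ⟨⟨hci, ⟨ginc_surjective h hcov i hi⟩⟩, ?_⟩
  refine idealSheaf_eq_bot_of_comap (fun V : J h => thk h V) (fun V => ιV h V)
    (fun y => ?_) _ fun V => ?_
  · obtain ⟨V, x, rfl⟩ := Scheme.IsLocallyDirected.ι_jointly_surjective (F h) y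
    exact ⟨V, x, rfl⟩
  · rw [Groth.Agent.Lib.Helper1.comap_mul,
      ← Groth.Agent.Lib.Helper1.ker_of_isPullback (isPullback_ginc h hcov i hi V)]
    exact (univ h V).1.2

end Groth.Agent.Lib.Helper10.UnivThick
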