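import Mathlib
import Groth.Agent.Lib.Helper10.UnivThick6

/-!
# Universal first order thickenings: existence for formally unramified morphisms
-/

set_option autoImplicit false
universe u
open CategoryTheory CategoryTheory.Limits AlgebraicGeometry

namespace Groth.Agent.Lib.Helper10.UnivThick

variable {Z X : Scheme.{u}} (h : Z ⟶ X)

theorem isUnivThickening_glued (hcov : ∀ z : Z, ∃ V : Z.Opens, z ∈ V ∧ Good h V)
    (i : Z ⟶ glued h) (hi : ∀ V : J h, V.1.ι ≫ i = inc h V ≫ ιV h V) :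
    OmegaSh.IsUnivThickening h i (gstr h) := by
  refine ⟨fot_ginc h hcov i hi, ginc_gstr h hcov i hi, fun T T' j b a hj hjb => ?_⟩
  let S : Set T'.Opens := {W | ∃ V : J h, j ⁻¹ᵁ W ≤ a ⁻¹ᵁ V.1}
  have hS : TopologicalSpace.Opens.IsBasis S := by
    rw [TopologicalSpace.Opens.isBasis_iff_nbhd]
    intro O y hy
    obtain ⟨x, rfl⟩ := fot_surjective hj y
    obtain ⟨V, hxV, hV⟩ := hcov (a x)
    obtain ⟨W₀, hW₀⟩ := fot_exists_opens hj (a ⁻¹ᵁ V)
    refine ⟨W₀ ⊓ O, ⟨⟨V, hV⟩, ?_⟩, ⟨?_, hy⟩, inf_le_right⟩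
    · intro t ht
      have h1 : t ∈ j ⁻¹ᵁ W₀ := ht.1
      rw [hW₀] at h1
      exact h1
    · have h1 : x ∈ j ⁻¹ᵁ W₀ := by
        rw [hW₀]
        exact hxV
      exact h1
  refine existsUnique_sol_of_isBasis i (gstr h) j b a S hS ?_
  rintro W ⟨V, hWV⟩
  have hjW : MoreMor.IsFirstOrderThickening (j ∣_ W) := fot_restrict hj W
  have hrange : Set.range ((j ⁻¹ᵁ W).ι ≫ a) ⊆ Set.range V.1.ι := by
    rintro _ ⟨x, rfl⟩
    rw [Scheme.Opens.range_ι]
    exact hWV x.2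
  obtain ⟨l, haWV⟩ : ∃ l : (j ⁻¹ᵁ W : Scheme.{u}) ⟶ (V.1 : Scheme.{u}),
      l ≫ V.1.ι = (j ⁻¹ᵁ W).ι ≫ a :=
    ⟨IsOpenImmersion.lift V.1.ι ((j ⁻¹ᵁ W).ι ≫ a) hrange, IsOpenImmersion.lift_fac _ _ _⟩
  have hcomm : (j ∣_ W) ≫ (W.ι ≫ b) = l ≫ (V.1.ι ≫ h) := by
    rw [reassoc_of% haWV, morphismRestrict_ι_assoc, hjb]
  obtain ⟨c, hc, hcu⟩ := (univ h V).2.2 _ _ (j ∣_ W) (W.ι ≫ b) l hjW hcomm
  have hli : l ≫ inc h V ≫ ιV h V = ((j ⁻¹ᵁ W).ι ≫ a) ≫ i := by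
    rw [← hi V, reassoc_of% haWV, Category.assoc]
  refine ⟨c ≫ ιV h V, ⟨?_, ?_⟩, ?_⟩
  · rw [reassoc_of% hc.1, hli]
  · rw [Category.assoc, ιV_gstr, hc.2]
  · intro a'' ha''
    have hr'' : Set.range a'' ⊆ Set.range (ιV h V) := by
      rintro _ ⟨y, rfl⟩
      obtain ⟨x, rfl⟩ := fot_surjective hjW y
      have h1 : a'' ((j ∣_ W) x) = i (((j ⁻¹ᵁ W).ι ≫ a) x) := by
        rw [← Scheme.Hom.comp_apply, ha''.1]
        rfl
      have h2 : ((j ⁻¹ᵁ W).ι ≫ a) x = V.1.ι (l x) := by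
        rw [← Scheme.Hom.comp_apply, haWV]
      rw [h1, h2, ginc_apply h hcov i hi V]
      exact ⟨_, rfl⟩
    have hl : IsOpenImmersion.lift (ιV h V) a'' hr'' ≫ ιV h V = a'' :=
      IsOpenImmersion.lift_fac _ _ _
    have hlc : IsOpenImmersion.lift (ιV h V) a'' hr'' = c := by
      apply hcu
      refine ⟨?_, ?_⟩
      · rw [← cancel_mono (ιV h V), Category.assoc, hl, ha''.1, ← hli, Category.assoc]
      · rw [← ιV_gstr, ← Category.assoc, hl, ha''.2]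
    rw [← hl, hlc]

/-- A formally unramified morphism of schemes admits a universal first order thickening,
given the ring-level existence statement. -/
theorem exists_isUnivThickening [FormallyUnramified h]
    (hex : ∀ (R S : Type u) [CommRing R] [CommRing S] [Algebra R S]
      [Algebra.FormallyUnramified R S],
      ∃ (S' : Type u) (_ : CommRing S') (_ : Algebra R S') (π : S' →ₐ[R] S),
        OmegaSh.IsUnivThickeningRing R S S' π) :
    ∃ (Z' : Scheme.{u}) (i : Z ⟶ Z') (h' : Z' ⟶ X), OmegaSh.IsUnivThickening h i h' := by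
  have hcov := exists_good h hex
  obtain ⟨i, hi⟩ := exists_ginc h hcov
  exact ⟨glued h, i, gstr h, isUnivThickening_glued h hcov i hi⟩

end Groth.Agent.Lib.Helper10.UnivThick
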