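import Mathlib

/-!
# Morphisms from spectra of local rings: comparison lemmas
-/

set_option autoImplicit false
set_option linter.unusedSectionVars false
set_option linter.style.haveILetI false
set_option backward.isDefEq.respectTransparency.types false
set_option maxHeartbeats 4000000
set_option synthInstance.maxHeartbeats 400000
universe u
open CategoryTheory CategoryTheory.Limits AlgebraicGeometry Opposite

namespace Groth.Agent.Lib.Helper10.ValCrit

open IsLocalRing

/-- the canonical morphism `Spec κ(z) → Z → Y` through the local ring at a specialization of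
`h z`. -/
theorem fromSpecResidueField_comp {Z Y : Scheme.{u}} (h : Z ⟶ Y) (z : Z) (y : Y) (hz : h z ⤳ y) :
    Z.fromSpecResidueField z ≫ h =
      Spec.map (Y.presheaf.stalkSpecializes hz ≫ h.stalkMap z ≫ Z.residue z) ≫
        Y.fromSpecStalk y := by
  rw [Scheme.fromSpecResidueField, Category.assoc, ← Scheme.SpecMap_stalkMap_fromSpecStalk,
    ← Scheme.SpecMap_stalkSpecializes_fromSpecStalk hz]
  simp_rw [← Spec.map_comp_assoc]
  rfl

/-- comparing a morphism from the spectrum of a local ring with a morphism through a stalk. -/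
theorem exists_specializes_and_eq {Y : Scheme.{u}} {A F : CommRingCat.{u}} [IsLocalRing A]
    [IsLocalRing F] (g : Spec A ⟶ Y) (k : A ⟶ F) (y : Y)
    (b : Y.presheaf.stalk y ⟶ F) [IsLocalHom b.hom]
    (hg : Spec.map k ≫ g = Spec.map b ≫ Y.fromSpecStalk y) :
    ∃ hs : y ⤳ g (closedPoint A),
      Scheme.stalkClosedPointTo g ≫ k = Y.presheaf.stalkSpecializes hs ≫ b := by
  have h1 : (Spec.map b ≫ Y.fromSpecStalk y) (closedPoint F) = y := by
    rw [Scheme.Hom.comp_apply, Spec_closedPoint, Scheme.fromSpecStalk_closedPoint]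
  have hs : y ⤳ g (closedPoint A) := by
    rw [← h1, ← hg, Scheme.Hom.comp_apply]
    exact (specializes_closedPoint _).map g.continuous
  refine ⟨hs, ?_⟩
  have h2 : Spec.map (Scheme.stalkClosedPointTo g ≫ k) ≫ Y.fromSpecStalk _ =
      Spec.map (Y.presheaf.stalkSpecializes hs ≫ b) ≫ Y.fromSpecStalk _ := by
    rw [Spec.map_comp, Category.assoc, Scheme.Spec_stalkClosedPointTo_fromSpecStalk, hg,
      Spec.map_comp, Category.assoc, Scheme.SpecMap_stalkSpecializes_fromSpecStalk]
  exact Spec.map_injective ((cancel_mono _).mp h2)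

/-- morphisms from the spectrum of a local ring are determined after an injective local
extension. -/
theorem hom_ext_of_injective_local {X : Scheme.{u}} {A A' : CommRingCat.{u}} [IsLocalRing A]
    [IsLocalRing A'] (j : A ⟶ A') [IsLocalHom j.hom] (hj : Function.Injective j.hom)
    (g₁ g₂ : Spec A ⟶ X) (h : Spec.map j ≫ g₁ = Spec.map j ≫ g₂) : g₁ = g₂ := by
  haveI : IsLocalHom (Scheme.stalkClosedPointTo g₂ ≫ j).hom :=
    inferInstanceAs (IsLocalHom (j.hom.comp (Scheme.stalkClosedPointTo g₂).hom))
  obtain ⟨hs, e⟩ := exists_specializes_and_eq g₁ j (g₂ (closedPoint A))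
    (Scheme.stalkClosedPointTo g₂ ≫ j) (by
      rw [h, Spec.map_comp, Category.assoc, Scheme.Spec_stalkClosedPointTo_fromSpecStalk])
  have e' : Scheme.stalkClosedPointTo g₁ =
      X.presheaf.stalkSpecializes hs ≫ Scheme.stalkClosedPointTo g₂ := by
    ext t
    apply hj
    have := congrArg (fun φ => φ.hom t) e
    simpa using this
  calc g₁ = Spec.map (Scheme.stalkClosedPointTo g₁) ≫ X.fromSpecStalk _ :=
        (Scheme.Spec_stalkClosedPointTo_fromSpecStalk g₁).symm
    _ = g₂ := by
        rw [e', Spec.map_comp, Category.assoc, Scheme.SpecMap_stalkSpecializes_fromSpecStalk,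
          Scheme.Spec_stalkClosedPointTo_fromSpecStalk]

end Groth.Agent.Lib.Helper10.ValCrit
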