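import Mathlib
import Groth.Agent.Lib.Helper10.ValCritAlg
import Groth.Agent.Lib.Helper10.ValCritSch
import Groth.Agent.Lib.Helper12.QCSpecialization

/-!
# The refined valuative criterion: existence of lifts
-/

set_option autoImplicit false
set_option linter.unusedSectionVars false
set_option linter.style.haveILetI false
set_option backward.isDefEq.respectTransparency.types false
set_option maxHeartbeats 4000000
set_option synthInstance.maxHeartbeats 400000
universe u
open CategoryTheory CategoryTheory.Limits AlgebraicGeometry Opposite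

namespace Groth.Agent.Lib.Helper10.ValCrit

open IsLocalRing

section Main
variable {X Y Z : Scheme.{u}} (h : Z ⟶ Y) (f : Y ⟶ X) [QuasiCompact h]
  (hd : DenseRange h.base)
  (H : ∀ (z : Z) (R : ValuationSubring (Z.residueField z))
      (φ : Spec (CommRingCat.of R) ⟶ X),
      Spec.map (CommRingCat.ofHom R.subtype) ≫ φ = Z.fromSpecResidueField z ≫ h ≫ f →
      ∃! φ' : Spec (CommRingCat.of R) ⟶ Y,
        Spec.map (CommRingCat.ofHom R.subtype) ≫ φ' = Z.fromSpecResidueField z ≫ h ∧
          φ' ≫ f = φ)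

include hd H in
theorem exists_lift_residueField (y : Y) (R₀ : ValuationSubring (Y.residueField y))
    (i₂ : Spec (CommRingCat.of R₀) ⟶ X)
    (hi₂ : Spec.map (CommRingCat.ofHom R₀.subtype) ≫ i₂ = Y.fromSpecResidueField y ≫ f) :
    ∃ l : Spec (CommRingCat.of R₀) ⟶ Y,
      Spec.map (CommRingCat.ofHom R₀.subtype) ≫ l = Y.fromSpecResidueField y ∧ l ≫ f = i₂ := by
  -- 1. a point of `Z` specializing to `y`
  obtain ⟨z, -, hz⟩ := Groth.Agent.Lib.Helper12.exists_specializes_of_mem_closure_image h Set.univ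
    isClosed_univ y (by rw [Set.image_univ, hd.closure_range]; trivial)
  -- 2. the local homomorphism of `i₂`
  let a₂ : X.presheaf.stalk (i₂ (closedPoint (CommRingCat.of R₀))) ⟶ CommRingCat.of R₀ :=
    Scheme.stalkClosedPointTo i₂
  have hi₂' : Spec.map a₂ ≫ X.fromSpecStalk _ = i₂ := Scheme.Spec_stalkClosedPointTo_fromSpecStalk i₂
  haveI hres : IsLocalHom (Y.residue y).hom :=
    inferInstanceAs (IsLocalHom (IsLocalRing.residue (Y.presheaf.stalk y)))
  haveI : IsLocalHom (f.stalkMap y ≫ Y.residue y).hom := by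
    rw [CommRingCat.hom_comp]
    infer_instance
  obtain ⟨hs₁, E1⟩ := exists_specializes_and_eq i₂ (CommRingCat.ofHom R₀.subtype) (f y)
    (f.stalkMap y ≫ Y.residue y) (by
      rw [hi₂, Scheme.fromSpecResidueField, Category.assoc, ← Scheme.SpecMap_stalkMap_fromSpecStalk,
        Spec.map_comp, Category.assoc])
  -- 3. a valuation ring `B` of `κ(z)` dominating the image of `O_{Y,y}`
  let β : Y.presheaf.stalk y ⟶ Z.residueField z :=
    Y.presheaf.stalkSpecializes hz ≫ h.stalkMap z ≫ Z.residue z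
  obtain ⟨B, hB, hBloc⟩ := exists_factor_valuationRing β.hom
  let βB : Y.presheaf.stalk y →+* B := β.hom.codRestrict B.toSubring hB
  haveI : IsLocalHom βB := hBloc
  let j : Y.residueField y →+* ResidueField B := ResidueField.map βB
  have Ej : ∀ u, j ((Y.residue y).hom u) = residue B (βB u) := fun u => rfl
  -- 4. a valuation ring `R₁` of the residue field of `B` dominating `R₀`
  let k₀ : R₀ →+* ResidueField B := j.comp R₀.subtype
  obtain ⟨R₁, hR₁, hR₁loc⟩ := exists_factor_valuationRing k₀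
  let j₀₁ : R₀ →+* R₁ := k₀.codRestrict R₁.toSubring hR₁
  haveI : IsLocalHom j₀₁ := hR₁loc
  have hj₀₁inj : Function.Injective j₀₁ := by
    intro a b hab
    have h1 : j (a : Y.residueField y) = j (b : Y.residueField y) :=
      congrArg (fun r : R₁ => (r : ResidueField B)) hab
    exact Subtype.ext (j.injective h1)
  -- 5. the composite valuation ring
  let C : ValuationSubring (Z.residueField z) := comp B R₁
  -- 6. the homomorphism `O_{X,x} → C`
  let pre : X.presheaf.stalk (i₂ (closedPoint (CommRingCat.of R₀))) ⟶ Y.presheaf.stalk y :=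
    X.presheaf.stalkSpecializes hs₁ ≫ f.stalkMap y
  let st : X.presheaf.stalk (i₂ (closedPoint (CommRingCat.of R₀))) ⟶ Z.residueField z := pre ≫ β
  have key : ∀ t, residue B (βB (pre.hom t)) = j ((a₂.hom t : R₀) : Y.residueField y) := by
    intro t
    rw [← Ej]
    have := congrArg (fun φ => φ.hom t) E1
    exact congrArg j this.symm
  have hstC : ∀ t, st.hom t ∈ C.toSubring := by
    intro t
    refine ⟨hB (pre.hom t), ?_⟩
    change residue B (βB (pre.hom t)) ∈ R₁
    rw [key t]
    exact hR₁ (a₂.hom t)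
  let γ : X.presheaf.stalk (i₂ (closedPoint (CommRingCat.of R₀))) →+* C :=
    st.hom.codRestrict C.toSubring hstC
  have E2 : CommRingCat.ofHom γ ≫ CommRingCat.ofHom (ρ B R₁) = a₂ ≫ CommRingCat.ofHom j₀₁ := by
    ext t
    exact key t
  -- 7. the morphism `Spec C → X`
  let φ : Spec (CommRingCat.of C) ⟶ X := Spec.map (CommRingCat.ofHom γ) ≫ X.fromSpecStalk _
  have hγst : CommRingCat.ofHom γ ≫ CommRingCat.ofHom C.subtype = st := by
    ext t; rfl
  have e1 : Z.fromSpecResidueField z ≫ h ≫ f = Spec.map st ≫ X.fromSpecStalk _ := by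
    rw [← Category.assoc, fromSpecResidueField_comp h z y hz, Category.assoc,
      ← Scheme.SpecMap_stalkMap_fromSpecStalk, ← Scheme.SpecMap_stalkSpecializes_fromSpecStalk hs₁,
      ← Spec.map_comp_assoc, ← Spec.map_comp_assoc]
    simp only [st, pre, Category.assoc]
    rfl
  have hφ : Spec.map (CommRingCat.ofHom C.subtype) ≫ φ = Z.fromSpecResidueField z ≫ h ≫ f := by
    rw [e1, ← hγst, Spec.map_comp, Category.assoc]
  -- 8. the lift over `C`
  obtain ⟨φ', ⟨hφ'1, hφ'2⟩, -⟩ := H z C φ hφ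
  -- 9. comparison over `B`
  have hinclsub : CommRingCat.ofHom (inclCB B R₁) ≫ CommRingCat.ofHom B.subtype =
      CommRingCat.ofHom C.subtype := by
    ext t; rfl
  have hB_compat : Spec.map (CommRingCat.ofHom B.subtype) ≫
      (Spec.map (CommRingCat.ofHom (inclCB B R₁)) ≫ φ) = Z.fromSpecResidueField z ≫ h ≫ f := by
    rw [← Category.assoc, ← Spec.map_comp, hinclsub, hφ]
  obtain ⟨ψ, -, huB⟩ := H z B (Spec.map (CommRingCat.ofHom (inclCB B R₁)) ≫ φ) hB_compat
  have hβBsub : CommRingCat.ofHom βB ≫ CommRingCat.ofHom B.subtype = β := by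
    ext t; rfl
  have hγincl : CommRingCat.ofHom γ ≫ CommRingCat.ofHom (inclCB B R₁) =
      pre ≫ CommRingCat.ofHom βB := by
    ext t; rfl
  have E3 : Spec.map (CommRingCat.ofHom (inclCB B R₁)) ≫ φ' =
      Spec.map (CommRingCat.ofHom βB) ≫ Y.fromSpecStalk y := by
    refine (huB _ ⟨?_, ?_⟩).trans (huB _ ⟨?_, ?_⟩).symm
    · rw [← Category.assoc, ← Spec.map_comp, hinclsub, hφ'1]
    · rw [Category.assoc, hφ'2]
    · rw [← Category.assoc, ← Spec.map_comp, hβBsub, fromSpecResidueField_comp h z y hz]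
    · rw [Category.assoc, ← Scheme.SpecMap_stalkMap_fromSpecStalk,
        ← Scheme.SpecMap_stalkSpecializes_fromSpecStalk hs₁, ← Spec.map_comp_assoc,
        ← Spec.map_comp_assoc]
      change _ = Spec.map (CommRingCat.ofHom (inclCB B R₁)) ≫ Spec.map (CommRingCat.ofHom γ) ≫ _
      rw [← Spec.map_comp_assoc, hγincl]
      simp only [pre, Category.assoc]
      rfl
  -- 10. the morphism `Spec R₁ → Y`
  let ψ₁ : Spec (CommRingCat.of R₁) ⟶ Y := Spec.map (CommRingCat.ofHom (ρ B R₁)) ≫ φ'
  have hρsub : CommRingCat.ofHom (ρ B R₁) ≫ CommRingCat.ofHom R₁.subtype =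
      CommRingCat.ofHom (inclCB B R₁) ≫ CommRingCat.ofHom (residue B) := by
    ext t; rfl
  have hβres : CommRingCat.ofHom βB ≫ CommRingCat.ofHom (residue B) =
      Y.residue y ≫ CommRingCat.ofHom j := by
    ext t; rfl
  have hψ₁gen : Spec.map (CommRingCat.ofHom R₁.subtype) ≫ ψ₁ =
      Spec.map (Y.residue y ≫ CommRingCat.ofHom j) ≫ Y.fromSpecStalk y := by
    change Spec.map (CommRingCat.ofHom R₁.subtype) ≫ Spec.map (CommRingCat.ofHom (ρ B R₁)) ≫ φ' = _
    rw [← Category.assoc, ← Spec.map_comp, hρsub, Spec.map_comp, Category.assoc, E3,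
      ← Category.assoc, ← Spec.map_comp, hβres]
  haveI hjloc : IsLocalHom j := ⟨fun a ha => by
    rcases eq_or_ne a 0 with rfl | h0
    · rw [map_zero] at ha
      exact absurd ha not_isUnit_zero
    · exact h0.isUnit⟩
  haveI : IsLocalHom (Y.residue y ≫ CommRingCat.ofHom j).hom := by
    rw [CommRingCat.hom_comp]
    exact RingHom.isLocalHom_comp j (Y.residue y).hom
  obtain ⟨hs₂, E4⟩ := exists_specializes_and_eq ψ₁ (CommRingCat.ofHom R₁.subtype) y
    (Y.residue y ≫ CommRingCat.ofHom j) hψ₁gen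
  let δ : Y.presheaf.stalk (ψ₁ (closedPoint (CommRingCat.of R₁))) ⟶ CommRingCat.of R₁ :=
    Scheme.stalkClosedPointTo ψ₁
  -- 11. descent to `R₀`
  let sr : Y.presheaf.stalk (ψ₁ (closedPoint (CommRingCat.of R₁))) ⟶ Y.residueField y :=
    Y.presheaf.stalkSpecializes hs₂ ≫ Y.residue y
  have E4' : ∀ t, j (sr.hom t) = ((δ.hom t : R₁) : ResidueField B) := fun t =>
    (congrArg (fun φ => φ.hom t) E4).symm
  have hmem : ∀ t, sr.hom t ∈ R₀.toSubring := fun t =>
    mem_of_map_mem j R₀ R₁ hR₁ hR₁loc _ (by rw [E4' t]; exact (δ.hom t).2)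
  let ε₀ : Y.presheaf.stalk (ψ₁ (closedPoint (CommRingCat.of R₁))) →+* R₀ :=
    sr.hom.codRestrict R₀.toSubring hmem
  have E5 : CommRingCat.ofHom ε₀ ≫ CommRingCat.ofHom j₀₁ = δ := by
    ext t
    exact E4' t
  have hε₀sub : CommRingCat.ofHom ε₀ ≫ CommRingCat.ofHom R₀.subtype = sr := by
    ext t; rfl
  -- 12. the lift
  refine ⟨Spec.map (CommRingCat.ofHom ε₀) ≫ Y.fromSpecStalk _, ?_, ?_⟩
  · rw [← Category.assoc, ← Spec.map_comp, hε₀sub, Spec.map_comp, Category.assoc,
      Scheme.SpecMap_stalkSpecializes_fromSpecStalk]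
    rfl
  · haveI : IsLocalHom (CommRingCat.ofHom j₀₁).hom := hR₁loc
    apply hom_ext_of_injective_local (CommRingCat.ofHom j₀₁) hj₀₁inj
    rw [← Category.assoc, ← Category.assoc, ← Spec.map_comp, E5,
      Scheme.Spec_stalkClosedPointTo_fromSpecStalk]
    change (Spec.map (CommRingCat.ofHom (ρ B R₁)) ≫ φ') ≫ f = _
    rw [Category.assoc, hφ'2, ← hi₂']
    change Spec.map (CommRingCat.ofHom (ρ B R₁)) ≫ Spec.map (CommRingCat.ofHom γ) ≫ _ = _
    rw [← Category.assoc, ← Spec.map_comp, E2, ← Category.assoc, ← Spec.map_comp]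

end Main

end Groth.Agent.Lib.Helper10.ValCrit
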