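import Mathlib
import Groth.Agent.Lib.Helper10.ValCritMain

/-!
# Reduction of the valuative criterion to valuation rings of residue fields
-/

set_option autoImplicit false
set_option linter.unusedSectionVars false
set_option linter.style.haveILetI false
set_option backward.isDefEq.respectTransparency.types false
set_option maxHeartbeats 4000000
set_option synthInstance.maxHeartbeats 400000
universe u
open CategoryTheory CategoryTheory.Limits AlgebraicGeometry Opposite

namespace Groth.Agent.Lib.Helper10.ValCrit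

open IsLocalRing

theorem existence_of_residueField {X Y : Scheme.{u}} (f : Y ⟶ X)
    (Hres : ∀ (y : Y) (R₀ : ValuationSubring (Y.residueField y))
      (i₂ : Spec (CommRingCat.of R₀) ⟶ X),
      Spec.map (CommRingCat.ofHom R₀.subtype) ≫ i₂ = Y.fromSpecResidueField y ≫ f →
      ∃ l : Spec (CommRingCat.of R₀) ⟶ Y,
        Spec.map (CommRingCat.ofHom R₀.subtype) ≫ l = Y.fromSpecResidueField y ∧ l ≫ f = i₂) :
    ValuativeCriterion.Existence f := by
  rintro ⟨R, K, i₁, i₂, ⟨w⟩⟩
  haveI : IsDomain (CommRingCat.of R) := ‹_›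
  haveI : ValuationRing (CommRingCat.of R) := ‹_›
  letI : Field (CommRingCat.of K) := ‹_›
  -- the point `y` and the residue field extension
  let ι : Y.residueField (i₁ (closedPoint (CommRingCat.of K))) ⟶ CommRingCat.of K :=
    Y.descResidueField (Scheme.stalkClosedPointTo i₁)
  have hι : Spec.map ι ≫ Y.fromSpecResidueField _ = i₁ :=
    Scheme.descResidueField_stalkClosedPointTo_fromSpecResidueField K Y i₁
  obtain ⟨r₀, hr₀⟩ := exists_toR R K ι.hom
  -- the local homomorphism of `i₂`
  let a₂ : X.presheaf.stalk (i₂ (closedPoint (CommRingCat.of R))) ⟶ CommRingCat.of R :=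
    Scheme.stalkClosedPointTo i₂
  have hi₂' : Spec.map a₂ ≫ X.fromSpecStalk _ = i₂ :=
    Scheme.Spec_stalkClosedPointTo_fromSpecStalk i₂
  haveI hres : IsLocalHom (Y.residue (i₁ (closedPoint (CommRingCat.of K)))).hom :=
    inferInstanceAs (IsLocalHom (IsLocalRing.residue (Y.presheaf.stalk _)))
  haveI hιloc : IsLocalHom ι.hom := ⟨fun a ha => by
    rcases eq_or_ne a 0 with rfl | h0
    · rw [map_zero] at ha
      exact absurd ha not_isUnit_zero
    · exact h0.isUnit⟩
  haveI : IsLocalHom (f.stalkMap (i₁ (closedPoint (CommRingCat.of K))) ≫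
      Y.residue (i₁ (closedPoint (CommRingCat.of K))) ≫ ι).hom := by
    rw [CommRingCat.hom_comp, CommRingCat.hom_comp]
    infer_instance
  have e0 : i₁ ≫ f = Spec.map (f.stalkMap (i₁ (closedPoint (CommRingCat.of K))) ≫
      Y.residue (i₁ (closedPoint (CommRingCat.of K))) ≫ ι) ≫
      X.fromSpecStalk (f (i₁ (closedPoint (CommRingCat.of K)))) := by
    conv_lhs => rw [← hι]
    rw [Category.assoc, Scheme.fromSpecResidueField, Category.assoc,
      ← Scheme.SpecMap_stalkMap_fromSpecStalk, ← Spec.map_comp_assoc, ← Spec.map_comp_assoc]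
  obtain ⟨hs₁, E1⟩ := exists_specializes_and_eq i₂ (CommRingCat.ofHom (algebraMap R K))
    (f (i₁ (closedPoint (CommRingCat.of K))))
    (f.stalkMap (i₁ (closedPoint (CommRingCat.of K))) ≫
      Y.residue (i₁ (closedPoint (CommRingCat.of K))) ≫ ι) (by rw [← w, e0])
  -- the homomorphism `O_{X,x} → R₀`
  let sr : X.presheaf.stalk (i₂ (closedPoint (CommRingCat.of R))) ⟶
      Y.residueField (i₁ (closedPoint (CommRingCat.of K))) :=
    X.presheaf.stalkSpecializes hs₁ ≫ f.stalkMap (i₁ (closedPoint (CommRingCat.of K))) ≫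
      Y.residue (i₁ (closedPoint (CommRingCat.of K)))
  have E1' : ∀ t, algebraMap R K (a₂.hom t) = ι.hom (sr.hom t) := fun t =>
    congrArg (fun φ => φ.hom t) E1
  have hmem : ∀ t, sr.hom t ∈ ((subringOf R K).comap ι.hom).toSubring := fun t => by
    change ι.hom (sr.hom t) ∈ subringOf R K
    rw [mem_subringOf_iff]
    exact ⟨a₂.hom t, E1' t⟩
  let a₂z : X.presheaf.stalk (i₂ (closedPoint (CommRingCat.of R))) →+*
      ((subringOf R K).comap ι.hom) := sr.hom.codRestrict _ hmem
  have ha : CommRingCat.ofHom a₂z ≫ CommRingCat.ofHom r₀ = a₂ := by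
    ext t
    apply IsFractionRing.injective R K
    have h1 := congrArg (fun φ => φ (a₂z t)) hr₀
    exact h1.trans (E1' t).symm
  have hsub : CommRingCat.ofHom a₂z ≫
      CommRingCat.ofHom ((subringOf R K).comap ι.hom).subtype = sr := by
    ext t; rfl
  have hi₂z : Spec.map (CommRingCat.ofHom ((subringOf R K).comap ι.hom).subtype) ≫
      (Spec.map (CommRingCat.ofHom a₂z) ≫ X.fromSpecStalk _) =
      Y.fromSpecResidueField (i₁ (closedPoint (CommRingCat.of K))) ≫ f := by
    rw [← Spec.map_comp_assoc, hsub, Scheme.fromSpecResidueField, Category.assoc,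
      ← Scheme.SpecMap_stalkMap_fromSpecStalk, ← Scheme.SpecMap_stalkSpecializes_fromSpecStalk hs₁,
      ← Spec.map_comp_assoc, ← Spec.map_comp_assoc]
  obtain ⟨l₀, hl1, hl2⟩ := Hres _ _ _ hi₂z
  have hr₀' : CommRingCat.ofHom r₀ ≫ CommRingCat.ofHom (algebraMap R K) =
      CommRingCat.ofHom ((subringOf R K).comap ι.hom).subtype ≫ ι := by
    ext t
    exact congrArg (fun φ => φ t) hr₀
  refine ⟨⟨⟨Spec.map (CommRingCat.ofHom r₀) ≫ l₀, ?_, ?_⟩⟩⟩
  · rw [← Spec.map_comp_assoc, hr₀', Spec.map_comp_assoc, hl1, hι]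
  · rw [Category.assoc, hl2, ← Spec.map_comp_assoc, ha, hi₂']

/-- **Existence part of the refined valuative criterion.** -/
theorem existence_of_refined {X Y Z : Scheme.{u}} (h : Z ⟶ Y) (f : Y ⟶ X) [QuasiCompact h]
    (hd : DenseRange h.base)
    (H : ∀ (z : Z) (R : ValuationSubring (Z.residueField z))
      (φ : Spec (CommRingCat.of R) ⟶ X),
      Spec.map (CommRingCat.ofHom R.subtype) ≫ φ = Z.fromSpecResidueField z ≫ h ≫ f →
      ∃! φ' : Spec (CommRingCat.of R) ⟶ Y,
        Spec.map (CommRingCat.ofHom R.subtype) ≫ φ' = Z.fromSpecResidueField z ≫ h ∧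
          φ' ≫ f = φ) :
    ValuativeCriterion.Existence f :=
  existence_of_residueField f (fun y R₀ i₂ hi₂ => exists_lift_residueField h f hd H y R₀ i₂ hi₂)

end Groth.Agent.Lib.Helper10.ValCrit
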