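import Mathlib
import Groth.Agent.Lib.Helper10.ValCritRed

/-!
# The valuative criterion tested on a dense quasi-compact family (EGA II 7.3.10)
-/

set_option autoImplicit false
set_option linter.unusedSectionVars false
set_option linter.style.haveILetI false
set_option backward.isDefEq.respectTransparency.types false
set_option maxHeartbeats 4000000
set_option synthInstance.maxHeartbeats 400000
universe u
open CategoryTheory CategoryTheory.Limits AlgebraicGeometry Opposite

namespace Groth.Agent.Lib.Helper10.ValCrit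

/-- the refined hypothesis (residue fields of points of `U`) from the hypothesis on valuative
squares factoring through `h`. -/
theorem refinedHyp_of_squares {U X S : Scheme.{u}} (f : X ⟶ S) (h : U ⟶ X)
    (H : ∀ sq : ValuativeCommSq f, (∃ i : Spec (.of sq.K) ⟶ U, i ≫ h = sq.i₁) →
      Nonempty (Unique sq.commSq.LiftStruct)) :
    ∀ (z : U) (R : ValuationSubring (U.residueField z)) (φ : Spec (CommRingCat.of R) ⟶ S),
      Spec.map (CommRingCat.ofHom R.subtype) ≫ φ = U.fromSpecResidueField z ≫ h ≫ f →
      ∃! φ' : Spec (CommRingCat.of R) ⟶ X,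
        Spec.map (CommRingCat.ofHom R.subtype) ≫ φ' = U.fromSpecResidueField z ≫ h ∧
          φ' ≫ f = φ := by
  intro z R φ hφ
  let sq : ValuativeCommSq f :=
    { R := ↥R
      K := U.residueField z
      i₁ := U.fromSpecResidueField z ≫ h
      i₂ := φ
      commSq := ⟨by rw [Category.assoc]; exact hφ.symm⟩ }
  obtain ⟨hu⟩ := H sq ⟨U.fromSpecResidueField z, rfl⟩
  refine ⟨hu.default.l, ⟨hu.default.fac_left, hu.default.fac_right⟩, ?_⟩
  rintro φ₂ ⟨h1, h2⟩
  exact congrArg CommSq.LiftStruct.l (hu.uniq ⟨φ₂, h1, h2⟩)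

/-- the refined hypothesis for the diagonal. -/
theorem refinedHyp_diagonal {U X S : Scheme.{u}} (f : X ⟶ S) (h : U ⟶ X)
    (H : ∀ (z : U) (R : ValuationSubring (U.residueField z)) (φ : Spec (CommRingCat.of R) ⟶ S),
      Spec.map (CommRingCat.ofHom R.subtype) ≫ φ = U.fromSpecResidueField z ≫ h ≫ f →
      ∃! φ' : Spec (CommRingCat.of R) ⟶ X,
        Spec.map (CommRingCat.ofHom R.subtype) ≫ φ' = U.fromSpecResidueField z ≫ h ∧
          φ' ≫ f = φ) :
    ∀ (z : U) (R : ValuationSubring (U.residueField z))
      (φ : Spec (CommRingCat.of R) ⟶ pullback f f),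
      Spec.map (CommRingCat.ofHom R.subtype) ≫ φ =
        U.fromSpecResidueField z ≫ h ≫ pullback.diagonal f →
      ∃! φ' : Spec (CommRingCat.of R) ⟶ X,
        Spec.map (CommRingCat.ofHom R.subtype) ≫ φ' = U.fromSpecResidueField z ≫ h ∧
          φ' ≫ pullback.diagonal f = φ := by
  intro z R φ hφ
  have h1 : Spec.map (CommRingCat.ofHom R.subtype) ≫ (φ ≫ pullback.fst f f) =
      U.fromSpecResidueField z ≫ h := by
    rw [← Category.assoc, hφ]
    simp
  have h2 : Spec.map (CommRingCat.ofHom R.subtype) ≫ (φ ≫ pullback.snd f f) =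
      U.fromSpecResidueField z ≫ h := by
    rw [← Category.assoc, hφ]
    simp
  have hc : (φ ≫ pullback.snd f f) ≫ f = (φ ≫ pullback.fst f f) ≫ f := by
    rw [Category.assoc, Category.assoc, pullback.condition]
  obtain ⟨ψ, -, huniq⟩ := H z R ((φ ≫ pullback.fst f f) ≫ f) (by
    rw [← Category.assoc, h1, Category.assoc])
  have e1 : φ ≫ pullback.fst f f = ψ := huniq _ ⟨h1, rfl⟩
  have e2 : φ ≫ pullback.snd f f = ψ := huniq _ ⟨h2, hc⟩
  refine ⟨ψ, ⟨?_, ?_⟩, ?_⟩
  · rw [← e1]; exact h1
  · apply pullback.hom_ext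
    · rw [Category.assoc, pullback.diagonal_fst, Category.comp_id, e1]
    · rw [Category.assoc, pullback.diagonal_snd, Category.comp_id, e2]
  · rintro φ₂ ⟨-, h4⟩
    rw [← e1, ← h4, Category.assoc, pullback.diagonal_fst, Category.comp_id]

/-- **EGA II 7.3.10.** -/
theorem universallyClosed_and_isSeparated_of_dense {U X S : Scheme.{u}} (f : X ⟶ S) (h : U ⟶ X)
    [QuasiCompact f] [QuasiCompact h] (hd : DenseRange h.base)
    (H : ∀ sq : ValuativeCommSq f, (∃ i : Spec (.of sq.K) ⟶ U, i ≫ h = sq.i₁) →
      Nonempty (Unique sq.commSq.LiftStruct)) :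
    UniversallyClosed f ∧ (QuasiSeparated f → IsSeparated f) := by
  have H' := refinedHyp_of_squares f h H
  refine ⟨UniversallyClosed.of_valuativeCriterion f (existence_of_refined h f hd H'), ?_⟩
  intro hqs
  have hEx : ValuativeCriterion.Existence (pullback.diagonal f) :=
    existence_of_refined h (pullback.diagonal f) hd (refinedHyp_diagonal f h H')
  exact
    { isClosedImmersion_diagonal := by
        have := UniversallyClosed.of_valuativeCriterion (pullback.diagonal f) hEx
        exact .of_isPreimmersion _ (pullback.diagonal f).isClosedMap.isClosed_range }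

end Groth.Agent.Lib.Helper10.ValCrit
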