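import Mathlib
import Groth.Agent.Lib.Helper10.ValCritSch

/-!
# More extensionality for morphisms out of spectra of local rings
-/

set_option autoImplicit false
set_option linter.unusedSectionVars false
set_option linter.style.haveILetI false
set_option backward.isDefEq.respectTransparency.types false
set_option maxHeartbeats 4000000
set_option synthInstance.maxHeartbeats 400000
universe u
open CategoryTheory CategoryTheory.Limits AlgebraicGeometry Opposite

namespace Groth.Agent.Lib.Helper10.ValCrit

open IsLocalRing

/-- two morphisms out of the spectrum of a local ring agreeing at the closed point and after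
restriction along an injective ring homomorphism are equal. -/
theorem hom_ext_of_injective_of_closedPoint {X : Scheme.{u}} {A A' : CommRingCat.{u}}
    [IsLocalRing A] (j : A ⟶ A') (hj : Function.Injective j.hom)
    (g₁ g₂ : Spec A ⟶ X) (hc : g₁ (closedPoint A) = g₂ (closedPoint A))
    (h : Spec.map j ≫ g₁ = Spec.map j ≫ g₂) : g₁ = g₂ := by
  have hs : g₂ (closedPoint A) ⤳ g₁ (closedPoint A) := by rw [hc]
  have e1 : g₁ = Spec.map (Scheme.stalkClosedPointTo g₁) ≫ X.fromSpecStalk _ :=
    (Scheme.Spec_stalkClosedPointTo_fromSpecStalk g₁).symm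
  have e2 : g₂ = Spec.map (X.presheaf.stalkSpecializes hs ≫ Scheme.stalkClosedPointTo g₂) ≫
      X.fromSpecStalk _ := by
    rw [Spec.map_comp, Category.assoc, Scheme.SpecMap_stalkSpecializes_fromSpecStalk,
      Scheme.Spec_stalkClosedPointTo_fromSpecStalk]
  have e3 : Scheme.stalkClosedPointTo g₁ ≫ j =
      (X.presheaf.stalkSpecializes hs ≫ Scheme.stalkClosedPointTo g₂) ≫ j := by
    apply Spec.map_injective
    rw [← cancel_mono (X.fromSpecStalk (g₁ (closedPoint A)))]
    rw [Spec.map_comp, Spec.map_comp, Category.assoc, Category.assoc, ← e1, ← e2, h]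
  have e4 : Scheme.stalkClosedPointTo g₁ =
      X.presheaf.stalkSpecializes hs ≫ Scheme.stalkClosedPointTo g₂ := by
    ext t
    apply hj
    exact congrArg (fun ψ => ψ.hom t) e3
  rw [e1, e2, e4]

/-- the closed point of a local ring is the image of the closed point under a surjection. -/
theorem comap_closedPoint_of_surjective {A B : Type u} [CommRing A] [CommRing B] [IsLocalRing A]
    [IsLocalRing B] (σ : A →+* B) (hσ : Function.Surjective σ) :
    PrimeSpectrum.comap σ (closedPoint B) = closedPoint A := by
  apply PrimeSpectrum.ext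
  change (maximalIdeal B).comap σ = maximalIdeal A
  haveI : ((maximalIdeal B).comap σ).IsMaximal := Ideal.comap_isMaximal_of_surjective σ hσ
  exact IsLocalRing.eq_maximalIdeal inferInstance

/-- nested valuation rings: the smaller one is the preimage of its image in the residue field of
the larger one. -/
theorem mem_of_residue_mem {K : Type u} [Field K] (R R' : ValuationSubring K) (hRR' : R ≤ R')
    (Rt : ValuationSubring (ResidueField R'))
    (hsurj : ∀ c ∈ Rt, ∃ r : K, ∃ hr : r ∈ R, residue R' ⟨r, hRR' hr⟩ = c)
    (x : R') (hx : residue R' x ∈ Rt) : (x : K) ∈ R := by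
  obtain ⟨r, hr, hrx⟩ := hsurj _ hx
  have hm : x - ⟨r, hRR' hr⟩ ∈ maximalIdeal R' := by
    rw [← IsLocalRing.residue_eq_zero_iff, map_sub, hrx, sub_self]
  have hmR : ((x - ⟨r, hRR' hr⟩ : R') : K) ∈ R := by
    set m : R' := x - ⟨r, hRR' hr⟩ with hmdef
    rcases eq_or_ne (m : K) 0 with h0 | h0
    · rw [h0]; exact zero_mem _
    · rcases R.mem_or_inv_mem (m : K) with h1 | h1
      · exact h1
      · exfalso
        have h2 : (m : K)⁻¹ ∈ R' := hRR' h1
        have hu : IsUnit m := by
          refine isUnit_iff_exists_inv.mpr ⟨⟨_, h2⟩, ?_⟩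
          exact Subtype.ext (mul_inv_cancel₀ h0)
        exact (IsLocalRing.mem_maximalIdeal _).mp hm hu
  have : (x : K) = ((x - ⟨r, hRR' hr⟩ : R') : K) + r := by
    push_cast
    ring
  rw [this]
  exact add_mem hmR hr

end Groth.Agent.Lib.Helper10.ValCrit
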