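import Mathlib
import Groth.Agent.Lib.Helper10.ValCritSch2

/-!
# Morphisms from spectra of valuation rings into affine opens
-/

set_option autoImplicit false
set_option linter.unusedSectionVars false
set_option linter.style.haveILetI false
set_option backward.isDefEq.respectTransparency.types false
set_option maxHeartbeats 4000000
set_option synthInstance.maxHeartbeats 400000
universe u
open CategoryTheory CategoryTheory.Limits AlgebraicGeometry Opposite

namespace Groth.Agent.Lib.Helper10.ValCrit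

open IsLocalRing

section General
variable {Y : Scheme.{u}} {V : Y.Opens} (hV : IsAffineOpen V) {K : Type u} [Field K]
  (R : ValuationSubring K) (e : Γ(Y, V) ⟶ CommRingCat.of K)

/-- all points of the spectrum of a local ring map into an open containing the image of the closed
point. -/
theorem forall_mem_of_closedPoint_mem {A : CommRingCat.{u}} [IsLocalRing A] (l : Spec A ⟶ Y)
    (hcp : l (closedPoint A) ∈ V) (p : Spec A) : l p ∈ V := by
  have h1 : p ⤳ closedPoint A := specializes_closedPoint p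
  have h2 : l p ⤳ l (closedPoint A) := h1.map l.continuous
  exact h2.mem_open V.2 hcp

include hV in
theorem exists_lift_of_mem (he : ∀ b, e.hom b ∈ R) :
    ∃ l : Spec (CommRingCat.of R) ⟶ Y,
      Spec.map (CommRingCat.ofHom R.subtype) ≫ l = Spec.map e ≫ hV.fromSpec ∧ ∀ p, l p ∈ V := by
  let φ : Γ(Y, V) →+* R := e.hom.codRestrict R.toSubring he
  have hφ : CommRingCat.ofHom φ ≫ CommRingCat.ofHom R.subtype = e := by
    ext b; rfl
  refine ⟨Spec.map (CommRingCat.ofHom φ) ≫ hV.fromSpec, ?_, ?_⟩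
  · rw [← Category.assoc, ← Spec.map_comp, hφ]
  · intro p
    have : hV.fromSpec (Spec.map (CommRingCat.ofHom φ) p) ∈ Set.range hV.fromSpec := ⟨_, rfl⟩
    rw [hV.range_fromSpec] at this
    exact this

include hV in
theorem mem_of_lift (l : Spec (CommRingCat.of R) ⟶ Y)
    (hl : Spec.map (CommRingCat.ofHom R.subtype) ≫ l = Spec.map e ≫ hV.fromSpec)
    (hcp : l (closedPoint R) ∈ V) : ∀ b, e.hom b ∈ R := by
  have hrange : Set.range l ⊆ Set.range hV.fromSpec := by
    rw [hV.range_fromSpec]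
    rintro _ ⟨p, rfl⟩
    exact forall_mem_of_closedPoint_mem l hcp p
  let l' := IsOpenImmersion.lift hV.fromSpec l hrange
  have hl' : l' ≫ hV.fromSpec = l := IsOpenImmersion.lift_fac hV.fromSpec l hrange
  let φ : Γ(Y, V) ⟶ CommRingCat.of R := Spec.preimage l'
  have hφ : Spec.map φ = l' := Spec.map_preimage l'
  have h1 : Spec.map (φ ≫ CommRingCat.ofHom R.subtype) = Spec.map e := by
    rw [← cancel_mono hV.fromSpec, Spec.map_comp, Category.assoc, hφ, hl', hl]
  have h2 : φ ≫ CommRingCat.ofHom R.subtype = e := Spec.map_injective h1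
  intro b
  have := congrArg (fun ψ => ψ.hom b) h2
  rw [← this]
  exact (φ.hom b).2

include hV in
theorem lift_ext (l₁ l₂ : Spec (CommRingCat.of R) ⟶ Y)
    (h₁ : l₁ (closedPoint R) ∈ V) (h₂ : l₂ (closedPoint R) ∈ V)
    (h : Spec.map (CommRingCat.ofHom R.subtype) ≫ l₁ =
      Spec.map (CommRingCat.ofHom R.subtype) ≫ l₂) : l₁ = l₂ := by
  have hr₁ : Set.range l₁ ⊆ Set.range hV.fromSpec := by
    rw [hV.range_fromSpec]
    rintro _ ⟨p, rfl⟩
    exact forall_mem_of_closedPoint_mem l₁ h₁ p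
  have hr₂ : Set.range l₂ ⊆ Set.range hV.fromSpec := by
    rw [hV.range_fromSpec]
    rintro _ ⟨p, rfl⟩
    exact forall_mem_of_closedPoint_mem l₂ h₂ p
  let l₁' := IsOpenImmersion.lift hV.fromSpec l₁ hr₁
  let l₂' := IsOpenImmersion.lift hV.fromSpec l₂ hr₂
  have hl₁ : l₁' ≫ hV.fromSpec = l₁ := IsOpenImmersion.lift_fac hV.fromSpec l₁ hr₁
  have hl₂ : l₂' ≫ hV.fromSpec = l₂ := IsOpenImmersion.lift_fac hV.fromSpec l₂ hr₂
  let φ₁ : Γ(Y, V) ⟶ CommRingCat.of R := Spec.preimage l₁'
  let φ₂ : Γ(Y, V) ⟶ CommRingCat.of R := Spec.preimage l₂'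
  have hφ₁ : Spec.map φ₁ = l₁' := Spec.map_preimage l₁'
  have hφ₂ : Spec.map φ₂ = l₂' := Spec.map_preimage l₂'
  have h1 : Spec.map (φ₁ ≫ CommRingCat.ofHom R.subtype) =
      Spec.map (φ₂ ≫ CommRingCat.ofHom R.subtype) := by
    rw [← cancel_mono hV.fromSpec, Spec.map_comp, Spec.map_comp, Category.assoc, Category.assoc,
      hφ₁, hφ₂, hl₁, hl₂, h]
  have h2 : φ₁ ≫ CommRingCat.ofHom R.subtype = φ₂ ≫ CommRingCat.ofHom R.subtype :=
    Spec.map_injective h1
  have h3 : φ₁ = φ₂ := by
    ext b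
    have := congrArg (fun ψ => ψ.hom b) h2
    exact this
  rw [← hl₁, ← hl₂, ← hφ₁, ← hφ₂, h3]

end General

/-- a valuation ring of the residue field of `ξ` centred at a given specialization. -/
theorem exists_valuationSubring_center {X : Scheme.{u}} (ξ x : X) (hs : ξ ⤳ x) :
    ∃ (R : ValuationSubring (X.residueField ξ)) (l : Spec (CommRingCat.of R) ⟶ X),
      Spec.map (CommRingCat.ofHom R.subtype) ≫ l = X.fromSpecResidueField ξ ∧
      l (closedPoint R) = x := by
  let β : X.presheaf.stalk x ⟶ X.residueField ξ := X.presheaf.stalkSpecializes hs ≫ X.residue ξ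
  obtain ⟨R, hR, hRloc⟩ := exists_factor_valuationRing β.hom
  let βR : X.presheaf.stalk x →+* R := β.hom.codRestrict R.toSubring hR
  haveI : IsLocalHom (CommRingCat.ofHom βR).hom := hRloc
  have hβ : CommRingCat.ofHom βR ≫ CommRingCat.ofHom R.subtype = β := by
    ext t; rfl
  refine ⟨R, Spec.map (CommRingCat.ofHom βR) ≫ X.fromSpecStalk x, ?_, ?_⟩
  · rw [← Category.assoc, ← Spec.map_comp, hβ, Spec.map_comp, Category.assoc,
      Scheme.SpecMap_stalkSpecializes_fromSpecStalk]
    rfl
  · rw [Scheme.Hom.comp_apply, Spec_closedPoint, Scheme.fromSpecStalk_closedPoint]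

end Groth.Agent.Lib.Helper10.ValCrit
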