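import Mathlib
import Groth.Agent.Lib.Helper10.ValCritQC1
import Groth.Agent.Lib.Helper10.RZCompact

/-!
# The valuative criterion and quasi-compactness
-/

set_option autoImplicit false
set_option linter.unusedSectionVars false
set_option linter.style.haveILetI false
set_option backward.isDefEq.respectTransparency.types false
set_option maxHeartbeats 4000000
set_option synthInstance.maxHeartbeats 400000
universe u
open CategoryTheory CategoryTheory.Limits AlgebraicGeometry Opposite

namespace Groth.Agent.Lib.Helper10.ValCrit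

open IsLocalRing

/-- finite generation: membership in a valuation ring can be tested on finitely many elements. -/
theorem exists_finset_forall_mem {A B K : Type u} [CommRing A] [CommRing B] [Field K]
    (φ : A →+* B) (hφ : φ.FiniteType) (e : B →+* K) :
    ∃ T : Finset B, ∀ R : ValuationSubring K, (∀ a, e (φ a) ∈ R) → (∀ t ∈ T, e t ∈ R) →
      ∀ b, e b ∈ R := by
  letI := φ.toAlgebra
  have hft : Algebra.FiniteType A B := hφ
  obtain ⟨T, hT⟩ := hft.out
  refine ⟨T, fun R hA hTR b => ?_⟩
  have hb : b ∈ Algebra.adjoin A (T : Set B) := by rw [hT]; trivial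
  induction hb using Algebra.adjoin_induction with
  | mem x hx => exact hTR x hx
  | algebraMap r => exact hA r
  | add x y _ _ hx hy => rw [map_add]; exact add_mem hx hy
  | mul x y _ _ hx hy => rw [map_mul]; exact mul_mem hx hy

section Main
variable {X Y : Scheme.{u}} (f : X ⟶ Y)

/-- the refined form of the valuative criterion at a point. -/
theorem refinedHyp_point (hf : ValuativeCriterion f) (ξ : X)
    (R : ValuationSubring (X.residueField ξ)) (φ : Spec (CommRingCat.of R) ⟶ Y)
    (hφ : Spec.map (CommRingCat.ofHom R.subtype) ≫ φ = X.fromSpecResidueField ξ ≫ f) :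
    ∃! φ' : Spec (CommRingCat.of R) ⟶ X,
      Spec.map (CommRingCat.ofHom R.subtype) ≫ φ' = X.fromSpecResidueField ξ ∧ φ' ≫ f = φ := by
  let sq : ValuativeCommSq f :=
    { R := ↥R
      K := X.residueField ξ
      i₁ := X.fromSpecResidueField ξ
      i₂ := φ
      commSq := ⟨hφ.symm⟩ }
  obtain ⟨hu⟩ := hf sq
  refine ⟨hu.default.l, ⟨hu.default.fac_left, hu.default.fac_right⟩, ?_⟩
  rintro φ₂ ⟨h1, h2⟩
  exact congrArg CommSq.LiftStruct.l (hu.uniq ⟨φ₂, h1, h2⟩)

/-- evaluation of sections over an affine open at a point, in the residue field. -/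
noncomputable def evW {W : X.Opens} (ξ : X) (hξW : ξ ∈ W) : Γ(X, W) ⟶ X.residueField ξ :=
  X.presheaf.germ W ξ hξW ≫ X.residue ξ

theorem fromSpecResidueField_eq {W : X.Opens} (hW : IsAffineOpen W) (ξ : X) (hξW : ξ ∈ W) :
    X.fromSpecResidueField ξ = Spec.map (evW ξ hξW) ≫ hW.fromSpec := by
  rw [evW, Spec.map_comp, Category.assoc, Scheme.fromSpecResidueField,
    ← hW.fromSpecStalk_eq_fromSpecStalk hξW, IsAffineOpen.fromSpecStalk]

/-- evaluation of sections over an affine open of the target. -/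
noncomputable def evV {V : Y.Opens} (ξ : X) (hξ : f ξ ∈ V) : Γ(Y, V) ⟶ X.residueField ξ :=
  Y.presheaf.germ V (f ξ) hξ ≫ f.stalkMap ξ ≫ X.residue ξ

theorem fromSpecResidueField_comp_eq {V : Y.Opens} (hV : IsAffineOpen V) (ξ : X) (hξ : f ξ ∈ V) :
    X.fromSpecResidueField ξ ≫ f = Spec.map (evV f ξ hξ) ≫ hV.fromSpec := by
  rw [evV, Spec.map_comp, Spec.map_comp, Category.assoc, Category.assoc,
    Scheme.fromSpecResidueField, Category.assoc, ← Scheme.SpecMap_stalkMap_fromSpecStalk,
    ← hV.fromSpecStalk_eq_fromSpecStalk hξ, IsAffineOpen.fromSpecStalk]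

theorem evW_appLE {V : Y.Opens} {W : X.Opens} (hWV : W ≤ f ⁻¹ᵁ V) (ξ : X) (hξW : ξ ∈ W)
    (a : Γ(Y, V)) :
    (evW ξ hξW).hom ((f.appLE V W hWV).hom a) = (evV f ξ (hWV hξW)).hom a := by
  have h1 : f.appLE V W hWV ≫ X.presheaf.germ W ξ hξW =
      Y.presheaf.germ V (f ξ) (hWV hξW) ≫ f.stalkMap ξ := by
    rw [Scheme.Hom.germ_stalkMap, Scheme.Hom.appLE, Category.assoc, TopCat.Presheaf.germ_res]
  have h2 : f.appLE V W hWV ≫ evW ξ hξW = evV f ξ (hWV hξW) := by
    rw [evW, evV, ← Category.assoc, h1, Category.assoc]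
  exact congrArg (fun ψ => ψ.hom a) h2

end Main

end Groth.Agent.Lib.Helper10.ValCrit
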