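import Mathlib
import Groth.Agent.Lib.Helper10.ValCritQC2

/-!
# The valuative criterion and quasi-compactness: main
-/

set_option autoImplicit false
set_option linter.unusedSectionVars false
set_option linter.style.haveILetI false
set_option backward.isDefEq.respectTransparency.types false
set_option maxHeartbeats 4000000
set_option synthInstance.maxHeartbeats 400000
universe u
open CategoryTheory CategoryTheory.Limits AlgebraicGeometry Opposite

namespace Groth.Agent.Lib.Helper10.ValCrit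

open IsLocalRing

theorem isCompact_closure_inter_preimage {X Y : Scheme.{u}} (f : X ⟶ Y) [LocallyOfFiniteType f]
    (hf : ValuativeCriterion f) {V : Y.Opens} (hV : IsAffineOpen V) (ξ : X) (hξ : f ξ ∈ V) :
    IsCompact (closure {ξ} ∩ (f ⁻¹ᵁ V : Set X)) := by
  classical
  apply isCompact_of_finite_subcover
  intro ι U hUopen hcover
  -- choices of affine opens
  have hch : ∀ x : ↥(closure {ξ} ∩ (f ⁻¹ᵁ V : Set X)), ∃ (i : ι) (W : X.Opens),
      IsAffineOpen W ∧ (x : X) ∈ W ∧ (W : Set X) ⊆ U i ∧ W ≤ f ⁻¹ᵁ V := by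
    intro x
    obtain ⟨i, hi⟩ := Set.mem_iUnion.mp (hcover x.2)
    let O : X.Opens := ⟨U i, hUopen i⟩ ⊓ f ⁻¹ᵁ V
    have hxO : (x : X) ∈ O := ⟨hi, x.2.2⟩
    obtain ⟨W, hW, h1, h2⟩ := TopologicalSpace.Opens.isBasis_iff_nbhd.mp X.isBasis_affineOpens hxO
    exact ⟨i, W, hW, h1, fun y hy => (h2 hy).1, fun y hy => (h2 hy).2⟩
  choose idx W hWaff hxW hWU hWV using hch
  have hξW : ∀ x, ξ ∈ W x := fun x =>
    (specializes_iff_mem_closure.mpr x.2.1).mem_open (W x).2 (hxW x)
  -- finite generation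
  have hfin : ∀ x, ∃ T : Finset Γ(X, W x), ∀ R : ValuationSubring (X.residueField ξ),
      (∀ a, (evW ξ (hξW x)).hom ((f.appLE V (W x) (hWV x)).hom a) ∈ R) →
      (∀ t ∈ T, (evW ξ (hξW x)).hom t ∈ R) → ∀ b, (evW ξ (hξW x)).hom b ∈ R := fun x =>
    exists_finset_forall_mem (f.appLE V (W x) (hWV x)).hom
      (f.finiteType_appLE hV (hWaff x) (hWV x)) (evW ξ (hξW x)).hom
  choose T hT using hfin
  let S : ↥(closure {ξ} ∩ (f ⁻¹ᵁ V : Set X)) → Finset (X.residueField ξ) :=
    fun x => (T x).image (evW ξ (hξW x)).hom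
  let A0 : Set (X.residueField ξ) := Set.range (evV f ξ hξ).hom
  -- Step A
  have hcoverRZ : ∀ R : ValuationSubring (X.residueField ξ), A0 ⊆ R →
      ∃ x, (↑(S x) : Set (X.residueField ξ)) ⊆ (R : Set (X.residueField ξ)) := by
    intro R hR
    obtain ⟨φ, hφ1, hφ2⟩ := exists_lift_of_mem hV R (evV f ξ hξ) (fun b => hR ⟨b, rfl⟩)
    rw [← fromSpecResidueField_comp_eq f hV ξ hξ] at hφ1
    obtain ⟨l, ⟨hl1, hl2⟩, -⟩ := refinedHyp_point f hf ξ R φ hφ1
    have hx1 : l (closedPoint R) ∈ closure {ξ} := by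
      have hne : Nonempty (Spec (X.residueField ξ)) := inferInstance
      obtain ⟨pt⟩ := hne
      have h1 : (Spec.map (CommRingCat.ofHom R.subtype) ≫ l) pt = ξ := by
        rw [hl1]
        exact Scheme.fromSpecResidueField_apply ξ pt
      have h2 : (Spec.map (CommRingCat.ofHom R.subtype)) pt ⤳ closedPoint R :=
        specializes_closedPoint _
      have h3 := h2.map l.continuous
      rw [Scheme.Hom.comp_apply] at h1
      rw [h1] at h3
      exact specializes_iff_mem_closure.mp h3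
    have hx2 : l (closedPoint R) ∈ (f ⁻¹ᵁ V : Set X) := by
      change f (l (closedPoint R)) ∈ V
      rw [← Scheme.Hom.comp_apply, hl2]
      exact hφ2 _
    let x : ↥(closure {ξ} ∩ (f ⁻¹ᵁ V : Set X)) := ⟨l (closedPoint R), hx1, hx2⟩
    refine ⟨x, ?_⟩
    have hmem := mem_of_lift (hWaff x) R (evW ξ (hξW x)) l
      (by rw [hl1]; exact fromSpecResidueField_eq (hWaff x) ξ (hξW x)) (hxW x)
    intro k hk
    obtain ⟨t, -, rfl⟩ := Finset.mem_image.mp hk
    exact hmem t
  obtain ⟨F, hF⟩ := Groth.Agent.Lib.Helper10.RZ.exists_finite_subcover A0 S hcoverRZ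
  -- Step C
  refine ⟨F.image idx, ?_⟩
  intro x hx
  obtain ⟨R, l, hl1, hl2⟩ := exists_valuationSubring_center ξ x (specializes_iff_mem_closure.mpr hx.1)
  have hlf : Spec.map (CommRingCat.ofHom R.subtype) ≫ l ≫ f =
      Spec.map (evV f ξ hξ) ≫ hV.fromSpec := by
    rw [← Category.assoc, hl1]
    exact fromSpecResidueField_comp_eq f hV ξ hξ
  have hcpV : (l ≫ f) (closedPoint R) ∈ V := by
    rw [Scheme.Hom.comp_apply, hl2]
    exact hx.2
  have hA0 : A0 ⊆ R := by
    rintro _ ⟨a, rfl⟩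
    exact mem_of_lift hV R (evV f ξ hξ) (l ≫ f) hlf hcpV a
  obtain ⟨x', hx'F, hx'⟩ := hF R hA0
  have hall : ∀ b, (evW ξ (hξW x')).hom b ∈ R := by
    refine hT x' R ?_ ?_
    · intro a
      rw [evW_appLE f (hWV x') ξ (hξW x') a]
      exact hA0 ⟨a, rfl⟩
    · intro t ht
      exact hx' (Finset.mem_coe.mpr (Finset.mem_image_of_mem _ ht))
  obtain ⟨l', hl'1, hl'2⟩ := exists_lift_of_mem (hWaff x') R (evW ξ (hξW x')) hall
  rw [← fromSpecResidueField_eq (hWaff x') ξ (hξW x')] at hl'1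
  have hff : l' ≫ f = l ≫ f := by
    refine lift_ext hV R (l' ≫ f) (l ≫ f) ?_ hcpV ?_
    · rw [Scheme.Hom.comp_apply]
      exact hWV x' (hl'2 _)
    · rw [← Category.assoc, ← Category.assoc, hl'1, hl1]
  obtain ⟨l₀, -, huniq⟩ := refinedHyp_point f hf ξ R (l ≫ f) (by rw [← Category.assoc, hl1])
  have e1 : l = l₀ := huniq l ⟨hl1, rfl⟩
  have e2 : l' = l₀ := huniq l' ⟨hl'1, hff⟩
  have hxW' : x ∈ W x' := by
    rw [← hl2, e1, ← e2]
    exact hl'2 _
  exact Set.mem_iUnion₂.mpr ⟨idx x', Finset.mem_image_of_mem _ hx'F, hWU x' hxW'⟩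

/-- a locally finite type morphism satisfying the valuative criterion whose source has finitely
many irreducible components is quasi-compact. -/
theorem quasiCompact_of_valuativeCriterion {X Y : Scheme.{u}} (f : X ⟶ Y) [LocallyOfFiniteType f]
    (hf : ValuativeCriterion f) (hX : (irreducibleComponents ↥X).Finite) : QuasiCompact f := by
  rw [quasiCompact_iff_forall_isAffineOpen]
  intro V hV
  have hcov : (f ⁻¹ᵁ V : Set X) = ⋃ Z ∈ irreducibleComponents X, Z ∩ (f ⁻¹ᵁ V : Set X) := by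
    ext x
    simp only [Set.mem_iUnion, Set.mem_inter_iff, exists_prop]
    constructor
    · intro hx
      exact ⟨irreducibleComponent x, irreducibleComponent_mem_irreducibleComponents x,
        mem_irreducibleComponent, hx⟩
    · rintro ⟨Z, -, -, hx⟩
      exact hx
  rw [hcov]
  refine hX.isCompact_biUnion (fun Z hZ => ?_)
  have hZirr : IsIrreducible Z := hZ.1
  have hZcl : IsClosed Z := isClosed_of_mem_irreducibleComponents Z hZ
  obtain ⟨ξ, hξ⟩ := QuasiSober.sober hZirr hZcl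
  by_cases hξV : f ξ ∈ V
  · rw [← hξ.def]
    exact isCompact_closure_inter_preimage f hf hV ξ hξV
  · have hempty : Z ∩ (f ⁻¹ᵁ V : Set X) = ∅ := by
      rw [Set.eq_empty_iff_forall_notMem]
      rintro x ⟨hxZ, hxV⟩
      rw [← hξ.def] at hxZ
      exact hξV ((specializes_iff_mem_closure.mpr hxZ).mem_open (f ⁻¹ᵁ V).2 hxV)
    rw [hempty]
    exact isCompact_empty

end Groth.Agent.Lib.Helper10.ValCrit
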