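import Mathlib
import Groth.Agent.Lib.Helper10.ValExt1

/-!
# Sections of proper schemes over Dedekind domains extend from the generic point
-/

set_option autoImplicit false
set_option linter.unusedSectionVars false
set_option linter.style.haveILetI false
set_option maxHeartbeats 1000000
universe u
open CategoryTheory CategoryTheory.Limits AlgebraicGeometry Opposite TopologicalSpace

namespace Groth.Agent.Lib.Helper10.ValExt

/-- localizations of a Dedekind domain at primes are valuation rings. -/
theorem valuationRing_of_atPrime (R : Type u) [CommRing R] [IsDedekindDomain R] (p : Ideal R)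
    [p.IsPrime] (A : Type u) [CommRing A] [IsDomain A] [Algebra R A] [IsLocalization.AtPrime A p] :
    ValuationRing A := by
  haveI : IsDedekindDomain A := IsLocalization.AtPrime.isDedekindDomain R p A
  haveI : IsLocalRing A := IsLocalization.AtPrime.isLocalRing A p
  haveI : IsPrincipalIdealRing A := IsPrincipalIdealRing.of_finite_maximals (by
    have : {I : Ideal A | I.IsMaximal} = {IsLocalRing.maximalIdeal A} := by
      ext I
      simp only [Set.mem_setOf_eq, Set.mem_singleton_iff]
      exact ⟨fun h => IsLocalRing.eq_maximalIdeal h, fun h => h ▸ inferInstance⟩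
    rw [this]
    exact Set.finite_singleton _)
  infer_instance

/-- the stalks of `Spec R` for a Dedekind domain `R` are valuation rings. -/
theorem valuationRing_stalk (R : Type u) [CommRing R] [IsDedekindDomain R]
    (x : Spec (CommRingCat.of R)) :
    ValuationRing ((Spec (CommRingCat.of R)).presheaf.stalk x) := by
  letI : Algebra R ((Spec (CommRingCat.of R)).presheaf.stalk x) :=
    StructureSheaf.stalkAlgebra (R := CommRingCat.of R) x
  haveI : IsLocalization.AtPrime ((Spec (CommRingCat.of R)).presheaf.stalk x) x.asIdeal :=
    StructureSheaf.IsLocalization.to_stalk (R := CommRingCat.of R) x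
  exact valuationRing_of_atPrime R x.asIdeal _

theorem exists_ringHom_functionField (RR : CommRingCat.{u}) [IsDomain RR] (K : Type u) [Field K]
    [Algebra RR K] [IsFractionRing RR K] :
    ∃ φ : K →+* (Spec RR).functionField,
      φ.comp (algebraMap RR K) = (StructureSheaf.toStalk RR (genericPoint (Spec RR))).hom := by
  refine ⟨IsFractionRing.lift (K := K) (g := algebraMap RR (Spec RR).functionField)
    (IsFractionRing.injective RR (Spec RR).functionField), ?_⟩
  ext r
  exact IsFractionRing.lift_algebraMap
    (IsFractionRing.injective RR (Spec RR).functionField) r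

/-- **A proper scheme over a Dedekind domain with a point over the fraction field has a section.** -/
theorem exists_section_of_fractionRing (R : Type u) [CommRing R] [IsDedekindDomain R]
    {Y : Scheme.{u}} (q : Y ⟶ Spec (CommRingCat.of R)) [IsProper q]
    (s : Spec (CommRingCat.of (FractionRing R)) ⟶ Y)
    (hs : s ≫ q = Spec.map (CommRingCat.ofHom (algebraMap R (FractionRing R)))) :
    ∃ g' : Spec (CommRingCat.of R) ⟶ Y, g' ≫ q = 𝟙 _ := by
  obtain ⟨φ, hφ⟩ := exists_ringHom_functionField (CommRingCat.of R) (FractionRing R)
  let g : Spec (Spec (CommRingCat.of R)).functionField ⟶ Y := Spec.map (CommRingCat.ofHom φ) ≫ s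
  have hg : g ≫ q = (Spec (CommRingCat.of R)).fromSpecStalk
      (genericPoint (Spec (CommRingCat.of R))) := by
    change (Spec.map (CommRingCat.ofHom φ) ≫ s) ≫ q = _
    rw [Category.assoc, hs, ← Spec.map_comp, ← CommRingCat.ofHom_comp, hφ,
      Spec.fromSpecStalk_eq']
    rfl
  obtain ⟨g', hg', -⟩ := exists_section_of_generic (X := Spec (CommRingCat.of R))
    (fun x => valuationRing_stalk R x) q g hg
  exact ⟨g', hg'⟩

end Groth.Agent.Lib.Helper10.ValExt
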