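import Mathlib
import Groth.Agent.Lib.Helper10.VerAlg

/-!
# The Veronese isomorphism `Proj 𝒜 ≅ Proj ℬ`
-/

set_option autoImplicit false
set_option linter.unusedSectionVars false
set_option linter.style.haveILetI false
set_option backward.isDefEq.respectTransparency.types false
set_option maxHeartbeats 4000000
set_option synthInstance.maxHeartbeats 400000
universe u
open CategoryTheory CategoryTheory.Limits AlgebraicGeometry Opposite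

namespace Groth.Agent.Lib.Helper10.Ver

open HomogeneousLocalization

section
variable {R A : Type u} [CommRing R] [CommRing A] [Algebra R A] (𝒜 : ℕ → Submodule R A)
  [GradedAlgebra 𝒜]

theorem awayι_congr {m m' : ℕ} (h : m = m') {f : A} (hf : f ∈ 𝒜 m) (hm : 0 < m)
    (hf' : f ∈ 𝒜 m') (hm' : 0 < m') : Proj.awayι 𝒜 f hf hm = Proj.awayι 𝒜 f hf' hm' := by
  subst h; rfl

/-- every point of `Proj` lies in some standard chart. -/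
theorem exists_mem_basicOpen (p : Proj 𝒜) :
    ∃ (m : ℕ) (_ : 0 < m) (f : A) (_ : f ∈ 𝒜 m), p ∈ Proj.basicOpen 𝒜 f := by
  have h1 := (Proj.affineOpenCover 𝒜).covers p
  set j := (Proj.affineOpenCover 𝒜).idx p with hj
  have h2 : p ∈ (Proj.awayι 𝒜 (j.2 : A) j.2.2 j.1.2).opensRange := h1
  rw [Proj.opensRange_awayι] at h2
  exact ⟨j.1, j.1.2, j.2, j.2.2, h2⟩

end

section
variable {R A : Type u} [CommRing R] [CommRing A] [Algebra R A] (𝒜 : ℕ → Submodule R A)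
  [GradedAlgebra 𝒜]
  {B : Type u} [CommRing B] [Algebra R B] (ℬ : ℕ → Submodule R B) [GradedAlgebra ℬ]
  (d : ℕ) (hd : 0 < d) (φ : B →ₐ[R] A) (hφ : Function.Injective φ)
  (hdeg : ∀ n : ℕ, Submodule.map φ.toLinearMap (ℬ n) = 𝒜 (n * d))

/-- the chart morphism `Spec A_(φ g) ⟶ Proj ℬ`. -/
noncomputable def F {n : ℕ} {g : B} (hg : g ∈ ℬ n) (hn : 0 < n) :
    Spec (CommRingCat.of (Away 𝒜 (φ g))) ⟶ Proj ℬ :=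
  Spec.map (CommRingCat.ofHom (θ 𝒜 ℬ d φ hdeg hg)) ≫ Proj.awayι ℬ g hg hn

theorem F_congr {n m : ℕ} (h : n = m) {g : B} (hg : g ∈ ℬ n) (hn : 0 < n) (hg' : g ∈ ℬ m)
    (hm : 0 < m) : F 𝒜 ℬ d φ hdeg hg hn = F 𝒜 ℬ d φ hdeg hg' hm := by
  subst h; rfl

theorem specMap_awayMap_F {n n' : ℕ} {g g' x : B} (hg : g ∈ ℬ n) (hn : 0 < n) (hg' : g' ∈ ℬ n')
    (hx : x = g * g') (hx' : φ x = φ g * φ g') :
    Spec.map (CommRingCat.ofHom (awayMap 𝒜 (φ_mem 𝒜 ℬ d φ hdeg hg') hx')) ≫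
        F 𝒜 ℬ d φ hdeg hg hn =
      F 𝒜 ℬ d φ hdeg (hx ▸ SetLike.mul_mem_graded hg hg' : x ∈ ℬ (n + n'))
        (Nat.add_pos_left hn n') := by
  unfold F
  rw [← Proj.SpecMap_awayMap_awayι ℬ hg hn hg' hx, ← Category.assoc, ← Category.assoc,
    ← Spec.map_comp, ← Spec.map_comp, ← CommRingCat.ofHom_comp, ← CommRingCat.ofHom_comp,
    θ_comp_awayMap 𝒜 ℬ d φ hdeg hg hg' hx hx']

include hd in
theorem covers (p : Proj 𝒜) : ∃ (j : Σ n : ℕ+, ℬ n)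
    (y : Spec (CommRingCat.of (Away 𝒜 (φ (j.2 : B))))),
    Proj.awayι 𝒜 (φ (j.2 : B)) (φ_mem 𝒜 ℬ d φ hdeg j.2.2) (Nat.mul_pos j.1.2 hd) y = p := by
  obtain ⟨m, hm, f, hf, hp⟩ := exists_mem_basicOpen 𝒜 p
  have h1 : f ^ d ∈ 𝒜 (m * d) := by
    have := SetLike.pow_mem_graded d hf
    rwa [smul_eq_mul, mul_comm] at this
  obtain ⟨g, hg, hφg⟩ := exists_preimage 𝒜 ℬ d φ hdeg h1
  rw [← Proj.basicOpen_pow 𝒜 f d hd, ← hφg,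
    ← Proj.opensRange_awayι 𝒜 (φ g) (φ_mem 𝒜 ℬ d φ hdeg hg) (Nat.mul_pos hm hd)] at hp
  obtain ⟨y, hy⟩ := hp
  exact ⟨⟨⟨m, hm⟩, ⟨g, hg⟩⟩, y, hy⟩

include hd in
/-- the glued morphism `Proj 𝒜 ⟶ Proj ℬ`. -/
theorem exists_glued : ∃ f : Proj 𝒜 ⟶ Proj ℬ, ∀ (n : ℕ) (g : B) (hn : 0 < n) (hg : g ∈ ℬ n),
    Proj.awayι 𝒜 (φ g) (φ_mem 𝒜 ℬ d φ hdeg hg) (Nat.mul_pos hn hd) ≫ f =
      F 𝒜 ℬ d φ hdeg hg hn := by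
  let 𝒰 : (Proj 𝒜).OpenCover := Scheme.Cover.mkOfCovers (Σ n : ℕ+, ℬ n)
    (fun j => Spec (CommRingCat.of (Away 𝒜 (φ (j.2 : B)))))
    (fun j => Proj.awayι 𝒜 (φ (j.2 : B)) (φ_mem 𝒜 ℬ d φ hdeg j.2.2) (Nat.mul_pos j.1.2 hd))
    (covers 𝒜 ℬ d hd φ hdeg) (fun j => inferInstance)
  refine ⟨𝒰.glueMorphisms (fun j => F 𝒜 ℬ d φ hdeg j.2.2 j.1.2) ?_, fun n g hn hg =>
    𝒰.ι_glueMorphisms _ _ ⟨⟨n, hn⟩, ⟨g, hg⟩⟩⟩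
  intro j j'
  obtain ⟨⟨n, hn⟩, ⟨g, hg⟩⟩ := j
  obtain ⟨⟨n', hn'⟩, ⟨g', hg'⟩⟩ := j'
  have hx' : φ (g * g') = φ g * φ g' := map_mul φ g g'
  let e := Proj.pullbackAwayιIso 𝒜 (φ_mem 𝒜 ℬ d φ hdeg hg) (Nat.mul_pos hn hd)
    (φ_mem 𝒜 ℬ d φ hdeg hg') (Nat.mul_pos hn' hd) hx'
  change pullback.fst (Proj.awayι 𝒜 (φ g) _ _) (Proj.awayι 𝒜 (φ g') _ _) ≫ F 𝒜 ℬ d φ hdeg hg hn =
    pullback.snd (Proj.awayι 𝒜 (φ g) _ _) (Proj.awayι 𝒜 (φ g') _ _) ≫ F 𝒜 ℬ d φ hdeg hg' hn'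
  rw [← cancel_epi e.inv, ← Category.assoc, ← Category.assoc]
  have h1 : e.inv ≫ pullback.fst _ _ = _ := Proj.pullbackAwayιIso_inv_fst 𝒜
    (φ_mem 𝒜 ℬ d φ hdeg hg) (Nat.mul_pos hn hd) (φ_mem 𝒜 ℬ d φ hdeg hg') (Nat.mul_pos hn' hd) hx'
  have h2 : e.inv ≫ pullback.snd _ _ = _ := Proj.pullbackAwayιIso_inv_snd 𝒜
    (φ_mem 𝒜 ℬ d φ hdeg hg) (Nat.mul_pos hn hd) (φ_mem 𝒜 ℬ d φ hdeg hg') (Nat.mul_pos hn' hd) hx'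
  rw [h1, h2, specMap_awayMap_F 𝒜 ℬ d φ hdeg hg hn hg' rfl hx',
    specMap_awayMap_F 𝒜 ℬ d φ hdeg hg' hn' hg (mul_comm g g') (hx'.trans (mul_comm _ _))]
  exact F_congr 𝒜 ℬ d φ hdeg (Nat.add_comm n n') _ _ _ _

/-- the inverse chart morphism `Spec B_(g) ⟶ Proj 𝒜`. -/
noncomputable def G {n : ℕ} {g : B} (hg : g ∈ ℬ n) (hn : 0 < n) :
    Spec (CommRingCat.of (Away ℬ g)) ⟶ Proj 𝒜 :=
  Spec.map (CommRingCat.ofHom (θe 𝒜 ℬ d φ hdeg hφ hg).symm.toRingHom) ≫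
    Proj.awayι 𝒜 (φ g) (φ_mem 𝒜 ℬ d φ hdeg hg) (Nat.mul_pos hn hd)

theorem G_congr {n m : ℕ} (h : n = m) {g : B} (hg : g ∈ ℬ n) (hn : 0 < n) (hg' : g ∈ ℬ m)
    (hm : 0 < m) : G 𝒜 ℬ d hd φ hφ hdeg hg hn = G 𝒜 ℬ d hd φ hφ hdeg hg' hm := by
  subst h; rfl

theorem θe_symm_comp {n n' : ℕ} {g g' x : B} (hg : g ∈ ℬ n) (hg' : g' ∈ ℬ n')
    (hx : x = g * g') (hx' : φ x = φ g * φ g') (hxm : x ∈ ℬ (n + n')) :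
    (θe 𝒜 ℬ d φ hdeg hφ hxm).symm.toRingHom.comp (awayMap 𝒜 (φ_mem 𝒜 ℬ d φ hdeg hg') hx') =
      (awayMap ℬ hg' hx).comp (θe 𝒜 ℬ d φ hdeg hφ hg).symm.toRingHom := by
  ext1 y
  obtain ⟨z, rfl⟩ := (θe 𝒜 ℬ d φ hdeg hφ hg).surjective y
  have h1 := congrArg (fun ψ => ψ z) (θ_comp_awayMap 𝒜 ℬ d φ hdeg hg hg' hx hx' hxm)
  simp only [RingHom.comp_apply] at h1
  simp only [RingHom.comp_apply, RingEquiv.toRingHom_eq_coe, RingHom.coe_coe,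
    RingEquiv.symm_apply_apply]
  apply (θe 𝒜 ℬ d φ hdeg hφ hxm).injective
  rw [RingEquiv.apply_symm_apply]
  exact h1.symm

theorem specMap_awayMap_G {n n' : ℕ} {g g' x : B} (hg : g ∈ ℬ n) (hn : 0 < n) (hg' : g' ∈ ℬ n')
    (hx : x = g * g') (hx' : φ x = φ g * φ g') :
    Spec.map (CommRingCat.ofHom (awayMap ℬ hg' hx)) ≫ G 𝒜 ℬ d hd φ hφ hdeg hg hn =
      G 𝒜 ℬ d hd φ hφ hdeg (hx ▸ SetLike.mul_mem_graded hg hg' : x ∈ ℬ (n + n'))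
        (Nat.add_pos_left hn n') := by
  unfold G
  have h1 := Proj.SpecMap_awayMap_awayι 𝒜 (φ_mem 𝒜 ℬ d φ hdeg hg) (Nat.mul_pos hn hd)
    (φ_mem 𝒜 ℬ d φ hdeg hg') hx'
  rw [awayι_congr 𝒜 (Nat.add_mul n n' d)
    (φ_mem 𝒜 ℬ d φ hdeg (hx ▸ SetLike.mul_mem_graded hg hg' : x ∈ ℬ (n + n')))
    (Nat.mul_pos (Nat.add_pos_left hn n') hd) (hx' ▸ SetLike.mul_mem_graded
      (φ_mem 𝒜 ℬ d φ hdeg hg) (φ_mem 𝒜 ℬ d φ hdeg hg'))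
    ((Nat.mul_pos hn hd).trans_le (Nat.le_add_right _ _)), ← h1,
    ← Category.assoc, ← Category.assoc, ← Spec.map_comp, ← Spec.map_comp,
    ← CommRingCat.ofHom_comp, ← CommRingCat.ofHom_comp,
    θe_symm_comp 𝒜 ℬ d φ hφ hdeg hg hg' hx hx']

theorem covers' (p : Proj ℬ) : ∃ (j : Σ n : ℕ+, ℬ n)
    (y : Spec (CommRingCat.of (Away ℬ (j.2 : B)))),
    Proj.awayι ℬ (j.2 : B) j.2.2 j.1.2 y = p := by
  obtain ⟨m, hm, f, hf, hp⟩ := exists_mem_basicOpen ℬ p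
  rw [← Proj.opensRange_awayι ℬ f hf hm] at hp
  obtain ⟨y, hy⟩ := hp
  exact ⟨⟨⟨m, hm⟩, ⟨f, hf⟩⟩, y, hy⟩

/-- the glued inverse morphism `Proj ℬ ⟶ Proj 𝒜`. -/
theorem exists_glued' : ∃ f : Proj ℬ ⟶ Proj 𝒜, ∀ (n : ℕ) (g : B) (hn : 0 < n) (hg : g ∈ ℬ n),
    Proj.awayι ℬ g hg hn ≫ f = G 𝒜 ℬ d hd φ hφ hdeg hg hn := by
  let 𝒰 : (Proj ℬ).OpenCover := Scheme.Cover.mkOfCovers (Σ n : ℕ+, ℬ n)
    (fun j => Spec (CommRingCat.of (Away ℬ (j.2 : B))))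
    (fun j => Proj.awayι ℬ (j.2 : B) j.2.2 j.1.2)
    (covers' ℬ) (fun j => inferInstance)
  refine ⟨𝒰.glueMorphisms (fun j => G 𝒜 ℬ d hd φ hφ hdeg j.2.2 j.1.2) ?_, fun n g hn hg =>
    𝒰.ι_glueMorphisms _ _ ⟨⟨n, hn⟩, ⟨g, hg⟩⟩⟩
  intro j j'
  obtain ⟨⟨n, hn⟩, ⟨g, hg⟩⟩ := j
  obtain ⟨⟨n', hn'⟩, ⟨g', hg'⟩⟩ := j'
  have hx' : φ (g * g') = φ g * φ g' := map_mul φ g g'
  let e := Proj.pullbackAwayιIso ℬ hg hn hg' hn' (rfl : g * g' = g * g')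
  change pullback.fst (Proj.awayι ℬ g _ _) (Proj.awayι ℬ g' _ _) ≫ G 𝒜 ℬ d hd φ hφ hdeg hg hn =
    pullback.snd (Proj.awayι ℬ g _ _) (Proj.awayι ℬ g' _ _) ≫ G 𝒜 ℬ d hd φ hφ hdeg hg' hn'
  rw [← cancel_epi e.inv, ← Category.assoc, ← Category.assoc]
  have h1 : e.inv ≫ pullback.fst _ _ = _ := Proj.pullbackAwayιIso_inv_fst ℬ hg hn hg' hn' rfl
  have h2 : e.inv ≫ pullback.snd _ _ = _ := Proj.pullbackAwayιIso_inv_snd ℬ hg hn hg' hn' rfl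
  rw [h1, h2, specMap_awayMap_G 𝒜 ℬ d hd φ hφ hdeg hg hn hg' rfl hx',
    specMap_awayMap_G 𝒜 ℬ d hd φ hφ hdeg hg' hn' hg (mul_comm g g') (hx'.trans (mul_comm _ _))]
  exact G_congr 𝒜 ℬ d hd φ hφ hdeg (Nat.add_comm n n') _ _ _ _

end

end Groth.Agent.Lib.Helper10.Ver
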