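import Mathlib
import Groth.Agent.Lib.Helper10.VerGlue

/-!
# The Veronese isomorphism `Proj 𝒜 ≅ Proj ℬ`: isomorphism, preimages of charts, points
-/

set_option autoImplicit false
set_option linter.unusedSectionVars false
set_option linter.style.haveILetI false
set_option backward.isDefEq.respectTransparency.types false
set_option maxHeartbeats 4000000
set_option synthInstance.maxHeartbeats 400000
universe u
open CategoryTheory CategoryTheory.Limits AlgebraicGeometry Opposite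

namespace Groth.Agent.Lib.Helper10.Ver

open HomogeneousLocalization

section
variable {R A : Type u} [CommRing R] [CommRing A] [Algebra R A] (𝒜 : ℕ → Submodule R A)
  [GradedAlgebra 𝒜]
  {B : Type u} [CommRing B] [Algebra R B] (ℬ : ℕ → Submodule R B) [GradedAlgebra ℬ]
  (d : ℕ) (hd : 0 < d) (φ : B →ₐ[R] A) (hφ : Function.Injective φ)
  (hdeg : ∀ n : ℕ, Submodule.map φ.toLinearMap (ℬ n) = 𝒜 (n * d))
  (f : Proj 𝒜 ⟶ Proj ℬ)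
  (hf : ∀ (n : ℕ) (g : B) (hn : 0 < n) (hg : g ∈ ℬ n),
    Proj.awayι 𝒜 (φ g) (φ_mem 𝒜 ℬ d φ hdeg hg) (Nat.mul_pos hn hd) ≫ f = F 𝒜 ℬ d φ hdeg hg hn)
  (f' : Proj ℬ ⟶ Proj 𝒜)
  (hf' : ∀ (n : ℕ) (g : B) (hn : 0 < n) (hg : g ∈ ℬ n),
    Proj.awayι ℬ g hg hn ≫ f' = G 𝒜 ℬ d hd φ hφ hdeg hg hn)

theorem θe_symm_comp_θ {n : ℕ} {g : B} (hg : g ∈ ℬ n) :
    (θe 𝒜 ℬ d φ hdeg hφ hg).symm.toRingHom.comp (θ 𝒜 ℬ d φ hdeg hg) = RingHom.id _ := by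
  ext1 y
  exact (θe 𝒜 ℬ d φ hdeg hφ hg).symm_apply_apply y

theorem θ_comp_θe_symm {n : ℕ} {g : B} (hg : g ∈ ℬ n) :
    (θ 𝒜 ℬ d φ hdeg hg).comp (θe 𝒜 ℬ d φ hdeg hφ hg).symm.toRingHom = RingHom.id _ := by
  ext1 y
  exact (θe 𝒜 ℬ d φ hdeg hφ hg).apply_symm_apply y

include hf hf' in
theorem glued_comp : f ≫ f' = 𝟙 _ := by
  let 𝒰 : (Proj 𝒜).OpenCover := Scheme.Cover.mkOfCovers (Σ n : ℕ+, ℬ n)
    (fun j => Spec (CommRingCat.of (Away 𝒜 (φ (j.2 : B)))))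
    (fun j => Proj.awayι 𝒜 (φ (j.2 : B)) (φ_mem 𝒜 ℬ d φ hdeg j.2.2) (Nat.mul_pos j.1.2 hd))
    (covers 𝒜 ℬ d hd φ hdeg) (fun j => inferInstance)
  apply 𝒰.hom_ext
  intro j
  change Proj.awayι 𝒜 (φ (j.2 : B)) _ _ ≫ f ≫ f' = Proj.awayι 𝒜 (φ (j.2 : B)) _ _ ≫ 𝟙 _
  rw [← Category.assoc, hf j.1 j.2 j.1.2 j.2.2, F, Category.assoc, hf' j.1 j.2 j.1.2 j.2.2, G,
    ← Category.assoc, ← Spec.map_comp, ← CommRingCat.ofHom_comp, θ_comp_θe_symm,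
    CommRingCat.ofHom_id, Spec.map_id, Category.id_comp, Category.comp_id]

include hf hf' in
theorem glued_comp' : f' ≫ f = 𝟙 _ := by
  let 𝒰 : (Proj ℬ).OpenCover := Scheme.Cover.mkOfCovers (Σ n : ℕ+, ℬ n)
    (fun j => Spec (CommRingCat.of (Away ℬ (j.2 : B))))
    (fun j => Proj.awayι ℬ (j.2 : B) j.2.2 j.1.2)
    (covers' ℬ) (fun j => inferInstance)
  apply 𝒰.hom_ext
  intro j
  change Proj.awayι ℬ (j.2 : B) _ _ ≫ f' ≫ f = Proj.awayι ℬ (j.2 : B) _ _ ≫ 𝟙 _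
  rw [← Category.assoc, hf' j.1 j.2 j.1.2 j.2.2, G, Category.assoc, hf j.1 j.2 j.1.2 j.2.2, F,
    ← Category.assoc, ← Spec.map_comp, ← CommRingCat.ofHom_comp, θe_symm_comp_θ,
    CommRingCat.ofHom_id, Spec.map_id, Category.id_comp, Category.comp_id]

theorem isLocalizationElem_eq_pow {n k : ℕ} {g b : B} (hg : g ∈ ℬ n) (hb : b ∈ ℬ k) :
    Away.isLocalizationElem (φ_mem 𝒜 ℬ d φ hdeg hg) (φ_mem 𝒜 ℬ d φ hdeg hb) =
      (θ 𝒜 ℬ d φ hdeg hg (Away.isLocalizationElem hg hb)) ^ d := by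
  unfold Away.isLocalizationElem
  rw [θ_mk]
  apply HomogeneousLocalization.val_injective
  rw [HomogeneousLocalization.val_pow, Away.val_mk, Away.val_mk, Localization.mk_pow]
  congr 1
  · rw [map_pow, ← pow_mul]
  · apply Subtype.ext
    rw [SubmonoidClass.coe_pow, ← pow_mul]

include hf in
/-- the preimage of a standard chart is the corresponding standard chart. -/
theorem glued_preimage {k : ℕ} (hk : 0 < k) {b : B} (hb : b ∈ ℬ k) :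
    f ⁻¹ᵁ Proj.basicOpen ℬ b = Proj.basicOpen 𝒜 (φ b) := by
  ext p
  obtain ⟨j, y, rfl⟩ := covers 𝒜 ℬ d hd φ hdeg p
  have hn : 0 < (j.1 : ℕ) := j.1.2
  have hg : (j.2 : B) ∈ ℬ (j.1 : ℕ) := j.2.2
  change Proj.awayι 𝒜 (φ (j.2 : B)) (φ_mem 𝒜 ℬ d φ hdeg hg) (Nat.mul_pos hn hd) y ∈
      f ⁻¹ᵁ Proj.basicOpen ℬ b ↔
    Proj.awayι 𝒜 (φ (j.2 : B)) (φ_mem 𝒜 ℬ d φ hdeg hg) (Nat.mul_pos hn hd) y ∈
      Proj.basicOpen 𝒜 (φ b)
  have h1 : Proj.awayι 𝒜 (φ (j.2 : B)) (φ_mem 𝒜 ℬ d φ hdeg hg) (Nat.mul_pos hn hd) y ∈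
      f ⁻¹ᵁ Proj.basicOpen ℬ b ↔ y ∈ (Proj.awayι 𝒜 (φ (j.2 : B)) (φ_mem 𝒜 ℬ d φ hdeg hg)
        (Nat.mul_pos hn hd) ≫ f) ⁻¹ᵁ Proj.basicOpen ℬ b := Iff.rfl
  have h2 : Proj.awayι 𝒜 (φ (j.2 : B)) (φ_mem 𝒜 ℬ d φ hdeg hg) (Nat.mul_pos hn hd) y ∈
      Proj.basicOpen 𝒜 (φ b) ↔ y ∈ Proj.awayι 𝒜 (φ (j.2 : B)) (φ_mem 𝒜 ℬ d φ hdeg hg)
        (Nat.mul_pos hn hd) ⁻¹ᵁ Proj.basicOpen 𝒜 (φ b) := Iff.rfl
  rw [h1, h2, hf (j.1 : ℕ) (j.2 : B) hn hg, F, Scheme.Hom.comp_preimage,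
    Proj.awayι_preimage_basicOpen ℬ hg hn hb hk,
    Proj.awayι_preimage_basicOpen 𝒜 (φ_mem 𝒜 ℬ d φ hdeg hg) (Nat.mul_pos hn hd)
      (φ_mem 𝒜 ℬ d φ hdeg hb) (Nat.mul_pos hk hd),
    isLocalizationElem_eq_pow 𝒜 ℬ d φ hdeg hg hb, PrimeSpectrum.basicOpen_pow _ d hd]
  rfl

include hd hf in
/-- membership of homogeneous elements in the image point. -/
theorem glued_mem_of_homogeneous (p : Proj 𝒜) {k : ℕ} {b : B} (hb : b ∈ ℬ k) :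
    b ∈ (f.base p).asHomogeneousIdeal ↔ φ b ∈ p.asHomogeneousIdeal := by
  obtain ⟨j, y', hy'⟩ := covers 𝒜 ℬ d hd φ hdeg p
  obtain ⟨n, g, hn, hg, y, hy⟩ : ∃ (n : ℕ) (g : B) (hn : 0 < n) (hg : g ∈ ℬ n)
      (y : Spec (CommRingCat.of (Away 𝒜 (φ g)))),
      Proj.awayι 𝒜 (φ g) (φ_mem 𝒜 ℬ d φ hdeg hg) (Nat.mul_pos hn hd) y = p :=
    ⟨j.1, j.2, j.1.2, j.2.2, y', hy'⟩
  have hp : p ∈ Proj.basicOpen 𝒜 (φ g) := by
    rw [← Proj.opensRange_awayι 𝒜 (φ g) (φ_mem 𝒜 ℬ d φ hdeg hg) (Nat.mul_pos hn hd)]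
    exact ⟨y, hy⟩
  have hfp : f.base p ∈ Proj.basicOpen ℬ g := by
    have : p ∈ f ⁻¹ᵁ Proj.basicOpen ℬ g := by
      rw [glued_preimage 𝒜 ℬ d hd φ hdeg f hf hn hg]
      exact hp
    exact this
  have hbg : b * g ∈ ℬ (k + n) := SetLike.mul_mem_graded hb hg
  have h3 : f.base p ∈ Proj.basicOpen ℬ (b * g) ↔ p ∈ Proj.basicOpen 𝒜 (φ (b * g)) := by
    rw [← glued_preimage 𝒜 ℬ d hd φ hdeg f hf (Nat.add_pos_right k hn) hbg]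
    rfl
  rw [Proj.mem_basicOpen] at hp hfp
  rw [Proj.mem_basicOpen, Proj.mem_basicOpen, not_iff_not, map_mul] at h3
  have hP := (f.base p).isPrime
  have hQ := p.isPrime
  constructor
  · intro h
    have h4 : b * g ∈ (f.base p).asHomogeneousIdeal :=
      Ideal.mul_mem_right g (f.base p).asHomogeneousIdeal.toIdeal h
    exact (hQ.mem_or_mem (h3.mp h4)).resolve_right hp
  · intro h
    have h4 : φ b * φ g ∈ p.asHomogeneousIdeal :=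
      Ideal.mul_mem_right (φ g) p.asHomogeneousIdeal.toIdeal h
    exact (hP.mem_or_mem (h3.mpr h4)).resolve_right hfp

include hd hf in
/-- the glued morphism sends a homogeneous prime `p` to `φ⁻¹ p`. -/
theorem glued_point (p : Proj 𝒜) :
    (f.base p).asHomogeneousIdeal.toIdeal = Ideal.comap φ p.asHomogeneousIdeal.toIdeal := by
  classical
  ext b
  rw [Ideal.mem_comap]
  constructor
  · intro h
    have h1 : ∀ k, φ (DirectSum.decompose ℬ b k : B) ∈ p.asHomogeneousIdeal.toIdeal := fun k =>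
      (glued_mem_of_homogeneous 𝒜 ℬ d hd φ hdeg f hf p (Submodule.coe_mem _)).mp
        ((f.base p).asHomogeneousIdeal.isHomogeneous k h)
    rw [← DirectSum.sum_support_decompose ℬ b, map_sum]
    exact Ideal.sum_mem _ (fun k _ => h1 k)
  · intro h
    have h1 : ∀ k, (DirectSum.decompose ℬ b k : B) ∈ (f.base p).asHomogeneousIdeal.toIdeal :=
      fun k => (glued_mem_of_homogeneous 𝒜 ℬ d hd φ hdeg f hf p (Submodule.coe_mem _)).mpr (by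
        rw [← decompose_φ 𝒜 ℬ d φ hdeg hd b k]
        exact p.asHomogeneousIdeal.isHomogeneous (k * d) h)
    rw [← DirectSum.sum_support_decompose ℬ b]
    exact Ideal.sum_mem _ (fun k _ => h1 k)

end

/-- **The Veronese isomorphism** `Proj 𝒜 ≅ Proj ℬ`. -/
theorem exists_veronese_iso {R A : Type u} [CommRing R] [CommRing A] [Algebra R A]
    (𝒜 : ℕ → Submodule R A) [GradedAlgebra 𝒜]
    {B : Type u} [CommRing B] [Algebra R B] (ℬ : ℕ → Submodule R B) [GradedAlgebra ℬ]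
    (d : ℕ) (hd : 0 < d) (φ : B →ₐ[R] A) (hφ : Function.Injective φ)
    (hdeg : ∀ n : ℕ, Submodule.map φ.toLinearMap (ℬ n) = 𝒜 (n * d)) :
    ∃ e : Proj 𝒜 ≅ Proj ℬ,
      (∀ p : Proj 𝒜, (e.hom.base p).asHomogeneousIdeal.toIdeal =
        Ideal.comap φ p.asHomogeneousIdeal.toIdeal) ∧
      (∀ (n : ℕ) (g : B) (hn : 0 < n) (hg : g ∈ ℬ n),
        Proj.awayι 𝒜 (φ g) (φ_mem 𝒜 ℬ d φ hdeg hg) (Nat.mul_pos hn hd) ≫ e.hom =
          F 𝒜 ℬ d φ hdeg hg hn) ∧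
      (∀ (k : ℕ) (b : B), 0 < k → b ∈ ℬ k →
        e.hom ⁻¹ᵁ Proj.basicOpen ℬ b = Proj.basicOpen 𝒜 (φ b)) := by
  obtain ⟨f, hf⟩ := exists_glued 𝒜 ℬ d hd φ hdeg
  obtain ⟨f', hf'⟩ := exists_glued' 𝒜 ℬ d hd φ hφ hdeg
  refine ⟨⟨f, f', glued_comp 𝒜 ℬ d hd φ hφ hdeg f hf f' hf',
    glued_comp' 𝒜 ℬ d hd φ hφ hdeg f hf f' hf'⟩, ?_, hf, ?_⟩
  · exact glued_point 𝒜 ℬ d hd φ hdeg f hf
  · intro k b hk hb
    exact glued_preimage 𝒜 ℬ d hd φ hdeg f hf hk hb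

end Groth.Agent.Lib.Helper10.Ver
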